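import Mathlib
set_option autoImplicit false
universe u v w
open TensorProduct

namespace Groth.Agent.Helper3.DiagFlat

variable (A : Type*) (B : Type*) [CommRing A] [CommRing B] [Algebra A B]
  (N : Type*) [AddCommGroup N] [Module B N] [Module A N] [IsScalarTower A B N]
  (M : Type*) [AddCommGroup M] [Module B M] [Module A M] [IsScalarTower A B M]

/-- left action. -/
noncomputable def actL : B →ₐ[A] Module.End A (M ⊗[A] N) :=
  (Module.End.rTensorAlgHom A M N).comp (Algebra.lsmul A A M)

/-- right action. -/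
noncomputable def actR : B →ₐ[A] Module.End A (M ⊗[A] N) :=
  (Module.End.lTensorAlgHom A N M).comp (Algebra.lsmul A A N)

lemma actL_tmul (b : B) (m : M) (n : N) : actL A B N M b (m ⊗ₜ n) = (b • m) ⊗ₜ n := rfl

lemma actR_tmul (b : B) (m : M) (n : N) : actR A B N M b (m ⊗ₜ n) = m ⊗ₜ (b • n) := rfl

/-- the action of `B ⊗ B` on `M ⊗ N`. -/
noncomputable def rho : B ⊗[A] B →ₐ[A] Module.End A (M ⊗[A] N) :=
  Algebra.TensorProduct.lift (actL A B N M) (actR A B N M) (by
      intro x y
      rw [commute_iff_eq]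
      apply TensorProduct.ext'
      intro m n
      rw [Module.End.mul_apply, Module.End.mul_apply, actR_tmul, actL_tmul, actL_tmul, actR_tmul])

lemma rho_tmul (b₁ b₂ : B) (m : M) (n : N) :
    rho A B N M (b₁ ⊗ₜ b₂) (m ⊗ₜ n) = (b₁ • m) ⊗ₜ (b₂ • n) := by
  rw [rho, Algebra.TensorProduct.lift_tmul, Module.End.mul_apply, actR_tmul, actL_tmul]

/-- the quotient map `M ⊗[A] N → M ⊗[B] N`. -/
noncomputable abbrev q : M ⊗[A] N →ₗ[B] M ⊗[B] N := TensorProduct.mapOfCompatibleSMul B A B M N

lemma q_rho (ε : B ⊗[A] B) (p : M ⊗[A] N) :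
    q A B N M (rho A B N M ε p) = Algebra.TensorProduct.lmul' A (S := B) ε • q A B N M p := by
  induction ε with
  | zero => simp
  | add x y hx hy => rw [map_add, LinearMap.add_apply, map_add, hx, hy, map_add, add_smul]
  | tmul b₁ b₂ =>
    induction p with
    | zero => simp
    | add x y hx hy => rw [map_add, map_add, hx, hy, map_add, smul_add]
    | tmul m n =>
      rw [rho_tmul, Algebra.TensorProduct.lmul'_apply_tmul]
      simp only [q, TensorProduct.mapOfCompatibleSMul_tmul]
      rw [← TensorProduct.smul_tmul, smul_smul, mul_comm, TensorProduct.smul_tmul']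

lemma smul_eq_rho (b : B) (p : M ⊗[A] N) : b • p = rho A B N M (b ⊗ₜ 1) p := by
  induction p with
  | zero => simp
  | add x y hx hy => rw [smul_add, hx, hy, map_add]
  | tmul m n => rw [rho_tmul, one_smul, TensorProduct.smul_tmul']

variable {A B N M} in
lemma rho_mul_apply (ε δ : B ⊗[A] B) (p : M ⊗[A] N) :
    rho A B N M (ε * δ) p = rho A B N M ε (rho A B N M δ p) := by
  rw [map_mul, Module.End.mul_apply]

/-- purity of the diagonal ideal gives local units on the kernel of `q`. -/
lemma exists_rho_eq (hpure : ∀ ε ∈ RingHom.ker (Algebra.TensorProduct.lmul' A (S := B)),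
      ∃ δ ∈ RingHom.ker (Algebra.TensorProduct.lmul' A (S := B)), ε = ε * δ)
    (y : M ⊗[A] N) (hy : y ∈ LinearMap.ker (q A B N M)) :
    ∃ δ ∈ RingHom.ker (Algebra.TensorProduct.lmul' A (S := B)), rho A B N M δ y = y := by
  rw [TensorProduct.AlgebraTensorModule.ker_mapOfCompatibleSMul] at hy
  induction hy using Submodule.span_induction with
  | mem y hy =>
    obtain ⟨b, m, n, rfl⟩ := hy
    have hε : (b ⊗ₜ[A] (1 : B) - (1 : B) ⊗ₜ[A] b) ∈
        RingHom.ker (Algebra.TensorProduct.lmul' A (S := B)) := by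
      rw [RingHom.mem_ker, map_sub, Algebra.TensorProduct.lmul'_apply_tmul,
        Algebra.TensorProduct.lmul'_apply_tmul, mul_one, one_mul, sub_self]
    obtain ⟨δ, hδ, hεδ⟩ := hpure _ hε
    refine ⟨δ, hδ, ?_⟩
    have h1 : (b • m) ⊗ₜ[A] n - m ⊗ₜ[A] (b • n) =
        rho A B N M (b ⊗ₜ[A] (1 : B) - (1 : B) ⊗ₜ[A] b) (m ⊗ₜ n) := by
      rw [map_sub, LinearMap.sub_apply, rho_tmul, rho_tmul, one_smul, one_smul]
    rw [h1, ← rho_mul_apply, mul_comm, ← hεδ]
  | zero => exact ⟨0, Ideal.zero_mem _, by simp⟩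
  | add y₁ y₂ _ _ h₁ h₂ =>
    obtain ⟨δ₁, hδ₁, h₁⟩ := h₁
    obtain ⟨δ₂, hδ₂, h₂⟩ := h₂
    refine ⟨δ₁ + δ₂ - δ₁ * δ₂, ?_, ?_⟩
    · exact Ideal.sub_mem _ (Ideal.add_mem _ hδ₁ hδ₂) (Ideal.mul_mem_left _ _ hδ₂)
    · have e1 : rho A B N M (δ₁ + δ₂ - δ₁ * δ₂) y₁ = y₁ := by
        have : δ₁ + δ₂ - δ₁ * δ₂ = δ₁ + (δ₂ - δ₂ * δ₁) := by ring
        rw [this, map_add, map_sub, LinearMap.add_apply, LinearMap.sub_apply, rho_mul_apply, h₁,
          sub_self, add_zero]
      have e2 : rho A B N M (δ₁ + δ₂ - δ₁ * δ₂) y₂ = y₂ := by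
        have : δ₁ + δ₂ - δ₁ * δ₂ = δ₂ + (δ₁ - δ₁ * δ₂) := by ring
        rw [this, map_add, map_sub, LinearMap.add_apply, LinearMap.sub_apply, rho_mul_apply, h₂,
          sub_self, add_zero]
      rw [map_add, e1, e2]
  | smul b y _ h =>
    obtain ⟨δ, hδ, h⟩ := h
    refine ⟨δ, hδ, ?_⟩
    rw [smul_eq_rho, ← rho_mul_apply, mul_comm, rho_mul_apply, h]

section natural
variable {A B N M}
variable {M' : Type*} [AddCommGroup M'] [Module B M'] [Module A M'] [IsScalarTower A B M']
  (φ : M' →ₗ[B] M)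

lemma rho_natural (ε : B ⊗[A] B) (p : M' ⊗[A] N) :
    (φ.restrictScalars A).rTensor N (rho A B N M' ε p) =
      rho A B N M ε ((φ.restrictScalars A).rTensor N p) := by
  induction ε with
  | zero => simp
  | add x y hx hy => rw [map_add, LinearMap.add_apply, map_add, hx, hy, map_add, LinearMap.add_apply]
  | tmul b₁ b₂ =>
    induction p with
    | zero => simp
    | add x y hx hy => rw [map_add, map_add, hx, hy, map_add, map_add]
    | tmul m n =>
      rw [rho_tmul, LinearMap.rTensor_tmul, LinearMap.rTensor_tmul, rho_tmul]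
      simp

lemma q_natural (p : M' ⊗[A] N) :
    q A B N M ((φ.restrictScalars A).rTensor N p) = φ.rTensor N (q A B N M' p) := by
  induction p with
  | zero => simp
  | add x y hx hy => rw [map_add, map_add, hx, hy, map_add, map_add]
  | tmul m n => simp [q]

end natural

theorem rTensor_injective [Module.Flat A N]
    (hpure : ∀ ε ∈ RingHom.ker (Algebra.TensorProduct.lmul' A (S := B)),
      ∃ δ ∈ RingHom.ker (Algebra.TensorProduct.lmul' A (S := B)), ε = ε * δ)
    {M' : Type*} [AddCommGroup M'] [Module B M'] [Module A M'] [IsScalarTower A B M']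
    (φ : M' →ₗ[B] M) (hφ : Function.Injective φ) : Function.Injective (φ.rTensor N) := by
  rw [injective_iff_map_eq_zero]
  intro x hx
  obtain ⟨x', rfl⟩ := TensorProduct.mapOfCompatibleSMul_surjective B A B M' N x
  have hΦ : Function.Injective ((φ.restrictScalars A).rTensor N) :=
    Module.Flat.rTensor_preserves_injective_linearMap (φ.restrictScalars A) hφ
  have h1 : (φ.restrictScalars A).rTensor N x' ∈ LinearMap.ker (q A B N M) := by
    rw [LinearMap.mem_ker, q_natural]; exact hx
  obtain ⟨δ, hδ, h2⟩ := exists_rho_eq A B N M hpure _ h1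
  rw [← rho_natural] at h2
  have h3 := hΦ h2
  have h4 := q_rho A B N M' δ x'
  rw [h3, (RingHom.mem_ker).mp hδ, zero_smul] at h4
  exact h4

lemma pure_of_flat (h : (Algebra.TensorProduct.lmul' A (S := B)).Flat) :
    ∀ ε ∈ RingHom.ker (Algebra.TensorProduct.lmul' A (S := B)),
      ∃ δ ∈ RingHom.ker (Algebra.TensorProduct.lmul' A (S := B)), ε = ε * δ := by
  letI alg : Algebra (B ⊗[A] B) B := (Algebra.TensorProduct.lmul' A (S := B)).toRingHom.toAlgebra
  have hflat : Module.Flat (B ⊗[A] B) B := h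
  let J : Ideal (B ⊗[A] B) := RingHom.ker (Algebra.TensorProduct.lmul' A (S := B))
  have hsurj : Function.Surjective (Algebra.TensorProduct.lmul' A (S := B)) := fun b =>
    ⟨b ⊗ₜ 1, by simp⟩
  let f : (B ⊗[A] B ⧸ J) →ₗ[B ⊗[A] B] B :=
    Submodule.liftQ J (Algebra.linearMap (B ⊗[A] B) B) (fun x hx => hx)
  have hf : Function.Bijective f := by
    constructor
    · rw [← LinearMap.ker_eq_bot, Submodule.ker_liftQ_eq_bot']
      rfl
    · intro b
      obtain ⟨x, rfl⟩ := hsurj b
      exact ⟨Submodule.Quotient.mk x, rfl⟩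
  haveI : J.Pure := Module.Flat.of_linearEquiv (LinearEquiv.ofBijective f hf)
  intro ε hε
  exact Ideal.exists_eq_mul_of_pure (I := J) hε

theorem flat_of_flat_lmul' (h : (Algebra.TensorProduct.lmul' A (S := B)).Flat) [Module.Flat A N] :
    Module.Flat B N := by
  rw [Module.Flat.iff_rTensor_injective]
  intro I _
  exact rTensor_injective A B N B (pure_of_flat A B h) I.subtype I.injective_subtype

lemma flat_of_comp_surjective {R R' T : Type*} [CommRing R] [CommRing R'] [CommRing T]
    (π : R →+* R') (hπ : Function.Surjective π) (g : R' →+* T) (h : (g.comp π).Flat) : g.Flat := by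
  algebraize [π, g, g.comp π]
  haveI : Module.Flat R T := h
  haveI := Algebra.isEpi_of_surjective_algebraMap R R' hπ
  exact Module.Flat.of_linearEquiv (TensorProduct.lid' R R' T).symm

theorem weaklyEtale_of_comp (C : Type*) [CommRing C] [Algebra A C] [Algebra B C]
    [IsScalarTower A B C] [Algebra.WeaklyEtale A B] [Algebra.WeaklyEtale A C] :
    Algebra.WeaklyEtale B C := by
  haveI : Module.Flat B C := flat_of_flat_lmul' A B C (Algebra.WeaklyEtale.flat_lmul' A B)
  refine ⟨inferInstance, ?_⟩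
  let π : C ⊗[A] C →ₐ[A] C ⊗[B] C := Algebra.TensorProduct.mapOfCompatibleSMul B A A C C
  have hπ : Function.Surjective π := Algebra.TensorProduct.mapOfCompatibleSMul_surjective B A A C C
  apply flat_of_comp_surjective π.toRingHom hπ
  have : (Algebra.TensorProduct.lmul' B (S := C)).toRingHom.comp π.toRingHom =
      (Algebra.TensorProduct.lmul' A (S := C)).toRingHom := by
    have : ((Algebra.TensorProduct.lmul' B (S := C)).restrictScalars A).comp π =
        Algebra.TensorProduct.lmul' A (S := C) := by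
      apply Algebra.TensorProduct.ext'
      intro a b
      simp [π]
    exact congrArg AlgHom.toRingHom this
  rw [this]
  exact Algebra.WeaklyEtale.flat_lmul' A C

end Groth.Agent.Helper3.DiagFlat
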