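import Mathlib

/-!
# Weakly étale algebras over a field

Main result: for a field `K` and a commutative `K`-algebra `A`,
`Algebra.WeaklyEtale K A ↔ Algebra.IsSeparable K A`.
-/

open TensorProduct

namespace Groth.Agent.Helper3.WEField

universe u

section General

variable {R S : Type*} [CommRing R] [CommRing S]

lemma flat_iff_pure_ker (f : R →+* S) (hf : Function.Surjective f) :
    f.Flat ↔ (RingHom.ker f).Pure := by
  letI := f.toAlgebra
  let e₀ := RingHom.quotientKerEquivOfSurjective hf
  let e : (R ⧸ RingHom.ker f) ≃ₗ[R] S :=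
    { e₀ with
      map_smul' := by
        intro r x
        obtain ⟨x, rfl⟩ := Ideal.Quotient.mk_surjective x
        change e₀ (r • Ideal.Quotient.mk _ x) = r • e₀ (Ideal.Quotient.mk _ x)
        rw [Algebra.smul_def, Algebra.smul_def, map_mul]
        rfl }
  constructor
  · intro h
    have : Module.Flat R S := h
    exact Module.Flat.of_linearEquiv e
  · intro h
    have : Module.Flat R (R ⧸ RingHom.ker f) := h
    exact Module.Flat.of_linearEquiv e.symm

/-- If the multiplication `S ⊗[R] S → S` is flat, then for every `a` there is `s` with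
`m(s) = 1` and `(a ⊗ 1) s = (1 ⊗ a) s`. -/
lemma exists_s {R S : Type*} [CommRing R] [CommRing S] [Algebra R S]
    (h : (Algebra.TensorProduct.lmul' R (S := S)).toRingHom.Flat) (a : S) :
    ∃ s : S ⊗[R] S, Algebra.TensorProduct.lmul' R s = 1 ∧
      (a ⊗ₜ[R] (1 : S)) * s = ((1 : S) ⊗ₜ[R] a) * s := by
  have hsurj : Function.Surjective (Algebra.TensorProduct.lmul' R (S := S)).toRingHom :=
    fun x => ⟨x ⊗ₜ 1, by simp⟩
  have hp := (flat_iff_pure_ker _ hsurj).mp h
  have hz : (a ⊗ₜ[R] (1 : S)) - ((1 : S) ⊗ₜ[R] a) ∈
      RingHom.ker (Algebra.TensorProduct.lmul' R (S := S)).toRingHom := by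
    simp [RingHom.mem_ker]
  obtain ⟨y, hy, hzy⟩ := Ideal.exists_eq_mul_of_pure (I := RingHom.ker _) hz
  refine ⟨1 - y, ?_, ?_⟩
  · have : Algebra.TensorProduct.lmul' R y = 0 := hy
    simp [this]
  · have : ((a ⊗ₜ[R] (1 : S)) - ((1 : S) ⊗ₜ[R] a)) * (1 - y) = 0 := by
      rw [mul_sub, mul_one, ← hzy, sub_self]
    rw [sub_mul, sub_eq_zero] at this
    exact this

end General

section Field

variable {K : Type*} [Field K] {A : Type*} [CommRing A] [Algebra K A]

/-- Every linear map over a field has a generalized inverse. -/
lemma exists_ginv {V W : Type*} [AddCommGroup V] [Module K V] [AddCommGroup W] [Module K W]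
    (f : V →ₗ[K] W) : ∃ g : W →ₗ[K] V, f ∘ₗ g ∘ₗ f = f := by
  obtain ⟨σ', hσ'⟩ := f.rangeRestrict.exists_rightInverse_of_surjective
    (LinearMap.range_rangeRestrict f)
  obtain ⟨ι', hι'⟩ := (LinearMap.range f).subtype.exists_leftInverse_of_injective
    (Submodule.ker_subtype _)
  refine ⟨σ' ∘ₗ ι', ?_⟩
  ext v
  have h1 : ι' (f v) = f.rangeRestrict v := by
    have := LinearMap.congr_fun hι' (f.rangeRestrict v)
    simpa using this
  have h2 := LinearMap.congr_fun hσ' (f.rangeRestrict v)
  simp only [LinearMap.coe_comp, Function.comp_apply, h1]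
  exact congrArg Subtype.val h2

/-- von Neumann regularity from the element `s`. -/
theorem exists_sq_mul_of_s (a : A) (s : A ⊗[K] A)
    (hs1 : Algebra.TensorProduct.lmul' K s = 1)
    (hs : (a ⊗ₜ[K] (1 : A)) * s = ((1 : A) ⊗ₜ[K] a) * s) : ∃ x, a = a * a * x := by
  let μ : A →ₗ[K] A := LinearMap.mulLeft K a
  obtain ⟨τ, hτ⟩ := exists_ginv μ
  let m : A ⊗[K] A →ₗ[K] A := (Algebra.TensorProduct.lmul' K (S := A)).toLinearMap
  have h1 : ∀ y, (a ⊗ₜ[K] (1:A)) * y = TensorProduct.map μ LinearMap.id y := by
    intro y
    induction y with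
    | zero => simp
    | tmul u v => simp [μ, Algebra.TensorProduct.tmul_mul_tmul]
    | add x y hx hy => simp [mul_add, hx, hy]
  have h2 : ∀ y, ((1:A) ⊗ₜ[K] a) * y = TensorProduct.map LinearMap.id μ y := by
    intro y
    induction y with
    | zero => simp
    | tmul u v => simp [μ, Algebra.TensorProduct.tmul_mul_tmul]
    | add x y hx hy => simp [mul_add, hx, hy]
  have h3 : ∀ y, m (TensorProduct.map μ μ y) = a * a * m y := by
    intro y
    induction y with
    | zero => simp
    | tmul u v => simp [μ, m]; ring
    | add x y hx hy => simp [mul_add, hx, hy]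
  refine ⟨m (TensorProduct.map LinearMap.id τ s), ?_⟩
  have ha : a = m ((a ⊗ₜ 1) * s) := by
    simp [m, hs1]
  rw [← h3]
  conv_lhs => rw [ha]
  congr 1
  calc (a ⊗ₜ 1) * s = TensorProduct.map LinearMap.id μ s := hs.trans (h2 s)
    _ = TensorProduct.map LinearMap.id (μ ∘ₗ τ ∘ₗ μ) s := by rw [hτ]
    _ = TensorProduct.map LinearMap.id (μ ∘ₗ τ) (TensorProduct.map LinearMap.id μ s) := by
        rw [← LinearMap.comp_apply, ← TensorProduct.map_comp]
        rfl
    _ = TensorProduct.map LinearMap.id (μ ∘ₗ τ) (TensorProduct.map μ LinearMap.id s) := by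
        rw [← h2, ← hs, h1]
    _ = TensorProduct.map μ (μ ∘ₗ τ) s := by
        rw [← LinearMap.comp_apply, ← TensorProduct.map_comp]
        rfl
    _ = TensorProduct.map μ μ (TensorProduct.map LinearMap.id τ s) := by
        rw [← LinearMap.comp_apply, ← TensorProduct.map_comp]
        rfl

/-- Integrality from a faithful finitely generated stable submodule. -/
theorem isIntegral_of_faithful {R A : Type*} [CommRing R] [CommRing A] [Algebra R A]
    (N : Submodule R A) (hN' : N.FG) (x : A) (hx : ∀ n ∈ N, x * n ∈ N)
    (hfaith : ∀ y : A, (∀ n ∈ N, y * n = 0) → y = 0) : IsIntegral R x := by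
  let A' : Subalgebra R A :=
    { carrier := { x | ∀ n ∈ N, x * n ∈ N }
      mul_mem' := fun {a b} ha hb n hn => by rw [mul_assoc]; exact ha _ (hb _ hn)
      one_mem' := fun n hn => by simpa using hn
      add_mem' := fun {a b} ha hb n hn => by rw [add_mul]; exact N.add_mem (ha _ hn) (hb _ hn)
      zero_mem' := fun n _hn => by simp
      algebraMap_mem' := fun r n hn => by rw [← Algebra.smul_def]; exact N.smul_mem r hn }
  let f : A' →ₐ[R] Module.End R N :=
    AlgHom.ofLinearMap
      { toFun := fun x => (LinearMap.mulLeft R x.1).restrict x.prop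
        map_add' := by intro x y; ext n; exact add_mul _ _ _
        map_smul' := by intro r s; ext n; exact smul_mul_assoc _ _ _ }
      (by ext n; exact one_mul _)
      (by intro x y; ext n; exact mul_assoc _ _ _)
  have : Function.Injective f := by
    rw [injective_iff_map_eq_zero]
    intro s hs
    apply Subtype.ext
    apply hfaith
    intro n hn
    exact congr_arg Subtype.val (LinearMap.congr_fun hs ⟨n, hn⟩)
  have hfin : Module.Finite R N := by rwa [Module.Finite.iff_fg]
  have h1 : IsIntegral R (f ⟨x, hx⟩) := Algebra.IsIntegral.isIntegral _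
  have h2 : IsIntegral R (⟨x, hx⟩ : A') := (@isIntegral_algHom_iff R _ A' (Module.End R N) _ _ _ _ f this ⟨x, hx⟩).mp h1
  exact h2.map A'.val

/-- Integrality from the element `s`. -/
theorem isIntegral_of_s (a : A) (s : A ⊗[K] A)
    (hs1 : Algebra.TensorProduct.lmul' K s = 1)
    (hs : (a ⊗ₜ[K] (1 : A)) * s = ((1 : A) ⊗ₜ[K] a) * s) : IsIntegral K a := by
  classical
  let ℬ := Module.Basis.ofVectorSpace K A
  let E := TensorProduct.equivFinsuppOfBasisLeft (N := A) ℬ
  let c := E s
  have hsum : s = c.sum fun i n => ℬ i ⊗ₜ[K] n := by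
    have := E.symm_apply_apply s
    exact this.symm.trans (TensorProduct.equivFinsuppOfBasisLeft_symm_apply ℬ (E s))
  let V : Submodule K A := Submodule.span K (c '' c.support)
  have hV : V.FG := Submodule.fg_span (Set.Finite.image _ c.support.finite_toSet)
  have hcV : ∀ i, c i ∈ V := by
    intro i
    by_cases hi : i ∈ c.support
    · exact Submodule.subset_span ⟨i, hi, rfl⟩
    · rw [Finsupp.notMem_support_iff.mp hi]; exact V.zero_mem
  have hE1 : ∀ x j, E (((1:A) ⊗ₜ[K] a) * x) j = a * E x j := by
    intro x j
    induction x with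
    | zero => simp
    | tmul u v =>
      simp only [E, Algebra.TensorProduct.tmul_mul_tmul, one_mul,
        TensorProduct.equivFinsuppOfBasisLeft_apply_tmul_apply]
      rw [mul_smul_comm]
    | add x y hx hy => simp only [mul_add, map_add, Finsupp.add_apply, hx, hy]
  have hE2 : ∀ j, E ((a ⊗ₜ[K] (1:A)) * s) j ∈ V := by
    intro j
    rw [hsum, Finsupp.sum, Finset.mul_sum, map_sum, Finsupp.finset_sum_apply]
    apply V.sum_mem
    intro i _
    rw [Algebra.TensorProduct.tmul_mul_tmul, one_mul,
      TensorProduct.equivFinsuppOfBasisLeft_apply_tmul_apply]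
    exact V.smul_mem _ (hcV i)
  have hstab : ∀ n ∈ V, a * n ∈ V := by
    intro n hn
    induction hn using Submodule.span_induction with
    | mem x hx =>
      obtain ⟨i, _, rfl⟩ := hx
      change a * E s i ∈ V
      rw [← hE1, ← hs]
      exact hE2 i
    | zero => simp
    | add x y _ _ hx hy => rw [mul_add]; exact V.add_mem hx hy
    | smul r x _ hx => rw [mul_smul_comm]; exact V.smul_mem r hx
  apply isIntegral_of_faithful V hV a hstab
  intro y hy
  have : y = y * Algebra.TensorProduct.lmul' K s := by rw [hs1, mul_one]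
  rw [this, hsum, Finsupp.sum, map_sum, Finset.mul_sum]
  apply Finset.sum_eq_zero
  intro i _
  simp only [Algebra.TensorProduct.lmul'_apply_tmul]
  rw [mul_left_comm, hy _ (hcV i), mul_zero]

/-- A weakly étale algebra over a field is von Neumann regular. -/
theorem exists_sq_mul [Algebra.WeaklyEtale K A] (a : A) : ∃ x, a = a * a * x := by
  obtain ⟨s, hs1, hs⟩ := exists_s (Algebra.WeaklyEtale.flat_lmul' K A) a
  exact exists_sq_mul_of_s a s hs1 hs

variable (K A) in
/-- A weakly étale algebra over a field is reduced. -/
theorem isReduced_of_weaklyEtale [Algebra.WeaklyEtale K A] : IsReduced A := by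
  refine ⟨fun a ⟨n, hn⟩ => ?_⟩
  obtain ⟨x, hx⟩ := exists_sq_mul (K := K) a
  have h : ∀ k : ℕ, a = a ^ (k + 1) * x ^ k := by
    intro k
    induction k with
    | zero => simp
    | succ k ih =>
      calc a = a ^ (k + 1) * x ^ k := ih
        _ = a ^ k * a * x ^ k := by rw [pow_succ]
        _ = a ^ k * (a * a * x) * x ^ k := by rw [← hx]
        _ = a ^ (k + 1 + 1) * x ^ (k + 1) := by ring
  rw [h n, pow_succ, hn, zero_mul, zero_mul]

/-- Elements of a weakly étale algebra over a field are integral. -/
theorem isIntegral_of_weaklyEtale [Algebra.WeaklyEtale K A] (a : A) : IsIntegral K a := by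
  obtain ⟨s, hs1, hs⟩ := exists_s (Algebra.WeaklyEtale.flat_lmul' K A) a
  exact isIntegral_of_s a s hs1 hs

/-- Over a perfect field, integral elements of reduced algebras are separable. -/
theorem isSeparable_of_perfectField_of_isReduced [PerfectField K] [IsReduced A] (b : A)
    (hb : IsIntegral K b) : IsSeparable K b := by
  rw [IsSeparable, PerfectField.separable_iff_squarefree]
  intro h hh
  obtain ⟨k, hk⟩ := hh
  have hg0 : minpoly K b ≠ 0 := minpoly.ne_zero hb
  have h1 : (Polynomial.aeval b (h * k)) ^ 2 = 0 := by
    have : (h * k) ^ 2 = minpoly K b * k := by rw [hk]; ring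
    rw [← map_pow, this, map_mul, minpoly.aeval, zero_mul]
  have h2 : Polynomial.aeval b (h * k) = 0 := IsReduced.eq_zero _ ⟨2, h1⟩
  have h3 : minpoly K b ∣ h * k := minpoly.dvd K b h2
  rw [hk] at h3
  have hk0 : h * k ≠ 0 := by
    intro h0
    apply hg0
    rw [hk, mul_assoc, h0, mul_zero]
  have : h * (h * k) ∣ 1 * (h * k) := by rwa [one_mul, ← mul_assoc]
  exact isUnit_of_dvd_one ((mul_dvd_mul_iff_right hk0).mp this)

/-- The minimal polynomial is stable under base field extension. -/
theorem minpoly_one_tmul (L : Type*) [Field L] [Algebra K L] (a : A) (ha : IsIntegral K a) :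
    minpoly L ((1 : L) ⊗ₜ[K] a) = (minpoly K a).map (algebraMap K L) := by
  have hfb : Polynomial.aeval ((1 : L) ⊗ₜ[K] a) ((minpoly K a).map (algebraMap K L)) = 0 := by
    rw [Polynomial.aeval_map_algebraMap]
    have : (1 : L) ⊗ₜ[K] a = Algebra.TensorProduct.includeRight (R := K) (A := L) (B := A) a := rfl
    rw [this, Polynomial.aeval_algHom_apply, minpoly.aeval, map_zero]
  have hmonic : ((minpoly K a).map (algebraMap K L)).Monic := (minpoly.monic ha).map _
  have hbint : IsIntegral L ((1 : L) ⊗ₜ[K] a) := ⟨_, hmonic, hfb⟩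
  have hdvd : minpoly L ((1 : L) ⊗ₜ[K] a) ∣ (minpoly K a).map (algebraMap K L) :=
    minpoly.dvd L _ hfb
  have hdeg : (minpoly K a).natDegree ≤ (minpoly L ((1 : L) ⊗ₜ[K] a)).natDegree := by
    by_contra hlt
    push Not at hlt
    have hli := linearIndependent_pow (K := K) a
    have hli' := Module.Flat.linearIndependent_one_tmul (S := L) hli
    rw [Fintype.linearIndependent_iff] at hli'
    have h0 : ∑ i : Fin (minpoly K a).natDegree,
        (minpoly L ((1 : L) ⊗ₜ[K] a)).coeff i • ((1:L) ⊗ₜ[K] (a ^ (i:ℕ))) = 0 := by
      have := Polynomial.aeval_eq_sum_range' hlt ((1 : L) ⊗ₜ[K] a)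
      rw [minpoly.aeval] at this
      rw [Fin.sum_univ_eq_sum_range
        (fun i => (minpoly L ((1 : L) ⊗ₜ[K] a)).coeff i • ((1:L) ⊗ₜ[K] (a ^ i)))
        (minpoly K a).natDegree, this]
      apply Finset.sum_congr rfl
      intro i _
      simp [Algebra.TensorProduct.tmul_pow]
    have := hli' _ h0 ⟨(minpoly L ((1 : L) ⊗ₜ[K] a)).natDegree, hlt⟩
    simp only [Polynomial.coeff_natDegree] at this
    rw [(minpoly.monic hbint).leadingCoeff] at this
    exact one_ne_zero this
  exact (Polynomial.eq_of_monic_of_dvd_of_natDegree_le (minpoly.monic hbint) hmonic hdvd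
    (by rw [Polynomial.natDegree_map]; exact hdeg)).symm

variable (K A) in
/-- **Weakly étale over a field implies separable algebraic.** -/
theorem isSeparable_of_weaklyEtale [Algebra.WeaklyEtale K A] : Algebra.IsSeparable K A := by
  refine ⟨fun a => ?_⟩
  have ha := isIntegral_of_weaklyEtale (K := K) a
  have hred : IsReduced (AlgebraicClosure K ⊗[K] A) :=
    isReduced_of_weaklyEtale (AlgebraicClosure K) _
  have hb : IsIntegral (AlgebraicClosure K) ((1 : AlgebraicClosure K) ⊗ₜ[K] a) :=
    isIntegral_of_weaklyEtale _
  have := isSeparable_of_perfectField_of_isReduced (K := AlgebraicClosure K) _ hb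
  rw [IsSeparable, minpoly_one_tmul _ a ha, Polynomial.separable_map] at this
  exact this

end Field

section Converse

variable {K : Type*} [Field K]

open KaehlerDifferential in
/-- An algebra generated by separable elements is formally unramified. -/
theorem formallyUnramified_of_adjoin {B : Type*} [CommRing B] [Algebra K B] (T : Set B)
    (hT : Algebra.adjoin K T = ⊤) (hsep : ∀ t ∈ T, IsSeparable K t) :
    Algebra.FormallyUnramified K B := by
  refine ⟨?_⟩
  have hD0 : ∀ t ∈ T, KaehlerDifferential.D K B t = 0 := by
    intro t ht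
    obtain ⟨u, v, huv⟩ := hsep t ht
    have h1 : KaehlerDifferential.D K B (Polynomial.aeval t (minpoly K t)) = 0 := by
      rw [minpoly.aeval, map_zero]
    rw [Derivation.map_aeval] at h1
    have h2 : Polynomial.aeval t v * Polynomial.aeval t (Polynomial.derivative (minpoly K t))
        = 1 := by
      have := congrArg (Polynomial.aeval t) huv
      simpa [minpoly.aeval] using this
    calc KaehlerDifferential.D K B t = (1 : B) • KaehlerDifferential.D K B t := (one_smul _ _).symm
      _ = (Polynomial.aeval t v * Polynomial.aeval t (Polynomial.derivative (minpoly K t))) •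
            KaehlerDifferential.D K B t := by rw [h2]
      _ = Polynomial.aeval t v • (Polynomial.aeval t (Polynomial.derivative (minpoly K t)) •
            KaehlerDifferential.D K B t) := mul_smul _ _ _
      _ = 0 := by rw [h1, smul_zero]
  have hall : ∀ b : B, KaehlerDifferential.D K B b = 0 := by
    intro b
    have hb : b ∈ Algebra.adjoin K T := hT ▸ Algebra.mem_top
    induction hb using Algebra.adjoin_induction with
    | mem x hx => exact hD0 x hx
    | algebraMap r => exact (KaehlerDifferential.D K B).map_algebraMap r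
    | add x y _ _ hx hy => rw [map_add, hx, hy, add_zero]
    | mul x y _ _ hx hy =>
      rw [(KaehlerDifferential.D K B).leibniz, hx, hy, smul_zero, smul_zero, add_zero]
  suffices (⊤ : Submodule B Ω[B⁄K]) ≤ ⊥ from
    (subsingleton_iff_forall_eq 0).mpr fun y ↦ this trivial
  rw [← KaehlerDifferential.span_range_derivation, Submodule.span_le]
  rintro _ ⟨x, rfl⟩
  exact hall x

variable {A : Type*} [CommRing A] [Algebra K A]

/-- Every tensor lies in the image of `B ⊗ B` for a finitely generated subalgebra `B`. -/
lemma exists_fg_subalgebra_mem_range {R : Type*} [CommRing R] {A : Type*} [CommRing A]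
    [Algebra R A] (x : A ⊗[R] A) :
    ∃ B : Subalgebra R A, B.FG ∧ x ∈ (Algebra.TensorProduct.map B.val B.val).range := by
  have mono : ∀ {B B' : Subalgebra R A}, B ≤ B' →
      (Algebra.TensorProduct.map B.val B.val).range ≤
        (Algebra.TensorProduct.map B'.val B'.val).range := by
    intro B B' h y hy
    obtain ⟨z, rfl⟩ := hy
    refine ⟨Algebra.TensorProduct.map (Subalgebra.inclusion h) (Subalgebra.inclusion h) z, ?_⟩
    induction z with
    | zero => simp
    | tmul u v => simp
    | add u v hu hv => simp only [map_add, hu, hv]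
  induction x with
  | zero => exact ⟨⊥, Subalgebra.fg_bot, zero_mem _⟩
  | tmul a b =>
    refine ⟨Algebra.adjoin R {a, b}, ?_, ?_⟩
    · classical
      have := Subalgebra.fg_adjoin_finset (R := R) ({a, b} : Finset A)
      simpa using this
    · refine ⟨(⟨a, Algebra.subset_adjoin (by simp)⟩ : Algebra.adjoin R {a, b}) ⊗ₜ
        (⟨b, Algebra.subset_adjoin (by simp)⟩ : Algebra.adjoin R {a, b}), ?_⟩
      simp
  | add x y hx hy =>
    obtain ⟨B1, h1, hx1⟩ := hx
    obtain ⟨B2, h2, hy2⟩ := hy
    exact ⟨B1 ⊔ B2, h1.sup h2, add_mem (mono le_sup_left hx1) (mono le_sup_right hy2)⟩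

/-- Flatness of the multiplication map from local annihilating elements. -/
theorem flat_lmul'_of_forall_exists {R S : Type*} [CommRing R] [CommRing S] [Algebra R S]
    (h : ∀ x : S ⊗[R] S, Algebra.TensorProduct.lmul' R x = 0 →
      ∃ s, Algebra.TensorProduct.lmul' R s = 1 ∧ s * x = 0) :
    (Algebra.TensorProduct.lmul' R (S := S)).toRingHom.Flat := by
  have hsurj : Function.Surjective (Algebra.TensorProduct.lmul' R (S := S)).toRingHom :=
    fun x => ⟨x ⊗ₜ 1, by simp⟩
  rw [flat_iff_pure_ker _ hsurj]
  apply Ideal.Pure.of_inf_eq_mul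
  intro J _
  apply le_antisymm _ Ideal.mul_le_inf
  rintro x ⟨hxI, hxJ⟩
  obtain ⟨s, hs1, hsx⟩ := h x hxI
  have : x = (1 - s) * x := by rw [sub_mul, one_mul, hsx, sub_zero]
  rw [this]
  apply Ideal.mul_mem_mul _ hxJ
  change Algebra.TensorProduct.lmul' R (1 - s) = 0
  rw [map_sub, map_one, hs1, sub_self]

variable (K A) in
/-- **Separable algebraic algebras over a field are weakly étale.** -/
theorem weaklyEtale_of_isSeparable [Algebra.IsSeparable K A] : Algebra.WeaklyEtale K A where
  flat := inferInstance
  flat_lmul' := by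
    apply flat_lmul'_of_forall_exists
    intro x hx
    obtain ⟨B, hBfg, y, hyx⟩ := exists_fg_subalgebra_mem_range x
    have hyx' : Algebra.TensorProduct.map B.val B.val y = x := hyx
    clear hyx
    subst hyx'
    have hy : Algebra.TensorProduct.lmul' K y = 0 := by
      apply Subtype.val_injective
      have : ∀ z : B ⊗[K] B, ((Algebra.TensorProduct.lmul' K z : B) : A) =
          Algebra.TensorProduct.lmul' K (Algebra.TensorProduct.map B.val B.val z) := by
        intro z
        induction z with
        | zero => simp
        | tmul u v => simp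
        | add u v hu hv => simp only [map_add, ← hu, ← hv, Subalgebra.coe_add]
      rw [this, hx]; rfl
    have hsepB : ∀ t ∈ (Set.univ : Set B), IsSeparable K t := by
      intro t _
      have := Algebra.IsSeparable.isSeparable K (t : A)
      have h2 := minpoly.algHom_eq B.val Subtype.val_injective t
      rw [IsSeparable, ← h2]
      exact this
    have hunr : Algebra.FormallyUnramified K B :=
      formallyUnramified_of_adjoin Set.univ (by simp) hsepB
    have hft : Algebra.FiniteType K B := (Subalgebra.fg_iff_finiteType B).mp hBfg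
    obtain ⟨t, ht0, ht1⟩ := (Algebra.FormallyUnramified.iff_exists_tensorProduct
      (R := K) (S := B)).mp hunr
    have hann : ∀ z ∈ Ideal.span (Set.range fun s : B => (1 : B) ⊗ₜ[K] s - s ⊗ₜ[K] (1 : B)),
        t * z = 0 := by
      intro z hz
      induction hz using Submodule.span_induction with
      | mem z hz => obtain ⟨s, rfl⟩ := hz; rw [mul_comm]; exact ht0 s
      | zero => simp
      | add u v _ _ hu hv => rw [mul_add, hu, hv, add_zero]
      | smul r u _ hu => rw [smul_eq_mul, mul_left_comm, hu, mul_zero]
    have hty : t * y = 0 := by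
      apply hann
      rw [KaehlerDifferential.span_range_eq_ideal]
      exact hy
    refine ⟨Algebra.TensorProduct.map B.val B.val t, ?_, ?_⟩
    · have : ∀ z : B ⊗[K] B, ((Algebra.TensorProduct.lmul' K z : B) : A) =
          Algebra.TensorProduct.lmul' K (Algebra.TensorProduct.map B.val B.val z) := by
        intro z
        induction z with
        | zero => simp
        | tmul u v => simp
        | add u v hu hv => simp only [map_add, ← hu, ← hv, Subalgebra.coe_add]
      rw [← this, ht1]; rfl
    · rw [← map_mul, hty, map_zero]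

/-- **Main theorem**: over a field, weakly étale = separable algebraic. -/
theorem weaklyEtale_iff_isSeparable : Algebra.WeaklyEtale K A ↔ Algebra.IsSeparable K A :=
  ⟨fun _ => isSeparable_of_weaklyEtale K A, fun _ => weaklyEtale_of_isSeparable K A⟩

/-- Images of separable elements under algebra maps are separable. -/
theorem isSeparable_algHom {A B : Type*} [CommRing A] [CommRing B] [Algebra K A] [Algebra K B]
    (f : A →ₐ[K] B) {x : A} (hx : IsSeparable K x) : IsSeparable K (f x) := by
  have : minpoly K (f x) ∣ minpoly K x :=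
    minpoly.dvd K (f x) (by rw [Polynomial.aeval_algHom_apply, minpoly.aeval, map_zero])
  exact Polynomial.Separable.of_dvd hx this

theorem isSeparable_of_surjective {A B : Type*} [CommRing A] [CommRing B] [Algebra K A]
    [Algebra K B] (f : A →ₐ[K] B) (hf : Function.Surjective f) [Algebra.IsSeparable K A] :
    Algebra.IsSeparable K B := by
  refine ⟨fun b => ?_⟩
  obtain ⟨a, rfl⟩ := hf b
  exact isSeparable_algHom f (Algebra.IsSeparable.isSeparable K a)

theorem isSeparable_of_injective {A B : Type*} [CommRing A] [CommRing B] [Algebra K A]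
    [Algebra K B] (f : A →ₐ[K] B) (hf : Function.Injective f) [Algebra.IsSeparable K B] :
    Algebra.IsSeparable K A :=
  ⟨fun a => (isSeparable_map_iff f hf).mp (Algebra.IsSeparable.isSeparable K (f a))⟩

/-- An algebra generated by finitely many separable elements is weakly étale. -/
theorem weaklyEtale_of_adjoin_finite {B : Type*} [CommRing B] [Algebra K B] (T : Set B)
    (hfin : T.Finite) (hT : Algebra.adjoin K T = ⊤) (hsep : ∀ t ∈ T, IsSeparable K t) :
    Algebra.WeaklyEtale K B where
  flat := inferInstance
  flat_lmul' := by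
    have hunr : Algebra.FormallyUnramified K B := formallyUnramified_of_adjoin T hT hsep
    have hft : Algebra.FiniteType K B := ⟨Subalgebra.fg_def.mpr ⟨T, hfin, hT⟩⟩
    obtain ⟨t, ht0, ht1⟩ := (Algebra.FormallyUnramified.iff_exists_tensorProduct
      (R := K) (S := B)).mp hunr
    have hann : ∀ z ∈ Ideal.span (Set.range fun s : B => (1 : B) ⊗ₜ[K] s - s ⊗ₜ[K] (1 : B)),
        t * z = 0 := by
      intro z hz
      induction hz using Submodule.span_induction with
      | mem z hz => obtain ⟨s, rfl⟩ := hz; rw [mul_comm]; exact ht0 s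
      | zero => simp
      | add u v _ _ hu hv => rw [mul_add, hu, hv, add_zero]
      | smul r u _ hu => rw [smul_eq_mul, mul_left_comm, hu, mul_zero]
    apply flat_lmul'_of_forall_exists
    intro x hx
    refine ⟨t, ht1, hann x ?_⟩
    rw [KaehlerDifferential.span_range_eq_ideal]
    exact hx

/-- Elements of a subalgebra generated by finitely many separable elements are separable. -/
theorem isSeparable_of_mem_adjoin {T : Set A} (hfin : T.Finite)
    (hsep : ∀ t ∈ T, IsSeparable K t) {y : A} (hy : y ∈ Algebra.adjoin K T) :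
    IsSeparable K y := by
  have hfin' : (((↑) : Algebra.adjoin K T → A) ⁻¹' T).Finite :=
    hfin.preimage (Subtype.val_injective.injOn)
  have hsep' : ∀ t ∈ (((↑) : Algebra.adjoin K T → A) ⁻¹' T), IsSeparable K t := by
    intro t ht
    exact (isSeparable_map_iff (Algebra.adjoin K T).val Subtype.val_injective).mp (hsep _ ht)
  have hwe : Algebra.WeaklyEtale K (Algebra.adjoin K T) :=
    weaklyEtale_of_adjoin_finite _ hfin' Algebra.adjoin_adjoin_coe_preimage hsep'
  have := isSeparable_of_weaklyEtale K (Algebra.adjoin K T)
  exact (Subalgebra.isSeparable_iff.mp this) y hy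

variable (K A) in
/-- The subalgebra of separable elements. -/
def sepSubalgebra : Subalgebra K A where
  carrier := {x | IsSeparable K x}
  mul_mem' := by
    intro a b ha hb
    refine isSeparable_of_mem_adjoin (T := {a, b}) (by simp) ?_
      (Subalgebra.mul_mem _ (Algebra.subset_adjoin (by simp)) (Algebra.subset_adjoin (by simp)))
    rintro t (rfl | rfl)
    · exact ha
    · exact hb
  add_mem' := by
    intro a b ha hb
    refine isSeparable_of_mem_adjoin (T := {a, b}) (by simp) ?_
      (Subalgebra.add_mem _ (Algebra.subset_adjoin (by simp)) (Algebra.subset_adjoin (by simp)))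
    rintro t (rfl | rfl)
    · exact ha
    · exact hb
  algebraMap_mem' := fun r => isSeparable_algebraMap r

theorem mem_sepSubalgebra {x : A} : x ∈ sepSubalgebra K A ↔ IsSeparable K x := Iff.rfl

instance : Algebra.IsSeparable K (sepSubalgebra K A) :=
  Subalgebra.isSeparable_iff.mpr fun _ hx => hx

/-- A subalgebra is weakly étale iff it is contained in the separable subalgebra. -/
theorem subalgebra_weaklyEtale_iff (S : Subalgebra K A) :
    Algebra.WeaklyEtale K S ↔ S ≤ sepSubalgebra K A := by
  rw [weaklyEtale_iff_isSeparable, Subalgebra.isSeparable_iff]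
  rfl

/-- Subalgebras and quotients of weakly étale algebras over a field are weakly étale. -/
theorem sub_quotient (K : Type*) [Field K] (B : Type*) [CommRing B] [Algebra K B]
    [Algebra.WeaklyEtale K B] :
    (∀ S : Subalgebra K B, Algebra.WeaklyEtale K S) ∧
      ∀ I : Ideal B, Algebra.WeaklyEtale K (B ⧸ I) := by
  have hB := isSeparable_of_weaklyEtale K B
  constructor
  · intro S
    rw [weaklyEtale_iff_isSeparable]
    exact isSeparable_of_injective S.val Subtype.val_injective
  · intro I
    rw [weaklyEtale_iff_isSeparable]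
    exact isSeparable_of_surjective (Ideal.Quotient.mkₐ K I) Ideal.Quotient.mk_surjective

/-- The supremum of the weakly étale subalgebras is the separable subalgebra. -/
theorem sSup_weaklyEtale_eq (K : Type*) [Field K] (A : Type*) [CommRing A] [Algebra K A] :
    sSup {S : Subalgebra K A | Algebra.WeaklyEtale K S} = sepSubalgebra K A := by
  apply le_antisymm
  · apply sSup_le
    intro S hS
    exact (subalgebra_weaklyEtale_iff S).mp hS
  · apply le_sSup
    exact (subalgebra_weaklyEtale_iff _).mpr le_rfl

/-- A finite type separable algebra over a field is étale. -/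
theorem etale_of_isSeparable_of_finiteType {K A : Type u} [Field K] [CommRing A] [Algebra K A]
    [Algebra.IsSeparable K A] [Algebra.FiniteType K A] : Algebra.Etale K A := by
  have hunr : Algebra.FormallyUnramified K A :=
    formallyUnramified_of_adjoin Set.univ (by simp)
      (fun t _ => Algebra.IsSeparable.isSeparable K t)
  have : Algebra.FormallyEtale K A := Algebra.FormallyEtale.of_formallyUnramified_of_field K A
  have : Algebra.FinitePresentation K A :=
    Algebra.FinitePresentation.of_finiteType.mp inferInstance
  exact {}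

/-- Finitely generated subalgebras of weakly étale algebras over a field are étale. -/
theorem etale_of_fg_subalgebra {K A : Type u} [Field K] [CommRing A] [Algebra K A]
    [Algebra.WeaklyEtale K A] (S : Subalgebra K A) (hS : S.FG) : Algebra.Etale K S := by
  have := isSeparable_of_weaklyEtale K A
  have : Algebra.IsSeparable K S := isSeparable_of_injective S.val Subtype.val_injective
  have : Algebra.FiniteType K S := (Subalgebra.fg_iff_finiteType S).mp hS
  exact etale_of_isSeparable_of_finiteType

end Converse

end Groth.Agent.Helper3.WEField
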