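import Mathlib

/-!
# Weakly étale morphisms are characterised on stalks (helper3)

`Q f`: unbundled weakly étale ring hom (`f.Flat ∧ lmul'.Flat`). `q_respectsIso`, `q_comp`,
`q_localRingHom`, `q_ofLocalizationPrime`, `spec_iff : WeaklyEtale (Spec.map φ) ↔ Q φ.hom`,
`of_stalkMap`, `stalkMap`, `s1412`.
-/

open TensorProduct AlgebraicGeometry CategoryTheory Limits TopologicalSpace

universe u

namespace Groth.Agent.Helper3.WEStalk

/-- If every pure tensor `x ⊗ y` equals `(x * y) ⊗ 1`, then `lmul'` is bijective. -/
theorem lmul'_bijective_of {R S : Type*} [CommRing R] [CommRing S] [Algebra R S]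
    (h : ∀ x y : S, x ⊗ₜ[R] y = (x * y) ⊗ₜ[R] (1 : S)) :
    Function.Bijective (Algebra.TensorProduct.lmul' R (S := S)) := by
  have key : ∀ z : S ⊗[R] S, z = (Algebra.TensorProduct.lmul' R (S := S) z) ⊗ₜ[R] (1 : S) := by
    intro z
    induction z with
    | zero => simp
    | tmul x y => simpa using h x y
    | add a b ha hb => rw [map_add, add_tmul, ← ha, ← hb]
  constructor
  · intro a b hab
    rw [key a, key b, hab]
  · intro x
    exact ⟨x ⊗ₜ 1, by simp⟩

theorem weaklyEtale_of_lmul'_bijective {R S : Type*} [CommRing R] [CommRing S] [Algebra R S]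
    [Module.Flat R S] (h : Function.Bijective (Algebra.TensorProduct.lmul' R (S := S))) :
    Algebra.WeaklyEtale R S where
  flat_lmul' := RingHom.Flat.of_bijective h

theorem weaklyEtale_of_isLocalization {R : Type*} [CommRing R] (M : Submonoid R)
    (S : Type*) [CommRing S] [Algebra R S] [IsLocalization M S] : Algebra.WeaklyEtale R S := by
  haveI : Module.Flat R S := IsLocalization.flat S M
  apply weaklyEtale_of_lmul'_bijective
  apply lmul'_bijective_of
  intro x y
  haveI := IsLocalization.tensorProduct_compatibleSMul M S S S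
  have := TensorProduct.smul_tmul (R := R) (R' := S) y x (1 : S)
  simp only [smul_eq_mul, mul_one] at this
  rw [← this, mul_comm]

theorem weaklyEtale_of_surjective {R S : Type*} [CommRing R] [CommRing S] [Algebra R S]
    [Module.Flat R S] (hs : Function.Surjective (algebraMap R S)) : Algebra.WeaklyEtale R S := by
  apply weaklyEtale_of_lmul'_bijective
  apply lmul'_bijective_of
  intro x y
  obtain ⟨r, rfl⟩ := hs y
  rw [Algebra.algebraMap_eq_smul_one, ← TensorProduct.smul_tmul, mul_smul_comm, mul_one]

theorem weaklyEtale_of_isLocalization_base {R : Type*} [CommRing R] (M : Submonoid R)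
    (R' : Type*) [CommRing R'] [Algebra R R'] [IsLocalization M R']
    (T : Type*) [CommRing T] [Algebra R T] [Algebra R' T] [IsScalarTower R R' T]
    [Algebra.WeaklyEtale R T] : Algebra.WeaklyEtale R' T := by
  haveI : Module.Flat R' T := (Module.flat_iff_of_isLocalization R' M T).mpr inferInstance
  refine ⟨inferInstance, ?_⟩
  let e : T ⊗[R'] T ≃ₐ[R'] T ⊗[R] T := IsLocalization.algebraTensorEquiv M R' T T
  have key : ∀ z : T ⊗[R'] T, Algebra.TensorProduct.lmul' R' (S := T) z =
      Algebra.TensorProduct.lmul' R (S := T) (e z) := by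
    intro z
    induction z with
    | zero => simp
    | tmul x y =>
      have : e (x ⊗ₜ[R'] y) = x ⊗ₜ[R] y := rfl
      rw [this]; simp
    | add a b ha hb => simp only [map_add, ha, hb]
  have : (Algebra.TensorProduct.lmul' R' (S := T)).toRingHom =
      (Algebra.TensorProduct.lmul' R (S := T)).toRingHom.comp (e : T ⊗[R'] T →+* T ⊗[R] T) := by
    apply RingHom.ext
    intro z
    exact key z
  rw [this]
  exact RingHom.Flat.comp (RingHom.Flat.of_bijective e.bijective)
    (Algebra.WeaklyEtale.flat_lmul' R T)

/-- Weakly étale ring homomorphisms, in the unbundled form used by S1412. -/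
def Q {R S : Type u} [CommRing R] [CommRing S] (f : R →+* S) : Prop :=
  f.Flat ∧ (letI := f.toAlgebra; (Algebra.TensorProduct.lmul' R (S := S)).toRingHom.Flat)

theorem q_iff {R S : Type u} [CommRing R] [CommRing S] (f : R →+* S) :
    Q f ↔ @Algebra.WeaklyEtale R S _ _ f.toAlgebra := by
  letI := f.toAlgebra
  rw [Algebra.weaklyEtale_iff]
  rfl

theorem q_algebraMap {R S : Type u} [CommRing R] [CommRing S] [Algebra R S] :
    Q (algebraMap R S) ↔ Algebra.WeaklyEtale R S := by
  rw [q_iff, toAlgebra_algebraMap]

theorem q_comp : RingHom.StableUnderComposition @Q := by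
  intro R S T _ _ _ f g hf hg
  algebraize_only [f, g, g.comp f]
  rw [q_iff] at hf hg ⊢
  exact Algebra.WeaklyEtale.trans R S T

theorem q_respectsIso : RingHom.RespectsIso @Q := by
  apply q_comp.respectsIso
  intro R S _ _ e
  algebraize_only [e.toRingHom]
  rw [q_iff]
  haveI : Module.Flat R S := (RingHom.Flat.of_bijective (f := e.toRingHom) e.bijective)
  exact weaklyEtale_of_surjective e.surjective

theorem q_localRingHom {R S : Type u} [CommRing R] [CommRing S] (f : R →+* S) (hf : Q f)
    (J : Ideal S) [J.IsPrime] : Q (Localization.localRingHom (J.comap f) J f rfl) := by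
  algebraize_only [f, Localization.localRingHom (Ideal.comap f J) J f rfl]
  have : IsScalarTower R (Localization.AtPrime (Ideal.comap f J)) (Localization.AtPrime J) :=
    .of_algebraMap_eq fun x ↦ (Localization.localRingHom_to_map _ _ _ rfl x).symm
  have hRS : Algebra.WeaklyEtale R S := (q_iff f).mp hf
  have : Algebra.WeaklyEtale S (Localization.AtPrime J) :=
    weaklyEtale_of_isLocalization J.primeCompl _
  have : Algebra.WeaklyEtale R (Localization.AtPrime J) := Algebra.WeaklyEtale.trans R S _
  have := weaklyEtale_of_isLocalization_base (J.comap f).primeCompl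
    (Localization.AtPrime (J.comap f)) (Localization.AtPrime J)
  exact (q_iff _).mpr this

theorem q_ofLocalizationPrime : RingHom.OfLocalizationPrime @Q := by
  intro R S _ _ f h
  refine ⟨RingHom.Flat.ofLocalizationPrime f (fun J hJ => (h J hJ).1), ?_⟩
  algebraize_only [f]
  let C := S ⊗[R] S
  letI algCS : Algebra C S := (Algebra.TensorProduct.lmul' R (S := S)).toRingHom.toAlgebra
  change Module.Flat C S
  apply Module.flat_of_isLocalized_maximal S S (fun P ↦ Localization.AtPrime P)
    (fun P ↦ Algebra.linearMap S _)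
  intro P hP
  have hPp : P.IsPrime := hP.isPrime
  algebraize_only [Localization.localRingHom (Ideal.comap f P) P f rfl]
  have : IsScalarTower R (Localization.AtPrime (Ideal.comap f P)) (Localization.AtPrime P) :=
    .of_algebraMap_eq fun x ↦ (Localization.localRingHom_to_map _ _ _ rfl x).symm
  have h3 : (Algebra.TensorProduct.lmul' (Localization.AtPrime (Ideal.comap f P))
      (S := Localization.AtPrime P)).toRingHom.Flat := (h P hPp).2
  let g1 : S ⊗[R] S →ₐ[R] Localization.AtPrime P ⊗[R] Localization.AtPrime P :=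
    Algebra.TensorProduct.map (IsScalarTower.toAlgHom R S (Localization.AtPrime P))
      (IsScalarTower.toAlgHom R S (Localization.AtPrime P))
  have hloc : (IsScalarTower.toAlgHom R S (Localization.AtPrime P)).Flat := by
    change (algebraMap S (Localization.AtPrime P)).Flat
    rw [RingHom.flat_algebraMap_iff]
    exact IsLocalization.flat _ P.primeCompl
  have h1 : g1.toRingHom.Flat := RingHom.Flat.tensorProductMap hloc hloc
  let e : Localization.AtPrime P ⊗[Localization.AtPrime (Ideal.comap f P)] Localization.AtPrime P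
      ≃ₐ[Localization.AtPrime (Ideal.comap f P)] Localization.AtPrime P ⊗[R] Localization.AtPrime P :=
    IsLocalization.algebraTensorEquiv (Ideal.comap f P).primeCompl _ _ _
  have key : ∀ z : S ⊗[R] S, algebraMap S (Localization.AtPrime P)
      (Algebra.TensorProduct.lmul' R (S := S) z) =
      Algebra.TensorProduct.lmul' (Localization.AtPrime (Ideal.comap f P))
        (S := Localization.AtPrime P) (e.symm (g1 z)) := by
    intro z
    induction z with
    | zero => simp
    | tmul x y =>
      have : e.symm (g1 (x ⊗ₜ[R] y)) = (algebraMap S (Localization.AtPrime P) x) ⊗ₜ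
          (algebraMap S (Localization.AtPrime P) y) := rfl
      rw [this]; simp
    | add a b ha hb => simp only [map_add, ha, hb]
  have hcomp : algebraMap C (Localization.AtPrime P) =
      ((Algebra.TensorProduct.lmul' (Localization.AtPrime (Ideal.comap f P))
        (S := Localization.AtPrime P)).toRingHom.comp
        (e.symm : _ →+* _)).comp g1.toRingHom := by
    apply RingHom.ext
    intro z
    exact key z
  rw [← RingHom.flat_algebraMap_iff, hcomp]
  exact RingHom.Flat.comp h1 (RingHom.Flat.comp (RingHom.Flat.of_bijective e.symm.bijective) h3)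

set_option backward.isDefEq.respectTransparency.types false in
theorem spec_iff {R S : CommRingCat.{u}} (φ : R ⟶ S) :
    WeaklyEtale (Spec.map φ) ↔ Q φ.hom := by
  rw [weaklyEtale_iff, HasRingHomProperty.Spec_iff (P := @Flat)]
  unfold Q
  apply and_congr Iff.rfl
  algebraize_only [φ.hom]
  rw [show φ = CommRingCat.ofHom (algebraMap R S) from rfl, diagonal_SpecMap R S,
    MorphismProperty.cancel_right_of_respectsIso (P := @Flat),
    HasRingHomProperty.Spec_iff (P := @Flat)]
  rfl

variable {X Y : Scheme.{u}} {f : X ⟶ Y}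

set_option backward.isDefEq.respectTransparency false in
lemma of_stalkMap (H : ∀ x, Q (f.stalkMap x).hom) : WeaklyEtale f := by
  have hQi := q_respectsIso
  wlog hY : IsAffine Y generalizing X Y f
  · rw [IsZariskiLocalAtTarget.iff_of_iSup_eq_top (P := @WeaklyEtale) _ (iSup_affineOpens_eq_top _)]
    intro U
    refine this (fun x ↦ ?_) U.2
    exact (hQi.arrow_mk_iso_iff (AlgebraicGeometry.morphismRestrictStalkMap f U x)).mpr (H x.val)
  wlog hX : IsAffine X generalizing X f
  · rw [IsZariskiLocalAtSource.iff_of_iSup_eq_top (P := @WeaklyEtale) _ (iSup_affineOpens_eq_top _)]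
    intro U
    refine this ?_ U.2
    intro x
    rw [Scheme.Hom.stalkMap_comp, CommRingCat.hom_comp, hQi.cancel_right_isIso]
    exact H x.val
  wlog hXY : ∃ R S, Y = Spec R ∧ X = Spec S generalizing X Y
  · rw [← MorphismProperty.cancel_right_of_respectsIso @WeaklyEtale (g := Y.isoSpec.hom)]
    rw [← MorphismProperty.cancel_left_of_respectsIso @WeaklyEtale (f := X.isoSpec.inv)]
    refine this inferInstance (fun x ↦ ?_) inferInstance ?_
    · rw [Scheme.Hom.stalkMap_comp, Scheme.Hom.stalkMap_comp, CommRingCat.hom_comp,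
        hQi.cancel_right_isIso, CommRingCat.hom_comp, hQi.cancel_left_isIso]
      apply H
    · use Γ(Y, ⊤), Γ(X, ⊤)
  obtain ⟨R, S, rfl, rfl⟩ := hXY
  obtain ⟨φ, rfl⟩ := Spec.map_surjective f
  rw [spec_iff]
  apply q_ofLocalizationPrime
  intro P hP
  specialize H ⟨P, hP⟩
  rwa [hQi.arrow_mk_iso_iff (Scheme.arrowStalkMapSpecIso φ _)] at H

set_option backward.isDefEq.respectTransparency false in
lemma stalkMap (hf : WeaklyEtale f) (x : X) : Q (f.stalkMap x).hom := by
  have hQ' := q_respectsIso
  wlog h : IsAffine X ∧ IsAffine Y generalizing X Y f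
  · obtain ⟨U, hU, hfx, _⟩ := Opens.isBasis_iff_nbhd.mp Y.isBasis_affineOpens
      (Opens.mem_top <| f x)
    obtain ⟨V, hV, hx, e⟩ := Opens.isBasis_iff_nbhd.mp X.isBasis_affineOpens
      (show x ∈ f ⁻¹ᵁ U from hfx)
    rw [← hQ'.arrow_mk_iso_iff (Scheme.Hom.resLEStalkMap f e ⟨x, hx⟩)]
    exact this (IsZariskiLocalAtSource.resLE _ hf) _ ⟨hV, hU⟩
  obtain ⟨hX, hY⟩ := h
  wlog hXY : ∃ R S, Y = Spec R ∧ X = Spec S generalizing X Y
  · have : Q ((X.isoSpec.inv ≫ f ≫ Y.isoSpec.hom).stalkMap (X.isoSpec.hom x)).hom := by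
      refine this ?_ (X.isoSpec.hom x) inferInstance inferInstance ?_
      · rwa [MorphismProperty.cancel_left_of_respectsIso @WeaklyEtale,
          MorphismProperty.cancel_right_of_respectsIso @WeaklyEtale]
      · use Γ(Y, ⊤), Γ(X, ⊤)
    rw [Scheme.Hom.stalkMap_comp, Scheme.Hom.stalkMap_comp, CommRingCat.hom_comp,
      hQ'.cancel_right_isIso, CommRingCat.hom_comp, hQ'.cancel_left_isIso] at this
    have heq : (X.isoSpec.inv (X.isoSpec.hom x)) = x := by simp
    rwa [hQ'.arrow_mk_iso_iff (f.arrowStalkMapIsoOfEq heq)] at this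
  obtain ⟨R, S, rfl, rfl⟩ := hXY
  obtain ⟨φ, rfl⟩ := Spec.map_surjective f
  rw [hQ'.arrow_mk_iso_iff (Scheme.arrowStalkMapSpecIso φ _)]
  rw [spec_iff] at hf
  exact q_localRingHom _ hf _

theorem s1412 (f : X ⟶ Y) : WeaklyEtale f ↔ ∀ x : X, (f.stalkMap x).hom.Flat ∧
      (letI := (f.stalkMap x).hom.toAlgebra
       (Algebra.TensorProduct.lmul' (S := ↑(X.presheaf.stalk x)) (↑(Y.presheaf.stalk (f x)))).toRingHom.Flat) :=
  ⟨fun h x => stalkMap h x, fun h => of_stalkMap h⟩

end Groth.Agent.Helper3.WEStalk
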