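import Mathlib

universe u

open CategoryTheory CategoryTheory.Limits AlgebraicGeometry TopologicalSpace

namespace Groth.Agent.Helper3.SubStalk

/-- The kernel of the stalk map of a closed subscheme inclusion is the extension of the ideal. -/
theorem ker_stalkMap_subschemeι {X : Scheme.{u}} (𝓘 : X.IdealSheafData) (d : 𝓘.subscheme)
    (U : X.affineOpens) (hx : 𝓘.subschemeι d ∈ U.1) :
    RingHom.ker (𝓘.subschemeι.stalkMap d).hom =
      (𝓘.ideal U).map (X.presheaf.germ U.1 (𝓘.subschemeι d) hx).hom := by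
  have hV : IsAffineOpen (𝓘.subschemeι ⁻¹ᵁ U.1) := U.2.preimage 𝓘.subschemeι
  have hd : d ∈ 𝓘.subschemeι ⁻¹ᵁ U.1 := hx
  have hcompat : ∀ a : Γ(X, U.1), (𝓘.subschemeι.stalkMap d).hom
      ((X.presheaf.germ U.1 (𝓘.subschemeι d) hx).hom a) =
      (𝓘.subscheme.presheaf.germ (𝓘.subschemeι ⁻¹ᵁ U.1) d hd).hom
        ((𝓘.subschemeι.app U.1).hom a) := fun a =>
    Scheme.Hom.germ_stalkMap_apply 𝓘.subschemeι U.1 d hx a
  let _ := X.presheaf.algebra_section_stalk (U := U.1) ⟨𝓘.subschemeι d, hx⟩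
  let _ := 𝓘.subscheme.presheaf.algebra_section_stalk (U := 𝓘.subschemeι ⁻¹ᵁ U.1) ⟨d, hd⟩
  have hlocX := U.2.isLocalization_stalk ⟨𝓘.subschemeι d, hx⟩
  have hlocZ := hV.isLocalization_stalk ⟨d, hd⟩
  have hgX : ∀ a : Γ(X, U.1), algebraMap Γ(X, U.1) (X.presheaf.stalk (𝓘.subschemeι d)) a =
      (X.presheaf.germ U.1 (𝓘.subschemeι d) hx).hom a := fun _ => rfl
  have hgZ : ∀ b : Γ(𝓘.subscheme, 𝓘.subschemeι ⁻¹ᵁ U.1),
      algebraMap Γ(𝓘.subscheme, 𝓘.subschemeι ⁻¹ᵁ U.1) (𝓘.subscheme.presheaf.stalk d) b =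
      (𝓘.subscheme.presheaf.germ (𝓘.subschemeι ⁻¹ᵁ U.1) d hd).hom b := fun _ => rfl
  apply le_antisymm
  · intro r hr
    rw [RingHom.mem_ker] at hr
    obtain ⟨a, s, rfl⟩ := IsLocalization.exists_mk'_eq
      (U.2.primeIdealOf ⟨𝓘.subschemeι d, hx⟩).asIdeal.primeCompl r
    have h1 : (𝓘.subschemeι.stalkMap d).hom
        (algebraMap Γ(X, U.1) (X.presheaf.stalk (𝓘.subschemeι d)) a) = 0 := by
      rw [← IsLocalization.mk'_spec (X.presheaf.stalk (𝓘.subschemeι d)) a s, map_mul, hr, zero_mul]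
    rw [hgX, hcompat, ← hgZ,
      IsLocalization.map_eq_zero_iff (hV.primeIdealOf ⟨d, hd⟩).asIdeal.primeCompl] at h1
    obtain ⟨⟨t, ht⟩, htm⟩ := h1
    obtain ⟨u, rfl⟩ := 𝓘.subschemeι_app_surjective U t
    have hu : u ∈ (U.2.primeIdealOf ⟨𝓘.subschemeι d, hx⟩).asIdeal.primeCompl := by
      intro hu
      apply ht
      have h2 : algebraMap Γ(X, U.1) (X.presheaf.stalk (𝓘.subschemeι d)) u ∈
          IsLocalRing.maximalIdeal (X.presheaf.stalk (𝓘.subschemeι d)) :=
        (IsLocalization.AtPrime.to_map_mem_maximal_iff _ _ u).mpr hu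
      have h3 : (𝓘.subschemeι.stalkMap d).hom
          (algebraMap Γ(X, U.1) (X.presheaf.stalk (𝓘.subschemeι d)) u) ∈
          IsLocalRing.maximalIdeal (𝓘.subscheme.presheaf.stalk d) := by
        rw [IsLocalRing.mem_maximalIdeal, mem_nonunits_iff] at h2 ⊢
        intro h4
        exact h2 (isUnit_of_map_unit (𝓘.subschemeι.stalkMap d).hom _ h4)
      rw [hgX, hcompat, ← hgZ] at h3
      exact (IsLocalization.AtPrime.to_map_mem_maximal_iff _
        (hV.primeIdealOf ⟨d, hd⟩).asIdeal _).mp h3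
    have h5 : u * a ∈ 𝓘.ideal U := by
      rw [← 𝓘.ker_subschemeι_app U, RingHom.mem_ker, map_mul]
      exact htm
    have h6 : algebraMap Γ(X, U.1) (X.presheaf.stalk (𝓘.subschemeι d)) (u * a) ∈
        (𝓘.ideal U).map (X.presheaf.germ U.1 (𝓘.subschemeι d) hx).hom :=
      Ideal.mem_map_of_mem _ h5
    have h7 : IsLocalization.mk' (X.presheaf.stalk (𝓘.subschemeι d)) a s =
        IsLocalization.mk' (X.presheaf.stalk (𝓘.subschemeι d)) 1 (⟨u, hu⟩ * s) *
          algebraMap Γ(X, U.1) (X.presheaf.stalk (𝓘.subschemeι d)) (u * a) := by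
      rw [IsLocalization.mk'_eq_iff_eq_mul]
      have h8 := IsLocalization.mk'_spec (X.presheaf.stalk (𝓘.subschemeι d)) (1 : Γ(X, U.1))
        (⟨u, hu⟩ * s)
      calc algebraMap Γ(X, U.1) (X.presheaf.stalk (𝓘.subschemeι d)) a
          = algebraMap Γ(X, U.1) (X.presheaf.stalk (𝓘.subschemeι d)) 1 *
            algebraMap Γ(X, U.1) (X.presheaf.stalk (𝓘.subschemeι d)) a := by
            rw [map_one, one_mul]
        _ = _ := by
            rw [← h8]
            simp only [Submonoid.coe_mul, map_mul]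
            ring
    rw [h7]
    exact Ideal.mul_mem_left _ _ h6
  · rw [Ideal.map_le_iff_le_comap]
    intro a ha
    rw [Ideal.mem_comap, RingHom.mem_ker, hcompat]
    have : (𝓘.subschemeι.app U.1).hom a = 0 := by
      rw [← RingHom.mem_ker, 𝓘.ker_subschemeι_app U]; exact ha
    rw [this, map_zero]

theorem stalkMap_subschemeι_surjective {X : Scheme.{u}} (𝓘 : X.IdealSheafData) (d : 𝓘.subscheme) :
    Function.Surjective (𝓘.subschemeι.stalkMap d).hom :=
  𝓘.subschemeι.stalkMap_surjective d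

end Groth.Agent.Helper3.SubStalk
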