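import Mathlib
import Groth.Prelude.Def_CurvBase
import Groth.Prelude.Def_BlowUp2

set_option autoImplicit false

universe u

open AlgebraicGeometry CategoryTheory

namespace Groth.Agent.Helper3.Cartier

variable {X : Scheme.{u}}

lemma fromSpec_mem {U : X.Opens} (hU : IsAffineOpen U) (q : PrimeSpectrum Γ(X, U)) :
    hU.fromSpec q ∈ U := by
  have : hU.fromSpec q ∈ Set.range hU.fromSpec := ⟨q, rfl⟩
  rw [hU.range_fromSpec] at this
  exact this

lemma mem_support_fromSpec_iff (D : X.IdealSheafData) {U : X.Opens} (hU : IsAffineOpen U)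
    (q : PrimeSpectrum Γ(X, U)) :
    hU.fromSpec q ∈ D.support ↔ D.ideal ⟨U, hU⟩ ≤ q.asIdeal := by
  rw [Scheme.IdealSheafData.mem_support_iff_of_mem (U := ⟨U, hU⟩) (fromSpec_mem hU q)]
  have h := Set.ext_iff.mp (hU.fromSpec_preimage_zeroLocus (D.ideal ⟨U, hU⟩ : Set Γ(X, U))) q
  exact h.trans ((PrimeSpectrum.mem_zeroLocus q _).trans SetLike.coe_subset_coe)

/-- The prime of a maximal point of the support is minimal over the ideal. -/
lemma primeIdealOf_mem_minimalPrimes (D : X.IdealSheafData) {U : X.Opens} (hU : IsAffineOpen U)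
    (ξ : X) (hξU : ξ ∈ U) (hξ : ξ ∈ (D.support : Set X))
    (hgen : ∀ y ∈ (D.support : Set X), y ⤳ ξ → y = ξ) :
    (hU.primeIdealOf ⟨ξ, hξU⟩).asIdeal ∈ (D.ideal ⟨U, hU⟩).minimalPrimes := by
  set p := hU.primeIdealOf ⟨ξ, hξU⟩ with hp
  have hpξ : hU.fromSpec p = ξ := hU.fromSpec_primeIdealOf ⟨ξ, hξU⟩
  refine ⟨⟨p.isPrime, ?_⟩, ?_⟩
  · rw [← mem_support_fromSpec_iff, hpξ]; exact hξ
  · rintro q ⟨hq, hDq⟩ hqp
    let q' : PrimeSpectrum Γ(X, U) := ⟨q, hq⟩
    have h1 : hU.fromSpec q' ∈ (D.support : Set X) := (mem_support_fromSpec_iff D hU q').mpr hDq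
    have h2 : hU.fromSpec q' ⤳ ξ := by
      rw [← hpξ]
      apply Specializes.map _ hU.fromSpec.continuous
      exact (PrimeSpectrum.le_iff_specializes q' p).mp hqp
    have h3 := hgen _ h1 h2
    rw [← hpξ] at h3
    have h4 : q' = p := hU.fromSpec.isOpenEmbedding.injective h3
    rw [← h4]


/-- Height of the prime of a maximal point of the support of a principal ideal is at most one. -/
theorem height_le_one [IsLocallyNoetherian X] (D : X.IdealSheafData) (U : X.affineOpens)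
    (f : Γ(X, U.1)) (hf : D.ideal U = Ideal.span {f}) (ξ : X) (hξU : ξ ∈ U.1)
    (hξ : ξ ∈ (D.support : Set X)) (hgen : ∀ y ∈ (D.support : Set X), y ⤳ ξ → y = ξ) :
    (U.2.primeIdealOf ⟨ξ, hξU⟩).asIdeal.height ≤ 1 := by
  have : IsNoetherianRing Γ(X, U.1) := IsLocallyNoetherian.component_noetherian U
  have hmin := primeIdealOf_mem_minimalPrimes D U.2 ξ hξU hξ hgen
  have hf' : D.ideal ⟨U.1, U.2⟩ = Ideal.span {f} := hf
  rw [hf'] at hmin
  have : (Ideal.span {f}).IsPrincipal := ⟨⟨f, rfl⟩⟩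
  exact Ideal.height_le_one_of_isPrincipal_of_mem_minimalPrimes _ _ hmin

theorem ringKrullDim_stalk_eq_height (U : X.affineOpens) (ξ : X) (hξU : ξ ∈ U.1) :
    ringKrullDim (X.presheaf.stalk ξ) = (U.2.primeIdealOf ⟨ξ, hξU⟩).asIdeal.height := by
  let := X.presheaf.algebra_section_stalk (U := U.1) ⟨ξ, hξU⟩
  have := U.2.isLocalization_stalk ⟨ξ, hξU⟩
  exact IsLocalization.AtPrime.ringKrullDim_eq_height
    (U.2.primeIdealOf ⟨ξ, hξU⟩).asIdeal (X.presheaf.stalk ξ)

theorem dim_le_one_of_isLocPrincipal [IsLocallyNoetherian X]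
    (D : X.IdealSheafData) (hD : Curv2.IsLocPrincipal D) (ξ : X)
    (hξ : ξ ∈ (D.support : Set X)) (hgen : ∀ y ∈ (D.support : Set X), y ⤳ ξ → y = ξ) :
    ringKrullDim (X.presheaf.stalk ξ) ≤ 1 := by
  obtain ⟨U, hξU, f, hf⟩ := hD ξ hξ
  rw [ringKrullDim_stalk_eq_height U ξ hξU]
  exact_mod_cast height_le_one D U f hf ξ hξU hξ hgen

theorem dim_eq_one_of_isEffCartier [IsLocallyNoetherian X]
    (D : X.IdealSheafData) (hD : BlowUp.IsEffCartierIdeal D) (ξ : X)
    (hξ : ξ ∈ (D.support : Set X)) (hgen : ∀ y ∈ (D.support : Set X), y ⤳ ξ → y = ξ) :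
    ringKrullDim (X.presheaf.stalk ξ) = 1 := by
  obtain ⟨U, hξU, f, hfnzd, hf⟩ := hD ξ
  rw [ringKrullDim_stalk_eq_height U ξ hξU]
  have h1 := height_le_one D U f hf ξ hξU hξ hgen
  have h0 : (U.2.primeIdealOf ⟨ξ, hξU⟩).asIdeal.height ≠ 0 := by
    intro h0
    rw [Ideal.height_eq_zero_iff] at h0
    have hdisj := Ideal.disjoint_nonZeroDivisors_of_mem_minimalPrimes h0
    have hmin := primeIdealOf_mem_minimalPrimes D U.2 ξ hξU hξ hgen
    have hfp : f ∈ (U.2.primeIdealOf ⟨ξ, hξU⟩).asIdeal := by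
      apply hmin.1.2
      have hf' : D.ideal ⟨U.1, U.2⟩ = Ideal.span {f} := hf
      rw [hf']
      exact Ideal.subset_span rfl
    exact Set.disjoint_left.mp hdisj hfp hfnzd
  have : (U.2.primeIdealOf ⟨ξ, hξU⟩).asIdeal.height = 1 :=
    le_antisymm h1 (Order.one_le_iff_ne_zero.mpr h0)
  rw [this]
  rfl

section DVR
open IsLocalRing

/-- A Noetherian local ring whose maximal ideal is generated by a nonzerodivisor is a domain. -/
theorem isDomain_of_maximalIdeal_eq_span {S : Type*} [CommRing S] [IsNoetherianRing S]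
    [IsLocalRing S] (t : S) (ht : t ∈ nonZeroDivisors S) (hm : maximalIdeal S = Ideal.span {t}) :
    IsDomain S := by
  have key : ∀ x : S, x ≠ 0 → ∃ (n : ℕ) (u : S), IsUnit u ∧ x = u * t ^ n := by
    intro x hx
    have hinf : ⨅ i : ℕ, maximalIdeal S ^ i = ⊥ :=
      Ideal.iInf_pow_eq_bot_of_isLocalRing _ (Ideal.IsPrime.ne_top inferInstance)
    have hex : ∃ n : ℕ, x ∉ maximalIdeal S ^ n := by
      by_contra h
      push Not at h
      apply hx
      have : x ∈ ⨅ i : ℕ, maximalIdeal S ^ i := by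
        rw [Ideal.mem_iInf]; exact h
      rwa [hinf] at this
    classical
    let n := Nat.find hex
    have hn : x ∉ maximalIdeal S ^ n := Nat.find_spec hex
    have hn0 : n ≠ 0 := by
      intro h0
      rw [h0, pow_zero, Ideal.one_eq_top] at hn
      exact hn trivial
    obtain ⟨k, hk⟩ := Nat.exists_eq_succ_of_ne_zero hn0
    have hk' : x ∈ maximalIdeal S ^ k := by
      by_contra h
      have := Nat.find_min' hex h
      omega
    rw [hm, Ideal.span_singleton_pow, Ideal.mem_span_singleton] at hk'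
    obtain ⟨u, rfl⟩ := hk'
    refine ⟨k, u, ?_, mul_comm _ _⟩
    by_contra hu
    have hu' : u ∈ maximalIdeal S := (mem_maximalIdeal u).mpr hu
    apply hn
    rw [hk, pow_succ, hm, Ideal.span_singleton_pow]
    rw [hm, Ideal.mem_span_singleton] at hu'
    obtain ⟨w, rfl⟩ := hu'
    rw [Ideal.span_singleton_mul_span_singleton, Ideal.mem_span_singleton]
    exact ⟨w, by ring⟩
  have : NoZeroDivisors S := by
    refine ⟨fun {x y} hxy => ?_⟩
    by_contra h
    push Not at h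
    obtain ⟨n, u, hu, rfl⟩ := key x h.1
    obtain ⟨k, v, hv, rfl⟩ := key y h.2
    have h1 : (u * v) * t ^ (n + k) = 0 := by rw [← hxy, pow_add]; ring
    have h2 : t ^ (n + k) = 0 := (hu.mul hv).mul_right_eq_zero.mp h1
    have h3 : t ^ (n + k) ∈ nonZeroDivisors S := pow_mem ht _
    exact nonZeroDivisors.ne_zero h3 h2
  exact NoZeroDivisors.to_isDomain S

theorem isDiscreteValuationRing_of_maximalIdeal_eq_span {S : Type*} [CommRing S]
    [IsNoetherianRing S] [IsLocalRing S] (t : S) (ht : t ∈ nonZeroDivisors S)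
    (hm : maximalIdeal S = Ideal.span {t}) :
    ∃ _ : IsDomain S, IsDiscreteValuationRing S := by
  have hd := isDomain_of_maximalIdeal_eq_span t ht hm
  refine ⟨hd, ?_⟩
  have hnf : ¬ IsField S := by
    intro hf
    have : maximalIdeal S = ⊥ := IsLocalRing.isField_iff_maximalIdeal_eq.mp hf
    rw [hm, Ideal.span_singleton_eq_bot] at this
    exact nonZeroDivisors.ne_zero ht this
  have hp : (maximalIdeal S).IsPrincipal := ⟨⟨t, hm⟩⟩
  exact ((IsDiscreteValuationRing.TFAE S hnf).out 0 4).mpr hp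


theorem isDVR_stalk_of_isIntegral [IsNoetherian X]
    (D : X.IdealSheafData) (hD : BlowUp.IsEffCartierIdeal D) [IsIntegral D.subscheme]
    (ξ : X) (hξ : IsGenericPoint ξ (D.support : Set X)) :
    ∃ _ : IsDomain (X.presheaf.stalk ξ), IsDiscreteValuationRing (X.presheaf.stalk ξ) := by
  have hξs : ξ ∈ (D.support : Set X) := hξ.mem
  have hgen : ∀ y ∈ (D.support : Set X), y ⤳ ξ → y = ξ := by
    intro y hy hyξ
    have : ξ ⤳ y := hξ.specializes hy
    exact (hyξ.antisymm this).eq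
  obtain ⟨U, hξU, f, hfnzd, hf⟩ := hD ξ
  have : IsNoetherianRing Γ(X, U.1) := IsLocallyNoetherian.component_noetherian U
  -- the ideal is prime
  have hprime : (D.ideal U).IsPrime := by
    obtain ⟨z, hz⟩ : ξ ∈ Set.range D.subschemeι := by rw [D.range_subschemeι]; exact hξs
    have : Nonempty (D.subschemeι ⁻¹ᵁ U.1 : D.subscheme.Opens) := ⟨⟨z, by
      show D.subschemeι z ∈ U.1
      rw [hz]; exact hξU⟩⟩
    have hdom : IsDomain Γ(D.subscheme, D.subschemeι ⁻¹ᵁ U.1) := inferInstance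
    have : IsDomain (Γ(X, U.1) ⧸ D.ideal U) :=
      (D.subschemeObjIso U).commRingCatIsoToRingEquiv.symm.toMulEquiv.isDomain _
    exact (Ideal.Quotient.isDomain_iff_prime _).mp this
  have hmin := primeIdealOf_mem_minimalPrimes D U.2 ξ hξU hξs hgen
  have hpeq : (U.2.primeIdealOf ⟨ξ, hξU⟩).asIdeal = Ideal.span {f} := by
    have h1 : (D.ideal ⟨U.1, U.2⟩).IsPrime := hprime
    rw [Ideal.minimalPrimes_eq_subsingleton_self, Set.mem_singleton_iff] at hmin
    rw [hmin]; exact hf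
  let := X.presheaf.algebra_section_stalk (U := U.1) ⟨ξ, hξU⟩
  have hloc := U.2.isLocalization_stalk ⟨ξ, hξU⟩
  have : IsNoetherianRing (X.presheaf.stalk ξ) :=
    IsLocalization.isNoetherianRing (U.2.primeIdealOf ⟨ξ, hξU⟩).asIdeal.primeCompl _ inferInstance
  have hmax : maximalIdeal (X.presheaf.stalk ξ) =
      Ideal.span {algebraMap Γ(X, U.1) (X.presheaf.stalk ξ) f} := by
    rw [← IsLocalization.AtPrime.map_eq_maximalIdeal (U.2.primeIdealOf ⟨ξ, hξU⟩).asIdeal, hpeq,
      Ideal.map_span, Set.image_singleton]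
  have hnzd : algebraMap Γ(X, U.1) (X.presheaf.stalk ξ) f ∈ nonZeroDivisors (X.presheaf.stalk ξ) :=
    IsLocalization.map_nonZeroDivisors_le (U.2.primeIdealOf ⟨ξ, hξU⟩).asIdeal.primeCompl _
      (Submonoid.mem_map_of_mem _ hfnzd)
  exact isDiscreteValuationRing_of_maximalIdeal_eq_span _ hnzd hmax

end DVR

end Groth.Agent.Helper3.Cartier
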