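import Mathlib
import Groth.Prelude.Def_BlowUp2
import Groth.Agent.Lib.Helper3.Cartier

set_option autoImplicit false
universe u v
open CategoryTheory CategoryTheory.Limits AlgebraicGeometry

namespace Groth.Agent.Helper3.Cartier3

theorem exists_mul_mem_of_fg {A : Type*} [CommRing A] (p : Ideal A) [p.IsPrime] (I J : Ideal A)
    (hI : I.FG) (h : ∀ j ∈ I, ∃ t ∉ p, t * j ∈ J) : ∃ t ∉ p, ∀ j ∈ I, t * j ∈ J := by
  classical
  obtain ⟨s, rfl⟩ := hI
  choose! t ht1 ht2 using h
  refine ⟨∏ j ∈ s, t j, ?_, ?_⟩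
  · intro hmem
    obtain ⟨j, hj, hjp⟩ := (Ideal.IsPrime.prod_mem_iff).mp hmem
    exact ht1 j (Ideal.subset_span hj) hjp
  · intro j hj
    induction hj using Submodule.span_induction with
    | mem x hx =>
      obtain ⟨c, hc⟩ := Finset.dvd_prod_of_mem t hx
      rw [hc, mul_right_comm]
      exact Ideal.mul_mem_right _ _ (ht2 x (Ideal.subset_span hx))
    | zero => simp
    | add x y _ _ hx hy => rw [mul_add]; exact J.add_mem hx hy
    | smul a x _ hx =>
      rw [smul_eq_mul, mul_left_comm]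
      exact Ideal.mul_mem_left _ _ hx

theorem spread_principal {A : Type u} [CommRing A] [IsNoetherianRing A] (p : Ideal A) [p.IsPrime]
    (Ap : Type v) [CommRing Ap] [Algebra A Ap] [IsLocalization.AtPrime Ap p] (I : Ideal A)
    (g : Ap) (hg : g ∈ nonZeroDivisors Ap) (hI : I.map (algebraMap A Ap) = Ideal.span {g}) :
    ∃ h ∉ p, ∃ i ∈ I, ∀ (B : Type u) [CommRing B] [Algebra A B] [IsLocalization.Away h B],
      algebraMap A B i ∈ nonZeroDivisors B ∧
        I.map (algebraMap A B) = Ideal.span {algebraMap A B i} := by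
  classical
  -- Step 1: replace g by the image of an element of I
  have hgI : g ∈ I.map (algebraMap A Ap) := by rw [hI]; exact Ideal.mem_span_singleton_self g
  obtain ⟨⟨⟨i, hiI⟩, ⟨s, hs⟩⟩, hgs⟩ :=
    (IsLocalization.mem_map_algebraMap_iff p.primeCompl Ap).mp hgI
  simp only at hgs
  have hsu : IsUnit (algebraMap A Ap s) := IsLocalization.map_units Ap ⟨s, hs⟩
  have hinz : algebraMap A Ap i ∈ nonZeroDivisors Ap := by
    rw [← hgs]
    exact mul_mem hg hsu.mem_nonZeroDivisors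
  have hI' : I.map (algebraMap A Ap) = Ideal.span {algebraMap A Ap i} := by
    rw [hI, ← hgs, Ideal.span_singleton_mul_right_unit hsu]
  -- Step 2
  have h2 : ∀ j ∈ I, ∃ t ∉ p, t * j ∈ Ideal.span {i} := by
    intro j hj
    have hj' : algebraMap A Ap j ∈ Ideal.span {algebraMap A Ap i} := by
      rw [← hI']; exact Ideal.mem_map_of_mem _ hj
    obtain ⟨c, hc⟩ := Ideal.mem_span_singleton'.mp hj'
    obtain ⟨⟨a, ⟨s', hs'⟩⟩, hcs⟩ := IsLocalization.surj p.primeCompl c
    simp only at hcs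
    have : algebraMap A Ap (a * i) = algebraMap A Ap (s' * j) := by
      rw [map_mul, map_mul, ← hcs, ← hc]; ring
    obtain ⟨⟨c', hc'⟩, hcc⟩ := (IsLocalization.eq_iff_exists p.primeCompl Ap).mp this
    simp only at hcc
    refine ⟨c' * s', fun hmem => ?_, ?_⟩
    · rcases Ideal.IsPrime.mem_or_mem ‹_› hmem with h | h
      · exact hc' h
      · exact hs' h
    · rw [mul_assoc, ← hcc, ← mul_assoc]
      exact Ideal.mul_mem_left _ _ (Ideal.mem_span_singleton_self i)
  obtain ⟨h₁, hh₁p, hh₁⟩ := exists_mul_mem_of_fg p I (Ideal.span {i})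
    (IsNoetherian.noetherian I) h2
  -- Step 3
  let K : Ideal A := Submodule.annihilator (Ideal.span {i})
  have hK : ∀ a, a ∈ K ↔ a * i = 0 := fun a => by
    simp only [K]
    rw [Submodule.mem_annihilator_span_singleton, smul_eq_mul]
  have h3 : ∀ a ∈ K, ∃ t ∉ p, t * a ∈ (⊥ : Ideal A) := by
    intro a ha
    have h0 : algebraMap A Ap a * algebraMap A Ap i = 0 := by
      rw [← map_mul, (hK a).mp ha, map_zero]
    have h1 : algebraMap A Ap a = 0 := (mul_right_mem_nonZeroDivisors_eq_zero_iff hinz).mp h0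
    obtain ⟨⟨m, hm⟩, hma⟩ := (IsLocalization.map_eq_zero_iff p.primeCompl Ap a).mp h1
    exact ⟨m, hm, by simpa using hma⟩
  obtain ⟨h₂, hh₂p, hh₂⟩ := exists_mul_mem_of_fg p K ⊥ (IsNoetherian.noetherian K) h3
  refine ⟨h₁ * h₂, fun hmem => ?_, i, hiI, ?_⟩
  · rcases Ideal.IsPrime.mem_or_mem ‹_› hmem with h | h
    · exact hh₁p h
    · exact hh₂p h
  intro B _ _ _
  have hu : IsUnit (algebraMap A B (h₁ * h₂)) := IsLocalization.Away.algebraMap_isUnit _
  rw [map_mul] at hu
  have hu1 : IsUnit (algebraMap A B h₁) := isUnit_of_mul_isUnit_left hu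
  have hu2 : IsUnit (algebraMap A B h₂) := isUnit_of_mul_isUnit_right hu
  constructor
  · rw [mem_nonZeroDivisors_iff_right]
    intro b hb
    obtain ⟨⟨a, ⟨s', hs'⟩⟩, hbs⟩ := IsLocalization.surj (Submonoid.powers (h₁ * h₂)) b
    simp only at hbs
    have hs'u : IsUnit (algebraMap A B s') :=
      IsLocalization.map_units B (⟨s', hs'⟩ : Submonoid.powers (h₁ * h₂))
    have h0 : algebraMap A B (a * i) = 0 := by
      rw [map_mul, ← hbs, mul_right_comm, hb, zero_mul]
    obtain ⟨⟨m, hm⟩, hma⟩ :=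
      (IsLocalization.map_eq_zero_iff (Submonoid.powers (h₁ * h₂)) B _).mp h0
    simp only at hma
    have hmu : IsUnit (algebraMap A B m) :=
      IsLocalization.map_units B (⟨m, hm⟩ : Submonoid.powers (h₁ * h₂))
    have hmaK : m * a ∈ K := by rw [hK, mul_assoc]; exact hma
    have := hh₂ _ hmaK
    rw [Ideal.mem_bot] at this
    have h4 : algebraMap A B h₂ * algebraMap A B m * algebraMap A B a = 0 := by
      rw [← map_mul, ← map_mul, mul_assoc, this, map_zero]
    have h5 : algebraMap A B a = 0 := by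
      rwa [(hu2.mul hmu).mul_right_eq_zero] at h4
    rw [h5] at hbs
    exact (hs'u.mul_left_eq_zero).mp hbs
  · apply le_antisymm
    · rw [Ideal.map_le_iff_le_comap]
      intro j hj
      rw [Ideal.mem_comap]
      obtain ⟨c, hc⟩ := Ideal.mem_span_singleton'.mp (hh₁ j hj)
      have h6 : algebraMap A B h₁ * algebraMap A B j = algebraMap A B c * algebraMap A B i := by
        rw [← map_mul, ← map_mul, hc]
      have h7 : algebraMap A B j = ↑hu1.unit⁻¹ * algebraMap A B c * algebraMap A B i := by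
        rw [mul_assoc, ← h6, ← mul_assoc, IsUnit.val_inv_mul, one_mul]
      rw [h7]
      exact Ideal.mul_mem_left _ _ (Ideal.mem_span_singleton_self _)
    · rw [Ideal.span_singleton_le_iff_mem]
      exact Ideal.mem_map_of_mem _ hiI

open Groth.Agent.Helper3.Cartier in
theorem isEffCartier_of_stalk (X : Scheme.{u}) [IsLocallyNoetherian X] (D : X.IdealSheafData)
    (h : ∀ x ∈ D.support, ∀ (U : X.affineOpens) (hx : x ∈ (U : X.Opens)),
      ∃ g : X.presheaf.stalk x, g ∈ nonZeroDivisors (X.presheaf.stalk x) ∧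
        (D.ideal U).map (X.presheaf.germ U x hx).hom = Ideal.span {g}) :
    BlowUp.IsEffCartierIdeal D := by
  intro x
  by_cases hxD : x ∈ D.support
  · obtain ⟨_, ⟨U, hU, rfl⟩, hxU, -⟩ :=
      X.isBasis_affineOpens.exists_subset_of_mem_open (Set.mem_univ x) isOpen_univ
    obtain ⟨g, hg, hgI⟩ := h x hxD ⟨U, hU⟩ hxU
    have : IsNoetherianRing Γ(X, U) := IsLocallyNoetherian.component_noetherian ⟨U, hU⟩
    let := X.presheaf.algebra_section_stalk (U := U) ⟨x, hxU⟩
    have := hU.isLocalization_stalk ⟨x, hxU⟩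
    obtain ⟨a, hap, i, hiI, H⟩ := spread_principal (hU.primeIdealOf ⟨x, hxU⟩).asIdeal
      (X.presheaf.stalk x) (D.ideal ⟨U, hU⟩) g hg hgI
    have := hU.isLocalization_basicOpen a
    obtain ⟨h1, h2⟩ := H Γ(X, X.basicOpen a)
    refine ⟨X.affineBasicOpen (U := ⟨U, hU⟩) a, ?_, algebraMap Γ(X, U) Γ(X, X.basicOpen a) i, h1, ?_⟩
    · have h3 : hU.primeIdealOf ⟨x, hxU⟩ ∈ hU.fromSpec ⁻¹ᵁ X.basicOpen a := by
        rw [hU.fromSpec_preimage_basicOpen]
        exact hap
      have h4 : hU.fromSpec (hU.primeIdealOf ⟨x, hxU⟩) ∈ X.basicOpen a := h3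
      rwa [hU.fromSpec_primeIdealOf ⟨x, hxU⟩] at h4
    · rw [← D.map_ideal_basicOpen ⟨U, hU⟩ a]; exact h2
  · obtain ⟨_, ⟨V, hV, rfl⟩, hxV, hVD⟩ :=
      X.isBasis_affineOpens.exists_subset_of_mem_open
        (show x ∈ (D.support : Set X)ᶜ from hxD) D.support.isClosed.isOpen_compl
    refine ⟨⟨V, hV⟩, hxV, 1, one_mem _, ?_⟩
    rw [Ideal.span_singleton_one]
    by_contra hne
    obtain ⟨m, hm, hle⟩ := Ideal.exists_le_maximal _ hne
    let q : PrimeSpectrum Γ(X, V) := ⟨m, hm.isPrime⟩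
    have := (mem_support_fromSpec_iff D hV q).mpr hle
    exact hVD (fromSpec_mem hV q) this

end Groth.Agent.Helper3.Cartier3
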