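import Groth.Prelude.Def_BlowUp2
import Groth.Agent.Lib.Helper3.Cartier
import Groth.Agent.Lib.Helper3.Cartier3
import Mathlib

universe u

open CategoryTheory CategoryTheory.Limits AlgebraicGeometry TopologicalSpace

namespace Groth.Agent.Helper3.UFDCartier

theorem principal_of_height_one {R : Type*} [CommRing R] [IsDomain R] [UniqueFactorizationMonoid R]
    (P : Ideal R) [P.IsPrime] (h : P.height = 1) : ∃ π : R, π ≠ 0 ∧ P = Ideal.span {π} := by
  have hne : P ≠ ⊥ := by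
    rintro rfl
    rw [Ideal.height_bot] at h
    exact zero_ne_one h
  obtain ⟨π, hπP, hπ⟩ := Ideal.IsPrime.exists_mem_prime_of_ne_bot ‹P.IsPrime› hne
  refine ⟨π, hπ.ne_zero, ?_⟩
  have hQ : (Ideal.span {π}).IsPrime := (Ideal.span_singleton_prime hπ.ne_zero).mpr hπ
  have hle : Ideal.span {π} ≤ P := (Ideal.span_singleton_le_iff_mem _).mpr hπP
  by_contra hne'
  have hlt : Ideal.span {π} < P := lt_of_le_of_ne hle (Ne.symm hne')
  have h1 := Ideal.height_add_one_le_of_lt_of_isPrime hlt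
  rw [h] at h1
  have h0 : (Ideal.span {π}).height = 0 := by
    generalize (Ideal.span {π}).height = a at h1
    induction a with
    | top => simp at h1
    | coe a =>
      have : a + 1 ≤ 1 := by exact_mod_cast h1
      have : a = 0 := by omega
      simp [this]
  rw [Ideal.height_eq_zero_iff_eq_bot] at h0
  exact hπ.ne_zero (by simpa using h0)

theorem isEffCartier_of_ufd (X : Scheme.{u}) [IsLocallyNoetherian X] (𝓘 : X.IdealSheafData)
    [IsIntegral 𝓘.subscheme]
    (hcodim : ringKrullDim (X.presheaf.stalk (𝓘.subschemeι (genericPoint ↥𝓘.subscheme))) = 1)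
    (hufd : ∀ x : ↥X, x ∈ 𝓘.support →
      IsDomain (X.presheaf.stalk x) ∧ UniqueFactorizationMonoid (X.presheaf.stalk x)) :
    BlowUp.IsEffCartierIdeal 𝓘 := by
  apply Cartier3.isEffCartier_of_stalk
  intro x hx U hxU
  obtain ⟨hdom, hufd'⟩ := hufd x hx
  have hne : Nonempty (𝓘.subschemeι ⁻¹ᵁ U.1) := by
    rw [← SetLike.mem_coe, ← 𝓘.range_subschemeι] at hx
    obtain ⟨y, rfl⟩ := hx
    exact ⟨⟨y, hxU⟩⟩
  have hIprime : (𝓘.ideal U).IsPrime := by
    have h1 : IsDomain Γ(𝓘.subscheme, 𝓘.subschemeι ⁻¹ᵁ U.1) := inferInstance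
    have e := (𝓘.subschemeObjIso U).commRingCatIsoToRingEquiv
    have h2 : IsDomain (Γ(X, U.1) ⧸ 𝓘.ideal U) := e.symm.toMulEquiv.isDomain _
    exact (Ideal.Quotient.isDomain_iff_prime _).mp h2
  -- the point of `U` corresponding to the prime ideal `𝓘(U)`
  let q : PrimeSpectrum Γ(X, U.1) := ⟨𝓘.ideal U, hIprime⟩
  have hyU : U.2.fromSpec q ∈ U.1 := Cartier.fromSpec_mem U.2 q
  have hysupp : U.2.fromSpec q ∈ 𝓘.support :=
    (Cartier.mem_support_fromSpec_iff 𝓘 U.2 q).mpr le_rfl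
  have hspec : 𝓘.subschemeι (genericPoint ↥𝓘.subscheme) ⤳ U.2.fromSpec q := by
    rw [← SetLike.mem_coe, ← 𝓘.range_subschemeι] at hysupp
    obtain ⟨y', hy'⟩ := hysupp
    rw [← hy']
    exact (genericPoint_specializes y').map 𝓘.subschemeι.continuous
  have hηU : 𝓘.subschemeι (genericPoint ↥𝓘.subscheme) ∈ U.1 :=
    hspec.mem_open U.1.isOpen hyU
  have hηsupp : 𝓘.subschemeι (genericPoint ↥𝓘.subscheme) ∈ 𝓘.support := by
    rw [← SetLike.mem_coe, ← 𝓘.range_subschemeι]; exact ⟨_, rfl⟩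
  have hq : (U.2.primeIdealOf ⟨_, hηU⟩).asIdeal = 𝓘.ideal U := by
    apply le_antisymm
    · have h1 : U.2.fromSpec (U.2.primeIdealOf ⟨_, hηU⟩) ⤳ U.2.fromSpec q := by
        rw [U.2.fromSpec_primeIdealOf]; exact hspec
      have h2 := (U.2.fromSpec.isOpenEmbedding.isInducing.specializes_iff).mp h1
      exact (PrimeSpectrum.le_iff_specializes _ _).mpr h2
    · have h1 : U.2.fromSpec (U.2.primeIdealOf ⟨_, hηU⟩) ∈ 𝓘.support := by
        rw [U.2.fromSpec_primeIdealOf]; exact hηsupp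
      exact (Cartier.mem_support_fromSpec_iff 𝓘 U.2 _).mp h1
  have hht : (𝓘.ideal U).height = 1 := by
    have := Cartier.ringKrullDim_stalk_eq_height U _ hηU
    rw [hcodim, hq] at this
    exact_mod_cast this.symm
  -- pass to the stalk at x
  have hIx : 𝓘.ideal U ≤ (U.2.primeIdealOf ⟨x, hxU⟩).asIdeal := by
    have h1 : U.2.fromSpec (U.2.primeIdealOf ⟨x, hxU⟩) ∈ 𝓘.support := by
      rw [U.2.fromSpec_primeIdealOf]; exact hx
    exact (Cartier.mem_support_fromSpec_iff 𝓘 U.2 _).mp h1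
  let _ := X.presheaf.algebra_section_stalk (U := U.1) ⟨x, hxU⟩
  have hloc := U.2.isLocalization_stalk ⟨x, hxU⟩
  have hdisj : Disjoint ((U.2.primeIdealOf ⟨x, hxU⟩).asIdeal.primeCompl : Set Γ(X, U.1))
      (𝓘.ideal U : Set Γ(X, U.1)) := by
    rw [Set.disjoint_left]
    intro a ha ha'
    exact ha (hIx ha')
  have hPprime : ((𝓘.ideal U).map (algebraMap Γ(X, U.1) (X.presheaf.stalk x))).IsPrime :=
    IsLocalization.isPrime_of_isPrime_disjoint _ _ _ hIprime hdisj
  have hPht : ((𝓘.ideal U).map (algebraMap Γ(X, U.1) (X.presheaf.stalk x))).height = 1 := by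
    rw [IsLocalization.height_map_of_disjoint _ _ hdisj, hht]
  obtain ⟨π, hπ0, hP⟩ := principal_of_height_one _ hPht
  exact ⟨π, mem_nonZeroDivisors_of_ne_zero hπ0, hP⟩

end Groth.Agent.Helper3.UFDCartier
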