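import Mathlib
import Groth.Prelude.Def_BlowUp2
import Groth.Agent.Lib.Helper3.UFDCartier
import Groth.Agent.Lib.Helper3.SubStalk

universe u

open CategoryTheory CategoryTheory.Limits AlgebraicGeometry TopologicalSpace

namespace Groth.Agent.Helper3.UFDCartier2

theorem principal_of_ass_height_one {R : Type*} [CommRing R] [IsDomain R] [IsNoetherianRing R]
    [UniqueFactorizationMonoid R] (J : Ideal R)
    (hAss : ∀ P ∈ associatedPrimes R (R ⧸ J), P.height = 1) :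
    ∃ g : R, g ≠ 0 ∧ J = Ideal.span {g} := by
  induction J using WellFoundedGT.induction with
  | ind J ih =>
  by_cases htop : J = ⊤
  · exact ⟨1, one_ne_zero, by rw [htop, Ideal.span_singleton_one]⟩
  have hnt : Nontrivial (R ⧸ J) := Ideal.Quotient.nontrivial_iff.mpr htop
  obtain ⟨P, hP⟩ := associatedPrimes.nonempty R (R ⧸ J)
  have hPprime : P.IsPrime := hP.isPrime
  obtain ⟨π, hπ0, hPπ⟩ := UFDCartier.principal_of_height_one P (hAss P hP)
  have hJP : J ≤ P := by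
    have := hP.annihilator_le
    rwa [Submodule.annihilator_top, Ideal.annihilator_quotient] at this
  -- J ≠ ⊥
  have hJbot : J ≠ ⊥ := by
    rintro rfl
    obtain ⟨_, x, hx⟩ := (isAssociatedPrime_iff).mp hP
    obtain ⟨r, rfl⟩ := Ideal.Quotient.mk_surjective x
    have hπP : π ∈ P := hPπ ▸ Ideal.mem_span_singleton_self π
    rw [hx, Submodule.mem_colon_singleton, Submodule.mem_bot] at hπP
    have h1 : π * r = 0 := by
      have : Ideal.Quotient.mk (⊥ : Ideal R) (π * r) = 0 := by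
        rw [map_mul]; exact hπP
      rwa [Ideal.Quotient.eq_zero_iff_mem, Ideal.mem_bot] at this
    have hr : r = 0 := (mul_eq_zero.mp h1).resolve_left hπ0
    apply hPprime.ne_top
    rw [hx, hr, map_zero]
    ext a
    simp [Submodule.mem_colon_singleton]
  let J' : Ideal R := Submodule.comap (LinearMap.mulLeft R π) J
  have hJ'mem : ∀ r, r ∈ J' ↔ π * r ∈ J := fun r => Iff.rfl
  have hJJ' : J ≤ J' := fun a ha => (hJ'mem a).mpr (J.mul_mem_left π ha)
  have hJeq : J = Ideal.span {π} * J' := by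
    apply le_antisymm
    · intro a ha
      have : a ∈ Ideal.span {π} := hPπ ▸ hJP ha
      obtain ⟨r, rfl⟩ := Ideal.mem_span_singleton'.mp this
      rw [mul_comm r π] at ha ⊢
      exact Ideal.mul_mem_mul (Ideal.mem_span_singleton_self π) ((hJ'mem r).mpr ha)
    · rw [Ideal.mul_le]
      intro a ha b hb
      obtain ⟨c, rfl⟩ := Ideal.mem_span_singleton'.mp ha
      rw [mul_assoc]
      exact J.mul_mem_left c ((hJ'mem b).mp hb)
  have hlt : J < J' := by
    refine lt_of_le_of_ne hJJ' fun h => hJbot ?_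
    have h1 : J ≤ Ideal.span {π} • J := by
      conv_lhs => rw [hJeq, ← h]
      exact le_of_eq (smul_eq_mul _ _).symm
    obtain ⟨r, hr1, hr2⟩ := Submodule.exists_sub_one_mem_and_smul_eq_zero_of_fg_of_le_smul
      (Ideal.span {π}) J (IsNoetherian.noetherian J) h1
    have hr0 : r ≠ 0 := by
      rintro rfl
      apply hPprime.ne_top
      rw [hPπ, Ideal.eq_top_iff_one]
      have : (0 : R) - 1 ∈ Ideal.span {π} := hr1
      simpa using (Ideal.neg_mem_iff _).mp (by simpa using this)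
    rw [eq_bot_iff]
    intro a ha
    have := hr2 a ha
    rw [smul_eq_mul, mul_eq_zero] at this
    exact (Ideal.mem_bot).mpr (this.resolve_left hr0)
  have hAss' : ∀ Q ∈ associatedPrimes R (R ⧸ J'), Q.height = 1 := by
    intro Q hQ
    apply hAss Q
    let m : (R ⧸ J') →ₗ[R] (R ⧸ J) :=
      Submodule.mapQ J' J (LinearMap.mulLeft R π) (fun r hr => hr)
    have hm : Function.Injective m := by
      rw [injective_iff_map_eq_zero]
      intro x hx
      obtain ⟨r, rfl⟩ := Submodule.Quotient.mk_surjective _ x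
      rw [Submodule.mapQ_apply, Submodule.Quotient.mk_eq_zero] at hx
      exact (Submodule.Quotient.mk_eq_zero _).mpr hx
    exact associatedPrimes.subset_of_injective hm hQ
  obtain ⟨g', hg'0, hg'⟩ := ih J' hlt hAss'
  refine ⟨π * g', mul_ne_zero hπ0 hg'0, ?_⟩
  rw [hJeq, hg', Ideal.span_singleton_mul_span_singleton]

theorem exists_ass_of_surjective {R R' : Type*} [CommRing R] [CommRing R'] (φ : R →+* R')
    (hφ : Function.Surjective φ) (P : Ideal R)
    (hP : P ∈ associatedPrimes R (R ⧸ RingHom.ker φ)) :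
    P.map φ ∈ associatedPrimes R' R' ∧ (P.map φ).comap φ = P := by
  have hkP : RingHom.ker φ ≤ P := by
    have := hP.annihilator_le
    rwa [Submodule.annihilator_top, Ideal.annihilator_quotient] at this
  have hcomap : (P.map φ).comap φ = P := by
    rw [Ideal.comap_map_of_surjective' φ hφ]
    exact sup_eq_left.mpr hkP
  refine ⟨?_, hcomap⟩
  obtain ⟨hprime, x, hx⟩ := hP
  obtain ⟨r, rfl⟩ := Ideal.Quotient.mk_surjective x
  have hprime' : (P.map φ).IsPrime := Ideal.map_isPrime_of_surjective hφ hkP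
  refine ⟨hprime', φ r, ?_⟩
  ext s'
  obtain ⟨s, rfl⟩ := hφ s'
  have h1 : φ s ∈ P.map φ ↔ s ∈ P := by
    rw [← Ideal.mem_comap, hcomap]
  rw [h1, hx]
  simp only [Ideal.mem_radical_iff, Submodule.mem_colon_singleton, Submodule.mem_bot]
  refine exists_congr fun n => ?_
  rw [smul_eq_mul, ← map_pow, ← map_mul, ← RingHom.mem_ker]
  rw [← Ideal.Quotient.eq_zero_iff_mem, map_mul]
  rfl

theorem height_of_ass {X : Scheme.{u}} [IsNoetherian X] (𝓘 : X.IdealSheafData)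
    (h1 : ∀ z : ↥𝓘.subscheme, IsAssociatedPrime
      (IsLocalRing.maximalIdeal ↑(𝓘.subscheme.presheaf.stalk z))
      ↑(𝓘.subscheme.presheaf.stalk z) → ∀ z' : ↥𝓘.subscheme, z' ⤳ z → z' = z)
    (h2 : ∀ z : ↥𝓘.subscheme, (∀ z' : ↥𝓘.subscheme, z' ⤳ z → z' = z) →
      ringKrullDim (X.presheaf.stalk (𝓘.subschemeι z)) = 1)
    (d : 𝓘.subscheme) (U : X.affineOpens) (hxU : 𝓘.subschemeι d ∈ U.1)
    (𝔓 : Ideal (𝓘.subscheme.presheaf.stalk d))
    (h𝔓 : 𝔓 ∈ associatedPrimes (𝓘.subscheme.presheaf.stalk d) (𝓘.subscheme.presheaf.stalk d)) :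
    (𝔓.comap (𝓘.subschemeι.stalkMap d).hom).height = 1 := by
  have hV : IsAffineOpen (𝓘.subschemeι ⁻¹ᵁ U.1) := U.2.preimage 𝓘.subschemeι
  have hd : d ∈ 𝓘.subschemeι ⁻¹ᵁ U.1 := hxU
  let _ := 𝓘.subscheme.presheaf.algebra_section_stalk (U := 𝓘.subschemeι ⁻¹ᵁ U.1) ⟨d, hd⟩
  have hlocZ := hV.isLocalization_stalk ⟨d, hd⟩
  have hNA : IsNoetherianRing Γ(X, U.1) := IsLocallyNoetherian.component_noetherian U
  have hNB : IsNoetherianRing Γ(𝓘.subscheme, 𝓘.subschemeι ⁻¹ᵁ U.1) :=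
    isNoetherianRing_of_surjective _ _ (𝓘.subschemeι.app U.1).hom (𝓘.subschemeι_app_surjective U)
  have hLM : IsLocalizedModule (hV.primeIdealOf ⟨d, hd⟩).asIdeal.primeCompl
      (Algebra.linearMap Γ(𝓘.subscheme, 𝓘.subschemeι ⁻¹ᵁ U.1) (𝓘.subscheme.presheaf.stalk d)) :=
    (isLocalizedModule_iff_isLocalization' _ _).mpr hlocZ
  have hq' : 𝔓.comap (algebraMap Γ(𝓘.subscheme, 𝓘.subschemeι ⁻¹ᵁ U.1)
      (𝓘.subscheme.presheaf.stalk d)) ∈
      associatedPrimes Γ(𝓘.subscheme, 𝓘.subschemeι ⁻¹ᵁ U.1)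
        Γ(𝓘.subscheme, 𝓘.subschemeι ⁻¹ᵁ U.1) :=
    Module.associatedPrimes.comap_mem_associatedPrimes_of_mem_associatedPrimes_of_isLocalizedModule_of_fg
      (hV.primeIdealOf ⟨d, hd⟩).asIdeal.primeCompl
      (Algebra.linearMap Γ(𝓘.subscheme, 𝓘.subschemeι ⁻¹ᵁ U.1) (𝓘.subscheme.presheaf.stalk d))
      𝔓 h𝔓 ((isNoetherianRing_iff_ideal_fg _).mp hNB _)
  have hq'prime := hq'.isPrime
  let q' : PrimeSpectrum Γ(𝓘.subscheme, 𝓘.subschemeι ⁻¹ᵁ U.1) :=
    ⟨𝔓.comap (algebraMap Γ(𝓘.subscheme, 𝓘.subschemeι ⁻¹ᵁ U.1)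
      (𝓘.subscheme.presheaf.stalk d)), hq'prime⟩
  have hz'V : hV.fromSpec q' ∈ 𝓘.subschemeι ⁻¹ᵁ U.1 := Cartier.fromSpec_mem hV q'
  let _ := 𝓘.subscheme.presheaf.algebra_section_stalk (U := 𝓘.subschemeι ⁻¹ᵁ U.1)
    ⟨hV.fromSpec q', hz'V⟩
  have hloc' : IsLocalization.AtPrime (𝓘.subscheme.presheaf.stalk (hV.fromSpec q')) q'.asIdeal :=
    hV.isLocalization_stalk' q' hz'V
  have hLM' : IsLocalizedModule q'.asIdeal.primeCompl
      (Algebra.linearMap Γ(𝓘.subscheme, 𝓘.subschemeι ⁻¹ᵁ U.1)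
        (𝓘.subscheme.presheaf.stalk (hV.fromSpec q'))) :=
    (isLocalizedModule_iff_isLocalization' _ _).mpr hloc'
  have hass' : IsLocalRing.maximalIdeal (𝓘.subscheme.presheaf.stalk (hV.fromSpec q')) ∈
      associatedPrimes (𝓘.subscheme.presheaf.stalk (hV.fromSpec q'))
        (𝓘.subscheme.presheaf.stalk (hV.fromSpec q')) := by
    apply Module.associatedPrimes.mem_associatedPrimes_of_comap_mem_associatedPrimes_of_isLocalizedModule
      q'.asIdeal.primeCompl (Algebra.linearMap Γ(𝓘.subscheme, 𝓘.subschemeι ⁻¹ᵁ U.1)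
        (𝓘.subscheme.presheaf.stalk (hV.fromSpec q')))
    have hu := IsLocalization.AtPrime.under_maximalIdeal
      (𝓘.subscheme.presheaf.stalk (hV.fromSpec q')) q'.asIdeal
    rw [Ideal.under_def] at hu
    rw [hu]
    exact hq'
  have hmax := h1 (hV.fromSpec q') hass'
  have hdim := h2 (hV.fromSpec q') hmax
  have hιz'U : 𝓘.subschemeι (hV.fromSpec q') ∈ U.1 := hz'V
  rw [Cartier.ringKrullDim_stalk_eq_height U _ hιz'U] at hdim
  let _ := X.presheaf.algebra_section_stalk (U := U.1) ⟨𝓘.subschemeι d, hxU⟩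
  have hlocX := U.2.isLocalization_stalk ⟨𝓘.subschemeι d, hxU⟩
  have hprime_eq : (U.2.primeIdealOf ⟨𝓘.subschemeι (hV.fromSpec q'), hιz'U⟩).asIdeal =
      (𝔓.comap (𝓘.subschemeι.stalkMap d).hom).comap
        (algebraMap Γ(X, U.1) (X.presheaf.stalk (𝓘.subschemeι d))) := by
    have h := IsAffineOpen.comap_primeIdealOf_appLE (f := 𝓘.subschemeι) U.1 U.2
      (𝓘.subschemeι ⁻¹ᵁ U.1) hV le_rfl hz'V
    have h' : hV.primeIdealOf ⟨hV.fromSpec q', hz'V⟩ = q' := by
      apply hV.fromSpec.isOpenEmbedding.injective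
      rw [hV.fromSpec_primeIdealOf]
    rw [← h, h']
    change Ideal.comap (𝓘.subschemeι.appLE U.1 (𝓘.subschemeι ⁻¹ᵁ U.1) le_rfl).hom
      (Ideal.comap (algebraMap Γ(𝓘.subscheme, 𝓘.subschemeι ⁻¹ᵁ U.1)
        (𝓘.subscheme.presheaf.stalk d)) 𝔓) = _
    rw [Ideal.comap_comap, Ideal.comap_comap]
    congr 1
    ext a
    have := Scheme.Hom.germ_stalkMap_apply 𝓘.subschemeι U.1 d hxU a
    rw [Scheme.Hom.app_eq_appLE] at this
    exact this.symm
  have hh := IsLocalization.height_under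
    (U.2.primeIdealOf ⟨𝓘.subschemeι d, hxU⟩).asIdeal.primeCompl
    (𝔓.comap (𝓘.subschemeι.stalkMap d).hom)
  rw [← hh, Ideal.under, ← hprime_eq]
  exact_mod_cast hdim

theorem isEffCartier_of_ufd_noEmb (X : Scheme.{u}) [IsNoetherian X] (𝓘 : X.IdealSheafData)
    (h1 : ∀ z : ↥𝓘.subscheme, IsAssociatedPrime
      (IsLocalRing.maximalIdeal ↑(𝓘.subscheme.presheaf.stalk z))
      ↑(𝓘.subscheme.presheaf.stalk z) → ∀ z' : ↥𝓘.subscheme, z' ⤳ z → z' = z)
    (h2 : ∀ z : ↥𝓘.subscheme, (∀ z' : ↥𝓘.subscheme, z' ⤳ z → z' = z) →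
      ringKrullDim (X.presheaf.stalk (𝓘.subschemeι z)) = 1)
    (h3 : ∀ x : ↥X, x ∈ 𝓘.support →
      IsDomain (X.presheaf.stalk x) ∧ UniqueFactorizationMonoid (X.presheaf.stalk x)) :
    BlowUp.IsEffCartierIdeal 𝓘 := by
  apply Cartier3.isEffCartier_of_stalk
  intro x hx U hxU
  obtain ⟨hdom, hufd⟩ := h3 x hx
  obtain ⟨d, rfl⟩ : ∃ d, 𝓘.subschemeι d = x := by
    rw [← SetLike.mem_coe, ← 𝓘.range_subschemeι] at hx; exact hx
  have hker := SubStalk.ker_stalkMap_subschemeι 𝓘 d U hxU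
  have hsurj := SubStalk.stalkMap_subschemeι_surjective 𝓘 d
  rw [← hker]
  have key : ∀ P ∈ associatedPrimes (X.presheaf.stalk (𝓘.subschemeι d))
      (X.presheaf.stalk (𝓘.subschemeι d) ⧸ RingHom.ker (𝓘.subschemeι.stalkMap d).hom),
      P.height = 1 := by
    intro P hP
    obtain ⟨hass, hcomap⟩ := exists_ass_of_surjective _ hsurj P hP
    rw [← hcomap]
    exact height_of_ass 𝓘 h1 h2 d U hxU _ hass
  obtain ⟨g, hg0, hg⟩ := principal_of_ass_height_one _ key
  exact ⟨g, mem_nonZeroDivisors_of_ne_zero hg0, hg⟩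

end Groth.Agent.Helper3.UFDCartier2
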