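import Mathlib.AlgebraicGeometry.Noetherian

/-! Irreducible components of a closed subset of a locally Noetherian scheme are locally finite. -/

universe u

open CategoryTheory AlgebraicGeometry TopologicalSpace

namespace Groth.Agent.Helper3.IrrLocFin

section Top

variable {Y : Type*} [TopologicalSpace Y]

/-- Only finitely many irreducible components meet an open subset that is a Noetherian space. -/
theorem finite_irreducibleComponents_meeting (V : Set Y) (hV : IsOpen V) [NoetherianSpace V] :
    {T | T ∈ irreducibleComponents Y ∧ (T ∩ V).Nonempty}.Finite := by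
  have hC : (irreducibleComponents V).Finite := NoetherianSpace.finite_irreducibleComponents
  refine (hC.image (fun c => closure ((↑) '' c : Set Y))).subset ?_
  rintro T ⟨hT, hTV⟩
  have hemb : Topology.IsOpenEmbedding ((↑) : V → Y) := hV.isOpenEmbedding_subtypeVal
  have hTirr : IsIrreducible T := hT.1
  have hpre : IsIrreducible (((↑) : V → Y) ⁻¹' T) :=
    hTirr.preimage hemb (by rwa [Subtype.range_coe])
  obtain ⟨c, hc, hsub⟩ := exists_mem_irreducibleComponents_subset_of_isIrreducible _ hpre
  refine ⟨c, hc, ?_⟩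
  have hW : IsIrreducible (closure (((↑) : V → Y) '' c)) :=
    (hc.1.image _ continuous_subtype_val.continuousOn).closure
  have hTW : T ⊆ closure (((↑) : V → Y) '' c) := by
    refine (subset_closure_inter_of_isPreirreducible_of_isOpen hTirr.isPreirreducible hV hTV).trans
      (closure_mono ?_)
    rintro y ⟨hyT, hyV⟩
    exact ⟨⟨y, hyV⟩, hsub hyT, rfl⟩
  exact (hT.eq_of_subset hW hTW).symm

end Top

theorem main (X : Scheme.{u}) [IsLocallyNoetherian X] (Z : Set ↥X) (hZ : IsClosed Z) :
    LocallyFinite (fun T : ↥(irreducibleComponents ↥Z) => ((↑) '' (T.1 : Set ↥Z) : Set ↥X)) := by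
  intro x
  obtain ⟨_, ⟨U, hU, rfl⟩, hxU, -⟩ :=
    X.isBasis_affineOpens.exists_subset_of_mem_open (Set.mem_univ x) isOpen_univ
  have hU' : IsAffineOpen U := hU
  refine ⟨U, U.2.mem_nhds hxU, ?_⟩
  haveI : IsNoetherianRing Γ(X, U) := IsLocallyNoetherian.component_noetherian ⟨U, hU'⟩
  haveI hN : NoetherianSpace ((U : Set X) : Type u) := noetherianSpace_of_isAffineOpen U hU'
  let V : Set ↥Z := (↑) ⁻¹' (U : Set X)
  have hVopen : IsOpen V := U.2.preimage continuous_subtype_val
  let i : V → ((U : Set X) : Type u) := fun y => ⟨y.1.1, y.2⟩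
  have hi : Topology.IsInducing i := by
    have h1 : Topology.IsInducing (fun y : V => (y.1.1 : X)) :=
      Topology.IsInducing.subtypeVal.comp Topology.IsInducing.subtypeVal
    have hci : Continuous i :=
      (continuous_subtype_val.comp continuous_subtype_val).subtype_mk _
    exact Topology.IsInducing.of_comp hci continuous_subtype_val h1
  haveI : NoetherianSpace V := hi.noetherianSpace
  have hfin := finite_irreducibleComponents_meeting V hVopen
  refine (hfin.preimage Subtype.val_injective.injOn).subset ?_
  rintro T ⟨_, ⟨⟨z, hzT, rfl⟩, hzU⟩⟩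
  exact ⟨T.2, z, hzT, hzU⟩

theorem main' (X : Scheme.{u}) [IsLocallyNoetherian X] (Z : Set ↥X) :
    LocallyFinite (fun T : ↥(irreducibleComponents ↥Z) => ((↑) '' (T.1 : Set ↥Z) : Set ↥X)) := by
  intro x
  obtain ⟨_, ⟨U, hU, rfl⟩, hxU, -⟩ :=
    X.isBasis_affineOpens.exists_subset_of_mem_open (Set.mem_univ x) isOpen_univ
  have hU' : IsAffineOpen U := hU
  refine ⟨U, U.2.mem_nhds hxU, ?_⟩
  haveI : IsNoetherianRing Γ(X, U) := IsLocallyNoetherian.component_noetherian ⟨U, hU'⟩
  haveI hN : NoetherianSpace ((U : Set X) : Type u) := noetherianSpace_of_isAffineOpen U hU'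
  let V : Set ↥Z := (↑) ⁻¹' (U : Set X)
  have hVopen : IsOpen V := U.2.preimage continuous_subtype_val
  let i : V → ((U : Set X) : Type u) := fun y => ⟨y.1.1, y.2⟩
  have hi : Topology.IsInducing i := by
    have h1 : Topology.IsInducing (fun y : V => (y.1.1 : X)) :=
      Topology.IsInducing.subtypeVal.comp Topology.IsInducing.subtypeVal
    have hci : Continuous i :=
      (continuous_subtype_val.comp continuous_subtype_val).subtype_mk _
    exact Topology.IsInducing.of_comp hci continuous_subtype_val h1
  haveI : NoetherianSpace V := hi.noetherianSpace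
  have hfin := finite_irreducibleComponents_meeting V hVopen
  refine (hfin.preimage Subtype.val_injective.injOn).subset ?_
  rintro T ⟨_, ⟨⟨z, hzT, rfl⟩, hzU⟩⟩
  exact ⟨T.2, z, hzT, hzU⟩

end Groth.Agent.Helper3.IrrLocFin
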