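import Groth.Prelude.Def_Coh
import Groth.Prelude.Def_FlatMod2
import Groth.Agent.Lib.Helper13.LocFree2
import Groth.Agent.Lib.Helper3.IrrLocFin
import Mathlib

/-!
# Lengths of stalks of coherent modules at generic points of the support
-/

universe u v

open CategoryTheory CategoryTheory.Limits AlgebraicGeometry TopologicalSpace

namespace Groth.Agent.Helper3.CohLen

/-- A finite module over a Noetherian local ring supported at the closed point has finite
length. -/
theorem length_ne_top_of_support_subset (S : Type u) [CommRing S] [IsNoetherianRing S]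
    [IsLocalRing S] (N : Type v) [AddCommGroup N] [Module S N] [hfin : Module.Finite S N]
    (h : Module.support S N ⊆ {IsLocalRing.closedPoint S}) : Module.length S N ≠ ⊤ := by
  revert h
  induction hfin using IsNoetherianRing.induction_on_isQuotientEquivQuotientPrime S with
  | subsingleton N =>
    intro _
    rw [Module.length_eq_zero]
    simp
  | quotient N p f =>
    intro h
    have hp : p = IsLocalRing.closedPoint S := by
      have : p ∈ Module.support S N := by
        rw [f.support_eq, Module.support_eq_zeroLocus, Ideal.annihilator_quotient]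
        exact (PrimeSpectrum.mem_zeroLocus _ _).mpr le_rfl
      exact h this
    subst hp
    rw [f.length_eq]
    have : IsSimpleModule S (S ⧸ (IsLocalRing.closedPoint S).asIdeal) :=
      isSimpleModule_iff_isCoatom.mpr (Ideal.isMaximal_def.mp
        (inferInstanceAs (IsLocalRing.maximalIdeal S).IsMaximal))
    rw [Module.length_eq_one]
    simp
  | exact N₁ N₂ N₃ f g hf hg hfg h₁ h₃ =>
    intro h
    rw [Module.length_eq_add_of_exact f g hf hg hfg]
    have hsupp := Module.support_of_exact hfg hf hg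
    rw [hsupp] at h
    have e1 := h₁ (Set.subset_union_left.trans h)
    have e3 := h₃ (Set.subset_union_right.trans h)
    intro htop
    rcases ENat.add_eq_top.mp htop with h' | h'
    · exact e1 h'
    · exact e3 h'

open Groth.Agent.Helper13.QCohLoc Groth.Agent.Helper13.LocFree Groth.Agent.Helper13.FinType

section Generic

variable {X : Scheme.{u}} (F : X.Modules) [F.IsQuasicoherent]

/-- At a point of the support with no proper generalization in the support, the stalk is
supported at the closed point. -/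
theorem support_stalk_subset (ξ : X)
    (hgen : ∀ x : X, Nontrivial (F.presheaf.stalk x) → x ⤳ ξ → x = ξ) :
    Module.support (X.presheaf.stalk ξ) (F.presheaf.stalk ξ) ⊆
      {IsLocalRing.closedPoint (X.presheaf.stalk ξ)} := by
  obtain ⟨_, ⟨U, hU, rfl⟩, hξU, -⟩ :=
    X.isBasis_affineOpens.exists_subset_of_mem_open (Set.mem_univ ξ) isOpen_univ
  have hU' : IsAffineOpen U := hU
  intro q hq
  letI : Algebra Γ(X, U) (X.presheaf.stalk ξ) :=
    TopCat.Presheaf.algebra_section_stalk X.presheaf ⟨ξ, hξU⟩
  letI := modStalk F (⟨ξ, hξU⟩ : U)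
  haveI := isScalarTower_stalk F (⟨ξ, hξU⟩ : U)
  haveI := isLocalizedModule_germ F hU' ⟨ξ, hξU⟩
  haveI hloc := hU'.isLocalization_stalk ⟨ξ, hξU⟩
  let q' : PrimeSpectrum Γ(X, U) := q.comap (algebraMap Γ(X, U) (X.presheaf.stalk ξ))
  have hunit : ∀ t : (hU'.primeIdealOf ⟨ξ, hξU⟩).asIdeal.primeCompl,
      algebraMap Γ(X, U) (X.presheaf.stalk ξ) t ∉ q.asIdeal := by
    intro t ht
    have hu : IsUnit (algebraMap Γ(X, U) (X.presheaf.stalk ξ) t) :=
      IsLocalization.map_units _ t
    exact q.2.ne_top (Ideal.eq_top_of_isUnit_mem _ ht hu)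
  have hq'p : q' ≤ hU'.primeIdealOf ⟨ξ, hξU⟩ := by
    intro a ha
    by_contra hna
    exact hunit ⟨a, hna⟩ ha
  have hq'supp : q' ∈ Module.support Γ(X, U) Γ(F, U) := by
    rw [Module.mem_support_iff_exists_annihilator] at hq ⊢
    obtain ⟨n, hn⟩ := hq
    obtain ⟨⟨m, t⟩, hmt⟩ := IsLocalizedModule.surj
      (hU'.primeIdealOf ⟨ξ, hξU⟩).asIdeal.primeCompl (germLin F (⟨ξ, hξU⟩ : U)) n
    refine ⟨m, fun r hr => ?_⟩
    rw [Submodule.mem_annihilator_span_singleton] at hr
    have h0 : (algebraMap Γ(X, U) (X.presheaf.stalk ξ) r *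
        algebraMap Γ(X, U) (X.presheaf.stalk ξ) t) • n = 0 := by
      rw [mul_smul, algebraMap_smul, algebraMap_smul]
      change r • (t • n) = 0
      rw [hmt, ← map_smul, hr, map_zero]
    have h1 : algebraMap Γ(X, U) (X.presheaf.stalk ξ) r *
        algebraMap Γ(X, U) (X.presheaf.stalk ξ) t ∈ q.asIdeal :=
      hn (Submodule.mem_annihilator_span_singleton _ _ |>.mpr h0)
    rcases q.2.mem_or_mem h1 with h2 | h2
    · exact h2
    · exact absurd h2 (hunit t)
  -- the point corresponding to q'
  let y' : U := hU'.isoSpec.inv q'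
  have hy' : hU'.primeIdealOf y' = q' := by
    change hU'.isoSpec.hom (hU'.isoSpec.inv q') = q'
    rw [← Scheme.Hom.comp_apply, Iso.inv_hom_id]
    rfl
  have hynt : Nontrivial (F.presheaf.stalk (y' : X)) := by
    letI := modStalk F y'
    haveI := isScalarTower_stalk F y'
    haveI := isLocalizedModule_germ F hU' y'
    rw [Module.mem_support_iff, ← hy'] at hq'supp
    exact (IsLocalizedModule.iso (hU'.primeIdealOf y').asIdeal.primeCompl
      (germLin F y')).symm.toEquiv.nontrivial
  have hspec : (y' : X) ⤳ ξ := by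
    have h1 : q' ⤳ hU'.primeIdealOf ⟨ξ, hξU⟩ := (PrimeSpectrum.le_iff_specializes _ _).mp hq'p
    have h2 := h1.map hU'.fromSpec.continuous
    rw [hU'.fromSpec_primeIdealOf] at h2
    rw [← hy', hU'.fromSpec_primeIdealOf] at h2
    exact h2
  have hyξ : (y' : X) = ξ := hgen _ hynt hspec
  have hy'ξ : y' = ⟨ξ, hξU⟩ := Subtype.ext hyξ
  have hq'eq : q' = hU'.primeIdealOf ⟨ξ, hξU⟩ := by rw [← hy', hy'ξ]
  have hcl : (IsLocalRing.closedPoint (X.presheaf.stalk ξ)).comap
      (algebraMap Γ(X, U) (X.presheaf.stalk ξ)) = hU'.primeIdealOf ⟨ξ, hξU⟩ := by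
    apply PrimeSpectrum.ext
    exact IsLocalization.AtPrime.comap_maximalIdeal (X.presheaf.stalk ξ)
      (hU'.primeIdealOf ⟨ξ, hξU⟩).asIdeal
  have : q = IsLocalRing.closedPoint (X.presheaf.stalk ξ) :=
    PrimeSpectrum.localization_comap_injective (X.presheaf.stalk ξ)
      (hU'.primeIdealOf ⟨ξ, hξU⟩).asIdeal.primeCompl (hq'eq.trans hcl.symm)
  exact this

/-- Finite length of the stalk at generic points of the support. -/
theorem length_stalk_lt_top [IsLocallyNoetherian X]
    [SheafOfModules.IsFiniteType (R := X.ringCatSheaf) F] (ξ : X)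
    (hgen : ∀ x : X, Nontrivial (F.presheaf.stalk x) → x ⤳ ξ → x = ξ) :
    Module.length (X.presheaf.stalk ξ) (F.presheaf.stalk ξ) < ⊤ := by
  haveI : IsNoetherianRing (X.presheaf.stalk ξ) := inferInstance
  haveI : Module.Finite (X.presheaf.stalk ξ) (F.presheaf.stalk ξ) :=
    finite_stalk_of_isFiniteType F ξ
  exact lt_top_iff_ne_top.mpr
    (length_ne_top_of_support_subset _ _ (support_stalk_subset F ξ hgen))

end Generic

/-- S1916. -/
theorem s1916 (X : Scheme.{u}) [IsLocallyNoetherian X] (F : X.Modules) (hF : Coh.IsCoh F) :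
    LocallyFinite (fun Z : irreducibleComponents {x : X | Nontrivial (F.presheaf.stalk x)} =>
      ((↑) '' (Z : Set {x : X | Nontrivial (F.presheaf.stalk x)}) : Set X)) ∧
    ∀ ξ : X, Nontrivial (F.presheaf.stalk ξ) →
      (∀ x : X, Nontrivial (F.presheaf.stalk x) → x ⤳ ξ → x = ξ) →
      Module.length (X.presheaf.stalk ξ) (F.presheaf.stalk ξ) < ⊤ := by
  obtain ⟨hqc, hft⟩ := hF
  haveI : F.IsQuasicoherent := hqc
  haveI : SheafOfModules.IsFiniteType (R := X.ringCatSheaf) F := hft
  exact ⟨Groth.Agent.Helper3.IrrLocFin.main' X _, fun ξ _ hgen => length_stalk_lt_top F ξ hgen⟩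

end Groth.Agent.Helper3.CohLen
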