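import Mathlib

/-!
# Associated primes of `N ⊗_R M` for `N` flat over a noetherian ring `R` (helper3)

`s2069 : Ass_S(N ⊗_R M) = ⋃_{p ∈ Ass_R M} Ass_S(N/pN)` (Mathlib's radical-style associated primes,
`S` arbitrary). Also `tensorQuotEquiv : N/pN ≃ₗ[S] N ⊗_R R/p`, `claimA`, `mem_range_of_smul_eq_zero`.
-/

open TensorProduct

universe u

namespace Groth.Agent.Helper3.AssFlat

variable {R S : Type u} [CommRing R] [CommRing S] [Algebra R S]
variable {N : Type u} [AddCommGroup N] [Module S N] [Module R N] [IsScalarTower R S N]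

/-- The `S`-submodule `pN`. -/
abbrev pN (N : Type u) [AddCommGroup N] [Module S N] (p : Ideal R) : Submodule S N :=
  p.map (algebraMap R S) • (⊤ : Submodule S N)

theorem mem_pN_iff (p : Ideal R) (n : N) :
    n ∈ pN (S := S) N p ↔ n ∈ (p • (⊤ : Submodule R N)) := by
  constructor
  · intro h
    refine Submodule.smul_induction_on h ?_ ?_
    · intro a ha m _
      refine Submodule.span_induction (p := fun a _ => ∀ m : N, a • m ∈ p • (⊤ : Submodule R N))
        ?_ ?_ ?_ ?_ ha m
      · rintro _ ⟨r, hr, rfl⟩ m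
        rw [algebraMap_smul]
        exact Submodule.smul_mem_smul hr trivial
      · intro m; simp
      · intro x y _ _ hx hy m
        rw [add_smul]; exact Submodule.add_mem _ (hx m) (hy m)
      · intro s x _ hx m
        rw [smul_eq_mul, mul_comm, mul_smul]
        exact hx _
    · intro x y hx hy
      exact Submodule.add_mem _ hx hy
  · intro h
    refine Submodule.smul_induction_on h ?_ ?_
    · intro a ha m _
      rw [← algebraMap_smul S a m]
      exact Submodule.smul_mem_smul (Ideal.mem_map_of_mem _ ha) trivial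
    · intro x y hx hy
      exact Submodule.add_mem _ hx hy

/-- `N ⊗_R (R/p) ≃ N/pN`, `S`-linearly. -/
noncomputable def tensorQuotEquiv (p : Ideal R) :
    (N ⧸ pN (S := S) N p) ≃ₗ[S] N ⊗[R] (R ⧸ p) := by
  let ψ : N →ₗ[S] N ⊗[R] (R ⧸ p) :=
    { toFun := fun n => n ⊗ₜ 1
      map_add' := fun a b => add_tmul a b 1
      map_smul' := fun s n => (smul_tmul' s n (1 : R ⧸ p)).symm }
  have hker : pN (S := S) N p ≤ LinearMap.ker ψ := by
    intro n hn
    rw [mem_pN_iff] at hn
    rw [LinearMap.mem_ker]
    change n ⊗ₜ[R] (1 : R ⧸ p) = 0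
    have := (TensorProduct.tensorQuotEquivQuotSMul N p).symm.map_zero
    rw [← this, ← (Submodule.Quotient.mk_eq_zero _).mpr hn]
    rfl
  refine LinearEquiv.ofBijective (Submodule.liftQ _ ψ hker) ⟨?_, ?_⟩
  · rw [← LinearMap.ker_eq_bot, LinearMap.ker_eq_bot']
    intro x hx
    obtain ⟨n, rfl⟩ := Submodule.Quotient.mk_surjective _ x
    rw [Submodule.liftQ_apply] at hx
    change n ⊗ₜ[R] (1 : R ⧸ p) = 0 at hx
    have h2 : TensorProduct.tensorQuotEquivQuotSMul N p (n ⊗ₜ[R] (1 : R ⧸ p)) = 0 := by
      rw [hx, map_zero]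
    rw [← map_one (Ideal.Quotient.mk p), TensorProduct.tensorQuotEquivQuotSMul_tmul_mk,
      one_smul, Submodule.Quotient.mk_eq_zero] at h2
    rw [Submodule.Quotient.mk_eq_zero, mem_pN_iff]
    exact h2
  · intro z
    induction z with
    | zero => exact ⟨0, map_zero _⟩
    | tmul n r =>
      obtain ⟨r, rfl⟩ := Ideal.Quotient.mk_surjective r
      refine ⟨Submodule.Quotient.mk (r • n), ?_⟩
      rw [Submodule.liftQ_apply]
      change (r • n) ⊗ₜ[R] (1 : R ⧸ p) = n ⊗ₜ[R] (Ideal.Quotient.mk p r)
      rw [TensorProduct.smul_tmul, Algebra.smul_def, mul_one]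
      rfl
    | add a b ha hb =>
      obtain ⟨x, hx⟩ := ha
      obtain ⟨y, hy⟩ := hb
      exact ⟨x + y, by rw [map_add, hx, hy]⟩

/-- `S`-linear version of `lTensor N f`. -/
noncomputable abbrev lT (N : Type u) [AddCommGroup N] [Module S N] [Module R N] [IsScalarTower R S N]
    {A B : Type u} [AddCommGroup A] [Module R A] [AddCommGroup B] [Module R B] (f : A →ₗ[R] B) :
    N ⊗[R] A →ₗ[S] N ⊗[R] B :=
  TensorProduct.AlgebraTensorModule.lTensor S N f

theorem lT_apply {A B : Type u} [AddCommGroup A] [Module R A] [AddCommGroup B] [Module R B]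
    (f : A →ₗ[R] B) (z : N ⊗[R] A) : lT (S := S) N f z = f.lTensor N z := rfl

theorem claimA [IsNoetherianRing R] [Module.Flat R N]
    (M' : Type u) [AddCommGroup M'] [Module R M'] [hfin : Module.Finite R M'] :
    ∀ q ∈ associatedPrimes S (N ⊗[R] M'), ∃ p' : Ideal R, p'.IsPrime ∧
      Module.annihilator R M' ≤ p' ∧ q ∈ associatedPrimes S (N ⧸ pN (S := S) N p') := by
  induction hfin using IsNoetherianRing.induction_on_isQuotientEquivQuotientPrime R with
  | subsingleton M₁ =>
    intro q hq
    rw [associatedPrimes.eq_empty_of_subsingleton] at hq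
    exact absurd hq (Set.notMem_empty _)
  | quotient M₁ p e =>
    intro q hq
    refine ⟨p.asIdeal, p.2, ?_, ?_⟩
    · intro a ha
      have h1 : a • (e.symm (1 : R ⧸ p.asIdeal)) = 0 := Module.mem_annihilator.mp ha _
      rw [← map_smul, LinearEquiv.map_eq_zero_iff] at h1
      have h2 : (Ideal.Quotient.mk p.asIdeal a) = 0 := by
        rw [← h1, Algebra.smul_def, mul_one]; rfl
      exact Ideal.Quotient.eq_zero_iff_mem.mp h2
    · let e1 : N ⊗[R] M₁ ≃ₗ[S] N ⊗[R] (R ⧸ p.asIdeal) :=
        TensorProduct.AlgebraTensorModule.congr (LinearEquiv.refl S N) e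
      have := (LinearEquiv.AssociatedPrimes.eq (e1.trans (tensorQuotEquiv (S := S) (N := N) p.asIdeal).symm))
      rw [← this]
      exact hq
  | exact M₁ M₂ M₃ f g hf hg hfg ih1 ih3 =>
    intro q hq
    have hinj : Function.Injective (lT (S := S) N f) :=
      Module.Flat.lTensor_preserves_injective_linearMap f hf
    have hex : Function.Exact (lT (S := S) N f) (lT (S := S) N g) :=
      Module.Flat.lTensor_exact N hfg
    rcases associatedPrimes.subset_union_of_exact hinj hex hq with h | h
    · obtain ⟨p', hp', hann, hq'⟩ := ih1 q h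
      refine ⟨p', hp', ?_, hq'⟩
      refine le_trans ?_ hann
      intro a ha
      rw [Module.mem_annihilator] at ha ⊢
      intro m
      apply hf
      rw [map_smul, ha, map_zero]
    · obtain ⟨p', hp', hann, hq'⟩ := ih3 q h
      refine ⟨p', hp', ?_, hq'⟩
      refine le_trans ?_ hann
      intro a ha
      rw [Module.mem_annihilator] at ha ⊢
      intro m
      obtain ⟨m, rfl⟩ := hg m
      rw [← map_smul, ha, map_zero]

/-- Elements of `N ⊗ M` killed by a finitely generated ideal `I` come from `N ⊗ M[I]`. -/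
theorem mem_range_of_smul_eq_zero [Module.Flat R N] {M : Type u} [AddCommGroup M] [Module R M]
    (I : Ideal R) (hI : I.FG) (z : N ⊗[R] M) (hz : ∀ a ∈ I, a • z = 0) :
    ∃ M'' : Submodule R M, I ≤ Module.annihilator R M'' ∧
      z ∈ LinearMap.range (M''.subtype.lTensor N) := by
  classical
  obtain ⟨s, hs⟩ := hI
  let φ : M →ₗ[R] (s → M) := LinearMap.pi (fun a => LinearMap.lsmul R M (a : R))
  refine ⟨LinearMap.ker φ, ?_, ?_⟩
  · rw [← hs, Ideal.span_le]
    intro a ha
    rw [SetLike.mem_coe, Module.mem_annihilator]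
    rintro ⟨m, hm⟩
    apply Subtype.ext
    have := congrFun (LinearMap.mem_ker.mp hm) ⟨a, ha⟩
    simpa [φ] using this
  · have hex : Function.Exact (LinearMap.ker φ).subtype φ := LinearMap.exact_subtype_ker_map φ
    have hex' := Module.Flat.lTensor_exact N hex
    have key : ∀ (w : N ⊗[R] M) (a : s),
        (TensorProduct.piRight R R N (fun _ : s => M)) ((LinearMap.lTensor N φ) w) a =
        (a : R) • w := by
      intro w a
      induction w with
      | zero => simp
      | tmul n m => simp [φ]
      | add x y hx hy => simp only [map_add, Pi.add_apply, hx, hy, smul_add]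
    have h0 : (LinearMap.lTensor N φ) z = 0 := by
      apply (TensorProduct.piRight R R N (fun _ : s => M)).injective
      rw [map_zero]
      ext a
      rw [key z a]
      exact hz _ (hs ▸ Ideal.subset_span a.2)
    exact (hex' z).mp h0

theorem smul_eq_zero_of_mem_annihilator {M : Type u} [AddCommGroup M] [Module R M]
    (x : R) (hx : x ∈ Module.annihilator R M) (w : N ⊗[R] M) : x • w = 0 := by
  induction w with
  | zero => simp
  | tmul n m => rw [TensorProduct.smul_tmul', TensorProduct.smul_tmul,
      Module.mem_annihilator.mp hx m, tmul_zero]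
  | add a b ha hb => rw [smul_add, ha, hb, add_zero]

theorem sub_of_finite [IsNoetherianRing R] [Module.Flat R N] (M : Type u) [AddCommGroup M]
    [Module R M] [Module.Finite R M] (q : Ideal S) (hq : q ∈ associatedPrimes S (N ⊗[R] M)) :
    ∃ p ∈ associatedPrimes R M, q ∈ associatedPrimes S (N ⧸ pN (S := S) N p) := by
  obtain ⟨hqp, z, hz⟩ := hq
  let p : Ideal R := q.comap (algebraMap R S)
  have hpp : p.IsPrime := Ideal.comap_isPrime _ _
  have hpfg : p.FG := (isNoetherianRing_iff_ideal_fg R).mp inferInstance p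
  have hpq : p.map (algebraMap R S) ≤ (Submodule.colon (⊥ : Submodule S (N ⊗[R] M)) {z}).radical := by
    rw [← hz]; exact Ideal.map_comap_le
  obtain ⟨n, hn⟩ := Ideal.exists_pow_le_of_le_radical_of_fg hpq (hpfg.map _)
  have hkill : ∀ a ∈ p ^ n, a • z = 0 := by
    intro a ha
    have h1 : algebraMap R S a ∈ (p.map (algebraMap R S)) ^ n := by
      rw [← Ideal.map_pow]; exact Ideal.mem_map_of_mem _ ha
    have h2 := hn h1
    rw [Submodule.mem_colon_singleton, Submodule.mem_bot, algebraMap_smul] at h2
    exact h2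
  obtain ⟨M'', hann, z'', rfl⟩ := mem_range_of_smul_eq_zero (p ^ n) (hpfg.pow) z hkill
  have hinj : Function.Injective (lT (S := S) N M''.subtype) :=
    Module.Flat.lTensor_preserves_injective_linearMap M''.subtype M''.injective_subtype
  have hcolon : Submodule.colon (⊥ : Submodule S (N ⊗[R] M'')) {z''} =
      Submodule.colon (⊥ : Submodule S (N ⊗[R] M)) {(LinearMap.lTensor N M''.subtype) z''} := by
    ext s
    rw [Submodule.mem_colon_singleton, Submodule.mem_colon_singleton, Submodule.mem_bot,
      Submodule.mem_bot]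
    change _ ↔ s • (lT (S := S) N M''.subtype z'') = 0
    rw [← map_smul, ← (lT (S := S) N M''.subtype).map_zero, hinj.eq_iff]
  have hq'' : q ∈ associatedPrimes S (N ⊗[R] M'') := ⟨hqp, z'', by rw [hz, hcolon]⟩
  obtain ⟨p', hp', hann', hq'⟩ := claimA (S := S) (N := N) M'' q hq''
  have hle1 : p ≤ p' := hp'.le_of_pow_le (hann.trans hann')
  have hle2 : p' ≤ p := by
    intro x hx
    change algebraMap R S x ∈ q
    apply (IsAssociatedPrime.annihilator_le hq')
    rw [Submodule.mem_annihilator]
    intro m _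
    obtain ⟨m, rfl⟩ := Submodule.Quotient.mk_surjective _ m
    rw [← Submodule.Quotient.mk_smul, Submodule.Quotient.mk_eq_zero]
    exact Submodule.smul_mem_smul (Ideal.mem_map_of_mem _ hx) trivial
  have hpe : p' = p := le_antisymm hle2 hle1
  rw [hpe] at hq'
  refine ⟨p, ?_, hq'⟩
  have hle : Module.annihilator R M'' ≤ p := by
    intro x hx
    change algebraMap R S x ∈ q
    rw [hz]
    apply Ideal.le_radical
    rw [Submodule.mem_colon_singleton, Submodule.mem_bot, algebraMap_smul, ← map_smul,
      smul_eq_zero_of_mem_annihilator x hx, map_zero]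
  have hmin : p ∈ (Module.annihilator R M'').minimalPrimes := by
    refine ⟨⟨hpp, hle⟩, ?_⟩
    rintro p2 ⟨hp2, hle2⟩ _
    exact hp2.le_of_pow_le (hann.trans hle2)
  have := Module.associatedPrimes.minimalPrimes_annihilator_subset_associatedPrimes R M'' hmin
  exact associatedPrimes.subset_of_injective M''.injective_subtype this

theorem s2069 {M : Type u} [IsNoetherianRing R] [AddCommGroup M] [Module R M] [Module.Flat R N] :
    associatedPrimes S (N ⊗[R] M) =
      ⋃ p ∈ associatedPrimes R M,
        associatedPrimes S (N ⧸ p.map (algebraMap R S) • (⊤ : Submodule S N)) := by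
  apply Set.Subset.antisymm
  · intro q hq
    obtain ⟨hqp, z, hz⟩ := hq
    obtain ⟨M₀, hfin, hM₀⟩ := TensorProduct.exists_finite_submodule_right_of_setFinite
      ({z} : Set (N ⊗[R] M)) (Set.finite_singleton z)
    obtain ⟨z₀, rfl⟩ := hM₀ (Set.mem_singleton z)
    have hinj : Function.Injective (lT (S := S) N M₀.subtype) :=
      Module.Flat.lTensor_preserves_injective_linearMap M₀.subtype M₀.injective_subtype
    have hcolon : Submodule.colon (⊥ : Submodule S (N ⊗[R] M₀)) {z₀} =
        Submodule.colon (⊥ : Submodule S (N ⊗[R] M)) {(LinearMap.lTensor N M₀.subtype) z₀} := by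
      ext s
      rw [Submodule.mem_colon_singleton, Submodule.mem_colon_singleton, Submodule.mem_bot,
        Submodule.mem_bot]
      change _ ↔ s • (lT (S := S) N M₀.subtype z₀) = 0
      rw [← map_smul, ← (lT (S := S) N M₀.subtype).map_zero, hinj.eq_iff]
    have hq₀ : q ∈ associatedPrimes S (N ⊗[R] M₀) := ⟨hqp, z₀, by rw [hz, hcolon]⟩
    obtain ⟨p, hp, hqp'⟩ := sub_of_finite (S := S) (N := N) M₀ q hq₀
    exact Set.mem_iUnion₂.mpr
      ⟨p, associatedPrimes.subset_of_injective M₀.injective_subtype hp, hqp'⟩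
  · intro q hq
    obtain ⟨p, hp, hq'⟩ := Set.mem_iUnion₂.mp hq
    obtain ⟨hpp, f, hf⟩ := (isAssociatedPrime_iff_exists_injective_linearMap p M).mp hp
    have hinj : Function.Injective (lT (S := S) N f) :=
      Module.Flat.lTensor_preserves_injective_linearMap f hf
    have h1 : q ∈ associatedPrimes S (N ⊗[R] (R ⧸ p)) := by
      rw [← LinearEquiv.AssociatedPrimes.eq (tensorQuotEquiv (S := S) (N := N) p)]
      exact hq'
    exact associatedPrimes.subset_of_injective hinj h1

end Groth.Agent.Helper3.AssFlat
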