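import Groth.Agent.Lib.Helper3.TH3

/-!
# S13892: `K ⊗^L RHom(M, L) ⟶ RHom(M, K ⊗^L L)` is an isomorphism for perfect `K`
-/

set_option autoImplicit false

open CategoryTheory CategoryTheory.Limits MonoidalCategory

universe u

attribute [local instance] HasDerivedCategory.standard

namespace Groth.Agent.Helper3.TH

open Groth.Agent.Helper11.LDer Groth.Agent.Helper11.DC Groth.Agent.Helper11.Tel
open Groth.Agent.Helper3.HT Groth.Agent.Helper3.DT Groth.Agent.Helper3.RH Groth.Agent.Helper3.DS

variable {A : Type u} [CommRing A] [DTen.HasLTen A] [DTen.HasLTen₃ A] [DTen.IsSymMonoidal A]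
  [DTen.HasRHom A]

omit [DTen.HasLTen A] [DTen.HasLTen₃ A] [DTen.IsSymMonoidal A] [DTen.HasRHom A] in
theorem isKProjective_of_bounded (E : DRing.Cx A) (a b : ℤ) (hE : DRing.VanishesOutside E a b)
    (hfp : DRing.TermwiseFiniteProjective E) : E.IsKProjective :=
  isKProjective_of_vanishesAbove E b (fun i hi => hE i (Or.inr hi)) (fun i => (hfp i).2)

theorem isIso_evalTen_of_isPerfect_left (K L M : Dual.D A) (hK : DRing.IsPerfect A K) :
    IsIso (DTen.evalTen K L M) := by
  obtain ⟨E, a, b, hE, hfp, ⟨eK⟩⟩ := hK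
  haveI := isKProjective_of_bounded E a b hE hfp
  obtain ⟨W, hW, -, ⟨eL⟩⟩ := exists_kprojective_rep L
  obtain ⟨P, hP, -, ⟨eM⟩⟩ := exists_kprojective_rep M
  obtain ⟨R', s, hR', -, hs⟩ := exists_kprojective_resolution (DRing.homCx P W)
  haveI := quasiIso_whiskerLeft_of_perfect E a b hE hfp s hs
  haveI := quasiIso_θ_of_perfect E a b hE hfp P W
  have h := isIso_evalTen_of_quasiIso E P W R' s inferInstance
  exact isIso_evalTen_of_iso eK.symm eL.symm eM.symm h

end Groth.Agent.Helper3.TH
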