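import Groth.Agent.Lib.Helper11.KPF2
import Groth.Agent.Lib.Helper5.LDer1
import Mathlib.Algebra.Homology.DerivedCategory.KProjective

/-!
# Functorial K-projective resolutions on `K(A)`; absolute left derived functors (helper3)

* `KP.PF : K(A) ⥤ K(A)`, `KP.ψ : PF ⟶ 𝟭`: a (chosen) functorial K-projective resolution on the
  homotopy category of `A`-modules.
* `KP.isLeftDerivedFunctor_of_isIso`: a functor `G : D(A) ⥤ H` with `β : Qh ⋙ G ⟶ F` which is an
  isomorphism on K-projective complexes is a left derived functor of `F : K(A) ⥤ H`.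
* `KP.hasLeftDerivedFunctor`: every functor on `K(A)` has a left derived functor.
* `KP.isIso_counit`: the counit of any left derived functor is an isomorphism on K-projectives.
* `KP.isLeftDerivedFunctor_comp`: left derived functors on `K(A)` are absolute.
-/

set_option autoImplicit false

open CategoryTheory CategoryTheory.Limits

universe u

attribute [local instance] HasDerivedCategory.standard

namespace Groth.Agent.Helper3.KP

/-- the homotopy category of `A`-modules -/
abbrev KA (A : Type u) [CommRing A] := HomotopyCategory (ModuleCat.{u} A) (ComplexShape.up ℤ)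

/-- the quotient functor -/
abbrev quo (A : Type u) [CommRing A] :=
  HomotopyCategory.quotient (ModuleCat.{u} A) (ComplexShape.up ℤ)

/-- quasi-isomorphisms in `K(A)` -/
abbrev WK (A : Type u) [CommRing A] :=
  HomotopyCategory.quasiIso (ModuleCat.{u} A) (ComplexShape.up ℤ)

variable {A : Type u} [CommRing A]

theorem bijective_comp_of_W (P : DRing.Cx A) [P.IsKProjective] {Y Y' : KA A} (w : Y ⟶ Y')
    (hw : WK A w) : Function.Bijective (fun g : (quo A).obj P ⟶ Y => g ≫ w) := by
  haveI : IsIso (DerivedCategory.Qh.map w) := Localization.inverts _ (WK A) w hw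
  have h1 := CochainComplex.IsKProjective.Qh_map_bijective P Y
  have h2 := CochainComplex.IsKProjective.Qh_map_bijective P Y'
  constructor
  · intro g₁ g₂ h
    apply h1.1
    have := congrArg (fun t => DerivedCategory.Qh.map t) h
    simp only [Functor.map_comp] at this
    exact (cancel_mono _).mp this
  · intro g'
    obtain ⟨g, hg⟩ := h1.2 (DerivedCategory.Qh.map g' ≫ inv (DerivedCategory.Qh.map w))
    refine ⟨g, h2.1 ?_⟩
    simp [hg]

theorem isIso_of_W {P P' : DRing.Cx A} [P.IsKProjective] [P'.IsKProjective]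
    (g : (quo A).obj P ⟶ (quo A).obj P') (hg : WK A g) : IsIso g := by
  obtain ⟨h, hh⟩ := (bijective_comp_of_W P' g hg).2 (𝟙 _)
  dsimp only at hh
  refine ⟨h, ?_, hh⟩
  apply (bijective_comp_of_W P g hg).1
  dsimp only
  rw [Category.assoc, hh, Category.comp_id, Category.id_comp]

theorem exists_res (X : KA A) :
    ∃ (P : DRing.Cx A) (_ : P.IsKProjective) (p : (quo A).obj P ⟶ X), WK A p := by
  obtain ⟨T, F, hT, _, _, hF⟩ :=
    Groth.Agent.Helper11.KPF.exists_kprojective_kflat_resolution X.as
  exact ⟨T, hT, (quo A).map F, (HomotopyCategory.quotient_map_mem_quasiIso_iff F).2 hF⟩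

/-- the chosen K-projective resolution (object) -/
noncomputable def PO (X : KA A) : DRing.Cx A := (exists_res X).choose

instance (X : KA A) : (PO X).IsKProjective := (exists_res X).choose_spec.choose

/-- the chosen K-projective resolution (map) -/
noncomputable def pm (X : KA A) : (quo A).obj (PO X) ⟶ X :=
  (exists_res X).choose_spec.choose_spec.choose

theorem pm_W (X : KA A) : WK A (pm X) := (exists_res X).choose_spec.choose_spec.choose_spec

/-- the lift of a morphism to the resolutions -/
noncomputable def pmap {X Y : KA A} (f : X ⟶ Y) : (quo A).obj (PO X) ⟶ (quo A).obj (PO Y) :=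
  ((bijective_comp_of_W (PO X) (pm Y) (pm_W Y)).2 (pm X ≫ f)).choose

theorem pmap_fac {X Y : KA A} (f : X ⟶ Y) : pmap f ≫ pm Y = pm X ≫ f :=
  ((bijective_comp_of_W (PO X) (pm Y) (pm_W Y)).2 (pm X ≫ f)).choose_spec

theorem pmap_uniq {X Y : KA A} (f : X ⟶ Y) (g : (quo A).obj (PO X) ⟶ (quo A).obj (PO Y))
    (h : g ≫ pm Y = pm X ≫ f) : g = pmap f :=
  (bijective_comp_of_W (PO X) (pm Y) (pm_W Y)).1 (h.trans (pmap_fac f).symm)

/-- the functorial K-projective resolution on `K(A)` -/
noncomputable def PF : KA A ⥤ KA A where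
  obj X := (quo A).obj (PO X)
  map f := pmap f
  map_id X := (pmap_uniq _ _ (by rw [Category.id_comp, Category.comp_id])).symm
  map_comp f g := (pmap_uniq _ _ (by
    rw [Category.assoc, pmap_fac, ← Category.assoc, pmap_fac, Category.assoc])).symm

/-- the resolution map -/
noncomputable def ψ : PF (A := A) ⟶ 𝟭 (KA A) where
  app X := pm X
  naturality _ _ f := pmap_fac f

theorem hψ (X : KA A) : WK A ((ψ (A := A)).app X) := pm_W X

theorem isIso_PF_map {X Y : KA A} (f : X ⟶ Y) (hf : WK A f) : IsIso ((PF (A := A)).map f) := by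
  apply isIso_of_W
  have h1 : WK A (pmap f ≫ pm Y) := by
    rw [pmap_fac]
    exact (WK A).comp_mem _ _ (pm_W X) hf
  refine (HomotopyCategory.mem_quasiIso_iff _).2 (fun n => ?_)
  have h2 := (HomotopyCategory.mem_quasiIso_iff _).1 h1 n
  rw [Functor.map_comp] at h2
  haveI := (HomotopyCategory.mem_quasiIso_iff _).1 (pm_W Y) n
  haveI := h2
  exact IsIso.of_isIso_comp_right ((HomotopyCategory.homologyFunctor _ _ n).map (pmap f))
    ((HomotopyCategory.homologyFunctor _ _ n).map (pm Y))

variable {H : Type*} [Category H]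

theorem hPF (F : KA A ⥤ H) : (WK A).IsInvertedBy (PF ⋙ F) := fun X Y f hf => by
  haveI := isIso_PF_map f hf
  dsimp
  infer_instance

theorem isIso_ψ_app (P : DRing.Cx A) [P.IsKProjective] :
    IsIso ((ψ (A := A)).app ((quo A).obj P)) :=
  isIso_of_W (P := PO ((quo A).obj P)) (P' := P) _ (pm_W _)

theorem hF' (F : KA A ⥤ H) (Y : KA A) : IsIso (F.map ((ψ (A := A)).app (PF.obj Y))) := by
  haveI : IsIso ((ψ (A := A)).app (PF.obj Y)) := isIso_ψ_app (PO Y)
  infer_instance

/-- recognition of left derived functors on `K(A)` -/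
theorem isLeftDerivedFunctor_of_isIso (F : KA A ⥤ H) (G : Dual.D A ⥤ H)
    (β : DerivedCategory.Qh ⋙ G ⟶ F)
    (hβ : ∀ (P : DRing.Cx A) [P.IsKProjective], IsIso (β.app ((quo A).obj P))) :
    G.IsLeftDerivedFunctor β (WK A) :=
  Groth.Agent.Helper5.LDer.isLeftDerivedFunctor_of_isIso DerivedCategory.Qh (WK A) F PF ψ hψ
    (hPF F) (hF' F) G β (fun X => hβ (PO X))

/-- every functor on `K(A)` has a left derived functor -/
theorem hasLeftDerivedFunctor (F : KA A ⥤ H) : F.HasLeftDerivedFunctor (WK A) :=
  Groth.Agent.Helper5.LDer.hasLeftDerivedFunctor DerivedCategory.Qh (WK A) F PF ψ hψ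
    (hPF F) (hF' F)

/-- the counit of a left derived functor on `K(A)` is an isomorphism on K-projective complexes -/
theorem isIso_counit (F : KA A ⥤ H) (G : Dual.D A ⥤ H) (β : DerivedCategory.Qh ⋙ G ⟶ F)
    [G.IsLeftDerivedFunctor β (WK A)] (P : DRing.Cx A) [P.IsKProjective] :
    IsIso (β.app ((quo A).obj P)) :=
  Groth.Agent.Helper5.LDer.isIso_counit_app DerivedCategory.Qh (WK A) F PF ψ hψ
    (hPF F) (hF' F) G β ((quo A).obj P) (by
      haveI := isIso_ψ_app P
      infer_instance)

/-- left derived functors on `K(A)` are absolute -/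
theorem isLeftDerivedFunctor_comp {H' : Type*} [Category H'] (F : KA A ⥤ H) (G : Dual.D A ⥤ H)
    (β : DerivedCategory.Qh ⋙ G ⟶ F) [G.IsLeftDerivedFunctor β (WK A)] (E : H ⥤ H') :
    (G ⋙ E).IsLeftDerivedFunctor
      ((Functor.associator _ _ _).inv ≫ Functor.whiskerRight β E) (WK A) := by
  apply isLeftDerivedFunctor_of_isIso
  intro P _
  haveI := isIso_counit F G β P
  simp only [NatTrans.comp_app, Functor.associator_inv_app, Functor.whiskerRight_app,
    Category.id_comp]
  infer_instance

end Groth.Agent.Helper3.KP
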