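import Groth.Agent.Lib.Helper3.HT3
import Groth.Agent.Lib.Helper11.DCStupid
import Mathlib.Algebra.Homology.HomologicalComplexAbelian

/-!
# Degreewise split short exact sequences of complexes and dévissage (helper3)
-/

set_option autoImplicit false

open CategoryTheory CategoryTheory.Limits MonoidalCategory CochainComplex HomComplex
open scoped TensorProduct

universe u

attribute [local instance] HasDerivedCategory.standard

namespace Groth.Agent.Helper3.DS

open Groth.Agent.Helper3.HT

variable {A : Type u} [CommRing A]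

/-- a degreewise splitting of a short complex of complexes -/
structure DSplit (S : ShortComplex (DRing.Cx A)) where
  r : ∀ n : ℤ, S.X₂.X n ⟶ S.X₁.X n
  s : ∀ n : ℤ, S.X₃.X n ⟶ S.X₂.X n
  f_r : ∀ n, S.f.f n ≫ r n = 𝟙 _
  s_g : ∀ n, s n ≫ S.g.f n = 𝟙 _
  id : ∀ n, r n ≫ S.f.f n + S.g.f n ≫ s n = 𝟙 _

theorem DSplit.shortExact {S : ShortComplex (DRing.Cx A)} (h : DSplit S) : S.ShortExact := by
  apply HomologicalComplex.shortExact_of_degreewise_shortExact
  intro n
  exact ShortComplex.Splitting.shortExact
    { r := h.r n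
      s := h.s n
      f_r := h.f_r n
      s_g := h.s_g n
      id := h.id n }

theorem zero_whiskerRight' (X X' Y : DRing.Cx A) : (0 : X ⟶ X') ▷ Y = 0 := by
  apply HomologicalComplex.hom_ext
  intro m
  apply HomologicalComplex.mapBifunctor.hom_ext
  intro p q hpq
  change p + q = m at hpq
  erw [ι_whiskerRight (0 : X ⟶ X') Y p q m hpq]
  simp

theorem whiskerLeft_zero' (X Y Y' : DRing.Cx A) : X ◁ (0 : Y ⟶ Y') = 0 := by
  apply HomologicalComplex.hom_ext
  intro m
  apply HomologicalComplex.mapBifunctor.hom_ext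
  intro p q hpq
  change p + q = m at hpq
  erw [ι_whiskerLeft X (0 : Y ⟶ Y') p q m hpq]
  simp

/-- `- ⊗ Y` applied to a short complex -/
noncomputable abbrev scWhiskerRight (S : ShortComplex (DRing.Cx A)) (Y : DRing.Cx A) :
    ShortComplex (DRing.Cx A) :=
  ShortComplex.mk (S.f ▷ Y) (S.g ▷ Y) (by
    rw [← MonoidalCategory.comp_whiskerRight, S.zero, zero_whiskerRight'])

/-- `Y ⊗ -` applied to a short complex -/
noncomputable abbrev scWhiskerLeft (Y : DRing.Cx A) (S : ShortComplex (DRing.Cx A)) :
    ShortComplex (DRing.Cx A) :=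
  ShortComplex.mk (Y ◁ S.f) (Y ◁ S.g) (by
    rw [← MonoidalCategory.whiskerLeft_comp, S.zero, whiskerLeft_zero'])

noncomputable def DSplit.whiskerRight {S : ShortComplex (DRing.Cx A)} (h : DSplit S)
    (Y : DRing.Cx A) : DSplit (scWhiskerRight S Y) where
  r n := HomologicalComplex.mapBifunctorDesc (fun p q (hpq : p + q = n) =>
    (h.r p ▷ Y.X q) ≫ HomologicalComplex.ιTensorObj S.X₁ Y p q n hpq)
  s n := HomologicalComplex.mapBifunctorDesc (fun p q (hpq : p + q = n) =>
    (h.s p ▷ Y.X q) ≫ HomologicalComplex.ιTensorObj S.X₂ Y p q n hpq)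
  f_r n := by
    apply HomologicalComplex.mapBifunctor.hom_ext
    intro p q hpq
    change p + q = n at hpq
    erw [ι_whiskerRight_assoc S.f Y p q n hpq, HomologicalComplex.ι_mapBifunctorDesc]
    rw [← MonoidalCategory.comp_whiskerRight_assoc, h.f_r p, MonoidalCategory.id_whiskerRight,
      Category.id_comp]
    exact (Category.comp_id _).symm
  s_g n := by
    apply HomologicalComplex.mapBifunctor.hom_ext
    intro p q hpq
    change p + q = n at hpq
    erw [HomologicalComplex.ι_mapBifunctorDesc_assoc]
    erw [Category.assoc, ι_whiskerRight S.g Y p q n hpq]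
    rw [← MonoidalCategory.comp_whiskerRight_assoc, h.s_g p, MonoidalCategory.id_whiskerRight,
      Category.id_comp]
    exact (Category.comp_id _).symm
  id n := by
    apply HomologicalComplex.mapBifunctor.hom_ext
    intro p q hpq
    change p + q = n at hpq
    rw [Preadditive.comp_add]
    erw [HomologicalComplex.ι_mapBifunctorDesc_assoc, ι_whiskerRight_assoc S.g Y p q n hpq,
      HomologicalComplex.ι_mapBifunctorDesc]
    erw [Category.assoc, ι_whiskerRight S.f Y p q n hpq]
    rw [← MonoidalCategory.comp_whiskerRight_assoc, ← MonoidalCategory.comp_whiskerRight_assoc,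
      ← Preadditive.add_comp, ← MonoidalPreadditive.add_whiskerRight, h.id p,
      MonoidalCategory.id_whiskerRight, Category.id_comp]
    exact (Category.comp_id _).symm


noncomputable def DSplit.whiskerLeft (Y : DRing.Cx A) {S : ShortComplex (DRing.Cx A)}
    (h : DSplit S) : DSplit (scWhiskerLeft Y S) where
  r n := HomologicalComplex.mapBifunctorDesc (fun p q (hpq : p + q = n) =>
    (Y.X p ◁ h.r q) ≫ HomologicalComplex.ιTensorObj Y S.X₁ p q n hpq)
  s n := HomologicalComplex.mapBifunctorDesc (fun p q (hpq : p + q = n) =>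
    (Y.X p ◁ h.s q) ≫ HomologicalComplex.ιTensorObj Y S.X₂ p q n hpq)
  f_r n := by
    apply HomologicalComplex.mapBifunctor.hom_ext
    intro p q hpq
    change p + q = n at hpq
    erw [ι_whiskerLeft_assoc Y S.f p q n hpq, HomologicalComplex.ι_mapBifunctorDesc]
    rw [← MonoidalCategory.whiskerLeft_comp_assoc, h.f_r q, MonoidalCategory.whiskerLeft_id,
      Category.id_comp]
    exact (Category.comp_id _).symm
  s_g n := by
    apply HomologicalComplex.mapBifunctor.hom_ext
    intro p q hpq
    change p + q = n at hpq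
    erw [HomologicalComplex.ι_mapBifunctorDesc_assoc]
    erw [Category.assoc, ι_whiskerLeft Y S.g p q n hpq]
    rw [← MonoidalCategory.whiskerLeft_comp_assoc, h.s_g q, MonoidalCategory.whiskerLeft_id,
      Category.id_comp]
    exact (Category.comp_id _).symm
  id n := by
    apply HomologicalComplex.mapBifunctor.hom_ext
    intro p q hpq
    change p + q = n at hpq
    rw [Preadditive.comp_add]
    erw [HomologicalComplex.ι_mapBifunctorDesc_assoc, ι_whiskerLeft_assoc Y S.g p q n hpq,
      HomologicalComplex.ι_mapBifunctorDesc]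
    erw [Category.assoc, ι_whiskerLeft Y S.f p q n hpq]
    rw [← MonoidalCategory.whiskerLeft_comp_assoc, ← MonoidalCategory.whiskerLeft_comp_assoc,
      ← Preadditive.add_comp, ← MonoidalPreadditive.whiskerLeft_add, h.id q,
      MonoidalCategory.whiskerLeft_id, Category.id_comp]
    exact (Category.comp_id _).symm

theorem homCxMap_comp (P : DRing.Cx A) {W W' W'' : DRing.Cx A} (g : W ⟶ W') (g' : W' ⟶ W'') :
    DRing.homCxMap P (g ≫ g') = DRing.homCxMap P g ≫ DRing.homCxMap P g' :=
  (DRing.homCxFunctor P).map_comp g g'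

theorem homCxMap_zero (P W W' : DRing.Cx A) : DRing.homCxMap P (0 : W ⟶ W') = 0 := by
  have h := homCxMap_add P (0 : W ⟶ W') 0
  rw [add_zero] at h
  exact left_eq_add.mp h

theorem homCxPre_zero (P P' W : DRing.Cx A) : homCxPre (0 : P' ⟶ P) W = 0 := by
  have h := homCxPre_add (0 : P' ⟶ P) 0 W
  rw [add_zero] at h
  exact left_eq_add.mp h

/-- `Hom(P, -)` applied to a short complex -/
noncomputable abbrev scHomRight (P : DRing.Cx A) (S : ShortComplex (DRing.Cx A)) :
    ShortComplex (DRing.Cx A) :=
  ShortComplex.mk (DRing.homCxMap P S.f) (DRing.homCxMap P S.g) (by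
    rw [← homCxMap_comp, S.zero, homCxMap_zero])

/-- `Hom(-, W)` applied to a short complex -/
noncomputable abbrev scHomLeft (S : ShortComplex (DRing.Cx A)) (W : DRing.Cx A) :
    ShortComplex (DRing.Cx A) :=
  ShortComplex.mk (homCxPre S.g W) (homCxPre S.f W) (by
    rw [← homCxPre_comp, S.zero, homCxPre_zero])

theorem ofHoms_add {F G : DRing.Cx A} (a b : ∀ p : ℤ, F.X p ⟶ G.X p) :
    Cochain.ofHoms (fun p => a p + b p) = Cochain.ofHoms a + Cochain.ofHoms b := by
  refine Cochain.ext _ _ (fun p q hpq => ?_)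
  obtain rfl : p = q := by omega
  simp

theorem ofHoms_id (F : DRing.Cx A) : Cochain.ofHoms (fun p => 𝟙 (F.X p)) = Cochain.ofHom (𝟙 F) := by
  refine Cochain.ext _ _ (fun p q hpq => ?_)
  obtain rfl : p = q := by omega
  simp

/-- postcomposition with a family of maps, as a linear map on cochains -/
noncomputable def postLin (P : DRing.Cx A) {W W' : DRing.Cx A} (a : ∀ p : ℤ, W.X p ⟶ W'.X p)
    (i : ℤ) : Cochain P W i →ₗ[A] Cochain P W' i where
  toFun z := z.comp (Cochain.ofHoms a) (add_zero i)
  map_add' z z' := by simp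
  map_smul' c z := by simp

/-- precomposition with a family of maps, as a linear map on cochains -/
noncomputable def preLin {P P' : DRing.Cx A} (a : ∀ p : ℤ, P'.X p ⟶ P.X p) (W : DRing.Cx A)
    (i : ℤ) : Cochain P W i →ₗ[A] Cochain P' W i where
  toFun z := (Cochain.ofHoms a).comp z (zero_add i)
  map_add' z z' := by simp
  map_smul' c z := by simp

noncomputable def DSplit.homRight (P : DRing.Cx A) {S : ShortComplex (DRing.Cx A)}
    (h : DSplit S) : DSplit (scHomRight P S) where
  r n := ModuleCat.ofHom (postLin P h.r n)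
  s n := ModuleCat.ofHom (postLin P h.s n)
  f_r n := by
    ext (z : Cochain P S.X₁ n)
    change (z.comp (Cochain.ofHom S.f) (add_zero n)).comp (Cochain.ofHoms h.r) (add_zero n) = z
    rw [Cochain.comp_assoc_of_third_is_zero_cochain, Cochain.ofHom, Cochain.ofHoms_comp]
    simp only [h.f_r]
    rw [ofHoms_id, Cochain.comp_id]
  s_g n := by
    ext (z : Cochain P S.X₃ n)
    change (z.comp (Cochain.ofHoms h.s) (add_zero n)).comp (Cochain.ofHom S.g) (add_zero n) = z
    rw [Cochain.comp_assoc_of_third_is_zero_cochain, Cochain.ofHom, Cochain.ofHoms_comp]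
    simp only [h.s_g]
    rw [ofHoms_id, Cochain.comp_id]
  id n := by
    ext (z : Cochain P S.X₂ n)
    change (z.comp (Cochain.ofHoms h.r) (add_zero n)).comp (Cochain.ofHom S.f) (add_zero n) +
      (z.comp (Cochain.ofHom S.g) (add_zero n)).comp (Cochain.ofHoms h.s) (add_zero n) = z
    rw [Cochain.comp_assoc_of_third_is_zero_cochain, Cochain.comp_assoc_of_third_is_zero_cochain,
      Cochain.ofHom, Cochain.ofHom, Cochain.ofHoms_comp, Cochain.ofHoms_comp, ← Cochain.comp_add,
      ← ofHoms_add]
    simp only [h.id]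
    rw [ofHoms_id, Cochain.comp_id]

noncomputable def DSplit.homLeft {S : ShortComplex (DRing.Cx A)} (h : DSplit S)
    (W : DRing.Cx A) : DSplit (scHomLeft S W) where
  r n := ModuleCat.ofHom (preLin h.s W n)
  s n := ModuleCat.ofHom (preLin h.r W n)
  f_r n := by
    ext (z : Cochain S.X₃ W n)
    change (Cochain.ofHoms h.s).comp ((Cochain.ofHom S.g).comp z (zero_add n)) (zero_add n) = z
    rw [← Cochain.comp_assoc_of_first_is_zero_cochain, Cochain.ofHom, Cochain.ofHoms_comp]
    simp only [h.s_g]
    rw [ofHoms_id, Cochain.id_comp]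
  s_g n := by
    ext (z : Cochain S.X₁ W n)
    change (Cochain.ofHom S.f).comp ((Cochain.ofHoms h.r).comp z (zero_add n)) (zero_add n) = z
    rw [← Cochain.comp_assoc_of_first_is_zero_cochain, Cochain.ofHom, Cochain.ofHoms_comp]
    simp only [h.f_r]
    rw [ofHoms_id, Cochain.id_comp]
  id n := by
    ext (z : Cochain S.X₂ W n)
    change (Cochain.ofHom S.g).comp ((Cochain.ofHoms h.s).comp z (zero_add n)) (zero_add n) +
      (Cochain.ofHoms h.r).comp ((Cochain.ofHom S.f).comp z (zero_add n)) (zero_add n) = z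
    rw [← Cochain.comp_assoc_of_first_is_zero_cochain, ← Cochain.comp_assoc_of_first_is_zero_cochain,
      Cochain.ofHom, Cochain.ofHom, Cochain.ofHoms_comp, Cochain.ofHoms_comp, ← Cochain.add_comp,
      ← ofHoms_add]
    simp only [add_comm (S.g.f _ ≫ h.s _), h.id]
    rw [ofHoms_id, Cochain.id_comp]


theorem quasiIso_τ₂ {S S' : ShortComplex (DRing.Cx A)} (φ : S ⟶ S') (hS : S.ShortExact)
    (hS' : S'.ShortExact) (h₁ : QuasiIso φ.τ₁) (h₃ : QuasiIso φ.τ₃) : QuasiIso φ.τ₂ := by
  rw [← DerivedCategory.isIso_Q_map_iff_quasiIso] at h₁ h₃ ⊢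
  exact Pretriangulated.isIso₂_of_isIso₁₃ (DerivedCategory.triangleOfSES.map hS hS' φ)
    (DerivedCategory.triangleOfSES_distinguished hS)
    (DerivedCategory.triangleOfSES_distinguished hS') h₁ h₃

/-- a degreewise splitting from splittings of the evaluations -/
noncomputable def DSplit.ofSplittings {S : ShortComplex (DRing.Cx A)}
    (h : ∀ n : ℤ, (S.map (HomologicalComplex.eval (ModuleCat.{u} A) (ComplexShape.up ℤ) n)).Splitting) :
    DSplit S where
  r n := (h n).r
  s n := (h n).s
  f_r n := (h n).f_r
  s_g n := (h n).s_g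
  id n := (h n).id

open Groth.Agent.Helper11.DC in
/-- the stupid truncation sequence is degreewise split -/
noncomputable def dsplit_topSC (K : DRing.Cx A) (b : ℤ) (hb : ∀ i : ℤ, b < i → IsZero (K.X i)) :
    DSplit (topSC K b hb) :=
  DSplit.ofSplittings (fun n =>
    if hn : n = b then
      ShortComplex.Splitting.ofIsIsoOfIsZero _ (by
        subst hn
        change IsIso ((topIncl K n hb).f n)
        rw [topIncl, HomologicalComplex.mkHomFromSingle_f]
        infer_instance) (by subst hn; exact topSC_X₃_isZero K n hb)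
    else
      ShortComplex.Splitting.ofIsZeroOfIsIso _
        (HomologicalComplex.isZero_single_obj_X (ComplexShape.up ℤ) b (K.X b) n hn)
        (topSC_g_isIso K b hb n hn))

open Groth.Agent.Helper11.DC in
theorem devissage_aux (𝒬 : DRing.Cx A → Prop)
    (h_iso : ∀ E E' : DRing.Cx A, (E ≅ E') → 𝒬 E → 𝒬 E')
    (h_ext : ∀ S : ShortComplex (DRing.Cx A), DSplit S → 𝒬 S.X₁ → 𝒬 S.X₃ → 𝒬 S.X₂)
    (h_single : ∀ (N : ModuleCat.{u} A) (b : ℤ), Module.Finite A N → Module.Projective A N →
      𝒬 ((HomologicalComplex.single (ModuleCat.{u} A) (ComplexShape.up ℤ) b).obj N)) (n : ℕ) :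
    ∀ (E : DRing.Cx A) (a b : ℤ), b < a + n → DRing.VanishesOutside E a b →
      DRing.TermwiseFiniteProjective E → 𝒬 E := by
  induction n with
  | zero =>
    intro E a b hab hE _
    have hZ : IsZero E := by
      rw [IsZero.iff_id_eq_zero]
      apply HomologicalComplex.hom_ext
      intro i
      refine (hE i ?_).eq_of_src _ _
      rcases lt_or_ge i a with h | h
      · left; exact h
      · right; omega
    have hN : IsZero (ModuleCat.of A PUnit.{u+1}) := ModuleCat.isZero_of_subsingleton _
    have hZ' : IsZero ((HomologicalComplex.single (ModuleCat.{u} A) (ComplexShape.up ℤ) 0).obj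
        (ModuleCat.of A PUnit.{u+1})) := Functor.map_isZero _ hN
    exact h_iso _ _ (hZ'.iso hZ) (h_single _ 0 inferInstance inferInstance)
  | succ n ih =>
    intro E a b hab hE hfp
    have hb' : ∀ i : ℤ, b < i → IsZero (E.X i) := fun i hi => hE i (Or.inr hi)
    have h3 : 𝒬 (topSC E b hb').X₃ := by
      refine ih _ a (b - 1) (by omega) ?_ ?_
      · intro i hi
        by_cases hib : i = b
        · subst hib
          exact topSC_X₃_isZero E i hb'
        · have := topSC_g_isIso E b hb' i hib
          refine (hE i ?_).of_iso (asIso ((topSC E b hb').g.f i)).symm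
          rcases hi with hi | hi
          · left; exact hi
          · right; omega
      · intro i
        by_cases hib : i = b
        · subst hib
          have hz := topSC_X₃_isZero E i hb'
          haveI : Subsingleton ((topSC E i hb').X₃.X i) := ModuleCat.subsingleton_of_isZero hz
          exact ⟨inferInstance, inferInstance⟩
        · have := topSC_g_isIso E b hb' i hib
          let e : E.X i ≃ₗ[A] (topSC E b hb').X₃.X i :=
            (asIso ((topSC E b hb').g.f i)).toLinearEquiv
          haveI : Module.Finite A (E.X i) := (hfp i).1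
          haveI : Module.Projective A (E.X i) := (hfp i).2
          exact ⟨Module.Finite.equiv e, Module.Projective.of_equiv e⟩
    have h1 : 𝒬 (topSC E b hb').X₁ := h_single (E.X b) b (hfp b).1 (hfp b).2
    exact h_ext _ (dsplit_topSC E b hb') h1 h3

/-- dévissage for bounded complexes of finite projective modules -/
theorem devissage (𝒬 : DRing.Cx A → Prop)
    (h_iso : ∀ E E' : DRing.Cx A, (E ≅ E') → 𝒬 E → 𝒬 E')
    (h_ext : ∀ S : ShortComplex (DRing.Cx A), DSplit S → 𝒬 S.X₁ → 𝒬 S.X₃ → 𝒬 S.X₂)
    (h_single : ∀ (N : ModuleCat.{u} A) (b : ℤ), Module.Finite A N → Module.Projective A N →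
      𝒬 ((HomologicalComplex.single (ModuleCat.{u} A) (ComplexShape.up ℤ) b).obj N))
    (E : DRing.Cx A) (a b : ℤ) (hE : DRing.VanishesOutside E a b)
    (hfp : DRing.TermwiseFiniteProjective E) : 𝒬 E :=
  devissage_aux 𝒬 h_iso h_ext h_single (b - a + 1).toNat E a b (by omega) hE hfp

end Groth.Agent.Helper3.DS
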