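import Groth.Agent.Lib.Helper3.TH9
import Mathlib.Algebra.Homology.HomotopyCategory.KInjective
import Mathlib.Algebra.Homology.DerivedCategory.KInjective

/-!
# K-projective complexes are K-flat (helper3)
-/

set_option autoImplicit false

open CategoryTheory CategoryTheory.Limits MonoidalCategory CochainComplex HomComplex
open scoped TensorProduct

universe u

attribute [local instance] HasDerivedCategory.standard

namespace Groth.Agent.Helper3.KF

open Groth.Agent.Helper11.LDer Groth.Agent.Helper11.DC Groth.Agent.Helper11.Tel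
open Groth.Agent.Helper3.HT Groth.Agent.Helper3.DT Groth.Agent.Helper3.RH Groth.Agent.Helper3.DS
open Groth.Agent.Helper3.TH

variable {A : Type u} [CommRing A]

/-- `Hom(M, I)` is acyclic when `M` is acyclic and `I` is K-injective -/
theorem acyclic_homCx_of_isKInjective (M I : DRing.Cx A) [I.IsKInjective] (hM : M.Acyclic) :
    (DRing.homCx M I).Acyclic := by
  intro j
  rw [HomologicalComplex.exactAt_iff' _ (j - 1) j (j + 1) (by simp) (by simp),
    ShortComplex.moduleCat_exact_iff]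
  intro (c : Cochain M I j) hc
  obtain ⟨b, hb⟩ := IsKInjective.eq_δ_of_cocycle (Cocycle.mk c (j + 1) rfl hc) hM (j - 1)
    (by omega)
  exact ⟨b, hb⟩

/-- an object of `D(A)` is zero iff the complex is acyclic -/
theorem acyclic_of_isZero_Q_obj (X : DRing.Cx A) (h : IsZero (DerivedCategory.Q.obj X)) :
    X.Acyclic := by
  intro i
  rw [HomologicalComplex.exactAt_iff_isZero_homology]
  have h1 : IsZero ((DerivedCategory.homologyFunctor (ModuleCat.{u} A) i).obj
      (DerivedCategory.Q.obj X)) := Functor.map_isZero _ h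
  exact IsZero.of_iso h1 ((DerivedCategory.homologyFunctorFactors (ModuleCat.{u} A) i).app X).symm

theorem acyclic_mappingCone {X Y : DRing.Cx A} (s : X ⟶ Y) [QuasiIso s] :
    (mappingCone s).Acyclic := by
  apply acyclic_of_isZero_Q_obj
  have hT := DerivedCategory.mappingCone_triangle_distinguished s
  haveI : IsIso (DerivedCategory.Q.map s) :=
    (DerivedCategory.isIso_Q_map_iff_quasiIso (φ := s)).mpr inferInstance
  exact Pretriangulated.Triangle.isZero₃_of_isIso₁ _ hT
    (inferInstance : IsIso (DerivedCategory.Q.map s))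

theorem quasiIso_of_acyclic {X Y : DRing.Cx A} (f : X ⟶ Y) (hX : X.Acyclic) (hY : Y.Acyclic) :
    QuasiIso f := by
  rw [quasiIso_iff]
  intro i
  rw [quasiIsoAt_iff_isIso_homologyMap]
  have h1 : IsZero (X.homology i) := (HomologicalComplex.exactAt_iff_isZero_homology _ _).mp (hX i)
  have h2 : IsZero (Y.homology i) := (HomologicalComplex.exactAt_iff_isZero_homology _ _).mp (hY i)
  exact ⟨0, h1.eq_of_src _ _, h2.eq_of_src _ _⟩

/-- a complex all of whose maps to injective modules (placed in one degree) are null-homotopic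
is acyclic -/
theorem acyclic_of_homotopy_zero_single (X : DRing.Cx A)
    (h : ∀ (i : ℤ) (J : ModuleCat.{u} A), Injective J →
      ∀ φ : X ⟶ (HomologicalComplex.single (ModuleCat.{u} A) (ComplexShape.up ℤ) i).obj J,
        Nonempty (Homotopy φ 0)) : X.Acyclic := by
  intro i
  rw [HomologicalComplex.exactAt_iff' _ (i - 1) i (i + 1) (by simp) (by simp),
    ShortComplex.moduleCat_exact_iff]
  intro (x : X.X i) (hx : (X.d i (i + 1)).hom x = 0)
  change ∃ w : X.X (i - 1), (X.d (i - 1) i).hom w = x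
  -- the quotient by the boundaries
  let B : Submodule A (X.X i) := LinearMap.range (X.d (i - 1) i).hom
  let J : ModuleCat.{u} A := Injective.under (ModuleCat.of A (X.X i ⧸ B))
  let ι : ModuleCat.of A (X.X i ⧸ B) ⟶ J := Injective.ι _
  have hι : Function.Injective ι.hom := (ModuleCat.mono_iff_injective ι).mp inferInstance
  let φ0 : X.X i ⟶ J := ModuleCat.ofHom B.mkQ ≫ ι
  have hφ0 : ∀ k : ℤ, (ComplexShape.up ℤ).Rel k i → X.d k i ≫ φ0 = 0 := by
    intro k hk
    obtain rfl : k = i - 1 := by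
      change k + 1 = i at hk
      omega
    apply ModuleCat.hom_ext
    ext w
    change ι.hom (B.mkQ ((X.d (i - 1) i).hom w)) = 0
    have h0 : B.mkQ ((X.d (i - 1) i).hom w) = 0 :=
      (Submodule.Quotient.mk_eq_zero B).mpr ⟨w, rfl⟩
    rw [h0, map_zero]
  obtain ⟨H⟩ := h i J inferInstance (HomologicalComplex.mkHomToSingle φ0 hφ0)
  have h1 := H.comm i
  rw [HomologicalComplex.mkHomToSingle_f, HomologicalComplex.zero_f, add_zero,
    dNext_eq H.hom (show (ComplexShape.up ℤ).Rel i (i + 1) from rfl),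
    prevD_eq H.hom (show (ComplexShape.up ℤ).Rel (i - 1) i by simp),
    HomologicalComplex.single_obj_d, comp_zero, add_zero] at h1
  have h2 := congrArg (fun f => f.hom x) h1
  simp only [ModuleCat.hom_comp, LinearMap.comp_apply] at h2
  rw [hx, map_zero] at h2
  have h3 : ι.hom (B.mkQ x) = 0 := by
    have h4 : Function.Injective
        (HomologicalComplex.singleObjXSelf (ComplexShape.up ℤ) i J).inv.hom :=
      (ModuleCat.mono_iff_injective _).mp inferInstance
    apply h4
    rw [map_zero]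
    exact h2
  rw [← map_zero ι.hom] at h3
  have h5 := hι h3
  obtain ⟨w, hw⟩ := (Submodule.Quotient.mk_eq_zero B).mp h5
  exact ⟨w, hw⟩

theorem isKInjective_single (i : ℤ) (J : ModuleCat.{u} A) [Injective J] :
    CochainComplex.IsKInjective
      ((HomologicalComplex.single (ModuleCat.{u} A) (ComplexShape.up ℤ) i).obj J) := by
  haveI : ∀ n : ℤ, Injective
      (((HomologicalComplex.single (ModuleCat.{u} A) (ComplexShape.up ℤ) i).obj J).X n) := by
    intro n
    by_cases hn : n = i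
    · subst hn
      exact Injective.of_iso (HomologicalComplex.singleObjXSelf (ComplexShape.up ℤ) n J).symm
        inferInstance
    · exact (HomologicalComplex.isZero_single_obj_X (ComplexShape.up ℤ) i J n hn).injective
  exact isKInjective_of_injective _ i

theorem uncH_zero (S P W : DRing.Cx A) : uncH (0 : S ⟶ DRing.homCx P W) = 0 := by
  apply Cochain.ofHom_injective
  rw [ofHom_uncH, Cochain.ofHom_zero, Cochain.ofHom_zero, unc_zero]

/-- K-projective complexes are K-flat: tensoring with them preserves acyclicity -/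
theorem acyclic_tensor_of_isKProjective (M P : DRing.Cx A) [P.IsKProjective] (hM : M.Acyclic) :
    (M ⊗ P).Acyclic := by
  apply acyclic_of_homotopy_zero_single
  intro i J hJ Φ
  haveI := isKInjective_single i J
  have hac := acyclic_homCx_of_isKInjective M
    ((HomologicalComplex.single (ModuleCat.{u} A) (ComplexShape.up ℤ) i).obj J) hM
  have H1 : Homotopy (curH ((DTen.braidCx P M).hom ≫ Φ)) 0 :=
    IsKProjective.homotopyZero _ hac
  have H2 := uncHomotopy H1
  rw [uncH_curH, uncH_zero] at H2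
  have H3 := H2.compLeft (DTen.braidCx P M).inv
  rw [Iso.inv_hom_id_assoc, comp_zero] at H3
  exact ⟨H3⟩

/-- the identification `(K⟦1⟧)^n = K^(n+1)` -/
noncomputable def shX (K : DRing.Cx A) (n : ℤ) : (K⟦(1 : ℤ)⟧).X n ≅ K.X (n + 1) := Iso.refl _

/-- the projection `cone(φ) ⟶ K⟦1⟧` -/
noncomputable def coneδ {K L : DRing.Cx A} (φ : K ⟶ L) : mappingCone φ ⟶ K⟦(1 : ℤ)⟧ :=
  (mappingCone.triangle φ).mor₃

@[reassoc]
theorem inr_coneδ {K L : DRing.Cx A} (φ : K ⟶ L) : mappingCone.inr φ ≫ coneδ φ = 0 :=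
  mappingCone.inr_triangleδ φ

@[reassoc]
theorem inr_f_coneδ_f {K L : DRing.Cx A} (φ : K ⟶ L) (n : ℤ) :
    (mappingCone.inr φ).f n ≫ (coneδ φ).f n = 0 :=
  mappingCone.inr_f_triangle_mor₃_f φ n

@[reassoc]
theorem inl_coneδ {K L : DRing.Cx A} (φ : K ⟶ L) (n : ℤ) :
    (mappingCone.inl φ).v (n + 1) n (by omega) ≫ (coneδ φ).f n = -(shX K n).inv := by
  have h := mappingCone.inl_v_triangle_mor₃_f φ (n + 1) n (by omega)
  simp only [shiftFunctorObjXIso, HomologicalComplex.XIsoOfEq_rfl, Iso.refl_inv] at h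
  exact h

theorem map_coneδ {K₁ L₁ K₂ L₂ : DRing.Cx A} (φ₁ : K₁ ⟶ L₁) (φ₂ : K₂ ⟶ L₂) (a : K₁ ⟶ K₂)
    (b : L₁ ⟶ L₂) (comm : φ₁ ≫ b = a ≫ φ₂) :
    mappingCone.map φ₁ φ₂ a b comm ≫ coneδ φ₂ = coneδ φ₁ ≫ a⟦(1 : ℤ)⟧' :=
  (mappingCone.triangleMap φ₁ φ₂ a b comm).comm₃.symm

theorem inr_map {K₁ L₁ K₂ L₂ : DRing.Cx A} (φ₁ : K₁ ⟶ L₁) (φ₂ : K₂ ⟶ L₂) (a : K₁ ⟶ K₂)
    (b : L₁ ⟶ L₂) (comm : φ₁ ≫ b = a ≫ φ₂) :
    mappingCone.inr φ₁ ≫ mappingCone.map φ₁ φ₂ a b comm = b ≫ mappingCone.inr φ₂ :=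
  (mappingCone.triangleMap φ₁ φ₂ a b comm).comm₂

/-- the degreewise split short exact sequence `L ⟶ cone(φ) ⟶ K⟦1⟧` -/
noncomputable abbrev coneSC {K L : DRing.Cx A} (φ : K ⟶ L) : ShortComplex (DRing.Cx A) :=
  ShortComplex.mk (mappingCone.inr φ) (coneδ φ) (inr_coneδ φ)

/-- the section `K⟦1⟧^n ⟶ cone(φ)^n` -/
noncomputable def coneS {K L : DRing.Cx A} (φ : K ⟶ L) (n : ℤ) :
    (K⟦(1 : ℤ)⟧).X n ⟶ (mappingCone φ).X n :=
  -((shX K n).hom ≫ (mappingCone.inl φ).v (n + 1) n (by omega))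

theorem coneS_coneδ {K L : DRing.Cx A} (φ : K ⟶ L) (n : ℤ) :
    coneS φ n ≫ (coneδ φ).f n = 𝟙 _ := by
  unfold coneS
  rw [Preadditive.neg_comp, Category.assoc, inl_coneδ, Preadditive.comp_neg, neg_neg,
    Iso.hom_inv_id]

theorem inl_coneδ_coneS {K L : DRing.Cx A} (φ : K ⟶ L) (n : ℤ) :
    (mappingCone.inl φ).v (n + 1) n (by omega) ≫ (coneδ φ).f n ≫ coneS φ n =
      (mappingCone.inl φ).v (n + 1) n (by omega) := by
  rw [inl_coneδ_assoc]
  unfold coneS
  rw [Preadditive.neg_comp, Preadditive.comp_neg, neg_neg, Iso.inv_hom_id_assoc]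

noncomputable def dsplit_coneSC {K L : DRing.Cx A} (φ : K ⟶ L) : DSplit (coneSC φ) where
  r n := (mappingCone.snd φ).v n n (add_zero n)
  s n := coneS φ n
  f_r n := mappingCone.inr_f_snd_v φ n
  s_g n := coneS_coneδ φ n
  id n := by
    dsimp only [coneSC]
    rw [mappingCone.ext_from_iff φ (n + 1) n rfl]
    constructor
    · rw [Preadditive.comp_add, mappingCone.inl_v_snd_v_assoc, zero_comp,
        zero_add, inl_coneδ_coneS, Category.comp_id]
    · rw [Preadditive.comp_add, mappingCone.inr_f_snd_v_assoc,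
        inr_f_coneδ_f_assoc, zero_comp, add_zero, Category.comp_id]

theorem quasiIso_τ₁ {S S' : ShortComplex (DRing.Cx A)} (φ : S ⟶ S') (hS : S.ShortExact)
    (hS' : S'.ShortExact) (h₂ : QuasiIso φ.τ₂) (h₃ : QuasiIso φ.τ₃) : QuasiIso φ.τ₁ := by
  rw [← DerivedCategory.isIso_Q_map_iff_quasiIso] at h₂ h₃ ⊢
  exact Pretriangulated.isIso₁_of_isIso₂₃ (DerivedCategory.triangleOfSES.map hS hS' φ)
    (DerivedCategory.triangleOfSES_distinguished hS)
    (DerivedCategory.triangleOfSES_distinguished hS') h₂ h₃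

/-- the comparison of cone sequences `cone(𝟙) ⟶ cone(s)` -/
noncomputable def coneCmp {X Y : DRing.Cx A} (s : X ⟶ Y) : coneSC (𝟙 X) ⟶ coneSC s where
  τ₁ := s
  τ₂ := mappingCone.map (𝟙 X) s (𝟙 X) s (by simp)
  τ₃ := (𝟙 X)⟦(1 : ℤ)⟧'
  comm₁₂ := (inr_map (𝟙 X) s (𝟙 X) s (by simp)).symm
  comm₂₃ := map_coneδ (𝟙 X) s (𝟙 X) s (by simp)

/-- tensoring on the right with a K-projective complex preserves quasi-isomorphisms -/
theorem quasiIso_whiskerRight_of_isKProjective (P : DRing.Cx A) [P.IsKProjective]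
    {X Y : DRing.Cx A} (s : X ⟶ Y) [QuasiIso s] : QuasiIso (s ▷ P) := by
  let φP : scWhiskerRight (coneSC (𝟙 X)) P ⟶ scWhiskerRight (coneSC s) P :=
    { τ₁ := (coneCmp s).τ₁ ▷ P
      τ₂ := (coneCmp s).τ₂ ▷ P
      τ₃ := (coneCmp s).τ₃ ▷ P
      comm₁₂ := by
        dsimp only [scWhiskerRight]
        rw [← MonoidalCategory.comp_whiskerRight, ← MonoidalCategory.comp_whiskerRight,
          (coneCmp s).comm₁₂]
      comm₂₃ := by
        dsimp only [scWhiskerRight]
        rw [← MonoidalCategory.comp_whiskerRight, ← MonoidalCategory.comp_whiskerRight,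
          (coneCmp s).comm₂₃] }
  have h2 : QuasiIso φP.τ₂ := quasiIso_of_acyclic _
    (acyclic_tensor_of_isKProjective _ P (acyclic_mappingCone (𝟙 X)))
    (acyclic_tensor_of_isKProjective _ P (acyclic_mappingCone s))
  have h3 : QuasiIso φP.τ₃ := by
    have : φP.τ₃ = 𝟙 _ := by
      change ((𝟙 X)⟦(1 : ℤ)⟧') ▷ P = 𝟙 _
      rw [CategoryTheory.Functor.map_id, MonoidalCategory.id_whiskerRight]
    rw [this]
    infer_instance
  exact quasiIso_τ₁ φP ((dsplit_coneSC (𝟙 X)).whiskerRight P).shortExact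
    ((dsplit_coneSC s).whiskerRight P).shortExact h2 h3

/-- tensoring on the left with a K-projective complex preserves quasi-isomorphisms -/
theorem quasiIso_whiskerLeft_of_isKProjective (P : DRing.Cx A) [P.IsKProjective]
    {X Y : DRing.Cx A} (s : X ⟶ Y) [QuasiIso s] : QuasiIso (P ◁ s) := by
  haveI := quasiIso_whiskerRight_of_isKProjective P s
  have h1 := DTen.braidCx_naturality (𝟙 P) s
  rw [MonoidalCategory.tensorHom_id, MonoidalCategory.id_tensorHom] at h1
  have h2 : P ◁ s = (DTen.braidCx P X).hom ≫ (s ▷ P) ≫ (DTen.braidCx P Y).inv := by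
    rw [← Category.assoc, ← h1, Category.assoc, Iso.hom_inv_id, Category.comp_id]
  rw [h2]
  infer_instance

end Groth.Agent.Helper3.KF
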