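import Groth.Agent.Lib.Helper3.TH3

/-!
# `θ K E W` for `E` concentrated in one degree with finite projective term (helper3)
-/

set_option autoImplicit false

open CategoryTheory CategoryTheory.Limits MonoidalCategory CochainComplex HomComplex
open scoped TensorProduct

universe u

attribute [local instance] HasDerivedCategory.standard

namespace Groth.Agent.Helper3.TH

open Groth.Agent.Helper3.HT Groth.Agent.Helper3.DS

variable {A : Type u} [CommRing A]

section B4

variable (E : DRing.Cx A) (b : ℤ) (hz : ∀ p : ℤ, p ≠ b → IsZero (E.X p))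

include hz in
theorem cochain_ext_single {W : DRing.Cx A} {n : ℤ} (t t' : Cochain E W n) (k : ℤ) (hk : b + n = k)
    (h : t.v b k hk = t'.v b k hk) : t = t' := by
  refine Cochain.ext _ _ (fun p q hpq => ?_)
  by_cases hp : p = b
  · subst hp
    obtain rfl : q = k := by omega
    exact h
  · exact (hz p hp).eq_of_src _ _

variable (W : DRing.Cx A)

/-- the cochain `y ↦ γ(y) w` concentrated in degree `b` -/
noncomputable def τ (γ : E.X b →ₗ[A] A) (r q : ℤ) (h : b + q = r) : W.X r →ₗ[A] Cochain E W q where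
  toFun w := Cochain.single (ModuleCat.ofHom ((LinearMap.toSpanSingleton A (W.X r) w) ∘ₗ γ)) q
  map_add' w w' := by
    refine cochain_ext_single E b hz _ _ r h ?_
    rw [Cochain.add_v, Cochain.single_v _ _ h, Cochain.single_v _ _ h, Cochain.single_v _ _ h]
    ext y
    simp [smul_add]
  map_smul' a w := by
    refine cochain_ext_single E b hz _ _ r h ?_
    rw [Cochain.smul_v, Cochain.single_v _ _ h, Cochain.single_v _ _ h]
    ext y
    simp [smul_smul, mul_comm]

theorem τ_v_apply (γ : E.X b →ₗ[A] A) (r q : ℤ) (h : b + q = r) (w : W.X r) (y : E.X b) :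
    ((τ E b hz W γ r q h w).v b r h).hom y = γ y • w := by
  change ((Cochain.single (ModuleCat.ofHom ((LinearMap.toSpanSingleton A (W.X r) w) ∘ₗ γ)) q).v b r h).hom y = _
  rw [Cochain.single_v _ _ h]
  rfl


variable (K : DRing.Cx A)

/-- the map `(K ⊗ W)^k ⟶ (K ⊗ Hom(E, W))^m` induced by `τ γ` -/
noncomputable def Tγ (γ : E.X b →ₗ[A] A) (m k : ℤ) (hk : b + m = k) :
    (K ⊗ W).X k ⟶ (K ⊗ DRing.homCx E W).X m :=
  HomologicalComplex.mapBifunctorDesc (fun p r (h : p + r = k) =>
    (K.X p ◁ ModuleCat.ofHom (τ E b hz W γ r (r - b) (by omega))) ≫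
      HomologicalComplex.ιTensorObj K (DRing.homCx E W) p (r - b) m (by omega))

theorem Tγ_ι_tmul (γ : E.X b →ₗ[A] A) (m k : ℤ) (hk : b + m = k) (p r q : ℤ) (h : p + r = k)
    (hq : b + q = r) (x : K.X p) (w : W.X r) :
    (Tγ E b hz W K γ m k hk).hom ((HomologicalComplex.ιTensorObj K W p r k h).hom (x ⊗ₜ[A] w)) =
      (HomologicalComplex.ιTensorObj K (DRing.homCx E W) p q m (by omega)).hom
        (x ⊗ₜ[A] (τ E b hz W γ r q hq w : Cochain E W q)) := by
  obtain rfl : q = r - b := by omega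
  have h1 := HomologicalComplex.ι_mapBifunctorDesc (K₁ := K) (K₂ := W)
    (F := curriedTensor (ModuleCat.{u} A)) (c := ComplexShape.up ℤ)
    (fun p r (h : p + r = k) =>
    (K.X p ◁ ModuleCat.ofHom (τ E b hz W γ r (r - b) (by omega))) ≫
      HomologicalComplex.ιTensorObj K (DRing.homCx E W) p (r - b) m (by omega)) p r h
  exact congrArg (fun φ => φ.hom (x ⊗ₜ[A] w)) h1


/-- (F1) the `b`-component of `θ (Tγ u)` is `y ↦ γ(y) u` -/
theorem θ_Tγ (γ : E.X b →ₗ[A] A) (m k : ℤ) (hk : b + m = k) (u : (K ⊗ W).X k) (y : E.X b) :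
    ((toC (((θ K E W).f m).hom ((Tγ E b hz W K γ m k hk).hom u))).v b k hk).hom y = γ y • u := by
  -- both sides are linear in `u`
  let L1 : (K ⊗ W).X k →ₗ[A] (K ⊗ W).X k :=
    (LinearMap.applyₗ y) ∘ₗ (evC E (K ⊗ W) m b k hk) ∘ₗ ((θ K E W).f m).hom ∘ₗ
      (Tγ E b hz W K γ m k hk).hom
  let L2 : (K ⊗ W).X k →ₗ[A] (K ⊗ W).X k := γ y • LinearMap.id
  suffices h : ModuleCat.ofHom L1 = ModuleCat.ofHom L2 from
    congrArg (fun φ => φ.hom u) h
  apply HomologicalComplex.mapBifunctor.hom_ext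
  intro p r hpr
  change p + r = k at hpr
  apply ModuleCat.hom_ext
  apply TensorProduct.ext'
  intro x w
  change ((toC (((θ K E W).f m).hom ((Tγ E b hz W K γ m k hk).hom
    ((HomologicalComplex.ιTensorObj K W p r k hpr).hom (x ⊗ₜ[A] w))))).v b k hk).hom y =
    γ y • (HomologicalComplex.ιTensorObj K W p r k hpr).hom (x ⊗ₜ[A] w)
  rw [Tγ_ι_tmul E b hz W K γ m k hk p r (r - b) hpr (by omega) x w,
    θ_apply K E W p (r - b) m (by omega) x _ b k r hk (by omega) y]
  erw [τ_v_apply E b hz W γ r (r - b) (by omega) w y]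
  rw [TensorProduct.tmul_smul, map_smul]


/-- (F2) a cochain out of `E` is recovered from its values on a dual basis -/
theorem sum_τ {n : ℕ} (ν : Fin n → E.X b) (γ : Fin n → (E.X b →ₗ[A] A))
    (hνγ : ∀ x : E.X b, ∑ i, γ i x • ν i = x) (q r : ℤ) (h : b + q = r) (f : Cochain E W q) :
    ∑ i, τ E b hz W (γ i) r q h ((f.v b r h).hom (ν i)) = f := by
  refine cochain_ext_single E b hz _ _ r h ?_
  apply ModuleCat.hom_ext
  ext y
  have h1 : ((∑ i, τ E b hz W (γ i) r q h ((f.v b r h).hom (ν i)) : Cochain E W q).v b r h).hom y =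
      ∑ i, ((τ E b hz W (γ i) r q h ((f.v b r h).hom (ν i))).v b r h).hom y := by
    have := map_sum ((LinearMap.applyₗ y) ∘ₗ (evC E W q b r h))
      (fun i => τ E b hz W (γ i) r q h ((f.v b r h).hom (ν i))) Finset.univ
    exact this
  rw [h1]
  simp only [τ_v_apply]
  conv_rhs => rw [← hνγ y, map_sum]
  simp only [map_smul]

include hz in
theorem isIso_θ_f_of_single_mid [Module.Finite A (E.X b)] [Module.Projective A (E.X b)] (m : ℤ) :
    IsIso ((θ K E W).f m) := by
  obtain ⟨k, hk⟩ : ∃ k : ℤ, b + m = k := ⟨_, rfl⟩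
  obtain ⟨n, ν, γ, hνγ⟩ := exists_dualBasis (A := A) (E.X b)
  -- the inverse
  let Ψ : (DRing.homCx E (K ⊗ W)).X m →ₗ[A] (K ⊗ DRing.homCx E W).X m :=
    ∑ i, (Tγ E b hz W K (γ i) m k hk).hom ∘ₗ (LinearMap.applyₗ (ν i)) ∘ₗ (evC E (K ⊗ W) m b k hk)
  have hΨ : ∀ t : (DRing.homCx E (K ⊗ W)).X m, Ψ t =
      ∑ i, (Tγ E b hz W K (γ i) m k hk).hom (((toC t).v b k hk).hom (ν i)) := by
    intro t
    simp only [Ψ, LinearMap.sum_apply]
    rfl
  refine ⟨ModuleCat.ofHom Ψ, ?_, ?_⟩
  · -- Ψ ∘ θ = id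
    apply HomologicalComplex.mapBifunctor.hom_ext
    intro p q hpq
    change p + q = m at hpq
    apply ModuleCat.hom_ext
    apply TensorProduct.ext'
    intro x f
    change Ψ (((θ K E W).f m).hom ((HomologicalComplex.ιTensorObj K (DRing.homCx E W) p q m hpq).hom
      (x ⊗ₜ[A] f))) = (HomologicalComplex.ιTensorObj K (DRing.homCx E W) p q m hpq).hom (x ⊗ₜ[A] f)
    rw [hΨ]
    have hterm : ∀ i : Fin n, (Tγ E b hz W K (γ i) m k hk).hom (((toC (((θ K E W).f m).hom
        ((HomologicalComplex.ιTensorObj K (DRing.homCx E W) p q m hpq).hom (x ⊗ₜ[A] f)))).v b k hk).hom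
        (ν i)) = (HomologicalComplex.ιTensorObj K (DRing.homCx E W) p q m hpq).hom
        (x ⊗ₜ[A] (τ E b hz W (γ i) (b + q) q rfl (((toC f).v b (b + q) rfl).hom (ν i)) :
          Cochain E W q)) := by
      intro i
      rw [θ_apply K E W p q m hpq x f b k (b + q) hk rfl (ν i),
        Tγ_ι_tmul E b hz W K (γ i) m k hk p (b + q) q (by omega) rfl]
    rw [Finset.sum_congr rfl (fun i _ => hterm i), ← map_sum, ← TensorProduct.tmul_sum]
    congr 2
    exact sum_τ E b hz W ν γ hνγ q (b + q) rfl (toC f)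
  · -- θ ∘ Ψ = id
    apply ModuleCat.hom_ext
    ext t
    apply toC_injective
    refine cochain_ext_single E b hz _ _ k hk ?_
    apply ModuleCat.hom_ext
    ext y
    change ((toC (((θ K E W).f m).hom (Ψ t))).v b k hk).hom y = ((toC t).v b k hk).hom y
    rw [hΨ]
    have h1 : ((toC (((θ K E W).f m).hom (∑ i, (Tγ E b hz W K (γ i) m k hk).hom
        (((toC t).v b k hk).hom (ν i))))).v b k hk).hom y =
        ∑ i, ((toC (((θ K E W).f m).hom ((Tγ E b hz W K (γ i) m k hk).hom
        (((toC t).v b k hk).hom (ν i))))).v b k hk).hom y := by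
      have := map_sum ((LinearMap.applyₗ y) ∘ₗ (evC E (K ⊗ W) m b k hk) ∘ₗ ((θ K E W).f m).hom)
        (fun i => (Tγ E b hz W K (γ i) m k hk).hom (((toC t).v b k hk).hom (ν i))) Finset.univ
      exact this
    rw [h1]
    simp only [θ_Tγ]
    conv_rhs => rw [← hνγ y, map_sum]
    simp only [map_smul]

include hz in
theorem isIso_θ_of_single_mid [Module.Finite A (E.X b)] [Module.Projective A (E.X b)] :
    IsIso (θ K E W) := by
  haveI : ∀ m, IsIso ((θ K E W).f m) := fun m => isIso_θ_f_of_single_mid E b hz W K m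
  exact HomologicalComplex.Hom.isIso_of_components _

end B4


theorem isIso_homCxPre {P P' : DRing.Cx A} (u : P' ⟶ P) [IsIso u] (W : DRing.Cx A) :
    IsIso (homCxPre u W) :=
  ⟨homCxPre (inv u) W, by rw [← homCxPre_comp, IsIso.inv_hom_id, homCxPre_id],
    by rw [← homCxPre_comp, IsIso.hom_inv_id, homCxPre_id]⟩

/-- `θ K E W` is a quasi-isomorphism for `E` a bounded complex of finite projective modules -/
theorem quasiIso_θ_of_perfect_mid (E : DRing.Cx A) (a b : ℤ)
    (hE : DRing.VanishesOutside E a b) (hfp : DRing.TermwiseFiniteProjective E)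
    (K W : DRing.Cx A) : QuasiIso (θ K E W) := by
  refine devissage (A := A) (fun E : DRing.Cx A => ∀ (K W : DRing.Cx A), QuasiIso (θ K E W))
    ?_ ?_ ?_ E a b hE hfp K W
  · intro E E' e h K W
    haveI := h K W
    haveI := isIso_homCxPre e.hom W
    haveI := isIso_homCxPre e.inv (K ⊗ W)
    haveI : IsIso (K ◁ homCxPre e.hom W) :=
      (inferInstance : IsIso ((tensorLeft K).map (homCxPre e.hom W)))
    have h2 : θ K E' W = (K ◁ homCxPre e.hom W) ≫ θ K E W ≫ homCxPre e.inv (K ⊗ W) := by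
      rw [θ_nat_P_assoc, ← homCxPre_comp, e.inv_hom_id, homCxPre_id, Category.comp_id]
    rw [h2]
    infer_instance
  · intro S hS h1 h3 K W
    let φ : scWhiskerLeft K (scHomLeft S W) ⟶ scHomLeft S (K ⊗ W) :=
      { τ₁ := θ K S.X₃ W
        τ₂ := θ K S.X₂ W
        τ₃ := θ K S.X₁ W
        comm₁₂ := (θ_nat_P K S.g W).symm
        comm₂₃ := (θ_nat_P K S.f W).symm }
    exact quasiIso_τ₂ φ ((hS.homLeft W).whiskerLeft K).shortExact (hS.homLeft (K ⊗ W)).shortExact
      (h3 K W) (h1 K W)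
  · intro N b hN1 hN2 K W
    obtain ⟨hz, h1, h2⟩ := single_props N b
    haveI := isIso_θ_of_single_mid _ b hz W K
    infer_instance

end Groth.Agent.Helper3.TH
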