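import Groth.Agent.Lib.Helper3.KF3

/-!
# Degreewise invertibility of `ψ`; stupid truncations as subcomplexes (helper3)
-/

set_option autoImplicit false

open CategoryTheory CategoryTheory.Limits MonoidalCategory CochainComplex HomComplex
open scoped TensorProduct

universe u

attribute [local instance] HasDerivedCategory.standard

namespace Groth.Agent.Helper3.KF

open Groth.Agent.Helper11.LDer Groth.Agent.Helper11.DC Groth.Agent.Helper11.Tel
open Groth.Agent.Helper3.HT Groth.Agent.Helper3.DT Groth.Agent.Helper3.RH Groth.Agent.Helper3.DS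
open Groth.Agent.Helper3.TH

variable {A : Type u} [CommRing A]

/-- `ψ E P W` is an isomorphism in each degree for `E` a bounded complex of finite projective
modules -/
theorem isIso_ψ_f_of_perfect (E : DRing.Cx A) (a b : ℤ)
    (hE : DRing.VanishesOutside E a b) (hfp : DRing.TermwiseFiniteProjective E)
    (P W : DRing.Cx A) (m : ℤ) : IsIso ((ψ E P W).f m) := by
  refine devissage (A := A)
    (fun E : DRing.Cx A => ∀ (P W : DRing.Cx A) (m : ℤ), IsIso ((ψ E P W).f m))
    ?_ ?_ ?_ E a b hE hfp P W m
  · intro E E' e h P W m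
    haveI := h P W m
    haveI := isIso_homCxPre e.inv P
    haveI := isIso_homCxPre e.hom P
    haveI := isIso_homCxPre (homCxPre e.hom P) W
    haveI : IsIso (DRing.homCx P W ◁ e.inv) :=
      (inferInstance : IsIso ((tensorLeft (DRing.homCx P W)).map e.inv))
    have h2 : ψ E' P W = (DRing.homCx P W ◁ e.inv) ≫ ψ E P W ≫
        homCxPre (homCxPre e.hom P) W := by
      rw [ψ_nat_E_assoc, ← homCxPre_comp, ← homCxPre_comp, e.inv_hom_id, homCxPre_id, homCxPre_id,
        Category.comp_id]
    rw [h2, HomologicalComplex.comp_f, HomologicalComplex.comp_f]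
    infer_instance
  · intro S hS h1 h3 P W m
    let φ : scWhiskerLeft (DRing.homCx P W) S ⟶ scHomLeft (scHomLeft S P) W :=
      { τ₁ := ψ S.X₁ P W
        τ₂ := ψ S.X₂ P W
        τ₃ := ψ S.X₃ P W
        comm₁₂ := (ψ_nat_E S.f P W).symm
        comm₂₃ := (ψ_nat_E S.g P W).symm }
    have e1 := (HomologicalComplex.shortExact_iff_degreewise_shortExact _).mp
      (hS.whiskerLeft (DRing.homCx P W)).shortExact m
    have e2 := (HomologicalComplex.shortExact_iff_degreewise_shortExact _).mp
      ((hS.homLeft P).homLeft W).shortExact m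
    exact ShortComplex.isIso₂_of_shortExact_of_isIso₁₃'
      ((HomologicalComplex.eval (ModuleCat.{u} A) (ComplexShape.up ℤ) m).mapShortComplex.map φ)
      e1 e2 (h1 P W m) (h3 P W m)
  · intro N b hN1 hN2 P W m
    obtain ⟨hz, h1, h2⟩ := single_props N b
    exact isIso_ψ_f_of_single _ b hz P W m

/-- `X ◁ u` is an isomorphism in degree `m` as soon as, for `q + p = m`, either `X^q` is zero or
`u^p` is an isomorphism -/
theorem isIso_whiskerLeft_f (X : DRing.Cx A) {Y Y' : DRing.Cx A} (u : Y ⟶ Y') (m : ℤ)
    (h : ∀ q p : ℤ, q + p = m → IsZero (X.X q) ∨ IsIso (u.f p)) : IsIso ((X ◁ u).f m) := by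
  classical
  let inv' : (X ⊗ Y').X m ⟶ (X ⊗ Y).X m :=
    HomologicalComplex.mapBifunctorDesc (fun q p (hqp : q + p = m) =>
      if hp : IsIso (u.f p) then
        (X.X q ◁ (@inv _ _ _ _ (u.f p) hp)) ≫ HomologicalComplex.ιTensorObj X Y q p m hqp
      else 0)
  refine ⟨inv', ?_, ?_⟩
  · apply HomologicalComplex.mapBifunctor.hom_ext
    intro q p hqp
    change q + p = m at hqp
    erw [ι_whiskerLeft_assoc X u q p m hqp, HomologicalComplex.ι_mapBifunctorDesc]
    by_cases hp : IsIso (u.f p)
    · rw [dif_pos hp, ← MonoidalCategory.whiskerLeft_comp_assoc, IsIso.hom_inv_id,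
        MonoidalCategory.whiskerLeft_id, Category.id_comp]
      exact (Category.comp_id _).symm
    · have hz := (h q p hqp).resolve_right hp
      exact (isZero_tensor_left hz _).eq_of_src _ _
  · apply HomologicalComplex.mapBifunctor.hom_ext
    intro q p hqp
    change q + p = m at hqp
    erw [HomologicalComplex.ι_mapBifunctorDesc_assoc]
    by_cases hp : IsIso (u.f p)
    · rw [dif_pos hp]
      erw [Category.assoc, ι_whiskerLeft X u q p m hqp]
      rw [← MonoidalCategory.whiskerLeft_comp_assoc, IsIso.inv_hom_id,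
        MonoidalCategory.whiskerLeft_id, Category.id_comp]
      exact (Category.comp_id _).symm
    · have hz := (h q p hqp).resolve_right hp
      exact (isZero_tensor_left hz _).eq_of_src _ _

/-- `Hom(u, W)` is an isomorphism in degree `i` as soon as, for every `p`, either `u^p` is an
isomorphism or `W^(p+i)` is zero -/
theorem isIso_homCxPre_f {P P' : DRing.Cx A} (u : P' ⟶ P) (W : DRing.Cx A) (i : ℤ)
    (h : ∀ p : ℤ, IsIso (u.f p) ∨ IsZero (W.X (p + i))) : IsIso ((homCxPre u W).f i) := by
  classical
  rw [ConcreteCategory.isIso_iff_bijective]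
  constructor
  · rw [injective_iff_map_eq_zero]
    intro (z : Cochain P W i) hz
    have hz' : (Cochain.ofHom u).comp z (zero_add i) = 0 := hz
    change z = 0
    refine Cochain.ext _ _ (fun p q hpq => ?_)
    rcases h p with hp | hp
    · have h1 := congrArg (fun c : Cochain P' W i => c.v p q hpq) hz'
      simp only [Cochain.zero_cochain_comp_v, Cochain.ofHom_v, Cochain.zero_v] at h1
      rw [Cochain.zero_v, ← cancel_epi (u.f p), h1, comp_zero]
    · obtain rfl : q = p + i := by omega
      exact hp.eq_of_tgt _ _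
  · intro (z' : Cochain P' W i)
    refine ⟨(Cochain.mk (fun p q hpq =>
      if hp : IsIso (u.f p) then (@inv _ _ _ _ (u.f p) hp) ≫ z'.v p q hpq else 0) :
        Cochain P W i), ?_⟩
    change (Cochain.ofHom u).comp _ (zero_add i) = z'
    refine Cochain.ext _ _ (fun p q hpq => ?_)
    rw [Cochain.zero_cochain_comp_v, Cochain.ofHom_v, Cochain.mk_v]
    by_cases hp : IsIso (u.f p)
    · rw [dif_pos hp, IsIso.hom_inv_id_assoc]
    · have hz := (h p).resolve_left hp
      obtain rfl : q = p + i := by omega
      exact hz.eq_of_tgt _ _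

section SubCx

variable (F : DRing.Cx A) (S : ∀ p : ℤ, Submodule A (F.X p))
  (hS : ∀ (p q : ℤ) (x : F.X p), x ∈ S p → (F.d p q).hom x ∈ S q)

/-- the subcomplex given by a family of submodules stable under the differential -/
noncomputable def subCx : DRing.Cx A where
  X p := ModuleCat.of A (S p)
  d p q := ModuleCat.ofHom ((F.d p q).hom.restrict (hS p q))
  shape p q hpq := by
    ext x
    change (F.d p q).hom x.1 = 0
    rw [F.shape p q hpq]
    rfl
  d_comp_d' p q r _ _ := by
    ext x
    change (F.d q r).hom ((F.d p q).hom x.1) = 0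
    have h := congrArg (fun f => f.hom x.1) (F.d_comp_d p q r)
    exact h

/-- the inclusion of the subcomplex -/
noncomputable def subCxι : subCx F S hS ⟶ F where
  f p := ModuleCat.ofHom (S p).subtype
  comm' p q _ := by
    ext x
    rfl

theorem isIso_subCxι_f (p : ℤ) (hp : S p = ⊤) : IsIso ((subCxι F S hS).f p) := by
  rw [ConcreteCategory.isIso_iff_bijective]
  constructor
  · exact Subtype.val_injective
  · intro x
    exact ⟨⟨x, by rw [hp]; trivial⟩, rfl⟩

theorem isZero_subCx_X (p : ℤ) (hp : S p = ⊥) : IsZero ((subCx F S hS).X p) := by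
  haveI : Subsingleton ((subCx F S hS).X p) := by
    change Subsingleton (S p)
    rw [hp]
    infer_instance
  exact ModuleCat.isZero_of_subsingleton _

end SubCx

/-- the family of submodules defining the stupid truncation `σ_{≥ a}` -/
noncomputable def truncS (F : DRing.Cx A) (a : ℤ) (p : ℤ) : Submodule A (F.X p) :=
  if a ≤ p then ⊤ else ⊥

theorem truncS_stable (F : DRing.Cx A) (a : ℤ) (p q : ℤ) (x : F.X p) (hx : x ∈ truncS F a p) :
    (F.d p q).hom x ∈ truncS F a q := by
  by_cases hpq : p + 1 = q
  · by_cases hp : a ≤ p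
    · rw [truncS, if_pos (by omega)]
      trivial
    · rw [truncS, if_neg hp] at hx
      rw [(Submodule.mem_bot A).mp hx, map_zero]
      exact Submodule.zero_mem _
  · rw [F.shape p q hpq]
    exact Submodule.zero_mem _

/-- the stupid truncation `σ_{≥ a} F`, as a subcomplex of `F` -/
noncomputable def sigmaGE (F : DRing.Cx A) (a : ℤ) : DRing.Cx A :=
  subCx F (truncS F a) (truncS_stable F a)

noncomputable def sigmaGEι (F : DRing.Cx A) (a : ℤ) : sigmaGE F a ⟶ F :=
  subCxι F (truncS F a) (truncS_stable F a)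

theorem isIso_sigmaGEι_f (F : DRing.Cx A) (a p : ℤ) (hp : a ≤ p) :
    IsIso ((sigmaGEι F a).f p) :=
  isIso_subCxι_f F _ _ p (by rw [truncS, if_pos hp])

theorem isZero_sigmaGE_X (F : DRing.Cx A) (a p : ℤ) (hp : p < a) : IsZero ((sigmaGE F a).X p) :=
  isZero_subCx_X F _ _ p (by rw [truncS, if_neg (by omega)])

theorem sigmaGE_vanishesOutside (F : DRing.Cx A) (a b : ℤ) (hF : DRing.VanishesAbove F b) :
    DRing.VanishesOutside (sigmaGE F a) a b := by
  intro i hi
  rcases hi with hi | hi
  · exact isZero_sigmaGE_X F a i hi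
  · by_cases hai : a ≤ i
    · haveI := isIso_sigmaGEι_f F a i hai
      exact IsZero.of_iso (hF i hi) (asIso ((sigmaGEι F a).f i))
    · exact isZero_sigmaGE_X F a i (by omega)

theorem sigmaGE_termwiseFiniteProjective (F : DRing.Cx A) (a : ℤ)
    (hF : ∀ i : ℤ, Module.Finite A (F.X i) ∧ Module.Projective A (F.X i)) :
    DRing.TermwiseFiniteProjective (sigmaGE F a) := by
  intro i
  by_cases hai : a ≤ i
  · haveI := isIso_sigmaGEι_f F a i hai
    let e : (sigmaGE F a).X i ≃ₗ[A] F.X i := (asIso ((sigmaGEι F a).f i)).toLinearEquiv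
    haveI := (hF i).1
    haveI := (hF i).2
    exact ⟨Module.Finite.equiv e.symm, Module.Projective.of_equiv e.symm⟩
  · haveI : Subsingleton ((sigmaGE F a).X i) :=
      ModuleCat.subsingleton_of_isZero (isZero_sigmaGE_X F a i (by omega))
    exact ⟨inferInstance, inferInstance⟩

end Groth.Agent.Helper3.KF
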