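import Groth.Agent.Lib.Helper3.KP1
import Groth.Prelude.Def_DDual2
import Mathlib.CategoryTheory.Functor.Derived.Adjunction
import Mathlib.CategoryTheory.Functor.Derived.PointwiseRightDerived

/-!
# Derived base change is left adjoint to restriction (helper3)

* `KP.adjK φ`: extension ⊣ restriction of scalars on homotopy categories.
* `KP.adjD φ : LBaseChange φ ⊣ restrictD φ`.
-/

set_option autoImplicit false

open CategoryTheory CategoryTheory.Limits

universe u

attribute [local instance] HasDerivedCategory.standard

namespace Groth.Agent.Helper3.KP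

variable {A B : Type u} [CommRing A] [CommRing B] (φ : A →+* B)

/-- extension of scalars on complexes -/
noncomputable abbrev extC := (ModuleCat.extendScalars.{u, u, u} φ).mapHomologicalComplex (ComplexShape.up ℤ)

/-- restriction of scalars on complexes -/
noncomputable abbrev resC := (ModuleCat.restrictScalars.{u} φ).mapHomologicalComplex (ComplexShape.up ℤ)

/-- extension of scalars on homotopy categories -/
noncomputable abbrev extK := (ModuleCat.extendScalars.{u, u, u} φ).mapHomotopyCategory (ComplexShape.up ℤ)

/-- restriction of scalars on homotopy categories -/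
noncomputable abbrev resK := (ModuleCat.restrictScalars.{u} φ).mapHomotopyCategory (ComplexShape.up ℤ)

/-- chain-level unit -/
noncomputable def ηC (K : DRing.Cx A) : K ⟶ (resC φ).obj ((extC φ).obj K) where
  f i := (ModuleCat.extendRestrictScalarsAdj φ).unit.app (K.X i)
  comm' i j _ := ((ModuleCat.extendRestrictScalarsAdj φ).unit.naturality (K.d i j)).symm

/-- chain-level counit -/
noncomputable def εC (L : DRing.Cx B) : (extC φ).obj ((resC φ).obj L) ⟶ L where
  f i := (ModuleCat.extendRestrictScalarsAdj φ).counit.app (L.X i)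
  comm' i j _ := ((ModuleCat.extendRestrictScalarsAdj φ).counit.naturality (L.d i j)).symm

theorem ηC_nat {K L : DRing.Cx A} (f : K ⟶ L) :
    f ≫ ηC φ L = ηC φ K ≫ (resC φ).map ((extC φ).map f) := by
  refine HomologicalComplex.hom_ext _ _ (fun i => ?_)
  exact (ModuleCat.extendRestrictScalarsAdj φ).unit.naturality (f.f i)

theorem εC_nat {K L : DRing.Cx B} (f : K ⟶ L) :
    (extC φ).map ((resC φ).map f) ≫ εC φ L = εC φ K ≫ f := by
  refine HomologicalComplex.hom_ext _ _ (fun i => ?_)
  exact (ModuleCat.extendRestrictScalarsAdj φ).counit.naturality (f.f i)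

theorem left_triangle_C (K : DRing.Cx A) :
    (extC φ).map (ηC φ K) ≫ εC φ ((extC φ).obj K) = 𝟙 _ := by
  refine HomologicalComplex.hom_ext _ _ (fun i => ?_)
  exact (ModuleCat.extendRestrictScalarsAdj φ).left_triangle_components (K.X i)

theorem right_triangle_C (L : DRing.Cx B) :
    ηC φ ((resC φ).obj L) ≫ (resC φ).map (εC φ L) = 𝟙 _ := by
  refine HomologicalComplex.hom_ext _ _ (fun i => ?_)
  exact (ModuleCat.extendRestrictScalarsAdj φ).right_triangle_components (L.X i)

/-- extension ⊣ restriction on homotopy categories -/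
noncomputable def adjK : extK φ ⊣ resK φ :=
  Adjunction.mkOfUnitCounit
    { unit :=
        { app := fun X => (quo A).map (ηC φ X.as)
          naturality := by
            rintro ⟨K⟩ ⟨L⟩ ⟨f⟩
            change (quo A).map f ≫ (quo A).map (ηC φ L) =
              (quo A).map (ηC φ K) ≫ (quo A).map ((resC φ).map ((extC φ).map f))
            rw [← Functor.map_comp, ← Functor.map_comp, ηC_nat] }
      counit :=
        { app := fun Y => (quo B).map (εC φ Y.as)
          naturality := by
            rintro ⟨K⟩ ⟨L⟩ ⟨f⟩
            change (quo B).map ((extC φ).map ((resC φ).map f)) ≫ (quo B).map (εC φ L) =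
              (quo B).map (εC φ K) ≫ (quo B).map f
            rw [← Functor.map_comp, ← Functor.map_comp, εC_nat] }
      left_triangle := by
        ext ⟨K⟩
        change ((quo B).map ((extC φ).map (ηC φ K)) ≫ 𝟙 _ ≫ (quo B).map (εC φ ((extC φ).obj K))) =
          𝟙 _
        rw [Category.id_comp, ← Functor.map_comp, left_triangle_C, CategoryTheory.Functor.map_id]
      right_triangle := by
        ext ⟨L⟩
        change ((quo A).map (ηC φ ((resC φ).obj L)) ≫ 𝟙 _ ≫ (quo A).map ((resC φ).map (εC φ L))) =
          𝟙 _
        rw [Category.id_comp, ← Functor.map_comp, right_triangle_C, CategoryTheory.Functor.map_id] }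

/-- the counit of derived base change -/
noncomputable abbrev αLBC [DRing.HasLBaseChange φ] :
    DerivedCategory.Qh ⋙ DRing.LBaseChange φ ⟶ extK φ ⋙ DerivedCategory.Qh :=
  (DRing.baseChangeKh φ).totalLeftDerivedCounit DerivedCategory.Qh (WK A)

/-- the factorisation of restriction -/
noncomputable abbrev eRes :
    DerivedCategory.Qh ⋙ DRing.restrictD φ ≅ resK φ ⋙ DerivedCategory.Qh :=
  (ModuleCat.restrictScalars.{u} φ).mapDerivedCategoryFactorsh

theorem inverts_resK_Qh : (WK B).IsInvertedBy (resK φ ⋙ DerivedCategory.Qh) := by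
  intro X Y f hf
  haveI : IsIso (DerivedCategory.Qh.map f) := Localization.inverts _ (WK B) f hf
  have h := NatIso.naturality_1 (eRes φ) f
  dsimp at h ⊢
  rw [← h]
  infer_instance

/-- derived base change is left adjoint to restriction -/
noncomputable def adjD [DRing.HasLBaseChange φ] : DRing.LBaseChange φ ⊣ DRing.restrictD φ := by
  haveI : (DRing.restrictD φ).IsRightDerivedFunctor (eRes φ).inv (WK B) :=
    Functor.isRightDerivedFunctor_of_inverts (WK B) _ (eRes φ)
  haveI : (DRing.LBaseChange φ ⋙ DRing.restrictD φ).IsLeftDerivedFunctor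
      ((Functor.associator _ _ _).inv ≫ Functor.whiskerRight (αLBC φ) (DRing.restrictD φ))
      (WK A) :=
    isLeftDerivedFunctor_comp (extK φ ⋙ DerivedCategory.Qh) (DRing.LBaseChange φ) (αLBC φ)
      (DRing.restrictD φ)
  haveI : (DRing.restrictD φ ⋙ DRing.LBaseChange φ).IsRightDerivedFunctor
      (Functor.whiskerRight (eRes φ).inv (DRing.LBaseChange φ) ≫ (Functor.associator _ _ _).hom)
      (WK B) := by
    rw [Functor.isRightDerivedFunctor_iff_of_inverts]
    · infer_instance
    · intro X Y f hf
      haveI := inverts_resK_Qh φ f hf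
      dsimp at this ⊢
      infer_instance
  exact (adjK φ).derived (WK A) (WK B) (αLBC φ) (eRes φ).inv

end Groth.Agent.Helper3.KP
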