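import Groth.Agent.Lib.Helper3.KF1

/-!
# Consequences of K-flatness of K-projective complexes; the Hom complex into a K-injective complex
(helper3)
-/

set_option autoImplicit false

open CategoryTheory CategoryTheory.Limits MonoidalCategory CochainComplex HomComplex
open scoped TensorProduct

universe u

attribute [local instance] HasDerivedCategory.standard

namespace Groth.Agent.Helper3.KF

open Groth.Agent.Helper11.LDer Groth.Agent.Helper11.DC Groth.Agent.Helper11.Tel
open Groth.Agent.Helper3.HT Groth.Agent.Helper3.DT Groth.Agent.Helper3.RH Groth.Agent.Helper3.DS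
open Groth.Agent.Helper3.TH

variable {A : Type u} [CommRing A]

theorem isIso_of_square' {C : Type*} [Category C] {X X' Y Y' : C} {a : X ⟶ X'} {b : Y ⟶ Y'}
    {f : X ⟶ Y} {f' : X' ⟶ Y'} (h : a ≫ f' = f ≫ b) [IsIso a] [IsIso b] [IsIso f] : IsIso f' := by
  have : f' = inv a ≫ f ≫ b := by
    rw [← h, IsIso.inv_hom_id_assoc]
  rw [this]
  infer_instance

/-- lifting morphisms of `D(A)` into a K-injective complex to chain maps -/
theorem exists_lift_of_isKInjective (X I : DRing.Cx A) [I.IsKInjective]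
    (g : DerivedCategory.Q.obj X ⟶ DerivedCategory.Q.obj I) :
    ∃ φ : X ⟶ I, DerivedCategory.Q.map φ = g := by
  obtain ⟨ψ, hψ⟩ := (CochainComplex.IsKInjective.Qh_map_bijective
    ((HomotopyCategory.quotient _ _).obj X) I).2 g
  obtain ⟨φ, rfl⟩ := (HomotopyCategory.quotient _ _).map_surjective ψ
  exact ⟨φ, hψ⟩

theorem homotopy_of_Q_map_eq_of_isKInjective (X I : DRing.Cx A) [I.IsKInjective] (f g : X ⟶ I)
    (h : DerivedCategory.Q.map f = DerivedCategory.Q.map g) : Nonempty (Homotopy f g) := by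
  have h1 := (CochainComplex.IsKInjective.Qh_map_bijective
    ((HomotopyCategory.quotient _ _).obj X) I).1
  exact ⟨HomotopyCategory.homotopyOfEq f g (h1 h)⟩

variable [DTen.HasLTen A]

/-- the counit `QX ⊗^L QP ⟶ Q(X ⊗ P)` is an isomorphism for `P` K-projective -/
theorem isIso_ε_right (X P : DRing.Cx A) [P.IsKProjective] : IsIso ((DTen.ε A).app (X, P)) := by
  obtain ⟨S, t, hS, -, ht⟩ := exists_kprojective_resolution X
  haveI := isIso_ε S P
  haveI := quasiIso_whiskerRight_of_isKProjective P t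
  haveI : IsIso (DerivedCategory.Q.map t) :=
    (DerivedCategory.isIso_Q_map_iff_quasiIso (φ := t)).mpr inferInstance
  haveI : IsIso (DerivedCategory.Q.map (t ▷ P)) :=
    (DerivedCategory.isIso_Q_map_iff_quasiIso (φ := t ▷ P)).mpr inferInstance
  haveI := isIso_tR (DerivedCategory.Q.map t) (DerivedCategory.Q.obj P)
  exact isIso_of_square' (ε_nat_left t P)

/-- the counit `QP ⊗^L QX ⟶ Q(P ⊗ X)` is an isomorphism for `P` K-projective -/
theorem isIso_ε_left (P X : DRing.Cx A) [P.IsKProjective] : IsIso ((DTen.ε A).app (P, X)) := by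
  obtain ⟨S, t, hS, -, ht⟩ := exists_kprojective_resolution X
  haveI := isIso_ε P S
  haveI := quasiIso_whiskerLeft_of_isKProjective P t
  haveI : IsIso (DerivedCategory.Q.map t) :=
    (DerivedCategory.isIso_Q_map_iff_quasiIso (φ := t)).mpr inferInstance
  haveI : IsIso (DerivedCategory.Q.map (P ◁ t)) :=
    (DerivedCategory.isIso_Q_map_iff_quasiIso (φ := P ◁ t)).mpr inferInstance
  haveI := isIso_tL (DerivedCategory.Q.obj P) (DerivedCategory.Q.map t)
  exact isIso_of_square' (ε_nat_right P t)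

theorem rh_surj_Q_inj (S P I : DRing.Cx A) [S.IsKProjective] [I.IsKInjective]
    (h : (DTen.LTen₂ A).obj (DerivedCategory.Q.obj S, DerivedCategory.Q.obj P) ⟶
      DerivedCategory.Q.obj I) :
    ∃ g : DerivedCategory.Q.obj S ⟶ DerivedCategory.Q.obj (DRing.homCx P I),
      tR(g, DerivedCategory.Q.obj P) ≫ evD P I = h := by
  haveI := isIso_ε_left S P
  obtain ⟨φ, hφ⟩ := exists_lift_of_isKInjective (S ⊗ P) I (inv ((DTen.ε A).app (S, P)) ≫ h)
  refine ⟨DerivedCategory.Q.map (curH φ), ?_⟩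
  rw [tR_Q_evD, uncH_curH, hφ, IsIso.hom_inv_id_assoc]

theorem rh_inj_Q_inj (S P I : DRing.Cx A) [S.IsKProjective] [I.IsKInjective]
    (g g' : DerivedCategory.Q.obj S ⟶ DerivedCategory.Q.obj (DRing.homCx P I))
    (h : tR(g, DerivedCategory.Q.obj P) ≫ evD P I = tR(g', DerivedCategory.Q.obj P) ≫ evD P I) :
    g = g' := by
  haveI := isIso_ε_left S P
  obtain ⟨ψ, rfl⟩ := exists_lift_of_isKProjective S _ g
  obtain ⟨ψ', rfl⟩ := exists_lift_of_isKProjective S _ g'
  rw [tR_Q_evD, tR_Q_evD, cancel_epi] at h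
  obtain ⟨H⟩ := homotopy_of_Q_map_eq_of_isKInjective (S ⊗ P) I _ _ h
  have H' := curHomotopy H
  rw [curH_uncH, curH_uncH] at H'
  exact DerivedCategory.Q_map_eq_of_homotopy (h := H')

theorem rh_bijective_inj (P I : DRing.Cx A) [I.IsKInjective] (T : Dual.D A) :
    Function.Bijective (fun g : T ⟶ DerivedCategory.Q.obj (DRing.homCx P I) =>
      tR(g, DerivedCategory.Q.obj P) ≫ evD P I) := by
  obtain ⟨S, hS, -, ⟨e⟩⟩ := exists_kprojective_rep T
  constructor
  · intro g g' h
    dsimp only at h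
    have h2 : tR(e.hom ≫ g, DerivedCategory.Q.obj P) ≫ evD P I =
        tR(e.hom ≫ g', DerivedCategory.Q.obj P) ≫ evD P I := by
      rw [tR_comp, tR_comp, Category.assoc, Category.assoc, h]
    have h3 := rh_inj_Q_inj S P I _ _ h2
    exact (cancel_epi e.hom).mp h3
  · intro h
    obtain ⟨g', hg'⟩ := rh_surj_Q_inj S P I (tR(e.hom, DerivedCategory.Q.obj P) ≫ h)
    refine ⟨e.inv ≫ g', ?_⟩
    dsimp only
    rw [tR_comp, Category.assoc, hg', ← tR_comp_assoc, e.inv_hom_id, tR_id, Category.id_comp]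

variable [DTen.HasRHom A]

/-- `Q(Hom(P, I)) ⟶ RHom(QP, QI)` is an isomorphism for `I` K-injective -/
theorem isIso_rhoInv_of_isKInjective (P I : DRing.Cx A) [I.IsKInjective] :
    IsIso (rhoInv P I) := by
  obtain ⟨r, hr⟩ := (rh_bijective_inj P I _).2
    (DTen.ev (DerivedCategory.Q.obj P) (DerivedCategory.Q.obj I))
  dsimp only at hr
  refine ⟨r, ?_, ?_⟩
  · apply (rh_bijective_inj P I _).1
    dsimp only
    rw [tR_comp, Category.assoc, hr, rhoInv_spec, tR_id, Category.id_comp]
  · apply adj_ext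
    rw [tR_comp, Category.assoc, rhoInv_spec, hr, tR_id, Category.id_comp]

/-- `Q(Hom(P, W)) ⟶ RHom(QP, QW)` is an isomorphism for `P` K-projective -/
theorem isIso_rhoInv_of_isKProjective (P W : DRing.Cx A) [P.IsKProjective] :
    IsIso (rhoInv P W) := (inferInstance : IsIso (rho P W).inv)

end Groth.Agent.Helper3.KF
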