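import Mathlib

/-!
# Algebras with a section: the map `Ω_{A/R} → I/I²`, `da ↦ [a - ε a]`
-/

set_option autoImplicit false
universe u

open TensorProduct KaehlerDifferential

namespace Groth.Agent.Helper3.SectionCot

variable {R A : Type*} [CommRing R] [CommRing A] [Algebra R A] (ε : A →ₐ[R] R)

lemma sub_mem_ker (a : A) : a - algebraMap R A (ε a) ∈ RingHom.ker ε := by
  rw [RingHom.mem_ker, map_sub, AlgHom.commutes, Algebra.algebraMap_self_apply, sub_self]

/-- the element `a - ε a` of the augmentation ideal -/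
def red (a : A) : ↥(RingHom.ker ε) := ⟨a - algebraMap R A (ε a), sub_mem_ker ε a⟩

lemma red_of_mem (a : A) (ha : a ∈ RingHom.ker ε) : red ε a = ⟨a, ha⟩ := by
  apply Subtype.ext
  show a - algebraMap R A (ε a) = a
  rw [RingHom.mem_ker.mp ha, map_zero, sub_zero]

/-- `A` acts on `I/I²` through `ε`. -/
lemma smul_cotangent (a : A) (m : (RingHom.ker ε).Cotangent) : a • m = (ε a) • m := by
  obtain ⟨x, rfl⟩ := Ideal.toCotangent_surjective _ m
  rw [← map_smul, ← LinearMap.map_smul_of_tower, Ideal.toCotangent_eq]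
  show a * (x : A) - (ε a) • (x : A) ∈ _
  rw [Algebra.smul_def, ← sub_mul, pow_two]
  exact Ideal.mul_mem_mul (sub_mem_ker ε a) x.2

/-- The derivation `a ↦ [a - ε a]`. -/
noncomputable def dCot : Derivation R A (RingHom.ker ε).Cotangent where
  toFun a := (RingHom.ker ε).toCotangent (red ε a)
  map_add' a b := by
    rw [← map_add]
    congr 1
    apply Subtype.ext
    show a + b - algebraMap R A (ε (a + b)) = (a - algebraMap R A (ε a)) + (b - algebraMap R A (ε b))
    rw [map_add, map_add]; ring
  map_smul' r a := by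
    rw [RingHom.id_apply, ← LinearMap.map_smul_of_tower]
    congr 1
    apply Subtype.ext
    show r • a - algebraMap R A (ε (r • a)) = r • (a - algebraMap R A (ε a))
    rw [map_smul, smul_sub, smul_eq_mul, map_mul, Algebra.smul_def, Algebra.smul_def]
  map_one_eq_zero' := by
    show (RingHom.ker ε).toCotangent (red ε 1) = 0
    rw [Ideal.toCotangent_eq_zero]
    show (1 : A) - algebraMap R A (ε 1) ∈ _
    rw [map_one, map_one, sub_self]
    exact Ideal.zero_mem _
  leibniz' a b := by
    show (RingHom.ker ε).toCotangent (red ε (a * b)) =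
      a • (RingHom.ker ε).toCotangent (red ε b) + b • (RingHom.ker ε).toCotangent (red ε a)
    rw [← map_smul, ← map_smul, ← map_add, Ideal.toCotangent_eq]
    show (a * b - algebraMap R A (ε (a * b))) -
      (a * (b - algebraMap R A (ε b)) + b * (a - algebraMap R A (ε a))) ∈ _
    have : (a * b - algebraMap R A (ε (a * b))) -
        (a * (b - algebraMap R A (ε b)) + b * (a - algebraMap R A (ε a))) =
        - ((a - algebraMap R A (ε a)) * (b - algebraMap R A (ε b))) := by
      rw [map_mul, map_mul]; ring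
    rw [this, pow_two]
    exact neg_mem (Ideal.mul_mem_mul (sub_mem_ker ε a) (sub_mem_ker ε b))

/-- `ρ : Ω_{A/R} → I/I²`, `da ↦ [a - ε a]`. -/
noncomputable def rho : Ω[A⁄R] →ₗ[A] (RingHom.ker ε).Cotangent :=
  (dCot ε).liftKaehlerDifferential

lemma rho_D (a : A) : rho ε (D R A a) = (RingHom.ker ε).toCotangent (red ε a) :=
  Derivation.liftKaehlerDifferential_comp_D _ a

lemma rho_D_of_mem (a : A) (ha : a ∈ RingHom.ker ε) :
    rho ε (D R A a) = (RingHom.ker ε).toCotangent ⟨a, ha⟩ := by
  rw [rho_D, red_of_mem ε a ha]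

/-- `D a = D (a - ε a)` -/
lemma D_red (a : A) : D R A a = D R A ((red ε a : ↥(RingHom.ker ε)) : A) := by
  show _ = D R A (a - algebraMap R A (ε a))
  rw [map_sub, Derivation.map_algebraMap, sub_zero]

end Groth.Agent.Helper3.SectionCot
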