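import Mathlib

/-!
# Formal smoothness / étaleness of `S → T` in terms of `T ⊗ Ω_{S/R} → Ω_{T/R}` when `T/R` is
formally smooth
-/

set_option autoImplicit false
universe u

open TensorProduct KaehlerDifferential

namespace Groth.Agent.Helper3.JZSmooth

variable (R S T : Type u) [CommRing R] [CommRing S] [CommRing T]
  [Algebra R S] [Algebra R T] [Algebra S T] [IsScalarTower R S T]

lemma subsingleton_h1_of_injective [Algebra.FormallySmooth R T]
    (h : Function.Injective (mapBaseChange R S T)) : Subsingleton (Algebra.H1Cotangent S T) := by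
  refine ⟨fun x y => ?_⟩
  have key : ∀ z : Algebra.H1Cotangent S T, z = 0 := by
    intro z
    have h1 : mapBaseChange R S T (Algebra.H1Cotangent.δ R S T z) = 0 :=
      (Algebra.H1Cotangent.exact_δ_mapBaseChange R S T _).mpr ⟨z, rfl⟩
    have h2 : Algebra.H1Cotangent.δ R S T z = 0 := h (by rw [h1, map_zero])
    obtain ⟨w, rfl⟩ := (Algebra.H1Cotangent.exact_map_δ R S T z).mp h2
    rw [Subsingleton.elim w 0, map_zero]
  rw [key x, key y]

lemma injective_of_subsingleton_h1 [Subsingleton (Algebra.H1Cotangent S T)] :
    Function.Injective (mapBaseChange R S T) := by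
  rw [injective_iff_map_eq_zero]
  intro x hx
  obtain ⟨z, rfl⟩ := (Algebra.H1Cotangent.exact_δ_mapBaseChange R S T x).mp hx
  rw [Subsingleton.elim z 0, map_zero]

theorem formallyEtale_iff_bijective [Algebra.FormallySmooth R T] :
    Algebra.FormallyEtale S T ↔ Function.Bijective (mapBaseChange R S T) := by
  constructor
  · intro h
    exact (tensorKaehlerEquivOfFormallyEtale R S T).bijective
  · intro h
    have hΩ : Subsingleton (Ω[T⁄S]) := by
      have key : ∀ x : Ω[T⁄S], x = 0 := by
        intro x
        obtain ⟨y, rfl⟩ := KaehlerDifferential.map_surjective R S T x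
        obtain ⟨z, rfl⟩ := h.surjective y
        exact (KaehlerDifferential.exact_mapBaseChange_map R S T _).mpr ⟨z, rfl⟩
      exact ⟨fun x y => by rw [key x, key y]⟩
    exact ⟨hΩ, subsingleton_h1_of_injective R S T h.injective⟩

theorem formallySmooth_iff_retraction [Algebra.FormallySmooth R T] :
    Algebra.FormallySmooth S T ↔
      ∃ r : Ω[T⁄R] →ₗ[T] T ⊗[S] Ω[S⁄R], r ∘ₗ mapBaseChange R S T = LinearMap.id := by
  have hex := KaehlerDifferential.exact_mapBaseChange_map R S T
  have hsurj := KaehlerDifferential.map_surjective R S T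
  constructor
  · intro h
    have hinj := injective_of_subsingleton_h1 R S T
    obtain ⟨l, hl⟩ := Module.projective_lifting_property (KaehlerDifferential.map R S T T)
      LinearMap.id hsurj
    exact ((hex.split_tfae'.out 0 1 rfl rfl).mp ⟨hinj, l, hl⟩).2
  · rintro ⟨r, hr⟩
    have hinj : Function.Injective (mapBaseChange R S T) := by
      intro x y hxy
      have := congrArg r hxy
      rw [← LinearMap.comp_apply, ← LinearMap.comp_apply, hr] at this
      exact this
    obtain ⟨-, l, hl⟩ := (hex.split_tfae'.out 1 0 rfl rfl).mp ⟨hsurj, r, hr⟩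
    exact ⟨Module.Projective.of_split l (KaehlerDifferential.map R S T T) hl,
      subsingleton_h1_of_injective R S T hinj⟩

end Groth.Agent.Helper3.JZSmooth
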