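import Mathlib
import Groth.Agent.Lib.Helper3.JZSmooth
import Groth.Agent.Lib.Helper3.SectionCot

/-!
# A map of pointed schemes inducing an isomorphism on conormal modules of the sections
is étale along the section (affine form).
-/

set_option autoImplicit false
universe u

open TensorProduct KaehlerDifferential IsLocalRing

namespace Groth.Agent.Helper3.EtaleSection

open Groth.Agent.Helper3.SectionCot

section L
variable {T : Type*} [CommRing T] [IsLocalRing T] {M N : Type*} [AddCommGroup M] [AddCommGroup N]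
  [Module T M] [Module T N]

lemma bijective_of_local [Module.Finite T M] [Module.Finite T N] [Module.Projective T N]
    (f : M →ₗ[T] N)
    (ha : (⊤ : Submodule T N) ≤ LinearMap.range f ⊔ maximalIdeal T • (⊤ : Submodule T N))
    (hb : LinearMap.ker f ≤ maximalIdeal T • (⊤ : Submodule T M)) : Function.Bijective f := by
  have hsurj : Function.Surjective f := by
    rw [← LinearMap.range_eq_top, eq_top_iff]
    exact Submodule.le_of_le_smul_of_le_jacobson_bot Module.Finite.fg_top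
      (IsLocalRing.maximalIdeal_le_jacobson ⊥) ha
  refine ⟨?_, hsurj⟩
  obtain ⟨g, hg⟩ := Module.projective_lifting_property f LinearMap.id hsurj
  let π : M →ₗ[T] M := LinearMap.id - g ∘ₗ f
  have hπK : ∀ k ∈ LinearMap.ker f, π k = k := by
    intro k hk
    show k - g (f k) = k
    rw [LinearMap.mem_ker.mp hk, map_zero, sub_zero]
  have hπmem : ∀ m, π m ∈ LinearMap.ker f := by
    intro m
    rw [LinearMap.mem_ker]
    show f (m - g (f m)) = 0
    rw [map_sub]
    have : f (g (f m)) = f m := LinearMap.congr_fun hg (f m)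
    rw [this, sub_self]
  have hK : LinearMap.ker f = Submodule.map π ⊤ := by
    apply le_antisymm
    · intro k hk
      exact ⟨k, trivial, hπK k hk⟩
    · rintro _ ⟨m, -, rfl⟩
      exact hπmem m
  have hfg : (LinearMap.ker f).FG := by
    rw [hK]
    exact (Module.Finite.fg_top).map π
  have hle : LinearMap.ker f ≤ maximalIdeal T • LinearMap.ker f := by
    intro k hk
    have h1 := hb hk
    have h2 := Submodule.mem_map_of_mem (f := π) h1
    rw [Submodule.map_smul'', ← hK, hπK k hk] at h2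
    exact h2
  have := Submodule.eq_bot_of_le_smul_of_le_jacobson_bot _ _ hfg hle
    (IsLocalRing.maximalIdeal_le_jacobson ⊥)
  exact LinearMap.ker_eq_bot.mp this

end L

section main

variable (A B₁ B₂ : Type u) [CommRing A] [CommRing B₁] [CommRing B₂] [Algebra A B₁] [Algebra A B₂]
  [Algebra B₂ B₁] [IsScalarTower A B₂ B₁]
  (σ₁ : B₁ →ₐ[A] A) (σ₂ : B₂ →ₐ[A] A)
  (P : Ideal B₁) [P.IsPrime]

/-- the local ring -/
abbrev T := Localization.AtPrime P

/-- `T ⊗ Ω_{B₂/A}` -/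
abbrev M := T B₁ P ⊗[B₂] Ω[B₂⁄A]

/-- `M / 𝔪 M` -/
abbrev Mbar := M A B₁ B₂ P ⧸ (maximalIdeal (T B₁ P) • (⊤ : Submodule (T B₁ P) (M A B₁ B₂ P)))

variable {A B₁ B₂ σ₁ σ₂ P}

lemma kill (r : T B₁ P) (hr : r ∈ maximalIdeal (T B₁ P)) (m : Mbar A B₁ B₂ P) : r • m = 0 := by
  obtain ⟨m, rfl⟩ := Submodule.Quotient.mk_surjective _ m
  rw [← Submodule.Quotient.mk_smul, Submodule.Quotient.mk_eq_zero]
  exact Submodule.smul_mem_smul hr trivial

variable (hσ : σ₁.comp (IsScalarTower.toAlgHom A B₂ B₁) = σ₂) (hP : RingHom.ker σ₁ ≤ P)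
include hσ hP

omit hσ in
lemma algebraMap_mem₁ (b : B₁) (hb : b ∈ RingHom.ker σ₁) :
    algebraMap B₁ (T B₁ P) b ∈ maximalIdeal (T B₁ P) :=
  (IsLocalization.AtPrime.to_map_mem_maximal_iff (T B₁ P) P b).mpr (hP hb)

omit hP in
lemma map_mem_ker (y : B₂) (hy : y ∈ RingHom.ker σ₂) : algebraMap B₂ B₁ y ∈ RingHom.ker σ₁ := by
  rw [RingHom.mem_ker] at hy ⊢
  rw [← hσ] at hy
  exact hy

lemma algebraMap_mem₂ (y : B₂) (hy : y ∈ RingHom.ker σ₂) :
    algebraMap B₂ (T B₁ P) y ∈ maximalIdeal (T B₁ P) := by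
  rw [IsScalarTower.algebraMap_apply B₂ B₁ (T B₁ P)]
  exact algebraMap_mem₁ hP _ (map_mem_ker hσ y hy)

omit hσ in
/-- `B₁` acts on `Mbar` through `σ₁`. -/
lemma smul_bar (b : B₁) (m : Mbar A B₁ B₂ P) : b • m = (σ₁ b) • m := by
  have h1 : b = algebraMap A B₁ (σ₁ b) + (b - algebraMap A B₁ (σ₁ b)) := by ring
  have h2 : (b - algebraMap A B₁ (σ₁ b)) • m = 0 := by
    rw [← algebraMap_smul (T B₁ P)]
    exact kill _ (algebraMap_mem₁ hP _ (sub_mem_ker σ₁ b)) m
  conv_lhs => rw [h1, add_smul, h2, add_zero, algebraMap_smul]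

/-- `b₂ → Mbar`, `y ↦ [1 ⊗ dy]` -/
noncomputable def iota₀ : ↥(RingHom.ker σ₂) →ₗ[B₂] Mbar A B₁ B₂ P where
  toFun y := Submodule.Quotient.mk ((1 : T B₁ P) ⊗ₜ[B₂] D A B₂ (y : B₂))
  map_add' x y := by
    rw [Submodule.coe_add, map_add, TensorProduct.tmul_add, Submodule.Quotient.mk_add]
  map_smul' b y := by
    rw [RingHom.id_apply]
    show Submodule.Quotient.mk ((1 : T B₁ P) ⊗ₜ[B₂] D A B₂ (b * (y : B₂))) = _
    rw [Derivation.leibniz, TensorProduct.tmul_add, Submodule.Quotient.mk_add]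
    have h1 : (Submodule.Quotient.mk ((1 : T B₁ P) ⊗ₜ[B₂] ((y : B₂) • D A B₂ b)) :
        Mbar A B₁ B₂ P) = 0 := by
      rw [TensorProduct.tmul_smul, ← algebraMap_smul (T B₁ P) (y : B₂),
        Submodule.Quotient.mk_smul]
      exact kill _ (algebraMap_mem₂ hσ hP _ y.2) _
    rw [h1, add_zero, TensorProduct.tmul_smul, Submodule.Quotient.mk_smul]

/-- `b₂/b₂² → Mbar` -/
noncomputable def iota : (RingHom.ker σ₂).Cotangent →ₗ[B₂] Mbar A B₁ B₂ P :=
  Submodule.liftQ _ (iota₀ hσ hP) (by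
    intro x hx
    rw [LinearMap.mem_ker]
    refine Submodule.smul_induction_on hx ?_ ?_
    · intro u hu v _
      rw [map_smul, ← algebraMap_smul (T B₁ P) u]
      exact kill _ (algebraMap_mem₂ hσ hP _ hu) _
    · intro x y hx hy
      rw [map_add, hx, hy, add_zero])

lemma iota_toCotangent (y : ↥(RingHom.ker σ₂)) :
    iota hσ hP ((RingHom.ker σ₂).toCotangent y) =
      Submodule.Quotient.mk ((1 : T B₁ P) ⊗ₜ[B₂] D A B₂ (y : B₂)) := rfl

variable (hle : RingHom.ker σ₂ ≤ (RingHom.ker σ₁).comap (IsScalarTower.toAlgHom A B₂ B₁))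
  (hcot : Function.Bijective
      (Ideal.mapCotangent (RingHom.ker σ₂) (RingHom.ker σ₁) (IsScalarTower.toAlgHom A B₂ B₁) hle))
include hcot

/-- the conormal isomorphism -/
noncomputable def e : (RingHom.ker σ₂).Cotangent ≃ₗ[A] (RingHom.ker σ₁).Cotangent :=
  LinearEquiv.ofBijective _ hcot

omit hσ hP in
lemma e_toCotangent (y : ↥(RingHom.ker σ₂)) :
    e hle hcot ((RingHom.ker σ₂).toCotangent y) =
      (RingHom.ker σ₁).toCotangent ⟨algebraMap B₂ B₁ (y : B₂), hle y.2⟩ := rfl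

/-- `Ω_{B₁/A} → Mbar` -/
noncomputable def h₀ : Ω[B₁⁄A] →ₗ[B₁] Mbar A B₁ B₂ P where
  toFun ω := iota hσ hP ((e hle hcot).symm (rho σ₁ ω))
  map_add' x y := by rw [map_add, map_add, map_add]
  map_smul' b ω := by
    rw [RingHom.id_apply, map_smul, smul_cotangent σ₁ b, map_smul,
      LinearMap.map_smul_of_tower, smul_bar hP]

lemma h₀_D (y : B₂) :
    h₀ hσ hP hle hcot (D A B₁ (algebraMap B₂ B₁ y)) =
      Submodule.Quotient.mk ((1 : T B₁ P) ⊗ₜ[B₂] D A B₂ y) := by
  show iota hσ hP ((e hle hcot).symm (rho σ₁ (D A B₁ (algebraMap B₂ B₁ y)))) = _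
  have h1 : rho σ₁ (D A B₁ (algebraMap B₂ B₁ y)) =
      e hle hcot ((RingHom.ker σ₂).toCotangent (red σ₂ y)) := by
    rw [rho_D, e_toCotangent]
    congr 1
    apply Subtype.ext
    show algebraMap B₂ B₁ y - algebraMap A B₁ (σ₁ (algebraMap B₂ B₁ y)) =
      algebraMap B₂ B₁ (y - algebraMap A B₂ (σ₂ y))
    rw [map_sub, ← IsScalarTower.algebraMap_apply A B₂ B₁, ← hσ]
    rfl
  rw [h1, LinearEquiv.symm_apply_apply, iota_toCotangent, ← D_red]

omit hσ hP hcot in
lemma hunit (x : P.primeCompl) :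
    IsUnit (algebraMap B₁ (Module.End B₁ (Mbar A B₁ B₂ P)) x) := by
  rw [Module.End.isUnit_iff]
  have hu : IsUnit (algebraMap B₁ (T B₁ P) x) := IsLocalization.map_units _ x
  constructor
  · intro m₁ m₂ h
    have h' : (algebraMap B₁ (T B₁ P) x) • m₁ = (algebraMap B₁ (T B₁ P) x) • m₂ := by
      rw [algebraMap_smul, algebraMap_smul]; exact h
    exact hu.smul_left_cancel.mp h'
  · intro m
    obtain ⟨u, hu'⟩ := hu
    refine ⟨(↑u⁻¹ : T B₁ P) • m, ?_⟩
    show (x : B₁) • ((↑u⁻¹ : T B₁ P) • m) = m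
    rw [← algebraMap_smul (T B₁ P) (x : B₁), ← hu', smul_smul, Units.mul_inv, one_smul]

/-- `Ω_{T/A} → Mbar`, `B₁`-linear -/
noncomputable def hB : Ω[T B₁ P⁄A] →ₗ[B₁] Mbar A B₁ B₂ P :=
  IsLocalizedModule.lift P.primeCompl (KaehlerDifferential.map A A B₁ (T B₁ P))
    (h₀ hσ hP hle hcot) (fun x => hunit (A := A) (B₂ := B₂) x)

/-- `Ω_{T/A} → Mbar` -/
noncomputable def hT : Ω[T B₁ P⁄A] →ₗ[T B₁ P] Mbar A B₁ B₂ P :=
  (hB hσ hP hle hcot).extendScalarsOfIsLocalization P.primeCompl (T B₁ P)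

lemma hT_map (ω : Ω[B₁⁄A]) :
    hT hσ hP hle hcot (KaehlerDifferential.map A A B₁ (T B₁ P) ω) = h₀ hσ hP hle hcot ω := by
  show hB hσ hP hle hcot (KaehlerDifferential.map A A B₁ (T B₁ P) ω) = _
  exact IsLocalizedModule.lift_apply _ _ _ _ _

lemma hT_comp_one (ω : Ω[B₂⁄A]) :
    hT hσ hP hle hcot (mapBaseChange A B₂ (T B₁ P) ((1 : T B₁ P) ⊗ₜ[B₂] ω)) =
      Submodule.Quotient.mk ((1 : T B₁ P) ⊗ₜ[B₂] ω) := by
  have hω : ω ∈ Submodule.span B₂ (Set.range (D A B₂)) := by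
    rw [KaehlerDifferential.span_range_derivation]; trivial
  induction hω using Submodule.span_induction with
  | mem x hx =>
    obtain ⟨y, rfl⟩ := hx
    rw [mapBaseChange_tmul, one_smul, KaehlerDifferential.map_D,
      IsScalarTower.algebraMap_apply B₂ B₁ (T B₁ P), ← KaehlerDifferential.map_D A A B₁ (T B₁ P),
      hT_map, h₀_D]
  | zero => rw [TensorProduct.tmul_zero, map_zero, map_zero, Submodule.Quotient.mk_zero]
  | add x y _ _ hx hy =>
    rw [TensorProduct.tmul_add, map_add, map_add, hx, hy, Submodule.Quotient.mk_add]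
  | smul b x _ hx =>
    have h2 : (1 : T B₁ P) ⊗ₜ[B₂] (b • x) =
        algebraMap B₂ (T B₁ P) b • ((1 : T B₁ P) ⊗ₜ[B₂] x) := by
      rw [TensorProduct.tmul_smul, algebraMap_smul]
    rw [h2, map_smul, map_smul, hx, Submodule.Quotient.mk_smul]

lemma hT_comp (m : M A B₁ B₂ P) :
    hT hσ hP hle hcot (mapBaseChange A B₂ (T B₁ P) m) = Submodule.Quotient.mk m := by
  induction m using TensorProduct.induction_on with
  | zero => rw [map_zero, map_zero, Submodule.Quotient.mk_zero]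
  | add x y hx hy => rw [map_add, map_add, hx, hy, Submodule.Quotient.mk_add]
  | tmul t ω =>
    have h1 : t ⊗ₜ[B₂] ω = t • ((1 : T B₁ P) ⊗ₜ[B₂] ω) := by
      rw [TensorProduct.smul_tmul', smul_eq_mul, mul_one]
    rw [h1, map_smul, map_smul, Submodule.Quotient.mk_smul, hT_comp_one]

omit hσ hcot hle in
/-- differentials of elements of `b₁²` vanish modulo `𝔪`. -/
lemma D_sq_mem (z : B₁) (hz : z ∈ RingHom.ker σ₁ ^ 2) :
    D A (T B₁ P) (algebraMap B₁ (T B₁ P) z) ∈
      maximalIdeal (T B₁ P) • (⊤ : Submodule (T B₁ P) Ω[T B₁ P⁄A]) := by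
  rw [pow_two] at hz
  refine Submodule.mul_induction_on hz ?_ ?_
  · intro u hu v hv
    rw [map_mul, Derivation.leibniz]
    exact add_mem (Submodule.smul_mem_smul (algebraMap_mem₁ hP u hu) trivial)
      (Submodule.smul_mem_smul (algebraMap_mem₁ hP v hv) trivial)
  · intro x y hx hy
    rw [map_add, map_add]
    exact add_mem hx hy

theorem bijective [Algebra.FiniteType A B₁] [Algebra.FiniteType A B₂]
    [Algebra.FormallySmooth A (T B₁ P)] :
    Function.Bijective (mapBaseChange A B₂ (T B₁ P)) := by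
  haveI : Algebra.EssFiniteType A (T B₁ P) := Algebra.EssFiniteType.comp A B₁ (T B₁ P)
  apply bijective_of_local
  · -- (a)
    have hspan := KaehlerDifferential.span_range_map_derivation_of_isLocalization A B₁ (T B₁ P)
      P.primeCompl
    refine le_trans (le_of_eq hspan.symm) (Submodule.span_le.mpr ?_)
    rintro _ ⟨b, rfl⟩
    show KaehlerDifferential.map A A B₁ (T B₁ P) (D A B₁ b) ∈ _
    rw [KaehlerDifferential.map_D]
    -- b = σ₁ b + red b
    have hb : D A (T B₁ P) (algebraMap B₁ (T B₁ P) b) =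
        D A (T B₁ P) (algebraMap B₁ (T B₁ P) ((red σ₁ b : ↥(RingHom.ker σ₁)) : B₁)) := by
      show _ = D A (T B₁ P) (algebraMap B₁ (T B₁ P) (b - algebraMap A B₁ (σ₁ b)))
      rw [map_sub, map_sub, ← IsScalarTower.algebraMap_apply A B₁ (T B₁ P),
        Derivation.map_algebraMap, sub_zero]
    rw [hb]
    obtain ⟨c, hc⟩ := hcot.surjective ((RingHom.ker σ₁).toCotangent (red σ₁ b))
    obtain ⟨y, rfl⟩ := Ideal.toCotangent_surjective _ c
    rw [Ideal.mapCotangent_toCotangent, Ideal.toCotangent_eq] at hc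
    have hc' : algebraMap B₂ B₁ (y : B₂) - ((red σ₁ b : ↥(RingHom.ker σ₁)) : B₁) ∈
        RingHom.ker σ₁ ^ 2 := hc
    have hdecomp : ((red σ₁ b : ↥(RingHom.ker σ₁)) : B₁) = algebraMap B₂ B₁ (y : B₂) -
        (algebraMap B₂ B₁ (y : B₂) - ((red σ₁ b : ↥(RingHom.ker σ₁)) : B₁)) := by ring
    rw [hdecomp, map_sub, map_sub]
    apply Submodule.sub_mem
    · apply Submodule.mem_sup_left
      refine ⟨(1 : T B₁ P) ⊗ₜ[B₂] D A B₂ (y : B₂), ?_⟩
      rw [mapBaseChange_tmul, one_smul, KaehlerDifferential.map_D,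
        IsScalarTower.algebraMap_apply B₂ B₁ (T B₁ P)]
    · exact Submodule.mem_sup_right (D_sq_mem hP _ hc')
  · -- (b)
    intro m hm
    rw [LinearMap.mem_ker] at hm
    have := hT_comp hσ hP hle hcot m
    rw [hm, map_zero] at this
    exact (Submodule.Quotient.mk_eq_zero _).mp this.symm

end main

end Groth.Agent.Helper3.EtaleSection
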