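import Mathlib
import Groth.Agent.Lib.Helper17.AR5
import Groth.Agent.Lib.Helper3.SectionCot
import Groth.Agent.S18962

/-!
# Completion along a section: general lemmas

* `mem_pow_of_map_mem_pow`: if `S` is formally smooth over `P` near the section (after inverting an
  element `b` which is `1` on the section), then `P/J^n → S/I^n` is injective.
* `exists_sub_mem_pow`: surjectivity of `P/J^n → S/I^n` from the case `n = 1` and the cotangent
  condition.
* `mapRingHom_bijective`: a ring map inducing bijections on all truncations induces a bijection of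
  adic completions.
-/

set_option autoImplicit false
universe u

namespace Groth.Agent.Helper3.SectionPoly

section Key

variable {P S C : Type u} [CommRing P] [CommRing S] [CommRing C] [Algebra P S] [Algebra P C]

/-- injectivity of `P/J^n → S/I^n` -/
theorem mem_pow_of_map_mem_pow (hsurjC : Function.Surjective (algebraMap P C))
    (τ : S →ₐ[P] C) (b : S) (hb : IsUnit (τ b)) [Algebra.FormallySmooth P (Localization.Away b)]
    (n : ℕ) (p : P) (hp : algebraMap P S p ∈ RingHom.ker τ ^ n) :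
    p ∈ RingHom.ker (algebraMap P C) ^ n := by
  rcases Nat.eq_zero_or_pos n with rfl | hn
  · rw [pow_zero, Ideal.one_eq_top]; trivial
  set J : Ideal P := RingHom.ker (algebraMap P C) with hJ
  -- the extension of `τ` to `S_b`
  let τb0 : Localization.Away b →+* C := IsLocalization.Away.lift (S := Localization.Away b) b hb
  have hτb0 : ∀ s : S, τb0 (algebraMap S (Localization.Away b) s) = τ s := fun s =>
    IsLocalization.Away.lift_eq b hb s
  let τb : Localization.Away b →ₐ[P] C :=
    { τb0 with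
      commutes' := fun q => by
        show τb0 (algebraMap P (Localization.Away b) q) = algebraMap P C q
        rw [IsScalarTower.algebraMap_apply P S (Localization.Away b), hτb0, AlgHom.commutes] }
  have hτb : ∀ s : S, τb (algebraMap S (Localization.Away b) s) = τ s := hτb0
  -- the truncation
  have hle : J ^ n ≤ RingHom.ker (Algebra.ofId P C) := by
    intro q hq
    exact Ideal.pow_le_self hn.ne' hq
  let g : P ⧸ J ^ n →ₐ[P] C := Ideal.Quotient.liftₐ (J ^ n) (Algebra.ofId P C) (fun q hq => hle hq)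
  have hg : ∀ q : P, g (Ideal.Quotient.mk (J ^ n) q) = algebraMap P C q := fun q => rfl
  have hgsurj : Function.Surjective g := fun c => by
    obtain ⟨q, rfl⟩ := hsurjC c
    exact ⟨Ideal.Quotient.mk _ q, hg q⟩
  have hker : RingHom.ker (g : P ⧸ J ^ n →+* C) ≤ J.map (Ideal.Quotient.mk (J ^ n)) := by
    intro y hy
    obtain ⟨q, rfl⟩ := Ideal.Quotient.mk_surjective y
    have : algebraMap P C q = 0 := hy
    exact Ideal.mem_map_of_mem _ this
  have hkerpow : RingHom.ker (g : P ⧸ J ^ n →+* C) ^ n = ⊥ := by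
    rw [eq_bot_iff]
    refine (Ideal.pow_right_mono hker n).trans ?_
    rw [← Ideal.map_pow, Ideal.map_quotient_self]
  have hnil : IsNilpotent (RingHom.ker (g : P ⧸ J ^ n →+* C)) := ⟨n, hkerpow⟩
  let ψ : Localization.Away b →ₐ[P] P ⧸ J ^ n :=
    Algebra.FormallySmooth.liftOfSurjective τb g hgsurj hnil
  have hψ : ∀ z, g (ψ z) = τb z := Algebra.FormallySmooth.liftOfSurjective_apply τb g hgsurj hnil
  let ψ' : S →ₐ[P] P ⧸ J ^ n := ψ.comp (IsScalarTower.toAlgHom P S (Localization.Away b))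
  have hψ' : ∀ s, g (ψ' s) = τ s := fun s => by
    show g (ψ (algebraMap S (Localization.Away b) s)) = τ s
    rw [hψ, hτb]
  have hI : (RingHom.ker τ).map ψ'.toRingHom ≤ RingHom.ker (g : P ⧸ J ^ n →+* C) := by
    rw [Ideal.map_le_iff_le_comap]
    intro s hs
    show g (ψ' s) = 0
    rw [hψ' s]; exact hs
  have h0 : ψ' (algebraMap P S p) = 0 := by
    have h1 : ψ' (algebraMap P S p) ∈ (RingHom.ker τ ^ n).map ψ'.toRingHom :=
      Ideal.mem_map_of_mem _ hp
    rw [Ideal.map_pow] at h1
    have h2 := Ideal.pow_right_mono hI n h1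
    rw [hkerpow] at h2
    exact h2
  rw [AlgHom.commutes] at h0
  exact Ideal.Quotient.eq_zero_iff_mem.mp h0

end Key

section Surj

variable {P S : Type u} [CommRing P] [CommRing S] [Algebra P S] (J : Ideal P) (I : Ideal S)

theorem map_pow_le (h3 : J.map (algebraMap P S) ≤ I) (n : ℕ) {q : P} (hq : q ∈ J ^ n) :
    algebraMap P S q ∈ I ^ n := by
  have : (J ^ n).map (algebraMap P S) ≤ I ^ n := by
    rw [Ideal.map_pow]; exact Ideal.pow_right_mono h3 n
  exact this (Ideal.mem_map_of_mem _ hq)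

theorem exists_sub_mem_pow_succ (h3 : J.map (algebraMap P S) ≤ I)
    (h1 : ∀ s : S, ∃ p : P, s - algebraMap P S p ∈ I)
    (h2 : ∀ v ∈ I, ∃ j ∈ J, v - algebraMap P S j ∈ I ^ 2) :
    ∀ n : ℕ, ∀ t ∈ I ^ n, ∃ q ∈ J ^ n, t - algebraMap P S q ∈ I ^ (n + 1) := by
  intro n
  induction n with
  | zero =>
    intro t _
    obtain ⟨p, hp⟩ := h1 t
    refine ⟨p, by rw [pow_zero, Ideal.one_eq_top]; trivial, ?_⟩
    rw [zero_add, pow_one]; exact hp
  | succ n ih =>
    intro t ht
    rw [pow_succ] at ht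
    refine Submodule.mul_induction_on ht ?_ ?_
    · intro u hu v hv
      obtain ⟨q, hq, hqu⟩ := ih u hu
      obtain ⟨j, hj, hjv⟩ := h2 v hv
      refine ⟨q * j, by rw [pow_succ]; exact Ideal.mul_mem_mul hq hj, ?_⟩
      have e : u * v - algebraMap P S (q * j) =
          (u - algebraMap P S q) * v + algebraMap P S q * (v - algebraMap P S j) := by
        rw [map_mul]; ring
      rw [e]
      apply Ideal.add_mem
      · have := Ideal.mul_mem_mul hqu hv
        rwa [← pow_succ] at this
      · have := Ideal.mul_mem_mul (map_pow_le J I h3 n hq) hjv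
        rwa [← pow_add] at this
    · intro y z ⟨q₁, hq₁, h₁⟩ ⟨q₂, hq₂, h₂⟩
      refine ⟨q₁ + q₂, Ideal.add_mem _ hq₁ hq₂, ?_⟩
      have e : y + z - algebraMap P S (q₁ + q₂) =
          (y - algebraMap P S q₁) + (z - algebraMap P S q₂) := by rw [map_add]; ring
      rw [e]; exact Ideal.add_mem _ h₁ h₂

theorem exists_sub_mem_pow (h3 : J.map (algebraMap P S) ≤ I)
    (h1 : ∀ s : S, ∃ p : P, s - algebraMap P S p ∈ I)
    (h2 : ∀ v ∈ I, ∃ j ∈ J, v - algebraMap P S j ∈ I ^ 2) :
    ∀ (n : ℕ) (s : S), ∃ p : P, s - algebraMap P S p ∈ I ^ n := by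
  intro n
  induction n with
  | zero => intro s; exact ⟨0, by rw [pow_zero, Ideal.one_eq_top]; trivial⟩
  | succ n ih =>
    intro s
    obtain ⟨p, hp⟩ := ih s
    obtain ⟨q, -, hq⟩ := exists_sub_mem_pow_succ J I h3 h1 h2 n _ hp
    refine ⟨p + q, ?_⟩
    have e : s - algebraMap P S (p + q) = s - algebraMap P S p - algebraMap P S q := by
      rw [map_add]; ring
    rw [e]; exact hq

theorem quotientMap_bijective (h3 : J.map (algebraMap P S) ≤ I)
    (h1 : ∀ s : S, ∃ p : P, s - algebraMap P S p ∈ I)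
    (h2 : ∀ v ∈ I, ∃ j ∈ J, v - algebraMap P S j ∈ I ^ 2)
    (hinj : ∀ (n : ℕ) (p : P), algebraMap P S p ∈ I ^ n → p ∈ J ^ n) (n : ℕ)
    (hc : J ^ n ≤ (I ^ n).comap (algebraMap P S)) :
    Function.Bijective (Ideal.quotientMap (I ^ n) (algebraMap P S) hc) := by
  constructor
  · rw [injective_iff_map_eq_zero]
    intro y hy
    obtain ⟨p, rfl⟩ := Ideal.Quotient.mk_surjective y
    rw [Ideal.quotientMap_mk, Ideal.Quotient.eq_zero_iff_mem] at hy
    exact Ideal.Quotient.eq_zero_iff_mem.mpr (hinj n p hy)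
  · intro y
    obtain ⟨s, rfl⟩ := Ideal.Quotient.mk_surjective y
    obtain ⟨p, hp⟩ := exists_sub_mem_pow J I h3 h1 h2 n s
    refine ⟨Ideal.Quotient.mk _ p, ?_⟩
    rw [Ideal.quotientMap_mk, eq_comm, Ideal.Quotient.eq]
    exact hp

end Surj

section Bij

open Groth.Agent.Helper17.AR

variable {Q P : Type u} [CommRing Q] [CommRing P] (I' : Ideal Q) (J : Ideal P) (g : Q →+* P)
  (hg : I'.map g ≤ J)

theorem mapRingHom_bijective
    (h : ∀ k, Function.Bijective (Ideal.quotientMap (J ^ k) g (pow_le_comap I' J g hg k))) :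
    Function.Bijective (mapRingHom I' J g hg) := by
  constructor
  · rw [injective_iff_map_eq_zero]
    intro x hx
    apply AdicCompletion.ext_evalₐ
    intro k
    apply (h k).1
    rw [← evalₐ_mapRingHom I' J g hg, hx, map_zero, map_zero, map_zero]
  · intro y
    obtain ⟨c, rfl⟩ := AdicCompletion.mk_surjective J P y
    have hex : ∀ k, ∃ q : Q, Ideal.quotientMap (J ^ k) g (pow_le_comap I' J g hg k)
        (Ideal.Quotient.mk (I' ^ k) q) = Ideal.Quotient.mk (J ^ k) (c k) := fun k => by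
      obtain ⟨z, hz⟩ := (h k).2 (Ideal.Quotient.mk (J ^ k) (c k))
      obtain ⟨q, rfl⟩ := Ideal.Quotient.mk_surjective z
      exact ⟨q, hz⟩
    choose q hq using hex
    have hcauchy : AdicCompletion.IsAdicCauchy I' Q q := by
      intro m n hmn
      rw [SModEq.sub_mem, smul_eq_mul, Ideal.mul_top, ← Ideal.Quotient.eq]
      apply (h m).1
      rw [hq m, Ideal.quotientMap_mk]
      have h1 := hq n
      rw [Ideal.quotientMap_mk, Ideal.Quotient.eq] at h1
      rw [← AdicCompletion.Ideal.mk_eq_mk J hmn c, eq_comm, Ideal.Quotient.eq]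
      exact Ideal.pow_le_pow_right hmn h1
    refine ⟨AdicCompletion.mk I' Q ⟨q, hcauchy⟩, ?_⟩
    apply AdicCompletion.ext_evalₐ
    intro k
    rw [evalₐ_mapRingHom, AdicCompletion.evalₐ_mk, AdicCompletion.evalₐ_mk]
    exact hq k

end Bij

section Cot

variable {R S : Type u} [CommRing R] [CommRing S] [Algebra R S] (σ : S →ₐ[R] R)
  {ι : Type} [Fintype ι] (n : Module.Basis ι R (RingHom.ker σ).Cotangent)
  (x : ι → S) (hx : ∀ i, x i ∈ RingHom.ker σ)
  (hxn : ∀ i, (RingHom.ker σ).toCotangent ⟨x i, hx i⟩ = n i)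
  [Algebra (MvPolynomial ι R) S] [IsScalarTower R (MvPolynomial ι R) S]
  (hX : ∀ i, algebraMap (MvPolynomial ι R) S (MvPolynomial.X i) = x i)

/-- evaluation at zero -/
noncomputable def σ₂ (R : Type u) [CommRing R] (ι : Type) : MvPolynomial ι R →ₐ[R] R :=
  MvPolynomial.aeval (fun _ => (0 : R))

lemma σ₂_apply (p : MvPolynomial ι R) : σ₂ R ι p = MvPolynomial.constantCoeff p :=
  MvPolynomial.aeval_zero' p

lemma X_mem_ker (i : ι) : (MvPolynomial.X i : MvPolynomial ι R) ∈ RingHom.ker (σ₂ R ι) := by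
  rw [RingHom.mem_ker, σ₂_apply, MvPolynomial.constantCoeff_X]

lemma ker_σ₂ : RingHom.ker (σ₂ R ι) = MvPolynomial.idealOfVars ι R := by
  apply le_antisymm
  · intro p hp
    rw [RingHom.mem_ker, σ₂_apply] at hp
    have h1 : p ∈ MvPolynomial.idealOfVars ι R ^ 1 := by
      rw [MvPolynomial.mem_pow_idealOfVars_iff']
      intro y hy
      have hy0 : y = 0 := by
        have : y.degree = 0 := by omega
        exact (Finsupp.degree_eq_zero_iff y).mp this
      rw [hy0, ← MvPolynomial.constantCoeff_eq]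
      exact hp
    rwa [pow_one] at h1
  · rw [MvPolynomial.idealOfVars, Ideal.span_le]
    rintro _ ⟨i, rfl⟩
    exact X_mem_ker i

include hx hX in
lemma comp_eq : σ.comp (IsScalarTower.toAlgHom R (MvPolynomial ι R) S) = σ₂ R ι := by
  apply MvPolynomial.algHom_ext
  intro i
  show σ (algebraMap (MvPolynomial ι R) S (MvPolynomial.X i)) = σ₂ R ι (MvPolynomial.X i)
  rw [hX, σ₂_apply, MvPolynomial.constantCoeff_X]
  exact hx i

include hx hX in
lemma σ_algebraMap (p : MvPolynomial ι R) :
    σ (algebraMap (MvPolynomial ι R) S p) = σ₂ R ι p :=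
  AlgHom.congr_fun (comp_eq σ x hx hX) p

include hx hX in
lemma ker_le_comap : RingHom.ker (σ₂ R ι) ≤
    (RingHom.ker σ).comap (IsScalarTower.toAlgHom R (MvPolynomial ι R) S) := by
  intro p hp
  show σ (algebraMap (MvPolynomial ι R) S p) = 0
  rw [σ_algebraMap σ x hx hX]; exact hp

include hxn hX in
lemma exists_sub_mem_sq (v : S) (hv : v ∈ RingHom.ker σ) :
    ∃ j ∈ RingHom.ker (σ₂ R ι), v - algebraMap (MvPolynomial ι R) S j ∈ RingHom.ker σ ^ 2 := by
  let a := n.repr ((RingHom.ker σ).toCotangent ⟨v, hv⟩)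
  have h1 : ∑ i, a i • n i = (RingHom.ker σ).toCotangent ⟨v, hv⟩ := n.sum_repr _
  let p : MvPolynomial ι R := ∑ i, MvPolynomial.C (a i) * MvPolynomial.X i
  have hp : p ∈ RingHom.ker (σ₂ R ι) := by
    rw [RingHom.mem_ker, σ₂_apply, map_sum]
    refine Finset.sum_eq_zero (fun i _ => ?_)
    rw [map_mul, MvPolynomial.constantCoeff_X, mul_zero]
  refine ⟨p, hp, ?_⟩
  have e2 : (RingHom.ker σ).toCotangent (⟨v, hv⟩ - ∑ i, a i • ⟨x i, hx i⟩) = 0 := by
    rw [map_sub, map_sum, ← h1, sub_eq_zero]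
    refine Finset.sum_congr rfl (fun i _ => ?_)
    rw [LinearMap.map_smul_of_tower, hxn]
  rw [Ideal.toCotangent_eq_zero] at e2
  convert e2 using 1
  simp only [p, map_sum, map_mul, hX]
  rw [AddSubgroupClass.coe_sub, AddSubmonoidClass.coe_finsetSum]
  congr 1
  refine Finset.sum_congr rfl (fun i _ => ?_)
  show _ = a i • x i
  rw [Algebra.smul_def, IsScalarTower.algebraMap_apply R (MvPolynomial ι R) S,
    MvPolynomial.algebraMap_eq]

include hxn hX in
theorem hcot_bijective : Function.Bijective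
    (Ideal.mapCotangent (RingHom.ker (σ₂ R ι)) (RingHom.ker σ)
      (IsScalarTower.toAlgHom R (MvPolynomial ι R) S) (ker_le_comap σ x hx hX)) := by
  constructor
  · rw [injective_iff_map_eq_zero]
    intro c hc
    obtain ⟨⟨p, hp⟩, rfl⟩ := Ideal.toCotangent_surjective _ c
    have hp' : p ∈ Ideal.span (Set.range (MvPolynomial.X : ι → MvPolynomial ι R)) := by
      have := (ker_σ₂ (R := R) (ι := ι)).le hp
      exact this
    obtain ⟨c, hcp⟩ := Ideal.mem_span_range_iff_exists_fun.mp hp'
    have hpc : (RingHom.ker (σ₂ R ι)).toCotangent ⟨p, hp⟩ =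
        ∑ i, (σ₂ R ι (c i)) • (RingHom.ker (σ₂ R ι)).toCotangent ⟨MvPolynomial.X i, X_mem_ker i⟩ := by
      have : (⟨p, hp⟩ : ↥(RingHom.ker (σ₂ R ι))) = ∑ i, c i • ⟨MvPolynomial.X i, X_mem_ker i⟩ := by
        subst hcp
        apply Subtype.ext
        simp [smul_eq_mul]
      rw [this, map_sum]
      refine Finset.sum_congr rfl (fun i _ => ?_)
      rw [map_smul, Groth.Agent.Helper3.SectionCot.smul_cotangent (σ₂ R ι)]
    rw [hpc] at hc ⊢
    rw [map_sum] at hc
    have hc2 : ∑ i, (σ₂ R ι (c i)) • n i = 0 := by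
      have e1 : ∀ i, (Ideal.mapCotangent (RingHom.ker (σ₂ R ι)) (RingHom.ker σ)
          (IsScalarTower.toAlgHom R (MvPolynomial ι R) S) (ker_le_comap σ x hx hX))
          (σ₂ R ι (c i) • (RingHom.ker (σ₂ R ι)).toCotangent ⟨MvPolynomial.X i, X_mem_ker i⟩) =
          σ₂ R ι (c i) • n i := fun i => by
        rw [map_smul, Ideal.mapCotangent_toCotangent, ← hxn]
        congr 2
        apply Subtype.ext
        exact hX i
      rw [Finset.sum_congr rfl (fun i _ => e1 i)] at hc
      exact hc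
    have hc3 : ∀ i, σ₂ R ι (c i) = 0 := fun i =>
      (Fintype.linearIndependent_iff.mp n.linearIndependent _ hc2) i
    refine Finset.sum_eq_zero (fun i _ => ?_)
    rw [hc3 i, zero_smul]
  · intro c
    obtain ⟨⟨v, hv⟩, rfl⟩ := Ideal.toCotangent_surjective _ c
    obtain ⟨j, hj, hjv⟩ := exists_sub_mem_sq σ n x hx hxn hX v hv
    refine ⟨(RingHom.ker (σ₂ R ι)).toCotangent ⟨j, hj⟩, ?_⟩
    rw [Ideal.mapCotangent_toCotangent, Ideal.toCotangent_eq]
    show algebraMap (MvPolynomial ι R) S j - v ∈ RingHom.ker σ ^ 2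
    rw [← neg_sub]
    exact Ideal.neg_mem_iff _ |>.mpr hjv

end Cot

section Main

open Groth.Agent.Helper17.AR

variable {R S : Type u} [CommRing R] [CommRing S] [Algebra R S] [Algebra.Smooth R S]
  (σ : S →ₐ[R] R) (d : ℕ)

/-- there is an element `b` with `σ b = 1` such that `S_b` is formally étale over the polynomial
ring. -/
theorem exists_formallyEtale_away
    [Algebra (MvPolynomial (Fin d) R) S] [IsScalarTower R (MvPolynomial (Fin d) R) S]
    (het : ∀ (Q : Ideal S) [Q.IsPrime], RingHom.ker σ ≤ Q →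
      Algebra.IsEtaleAt (MvPolynomial (Fin d) R) Q) :
    ∃ b : S, σ b = 1 ∧ Algebra.FormallyEtale (MvPolynomial (Fin d) R) (Localization.Away b) := by
  haveI : Algebra.FinitePresentation R S := Algebra.Smooth.finitePresentation
  haveI : Algebra.FinitePresentation (MvPolynomial (Fin d) R) S :=
    Algebra.FinitePresentation.of_restrict_scalars_finitePresentation R _ S
  have hopen : IsOpen (Algebra.etaleLocus (MvPolynomial (Fin d) R) S) := Algebra.isOpen_etaleLocus
  obtain ⟨𝔟, h𝔟⟩ := (PrimeSpectrum.isClosed_iff_zeroLocus_ideal _).mp hopen.isClosed_compl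
  have htop : RingHom.ker σ ⊔ 𝔟 = ⊤ := by
    by_contra hne
    obtain ⟨M, hM, hle⟩ := Ideal.exists_le_maximal _ hne
    haveI := hM.isPrime
    have h1 : (⟨M, hM.isPrime⟩ : PrimeSpectrum S) ∈
        (Algebra.etaleLocus (MvPolynomial (Fin d) R) S)ᶜ := by
      rw [h𝔟, PrimeSpectrum.mem_zeroLocus]
      exact fun z hz => hle (Ideal.mem_sup_right hz)
    exact h1 (het M (le_sup_left.trans hle))
  obtain ⟨i, hi, b, hb, hib⟩ := Submodule.mem_sup.mp ((Ideal.eq_top_iff_one _).mp htop)
  refine ⟨b, ?_, ?_⟩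
  · have : σ (i + b) = 1 := by rw [hib, map_one]
    rw [map_add, (RingHom.mem_ker).mp hi, zero_add] at this
    exact this
  · rw [← Algebra.basicOpen_subset_etaleLocus_iff]
    intro Q hQ
    by_contra hne
    have : Q ∈ (Algebra.etaleLocus (MvPolynomial (Fin d) R) S)ᶜ := hne
    rw [h𝔟, PrimeSpectrum.mem_zeroLocus] at this
    exact hQ (this hb)

/-- the completion of a smooth algebra along a section with free conormal module is a power
series ring -/
theorem main (e : (RingHom.ker σ).Cotangent ≃ₗ[R] (Fin d → R)) :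
    Nonempty (AdicCompletion (RingHom.ker σ) S ≃ₐ[R] MvPowerSeries (Fin d) R) := by
  classical
  let n : Module.Basis (Fin d) R (RingHom.ker σ).Cotangent := Module.Basis.ofEquivFun e
  have hex : ∀ i, ∃ y : RingHom.ker σ, (RingHom.ker σ).toCotangent y = n i := fun i =>
    Ideal.toCotangent_surjective _ (n i)
  choose y hy using hex
  let x : Fin d → S := fun i => (y i : S)
  have hx : ∀ i, x i ∈ RingHom.ker σ := fun i => (y i).2
  have hxn : ∀ i, (RingHom.ker σ).toCotangent ⟨x i, hx i⟩ = n i := fun i => hy i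
  letI algPS : Algebra (MvPolynomial (Fin d) R) S := (MvPolynomial.aeval x).toRingHom.toAlgebra
  haveI : IsScalarTower R (MvPolynomial (Fin d) R) S :=
    IsScalarTower.of_algebraMap_eq (fun r => ((MvPolynomial.aeval x).commutes r).symm)
  have hX : ∀ i, algebraMap (MvPolynomial (Fin d) R) S (MvPolynomial.X i) = x i := fun i =>
    MvPolynomial.aeval_X x i
  haveI : Algebra.FinitePresentation R S := Algebra.Smooth.finitePresentation
  have hsm : ∀ (Q : Ideal S) [Q.IsPrime], RingHom.ker σ ≤ Q → Algebra.IsSmoothAt R Q := by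
    intro Q _ _
    haveI : Algebra.FormallySmooth R S := Algebra.Smooth.formallySmooth
    haveI : Algebra.FormallySmooth S (Localization.AtPrime Q) :=
      Algebra.FormallySmooth.of_isLocalization Q.primeCompl
    exact Algebra.FormallySmooth.comp R S (Localization.AtPrime Q)
  have het : ∀ (Q : Ideal S) [Q.IsPrime], RingHom.ker σ ≤ Q →
      Algebra.IsEtaleAt (MvPolynomial (Fin d) R) Q := fun Q _ hQ =>
    Groth.Agent.S18962.result R S (MvPolynomial (Fin d) R) σ (σ₂ R (Fin d))
      (comp_eq σ x hx hX) (ker_le_comap σ x hx hX) (hcot_bijective σ n x hx hxn hX) hsm Q hQ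
  obtain ⟨b, hb1, hbet⟩ := exists_formallyEtale_away σ d het
  haveI : Algebra.FormallySmooth (MvPolynomial (Fin d) R) (Localization.Away b) := inferInstance
  letI algPR : Algebra (MvPolynomial (Fin d) R) R := (σ₂ R (Fin d)).toRingHom.toAlgebra
  let τ : S →ₐ[MvPolynomial (Fin d) R] R :=
    { σ.toRingHom with
      commutes' := fun p => σ_algebraMap σ x hx hX p }
  have hτ : ∀ s, τ s = σ s := fun s => rfl
  have hkerτ : RingHom.ker τ = RingHom.ker σ := by
    ext s; simp only [RingHom.mem_ker, hτ]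
  have hsurjC : Function.Surjective (algebraMap (MvPolynomial (Fin d) R) R) := fun r =>
    ⟨MvPolynomial.C r, by
      show σ₂ R (Fin d) (MvPolynomial.C r) = r
      rw [σ₂_apply, MvPolynomial.constantCoeff_C]⟩
  have hkerC : RingHom.ker (algebraMap (MvPolynomial (Fin d) R) R) =
      MvPolynomial.idealOfVars (Fin d) R := by
    rw [← ker_σ₂]; rfl
  have hinj : ∀ (k : ℕ) (p : MvPolynomial (Fin d) R),
      algebraMap (MvPolynomial (Fin d) R) S p ∈ RingHom.ker σ ^ k →
      p ∈ MvPolynomial.idealOfVars (Fin d) R ^ k := by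
    intro k p hp
    rw [← hkerC]
    refine mem_pow_of_map_mem_pow hsurjC τ b ?_ k p ?_
    · rw [hτ, hb1]; exact isUnit_one
    · rw [hkerτ]; exact hp
  have h3 : (MvPolynomial.idealOfVars (Fin d) R).map (algebraMap (MvPolynomial (Fin d) R) S) ≤
      RingHom.ker σ := by
    rw [Ideal.map_le_iff_le_comap, ← ker_σ₂]
    exact ker_le_comap σ x hx hX
  have h1 : ∀ s : S, ∃ p : MvPolynomial (Fin d) R,
      s - algebraMap (MvPolynomial (Fin d) R) S p ∈ RingHom.ker σ := fun s =>
    ⟨MvPolynomial.C (σ s), by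
      rw [RingHom.mem_ker, map_sub, σ_algebraMap σ x hx hX, σ₂_apply,
        MvPolynomial.constantCoeff_C, sub_self]⟩
  have h2 : ∀ v ∈ RingHom.ker σ, ∃ j ∈ MvPolynomial.idealOfVars (Fin d) R,
      v - algebraMap (MvPolynomial (Fin d) R) S j ∈ RingHom.ker σ ^ 2 := fun v hv => by
    obtain ⟨j, hj, hjv⟩ := exists_sub_mem_sq σ n x hx hxn hX v hv
    exact ⟨j, (ker_σ₂ (R := R) (ι := Fin d)).le hj, hjv⟩
  have hbij := mapRingHom_bijective (MvPolynomial.idealOfVars (Fin d) R) (RingHom.ker σ)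
    (algebraMap (MvPolynomial (Fin d) R) S) h3
    (fun k => quotientMap_bijective _ _ h3 h1 h2 hinj k _)
  let Ψ : MvPowerSeries (Fin d) R ≃+* AdicCompletion (RingHom.ker σ) S :=
    (MvPowerSeries.toAdicCompletionAlgEquiv (Fin d) R).toRingEquiv.trans
      (RingEquiv.ofBijective _ hbij)
  have hΨ : ∀ r : R, Ψ (algebraMap R _ r) = algebraMap R _ r := by
    intro r
    show mapRingHom _ _ _ h3 (MvPowerSeries.toAdicCompletionAlgEquiv (Fin d) R
      (algebraMap R (MvPowerSeries (Fin d) R) r)) = _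
    have e1 : algebraMap R (MvPowerSeries (Fin d) R) r =
        ((MvPolynomial.C r : MvPolynomial (Fin d) R) : MvPowerSeries (Fin d) R) := by
      rw [MvPolynomial.coe_C]; rfl
    rw [e1, MvPowerSeries.toAdicCompletionAlgEquiv_apply, MvPowerSeries.toAdicCompletion_coe,
      mapRingHom_of, AdicCompletion.algebraMap_apply]
    congr 1
    rw [IsScalarTower.algebraMap_apply R (MvPolynomial (Fin d) R) S, MvPolynomial.algebraMap_eq]
  exact ⟨(AlgEquiv.ofRingEquiv (f := Ψ) hΨ).symm⟩

end Main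

end Groth.Agent.Helper3.SectionPoly
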