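import Groth.Agent.Lib.Helper3.HT4
import Groth.Agent.Lib.Helper3.DS1
import Mathlib.RingTheory.Flat.CategoryTheory
import Mathlib.Algebra.Homology.HomotopyCategory.ShiftSequence

/-!
# Tensoring with a bounded complex of finite projective modules preserves quasi-isomorphisms
-/

set_option autoImplicit false

open CategoryTheory CategoryTheory.Limits MonoidalCategory CochainComplex HomComplex
open scoped TensorProduct

universe u

attribute [local instance] HasDerivedCategory.standard

namespace Groth.Agent.Helper3.TH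

open Groth.Agent.Helper3.HT Groth.Agent.Helper3.DS

variable {A : Type u} [CommRing A]

/-- the complex `N ⊗ Y^{• - b}` with differential `(-1)^b (1 ⊗ d)` -/
noncomputable def gCx (N : ModuleCat.{u} A) (b : ℤ) (Y : DRing.Cx A) : DRing.Cx A where
  X m := N ⊗ Y.X (m + -b)
  d m m' := b.negOnePow • (N ◁ Y.d (m + -b) (m' + -b))
  shape m m' h := by
    rw [Y.shape _ _ (by simp at h ⊢; omega)]
    simp
  d_comp_d' m m' m'' _ _ := by
    rw [Linear.units_smul_comp, Linear.comp_units_smul, ← MonoidalCategory.whiskerLeft_comp,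
      Y.d_comp_d]
    simp

/-- functoriality of `gCx` -/
noncomputable def gMap (N : ModuleCat.{u} A) (b : ℤ) {Y Y' : DRing.Cx A} (s : Y ⟶ Y') :
    gCx N b Y ⟶ gCx N b Y' where
  f m := N ◁ s.f (m + -b)
  comm' m m' _ := by
    dsimp only [gCx]
    rw [Linear.units_smul_comp, Linear.comp_units_smul, ← MonoidalCategory.whiskerLeft_comp,
      ← MonoidalCategory.whiskerLeft_comp, s.comm]

theorem whiskerLeft_neg_negOnePow_smul (N : ModuleCat.{u} A) (b : ℤ) {M M' : ModuleCat.{u} A}
    (f : M ⟶ M') : N ◁ ((-b).negOnePow • f) = b.negOnePow • (N ◁ f) := by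
  rw [Int.negOnePow_neg, Units.smul_def, Units.smul_def]
  exact (tensorLeft N).map_zsmul

/-- comparison with Mathlib's functors -/
noncomputable def gIso (N : ModuleCat.{u} A) (b : ℤ) (Y : DRing.Cx A) :
    gCx N b Y ≅ ((tensorLeft N).mapHomologicalComplex (ComplexShape.up ℤ)).obj (Y⟦-b⟧) :=
  HomologicalComplex.Hom.isoOfComponents (fun m => Iso.refl _) (by
    intro m m' _
    refine (Category.id_comp _).trans (Eq.trans ?_ (Category.comp_id _).symm)
    exact whiskerLeft_neg_negOnePow_smul N b (Y.d (m + -b) (m' + -b)))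

theorem gIso_nat (N : ModuleCat.{u} A) (b : ℤ) {Y Y' : DRing.Cx A} (s : Y ⟶ Y') :
    gMap N b s ≫ (gIso N b Y').hom =
      (gIso N b Y).hom ≫ ((tensorLeft N).mapHomologicalComplex (ComplexShape.up ℤ)).map (s⟦-b⟧') := by
  apply HomologicalComplex.hom_ext
  intro m
  dsimp only [gIso, gMap, HomologicalComplex.comp_f, HomologicalComplex.Hom.isoOfComponents_hom_f,
    Iso.refl_hom]
  erw [Category.id_comp, Category.comp_id]
  rfl

theorem quasiIso_gMap (N : ModuleCat.{u} A) [Module.Flat A N] (b : ℤ) {Y Y' : DRing.Cx A}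
    (s : Y ⟶ Y') [QuasiIso s] : QuasiIso (gMap N b s) := by
  have h := gIso_nat N b s
  have h2 : gMap N b s = (gIso N b Y).hom ≫
      ((tensorLeft N).mapHomologicalComplex (ComplexShape.up ℤ)).map (s⟦-b⟧') ≫
      (gIso N b Y').inv := by
    rw [← Category.assoc, ← h, Category.assoc, Iso.hom_inv_id, Category.comp_id]
  rw [h2]
  infer_instance


/-- the comparison `E^b ⊗ Y^{• - b} ⟶ E ⊗ Y` for `E` concentrated in degree `b` -/
noncomputable def gHom (E : DRing.Cx A) (b : ℤ) (hz : ∀ p : ℤ, p ≠ b → IsZero (E.X p))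
    (Y : DRing.Cx A) : gCx (E.X b) b Y ⟶ E ⊗ Y where
  f m := HomologicalComplex.ιTensorObj E Y b (m + -b) m (by omega)
  comm' m m' hmm' := by
    change m + 1 = m' at hmm'
    subst hmm'
    dsimp only [gCx]
    rw [ι_d (K := E) (P := Y) b (m + -b) m (m + 1) (b + 1) (m + 1 + -b) (by omega) rfl rfl (by omega)]
    have h0 : E.d b (b + 1) = 0 := (hz (b + 1) (by omega)).eq_of_tgt _ _
    rw [h0, MonoidalPreadditive.zero_whiskerRight, zero_comp, zero_add, Linear.units_smul_comp]

instance isIso_gHom (E : DRing.Cx A) (b : ℤ) (hz : ∀ p : ℤ, p ≠ b → IsZero (E.X p))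
    (Y : DRing.Cx A) : IsIso (gHom E b hz Y) := by
  haveI : ∀ m, IsIso ((gHom E b hz Y).f m) := fun m =>
    isIso_ι_left E Y b hz (m + -b) m (by omega)
  exact HomologicalComplex.Hom.isIso_of_components _

theorem gHom_nat (E : DRing.Cx A) (b : ℤ) (hz : ∀ p : ℤ, p ≠ b → IsZero (E.X p))
    {Y Y' : DRing.Cx A} (s : Y ⟶ Y') :
    gMap (E.X b) b s ≫ gHom E b hz Y' = gHom E b hz Y ≫ (E ◁ s) := by
  apply HomologicalComplex.hom_ext
  intro m
  dsimp only [gMap, gHom, HomologicalComplex.comp_f]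
  exact (ι_whiskerLeft E s b (m + -b) m (by omega)).symm

/-- base case: tensoring with a complex concentrated in one degree, with flat term, preserves
quasi-isomorphisms -/
theorem quasiIso_whiskerLeft_of_single (E : DRing.Cx A) (b : ℤ)
    (hz : ∀ p : ℤ, p ≠ b → IsZero (E.X p)) [Module.Flat A (E.X b)] {Y Y' : DRing.Cx A}
    (s : Y ⟶ Y') [QuasiIso s] : QuasiIso (E ◁ s) := by
  haveI := quasiIso_gMap (E.X b) b s
  have h2 : E ◁ s = inv (gHom E b hz Y) ≫ gMap (E.X b) b s ≫ gHom E b hz Y' := by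
    rw [gHom_nat, IsIso.inv_hom_id_assoc]
  rw [h2]
  infer_instance


theorem single_props (N : ModuleCat.{u} A) (b : ℤ) [Module.Finite A N] [Module.Projective A N] :
    (∀ p : ℤ, p ≠ b → IsZero (((HomologicalComplex.single (ModuleCat.{u} A) (ComplexShape.up ℤ) b).obj N).X p)) ∧
    Module.Finite A (((HomologicalComplex.single (ModuleCat.{u} A) (ComplexShape.up ℤ) b).obj N).X b) ∧
    Module.Projective A (((HomologicalComplex.single (ModuleCat.{u} A) (ComplexShape.up ℤ) b).obj N).X b) := by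
  refine ⟨fun p hp => HomologicalComplex.isZero_single_obj_X _ _ _ _ hp, ?_, ?_⟩
  · exact Module.Finite.equiv
      (HomologicalComplex.singleObjXSelf (ComplexShape.up ℤ) b N).symm.toLinearEquiv
  · exact Module.Projective.of_equiv
      (HomologicalComplex.singleObjXSelf (ComplexShape.up ℤ) b N).symm.toLinearEquiv

/-- tensoring on the left with a bounded complex of finite projective modules preserves
quasi-isomorphisms -/
theorem quasiIso_whiskerLeft_of_perfect (E : DRing.Cx A) (a b : ℤ)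
    (hE : DRing.VanishesOutside E a b) (hfp : DRing.TermwiseFiniteProjective E)
    {Y Y' : DRing.Cx A} (s : Y ⟶ Y') (hs : QuasiIso s) : QuasiIso (E ◁ s) := by
  refine devissage (A := A) (fun E : DRing.Cx A => ∀ (Y Y' : DRing.Cx A) (s : Y ⟶ Y'), QuasiIso s → QuasiIso (E ◁ s))
    ?_ ?_ ?_ E a b hE hfp Y Y' s hs
  · intro E E' e h Y Y' s hs
    haveI := h Y Y' s hs
    have h2 : E' ◁ s = (e.inv ▷ Y) ≫ (E ◁ s) ≫ (e.hom ▷ Y') := by
      rw [← Category.assoc, ← MonoidalCategory.whisker_exchange, Category.assoc,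
        ← MonoidalCategory.comp_whiskerRight, e.inv_hom_id, MonoidalCategory.id_whiskerRight,
        Category.comp_id]
    rw [h2]
    infer_instance
  · intro S hS h1 h3 Y Y' s hs
    let φ : scWhiskerRight S Y ⟶ scWhiskerRight S Y' :=
      { τ₁ := S.X₁ ◁ s
        τ₂ := S.X₂ ◁ s
        τ₃ := S.X₃ ◁ s
        comm₁₂ := MonoidalCategory.whisker_exchange S.f s
        comm₂₃ := MonoidalCategory.whisker_exchange S.g s }
    exact quasiIso_τ₂ φ (hS.whiskerRight Y).shortExact (hS.whiskerRight Y').shortExact (h1 Y Y' s hs)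
      (h3 Y Y' s hs)
  · intro N b hN1 hN2 Y Y' s hs
    obtain ⟨hz, h1, h2⟩ := single_props N b
    exact quasiIso_whiskerLeft_of_single _ b hz s

end Groth.Agent.Helper3.TH
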