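import Mathlib
import Groth.Prelude.Def_CAlg
import Groth.Prelude.Def_BlowUp2
import Groth.Agent.Lib.Helper9.Depth6
import Groth.Agent.Lib.Helper3.SubStalk

universe u
open IsLocalRing CategoryTheory AlgebraicGeometry
open scoped Pointwise

namespace Groth.Agent.Helper3.SkDiv

theorem dim_depth_quot {R R' : Type u} [CommRing R] [CommRing R'] [IsLocalRing R] [IsLocalRing R']
    [IsNoetherianRing R] (φ : R →+* R') (hφ : Function.Surjective φ) (f : R)
    (hf : f ∈ nonZeroDivisors R) (hker : RingHom.ker φ = Ideal.span {f}) :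
    ringKrullDim R' + 1 = ringKrullDim R ∧ LocCoh.depth R' R' + 1 = LocCoh.depth R R := by
  have hfm : f ∈ maximalIdeal R := by
    have h1 : RingHom.ker φ ≠ ⊤ := RingHom.ker_ne_top φ
    have h2 : f ∈ RingHom.ker φ := hker ▸ Ideal.mem_span_singleton_self f
    exact IsLocalRing.le_maximalIdeal h1 h2
  have hN : IsNoetherianRing R' := isNoetherianRing_of_surjective R R' φ hφ
  constructor
  · have e : (R ⧸ Ideal.span {f}) ≃+* R' :=
      (Ideal.quotEquivOfEq hker.symm).trans (RingHom.quotientKerEquivOfSurjective hφ)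
    rw [← ringKrullDim_eq_of_ringEquiv e]
    exact ringKrullDim_quotient_span_singleton_succ_eq_ringKrullDim_of_mem_nonZeroDivisors hf hfm
  · let _ := φ.toAlgebra
    have hloc : IsLocalHom (algebraMap R R') := IsLocalHom.of_surjective φ hφ
    have hfin : Module.Finite R R' := Module.Finite.of_surjective (Algebra.linearMap R R') hφ
    have h1 : LocCoh.depth R R' = LocCoh.depth R' R' :=
      Groth.Agent.Helper9.Depth.depth_tower_eq (A := R) (B := R') R'
    have hreg : IsSMulRegular R f := Module.Flat.isSMulRegular_of_nonZeroDivisors hf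
    have h2 := Groth.Agent.Helper9.Depth.depth_quotSMulTop_succ (A := R) (M := R) hfm hreg
    have hsm : (f • ⊤ : Submodule R R) = LinearMap.ker (Algebra.linearMap R R') := by
      have : (f • ⊤ : Submodule R R) = Ideal.span {f} := by
        simp [← Submodule.ideal_span_singleton_smul]
      rw [this, ← hker]
      ext a
      simp [RingHom.mem_ker, RingHom.algebraMap_toAlgebra]
    let e : QuotSMulTop f R ≃ₗ[R] R' :=
      (Submodule.quotEquivOfEq _ _ hsm).trans
        (LinearMap.quotKerEquivOfSurjective (Algebra.linearMap R R') hφ)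
    rw [← h1, ← Groth.Agent.Helper9.Depth.depth_congr e, h2]

theorem arith (k : ℕ) (a : WithBot ℕ∞) (b : ℕ∞)
    (h : min (k : WithBot ℕ∞) (a + 1) ≤ ((b + 1 : ℕ∞) : WithBot ℕ∞)) :
    min ((k - 1 : ℕ) : WithBot ℕ∞) a ≤ ((b : ℕ∞) : WithBot ℕ∞) := by
  induction a with
  | bot => simp
  | coe a =>
    have h' : min (k : ℕ∞) (a + 1) ≤ b + 1 := by
      have : (min (k : WithBot ℕ∞) ((a : WithBot ℕ∞) + 1)) =
          ((min (k : ℕ∞) (a + 1) : ℕ∞) : WithBot ℕ∞) := by
        rw [WithBot.coe_min]; rfl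
      rw [this] at h
      exact_mod_cast h
    have goal' : min ((k - 1 : ℕ) : ℕ∞) a ≤ b := by
      rw [min_le_iff] at h' ⊢
      induction b with
      | top => exact Or.inl le_top
      | coe b =>
        rcases h' with h' | h'
        · left
          have : k ≤ b + 1 := by exact_mod_cast h'
          exact_mod_cast (by omega : k - 1 ≤ b)
        · right
          induction a with
          | top => simp at h'
          | coe a =>
            have : a + 1 ≤ b + 1 := by exact_mod_cast h'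
            exact_mod_cast (by omega : a ≤ b)
    have : (min (((k - 1 : ℕ) : ℕ∞) : WithBot ℕ∞) (a : WithBot ℕ∞)) =
        ((min ((k - 1 : ℕ) : ℕ∞) a : ℕ∞) : WithBot ℕ∞) := by
      rw [WithBot.coe_min]
    change min (((k - 1 : ℕ) : ℕ∞) : WithBot ℕ∞) (a : WithBot ℕ∞) ≤ _
    rw [this]
    exact_mod_cast goal'

theorem sk_divisor (X : Scheme.{u}) [IsLocallyNoetherian X] (k : ℕ)
    (hX : ∀ x : ↥X, min (k : WithBot ℕ∞) (ringKrullDim (X.presheaf.stalk x)) ≤
      ((LocCoh.depth (X.presheaf.stalk x) (X.presheaf.stalk x) : ℕ∞) : WithBot ℕ∞))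
    (𝓘 : X.IdealSheafData) (h𝓘 : BlowUp.IsEffCartierIdeal 𝓘) (d : ↥𝓘.subscheme) :
    min ((k - 1 : ℕ) : WithBot ℕ∞) (ringKrullDim (𝓘.subscheme.presheaf.stalk d)) ≤
      ((LocCoh.depth (𝓘.subscheme.presheaf.stalk d) (𝓘.subscheme.presheaf.stalk d) : ℕ∞) :
        WithBot ℕ∞) := by
  obtain ⟨U, hxU, f, hf, hI⟩ := h𝓘 (𝓘.subschemeι d)
  have hker := SubStalk.ker_stalkMap_subschemeι 𝓘 d U hxU
  rw [hI, Ideal.map_span, Set.image_singleton] at hker
  have hnzd : (X.presheaf.germ U.1 (𝓘.subschemeι d) hxU).hom f ∈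
      nonZeroDivisors (X.presheaf.stalk (𝓘.subschemeι d)) := by
    let _ := X.presheaf.algebra_section_stalk (U := U.1) ⟨𝓘.subschemeι d, hxU⟩
    have hloc := U.2.isLocalization_stalk ⟨𝓘.subschemeι d, hxU⟩
    exact IsLocalization.map_nonZeroDivisors_le
      (U.2.primeIdealOf ⟨𝓘.subschemeι d, hxU⟩).asIdeal.primeCompl
      (X.presheaf.stalk (𝓘.subschemeι d)) (Submonoid.mem_map_of_mem _ hf)
  obtain ⟨h1, h2⟩ := dim_depth_quot (𝓘.subschemeι.stalkMap d).hom
    (SubStalk.stalkMap_subschemeι_surjective 𝓘 d) _ hnzd hker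
  apply arith
  have := hX (𝓘.subschemeι d)
  rw [← h1, ← h2] at this
  exact this

end Groth.Agent.Helper3.SkDiv
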