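import Groth.Agent.Lib.Helper3.SepPts
import Groth.Prelude.Def_Coh
import Groth.Prelude.Def_Pic
import Groth.Prelude.Def_CohB1
import Groth.Prelude.Def_Curv2
import Mathlib.AlgebraicGeometry.Morphisms.Proper
import Mathlib.AlgebraicGeometry.Morphisms.Smooth
import Mathlib.AlgebraicGeometry.Morphisms.Finite

/-! Density of closed points with finite separable residue field on a smooth scheme over a field. -/

universe u

open CategoryTheory CategoryTheory.Limits AlgebraicGeometry

attribute [local instance] Curv2.resAlgebra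

namespace Groth.Agent.Helper3.SepPts

section Scheme

variable (k : Type u) [Field k] (X : Scheme.{u}) [X.Over (Spec (CommRingCat.of k))]

/-- The structure map `k → Γ(X, V)`. -/
noncomputable def toSection (V : X.Opens) : k →+* Γ(X, V) :=
  ((X ↘ Spec (CommRingCat.of k)).appLE ⊤ V (by simp)).hom.comp
    (Scheme.ΓSpecIso (CommRingCat.of k)).inv.hom

theorem toSection_smooth [Smooth (X ↘ (Spec (CommRingCat.of k)))] (V : X.Opens)
    (hV : IsAffineOpen V) : (toSection k X V).Smooth := by
  unfold toSection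
  refine RingHom.Smooth.comp (RingHom.Smooth.of_bijective ?_)
    (Smooth.smooth_appLE (X ↘ (Spec (CommRingCat.of k))) (isAffineOpen_top _) hV _)
  exact (ConcreteCategory.bijective_of_isIso (Scheme.ΓSpecIso (CommRingCat.of k)).inv)

theorem evaluation_toSection (V : X.Opens) (x : X) (hx : x ∈ V) (c : k) :
    (X.evaluation V x hx).hom (toSection k X V c) = Curv2.resMap k X x c := by
  unfold toSection Curv2.resMap Curv2.stalkMap Coh.toGlobal Scheme.evaluation
  simp only [RingHom.comp_apply, CommRingCat.hom_comp]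
  congr 1
  have h1 : (X ↘ Spec (CommRingCat.of k)).appLE ⊤ V (by simp) =
      (X ↘ Spec (CommRingCat.of k)).appTop ≫ X.presheaf.map (homOfLE (le_top : V ≤ ⊤)).op := by
    rfl
  rw [h1, CommRingCat.hom_comp, RingHom.comp_apply]
  exact congrArg (fun (g : Γ(X, ⊤) ⟶ X.presheaf.stalk x) => g.hom _)
    (X.presheaf.germ_res (homOfLE (le_top : V ≤ ⊤)) x hx)

/-- The residue field at the point of an affine open given by a maximal ideal. -/
theorem residueField_of_maximal (V : X.Opens) (hV : IsAffineOpen V)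
    (m : Ideal Γ(X, V)) (hm : m.IsMaximal) :
    letI : Algebra k Γ(X, V) := (toSection k X V).toAlgebra
    ∃ (x : X), x ∈ V ∧ (IsClosed ({⟨m, hm.isPrime⟩} : Set (Spec Γ(X, V))) → x ∈ V) ∧
      x = hV.fromSpec ⟨m, hm.isPrime⟩ ∧
      Nonempty ((Γ(X, V) ⧸ m) ≃ₐ[k] X.residueField x) := by
  letI : Algebra k Γ(X, V) := (toSection k X V).toAlgebra
  let y : Spec Γ(X, V) := ⟨m, hm.isPrime⟩
  have hxV : hV.fromSpec y ∈ V := by
    have := hV.range_fromSpec
    rw [← SetLike.mem_coe, ← this]
    exact Set.mem_range_self y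
  refine ⟨hV.fromSpec y, hxV, fun _ => hxV, rfl, ?_⟩
  set x := hV.fromSpec y with hx
  let ev : Γ(X, V) →+* X.residueField x := (X.evaluation V x hxV).hom
  have hev0 : ∀ a : Γ(X, V), ev a = 0 ↔ a ∈ m := by
    intro a
    have h1 := X.evaluation_eq_zero_iff_notMem_basicOpen x hxV a
    have h2 : x ∈ X.basicOpen a ↔ y ∈ hV.fromSpec ⁻¹ᵁ X.basicOpen a := Iff.rfl
    rw [hV.fromSpec_preimage_basicOpen] at h2
    change ev a = 0 ↔ _ at h1
    rw [h1, h2]
    change ¬ (a ∉ m) ↔ a ∈ m
    exact not_not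
  letI := Ideal.Quotient.field m
  let ψ : (Γ(X, V) ⧸ m) →+* X.residueField x :=
    Ideal.Quotient.lift m ev (fun a ha => (hev0 a).mpr ha)
  have hψinj : Function.Injective ψ := RingHom.injective ψ
  have hψsurj : Function.Surjective ψ := by
    intro z
    obtain ⟨s, rfl⟩ := X.residue_surjective x z
    letI : Algebra Γ(X, V) (X.presheaf.stalk x) :=
      TopCat.Presheaf.algebra_section_stalk X.presheaf ⟨x, hxV⟩
    haveI : IsLocalization.AtPrime (X.presheaf.stalk x) m := hV.isLocalization_stalk' y hxV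
    obtain ⟨⟨a, b⟩, hab⟩ := IsLocalization.surj (M := m.primeCompl) s
    have hab' : s * (X.presheaf.germ V x hxV).hom b = (X.presheaf.germ V x hxV).hom a := hab
    have hb : ev b ≠ 0 := fun h => b.2 ((hev0 b).mp h)
    have h3 : (X.residue x).hom s * ev b = ev a := by
      have := congrArg (X.residue x).hom hab'
      rw [map_mul] at this
      exact this
    refine ⟨Ideal.Quotient.mk m a / Ideal.Quotient.mk m b, ?_⟩
    rw [map_div₀]
    show ev a / ev b = _
    rw [← h3, mul_div_cancel_right₀ _ hb]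
  have hcomm : ∀ c : k, ψ (algebraMap k (Γ(X, V) ⧸ m) c) = algebraMap k (X.residueField x) c := by
    intro c
    exact evaluation_toSection k X V x hxV c
  exact ⟨AlgEquiv.ofBijective ⟨ψ, hcomm⟩ ⟨hψinj, hψsurj⟩⟩

theorem main [Smooth (X ↘ (Spec (CommRingCat.of k)))] :
    Dense {x : X | IsClosed ({x} : Set X) ∧ FiniteDimensional k (X.residueField x) ∧
      Algebra.IsSeparable k (X.residueField x)} := by
  rw [dense_iff_inter_open]
  intro U hU hne
  obtain ⟨x₀, hx₀⟩ := hne
  obtain ⟨_, ⟨V, hV, rfl⟩, hx₀V, hVU⟩ := X.isBasis_affineOpens.exists_subset_of_mem_open hx₀ hU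
  have hV' : IsAffineOpen V := hV
  letI : Algebra k Γ(X, V) := (toSection k X V).toAlgebra
  haveI : Algebra.Smooth k Γ(X, V) := toSection_smooth k X V hV'
  haveI : Nontrivial Γ(X, V) := by
    have : Nonempty (PrimeSpectrum Γ(X, V)) := ⟨hV'.primeIdealOf ⟨x₀, hx₀V⟩⟩
    exact PrimeSpectrum.nonempty_iff_nontrivial.mp this
  obtain ⟨m, hm, hfin, hsep⟩ := exists_maximal_sep k Γ(X, V)
  obtain ⟨x, hxV, -, hxeq, ⟨e⟩⟩ := residueField_of_maximal k X V hV' m hm
  refine ⟨x, hVU hxV, ?_, Module.Finite.equiv e.toLinearEquiv, AlgEquiv.Algebra.isSeparable e⟩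
  -- closedness
  haveI : JacobsonSpace X := LocallyOfFiniteType.jacobsonSpace (X ↘ (Spec (CommRingCat.of k)))
  have hy : (⟨m, hm.isPrime⟩ : Spec Γ(X, V)) ∈ closedPoints (Spec Γ(X, V)) := by
    have h0 : IsClosed ({⟨m, hm.isPrime⟩} : Set (PrimeSpectrum Γ(X, V))) :=
      (PrimeSpectrum.isClosed_singleton_iff_isMaximal _).mpr hm
    exact h0
  rw [← hV'.fromSpec.isOpenEmbedding.preimage_closedPoints] at hy
  rw [hxeq]
  exact hy

end Scheme

end Groth.Agent.Helper3.SepPts
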