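import Groth.Agent.Lib.Helper3.SepPts2
import Groth.Agent.Lib.Helper14.SmoothReg

/-! Smooth schemes over a field have regular local rings. -/

universe u

open CategoryTheory CategoryTheory.Limits AlgebraicGeometry

namespace Groth.Agent.Helper3.SmoothRegSch

open Groth.Agent.Helper3.SepPts

theorem main (k : Type u) [Field k] (X : Scheme.{u}) [X.Over (Spec (CommRingCat.of k))]
    [Smooth (X ↘ (Spec (CommRingCat.of k)))] (x : X) :
    IsRegularLocalRing (X.presheaf.stalk x) := by
  obtain ⟨_, ⟨V, hV, rfl⟩, hxV, -⟩ :=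
    X.isBasis_affineOpens.exists_subset_of_mem_open (Set.mem_univ x) isOpen_univ
  have hV' : IsAffineOpen V := hV
  letI : Algebra k Γ(X, V) := (toSection k X V).toAlgebra
  haveI : Algebra.Smooth k Γ(X, V) := toSection_smooth k X V hV'
  haveI : IsRegularRing k := inferInstance
  haveI hreg : IsRegularRing Γ(X, V) :=
    Groth.Agent.Helper14.SmoothReg.isRegularRing_of_smooth k Γ(X, V)
  letI : Algebra Γ(X, V) (X.presheaf.stalk x) :=
    TopCat.Presheaf.algebra_section_stalk X.presheaf ⟨x, hxV⟩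
  haveI : IsLocalization.AtPrime (X.presheaf.stalk x) (hV'.primeIdealOf ⟨x, hxV⟩).asIdeal :=
    hV'.isLocalization_stalk ⟨x, hxV⟩
  have h1 : IsRegularLocalRing (Localization.AtPrime (hV'.primeIdealOf ⟨x, hxV⟩).asIdeal) :=
    inferInstance
  exact IsRegularLocalRing.of_ringEquiv
    (IsLocalization.algEquiv (hV'.primeIdealOf ⟨x, hxV⟩).asIdeal.primeCompl
      (Localization.AtPrime (hV'.primeIdealOf ⟨x, hxV⟩).asIdeal) (X.presheaf.stalk x)).toRingEquiv

end Groth.Agent.Helper3.SmoothRegSch
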