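import Mathlib

set_option autoImplicit false
universe u
open TensorProduct

namespace Groth.Agent.Helper3.FlatExact

section FlatExact
variable {R : Type u} [CommRing R] {M' M M'' : Type u} [AddCommGroup M'] [AddCommGroup M]
  [AddCommGroup M''] [Module R M'] [Module R M] [Module R M'']

/-- Extension of flat modules is flat. -/
theorem flat_of_exact_mid (i : M' →ₗ[R] M) (π : M →ₗ[R] M'') (hi : Function.Injective i)
    (hπ : Function.Surjective π) (hex : Function.Exact i π) [Module.Flat R M']
    [Module.Flat R M''] : Module.Flat R M := by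
  rw [Module.Flat.iff_lTensor_preserves_injective_linearMap]
  intro N N' _ _ _ _ u hu
  -- want: u.lTensor M : M ⊗ N → M ⊗ N' injective
  rw [injective_iff_map_eq_zero]
  intro x hx
  -- image in M'' ⊗ N
  have h1 : (u.lTensor M'') ((π.rTensor N) x) = 0 := by
    have : (u.lTensor M'') ((π.rTensor N) x) = (π.rTensor N') ((u.lTensor M) x) := by
      rw [← LinearMap.comp_apply, ← LinearMap.comp_apply, LinearMap.lTensor_comp_rTensor,
        LinearMap.rTensor_comp_lTensor]
    rw [this, hx, map_zero]
  have h2 : (π.rTensor N) x = 0 :=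
    (injective_iff_map_eq_zero _).mp
      (Module.Flat.lTensor_preserves_injective_linearMap (M := M'') u hu) _ h1
  obtain ⟨y, rfl⟩ := (rTensor_exact N hex hπ x).mp h2
  have h3 : (i.rTensor N') ((u.lTensor M') y) = 0 := by
    have : (i.rTensor N') ((u.lTensor M') y) = (u.lTensor M) ((i.rTensor N) y) := by
      rw [← LinearMap.comp_apply, ← LinearMap.comp_apply, LinearMap.rTensor_comp_lTensor,
        LinearMap.lTensor_comp_rTensor]
    rw [this, hx]
  have hinj : Function.Injective (i.rTensor N') := by
    have := LinearMap.lTensor_injective_of_exact_of_flat π hπ i hi hex N'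
    -- convert lTensor N' i injective to rTensor
    intro a b hab
    apply (TensorProduct.comm R M' N').injective
    apply this
    have h4 : ∀ z, (i.lTensor N') ((TensorProduct.comm R M' N') z) =
        (TensorProduct.comm R M N') ((i.rTensor N') z) := by
      intro z
      induction z using TensorProduct.induction_on with
      | zero => simp
      | tmul a b => simp
      | add a b ha hb => simp only [map_add, ha, hb]
    rw [h4, h4, hab]
  have h5 : (u.lTensor M') y = 0 := (injective_iff_map_eq_zero _).mp hinj _ h3
  have h6 : y = 0 :=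
    (injective_iff_map_eq_zero _).mp
      (Module.Flat.lTensor_preserves_injective_linearMap (M := M') u hu) _ h5
  rw [h6, map_zero]

/-- Kernel of a surjection of flat modules is flat. -/
theorem flat_of_exact_left (i : M' →ₗ[R] M) (π : M →ₗ[R] M'') (hi : Function.Injective i)
    (hπ : Function.Surjective π) (hex : Function.Exact i π) [Module.Flat R M]
    [Module.Flat R M''] : Module.Flat R M' := by
  rw [Module.Flat.iff_lTensor_preserves_injective_linearMap]
  intro N N' _ _ _ _ u hu
  rw [injective_iff_map_eq_zero]
  intro y hy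
  have hinj : Function.Injective (i.rTensor N) := by
    have := LinearMap.lTensor_injective_of_exact_of_flat π hπ i hi hex N
    intro a b hab
    apply (TensorProduct.comm R M' N).injective
    apply this
    have h4 : ∀ z, (i.lTensor N) ((TensorProduct.comm R M' N) z) =
        (TensorProduct.comm R M N) ((i.rTensor N) z) := by
      intro z
      induction z using TensorProduct.induction_on with
      | zero => simp
      | tmul a b => simp
      | add a b ha hb => simp only [map_add, ha, hb]
    rw [h4, h4, hab]
  have h1 : (u.lTensor M) ((i.rTensor N) y) = 0 := by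
    have : (u.lTensor M) ((i.rTensor N) y) = (i.rTensor N') ((u.lTensor M') y) := by
      rw [← LinearMap.comp_apply, ← LinearMap.comp_apply, LinearMap.rTensor_comp_lTensor,
        LinearMap.lTensor_comp_rTensor]
    rw [this, hy, map_zero]
  have h2 : (i.rTensor N) y = 0 :=
    (injective_iff_map_eq_zero _).mp
      (Module.Flat.lTensor_preserves_injective_linearMap (M := M) u hu) _ h1
  exact (injective_iff_map_eq_zero _).mp hinj _ h2

end FlatExact


section Quot
variable {A B : Type u} [CommRing A] [CommRing B] [Algebra A B]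

/-- multiplication by `f`: `B/J → B/(fJ)`. -/
noncomputable def mulQ (f : B) (J : Ideal B) : B ⧸ J →ₗ[B] B ⧸ (Ideal.span {f} * J) :=
  Submodule.mapQ J (Ideal.span {f} * J) (LinearMap.mul B B f) (by
    intro b hb
    rw [Submodule.mem_comap]
    show f * b ∈ Ideal.span {f} * J
    exact Ideal.mul_mem_mul (Ideal.mem_span_singleton_self f) hb)

noncomputable def projQ (f : B) (J : Ideal B) :
    B ⧸ (Ideal.span {f} * J) →ₗ[B] B ⧸ Ideal.span {f} :=
  Submodule.factor (Ideal.mul_le_left (I := Ideal.span {f}) (J := J))

theorem mulQ_injective (f : B) (hf : f ∈ nonZeroDivisors B) (J : Ideal B) :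
    Function.Injective (mulQ f J) := by
  rw [injective_iff_map_eq_zero]
  intro x hx
  obtain ⟨b, rfl⟩ := Submodule.Quotient.mk_surjective _ x
  have h1 : (mulQ f J) (Submodule.Quotient.mk b) = Submodule.Quotient.mk (f * b) := rfl
  rw [h1, Submodule.Quotient.mk_eq_zero, Ideal.mem_span_singleton_mul] at hx
  obtain ⟨j, hj, hjb⟩ := hx
  have : b = j := by
    have h2 : f * (b - j) = 0 := by rw [mul_sub, hjb, sub_self]
    have h3 := (mul_left_mem_nonZeroDivisors_eq_zero_iff hf).mp h2
    exact sub_eq_zero.mp h3
  rw [Submodule.Quotient.mk_eq_zero, this]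
  exact hj

theorem projQ_surjective (f : B) (J : Ideal B) : Function.Surjective (projQ f J) := by
  intro x
  obtain ⟨b, rfl⟩ := Submodule.Quotient.mk_surjective _ x
  exact ⟨Submodule.Quotient.mk b, rfl⟩

theorem exact_mulQ_projQ (f : B) (J : Ideal B) : Function.Exact (mulQ f J) (projQ f J) := by
  intro x
  constructor
  · intro hx
    obtain ⟨b, rfl⟩ := Submodule.Quotient.mk_surjective _ x
    have h1 : (projQ f J) (Submodule.Quotient.mk b) = Submodule.Quotient.mk b := rfl
    rw [h1, Submodule.Quotient.mk_eq_zero, Ideal.mem_span_singleton'] at hx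
    obtain ⟨c, rfl⟩ := hx
    refine ⟨Submodule.Quotient.mk c, ?_⟩
    show Submodule.Quotient.mk (f * c) = _
    rw [mul_comm f c]
  · rintro ⟨y, rfl⟩
    obtain ⟨b, rfl⟩ := Submodule.Quotient.mk_surjective _ y
    show Submodule.Quotient.mk (f * b) = 0
    rw [Submodule.Quotient.mk_eq_zero]
    exact Ideal.mul_mem_right _ _ (Ideal.mem_span_singleton_self f)

theorem flat_quot_mul (f : B) (hf : f ∈ nonZeroDivisors B) (J : Ideal B)
    [Module.Flat A (B ⧸ Ideal.span {f})] [Module.Flat A (B ⧸ J)] :
    Module.Flat A (B ⧸ (Ideal.span {f} * J)) :=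
  flat_of_exact_mid ((mulQ f J).restrictScalars A) ((projQ f J).restrictScalars A)
    (mulQ_injective f hf J) (projQ_surjective f J) (exact_mulQ_projQ f J)

theorem flat_quot_of_mul (f : B) (hf : f ∈ nonZeroDivisors B) (J : Ideal B)
    [Module.Flat A (B ⧸ Ideal.span {f})] [Module.Flat A (B ⧸ (Ideal.span {f} * J))] :
    Module.Flat A (B ⧸ J) :=
  flat_of_exact_left ((mulQ f J).restrictScalars A) ((projQ f J).restrictScalars A)
    (mulQ_injective f hf J) (projQ_surjective f J) (exact_mulQ_projQ f J)

end Quot

end Groth.Agent.Helper3.FlatExact
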