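import Mathlib
import Groth.Prelude.Def_BlowUp2
import Groth.Agent.Lib.Helper3.FlatExact

set_option autoImplicit false
universe u
open CategoryTheory CategoryTheory.Limits AlgebraicGeometry TensorProduct

namespace Groth.Agent.Helper3.RelCartier

variable {X : Scheme.{u}}

theorem flat_restrict {U W : X.Opens} (hU : IsAffineOpen U) (hW : IsAffineOpen W) (h : W ≤ U) :
    (X.presheaf.map (homOfLE h).op).hom.Flat := by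
  have := HasRingHomProperty.appLE (P := @Flat) (f := 𝟙 X) inferInstance ⟨U, hU⟩ ⟨W, hW⟩ h
  have h2 : (𝟙 X : X ⟶ X).appLE U W h = X.presheaf.map (homOfLE h).op := by
    simp only [Scheme.Hom.appLE, Scheme.Hom.id_app]
    exact Category.id_comp _
  rwa [h2] at this

theorem nzd_of_flat {R S : Type u} [CommRing R] [CommRing S] (φ : R →+* S) (hφ : φ.Flat) (r : R)
    (hr : r ∈ nonZeroDivisors R) : φ r ∈ nonZeroDivisors S := by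
  let := φ.toAlgebra
  have : Module.Flat R S := hφ
  have h1 : IsSMulRegular R r := by
    intro x y hxy
    have : r * (x - y) = 0 := by
      rw [mul_sub]; exact sub_eq_zero.mpr hxy
    exact sub_eq_zero.mp ((mul_left_mem_nonZeroDivisors_eq_zero_iff hr).mp this)
  have h2 : IsSMulRegular S (algebraMap R S r) := IsSMulRegular.of_flat h1
  rw [mem_nonZeroDivisors_iff_right]
  intro x hx
  apply h2
  show algebraMap R S r * x = algebraMap R S r * 0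
  rw [mul_zero, mul_comm]; exact hx

theorem nzd_restrict {U W : X.Opens} (hU : IsAffineOpen U) (hW : IsAffineOpen W) (h : W ≤ U)
    (r : Γ(X, U)) (hr : r ∈ nonZeroDivisors Γ(X, U)) :
    (X.presheaf.map (homOfLE h).op).hom r ∈ nonZeroDivisors Γ(X, W) :=
  nzd_of_flat _ (flat_restrict hU hW h) r hr

theorem principal_restrict (𝓘 : X.IdealSheafData) {U W : X.affineOpens} (h : W ≤ U)
    (r : Γ(X, U.1)) (hr : 𝓘.ideal U = Ideal.span {r}) :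
    𝓘.ideal W = Ideal.span {(X.presheaf.map (homOfLE h).op).hom r} := by
  rw [← 𝓘.map_ideal h, hr, Ideal.map_span, Set.image_singleton]

theorem exists_local_generator (𝓘 : X.IdealSheafData) (h𝓘 : BlowUp.IsEffCartierIdeal 𝓘) (x : X)
    (O : X.Opens) (hxO : x ∈ O) :
    ∃ W : X.affineOpens, x ∈ W.1 ∧ W.1 ≤ O ∧ ∃ r : Γ(X, W.1), r ∈ nonZeroDivisors Γ(X, W.1) ∧
      𝓘.ideal W = Ideal.span {r} := by
  obtain ⟨U, hxU, r, hr, hI⟩ := h𝓘 x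
  obtain ⟨_, ⟨W, hW, rfl⟩, hxW, hWUO⟩ :=
    X.isBasis_affineOpens.exists_subset_of_mem_open (show x ∈ (U.1 ⊓ O : X.Opens) from ⟨hxU, hxO⟩)
      (U.1 ⊓ O).isOpen
  have hWU : W ≤ U.1 := fun y hy => (hWUO hy).1
  have hWO : W ≤ O := fun y hy => (hWUO hy).2
  refine ⟨⟨W, hW⟩, hxW, hWO, (X.presheaf.map (homOfLE hWU).op).hom r,
    nzd_restrict U.2 hW hWU r hr, ?_⟩
  exact principal_restrict 𝓘 (U := U) (W := ⟨W, hW⟩) hWU r hI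


theorem ringHomFlat_mk_comp_iff {A B : Type u} [CommRing A] [CommRing B] [Algebra A B]
    (J : Ideal B) :
    ((Ideal.Quotient.mk J).comp (algebraMap A B)).Flat ↔ Module.Flat A (B ⧸ J) := by
  have : ((Ideal.Quotient.mk J).comp (algebraMap A B)).toAlgebra =
      (inferInstance : Algebra A (B ⧸ J)) := Algebra.algebra_ext _ _ (fun r => rfl)
  rw [RingHom.Flat, this]

variable {S : Scheme.{u}}

theorem subschemeι_comp_appLE (f : X ⟶ S) (𝓘 : X.IdealSheafData) (U : X.affineOpens)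
    (V : S.affineOpens) (e : U.1 ≤ f ⁻¹ᵁ V.1)
    (e' : 𝓘.subschemeι ⁻¹ᵁ U.1 ≤ (𝓘.subschemeι ≫ f) ⁻¹ᵁ V.1) :
    (𝓘.subschemeι ≫ f).appLE V.1 (𝓘.subschemeι ⁻¹ᵁ U.1) e' =
      f.appLE V.1 U.1 e ≫ CommRingCat.ofHom (Ideal.Quotient.mk (𝓘.ideal U)) ≫
        (𝓘.subschemeObjIso U).inv := by
  rw [← 𝓘.subschemeι_app U, Scheme.Hom.app_eq_appLE, Scheme.Hom.appLE_comp_appLE]

theorem flat_mk_comp_appLE (f : X ⟶ S) (𝓘 : X.IdealSheafData) [Flat (𝓘.subschemeι ≫ f)]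
    (U : X.affineOpens) (V : S.affineOpens) (e : U.1 ≤ f ⁻¹ᵁ V.1) :
    ((Ideal.Quotient.mk (𝓘.ideal U)).comp (f.appLE V.1 U.1 e).hom).Flat := by
  have hW : IsAffineOpen (𝓘.subschemeι ⁻¹ᵁ U.1) := U.2.preimage 𝓘.subschemeι
  have e' : 𝓘.subschemeι ⁻¹ᵁ U.1 ≤ (𝓘.subschemeι ≫ f) ⁻¹ᵁ V.1 := by
    intro d hd
    exact e hd
  have h1 := HasRingHomProperty.appLE (P := @Flat) (f := 𝓘.subschemeι ≫ f) inferInstance V
    ⟨_, hW⟩ e'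
  rw [subschemeι_comp_appLE f 𝓘 U V e e', ← Category.assoc, CommRingCat.hom_comp,
    RingHom.Flat.respectsIso.cancel_right_isIso] at h1
  exact h1

theorem flat_subscheme_of_forall (f : X ⟶ S) (𝓘 : X.IdealSheafData)
    (H : ∀ x : X, x ∈ 𝓘.support → ∃ (U : X.affineOpens) (V : S.affineOpens)
      (e : U.1 ≤ f ⁻¹ᵁ V.1), x ∈ U.1 ∧
        ((Ideal.Quotient.mk (𝓘.ideal U)).comp (f.appLE V.1 U.1 e).hom).Flat) :
    Flat (𝓘.subschemeι ≫ f) := by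
  rw [HasRingHomProperty.iff_exists_appLE (P := @Flat)
    (RingHom.Flat.stableUnderComposition.stableUnderCompositionWithLocalizationAway
      RingHom.Flat.holdsForLocalizationAway).left]
  intro d
  have hd : 𝓘.subschemeι d ∈ 𝓘.support := by
    have : 𝓘.subschemeι d ∈ Set.range 𝓘.subschemeι := ⟨d, rfl⟩
    rwa [𝓘.range_subschemeι] at this
  obtain ⟨U, V, e, hxU, hflat⟩ := H _ hd
  have hW : IsAffineOpen (𝓘.subschemeι ⁻¹ᵁ U.1) := U.2.preimage 𝓘.subschemeι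
  have e' : 𝓘.subschemeι ⁻¹ᵁ U.1 ≤ (𝓘.subschemeι ≫ f) ⁻¹ᵁ V.1 := by
    intro d hd
    exact e hd
  refine ⟨V, ⟨_, hW⟩, hxU, e', ?_⟩
  rw [subschemeι_comp_appLE f 𝓘 U V e e', ← Category.assoc, CommRingCat.hom_comp,
    RingHom.Flat.respectsIso.cancel_right_isIso]
  exact hflat


theorem exists_local_generators (𝓘₁ 𝓘₂ : X.IdealSheafData) (h₁ : BlowUp.IsEffCartierIdeal 𝓘₁)
    (h₂ : BlowUp.IsEffCartierIdeal 𝓘₂) (x : X) (O : X.Opens) (hxO : x ∈ O) :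
    ∃ W : X.affineOpens, x ∈ W.1 ∧ W.1 ≤ O ∧ ∃ r₁ r₂ : Γ(X, W.1),
      r₁ ∈ nonZeroDivisors Γ(X, W.1) ∧ r₂ ∈ nonZeroDivisors Γ(X, W.1) ∧
      𝓘₁.ideal W = Ideal.span {r₁} ∧ 𝓘₂.ideal W = Ideal.span {r₂} := by
  obtain ⟨W₁, hxW₁, hW₁O, r₁, hr₁, hI₁⟩ := exists_local_generator 𝓘₁ h₁ x O hxO
  obtain ⟨W, hxW, hWW₁, r₂, hr₂, hI₂⟩ := exists_local_generator 𝓘₂ h₂ x W₁.1 hxW₁
  refine ⟨W, hxW, hWW₁.trans hW₁O, (X.presheaf.map (homOfLE hWW₁).op).hom r₁, r₂,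
    nzd_restrict W₁.2 W.2 hWW₁ r₁ hr₁, hr₂, ?_, hI₂⟩
  exact principal_restrict 𝓘₁ (U := W₁) (W := W) hWW₁ r₁ hI₁

/-- `S1702`. -/
theorem sum_relCartier (f : X ⟶ S) (𝓘₁ 𝓘₂ : X.IdealSheafData)
    (h₁ : (BlowUp.IsEffCartierIdeal 𝓘₁ ∧ Flat (𝓘₁.subschemeι ≫ f)))
    (h₂ : (BlowUp.IsEffCartierIdeal 𝓘₂ ∧ Flat (𝓘₂.subschemeι ≫ f))) :
    (BlowUp.IsEffCartierIdeal (𝓘₁ * 𝓘₂) ∧ Flat ((𝓘₁ * 𝓘₂).subschemeι ≫ f)) := by
  obtain ⟨hc₁, hf₁⟩ := h₁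
  obtain ⟨hc₂, hf₂⟩ := h₂
  constructor
  · intro x
    obtain ⟨W, hxW, -, r₁, r₂, hr₁, hr₂, hI₁, hI₂⟩ :=
      exists_local_generators 𝓘₁ 𝓘₂ hc₁ hc₂ x ⊤ trivial
    refine ⟨W, hxW, r₁ * r₂, mul_mem hr₁ hr₂, ?_⟩
    rw [Scheme.IdealSheafData.ideal_mul, Pi.mul_apply, hI₁, hI₂,
      Ideal.span_singleton_mul_span_singleton]
  · refine flat_subscheme_of_forall f _ fun x _ => ?_
    obtain ⟨_, ⟨V, hV, rfl⟩, hxV, -⟩ :=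
      S.isBasis_affineOpens.exists_subset_of_mem_open (Set.mem_univ (f x)) isOpen_univ
    obtain ⟨W, hxW, hWV, r₁, r₂, hr₁, hr₂, hI₁, hI₂⟩ :=
      exists_local_generators 𝓘₁ 𝓘₂ hc₁ hc₂ x (f ⁻¹ᵁ V) hxV
    refine ⟨W, ⟨V, hV⟩, hWV, hxW, ?_⟩
    have g₁ := flat_mk_comp_appLE f 𝓘₁ W ⟨V, hV⟩ hWV
    have g₂ := flat_mk_comp_appLE f 𝓘₂ W ⟨V, hV⟩ hWV
    let := (f.appLE V W.1 hWV).hom.toAlgebra
    have g₁' : Module.Flat Γ(S, V) (Γ(X, W.1) ⧸ 𝓘₁.ideal W) :=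
      (ringHomFlat_mk_comp_iff (A := Γ(S, V)) (B := Γ(X, W.1)) (𝓘₁.ideal W)).mp g₁
    have g₂' : Module.Flat Γ(S, V) (Γ(X, W.1) ⧸ 𝓘₂.ideal W) :=
      (ringHomFlat_mk_comp_iff (A := Γ(S, V)) (B := Γ(X, W.1)) (𝓘₂.ideal W)).mp g₂
    rw [hI₁] at g₁'
    have g₃ : Module.Flat Γ(S, V) (Γ(X, W.1) ⧸ (Ideal.span {r₁} * 𝓘₂.ideal W)) :=
      FlatExact.flat_quot_mul r₁ hr₁ (𝓘₂.ideal W)
    have hI : (𝓘₁ * 𝓘₂).ideal W = Ideal.span {r₁} * 𝓘₂.ideal W := by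
      rw [Scheme.IdealSheafData.ideal_mul, Pi.mul_apply, hI₁]
    rw [hI]
    exact (ringHomFlat_mk_comp_iff (A := Γ(S, V)) (B := Γ(X, W.1)) _).mpr g₃

/-- `S1710`. -/
theorem diff_relCartier (f : X ⟶ S) (𝓘₁ 𝓘₂ 𝓘 : X.IdealSheafData)
    (h₁ : (BlowUp.IsEffCartierIdeal 𝓘₁ ∧ Flat (𝓘₁.subschemeι ≫ f)))
    (h₂ : (BlowUp.IsEffCartierIdeal 𝓘₂ ∧ Flat (𝓘₂.subschemeι ≫ f)))
    (h : BlowUp.IsEffCartierIdeal 𝓘) (hsum : 𝓘₁ * 𝓘 = 𝓘₂) :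
    Flat (𝓘.subschemeι ≫ f) := by
  obtain ⟨hc₁, hf₁⟩ := h₁
  obtain ⟨hc₂, hf₂⟩ := h₂
  refine flat_subscheme_of_forall f _ fun x _ => ?_
  obtain ⟨_, ⟨V, hV, rfl⟩, hxV, -⟩ :=
    S.isBasis_affineOpens.exists_subset_of_mem_open (Set.mem_univ (f x)) isOpen_univ
  obtain ⟨W, hxW, hWV, r₁, hr₁, hI₁⟩ := exists_local_generator 𝓘₁ hc₁ x (f ⁻¹ᵁ V) hxV
  refine ⟨W, ⟨V, hV⟩, hWV, hxW, ?_⟩
  have g₁ := flat_mk_comp_appLE f 𝓘₁ W ⟨V, hV⟩ hWV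
  have g₂ := flat_mk_comp_appLE f 𝓘₂ W ⟨V, hV⟩ hWV
  let := (f.appLE V W.1 hWV).hom.toAlgebra
  have g₁' : Module.Flat Γ(S, V) (Γ(X, W.1) ⧸ 𝓘₁.ideal W) :=
    (ringHomFlat_mk_comp_iff (A := Γ(S, V)) (B := Γ(X, W.1)) (𝓘₁.ideal W)).mp g₁
  have g₂' : Module.Flat Γ(S, V) (Γ(X, W.1) ⧸ 𝓘₂.ideal W) :=
    (ringHomFlat_mk_comp_iff (A := Γ(S, V)) (B := Γ(X, W.1)) (𝓘₂.ideal W)).mp g₂
  have hI : 𝓘₂.ideal W = Ideal.span {r₁} * 𝓘.ideal W := by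
    rw [← hsum, Scheme.IdealSheafData.ideal_mul, Pi.mul_apply, hI₁]
  rw [hI₁] at g₁'
  rw [hI] at g₂'
  have g₃ : Module.Flat Γ(S, V) (Γ(X, W.1) ⧸ 𝓘.ideal W) :=
    FlatExact.flat_quot_of_mul r₁ hr₁ (𝓘.ideal W)
  exact (ringHomFlat_mk_comp_iff (A := Γ(S, V)) (B := Γ(X, W.1)) _).mpr g₃

end Groth.Agent.Helper3.RelCartier
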