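import Groth.Prelude.Def_BlowUp2
import Groth.Prelude.Def_Flat
import Groth.Agent.Lib.Helper3.RelCartier
import Mathlib

universe u

open CategoryTheory CategoryTheory.Limits AlgebraicGeometry TopologicalSpace

namespace Groth.Agent.Helper3.LocalDim

theorem dim_affineOpen {X : Scheme.{u}} {U : X.Opens} (hU : IsAffineOpen U) :
    topologicalKrullDim (U : Set X) = ringKrullDim Γ(X, U) := by
  rw [← PrimeSpectrum.topologicalKrullDim_eq_ringKrullDim Γ(X, U)]
  change _ = topologicalKrullDim (Spec Γ(X, U))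
  exact IsHomeomorph.topologicalKrullDim_eq _ hU.isoSpec.hom.homeomorph.isHomeomorph

theorem topologicalKrullDim_nonneg (T : Type*) [TopologicalSpace T] [Nonempty T] :
    0 ≤ topologicalKrullDim T := by
  obtain ⟨x⟩ := ‹Nonempty T›
  have : Nonempty (IrreducibleCloseds T) :=
    ⟨⟨closure {x}, isIrreducible_singleton.closure, isClosed_closure⟩⟩
  exact Order.krullDim_nonneg

theorem localDim_nonneg (T : Type*) [TopologicalSpace T] (x : T) :
    0 ≤ FlatMor.localDim T x := by
  refine le_iInf fun U => ?_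
  have : Nonempty (U.1 : Set T) := ⟨⟨x, U.2⟩⟩
  exact topologicalKrullDim_nonneg _

theorem localDim_lt (S : Scheme.{u}) (𝓘 : S.IdealSheafData) (h𝓘 : BlowUp.IsEffCartierIdeal 𝓘)
    (d : ↥𝓘.subscheme) (hfin : FlatMor.localDim ↥S (𝓘.subschemeι d) ≠ ⊤) :
    FlatMor.localDim ↥𝓘.subscheme d < FlatMor.localDim ↥S (𝓘.subschemeι d) := by
  have key : ∀ U : {U : Opens S // 𝓘.subschemeι d ∈ U},
      FlatMor.localDim ↥𝓘.subscheme d + 1 ≤ topologicalKrullDim (U.1 : Set S) := by
    rintro ⟨U, hU⟩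
    obtain ⟨W, hxW, hWU, r, hr, hI⟩ := RelCartier.exists_local_generator 𝓘 h𝓘 _ U hU
    have h1 : topologicalKrullDim (W.1 : Set S) ≤ topologicalKrullDim (U : Set S) :=
      (Topology.IsEmbedding.inclusion (show (W.1 : Set S) ⊆ U from hWU)).isInducing.topologicalKrullDim_le
    have h2 : FlatMor.localDim ↥𝓘.subscheme d ≤
        topologicalKrullDim ((𝓘.subschemeι ⁻¹ᵁ W.1 : 𝓘.subscheme.Opens) : Set 𝓘.subscheme) :=
      iInf_le (fun U : {U : Opens 𝓘.subscheme // d ∈ U} =>
        topologicalKrullDim (U.1 : Set 𝓘.subscheme)) ⟨𝓘.subschemeι ⁻¹ᵁ W.1, hxW⟩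
    have h3 : topologicalKrullDim ((𝓘.subschemeι ⁻¹ᵁ W.1 : 𝓘.subscheme.Opens) : Set 𝓘.subscheme) + 1
        ≤ topologicalKrullDim (W.1 : Set S) := by
      rw [dim_affineOpen W.2, dim_affineOpen (W.2.preimage 𝓘.subschemeι)]
      refine ringKrullDim_succ_le_of_surjective (𝓘.subschemeι.app W.1).hom
        (𝓘.subschemeι_app_surjective W) hr ?_
      have : r ∈ RingHom.ker (𝓘.subschemeι.app W.1).hom := by
        rw [𝓘.ker_subschemeι_app W, hI]; exact Ideal.mem_span_singleton_self r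
      exact this
    calc FlatMor.localDim ↥𝓘.subscheme d + 1 ≤ _ + 1 := by gcongr
      _ ≤ _ := h3
      _ ≤ _ := h1
  have h4 : FlatMor.localDim ↥𝓘.subscheme d + 1 ≤ FlatMor.localDim ↥S (𝓘.subschemeι d) :=
    le_iInf key
  have h5 := localDim_nonneg 𝓘.subscheme d
  generalize FlatMor.localDim ↥𝓘.subscheme d = a at *
  generalize FlatMor.localDim ↥S (𝓘.subschemeι d) = b at *
  induction a with
  | bot => simp at h5
  | coe a =>
    induction b with
    | bot => simp at h4
    | coe b =>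
      rw [← WithBot.coe_one, ← WithBot.coe_add, WithBot.coe_le_coe] at h4
      rw [WithBot.coe_lt_coe]
      have hb : b ≠ ⊤ := fun h => hfin (by rw [h]; rfl)
      have ha : a ≠ ⊤ := by
        rintro rfl
        simp at h4; exact hb h4
      exact lt_of_lt_of_le (ENat.lt_add_one_iff ha |>.mpr le_rfl) h4

end Groth.Agent.Helper3.LocalDim
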