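import Groth.Prelude.Def_FlatMod2
import Groth.Prelude.Def_Coh
import Groth.Agent.Lib.Helper13.LocFree2
import Groth.Agent.Lib.Lead.RLR1
import Mathlib

/-!
# Torsion-free coherent modules on regular schemes of dimension ≤ 1 are locally free
-/

universe u

open CategoryTheory CategoryTheory.Limits AlgebraicGeometry TopologicalSpace

namespace Groth.Agent.Helper3.TorsFreeDim1

/-- A regular local ring of dimension at most one is a principal ideal domain. -/
theorem isPrincipalIdealRing_of_regular (R : Type u) [CommRing R] [IsRegularLocalRing R]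
    (h : ringKrullDim R ≤ 1) : IsDomain R ∧ IsPrincipalIdealRing R := by
  have hdom : IsDomain R := Groth.Agent.Lead.RLR.isDomain R
  refine ⟨hdom, ?_⟩
  by_cases hf : IsField R
  · letI := hf.toField
    infer_instance
  · have hfin : ((IsLocalRing.maximalIdeal R).spanFinrank : WithBot ℕ∞) ≤ 1 := by
      rw [IsRegularLocalRing.spanFinrank_maximalIdeal]
      exact h
    have hfin' : (IsLocalRing.maximalIdeal R).spanFinrank ≤ 1 := by
      exact_mod_cast hfin
    have hfg : (IsLocalRing.maximalIdeal R).FG := IsNoetherian.noetherian _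
    have hprin : (IsLocalRing.maximalIdeal R).IsPrincipal := by
      have hcard := Submodule.FG.generators_ncard hfg
      have hspan := Submodule.span_generators (IsLocalRing.maximalIdeal R)
      have hfinite : (IsLocalRing.maximalIdeal R).generators.Finite :=
        Submodule.FG.finite_generators hfg
      rw [← hcard] at hfin'
      rcases Nat.le_one_iff_eq_zero_or_eq_one.mp hfin' with h0 | h1
      · rw [Set.ncard_eq_zero hfinite] at h0
        refine ⟨⟨0, ?_⟩⟩
        rw [← hspan, h0]
        simp
      · obtain ⟨x, hx⟩ := Set.ncard_eq_one.mp h1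
        refine ⟨⟨x, ?_⟩⟩
        rw [← hspan, hx]
    have hdvr : IsDiscreteValuationRing R := ((IsDiscreteValuationRing.TFAE R hf).out 0 4).mpr hprin
    exact hdvr.toIsPrincipalIdealRing

lemma noZeroSMulDivisors_of_free (R M : Type*) [CommRing R] [IsDomain R] [AddCommGroup M]
    [Module R M] [Module.Free R M] : NoZeroSMulDivisors R M := by
  refine ⟨fun {c x} h => ?_⟩
  by_cases hc : c = 0
  · exact Or.inl hc
  · right
    apply (Module.Free.chooseBasis R M).repr.injective
    ext i
    have := congrArg (fun y => (Module.Free.chooseBasis R M).repr y i) h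
    simp only [map_smul, Finsupp.smul_apply, smul_eq_mul, map_zero, Finsupp.zero_apply,
      mul_eq_zero] at this
    rcases this with h1 | h1
    · exact absurd h1 hc
    · simpa using h1

theorem ringKrullDim_stalk_le (X : Scheme.{u}) (x : X) :
    ringKrullDim (X.presheaf.stalk x) ≤ topologicalKrullDim X := by
  obtain ⟨_, ⟨U, hU, rfl⟩, hxU, -⟩ :=
    X.isBasis_affineOpens.exists_subset_of_mem_open (Set.mem_univ x) isOpen_univ
  letI : Algebra Γ(X, U) (X.presheaf.stalk x) :=
    TopCat.Presheaf.algebra_section_stalk X.presheaf ⟨x, hxU⟩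
  haveI := hU.isLocalization_stalk ⟨x, hxU⟩
  rw [IsLocalization.AtPrime.ringKrullDim_eq_height (hU.primeIdealOf ⟨x, hxU⟩).asIdeal]
  have h1 : topologicalKrullDim (U : Set X) = ringKrullDim Γ(X, U) := by
    rw [← PrimeSpectrum.topologicalKrullDim_eq_ringKrullDim Γ(X, U)]
    change _ = topologicalKrullDim (Spec Γ(X, U))
    exact IsHomeomorph.topologicalKrullDim_eq _ hU.isoSpec.hom.homeomorph.isHomeomorph
  calc ((hU.primeIdealOf ⟨x, hxU⟩).asIdeal.height : WithBot ℕ∞)
      ≤ ringKrullDim Γ(X, U) := Ideal.height_le_ringKrullDim_of_isPrime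
    _ = topologicalKrullDim (U : Set X) := h1.symm
    _ ≤ topologicalKrullDim X := topologicalKrullDim_subspace_le X U

open Groth.Agent.Helper13.LocFree Groth.Agent.Helper13.FinType in
theorem main (X : Scheme.{u}) [IsIntegral X] [IsLocallyNoetherian X]
    (hreg : ∀ x : ↥X, IsRegularLocalRing (X.presheaf.stalk x))
    (hdim : topologicalKrullDim ↥X ≤ 1) (F : X.Modules) (hF : Coh.IsCoh F) :
    (∀ x : ↥X, NoZeroSMulDivisors (X.presheaf.stalk x) (F.presheaf.stalk x)) ↔
      FlatMod.IsFinLocFree F := by
  obtain ⟨hqc, hft⟩ := hF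
  haveI : F.IsQuasicoherent := hqc
  haveI : SheafOfModules.IsFiniteType (R := X.ringCatSheaf) F := hft
  constructor
  · intro htf
    haveI : SheafOfModules.IsFinitePresentation (R := X.ringCatSheaf) F := by
      apply isFinitePresentation_of_finitePresentation_sections F
      intro x
      obtain ⟨_, ⟨U, hU, rfl⟩, hxU, -⟩ :=
        X.isBasis_affineOpens.exists_subset_of_mem_open (Set.mem_univ x) isOpen_univ
      haveI : IsNoetherianRing Γ(X, U) := IsLocallyNoetherian.component_noetherian ⟨U, hU⟩
      haveI : Module.Finite Γ(X, U) Γ(F, U) := finite_sections_of_isFiniteType F hU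
      exact ⟨U, hU, hxU, Module.finitePresentation_of_finite _ _⟩
    apply isFinLocFree_of_isFinitePresentation_of_free_stalks F
    intro x
    haveI := hreg x
    obtain ⟨hd, hpid⟩ := isPrincipalIdealRing_of_regular (X.presheaf.stalk x)
      ((ringKrullDim_stalk_le X x).trans hdim)
    haveI := htf x
    haveI : Module.Finite (X.presheaf.stalk x) (F.presheaf.stalk x) :=
      finite_stalk_of_isFiniteType F x
    exact Module.free_of_finite_type_torsion_free'
  · intro h x
    haveI := free_stalk_of_isFinLocFree F h x
    haveI : IsDomain (X.presheaf.stalk x) := inferInstance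
    exact noZeroSMulDivisors_of_free _ _

end Groth.Agent.Helper3.TorsFreeDim1
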