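import Mathlib
import Groth.Prelude.Def_Cyc

universe u

open CategoryTheory CategoryTheory.Limits AlgebraicGeometry TopologicalSpace

namespace Groth.Agent.Helper3.CycGen

/-- The residue field extension of a morphism locally of finite type is essentially of finite
type. -/
theorem essFiniteType_residueFieldMap {X Y : Scheme.{u}} (f : X ⟶ Y) [LocallyOfFiniteType f]
    (x : X) : (f.residueFieldMap x).hom.EssFiniteType := by
  let _ : Algebra (Y.presheaf.stalk (f x)) (X.presheaf.stalk x) := (f.stalkMap x).hom.toAlgebra
  let _ : Algebra (X.presheaf.stalk x) (X.residueField x) := (X.residue x).hom.toAlgebra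
  let _ : Algebra (Y.presheaf.stalk (f x)) (Y.residueField (f x)) := (Y.residue (f x)).hom.toAlgebra
  let _ : Algebra (Y.presheaf.stalk (f x)) (X.residueField x) :=
    ((X.residue x).hom.comp (f.stalkMap x).hom).toAlgebra
  let _ : Algebra (Y.residueField (f x)) (X.residueField x) := (f.residueFieldMap x).hom.toAlgebra
  have h1 : Algebra.EssFiniteType (Y.presheaf.stalk (f x)) (X.presheaf.stalk x) :=
    LocallyOfFiniteType.stalkMap f x
  have htower1 : IsScalarTower (Y.presheaf.stalk (f x)) (X.presheaf.stalk x) (X.residueField x) :=
    IsScalarTower.of_algebraMap_eq' rfl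
  have h2 : Algebra.EssFiniteType (X.presheaf.stalk x) (X.residueField x) := by
    have : Algebra.FiniteType (X.presheaf.stalk x) (X.residueField x) :=
      Algebra.FiniteType.of_surjective (Algebra.ofId _ _)
        (Ideal.Quotient.mk_surjective (I := IsLocalRing.maximalIdeal (X.presheaf.stalk x)))
    infer_instance
  have h3 : Algebra.EssFiniteType (Y.presheaf.stalk (f x)) (X.residueField x) :=
    Algebra.EssFiniteType.comp _ (X.presheaf.stalk x) _
  have htower2 : IsScalarTower (Y.presheaf.stalk (f x)) (Y.residueField (f x))
      (X.residueField x) := by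
    apply IsScalarTower.of_algebraMap_eq'
    have := Scheme.residue_residueFieldMap f x
    exact congrArg CommRingCat.Hom.hom this.symm
  exact Algebra.EssFiniteType.of_comp (Y.presheaf.stalk (f x)) (Y.residueField (f x))
    (X.residueField x)

theorem main (X Y : Scheme.{u}) [IsIntegral X] [IsIntegral Y] (δX : X → ℤ) (δY : Y → ℤ)
    (f : X ⟶ Y) [LocallyOfFiniteType f] (hδ : Cyc.DeltaCompat f δX δY)
    (heq : δX (genericPoint X) = δY (genericPoint Y)) :
    ¬ Dense (Set.range f) ∨ (f (genericPoint X) = genericPoint Y ∧
      (f.residueFieldMap (genericPoint X)).hom.Finite) := by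
  by_cases hd : Dense (Set.range f)
  · right
    have hgen : f (genericPoint X) = genericPoint Y := by
      have h1 : IsGenericPoint (f (genericPoint X)) (closure (f '' (⊤ : Set X))) :=
        (genericPoint_spec X).image f.continuous
      have h2 : closure (f '' (⊤ : Set X)) = ⊤ := by
        rw [Set.top_eq_univ, Set.image_univ]
        exact hd.closure_eq
      rw [h2] at h1
      exact h1.eq (genericPoint_spec Y)
    refine ⟨hgen, ?_⟩
    obtain ⟨n, hn1, hn2⟩ := hδ (genericPoint X)
    rw [hgen, heq] at hn2
    have hn0 : n = 0 := by omega
    subst hn0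
    let _ : Algebra (Y.residueField (f (genericPoint X))) (X.residueField (genericPoint X)) :=
      (f.residueFieldMap (genericPoint X)).hom.toAlgebra
    have halg : Algebra.IsAlgebraic (Y.residueField (f (genericPoint X)))
        (X.residueField (genericPoint X)) := by
      rw [← trdeg_eq_zero_iff]
      simpa using hn1
    have hess : Algebra.EssFiniteType (Y.residueField (f (genericPoint X)))
        (X.residueField (genericPoint X)) := essFiniteType_residueFieldMap f (genericPoint X)
    exact Algebra.finite_of_essFiniteType_of_isAlgebraic
  · left; exact hd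

end Groth.Agent.Helper3.CycGen
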