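import Mathlib

universe u

open CategoryTheory CategoryTheory.Limits AlgebraicGeometry TensorProduct

namespace Groth.Agent.Helper3.FPDescent

/-- Ring-level statement: descent of a finitely presented algebra to a finite type ℤ-algebra. -/
theorem ring_level (A B : Type u) [CommRing A] [CommRing B] [Algebra A B]
    [Algebra.FinitePresentation A B] :
    ∃ (A₀ B₀ : Type u) (_ : CommRing A₀) (_ : CommRing B₀) (_ : Algebra A₀ B₀) (_ : Algebra A₀ A)
      (ψ : B₀ →+* B) (e : A ⊗[A₀] B₀ ≃ₐ[A] B),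
      Algebra.FiniteType ℤ A₀ ∧ Algebra.FiniteType A₀ B₀ ∧
      (∀ y : B₀, e (1 ⊗ₜ y) = ψ y) := by
  let P := Algebra.Presentation.ofFinitePresentation A B
  refine ⟨P.Core, P.ModelOfHasCoeffs P.Core, inferInstance, inferInstance, inferInstance,
    inferInstance,
    (P.tensorModelOfHasCoeffsEquiv P.Core).toAlgHom.toRingHom.comp
      (Algebra.TensorProduct.includeRight (R := P.Core) (A := A)
        (B := P.ModelOfHasCoeffs P.Core)).toRingHom,
    P.tensorModelOfHasCoeffsEquiv P.Core, inferInstance, inferInstance, ?_⟩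
  intro y
  rfl

theorem scheme_level {X S : Scheme.{u}} (f : X ⟶ S) [IsAffine X] [IsAffine S]
    (A₀ B₀ : Type u) [CommRing A₀] [CommRing B₀] [Algebra A₀ B₀] [Algebra A₀ Γ(S, ⊤)]
    [Algebra Γ(S, ⊤) Γ(X, ⊤)] (halg : algebraMap Γ(S, ⊤) Γ(X, ⊤) = f.appTop.hom)
    (ψ : B₀ →+* Γ(X, ⊤))
    (e : Γ(S, ⊤) ⊗[A₀] B₀ ≃ₐ[Γ(S, ⊤)] Γ(X, ⊤)) (he : ∀ y, e (1 ⊗ₜ y) = ψ y) :
    IsPullback (X.isoSpec.hom ≫ Spec.map (CommRingCat.ofHom ψ)) f
      (Spec.map (CommRingCat.ofHom (algebraMap A₀ B₀)))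
      (S.isoSpec.hom ≫ Spec.map (CommRingCat.ofHom (algebraMap A₀ Γ(S, ⊤)))) := by
  have hpo := CommRingCat.isPushout_tensorProduct A₀ Γ(S, ⊤) B₀
  have hpb := (isPullback_SpecMap_of_isPushout _ _ _ _ hpo).flip
  -- the iso Spec (A ⊗ B₀) ≅ X
  let eR : CommRingCat.of (Γ(S, ⊤) ⊗[A₀] B₀) ≅ Γ(X, ⊤) := e.toRingEquiv.toCommRingCatIso
  let e₁ : Spec (CommRingCat.of (Γ(S, ⊤) ⊗[A₀] B₀)) ≅ X :=
    (Scheme.Spec.mapIso eR.symm.op) ≪≫ X.isoSpec.symm
  refine IsPullback.of_iso hpb e₁ (Iso.refl _) S.isoSpec.symm (Iso.refl _) ?_ ?_ ?_ ?_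
  · simp only [Iso.refl_hom, Category.comp_id, e₁, Iso.trans_hom, Functor.mapIso_hom, Iso.op_hom,
      Iso.symm_hom, Scheme.Spec_map, Quiver.Hom.unop_op, Category.assoc, Iso.inv_hom_id_assoc]
    rw [← Spec.map_comp]
    congr 1
    ext y
    simp only [eR, CommRingCat.hom_comp, RingHom.coe_comp, Function.comp_apply,
      CommRingCat.hom_ofHom]
    show _ = e.symm (ψ y)
    rw [← he, AlgEquiv.symm_apply_apply]
    rfl
  · simp only [e₁, Iso.trans_hom, Functor.mapIso_hom, Iso.op_hom,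
      Iso.symm_hom, Scheme.Spec_map, Quiver.Hom.unop_op, Category.assoc]
    have h1 : X.isoSpec.inv ≫ f = Spec.map f.appTop ≫ S.isoSpec.inv := by
      rw [Iso.inv_comp_eq, ← Category.assoc, Iso.eq_comp_inv]
      exact (Scheme.isoSpec_hom_naturality f).symm
    rw [h1, ← Category.assoc, ← Spec.map_comp]
    congr 2
    ext a
    simp only [CommRingCat.hom_comp, RingHom.coe_comp, Function.comp_apply, CommRingCat.hom_ofHom]
    have h2 : f.appTop.hom a = algebraMap Γ(S, ⊤) Γ(X, ⊤) a := by rw [halg]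
    show _ = e.symm (f.appTop.hom a)
    rw [h2, AlgEquiv.commutes]
    rfl
  · simp
  · simp

theorem main {X S : Scheme.{u}} (f : X ⟶ S) [IsAffine X] [IsAffine S]
    [LocallyOfFinitePresentation f] :
    ∃ (X₀ S₀ : Scheme.{u}) (f₀ : X₀ ⟶ S₀) (g : S ⟶ S₀) (g' : X ⟶ X₀), IsAffine X₀ ∧ IsAffine S₀ ∧
      IsPullback g' f f₀ g ∧ Algebra.FiniteType ℤ Γ(S₀, ⊤) ∧ LocallyOfFiniteType f₀ := by
  have hfp : RingHom.FinitePresentation f.appTop.hom :=
    (HasRingHomProperty.iff_of_isAffine (P := @LocallyOfFinitePresentation)).mp inferInstance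
  let _ : Algebra Γ(S, ⊤) Γ(X, ⊤) := f.appTop.hom.toAlgebra
  have hfp' : Algebra.FinitePresentation Γ(S, ⊤) Γ(X, ⊤) := hfp
  obtain ⟨A₀, B₀, _, _, _, _, ψ, e, hft, hft', he⟩ := ring_level Γ(S, ⊤) Γ(X, ⊤)
  refine ⟨Spec (CommRingCat.of B₀), Spec (CommRingCat.of A₀),
    Spec.map (CommRingCat.ofHom (algebraMap A₀ B₀)),
    S.isoSpec.hom ≫ Spec.map (CommRingCat.ofHom (algebraMap A₀ Γ(S, ⊤))),
    X.isoSpec.hom ≫ Spec.map (CommRingCat.ofHom ψ), inferInstance, inferInstance,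
    scheme_level f A₀ B₀ rfl ψ e he, ?_, ?_⟩
  · have e' : A₀ ≃+* Γ(Spec (CommRingCat.of A₀), ⊤) :=
      (Scheme.ΓSpecIso (CommRingCat.of A₀)).symm.commRingCatIsoToRingEquiv
    exact Algebra.FiniteType.equiv hft e'.toIntAlgEquiv
  · rw [HasRingHomProperty.Spec_iff (P := @LocallyOfFiniteType)]
    exact RingHom.finiteType_algebraMap.mpr hft'

end Groth.Agent.Helper3.FPDescent
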