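import Mathlib

/-!
# (NAK) finite type lifts along a nilpotent ideal

If `I ⊆ A` is a nilpotent ideal and `B / I B` is a finitely generated `A / I`-algebra, then `B` is
a finitely generated `A`-algebra.  (Helper lemma requested by helper14 for S5340.)
-/

set_option autoImplicit false

universe u

open CategoryTheory CategoryTheory.Limits AlgebraicGeometry TensorProduct

namespace Groth.Agent.Lib.Helper3.NakFT

theorem NAK {A B : Type u} [CommRing A] [CommRing B] [Algebra A B] (I : Ideal A)
    (hI : IsNilpotent I)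
    (h : Algebra.FiniteType (A ⧸ I) (B ⧸ I.map (algebraMap A B))) : Algebra.FiniteType A B := by
  classical
  set J := I.map (algebraMap A B) with hJ
  haveI hAI : Algebra.FiniteType A (A ⧸ I) :=
    Algebra.FiniteType.of_surjective (Algebra.ofId A (A ⧸ I)) Ideal.Quotient.mk_surjective
  have hA : Algebra.FiniteType A (B ⧸ J) := Algebra.FiniteType.trans (S := A ⧸ I) hAI h
  obtain ⟨s, hs⟩ := hA.out
  let φ : B →ₐ[A] (B ⧸ J) := Ideal.Quotient.mkₐ A J
  have hφ : Function.Surjective φ := Ideal.Quotient.mkₐ_surjective A J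
  let t : Finset B := s.image (Function.surjInv hφ)
  have himg : φ '' (t : Set B) = (s : Set (B ⧸ J)) := by
    ext x
    simp only [t, Finset.coe_image, Set.mem_image, Finset.mem_coe]
    constructor
    · rintro ⟨_, ⟨y, hy, rfl⟩, rfl⟩
      rwa [Function.surjInv_eq hφ]
    · intro hx
      exact ⟨_, ⟨x, hx, rfl⟩, Function.surjInv_eq hφ x⟩
  set B' := Algebra.adjoin A (t : Set B) with hB'
  have hmap : B'.map φ = ⊤ := by
    rw [hB', AlgHom.map_adjoin, himg, hs]
  have h1 : (⊤ : Submodule A B) ≤ Subalgebra.toSubmodule B' ⊔ I • (⊤ : Submodule A B) := by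
    intro b _
    have hb : φ b ∈ B'.map φ := by rw [hmap]; exact Algebra.mem_top
    obtain ⟨b', hb', hbb'⟩ := hb
    have hJ' : b - b' ∈ J := by
      have h0 : φ (b - b') = 0 := by
        rw [map_sub, sub_eq_zero]
        exact hbb'.symm
      exact Ideal.Quotient.eq_zero_iff_mem.mp h0
    rw [Ideal.smul_top_eq_map]
    have hb2 : b = b' + (b - b') := by ring
    rw [hb2]
    exact Submodule.add_mem_sup (show b' ∈ Subalgebra.toSubmodule B' from hb') hJ'
  have h2 : ∀ n : ℕ, (⊤ : Submodule A B) ≤
      Subalgebra.toSubmodule B' ⊔ (I ^ n) • (⊤ : Submodule A B) := by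
    intro n
    induction n with
    | zero =>
      rw [pow_zero, Ideal.one_eq_top, Submodule.top_smul]
      exact le_sup_right
    | succ n ih =>
      have h3 : (I ^ n) • (⊤ : Submodule A B) ≤
          Subalgebra.toSubmodule B' ⊔ (I ^ (n + 1)) • (⊤ : Submodule A B) := by
        calc (I ^ n) • (⊤ : Submodule A B)
            ≤ (I ^ n) • (Subalgebra.toSubmodule B' ⊔ I • (⊤ : Submodule A B)) :=
              Submodule.smul_mono le_rfl h1
          _ = (I ^ n) • Subalgebra.toSubmodule B' ⊔ (I ^ n) • (I • (⊤ : Submodule A B)) :=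
              Submodule.smul_sup _ _ _
          _ ≤ Subalgebra.toSubmodule B' ⊔ (I ^ (n + 1)) • (⊤ : Submodule A B) := by
              apply sup_le_sup Submodule.smul_le_right
              rw [pow_succ, Submodule.mul_smul]
      exact ih.trans (sup_le le_sup_left h3)
  obtain ⟨n, hn⟩ := hI
  have h4 := h2 n
  rw [hn, Ideal.zero_eq_bot, Submodule.bot_smul, sup_bot_eq] at h4
  have h5 : B' = ⊤ := by
    apply top_le_iff.mp
    intro b _
    exact (show b ∈ Subalgebra.toSubmodule B' from h4 Submodule.mem_top)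
  exact ⟨⟨t, h5⟩⟩

end Groth.Agent.Lib.Helper3.NakFT
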