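import Mathlib

/-!
# A finite torsion-free module over a domain embeds in a finite free module (helper3, for helper7)
-/

set_option autoImplicit false

namespace Groth.Agent.Helper3.TFEmbed

open scoped nonZeroDivisors

theorem exists_injective_to_free {P B : Type*} [CommRing P] [IsDomain P] [AddCommGroup B]
    [Module P B] [Module.Finite P B] (htf : ∀ (p : P) (b : B), p • b = 0 → p = 0 ∨ b = 0) :
    ∃ (n : ℕ) (j : B →ₗ[P] (Fin n → P)), Function.Injective j := by
  classical
  let S : Submonoid P := nonZeroDivisors P
  let K := Localization S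
  let V := LocalizedModule S B
  let ι : B →ₗ[P] V := LocalizedModule.mkLinearMap S B
  have hι : Function.Injective ι := by
    rw [← LinearMap.ker_eq_bot, LinearMap.ker_eq_bot']
    intro b hb
    obtain ⟨s, hs⟩ := (IsLocalizedModule.eq_zero_iff S ι).mp hb
    rcases htf s b hs with h | h
    · exact absurd h (nonZeroDivisors.coe_ne_zero s)
    · exact h
  haveI : Module.Finite K V := inferInstance
  haveI : IsFractionRing P K := Localization.isLocalization
  letI : Field K := IsFractionRing.toField P
  let n := Module.finrank K V
  let bas : Module.Basis (Fin n) K V := Module.finBasis K V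
  let e : V →ₗ[P] (Fin n → K) := (bas.equivFun.toLinearMap).restrictScalars P
  have he : Function.Injective e := bas.equivFun.injective
  let L0 : B →ₗ[P] (Fin n → K) := e ∘ₗ ι
  have hL0 : Function.Injective L0 := he.comp hι
  obtain ⟨T, hT⟩ := (Module.Finite.fg_top : (⊤ : Submodule P B).FG)
  obtain ⟨d, hd⟩ := IsLocalization.exist_integer_multiples_of_finset S
    (T.biUnion fun t => Finset.univ.image fun k : Fin n => L0 t k)
  let A : (Fin n → P) →ₗ[P] (Fin n → K) := (Algebra.linearMap P K).compLeft (Fin n)
  have hA : Function.Injective A := by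
    intro f g hfg
    funext k
    have := congrFun hfg k
    exact IsFractionRing.injective P K this
  let L : B →ₗ[P] (Fin n → K) := (d : P) • L0
  have hL : ∀ b, L b ∈ LinearMap.range A := by
    have hle : (⊤ : Submodule P B) ≤ (LinearMap.range A).comap L := by
      rw [← hT, Submodule.span_le]
      intro t ht
      have hint : ∀ k : Fin n, ∃ p : P, algebraMap P K p = d • L0 t k := by
        intro k
        have hmem : L0 t k ∈ T.biUnion fun t => Finset.univ.image fun k : Fin n => L0 t k := by
          rw [Finset.mem_biUnion]
          exact ⟨t, ht, Finset.mem_image.mpr ⟨k, Finset.mem_univ _, rfl⟩⟩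
        obtain ⟨p, hp⟩ := hd _ hmem
        exact ⟨p, hp⟩
      choose p hp using hint
      refine ⟨p, ?_⟩
      funext k
      show algebraMap P K (p k) = ((d : P) • L0 t) k
      rw [hp k]
      rfl
    intro b
    exact hle (Submodule.mem_top : b ∈ (⊤ : Submodule P B))
  let j : B →ₗ[P] (Fin n → P) :=
    (LinearEquiv.ofInjective A hA).symm.toLinearMap ∘ₗ L.codRestrict (LinearMap.range A) hL
  refine ⟨n, j, ?_⟩
  rw [← LinearMap.ker_eq_bot, LinearMap.ker_eq_bot']
  intro b hb
  have h1 : L.codRestrict (LinearMap.range A) hL b = 0 := by
    have := (LinearEquiv.ofInjective A hA).symm.injective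
      (show (LinearEquiv.ofInjective A hA).symm (L.codRestrict (LinearMap.range A) hL b) =
        (LinearEquiv.ofInjective A hA).symm 0 by rw [map_zero]; exact hb)
    exact this
  have h2 : L b = 0 := congrArg Subtype.val h1
  have h3 : L0 ((d : P) • b) = 0 := by
    rw [map_smul]
    exact h2
  have h4 : (d : P) • b = 0 := hL0 (h3.trans (map_zero L0).symm)
  rcases htf d b h4 with h | h
  · exact absurd h (nonZeroDivisors.coe_ne_zero d)
  · exact h

end Groth.Agent.Helper3.TFEmbed
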