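import Mathlib
import Groth.Prelude.Def_Curv2
import Groth.Agent.Lib.Helper13.PnFin1
import Groth.Agent.Lib.Helper13.FreeMod
import Groth.Agent.Lib.Helper28.H0Const

/-!
# Sections of a module as morphisms out of the structure sheaf, and their action on cohomology
(helper3; first half of the Hopf-lemma argument on curves)
-/

set_option autoImplicit false
universe u
open CategoryTheory CategoryTheory.Limits AlgebraicGeometry Opposite TopologicalSpace

namespace Groth.Agent.Helper3.CurveHopf

open Groth.Agent.Helper13.PnFin Groth.Agent.Helper13.LocFree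

section Pairing

variable {X : Scheme.{u}}

/-- morphisms out of the structure sheaf are determined by the image of `1`. -/
theorem hom_ext_unit {M : X.Modules} (f g : Coh.structureModule X ⟶ M)
    (h : ∀ U : X.Opens, f.app U (toO U 1) = g.app U (toO U 1)) : f = g := by
  apply M.unitHomEquiv.injective
  apply PresheafOfModules.sections_ext
  intro V
  exact h V.unop

theorem homOfSec_add (M : X.Modules) (t t' : Γ(M, ⊤)) :
    homOfSec M (t + t') = homOfSec M t + homOfSec M t' := by
  apply hom_ext_unit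
  intro U
  rw [Scheme.Modules.Hom.add_app]
  change (homOfSec M (t + t')).app U (toO U 1) =
    (homOfSec M t).app U (toO U 1) + (homOfSec M t').app U (toO U 1)
  rw [homOfSec_app_one, homOfSec_app_one, homOfSec_app_one, map_add]

/-- `H⁰(X, L) ≃+ Γ(L, ⊤)`. -/
noncomputable def e0 (L : X.Modules) : Coh.HH X L 0 ≃+ Γ(L, ⊤) :=
  Sheaf.H.equiv₀ (Coh.toAb L) (T := (⊤ : Opens X)) isTerminalTop

/-- the morphism `O_X ⟶ L` attached to a class in `H⁰`. -/
noncomputable def secHom (L : X.Modules) (u : Coh.HH X L 0) : Coh.structureModule X ⟶ L :=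
  homOfSec L (e0 L u)

theorem secHom_add (L : X.Modules) (u v : Coh.HH X L 0) :
    secHom L (u + v) = secHom L u + secHom L v := by
  unfold secHom
  rw [map_add, homOfSec_add]

theorem secHom_ne_zero (L : X.Modules) (u : Coh.HH X L 0) (hu : u ≠ 0) : secHom L u ≠ 0 := by
  intro h0
  have ht : e0 L u ≠ 0 := fun h => hu ((e0 L).injective (by rw [h, map_zero]))
  apply ht
  have h1 := homOfSec_app_one L (e0 L u) ⊤
  have h0' : homOfSec L (e0 L u) = 0 := h0
  rw [h0'] at h1
  have h2 : L.presheaf.map (homOfLE (le_top : (⊤ : X.Opens) ≤ ⊤)).op (e0 L u) = e0 L u := by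
    have : (homOfLE (le_top : (⊤ : X.Opens) ≤ ⊤)).op = 𝟙 _ := rfl
    rw [this, L.presheaf.map_id]
    rfl
  rw [← h2, ← h1]
  rfl

/-- restriction of `r • t` -/
theorem toSheaf_homOfSec_smul (M : X.Modules) (r : Coh.Γtop X) (t : Γ(M, ⊤)) :
    (SheafOfModules.toSheaf X.ringCatSheaf).map
        (homOfSec M ((Coh.smulAb M r).hom.app (op ⊤) t)) =
      (SheafOfModules.toSheaf X.ringCatSheaf).map (homOfSec M t) ≫ Coh.smulAb M r := by
  ext U m
  have h1 := homOfSec_app M ((Coh.smulAb M r).hom.app (op ⊤) t) U.unop m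
  have h2 := homOfSec_app M t U.unop m
  have hnat := congrArg (fun φ => φ.hom t)
    ((Coh.smulAb M r).hom.naturality (homOfLE (le_top : U.unop ≤ ⊤)).op)
  change (homOfSec M ((Coh.smulAb M r).hom.app (op ⊤) t)).app U.unop (toO U.unop m) =
    (Coh.smulAb M r).hom.app U ((homOfSec M t).app U.unop (toO U.unop m))
  rw [h1, h2]
  have hnat' : (M.presheaf.map (homOfLE (le_top : U.unop ≤ ⊤)).op)
      ((Coh.smulAb M r).hom.app (op ⊤) t) =
      (Coh.smulAb M r).hom.app U ((M.presheaf.map (homOfLE (le_top : U.unop ≤ ⊤)).op) t) :=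
    hnat.symm
  rw [hnat', Coh.smulAb_app, Coh.smulAb_app]
  have key : ∀ (a b : Γ(X, U.unop)) (x : Γ(M, U.unop)), a • b • x = b • a • x := by
    intro a b x
    rw [smul_smul, smul_smul, mul_comm]
  exact key m ((Coh.resTop X U) r) _

theorem hstar_secHom_smul (k : Type u) [Field k] [X.Over (Spec (CommRingCat.of k))]
    (L : X.Modules) (c : k) (u : Coh.HH X L 0) :
    hstar k (secHom L (c • u)) 1 = c • hstar k (secHom L u) 1 := by
  set r := Coh.toGlobal (X ↘ Spec (CommRingCat.of k)) c with hr
  have h1 : e0 L (c • u) = (Coh.smulAb L r).hom.app (op ⊤) (e0 L u) :=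
    (Sheaf.H.equiv₀_naturality (Coh.smulAb L r)
      (hT := (isTerminalTop : IsTerminal (⊤ : Opens X))) u).symm
  apply LinearMap.ext
  intro y
  rw [LinearMap.smul_apply, hstar_apply, hstar_apply]
  unfold secHom
  rw [h1, toSheaf_homOfSec_smul, Sheaf.H.map_comp_apply]
  rfl

end Pairing

end Groth.Agent.Helper3.CurveHopf
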