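import Mathlib
import Groth.Prelude.Def_Curv2
import Groth.Prelude.Def_ClSub2
import Groth.Agent.Lib.Helper24.PtIdeal0
import Groth.Agent.Lib.Helper24.LinLES
import Groth.Agent.Lib.Helper24.PnMumford2
import Groth.Agent.Lib.Helper13.CurveVan3
import Groth.Agent.Lib.Helper13.CurveDeg3
import Groth.Agent.Lib.Helper13.TensorUnit

/-!
# `H⁰(I_Z ⊗ P) = 0` for an invertible module `P` of negative degree on an integral proper curve
(helper3, requested by helper13 for S1531)
-/

set_option autoImplicit false
set_option linter.unusedSectionVars false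
set_option linter.style.haveILetI false
set_option linter.unusedVariables false
universe u
open CategoryTheory CategoryTheory.Limits AlgebraicGeometry Opposite TopologicalSpace
open Groth.Agent.Helper13.TwistSES Groth.Agent.Helper13.PnFin
open Groth.Agent.Helper24

namespace Groth.Agent.Helper3.IdealTwistH0

/-- an invertible module of negative degree on an integral proper curve has no global sections. -/
theorem subsingleton_H0_of_deg_neg (k : Type u) [Field k] (X : Scheme.{u})
    [X.Over (Spec (CommRingCat.of k))] [IsIntegral X] [IsProper (X ↘ Spec (CommRingCat.of k))]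
    (hdim : topologicalKrullDim X = 1) (P : X.Modules) (hP : PicF.IsInvertible P)
    (hdeg : Curv2.deg k X P 1 < 0) : Subsingleton (Coh.HH X P 0) := by
  by_contra hns
  rw [not_subsingleton_iff_nontrivial] at hns
  obtain ⟨s, hs⟩ := Groth.Agent.Helper13.CurveVan.exists_hom_ne_zero P hns
  have h := Groth.Agent.Helper13.CurveDeg.main1518 k X hdim P hP s hs
  omega

theorem subsingleton_H0_idealMod_tensor (k : Type u) [Field k] (X : Scheme.{u})
    [X.Over (Spec (CommRingCat.of k))] [IsIntegral X] [IsProper (X ↘ Spec (CommRingCat.of k))]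
    (hdim : topologicalKrullDim X = 1) (Z : X.IdealSheafData) (P : X.Modules)
    (hP : PicF.IsInvertible P) (hdeg : Curv2.deg k X P 1 < 0) :
    Subsingleton (Coh.HH X (CohB1.tensorMod (ClSub.idealMod Z) P) 0) := by
  haveI h0 : Subsingleton (Coh.HH X P 0) := subsingleton_H0_of_deg_neg k X hdim P hP hdeg
  have hS : (tensorSC (PtIdeal.idealSC Z) P).ShortExact :=
    tensorSC_shortExact _ (PtIdeal.idealSC_shortExact _) P hP
  have hinj := LinLES.hstar_f_injective_zero k (tensorSC (PtIdeal.idealSC Z) P) hS
  haveI h2 : Subsingleton (Coh.HH X (tensorSC (PtIdeal.idealSC Z) P).X₂ 0) :=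
    (PnMumford.hEquiv k (Groth.Agent.Helper13.Tensor.lid P) 0).injective.subsingleton
  exact hinj.subsingleton

end Groth.Agent.Helper3.IdealTwistH0
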