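import Groth.Prelude.Def_Mor2
import Groth.Agent.Lib.Helper3.RelCartier
import Mathlib

universe u

open CategoryTheory CategoryTheory.Limits AlgebraicGeometry TopologicalSpace

namespace Groth.Agent.Helper3.RegImm

open RingTheory.Sequence

theorem isRegular_append {A B : Type*} [CommRing A] [CommRing B] (ψ : A →+* B)
    (hψ : Function.Surjective ψ)
    (rs : List A) (hrs : IsWeaklyRegular A rs) (hker : RingHom.ker ψ = Ideal.ofList rs)
    (ts : List A) (hts : IsRegular B (ts.map ψ)) :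
    IsRegular A (rs ++ ts) ∧ Ideal.ofList (rs ++ ts) = (Ideal.ofList (ts.map ψ)).comap ψ := by
  have hideal : Ideal.ofList (rs ++ ts) = (Ideal.ofList (ts.map ψ)).comap ψ := by
    rw [Ideal.ofList_append, ← Ideal.map_ofList, Ideal.comap_map_of_surjective ψ hψ, ← hker,
      sup_comm]
    rfl
  refine ⟨⟨?_, ?_⟩, hideal⟩
  · refine (isWeaklyRegular_append_iff A rs ts).mpr ⟨hrs, ?_⟩
    let _ := ψ.toAlgebra
    have hsm : (Ideal.ofList rs • ⊤ : Submodule A A) = LinearMap.ker (Algebra.linearMap A B) := by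
      rw [smul_eq_mul, Ideal.mul_top, ← hker]
      ext a
      simp [RingHom.mem_ker, RingHom.algebraMap_toAlgebra]
    let e : (A ⧸ (Ideal.ofList rs • ⊤ : Submodule A A)) ≃ₗ[A] B :=
      (Submodule.quotEquivOfEq _ _ hsm).trans
        (LinearMap.quotKerEquivOfSurjective (Algebra.linearMap A B) hψ)
    refine (LinearEquiv.isWeaklyRegular_congr e ts).mpr ?_
    exact (isWeaklyRegular_map_algebraMap_iff B B ts).mp hts.1
  · intro h
    have h1 : Ideal.ofList (rs ++ ts) = ⊤ := by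
      rw [smul_eq_mul, Ideal.mul_top] at h
      exact h.symm
    rw [hideal, Ideal.comap_eq_top_iff] at h1
    apply hts.2
    rw [smul_eq_mul, Ideal.mul_top, h1]

theorem weaklyRegular_restrict {X : Scheme.{u}} {U W : X.Opens} (hU : IsAffineOpen U)
    (hW : IsAffineOpen W) (h : W ≤ U) (rs : List Γ(X, U)) (hrs : IsWeaklyRegular Γ(X, U) rs) :
    IsWeaklyRegular Γ(X, W) (rs.map (X.presheaf.map (homOfLE h).op).hom) := by
  let _ := (X.presheaf.map (homOfLE h).op).hom.toAlgebra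
  have : Module.Flat Γ(X, U) Γ(X, W) := RelCartier.flat_restrict hU hW h
  exact hrs.of_flat

theorem comp_regular {Z Y X : Scheme.{u}} (i : Z ⟶ Y) (j : Y ⟶ X)
    (hi : Mor2.IsRegularClosedImmersion i) (hj : Mor2.IsRegularClosedImmersion j) :
    Mor2.IsRegularClosedImmersion (i ≫ j) := by
  obtain ⟨hic, hi⟩ := hi
  obtain ⟨hjc, hj⟩ := hj
  refine ⟨inferInstance, fun z => ?_⟩
  obtain ⟨V, hV, hzV, ss, hss, hssI⟩ := hi z
  obtain ⟨U, hU, hzU, rs, hrs, hrsI⟩ := hj (i z)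
  obtain ⟨V', hV'⟩ : ∃ V' : X.Opens, j ⁻¹ᵁ V' = V := by
    obtain ⟨t, ht, htV⟩ := j.isEmbedding.isInducing.isOpen_iff.mp V.isOpen
    exact ⟨⟨t, ht⟩, Opens.ext htV⟩
  have hzV' : j (i z) ∈ V' := by
    have : i z ∈ j ⁻¹ᵁ V' := hV' ▸ hzV
    exact this
  obtain ⟨_, ⟨W, hW, rfl⟩, hzW, hWUV⟩ := X.isBasis_affineOpens.exists_subset_of_mem_open
    (show j (i z) ∈ (U ⊓ V' : X.Opens) from ⟨hzU, hzV'⟩) (U ⊓ V').isOpen
  have hWU : W ≤ U := fun y hy => (hWUV hy).1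
  have hWV' : W ≤ V' := fun y hy => (hWUV hy).2
  have hjW : j ⁻¹ᵁ W ≤ V := by
    rw [← hV']
    exact fun y hy => hWV' hy
  have hjWaff : IsAffineOpen (j ⁻¹ᵁ W) := hW.preimage j
  have hrs' := weaklyRegular_restrict hU hW hWU rs hrs.1
  have hrsI' : j.ker.ideal ⟨W, hW⟩ =
      Ideal.ofList (rs.map (X.presheaf.map (homOfLE hWU).op).hom) := by
    rw [← j.ker.map_ideal (U := ⟨W, hW⟩) (V := ⟨U, hU⟩) hWU, hrsI, Ideal.map_ofList]
    rfl
  have hss' := weaklyRegular_restrict hV hjWaff hjW ss hss.1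
  have hssI' : i.ker.ideal ⟨j ⁻¹ᵁ W, hjWaff⟩ =
      Ideal.ofList (ss.map (Y.presheaf.map (homOfLE hjW).op).hom) := by
    rw [← i.ker.map_ideal (U := ⟨j ⁻¹ᵁ W, hjWaff⟩) (V := ⟨V, hV⟩) hjW, hssI, Ideal.map_ofList]
    rfl
  have hne : Nonempty (i ⁻¹ᵁ (j ⁻¹ᵁ W) : Z.Opens) := ⟨⟨z, hzW⟩⟩
  have hss'' : IsRegular Γ(Y, j ⁻¹ᵁ W) (ss.map (Y.presheaf.map (homOfLE hjW).op).hom) := by
    refine ⟨hss', fun h => ?_⟩
    rw [smul_eq_mul, Ideal.mul_top, ← hssI', Scheme.Hom.ker_apply] at h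
    have h1 : (1 : Γ(Y, j ⁻¹ᵁ W)) ∈ RingHom.ker (i.app (j ⁻¹ᵁ W)).hom := h ▸ Submodule.mem_top
    rw [RingHom.mem_ker, map_one] at h1
    exact one_ne_zero h1
  obtain ⟨ts, hts⟩ : ∃ ts : List Γ(X, W),
      ts.map (j.app W).hom = ss.map (Y.presheaf.map (homOfLE hjW).op).hom :=
    (List.map_surjective_iff.mpr (j.app_surjective W hW)) _
  refine ⟨W, hW, hzW, rs.map (X.presheaf.map (homOfLE hWU).op).hom ++ ts, ?_⟩
  have key := isRegular_append (j.app W).hom (j.app_surjective W hW) _ hrs'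
    (by rw [← hrsI', Scheme.Hom.ker_apply]) ts (hts ▸ hss'')
  refine ⟨key.1, ?_⟩
  rw [key.2, hts, ← hssI', Scheme.Hom.ker_apply, Scheme.Hom.ker_apply]
  ext a
  simp only [RingHom.mem_ker, Ideal.mem_comap]
  have h1 : ((i ≫ j).app W).hom a = (i.app (j ⁻¹ᵁ W)).hom ((j.app W).hom a) := by
    rw [Scheme.Hom.comp_app]; rfl
  exact ⟨fun h => h1 ▸ h, fun h => h1 ▸ h⟩

end Groth.Agent.Helper3.RegImm
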