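import Mathlib
import Groth.Prelude.Def_BlowUp2
import Groth.Agent.Lib.Helper3.Cartier
import Groth.Agent.Lib.Helper3.RelCartier

universe u

open CategoryTheory CategoryTheory.Limits AlgebraicGeometry TopologicalSpace

namespace Groth.Agent.Helper3.DivDecomp

theorem colon_map_localization {A S : Type*} [CommRing A] [CommRing S] [Algebra A S]
    (M : Submonoid A) [IsLocalization M S] (I J : Ideal A) (hJ : J.FG) :
    (Submodule.colon I (J : Set A)).map (algebraMap A S) =
      Submodule.colon (I.map (algebraMap A S)) ((J.map (algebraMap A S) : Ideal S) : Set S) := by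
  apply le_antisymm
  · rw [Ideal.map_le_iff_le_comap]
    intro a ha
    rw [Ideal.mem_comap, Submodule.mem_colon]
    intro p hp
    rw [SetLike.mem_coe, Ideal.map] at hp
    induction hp using Submodule.span_induction with
    | mem x hx =>
      obtain ⟨j, hj, rfl⟩ := hx
      rw [smul_eq_mul, ← map_mul]
      exact Ideal.mem_map_of_mem _ (Submodule.mem_colon.mp ha j hj)
    | zero => simp
    | add x y _ _ hx hy => rw [smul_add]; exact Ideal.add_mem _ hx hy
    | smul c x _ hx =>
      rw [smul_eq_mul, smul_eq_mul, mul_left_comm]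
      exact Ideal.mul_mem_left _ _ hx
  · intro b hb
    obtain ⟨T, rfl⟩ := hJ
    obtain ⟨a, s, rfl⟩ := IsLocalization.exists_mk'_eq M b
    have key : ∀ j ∈ T, ∃ m : M, (m : A) * (a * j) ∈ I := by
      intro j hj
      have h1 : IsLocalization.mk' S a s * algebraMap A S j ∈ I.map (algebraMap A S) := by
        have := Submodule.mem_colon.mp hb (algebraMap A S j)
          (Ideal.mem_map_of_mem _ (Ideal.subset_span hj))
        rwa [smul_eq_mul] at this
      have h2 : algebraMap A S (a * j) ∈ I.map (algebraMap A S) := by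
        have : algebraMap A S (a * j) =
            algebraMap A S s * (IsLocalization.mk' S a s * algebraMap A S j) := by
          rw [← mul_assoc, mul_comm (algebraMap A S s), IsLocalization.mk'_spec, map_mul]
        rw [this]
        exact Ideal.mul_mem_left _ _ h1
      rw [IsLocalization.algebraMap_mem_map_algebraMap_iff M] at h2
      obtain ⟨m, hm, hmI⟩ := h2
      exact ⟨⟨m, hm⟩, hmI⟩
    choose! m hm using key
    have hprod : ∀ j ∈ T, ((∏ k ∈ T, m k : M) : A) * a * j ∈ I := by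
      intro j hj
      obtain ⟨c, hc⟩ := Finset.dvd_prod_of_mem m hj
      rw [hc, Submonoid.coe_mul, mul_assoc, mul_comm (m j : A), mul_assoc]
      exact I.mul_mem_left _ (hm j hj)
    have hcol : ((∏ k ∈ T, m k : M) : A) * a ∈ Submodule.colon I ((Ideal.span (T : Set A) : Ideal A) : Set A) := by
      rw [Submodule.mem_colon]
      intro p hp
      rw [SetLike.mem_coe] at hp
      induction hp using Submodule.span_induction with
      | mem x hx => rw [smul_eq_mul]; exact hprod x hx
      | zero => simp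
      | add x y _ _ hx hy => rw [smul_add]; exact Ideal.add_mem _ hx hy
      | smul c x _ hx =>
        rw [smul_eq_mul, smul_eq_mul, mul_left_comm]
        exact Ideal.mul_mem_left _ _ hx
    have : IsLocalization.mk' S a s =
        IsLocalization.mk' S (((∏ k ∈ T, m k : M) : A) * a) ((∏ k ∈ T, m k) * s) := by
      rw [mul_comm ((∏ k ∈ T, m k : M) : A) a, mul_comm (∏ k ∈ T, m k) s, IsLocalization.mk'_cancel]
    rw [this]
    exact (IsLocalization.mk'_mem_map_algebraMap_iff M S _ _ _).mpr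
      ⟨1, M.one_mem, by rw [one_mul]; exact hcol⟩


/-- The colon ideal sheaf `(D : E)` on a locally Noetherian scheme. -/
noncomputable def colonSheaf {X : Scheme.{u}} [IsLocallyNoetherian X] (D E : X.IdealSheafData) :
    X.IdealSheafData where
  ideal U := Submodule.colon (D.ideal U) ((E.ideal U : Ideal Γ(X, U.1)) : Set Γ(X, U.1))
  map_ideal_basicOpen U f := by
    let _ := (X.presheaf.map (homOfLE (X.basicOpen_le f)).op).hom.toAlgebra
    have hloc : IsLocalization.Away f Γ(X, X.basicOpen f) := U.2.isLocalization_basicOpen f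
    have hN : IsNoetherianRing Γ(X, U.1) := IsLocallyNoetherian.component_noetherian U
    have key := colon_map_localization (S := Γ(X, X.basicOpen f)) (.powers f) (D.ideal U)
      (E.ideal U) (IsNoetherian.noetherian _)
    have h1 := D.map_ideal_basicOpen U f
    have h2 := E.map_ideal_basicOpen U f
    rw [RingHom.algebraMap_toAlgebra] at key
    rw [h1, h2] at key
    exact key

theorem colonSheaf_ideal {X : Scheme.{u}} [IsLocallyNoetherian X] (D E : X.IdealSheafData)
    (U : X.affineOpens) : (colonSheaf D E).ideal U =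
      Submodule.colon (D.ideal U) ((E.ideal U : Ideal Γ(X, U.1)) : Set Γ(X, U.1)) := rfl

theorem wellFoundedGT_idealSheafData (X : Scheme.{u}) [IsNoetherian X] :
    WellFoundedGT X.IdealSheafData := by
  rw [wellFoundedGT_iff_monotone_chain_condition]
  intro a
  obtain ⟨s, hs, hU⟩ := (isCompact_iff_finite_and_eq_biUnion_affineOpens (U := (⊤ : X.Opens))).mp
    (by simpa using CompactSpace.isCompact_univ)
  have hfin : Finite s := hs
  have hcov : ⨆ i : s, (i.1 : X.affineOpens).1 = ⊤ := by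
    rw [hU, iSup_subtype]
  have hstab : ∀ i : s, ∃ n, ∀ m, n ≤ m → (a n).ideal i.1 = (a m).ideal i.1 := by
    intro i
    have hN : IsNoetherianRing Γ(X, (i.1 : X.affineOpens).1) :=
      IsLocallyNoetherian.component_noetherian i.1
    have hwf : WellFoundedGT (Ideal Γ(X, (i.1 : X.affineOpens).1)) := inferInstance
    rw [wellFoundedGT_iff_monotone_chain_condition] at hwf
    exact hwf ⟨fun n => (a n).ideal i.1, fun n m h => a.monotone h i.1⟩
  choose n hn using hstab
  have := Fintype.ofFinite s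
  refine ⟨Finset.univ.sup n, fun m hm => ?_⟩
  apply Scheme.IdealSheafData.ext_of_iSup_eq_top (fun i : s => i.1) hcov
  intro i
  have h1 : n i ≤ Finset.univ.sup n := Finset.le_sup (Finset.mem_univ i)
  rw [← hn i _ h1, ← hn i m (h1.trans hm)]

section Integral

variable {X : Scheme.{u}} (𝓘 : X.IdealSheafData) [IsIntegral 𝓘.subscheme]

theorem genericPoint_mem_support :
    𝓘.subschemeι (genericPoint ↥𝓘.subscheme) ∈ 𝓘.support := by
  rw [← SetLike.mem_coe, ← 𝓘.range_subschemeι]; exact ⟨_, rfl⟩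

theorem genericPoint_specializes (y : X) (hy : y ∈ 𝓘.support) :
    𝓘.subschemeι (genericPoint ↥𝓘.subscheme) ⤳ y := by
  rw [← SetLike.mem_coe, ← 𝓘.range_subschemeι] at hy
  obtain ⟨y', rfl⟩ := hy
  exact (_root_.genericPoint_specializes y').map 𝓘.subschemeι.continuous

theorem ideal_isPrime (U : X.affineOpens) (x : X) (hxU : x ∈ U.1) (hx : x ∈ 𝓘.support) :
    (𝓘.ideal U).IsPrime := by
  have hne : Nonempty (𝓘.subschemeι ⁻¹ᵁ U.1) := by
    rw [← SetLike.mem_coe, ← 𝓘.range_subschemeι] at hx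
    obtain ⟨y, rfl⟩ := hx
    exact ⟨⟨y, hxU⟩⟩
  have h1 : IsDomain Γ(𝓘.subscheme, 𝓘.subschemeι ⁻¹ᵁ U.1) := inferInstance
  have e := (𝓘.subschemeObjIso U).commRingCatIsoToRingEquiv
  have h2 : IsDomain (Γ(X, U.1) ⧸ 𝓘.ideal U) := e.symm.toMulEquiv.isDomain _
  exact (Ideal.Quotient.isDomain_iff_prime _).mp h2

theorem fromSpec_ideal_eq_genericPoint (U : X.affineOpens) (hP : (𝓘.ideal U).IsPrime) :
    U.2.fromSpec ⟨𝓘.ideal U, hP⟩ = 𝓘.subschemeι (genericPoint ↥𝓘.subscheme) := by
  let q : PrimeSpectrum Γ(X, U.1) := ⟨𝓘.ideal U, hP⟩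
  have hyU : U.2.fromSpec q ∈ U.1 := Cartier.fromSpec_mem U.2 q
  have hysupp : U.2.fromSpec q ∈ 𝓘.support :=
    (Cartier.mem_support_fromSpec_iff 𝓘 U.2 q).mpr le_rfl
  have hspec := genericPoint_specializes 𝓘 _ hysupp
  have hηU : 𝓘.subschemeι (genericPoint ↥𝓘.subscheme) ∈ U.1 :=
    hspec.mem_open U.1.isOpen hyU
  have hq : U.2.primeIdealOf ⟨_, hηU⟩ = q := by
    apply PrimeSpectrum.ext
    apply le_antisymm
    · have h1 : U.2.fromSpec (U.2.primeIdealOf ⟨_, hηU⟩) ⤳ U.2.fromSpec q := by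
        rw [U.2.fromSpec_primeIdealOf]; exact hspec
      have h2 := (U.2.fromSpec.isOpenEmbedding.isInducing.specializes_iff).mp h1
      exact (PrimeSpectrum.le_iff_specializes _ _).mpr h2
    · have h1 : U.2.fromSpec (U.2.primeIdealOf ⟨_, hηU⟩) ∈ 𝓘.support := by
        rw [U.2.fromSpec_primeIdealOf]; exact genericPoint_mem_support 𝓘
      exact (Cartier.mem_support_fromSpec_iff 𝓘 U.2 _).mp h1
  change U.2.fromSpec q = _
  rw [← hq, U.2.fromSpec_primeIdealOf]

end Integral

theorem ideal_eq_top_of_disjoint {X : Scheme.{u}} (𝓘 : X.IdealSheafData) (U : X.affineOpens)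
    (h : ∀ x ∈ U.1, x ∉ 𝓘.support) : 𝓘.ideal U = ⊤ := by
  by_contra hne
  obtain ⟨m, hm, hle⟩ := Ideal.exists_le_maximal _ hne
  let q : PrimeSpectrum Γ(X, U.1) := ⟨m, hm.isPrime⟩
  exact h _ (Cartier.fromSpec_mem U.2 q) ((Cartier.mem_support_fromSpec_iff 𝓘 U.2 q).mpr hle)

theorem exists_le {X : Scheme.{u}} [IsNoetherian X] (D : X.IdealSheafData)
    (hD : BlowUp.IsEffCartierIdeal D) (htop : D ≠ ⊤) (r : ℕ) (Ds : Fin r → X.IdealSheafData)
    (hDs : ∀ i, BlowUp.IsEffCartierIdeal (Ds i)) (hint : ∀ i, IsIntegral (Ds i).subscheme)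
    (hsub : (D.support : Set X) ⊆ ⋃ i, ((Ds i).support : Set X)) :
    ∃ i, D ≤ Ds i := by
  have hne : (D.support : Set X).Nonempty := by
    rw [Set.nonempty_iff_ne_empty]
    intro h
    apply htop
    rw [← Scheme.IdealSheafData.support_eq_bot_iff]
    exact Closeds.ext h
  obtain ⟨x, hx⟩ := hne
  obtain ⟨U, hxU, f, hf, hDU⟩ := hD x
  have hN : IsNoetherianRing Γ(X, U.1) := IsLocallyNoetherian.component_noetherian U
  have hfx : Ideal.span {f} ≤ (U.2.primeIdealOf ⟨x, hxU⟩).asIdeal := by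
    rw [← hDU]
    have h1 : U.2.fromSpec (U.2.primeIdealOf ⟨x, hxU⟩) ∈ D.support := by
      rw [U.2.fromSpec_primeIdealOf]; exact hx
    exact (Cartier.mem_support_fromSpec_iff D U.2 _).mp h1
  obtain ⟨P, hPmin, hPle⟩ := Ideal.exists_minimalPrimes_le hfx
  have hPprime : P.IsPrime := hPmin.1.1
  let p : PrimeSpectrum Γ(X, U.1) := ⟨P, hPprime⟩
  have hηD : U.2.fromSpec p ∈ D.support := by
    rw [Cartier.mem_support_fromSpec_iff D U.2 p]
    change D.ideal U ≤ P
    rw [hDU]; exact hPmin.1.2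
  obtain ⟨i, hi⟩ := Set.mem_iUnion.mp (hsub hηD)
  refine ⟨i, ?_⟩
  have := hint i
  have hηU : U.2.fromSpec p ∈ U.1 := Cartier.fromSpec_mem U.2 p
  have hQprime : ((Ds i).ideal U).IsPrime := ideal_isPrime (Ds i) U _ hηU hi
  have hQP : (Ds i).ideal U ≤ P := (Cartier.mem_support_fromSpec_iff (Ds i) U.2 p).mp hi
  have hPht : P.height ≤ 1 := by
    have : (Ideal.span {f}).IsPrincipal := ⟨⟨f, rfl⟩⟩
    exact Ideal.height_le_one_of_isPrincipal_of_mem_minimalPrimes _ _ hPmin
  -- the generic point of `Ds i`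
  have hgenpt := fromSpec_ideal_eq_genericPoint (Ds i) U hQprime
  have hQht : ((Ds i).ideal U).height = 1 := by
    have hζU : (Ds i).subschemeι (genericPoint ↥(Ds i).subscheme) ∈ U.1 := by
      rw [← hgenpt]; exact Cartier.fromSpec_mem U.2 _
    have h1 := Cartier.dim_eq_one_of_isEffCartier (Ds i) (hDs i) _
      (genericPoint_mem_support (Ds i)) (fun y hy hyζ =>
        (hyζ.antisymm (genericPoint_specializes (Ds i) y hy)).eq)
    rw [Cartier.ringKrullDim_stalk_eq_height U _ hζU] at h1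
    have h2 : U.2.primeIdealOf ⟨_, hζU⟩ = ⟨(Ds i).ideal U, hQprime⟩ := by
      apply U.2.fromSpec.isOpenEmbedding.injective
      rw [U.2.fromSpec_primeIdealOf, hgenpt]
    rw [h2] at h1
    exact_mod_cast h1
  have hQeqP : (Ds i).ideal U = P := by
    by_contra hne
    have hlt : (Ds i).ideal U < P := lt_of_le_of_ne hQP hne
    have := Ideal.height_add_one_le_of_lt_of_isPrime hlt
    rw [hQht] at this
    have h2 : (1 : ℕ∞) + 1 ≤ 1 := this.trans hPht
    exact absurd h2 (by decide)
  -- the generic point of `Ds i` lies in the support of `D`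
  have hζD : (Ds i).subschemeι (genericPoint ↥(Ds i).subscheme) ∈ D.support := by
    rw [← hgenpt]
    have : (⟨(Ds i).ideal U, hQprime⟩ : PrimeSpectrum Γ(X, U.1)) = p := PrimeSpectrum.ext hQeqP
    rw [this]; exact hηD
  have hsuppsub : ∀ y ∈ (Ds i).support, y ∈ D.support := fun y hy =>
    (genericPoint_specializes (Ds i) y hy).mem_closed D.support.isClosed hζD
  intro W
  by_cases hW : (Ds i).ideal W = ⊤
  · rw [hW]; exact le_top
  · obtain ⟨y, hyW, hy⟩ : ∃ y ∈ W.1, y ∈ (Ds i).support := by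
      by_contra hcon
      push Not at hcon
      exact hW (ideal_eq_top_of_disjoint (Ds i) W hcon)
    have hWprime := ideal_isPrime (Ds i) W y hyW hy
    have h1 := fromSpec_ideal_eq_genericPoint (Ds i) W hWprime
    have h2 : W.2.fromSpec ⟨(Ds i).ideal W, hWprime⟩ ∈ D.support := by rw [h1]; exact hζD
    exact (Cartier.mem_support_fromSpec_iff D W.2 _).mp h2

theorem mul_colonSheaf {X : Scheme.{u}} [IsLocallyNoetherian X] (D E : X.IdealSheafData)
    (hE : BlowUp.IsEffCartierIdeal E) (hle : D ≤ E) : E * colonSheaf D E = D := by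
  apply Scheme.IdealSheafData.ext_of_iSup_eq_top
    (fun W : {W : X.affineOpens // ∃ g : Γ(X, W.1), E.ideal W = Ideal.span {g}} => W.1)
  · rw [eq_top_iff]
    intro x _
    obtain ⟨W, hxW, g, -, hg⟩ := hE x
    exact Opens.mem_iSup.mpr ⟨⟨W, g, hg⟩, hxW⟩
  · rintro ⟨W, g, hg⟩
    change (E * colonSheaf D E).ideal W = D.ideal W
    rw [Scheme.IdealSheafData.ideal_mul, Pi.mul_apply, colonSheaf_ideal, hg]
    apply le_antisymm
    · rw [Ideal.mul_le]
      intro a ha b hb
      obtain ⟨c, rfl⟩ := Ideal.mem_span_singleton'.mp ha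
      have := Submodule.mem_colon.mp hb g (Ideal.mem_span_singleton_self g)
      rw [smul_eq_mul] at this
      rw [mul_assoc, mul_comm g b]
      exact Ideal.mul_mem_left _ _ this
    · intro d hd
      have hdg : d ∈ Ideal.span {g} := hg ▸ hle W hd
      obtain ⟨c, rfl⟩ := Ideal.mem_span_singleton'.mp hdg
      refine Ideal.mul_mem_mul_rev (Ideal.mem_span_singleton_self g) ?_
      rw [Submodule.mem_colon]
      intro p hp
      obtain ⟨t, rfl⟩ := Ideal.mem_span_singleton'.mp hp
      rw [smul_eq_mul, mul_comm t g, ← mul_assoc, mul_comm]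
      exact Ideal.mul_mem_left _ _ hd

theorem colonSheaf_effCartier {X : Scheme.{u}} [IsLocallyNoetherian X] (D E : X.IdealSheafData)
    (hD : BlowUp.IsEffCartierIdeal D) (hE : BlowUp.IsEffCartierIdeal E) (hle : D ≤ E) :
    BlowUp.IsEffCartierIdeal (colonSheaf D E) := by
  intro x
  obtain ⟨W₁, hxW₁, g₁, hg₁, hEW₁⟩ := hE x
  obtain ⟨W, hxW, hWW₁, h, hh, hDW⟩ := RelCartier.exists_local_generator D hD x W₁.1 hxW₁
  obtain ⟨g, hEW, hg⟩ : ∃ g : Γ(X, W.1), E.ideal W = Ideal.span {g} ∧
      g ∈ nonZeroDivisors Γ(X, W.1) :=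
    ⟨_, RelCartier.principal_restrict E (U := W₁) (W := W) hWW₁ g₁ hEW₁,
      RelCartier.nzd_restrict W₁.2 W.2 hWW₁ g₁ hg₁⟩
  have hhg : h ∈ Ideal.span {g} := by
    rw [← hEW]; apply hle W; rw [hDW]; exact Ideal.mem_span_singleton_self h
  obtain ⟨h', hh'⟩ := Ideal.mem_span_singleton'.mp hhg
  refine ⟨W, hxW, h', ?_, ?_⟩
  · rw [mem_nonZeroDivisors_iff_right]
    intro c hc
    have : c * h = 0 := by rw [← hh', ← mul_assoc, hc, zero_mul]
    exact (mem_nonZeroDivisors_iff_right.mp hh) c this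
  · rw [colonSheaf_ideal, hEW, hDW]
    ext a
    rw [Submodule.mem_colon, Ideal.mem_span_singleton']
    constructor
    · intro ha
      have := ha g (Ideal.mem_span_singleton_self g)
      rw [smul_eq_mul, Ideal.mem_span_singleton'] at this
      obtain ⟨t, ht⟩ := this
      refine ⟨t, ?_⟩
      have h3 : (t * h' - a) * g = 0 := by
        rw [sub_mul, mul_assoc, hh', ht]; ring
      have := (mem_nonZeroDivisors_iff_right.mp hg) _ h3
      exact sub_eq_zero.mp this
    · rintro ⟨t, rfl⟩ p hp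
      obtain ⟨s, rfl⟩ := Ideal.mem_span_singleton'.mp hp
      rw [smul_eq_mul, Ideal.mem_span_singleton']
      exact ⟨t * s, by rw [← hh']; ring⟩

theorem lt_colonSheaf {X : Scheme.{u}} [IsLocallyNoetherian X] (D E : X.IdealSheafData)
    (hD : BlowUp.IsEffCartierIdeal D) (hE : BlowUp.IsEffCartierIdeal E) (hle : D ≤ E)
    (hEtop : E ≠ ⊤) : D < colonSheaf D E := by
  have hle' : D ≤ colonSheaf D E := by
    intro U a ha
    rw [colonSheaf_ideal, Submodule.mem_colon]
    intro p _
    rw [smul_eq_mul]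
    exact Ideal.mul_mem_right _ _ ha
  refine lt_of_le_of_ne hle' fun heq => hEtop ?_
  have hmul := mul_colonSheaf D E hE hle
  rw [← heq] at hmul
  -- E * D = D forces E = ⊤
  rw [← Scheme.IdealSheafData.support_eq_bot_iff]
  apply Closeds.ext
  rw [Closeds.coe_bot, Set.eq_empty_iff_forall_notMem]
  intro x hx
  obtain ⟨W, hxW, h, hh, hDW⟩ := hD x
  have h1 : E.ideal W * D.ideal W = D.ideal W := by
    have := congrArg (fun I => Scheme.IdealSheafData.ideal I W) hmul
    simpa [Scheme.IdealSheafData.ideal_mul] using this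
  rw [hDW] at h1
  have h2 : h ∈ E.ideal W * Ideal.span {h} := by rw [h1]; exact Ideal.mem_span_singleton_self h
  rw [Ideal.mem_mul_span_singleton] at h2
  obtain ⟨e, he, heq'⟩ := h2
  have h3 : (e - 1) * h = 0 := by rw [sub_mul, heq', one_mul, sub_self]
  have h4 := (mem_nonZeroDivisors_iff_right.mp hh) _ h3
  have he1 : e = 1 := sub_eq_zero.mp h4
  have hEW : E.ideal W = ⊤ := by rw [Ideal.eq_top_iff_one, ← he1]; exact he
  have hx' : W.2.fromSpec (W.2.primeIdealOf ⟨x, hxW⟩) ∈ E.support := by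
    rw [W.2.fromSpec_primeIdealOf]; exact hx
  have := (Cartier.mem_support_fromSpec_iff E W.2 _).mp hx'
  rw [hEW] at this
  exact (W.2.primeIdealOf ⟨x, hxW⟩).isPrime.ne_top (top_le_iff.mp this)

theorem decompose (X : Scheme.{u}) [IsNoetherian X] (r : ℕ) (Ds : Fin r → X.IdealSheafData)
    (hDs : ∀ i, BlowUp.IsEffCartierIdeal (Ds i)) (hint : ∀ i, IsIntegral (Ds i).subscheme)
    (D : X.IdealSheafData) (hD : BlowUp.IsEffCartierIdeal D)
    (hsub : (D.support : Set X) ⊆ ⋃ i, ((Ds i).support : Set X)) :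
    ∃ a : Fin r → ℕ, D = ∏ i, Ds i ^ a i := by
  have wf := wellFoundedGT_idealSheafData X
  induction D using wf.induction with
  | ind D ih =>
  by_cases htop : D = ⊤
  · refine ⟨0, ?_⟩
    rw [htop]
    simp only [Pi.zero_apply, pow_zero, Finset.prod_const_one]
    rfl
  obtain ⟨i, hle⟩ := exists_le D hD htop r Ds hDs hint hsub
  have hEtop : Ds i ≠ ⊤ := by
    intro h
    have := hint i
    have hmem := genericPoint_mem_support (Ds i)
    have hbot : (Ds i).support = ⊥ := by rw [h]; rfl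
    rw [hbot] at hmem
    exact hmem
  have hlt := lt_colonSheaf D (Ds i) hD (hDs i) hle hEtop
  have hD' := colonSheaf_effCartier D (Ds i) hD (hDs i) hle
  have hsub' : ((colonSheaf D (Ds i)).support : Set X) ⊆ ⋃ i, ((Ds i).support : Set X) :=
    fun y hy => hsub (Scheme.IdealSheafData.support_antitone hlt.le hy)
  obtain ⟨a', ha'⟩ := ih _ hlt hD' hsub'
  refine ⟨a' + Pi.single i 1, ?_⟩
  have hmul := mul_colonSheaf D (Ds i) (hDs i) hle
  rw [← hmul, ha']
  simp only [Pi.add_apply, pow_add, Finset.prod_mul_distrib]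
  rw [mul_comm]
  congr 1
  rw [Finset.prod_eq_single i]
  · simp
  · intro j _ hji
    simp [Pi.single_apply, hji]
  · simp

end Groth.Agent.Helper3.DivDecomp
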