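import Mathlib
import Groth.Agent.Lib.Helper3.Cartier3
import Groth.Agent.Lib.Helper3.DivDecomp

universe u

open RingTheory.Sequence

namespace Groth.Agent.Helper3.RegSpread

theorem weaklyRegular_iff_colon {S : Type*} [CommRing S] (bs : List S) :
    IsWeaklyRegular S bs ↔ ∀ k (hk : k < bs.length),
      Submodule.colon (Ideal.ofList (bs.take k)) ((Ideal.span {bs[k]} : Ideal S) : Set S) ≤
        Ideal.ofList (bs.take k) := by
  rw [isWeaklyRegular_iff]
  refine forall_congr' fun k => forall_congr' fun hk => ?_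
  rw [isSMulRegular_on_quot_iff_lsmul_comap_le]
  have h1 : (Ideal.ofList (bs.take k) • ⊤ : Submodule S S) = Ideal.ofList (bs.take k) := by
    rw [smul_eq_mul, Ideal.mul_top]
  rw [h1]
  constructor
  · intro h a ha
    apply h
    rw [Submodule.mem_comap]
    have := Submodule.mem_colon.mp ha bs[k] (Ideal.mem_span_singleton_self _)
    rw [smul_eq_mul, mul_comm] at this
    exact this
  · intro h a ha
    apply h
    rw [Submodule.mem_colon]
    intro q hq
    obtain ⟨t, rfl⟩ := Ideal.mem_span_singleton'.mp hq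
    rw [Submodule.mem_comap] at ha
    have ha' : bs[k] * a ∈ Ideal.ofList (bs.take k) := ha
    rw [smul_eq_mul, mul_comm t, ← mul_assoc, mul_comm a]
    exact Ideal.mul_mem_right _ _ ha'

theorem map_le_of_mul_mem {A S : Type*} [CommRing A] [CommRing S] [Algebra A S] (g : A)
    [IsLocalization.Away g S] (I J : Ideal A) (h : ∀ a ∈ I, g * a ∈ J) :
    I.map (algebraMap A S) ≤ J.map (algebraMap A S) := by
  rw [Ideal.map_le_iff_le_comap]
  intro a ha
  rw [Ideal.mem_comap]
  have hu : IsUnit (algebraMap A S g) := IsLocalization.Away.algebraMap_isUnit g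
  have h1 : algebraMap A S (g * a) ∈ J.map (algebraMap A S) := Ideal.mem_map_of_mem _ (h a ha)
  rw [map_mul] at h1
  exact (Ideal.unit_mul_mem_iff_mem _ hu).mp h1

theorem exists_of_map_le {A S : Type*} [CommRing A] [CommRing S] [Algebra A S] (p : Ideal A)
    [p.IsPrime] [IsLocalization.AtPrime S p] (I J : Ideal A) (hI : I.FG)
    (h : I.map (algebraMap A S) ≤ J.map (algebraMap A S)) : ∃ g ∉ p, ∀ a ∈ I, g * a ∈ J := by
  apply Cartier3.exists_mul_mem_of_fg p I J hI
  intro j hj
  have h1 : algebraMap A S j ∈ J.map (algebraMap A S) := h (Ideal.mem_map_of_mem _ hj)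
  rw [IsLocalization.algebraMap_mem_map_algebraMap_iff p.primeCompl] at h1
  obtain ⟨m, hm, hmJ⟩ := h1
  exact ⟨m, hm, hmJ⟩

theorem spread_regular {A : Type*} [CommRing A] [IsNoetherianRing A] (p : Ideal A) [p.IsPrime]
    (S : Type*) [CommRing S] [Algebra A S] [IsLocalization.AtPrime S p] (as : List A)
    (h : IsWeaklyRegular S (as.map (algebraMap A S))) :
    ∃ g ∉ p, ∀ (h' : A) (S' : Type u) [CommRing S'] [Algebra A S']
      [IsLocalization.Away (g * h') S'], IsWeaklyRegular S' (as.map (algebraMap A S')) := by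
  classical
  rw [weaklyRegular_iff_colon] at h
  -- for each k get g_k
  have key : ∀ k (hk : k < as.length), ∃ g ∉ p, ∀ a ∈ Submodule.colon (Ideal.ofList (as.take k))
      ((Ideal.span {as[k]} : Ideal A) : Set A), g * a ∈ Ideal.ofList (as.take k) := by
    intro k hk
    apply exists_of_map_le (S := S) p _ _ (IsNoetherian.noetherian _)
    have h1 := h k (by simpa using hk)
    rw [DivDecomp.colon_map_localization p.primeCompl _ _ ⟨{as[k]}, by simp⟩]
    simp only [List.getElem_map, ← List.map_take, ← Ideal.map_ofList] at h1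
    rw [Ideal.map_span (algebraMap A S) {as[k]}, Set.image_singleton]
    exact h1
  choose! g hg1 hg2 using key
  refine ⟨∏ k ∈ Finset.range as.length, g k, ?_, ?_⟩
  · intro hmem
    obtain ⟨k, hk, hkp⟩ := (Ideal.IsPrime.prod_mem_iff).mp hmem
    exact hg1 k (Finset.mem_range.mp hk) hkp
  · intro h' S' _ _ _
    rw [weaklyRegular_iff_colon]
    intro k hk
    have hk' : k < as.length := by simpa using hk
    simp only [List.getElem_map, ← List.map_take, ← Ideal.map_ofList]
    have := DivDecomp.colon_map_localization (S := S')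
      (Submonoid.powers ((∏ k ∈ Finset.range as.length, g k) * h')) (Ideal.ofList (as.take k))
      (Ideal.span {as[k]}) ⟨{as[k]}, by simp⟩
    rw [Ideal.map_span (algebraMap A S') {as[k]}, Set.image_singleton] at this
    rw [← this]
    apply map_le_of_mul_mem ((∏ k ∈ Finset.range as.length, g k) * h')
    intro a ha
    obtain ⟨c, hc⟩ := Finset.dvd_prod_of_mem g (Finset.mem_range.mpr hk')
    have e : g k * c * h' * a = (c * h') * (g k * a) := by ring
    rw [hc, e]
    exact Ideal.mul_mem_left _ _ (hg2 k hk' a ha)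

theorem spread_ideal_eq {A : Type*} [CommRing A] [IsNoetherianRing A] (p : Ideal A) [p.IsPrime]
    (S : Type*) [CommRing S] [Algebra A S] [IsLocalization.AtPrime S p] (I J : Ideal A)
    (h : I.map (algebraMap A S) = J.map (algebraMap A S)) :
    ∃ g ∉ p, ∀ (h' : A) (S' : Type u) [CommRing S'] [Algebra A S']
      [IsLocalization.Away (g * h') S'], I.map (algebraMap A S') = J.map (algebraMap A S') := by
  obtain ⟨g₁, hg₁, h₁⟩ := exists_of_map_le (S := S) p I J (IsNoetherian.noetherian _) h.le
  obtain ⟨g₂, hg₂, h₂⟩ := exists_of_map_le (S := S) p J I (IsNoetherian.noetherian _) h.ge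
  refine ⟨g₁ * g₂, fun hmem => (Ideal.IsPrime.mem_or_mem ‹_› hmem).elim hg₁ hg₂, ?_⟩
  intro h' S' _ _ _
  apply le_antisymm
  · apply map_le_of_mul_mem (g₁ * g₂ * h')
    intro a ha
    have e : g₁ * g₂ * h' * a = (g₂ * h') * (g₁ * a) := by ring
    rw [e]
    exact Ideal.mul_mem_left _ _ (h₁ a ha)
  · apply map_le_of_mul_mem (g₁ * g₂ * h')
    intro a ha
    have e : g₁ * g₂ * h' * a = (g₁ * h') * (g₂ * a) := by ring
    rw [e]
    exact Ideal.mul_mem_left _ _ (h₂ a ha)

end Groth.Agent.Helper3.RegSpread
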