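import Mathlib
import Groth.Prelude.Def_Mor2
import Groth.Agent.Lib.Helper3.Cartier
import Groth.Agent.Lib.Helper3.RegImm
import Groth.Agent.Lib.Helper3.RegSpread

universe u

open CategoryTheory CategoryTheory.Limits AlgebraicGeometry TopologicalSpace
open RingTheory.Sequence

namespace Groth.Agent.Helper3.RegImm2

/-- The kernel of the stalk map of a closed immersion is the extension of the kernel ideal. -/
theorem ker_stalkMap_closedImmersion {X Z : Scheme.{u}} (i : Z ⟶ X) [IsClosedImmersion i] (d : Z)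
    (U : X.affineOpens) (hx : i d ∈ U.1) :
    RingHom.ker (i.stalkMap d).hom =
      (i.ker.ideal U).map (X.presheaf.germ U.1 (i d) hx).hom := by
  have hV : IsAffineOpen (i ⁻¹ᵁ U.1) := U.2.preimage i
  have hd : d ∈ i ⁻¹ᵁ U.1 := hx
  have hcompat : ∀ a : Γ(X, U.1), (i.stalkMap d).hom
      ((X.presheaf.germ U.1 (i d) hx).hom a) =
      (Z.presheaf.germ (i ⁻¹ᵁ U.1) d hd).hom ((i.app U.1).hom a) := fun a =>
    Scheme.Hom.germ_stalkMap_apply i U.1 d hx a
  let _ := X.presheaf.algebra_section_stalk (U := U.1) ⟨i d, hx⟩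
  let _ := Z.presheaf.algebra_section_stalk (U := i ⁻¹ᵁ U.1) ⟨d, hd⟩
  have hlocX := U.2.isLocalization_stalk ⟨i d, hx⟩
  have hlocZ := hV.isLocalization_stalk ⟨d, hd⟩
  have hgX : ∀ a : Γ(X, U.1), algebraMap Γ(X, U.1) (X.presheaf.stalk (i d)) a =
      (X.presheaf.germ U.1 (i d) hx).hom a := fun _ => rfl
  have hgZ : ∀ b : Γ(Z, i ⁻¹ᵁ U.1),
      algebraMap Γ(Z, i ⁻¹ᵁ U.1) (Z.presheaf.stalk d) b =
      (Z.presheaf.germ (i ⁻¹ᵁ U.1) d hd).hom b := fun _ => rfl
  have hkerapp : RingHom.ker (i.app U.1).hom = i.ker.ideal U := (Scheme.Hom.ker_apply i U).symm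
  apply le_antisymm
  · intro r hr
    rw [RingHom.mem_ker] at hr
    obtain ⟨a, s, rfl⟩ := IsLocalization.exists_mk'_eq
      (U.2.primeIdealOf ⟨i d, hx⟩).asIdeal.primeCompl r
    have h1 : (i.stalkMap d).hom
        (algebraMap Γ(X, U.1) (X.presheaf.stalk (i d)) a) = 0 := by
      rw [← IsLocalization.mk'_spec (X.presheaf.stalk (i d)) a s, map_mul, hr, zero_mul]
    rw [hgX, hcompat, ← hgZ,
      IsLocalization.map_eq_zero_iff (hV.primeIdealOf ⟨d, hd⟩).asIdeal.primeCompl] at h1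
    obtain ⟨⟨t, ht⟩, htm⟩ := h1
    obtain ⟨u, rfl⟩ := i.app_surjective U.1 U.2 t
    have hu : u ∈ (U.2.primeIdealOf ⟨i d, hx⟩).asIdeal.primeCompl := by
      intro hu
      apply ht
      have h2 : algebraMap Γ(X, U.1) (X.presheaf.stalk (i d)) u ∈
          IsLocalRing.maximalIdeal (X.presheaf.stalk (i d)) :=
        (IsLocalization.AtPrime.to_map_mem_maximal_iff _ _ u).mpr hu
      have h3 : (i.stalkMap d).hom
          (algebraMap Γ(X, U.1) (X.presheaf.stalk (i d)) u) ∈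
          IsLocalRing.maximalIdeal (Z.presheaf.stalk d) := by
        rw [IsLocalRing.mem_maximalIdeal, mem_nonunits_iff] at h2 ⊢
        intro h4
        exact h2 (isUnit_of_map_unit (i.stalkMap d).hom _ h4)
      rw [hgX, hcompat, ← hgZ] at h3
      exact (IsLocalization.AtPrime.to_map_mem_maximal_iff _
        (hV.primeIdealOf ⟨d, hd⟩).asIdeal _).mp h3
    have h5 : u * a ∈ i.ker.ideal U := by
      rw [← hkerapp, RingHom.mem_ker, map_mul]
      exact htm
    have h6 : algebraMap Γ(X, U.1) (X.presheaf.stalk (i d)) (u * a) ∈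
        (i.ker.ideal U).map (X.presheaf.germ U.1 (i d) hx).hom :=
      Ideal.mem_map_of_mem _ h5
    have h7 : IsLocalization.mk' (X.presheaf.stalk (i d)) a s =
        IsLocalization.mk' (X.presheaf.stalk (i d)) 1 (⟨u, hu⟩ * s) *
          algebraMap Γ(X, U.1) (X.presheaf.stalk (i d)) (u * a) := by
      rw [IsLocalization.mk'_eq_iff_eq_mul]
      have h8 := IsLocalization.mk'_spec (X.presheaf.stalk (i d)) (1 : Γ(X, U.1))
        (⟨u, hu⟩ * s)
      calc algebraMap Γ(X, U.1) (X.presheaf.stalk (i d)) a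
          = algebraMap Γ(X, U.1) (X.presheaf.stalk (i d)) 1 *
            algebraMap Γ(X, U.1) (X.presheaf.stalk (i d)) a := by
            rw [map_one, one_mul]
        _ = _ := by
            rw [← h8]
            simp only [Submonoid.coe_mul, map_mul]
            ring
    rw [h7]
    exact Ideal.mul_mem_left _ _ h6
  · rw [Ideal.map_le_iff_le_comap]
    intro a ha
    rw [Ideal.mem_comap, RingHom.mem_ker, hcompat]
    have : (i.app U.1).hom a = 0 := by
      rw [← RingHom.mem_ker, hkerapp]; exact ha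
    rw [this, map_zero]

theorem exists_lift_list {X : Scheme.{u}} (x : X) (rs : List (X.presheaf.stalk x)) :
    ∃ (U : X.affineOpens) (hxU : x ∈ U.1) (as : List Γ(X, U.1)),
      as.map (X.presheaf.germ U.1 x hxU).hom = rs := by
  induction rs with
  | nil =>
    obtain ⟨_, ⟨W, hW, rfl⟩, hxW, -⟩ :=
      X.isBasis_affineOpens.exists_subset_of_mem_open (Set.mem_univ x) isOpen_univ
    exact ⟨⟨W, hW⟩, hxW, [], rfl⟩
  | cons r rs ih =>
    obtain ⟨U, hxU, as, has⟩ := ih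
    obtain ⟨V, hxV, s, hs⟩ := TopCat.Presheaf.exists_germ_eq X.presheaf r
    obtain ⟨_, ⟨W, hW, rfl⟩, hxW, hWUV⟩ := X.isBasis_affineOpens.exists_subset_of_mem_open
      (show x ∈ (U.1 ⊓ V : X.Opens) from ⟨hxU, hxV⟩) (U.1 ⊓ V).isOpen
    have hWU : W ≤ U.1 := fun y hy => (hWUV hy).1
    have hWV : W ≤ V := fun y hy => (hWUV hy).2
    refine ⟨⟨W, hW⟩, hxW, (X.presheaf.map (homOfLE hWV).op).hom s ::
      as.map (X.presheaf.map (homOfLE hWU).op).hom, ?_⟩
    rw [List.map_cons, List.map_map, ← has, ← hs]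
    congr 1
    · exact TopCat.Presheaf.germ_res_apply X.presheaf (homOfLE hWV) x hxW s
    · apply List.map_congr_left
      intro a _
      exact TopCat.Presheaf.germ_res_apply X.presheaf (homOfLE hWU) x hxW a

/-- Kernel of the restricted morphism's app equals the kernel of `i.app` on the image. -/
theorem ker_morphismRestrict_app {X Z : Scheme.{u}} (i : Z ⟶ X) (V : X.Opens)
    (U' : V.toScheme.Opens) :
    RingHom.ker ((i ∣_ V).app U').hom = RingHom.ker (i.app (V.ι ''ᵁ U')).hom := by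
  have hinj : Function.Injective
      (Z.presheaf.map (eqToHom (image_morphismRestrict_preimage i V U')).op).hom :=
    (ConcreteCategory.bijective_of_isIso
      (Z.presheaf.map (eqToHom (image_morphismRestrict_preimage i V U')).op)).1
  have key : ∀ a : Γ(X, V.ι ''ᵁ U'), ((i ∣_ V).app U').hom a =
      (Z.presheaf.map (eqToHom (image_morphismRestrict_preimage i V U')).op).hom
        ((i.app (V.ι ''ᵁ U')).hom a) := by
    intro a
    have h := morphismRestrict_app i V U'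
    exact congrArg (fun f => (CommRingCat.Hom.hom f) a) h
  ext a
  constructor
  · intro ha
    have ha' : ((i ∣_ V).app U').hom a = 0 := ha
    rw [key] at ha'
    exact hinj (ha'.trans (map_zero _).symm)
  · intro ha
    have ha' : (i.app (V.ι ''ᵁ U')).hom a = 0 := ha
    show ((i ∣_ V).app U').hom a = 0
    exact (key a).trans ((congrArg _ ha').trans (map_zero _))

/-- From a regular closed immersion after restriction to `V` to a presentation on an affine open
of `X`. -/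
theorem exists_of_restrict {X Z : Scheme.{u}} (i : Z ⟶ X) [IsClosedImmersion i] (V : X.Opens)
    (h : Mor2.IsRegularClosedImmersion (i ∣_ V)) (z : Z) (hz : i z ∈ V) :
    ∃ (W : X.affineOpens), i z ∈ W.1 ∧ ∃ rs : List Γ(X, W.1),
      IsRegular Γ(X, W.1) rs ∧ i.ker.ideal W = Ideal.ofList rs := by
  obtain ⟨hcl, h⟩ := h
  obtain ⟨U', hU', hzU', rs, hrs, hker⟩ := h ⟨z, hz⟩
  have hW : IsAffineOpen (V.ι ''ᵁ U') := hU'.image_of_isOpenImmersion V.ι
  refine ⟨⟨V.ι ''ᵁ U', hW⟩, ?_, rs, hrs, ?_⟩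
  · refine ⟨(i ∣_ V) ⟨z, hz⟩, hzU', ?_⟩
    exact morphismRestrict_base_coe i V ⟨z, hz⟩
  · have h1 : (i ∣_ V).ker.ideal ⟨U', hU'⟩ = RingHom.ker ((i ∣_ V).app U').hom :=
      Scheme.Hom.ker_apply (i ∣_ V) ⟨U', hU'⟩
    have h2 : i.ker.ideal ⟨V.ι ''ᵁ U', hW⟩ = RingHom.ker (i.app (V.ι ''ᵁ U')).hom :=
      Scheme.Hom.ker_apply i ⟨V.ι ''ᵁ U', hW⟩
    rw [h2, ← ker_morphismRestrict_app, ← h1]
    exact hker

/-- A presentation on an affine open `V` gives a regular closed immersion after restriction. -/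
theorem restrict_of_presentation {X Z : Scheme.{u}} (i : Z ⟶ X) [IsClosedImmersion i]
    (V : X.Opens) (hV : IsAffineOpen V) (rs : List Γ(X, V)) (hrs : IsWeaklyRegular Γ(X, V) rs)
    (hker : i.ker.ideal ⟨V, hV⟩ = Ideal.ofList rs) :
    Mor2.IsRegularClosedImmersion (i ∣_ V) := by
  have hcl : IsClosedImmersion (i ∣_ V) := IsZariskiLocalAtTarget.restrict ‹_› V
  refine ⟨hcl, fun z' => ?_⟩
  have hle : V.ι ''ᵁ (⊤ : V.toScheme.Opens) ≤ V := V.ι_image_le ⊤
  have haff : IsAffineOpen (V.ι ''ᵁ (⊤ : V.toScheme.Opens)) := by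
    rw [V.ι_image_top]; exact hV
  have : IsAffine V.toScheme := hV
  refine ⟨⊤, isAffineOpen_top _, trivial,
    rs.map (X.presheaf.map (homOfLE hle).op).hom, ?_, ?_⟩
  · have hwr := RegImm.weaklyRegular_restrict hV haff hle rs hrs
    have hI : i.ker.ideal ⟨V.ι ''ᵁ (⊤ : V.toScheme.Opens), haff⟩ =
        Ideal.ofList (rs.map (X.presheaf.map (homOfLE hle).op).hom) := by
      rw [← i.ker.map_ideal (U := ⟨V.ι ''ᵁ (⊤ : V.toScheme.Opens), haff⟩) (V := ⟨V, hV⟩) hle,
        hker, Ideal.map_ofList]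
      rfl
    refine ⟨hwr, fun htop => ?_⟩
    have h1 : Ideal.ofList (rs.map (X.presheaf.map (homOfLE hle).op).hom) = ⊤ := by
      rw [smul_eq_mul, Ideal.mul_top] at htop
      exact htop.symm
    rw [← hI, Scheme.Hom.ker_apply] at h1
    have hz : i z'.1 ∈ V.ι ''ᵁ (⊤ : V.toScheme.Opens) := by
      rw [V.ι_image_top]; exact z'.2
    have hne : Nonempty (i ⁻¹ᵁ (V.ι ''ᵁ (⊤ : V.toScheme.Opens)) : Z.Opens) := ⟨⟨z'.1, hz⟩⟩
    have h2 : (1 : Γ(X, V.ι ''ᵁ (⊤ : V.toScheme.Opens))) ∈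
        RingHom.ker (i.app (V.ι ''ᵁ (⊤ : V.toScheme.Opens))).hom := h1 ▸ Submodule.mem_top
    rw [RingHom.mem_ker, map_one] at h2
    exact one_ne_zero h2
  · have hI : i.ker.ideal ⟨V.ι ''ᵁ (⊤ : V.toScheme.Opens), haff⟩ =
        Ideal.ofList (rs.map (X.presheaf.map (homOfLE hle).op).hom) := by
      rw [← i.ker.map_ideal (U := ⟨V.ι ''ᵁ (⊤ : V.toScheme.Opens), haff⟩) (V := ⟨V, hV⟩) hle,
        hker, Ideal.map_ofList]
      rfl
    have h1 : (i ∣_ V).ker.ideal ⟨⊤, isAffineOpen_top _⟩ =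
        RingHom.ker ((i ∣_ V).app (⊤ : V.toScheme.Opens)).hom :=
      Scheme.Hom.ker_apply (i ∣_ V) ⟨⊤, isAffineOpen_top _⟩
    have h2 : i.ker.ideal ⟨V.ι ''ᵁ (⊤ : V.toScheme.Opens), haff⟩ =
        RingHom.ker (i.app (V.ι ''ᵁ (⊤ : V.toScheme.Opens))).hom :=
      Scheme.Hom.ker_apply i ⟨V.ι ''ᵁ (⊤ : V.toScheme.Opens), haff⟩
    rw [h1, ker_morphismRestrict_app, ← h2]
    exact hI

theorem forward {X Z : Scheme.{u}} [IsLocallyNoetherian X] (i : Z ⟶ X) [IsClosedImmersion i]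
    (z : Z) (V : X.Opens) (hz : i z ∈ V) (h : Mor2.IsRegularClosedImmersion (i ∣_ V)) :
    ∃ rs : List (X.presheaf.stalk (i z)), IsRegular (X.presheaf.stalk (i z)) rs ∧
      RingHom.ker (i.stalkMap z).hom = Ideal.ofList rs := by
  obtain ⟨W, hzW, rs, hrs, hker⟩ := exists_of_restrict i V h z hz
  let _ := X.presheaf.algebra_section_stalk (U := W.1) ⟨i z, hzW⟩
  have hloc := W.2.isLocalization_stalk ⟨i z, hzW⟩
  have hg : ∀ a : Γ(X, W.1), algebraMap Γ(X, W.1) (X.presheaf.stalk (i z)) a =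
      (X.presheaf.germ W.1 (i z) hzW).hom a := fun _ => rfl
  have hmem : ∀ r ∈ rs, r ∈ (W.2.primeIdealOf ⟨i z, hzW⟩).asIdeal := by
    intro r hr
    have h1 : i z ∈ (i.ker.support : Set X) := i.range_subset_ker_support ⟨z, rfl⟩
    have h2 : W.2.fromSpec (W.2.primeIdealOf ⟨i z, hzW⟩) = i z := W.2.fromSpec_primeIdealOf ⟨i z, hzW⟩
    rw [← h2] at h1
    have h3 := (Cartier.mem_support_fromSpec_iff i.ker W.2 _).mp h1
    apply h3
    rw [hker]
    exact Ideal.subset_span hr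
  refine ⟨rs.map (algebraMap Γ(X, W.1) (X.presheaf.stalk (i z))), ?_, ?_⟩
  · exact IsWeaklyRegular.isRegular_of_isLocalization_of_mem (X.presheaf.stalk (i z))
      (W.2.primeIdealOf ⟨i z, hzW⟩).asIdeal hrs.1 hmem
  · rw [ker_stalkMap_closedImmersion i z W hzW, hker, Ideal.map_ofList]
    rfl

theorem backward {X Z : Scheme.{u}} [IsLocallyNoetherian X] (i : Z ⟶ X) [IsClosedImmersion i]
    (z : Z) (rs : List (X.presheaf.stalk (i z))) (hrs : IsRegular (X.presheaf.stalk (i z)) rs)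
    (hker : RingHom.ker (i.stalkMap z).hom = Ideal.ofList rs) :
    ∃ V : X.Opens, i z ∈ V ∧ Mor2.IsRegularClosedImmersion (i ∣_ V) := by
  obtain ⟨U, hxU, as, has⟩ := exists_lift_list (i z) rs
  let _ := X.presheaf.algebra_section_stalk (U := U.1) ⟨i z, hxU⟩
  have hloc := U.2.isLocalization_stalk ⟨i z, hxU⟩
  have hnoeth : IsNoetherianRing Γ(X, U.1) := IsLocallyNoetherian.component_noetherian U
  have hg : ∀ a : Γ(X, U.1), algebraMap Γ(X, U.1) (X.presheaf.stalk (i z)) a =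
      (X.presheaf.germ U.1 (i z) hxU).hom a := fun _ => rfl
  have has' : as.map (algebraMap Γ(X, U.1) (X.presheaf.stalk (i z))) = rs := has
  -- ideal equality at the stalk
  have hIJ : (i.ker.ideal U).map (algebraMap Γ(X, U.1) (X.presheaf.stalk (i z))) =
      (Ideal.ofList as).map (algebraMap Γ(X, U.1) (X.presheaf.stalk (i z))) := by
    have h1 := ker_stalkMap_closedImmersion i z U hxU
    rw [hker] at h1
    rw [Ideal.map_ofList, has']
    exact h1.symm
  obtain ⟨g₁, hg₁, hsp₁⟩ := RegSpread.spread_ideal_eq (U.2.primeIdealOf ⟨i z, hxU⟩).asIdeal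
    (X.presheaf.stalk (i z)) (i.ker.ideal U) (Ideal.ofList as) hIJ
  obtain ⟨g₂, hg₂, hsp₂⟩ := RegSpread.spread_regular (U.2.primeIdealOf ⟨i z, hxU⟩).asIdeal
    (X.presheaf.stalk (i z)) as (by rw [has']; exact hrs.1)
  have hV : IsAffineOpen (X.basicOpen (g₁ * g₂)) := U.2.basicOpen _
  have hle : X.basicOpen (g₁ * g₂) ≤ U.1 := X.basicOpen_le _
  have hloc' : IsLocalization.Away (g₁ * g₂) Γ(X, X.basicOpen (g₁ * g₂)) :=
    U.2.isLocalization_basicOpen _
  have hloc'' : IsLocalization.Away (g₂ * g₁) Γ(X, X.basicOpen (g₁ * g₂)) := by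
    rw [mul_comm g₂ g₁]; exact hloc'
  refine ⟨X.basicOpen (g₁ * g₂), ?_, ?_⟩
  · rw [Scheme.mem_basicOpen X (g₁ * g₂) (i z) hxU]
    have hnot : g₁ * g₂ ∈ (U.2.primeIdealOf ⟨i z, hxU⟩).asIdeal.primeCompl := by
      intro hmem
      exact (Ideal.IsPrime.mem_or_mem inferInstance hmem).elim hg₁ hg₂
    exact (IsLocalization.AtPrime.isUnit_to_map_iff (X.presheaf.stalk (i z))
      (U.2.primeIdealOf ⟨i z, hxU⟩).asIdeal (g₁ * g₂)).mpr hnot
  · have h1 := hsp₁ g₂ Γ(X, X.basicOpen (g₁ * g₂))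
    have h2 := hsp₂ g₁ Γ(X, X.basicOpen (g₁ * g₂))
    refine restrict_of_presentation i (X.basicOpen (g₁ * g₂)) hV
      (as.map (algebraMap Γ(X, U.1) Γ(X, X.basicOpen (g₁ * g₂)))) h2 ?_
    rw [← Ideal.map_ofList, ← h1]
    exact (i.ker.map_ideal (U := ⟨X.basicOpen (g₁ * g₂), hV⟩) (V := U) hle).symm

end Groth.Agent.Helper3.RegImm2
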