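import Mathlib

/-!
# The first Koszul homology `ker g / ⟨g(u)v - g(v)u⟩` of a linear form (helper3)

For a linear form `g : E → A` we put `kQ g = ker g`, `kF0 g = span {g u • v - g v • u}` and
`kH1 g = kQ g / kF0 g`.  For `E = A^σ` and `g = (rel_s)` this is `H₁` of the Koszul complex.
We prove invariance under isomorphisms of `E`, compute it for `g ∘ fst` on a product, and deduce
that `length H₁(y) - |y|·length(A/J)` only depends on the ideal `J` generated by the family `y`.
-/

set_option autoImplicit false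
set_option linter.style.haveILetI false

noncomputable section

namespace Groth.Agent.Helper3.CI1

universe u v w

section Abstract

variable {A : Type u} [CommRing A] {E : Type v} [AddCommGroup E] [Module A E] (g : E →ₗ[A] A)

/-- cycles -/
def kQ : Submodule A E := LinearMap.ker g

/-- boundaries -/
def kF0 : Submodule A E := Submodule.span A {w | ∃ u v : E, w = g u • v - g v • u}

lemma kF0_le_kQ : kF0 g ≤ kQ g := by
  refine Submodule.span_le.mpr ?_
  rintro _ ⟨u, v, rfl⟩
  simp [kQ, mul_comm]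

/-- first Koszul homology -/
abbrev kH1 : Type v := ↥(kQ g) ⧸ (kF0 g).comap (kQ g).subtype

variable {E' : Type w} [AddCommGroup E'] [Module A E'] (g' : E' →ₗ[A] A) (Θ : E ≃ₗ[A] E')

lemma kQ_comp : kQ (g' ∘ₗ Θ.toLinearMap) = (kQ g').comap Θ.toLinearMap := rfl

lemma kF0_comp : kF0 (g' ∘ₗ Θ.toLinearMap) = (kF0 g').comap Θ.toLinearMap := by
  apply le_antisymm
  · refine Submodule.span_le.mpr ?_
    rintro _ ⟨u, v, rfl⟩
    change Θ (_ - _) ∈ kF0 g'
    rw [map_sub, map_smul, map_smul]
    exact Submodule.subset_span ⟨Θ u, Θ v, rfl⟩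
  · intro x hx
    have hx' : Θ x ∈ kF0 g' := hx
    have h1 : ∀ y ∈ kF0 g', Θ.symm y ∈ kF0 (g' ∘ₗ Θ.toLinearMap) := by
      intro y hy
      induction hy using Submodule.span_induction with
      | mem y hy =>
        obtain ⟨u, v, rfl⟩ := hy
        rw [map_sub, map_smul, map_smul]
        refine Submodule.subset_span ⟨Θ.symm u, Θ.symm v, ?_⟩
        simp
      | zero => rw [map_zero]; exact zero_mem _
      | add a b _ _ ha hb => rw [map_add]; exact add_mem ha hb
      | smul r a _ ha => rw [map_smul]; exact Submodule.smul_mem _ _ ha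
    have := h1 _ hx'
    rwa [LinearEquiv.symm_apply_apply] at this

/-- invariance of `kH1` under isomorphisms -/
def kH1Equiv : kH1 (g' ∘ₗ Θ.toLinearMap) ≃ₗ[A] kH1 g' :=
  Submodule.Quotient.equiv _ _ (LinearEquiv.ofSubmodule' Θ (kQ g')) (by
    ext x
    rw [Submodule.mem_map_equiv, Submodule.mem_comap, Submodule.mem_comap, kF0_comp,
      Submodule.mem_comap]
    have : Θ.toLinearMap ((kQ (g' ∘ₗ Θ.toLinearMap)).subtype
        ((LinearEquiv.ofSubmodule' Θ (kQ g')).symm x)) = (kQ g').subtype x := by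
      simp
    exact iff_of_eq (congrArg (· ∈ kF0 g') this))

theorem length_kH1_comp :
    Module.length A (kH1 (g' ∘ₗ Θ.toLinearMap)) = Module.length A (kH1 g') :=
  (kH1Equiv g' Θ).length_eq

end Abstract

section Prod

variable {A : Type u} [CommRing A] {E₁ : Type v} [AddCommGroup E₁] [Module A E₁]
  (g₁ : E₁ →ₗ[A] A) (T : Type w) [AddCommGroup T] [Module A T]

/-- the ideal generated by the values of `g₁` -/
abbrev vIdeal : Ideal A := LinearMap.range g₁

lemma kQ_fst : kQ (g₁ ∘ₗ LinearMap.fst A E₁ T) = (kQ g₁).prod ⊤ := by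
  ext x
  simp [kQ, Submodule.mem_prod]

lemma kF0_fst :
    kF0 (g₁ ∘ₗ LinearMap.fst A E₁ T) = (kF0 g₁).prod (vIdeal g₁ • (⊤ : Submodule A T)) := by
  apply le_antisymm
  · refine Submodule.span_le.mpr ?_
    rintro _ ⟨u, v, rfl⟩
    rw [SetLike.mem_coe, Submodule.mem_prod]
    refine ⟨Submodule.subset_span ⟨u.1, v.1, rfl⟩, ?_⟩
    change g₁ u.1 • v.2 - g₁ v.1 • u.2 ∈ _
    exact sub_mem (Submodule.smul_mem_smul ⟨u.1, rfl⟩ trivial)
      (Submodule.smul_mem_smul ⟨v.1, rfl⟩ trivial)
  · have h1 : ∀ a ∈ kF0 g₁, ((a, 0) : E₁ × T) ∈ kF0 (g₁ ∘ₗ LinearMap.fst A E₁ T) := by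
      intro a ha'
      induction ha' using Submodule.span_induction with
      | mem y hy =>
        obtain ⟨u, v, rfl⟩ := hy
        refine Submodule.subset_span ⟨(u, 0), (v, 0), ?_⟩
        simp
      | zero => exact zero_mem _
      | add x y _ _ hx hy =>
        have : ((x + y, 0) : E₁ × T) = (x, 0) + (y, 0) := by simp
        rw [this]; exact add_mem hx hy
      | smul r x _ hx =>
        have : ((r • x, 0) : E₁ × T) = r • (x, 0) := by simp
        rw [this]; exact Submodule.smul_mem _ _ hx
    have h2 : ∀ b ∈ vIdeal g₁ • (⊤ : Submodule A T),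
        ((0, b) : E₁ × T) ∈ kF0 (g₁ ∘ₗ LinearMap.fst A E₁ T) := by
      intro b hb'
      refine Submodule.smul_induction_on hb' ?_ ?_
      · intro r hr t _
        obtain ⟨u, rfl⟩ := hr
        refine Submodule.subset_span ⟨(u, 0), (0, t), ?_⟩
        simp
      · intro x y hx hy
        have : ((0, x + y) : E₁ × T) = (0, x) + (0, y) := by simp
        rw [this]; exact add_mem hx hy
    rintro ⟨a, b⟩ ⟨ha, hb⟩
    have : ((a, b) : E₁ × T) = (a, 0) + (0, b) := by simp
    rw [this]
    exact add_mem (h1 a ha) (h2 b hb)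

/-- the comparison map -/
def prodMap : ↥(kQ (g₁ ∘ₗ LinearMap.fst A E₁ T)) →ₗ[A]
    kH1 g₁ × (T ⧸ (vIdeal g₁ • (⊤ : Submodule A T))) where
  toFun x := (Submodule.Quotient.mk ⟨x.1.1, (x.2 : (g₁ ∘ₗ LinearMap.fst A E₁ T) x.1 = 0)⟩,
    Submodule.Quotient.mk x.1.2)
  map_add' x y := rfl
  map_smul' r x := rfl

lemma prodMap_surjective : Function.Surjective (prodMap g₁ T) := by
  rintro ⟨a, b⟩
  obtain ⟨a, rfl⟩ := Submodule.Quotient.mk_surjective _ a
  obtain ⟨b, rfl⟩ := Submodule.Quotient.mk_surjective _ b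
  refine ⟨⟨(a.1, b), ?_⟩, rfl⟩
  rw [kQ_fst, Submodule.mem_prod]
  exact ⟨a.2, trivial⟩

lemma ker_prodMap : LinearMap.ker (prodMap g₁ T) =
    (kF0 (g₁ ∘ₗ LinearMap.fst A E₁ T)).comap (kQ (g₁ ∘ₗ LinearMap.fst A E₁ T)).subtype := by
  ext x
  rw [LinearMap.mem_ker, Submodule.mem_comap, kF0_fst, Submodule.mem_prod]
  change (Submodule.Quotient.mk _, Submodule.Quotient.mk _) = (0, 0) ↔ _
  rw [Prod.mk.injEq, Submodule.Quotient.mk_eq_zero, Submodule.Quotient.mk_eq_zero]
  rfl

theorem length_kH1_fst :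
    Module.length A (kH1 (g₁ ∘ₗ LinearMap.fst A E₁ T)) =
      Module.length A (kH1 g₁) +
        Module.length A (T ⧸ (vIdeal g₁ • (⊤ : Submodule A T))) := by
  rw [← Module.length_prod]
  exact ((Submodule.quotEquivOfEq _ _ (ker_prodMap g₁ T).symm) ≪≫ₗ
    (prodMap g₁ T).quotKerEquivOfSurjective (prodMap_surjective g₁ T)).length_eq

end Prod

section Families

variable {A : Type u} [CommRing A]

/-- the linear form attached to a family -/
abbrev fj {σ : Type v} (rel : σ → A) : (σ →₀ A) →ₗ[A] A := Finsupp.linearCombination A rel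

/-- `H₁` of the Koszul complex of a family -/
abbrev fH1 {σ : Type v} (rel : σ → A) : Type (max v u) := kH1 (fj rel)

lemma vIdeal_fj {σ : Type v} (rel : σ → A) : vIdeal (fj rel) = Ideal.span (Set.range rel) :=
  Finsupp.range_linearCombination (R := A) (v := rel)

lemma fj_reindex {σ σ' : Type v} (e : σ' ≃ σ) (rel : σ → A) :
    fj (rel ∘ e) = fj rel ∘ₗ (Finsupp.domLCongr e : (σ' →₀ A) ≃ₗ[A] (σ →₀ A)).toLinearMap := by
  apply Finsupp.lhom_ext
  intro s r
  simp [Finsupp.domLCongr_single, Finsupp.linearCombination_single]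

theorem length_fH1_reindex {σ σ' : Type v} (e : σ' ≃ σ) (rel : σ → A) :
    Module.length A (fH1 (rel ∘ e)) = Module.length A (fH1 rel) := by
  change Module.length A (kH1 (fj (rel ∘ e))) = _
  rw [fj_reindex]
  exact length_kH1_comp _ _

/-- shear automorphism of a product -/
def shear {E₁ : Type v} {T : Type w} [AddCommGroup E₁] [Module A E₁] [AddCommGroup T] [Module A T]
    (C : T →ₗ[A] E₁) : (E₁ × T) ≃ₗ[A] (E₁ × T) where
  toFun p := (p.1 + C p.2, p.2)
  invFun p := (p.1 - C p.2, p.2)
  map_add' p q := by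
    ext
    · simp only [Prod.fst_add, Prod.snd_add, map_add]; abel
    · rfl
  map_smul' r p := by
    ext
    · simp
    · rfl
  left_inv p := by ext <;> simp
  right_inv p := by ext <;> simp

lemma fj_sumElim {σ τ : Type v} (y : σ → A) (z : τ → A) (c : τ → (σ →₀ A))
    (hc : ∀ t, fj y (c t) = z t) :
    fj (Sum.elim y z) = (fj y ∘ₗ LinearMap.fst A (σ →₀ A) (τ →₀ A)) ∘ₗ
      ((Finsupp.sumFinsuppLEquivProdFinsupp A).trans
        (shear (Finsupp.linearCombination A c))).toLinearMap := by
  apply Finsupp.lhom_ext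
  intro s r
  have h1 : ∀ f : σ ⊕ τ →₀ A,
      (((Finsupp.sumFinsuppLEquivProdFinsupp A).trans
        (shear (Finsupp.linearCombination A c))) f).1 =
      (Finsupp.sumFinsuppLEquivProdFinsupp A f).1 +
        Finsupp.linearCombination A c (Finsupp.sumFinsuppLEquivProdFinsupp A f).2 := fun f => rfl
  rw [LinearMap.comp_apply, LinearMap.comp_apply, LinearMap.fst_apply, LinearEquiv.coe_coe, h1,
    map_add]
  cases s with
  | inl s =>
    have e1 : (Finsupp.sumFinsuppLEquivProdFinsupp A (Finsupp.single (Sum.inl s : σ ⊕ τ) r)).1 =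
        Finsupp.single s r := by
      ext x
      rw [Finsupp.fst_sumFinsuppLEquivProdFinsupp]
      classical
      simp [Finsupp.single_apply]
    have e2 : (Finsupp.sumFinsuppLEquivProdFinsupp A (Finsupp.single (Sum.inl s : σ ⊕ τ) r)).2 =
        0 := by
      ext x
      rw [Finsupp.snd_sumFinsuppLEquivProdFinsupp]
      classical
      simp [Finsupp.single_apply]
    rw [e1, e2]
    simp [Finsupp.linearCombination_single]
  | inr t =>
    have e1 : (Finsupp.sumFinsuppLEquivProdFinsupp A (Finsupp.single (Sum.inr t : σ ⊕ τ) r)).1 =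
        0 := by
      ext x
      rw [Finsupp.fst_sumFinsuppLEquivProdFinsupp]
      classical
      simp [Finsupp.single_apply]
    have e2 : (Finsupp.sumFinsuppLEquivProdFinsupp A (Finsupp.single (Sum.inr t : σ ⊕ τ) r)).2 =
        Finsupp.single t r := by
      ext x
      rw [Finsupp.snd_sumFinsuppLEquivProdFinsupp]
      classical
      simp [Finsupp.single_apply]
    rw [e1, e2]
    simp only [map_zero, zero_add, Finsupp.linearCombination_single, map_smul, Sum.elim_inr,
      smul_eq_mul]
    rw [hc t]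

/-- `(τ →₀ A)/J(τ →₀ A) ≅ τ →₀ A/J` -/
theorem length_finsupp_quot (τ : Type v) (J : Ideal A) :
    Module.length A ((τ →₀ A) ⧸ (J • (⊤ : Submodule A (τ →₀ A)))) =
      ENat.card τ * Module.length A (A ⧸ J) := by
  classical
  rw [← Module.length_finsupp]
  let φ : (τ →₀ A) →ₗ[A] (τ →₀ A ⧸ J) := Finsupp.mapRange.linearMap (Submodule.mkQ J)
  have hφ : Function.Surjective φ :=
    Finsupp.mapRange_surjective _ (map_zero _) (Submodule.mkQ_surjective J)
  have hk : LinearMap.ker φ = J • (⊤ : Submodule A (τ →₀ A)) := by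
    apply le_antisymm
    · intro u hu
      have hu' : ∀ t, u t ∈ J := by
        intro t
        have := DFunLike.congr_fun (LinearMap.mem_ker.mp hu) t
        simpa [φ, Ideal.Quotient.eq_zero_iff_mem] using this
      rw [← Finsupp.sum_single u, Finsupp.sum]
      refine Submodule.sum_mem _ fun t _ => ?_
      rw [← Finsupp.smul_single_one]
      exact Submodule.smul_mem_smul (hu' t) trivial
    · refine Submodule.smul_le.mpr ?_
      intro r hr u _
      rw [LinearMap.mem_ker]
      ext t
      simp only [φ, map_smul, Finsupp.smul_apply, Finsupp.mapRange.linearMap_apply,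
        Finsupp.mapRange_apply, Finsupp.zero_apply]
      rw [Submodule.mkQ_apply, ← Submodule.Quotient.mk_smul, Submodule.Quotient.mk_eq_zero]
      exact J.mul_mem_right _ hr
  exact ((Submodule.quotEquivOfEq _ _ hk.symm) ≪≫ₗ φ.quotKerEquivOfSurjective hφ).length_eq

theorem length_fH1_sumElim {σ τ : Type v} (y : σ → A) (z : τ → A)
    (hz : ∀ t, z t ∈ Ideal.span (Set.range y)) :
    Module.length A (fH1 (Sum.elim y z)) =
      Module.length A (fH1 y) + ENat.card τ * Module.length A (A ⧸ Ideal.span (Set.range y)) := by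
  have hz' : ∀ t, ∃ c : σ →₀ A, fj y c = z t := by
    intro t
    have := hz t
    rw [← vIdeal_fj] at this
    exact this
  choose c hc using hz'
  change Module.length A (kH1 (fj (Sum.elim y z))) = _
  rw [fj_sumElim y z c hc, length_kH1_comp, length_kH1_fst, vIdeal_fj, length_finsupp_quot]

/-- the basic invariance: `length H₁(y) - |y| · length (A/J)` only depends on `J = (y)` -/
theorem length_fH1_add {σ τ : Type v} (y : σ → A) (y' : τ → A)
    (h : Ideal.span (Set.range y) = Ideal.span (Set.range y')) :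
    Module.length A (fH1 y) + ENat.card τ * Module.length A (A ⧸ Ideal.span (Set.range y)) =
      Module.length A (fH1 y') +
        ENat.card σ * Module.length A (A ⧸ Ideal.span (Set.range y)) := by
  have h1 := length_fH1_sumElim y y' (fun t => h ▸ Ideal.subset_span ⟨t, rfl⟩)
  have h2 := length_fH1_sumElim y' y (fun s => h ▸ Ideal.subset_span ⟨s, rfl⟩)
  have h3 : Sum.elim y' y = Sum.elim y y' ∘ (Equiv.sumComm τ σ) := by
    funext x
    cases x <;> rfl
  rw [h3, length_fH1_reindex, h1, ← h] at h2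
  exact h2

end Families

end Groth.Agent.Helper3.CI1
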