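import Mathlib
import Groth.Agent.Lib.Helper3.CI1

/-!
# `H₁(x̄; B/I) ≅ I/𝔫I` when `x` generates the maximal ideal `𝔫` of `B` and is `H₁`-regular (helper3)
-/

set_option autoImplicit false
set_option linter.style.haveILetI false

noncomputable section

namespace Groth.Agent.Helper3.CI2

open Groth.Agent.Helper3.CI1 IsLocalRing

universe u v

variable {B A : Type u} [CommRing B] [CommRing A] [Algebra B A] {σ : Type v} (x : σ → B)

/-- coordinatewise reduction -/
def redMap : (σ →₀ B) →ₗ[B] (σ →₀ A) := Finsupp.mapRange.linearMap (Algebra.linearMap B A)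

lemma redMap_apply (u : σ →₀ B) (s : σ) : redMap (A := A) u s = algebraMap B A (u s) := rfl

lemma redMap_surjective (hs : Function.Surjective (algebraMap B A)) :
    Function.Surjective (redMap (B := B) (A := A) (σ := σ)) :=
  Finsupp.mapRange_surjective _ (map_zero _) hs

lemma fj_redMap (u : σ →₀ B) :
    fj (fun s => algebraMap B A (x s)) (redMap u) = algebraMap B A (fj x u) := by
  induction u using Finsupp.induction_linear with
  | zero => simp
  | add f g hf hg => rw [map_add, map_add, map_add, map_add, hf, hg]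
  | single s r =>
    have : redMap (A := A) (Finsupp.single s r) = Finsupp.single s (algebraMap B A r) := by
      ext t
      classical
      rw [redMap_apply, Finsupp.single_apply, Finsupp.single_apply]
      split_ifs <;> simp
    rw [this]
    simp [Finsupp.linearCombination_single]

lemma mem_ker_redMap (b : σ →₀ B) :
    redMap (A := A) b = 0 ↔ ∀ s, b s ∈ RingHom.ker (algebraMap B A) := by
  constructor
  · intro h s
    have := DFunLike.congr_fun h s
    rwa [redMap_apply] at this
  · intro h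
    ext s
    rw [redMap_apply]
    exact h s

lemma redMap_mem_kF0 (w : σ →₀ B) (hw : w ∈ kF0 (fj x)) :
    redMap w ∈ kF0 (fj (fun s => algebraMap B A (x s))) := by
  induction hw using Submodule.span_induction with
  | mem y hy =>
    obtain ⟨a, c, rfl⟩ := hy
    refine Submodule.subset_span ⟨redMap a, redMap c, ?_⟩
    rw [map_sub, map_smul, map_smul, fj_redMap, fj_redMap, algebraMap_smul, algebraMap_smul]
  | zero => rw [map_zero]; exact zero_mem _
  | add a b _ _ ha hb => rw [map_add]; exact add_mem ha hb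
  | smul r a _ ha =>
    rw [map_smul, ← algebraMap_smul A r]
    exact Submodule.smul_mem _ _ ha

lemma exists_redMap_eq_of_mem_kF0 (hs : Function.Surjective (algebraMap B A))
    (v : σ →₀ A) (hv : v ∈ kF0 (fj (fun s => algebraMap B A (x s)))) :
    ∃ w ∈ kF0 (fj x), redMap w = v := by
  induction hv using Submodule.span_induction with
  | mem y hy =>
    obtain ⟨a, c, rfl⟩ := hy
    obtain ⟨a', rfl⟩ := redMap_surjective hs a
    obtain ⟨c', rfl⟩ := redMap_surjective hs c
    refine ⟨fj x a' • c' - fj x c' • a', Submodule.subset_span ⟨a', c', rfl⟩, ?_⟩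
    rw [map_sub, map_smul, map_smul, fj_redMap, fj_redMap, algebraMap_smul, algebraMap_smul]
  | zero => exact ⟨0, zero_mem _, map_zero _⟩
  | add a b _ _ ha hb =>
    obtain ⟨wa, hwa, rfl⟩ := ha
    obtain ⟨wb, hwb, rfl⟩ := hb
    exact ⟨wa + wb, add_mem hwa hwb, map_add _ _ _⟩
  | smul r a _ ha =>
    obtain ⟨wa, hwa, rfl⟩ := ha
    obtain ⟨r', rfl⟩ := hs r
    refine ⟨r' • wa, Submodule.smul_mem _ _ hwa, ?_⟩
    rw [map_smul, algebraMap_smul]

variable [IsLocalRing B]

lemma mul_le_map_ker (hx : Ideal.span (Set.range x) = maximalIdeal B) :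
    maximalIdeal B * RingHom.ker (algebraMap B A) ≤
      Submodule.map (fj x) (LinearMap.ker (redMap (B := B) (A := A) (σ := σ))) := by
  rw [Ideal.mul_le]
  intro r hr i hi
  rw [← hx, ← vIdeal_fj] at hr
  obtain ⟨w, rfl⟩ := hr
  refine ⟨i • w, LinearMap.mem_ker.mpr ?_, ?_⟩
  · rw [map_smul, ← algebraMap_smul A i, RingHom.mem_ker.mp hi, zero_smul]
  · rw [map_smul, smul_eq_mul, mul_comm]

lemma fj_mem_mul_of_ker (hx : Ideal.span (Set.range x) = maximalIdeal B) (b : σ →₀ B)
    (hb : redMap (A := A) b = 0) :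
    fj x b ∈ maximalIdeal B * RingHom.ker (algebraMap B A) := by
  rw [mem_ker_redMap] at hb
  rw [Finsupp.linearCombination_apply, Finsupp.sum]
  refine Ideal.sum_mem _ fun s _ => ?_
  rw [smul_eq_mul, mul_comm (b s)]
  have hxs : x s ∈ maximalIdeal B := by
    rw [← hx]
    exact Ideal.subset_span ⟨s, rfl⟩
  exact Ideal.mul_mem_mul hxs (hb s)

/-- the key equivalence of kernels -/
lemma fj_mem_mul_iff (hs : Function.Surjective (algebraMap B A))
    (hx : Ideal.span (Set.range x) = maximalIdeal B)
    (hreg : kQ (fj x) ≤ kF0 (fj x)) (u : σ →₀ B) :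
    fj x u ∈ maximalIdeal B * RingHom.ker (algebraMap B A) ↔
      redMap u ∈ kF0 (fj (fun s => algebraMap B A (x s))) := by
  constructor
  · intro h
    obtain ⟨b, hb, hbu⟩ := mul_le_map_ker (A := A) x hx h
    have h1 : u - b ∈ kQ (fj x) := by
      change fj x (u - b) = 0
      rw [map_sub, hbu, sub_self]
    have h2 : redMap (A := A) u = redMap (u - b) := by
      rw [map_sub, LinearMap.mem_ker.mp hb, sub_zero]
    rw [h2]
    exact redMap_mem_kF0 x _ (hreg h1)
  · intro h
    obtain ⟨w, hw, hwu⟩ := exists_redMap_eq_of_mem_kF0 x hs _ h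
    have h1 : fj x w = 0 := kF0_le_kQ _ hw
    have h2 : fj x u = fj x (u - w) := by rw [map_sub, h1, sub_zero]
    rw [h2]
    exact fj_mem_mul_of_ker x hx _ (by rw [map_sub, hwu, sub_self])

section Iso

variable (hs : Function.Surjective (algebraMap B A))
  (hx : Ideal.span (Set.range x) = maximalIdeal B)

/-- lifted cycles -/
def Zt : Submodule B (σ →₀ B) := Submodule.comap (fj x) (RingHom.ker (algebraMap B A))

/-- `Z̃ → I/𝔫I` -/
def Φ : ↥(Zt (A := A) x) →ₗ[B] (↥(RingHom.ker (algebraMap B A)) ⧸
    (maximalIdeal B • (⊤ : Submodule B ↥(RingHom.ker (algebraMap B A))))) :=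
  (Submodule.mkQ _) ∘ₗ ((fj x).restrict (p := Zt (A := A) x)
    (q := RingHom.ker (algebraMap B A)) (fun _ hu => hu))

/-- `Z̃ → H₁` -/
def Ψ : ↥(Zt (A := A) x) →ₗ[B] fH1 (fun s => algebraMap B A (x s)) :=
  ((Submodule.mkQ _).restrictScalars B) ∘ₗ
    ((redMap (A := A)).restrict (p := Zt (A := A) x)
      (q := (kQ (fj (fun s => algebraMap B A (x s)))).restrictScalars B) (fun u hu => by
        change fj (fun s => algebraMap B A (x s)) (redMap u) = 0
        rw [fj_redMap]
        exact hu))

include hs in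
lemma Ψ_surjective : Function.Surjective (Ψ (A := A) x) := by
  intro q
  obtain ⟨q, rfl⟩ := Submodule.Quotient.mk_surjective _ q
  obtain ⟨u, hu⟩ := redMap_surjective hs q.1
  refine ⟨⟨u, ?_⟩, ?_⟩
  · change algebraMap B A (fj x u) = 0
    rw [← fj_redMap, hu]
    exact q.2
  · change Submodule.Quotient.mk _ = Submodule.Quotient.mk _
    congr 1
    exact Subtype.ext hu

include hx in
lemma Φ_surjective [Nontrivial A] : Function.Surjective (Φ (A := A) x) := by
  intro f
  obtain ⟨f, rfl⟩ := Submodule.Quotient.mk_surjective _ f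
  have hf : (f : B) ∈ maximalIdeal B :=
    le_maximalIdeal (RingHom.ker_ne_top (algebraMap B A)) f.2
  rw [← hx, ← vIdeal_fj] at hf
  obtain ⟨u, hu⟩ := hf
  refine ⟨⟨u, ?_⟩, ?_⟩
  · change fj x u ∈ RingHom.ker (algebraMap B A)
    rw [hu]
    exact f.2
  · change Submodule.Quotient.mk _ = Submodule.Quotient.mk _
    congr 1
    exact Subtype.ext hu

include hs hx in
lemma ker_Φ_eq_ker_Ψ (hreg : kQ (fj x) ≤ kF0 (fj x)) :
    LinearMap.ker (Φ (A := A) x) = LinearMap.ker (Ψ (A := A) x) := by
  ext u
  rw [LinearMap.mem_ker, LinearMap.mem_ker]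
  have h1 : Φ (A := A) x u = 0 ↔
      fj x u ∈ maximalIdeal B * RingHom.ker (algebraMap B A) := by
    change Submodule.Quotient.mk _ = 0 ↔ _
    rw [Submodule.Quotient.mk_eq_zero, Submodule.mem_smul_top_iff]
    rfl
  have h2 : Ψ (A := A) x u = 0 ↔
      redMap u.1 ∈ kF0 (fj (fun s => algebraMap B A (x s))) := by
    change Submodule.Quotient.mk _ = 0 ↔ _
    rw [Submodule.Quotient.mk_eq_zero]
    rfl
  rw [h1, h2, fj_mem_mul_iff x hs hx hreg]

include hs hx in
/-- `H₁(x̄; A)` and `I/𝔫I` have the same length over `B` -/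
theorem length_fH1_eq_length [Nontrivial A] (hreg : kQ (fj x) ≤ kF0 (fj x)) :
    Module.length B (fH1 (fun s => algebraMap B A (x s))) =
      Module.length B (↥(RingHom.ker (algebraMap B A)) ⧸
        (maximalIdeal B • (⊤ : Submodule B ↥(RingHom.ker (algebraMap B A))))) := by
  have h1 := (LinearMap.quotKerEquivOfSurjective (R := B) (M := ↥(Zt (A := A) x))
    (M₂ := fH1 (fun s => algebraMap B A (x s))) (Ψ (A := A) x)
    (Ψ_surjective (A := A) x hs)).length_eq
  have h3 := (LinearMap.quotKerEquivOfSurjective (R := B) (M := ↥(Zt (A := A) x))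
    (M₂ := (↥(RingHom.ker (algebraMap B A)) ⧸
        (maximalIdeal B • (⊤ : Submodule B ↥(RingHom.ker (algebraMap B A))))))
    (Φ (A := A) x) (Φ_surjective (A := A) x hx)).length_eq
  rw [← h1, ← h3, ker_Φ_eq_ker_Ψ (A := A) x hs hx hreg]

end Iso

/-- `length_A H₁(x̄; A) = μ(I)` -/
theorem length_fH1_eq_spanFinrank [IsNoetherianRing B] [Nontrivial A]
    (hs : Function.Surjective (algebraMap B A))
    (hx : Ideal.span (Set.range x) = maximalIdeal B)
    (hreg : kQ (fj x) ≤ kF0 (fj x)) :
    Module.length A (fH1 (fun s => algebraMap B A (x s))) =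
      ((RingHom.ker (algebraMap B A)).spanFinrank : ℕ∞) := by
  have h0 : Module.length B (fH1 (fun s => algebraMap B A (x s))) =
      Module.length A (fH1 (fun s => algebraMap B A (x s))) :=
    Module.length_eq_of_surjective hs
  rw [← h0, length_fH1_eq_length x hs hx hreg]
  have hfg : (RingHom.ker (algebraMap B A)).FG := IsNoetherian.noetherian _
  rw [IsLocalRing.spanFinrank_eq_finrank_quotient _ hfg]
  letI : Field (B ⧸ maximalIdeal B) := Ideal.Quotient.field (maximalIdeal B)
  have h1 : Module.length B (↥(RingHom.ker (algebraMap B A)) ⧸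
      (maximalIdeal B • (⊤ : Submodule B ↥(RingHom.ker (algebraMap B A))))) =
      Module.length (B ⧸ maximalIdeal B) (↥(RingHom.ker (algebraMap B A)) ⧸
      (maximalIdeal B • (⊤ : Submodule B ↥(RingHom.ker (algebraMap B A))))) :=
    Module.length_eq_of_surjective Ideal.Quotient.mk_surjective
  rw [h1]
  exact Module.length_eq_finrank _ _

end Groth.Agent.Helper3.CI2
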