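import Mathlib
import Groth.Agent.Lib.Helper3.CI2
import Groth.Agent.Lib.Lead.RLR2
import Groth.Agent.Lib.Helper18.CotT.Regular

/-!
# `dim B - μ(ker (B → A))` is independent of the regular presentation (helper3)
-/

set_option autoImplicit false
set_option linter.style.haveILetI false

noncomputable section

namespace Groth.Agent.Helper3.CI3

open Groth.Agent.Helper3.CI1 Groth.Agent.Helper3.CI2 IsLocalRing

universe u

lemma exists_fin_gens {R M : Type*} [CommRing R] [AddCommGroup M] [Module R M]
    (p : Submodule R M) (h : p.FG) {n : ℕ} (hn : p.spanFinrank = n) :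
    ∃ x : Fin n → M, Submodule.span R (Set.range x) = p := by
  obtain ⟨s, hs, hspan⟩ := Submodule.FG.exists_span_finset_card_eq_spanFinrank h
  rw [hn] at hs
  let e := (Finset.equivFinOfCardEq hs).symm
  refine ⟨fun i => (e i : M), ?_⟩
  rw [← hspan]
  congr 1
  ext m
  constructor
  · rintro ⟨i, rfl⟩
    exact (e i).2
  · intro hm
    exact ⟨e.symm ⟨m, hm⟩, by simp⟩

/-- a regular system of parameters -/
lemma exists_rsp (B : Type u) [CommRing B] [IsRegularLocalRing B] {d : ℕ}
    (hd : ringKrullDim B = d) :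
    ∃ x : Fin d → B, Ideal.span (Set.range x) = maximalIdeal B ∧
      kQ (fj x) ≤ kF0 (fj x) := by
  have h1 := Groth.Agent.Lead.RLR.spanFinrank_maximalIdeal_eq_of_dim hd
  have hfg : (maximalIdeal B).FG := IsNoetherian.noetherian _
  obtain ⟨x, hx⟩ := exists_fin_gens (maximalIdeal B) hfg h1
  refine ⟨x, hx, ?_⟩
  have hreg := Groth.Agent.Lead.RLR.isRegular_ofFn hd x hx
  exact Groth.Agent.Helper18.GenT.gQ_le_gF0_of_isWeaklyRegular x hreg.toIsWeaklyRegular

/-- the core invariance, in `ℕ∞` -/
theorem core (A : Type u) [CommRing A] [IsLocalRing A] (B B' : Type u)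
    [CommRing B] [CommRing B'] [IsRegularLocalRing B] [IsRegularLocalRing B']
    (f : B →+* A) (hf : Function.Surjective f) (f' : B' →+* A) (hf' : Function.Surjective f')
    (d d' : ℕ) (hd : ringKrullDim B = d) (hd' : ringKrullDim B' = d') :
    ((RingHom.ker f).spanFinrank : ℕ∞) + d' = ((RingHom.ker f').spanFinrank : ℕ∞) + d := by
  obtain ⟨x, hx, hreg⟩ := exists_rsp B hd
  obtain ⟨x', hx', hreg'⟩ := exists_rsp B' hd'
  letI := f.toAlgebra
  letI alg' := f'.toAlgebra
  have e1 := length_fH1_eq_spanFinrank (A := A) x hf hx hreg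
  have e2 := length_fH1_eq_spanFinrank (A := A) x' hf' hx' hreg'
  have hm : Ideal.span (Set.range (fun s => algebraMap B A (x s))) = maximalIdeal A := by
    rw [← IsLocalRing.map_maximalIdeal_of_surjective (algebraMap B A) hf, ← hx, Ideal.map_span,
      ← Set.range_comp]
    rfl
  have hm' : Ideal.span (Set.range (fun s => algebraMap B' A (x' s))) = maximalIdeal A := by
    rw [← IsLocalRing.map_maximalIdeal_of_surjective (algebraMap B' A) hf', ← hx', Ideal.map_span,
      ← Set.range_comp]
    rfl
  have key := length_fH1_add (fun s => algebraMap B A (x s)) (fun s => algebraMap B' A (x' s))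
    (hm.trans hm'.symm)
  rw [e1, e2, hm] at key
  have hl : Module.length A (A ⧸ maximalIdeal A) = 1 :=
    Module.length_eq_one_iff.mpr
      (isSimpleModule_iff_quot_maximal.mpr ⟨_, inferInstance, ⟨LinearEquiv.refl _ _⟩⟩)
  rw [hl, mul_one, mul_one] at key
  simp only [ENat.card_eq_coe_fintype_card, Fintype.card_fin] at key
  exact key

end Groth.Agent.Helper3.CI3
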