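import Mathlib
import Groth.Agent.Lib.Helper18.CotT.Gen
import Groth.Prelude.Def_CAlgX

/-!
# `T² = 0` for a quotient of a Noetherian local ring forces the relations among minimal generators
to be trivial (helper3)
-/

set_option autoImplicit false

open TensorProduct

noncomputable section

namespace Groth.Agent.Helper3.CT1

open Groth.Agent.Helper18.GenT IsLocalRing

universe u

section Min

variable {A : Type u} [CommRing A] [IsLocalRing A] [IsNoetherianRing A]

lemma span_succAbove_eq {n : ℕ} (a c : Fin (n + 1) → A) (hc : ∑ i, c i * a i = 0)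
    (j : Fin (n + 1)) (hu : IsUnit (c j)) :
    Ideal.span (Set.range (a ∘ j.succAbove)) = Ideal.span (Set.range a) := by
  obtain ⟨u, hu⟩ := hu
  refine le_antisymm ?_ ?_
  · apply Ideal.span_mono
    rintro _ ⟨i, rfl⟩
    exact ⟨_, rfl⟩
  · rw [Ideal.span_le]
    rintro _ ⟨i, rfl⟩
    have haj : a j ∈ Ideal.span (Set.range (a ∘ j.succAbove)) := by
      rw [Fin.sum_univ_succAbove _ j] at hc
      have h1 : a j = -(↑u⁻¹ : A) * ∑ i, c (j.succAbove i) * a (j.succAbove i) := by
        have h2 : c j * a j = -∑ i, c (j.succAbove i) * a (j.succAbove i) := by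
          linear_combination hc
        rw [← hu] at h2
        calc a j = (↑u⁻¹ : A) * ((u : A) * a j) := by rw [← mul_assoc, Units.inv_mul, one_mul]
          _ = _ := by rw [h2]; ring
      rw [h1]
      refine Ideal.mul_mem_left _ _ (Ideal.sum_mem _ fun i _ => Ideal.mul_mem_left _ _ ?_)
      exact Ideal.subset_span ⟨i, rfl⟩
    rcases Fin.eq_self_or_eq_succAbove j i with h | ⟨i', h⟩
    · rw [h]; exact haj
    · rw [h]; exact Ideal.subset_span ⟨i', rfl⟩

/-- minimal generating families: all relations have coefficients in the maximal ideal -/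
lemma exists_minimal_gens (I : Ideal A) :
    ∃ (r : ℕ) (a : Fin r → A), Ideal.span (Set.range a) = I ∧
      ∀ c : Fin r → A, ∑ i, c i * a i = 0 → ∀ i, c i ∈ maximalIdeal A := by
  classical
  have hex : ∃ n : ℕ, ∃ a : Fin n → A, Ideal.span (Set.range a) = I := by
    have hfg : I.FG := IsNoetherian.noetherian I
    exact Submodule.fg_iff_exists_fin_generating_family.mp hfg
  have key : ∀ n, n = Nat.find hex → ∀ a : Fin n → A, Ideal.span (Set.range a) = I →
      ∀ c : Fin n → A, ∑ i, c i * a i = 0 → ∀ i, c i ∈ maximalIdeal A := by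
    intro n hn a ha c hc j
    by_contra hj
    have hu : IsUnit (c j) := by
      by_contra hnu
      exact hj ((mem_maximalIdeal _).mpr hnu)
    cases n with
    | zero => exact j.elim0
    | succ n' =>
      exact Nat.find_min hex (m := n') (by omega)
        ⟨a ∘ j.succAbove, by rw [span_succAbove_eq a c hc j hu]; exact ha⟩
  obtain ⟨a, ha⟩ := Nat.find_spec hex
  exact ⟨_, a, ha, key _ rfl a ha⟩

end Min

section H1

variable {A : Type u} [CommRing A] {r : ℕ} (a : Fin r → A)

lemma isH1Regular_of_le (h : gQ a ≤ gF0 a) : CAlgX.IsH1Regular a := by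
  classical
  intro c hc
  set q : Fin r →₀ A := (Finsupp.linearEquivFunOnFinite A A (Fin r)).symm c with hq
  have hqQ : q ∈ gQ a := by
    show gj a q = 0
    rw [← hc]
    simp [gj, Finsupp.linearCombination_apply, Finsupp.sum_fintype, hq]
  set T : Submodule A (Fin r → A) :=
    Submodule.span A {v : Fin r → A | ∃ i j : Fin r, v = Pi.single i (a j) - Pi.single j (a i)}
    with hT
  have key : gF0 a ≤ T.comap (Finsupp.linearEquivFunOnFinite A A (Fin r)).toLinearMap := by
    refine Submodule.span_le.mpr ?_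
    rintro _ ⟨x, y, rfl⟩
    show (Finsupp.linearEquivFunOnFinite A A (Fin r)) (gj a x • y - gj a y • x) ∈ T
    induction x using Finsupp.induction_linear with
    | zero => simp
    | add x x' hx hx' =>
      have : gj a (x + x') • y - gj a y • (x + x') =
          (gj a x • y - gj a y • x) + (gj a x' • y - gj a y • x') := by
        rw [map_add, add_smul, smul_add]; abel
      rw [this, map_add]
      exact T.add_mem hx hx'
    | single i α =>
      induction y using Finsupp.induction_linear with
      | zero => simp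
      | add y y' hy hy' =>
        have : gj a (Finsupp.single i α) • (y + y') - gj a (y + y') • Finsupp.single i α =
            (gj a (Finsupp.single i α) • y - gj a y • Finsupp.single i α) +
            (gj a (Finsupp.single i α) • y' - gj a y' • Finsupp.single i α) := by
          rw [map_add, add_smul, smul_add]; abel
        rw [this, map_add]
        exact T.add_mem hy hy'
      | single j β =>
        rw [gj_single, gj_single, Finsupp.smul_single, Finsupp.smul_single, map_sub,
          Finsupp.linearEquivFunOnFinite_single, Finsupp.linearEquivFunOnFinite_single]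
        have : (Pi.single j ((α * a i) • β) - Pi.single i ((β * a j) • α) : Fin r → A) =
            (α * β) • (Pi.single j (a i) - Pi.single i (a j)) := by
          rw [smul_sub, ← Pi.single_smul, ← Pi.single_smul]
          simp only [smul_eq_mul]
          congr 2 <;> ring
        rw [this]
        exact T.smul_mem _ (Submodule.subset_span ⟨j, i, rfl⟩)
  have := key (h hqQ)
  simpa [hq] using this

end H1

section Nak

variable {A : Type u} [CommRing A] [IsLocalRing A] [IsNoetherianRing A] (I : Ideal A) {r : ℕ}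
  (a : Fin r → A) (hrel : ∀ s, algebraMap A (A ⧸ I) (a s) = 0)

include hrel in
theorem gQ_le_gF0_of_T2 (hI : I ≠ ⊤)
    (hmin : ∀ q ∈ gQ a, ∀ s, q s ∈ maximalIdeal A)
    (hT : Subsingleton (gT2 a hrel (gL2 (A ⧸ I) a))) : gQ a ≤ gF0 a := by
  classical
  haveI : Nontrivial (A ⧸ I) := Ideal.Quotient.nontrivial_iff.mpr hI
  haveI : IsLocalRing (A ⧸ I) :=
    IsLocalRing.of_surjective' (Ideal.Quotient.mk I) Ideal.Quotient.mk_surjective
  -- step 1: a retraction of `d₂`
  obtain ⟨ψ, hψ⟩ : ∃ ψ : gL1 (R := A) (A ⧸ I) (σ := Fin r) →ₗ[A ⧸ I] gL2 (A ⧸ I) a,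
      ψ ∘ₗ gd2 a hrel = LinearMap.id := by
    have h0 : (Submodule.Quotient.mk (LinearMap.id : gL2 (A ⧸ I) a →ₗ[A ⧸ I] gL2 (A ⧸ I) a) :
        gT2 a hrel (gL2 (A ⧸ I) a)) = 0 := Subsingleton.elim _ _
    rw [Submodule.Quotient.mk_eq_zero] at h0
    obtain ⟨ψ, hψ⟩ := h0
    exact ⟨ψ, hψ⟩
  -- residues of maximal-ideal elements
  have hmk : ∀ c ∈ maximalIdeal A, Ideal.Quotient.mk I c ∈ maximalIdeal (A ⧸ I) := by
    intro c hc
    rw [mem_maximalIdeal, mem_nonunits_iff]
    intro hu
    obtain ⟨d, hd⟩ := hu.exists_right_inv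
    obtain ⟨d', rfl⟩ := Ideal.Quotient.mk_surjective d
    rw [← map_mul, ← map_one (Ideal.Quotient.mk I), Ideal.Quotient.eq] at hd
    have hle : I ≤ maximalIdeal A := le_maximalIdeal hI
    have h1 : c * d' ∈ maximalIdeal A := Ideal.mul_mem_right _ _ hc
    have h2 : (1 : A) ∈ maximalIdeal A := by
      have := (maximalIdeal A).sub_mem h1 (hle hd)
      simpa using this
    exact (maximalIdeal.isMaximal A).ne_top ((Ideal.eq_top_iff_one _).mpr h2)
  -- step 2: `L₂ = 𝔪 L₂`
  have hL1 : ∀ q : gQ a, ((1 : A ⧸ I) ⊗ₜ[A] (q : Fin r →₀ A) : gL1 (R := A) (A ⧸ I) (σ := Fin r)) ∈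
      maximalIdeal (A ⧸ I) • (⊤ : Submodule (A ⧸ I) (gL1 (R := A) (A ⧸ I) (σ := Fin r))) := by
    intro q
    have hq : (q : Fin r →₀ A) = ∑ s, (q : Fin r →₀ A) s • Finsupp.single s (1 : A) := by
      conv_lhs => rw [← Finsupp.univ_sum_single (q : Fin r →₀ A)]
      refine Finset.sum_congr rfl fun s _ => ?_
      rw [Finsupp.smul_single, smul_eq_mul, mul_one]
    rw [hq, TensorProduct.tmul_sum]
    refine Submodule.sum_mem _ fun s _ => ?_
    have : ((1 : A ⧸ I) ⊗ₜ[A] ((q : Fin r →₀ A) s • Finsupp.single s (1 : A)) :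
        gL1 (R := A) (A ⧸ I) (σ := Fin r)) =
        Ideal.Quotient.mk I ((q : Fin r →₀ A) s) • ((1 : A ⧸ I) ⊗ₜ[A] Finsupp.single s (1 : A)) := by
      rw [TensorProduct.tmul_smul, TensorProduct.smul_tmul', TensorProduct.smul_tmul']
      congr 1
    rw [this]
    exact Submodule.smul_mem_smul (hmk _ (hmin q q.2 s)) Submodule.mem_top
  have hψmem : ∀ x ∈ maximalIdeal (A ⧸ I) •
      (⊤ : Submodule (A ⧸ I) (gL1 (R := A) (A ⧸ I) (σ := Fin r))),
      ψ x ∈ maximalIdeal (A ⧸ I) • (⊤ : Submodule (A ⧸ I) (gL2 (A ⧸ I) a)) := by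
    intro x hx
    refine Submodule.smul_induction_on hx (fun c hc y _ => ?_) (fun x y hx hy => ?_)
    · rw [map_smul]
      exact Submodule.smul_mem_smul hc Submodule.mem_top
    · rw [map_add]; exact add_mem hx hy
  have htop : (⊤ : Submodule (A ⧸ I) (gL2 (A ⧸ I) a)) ≤
      maximalIdeal (A ⧸ I) • (⊤ : Submodule (A ⧸ I) (gL2 (A ⧸ I) a)) := by
    rintro x -
    induction x using Submodule.Quotient.induction_on with
    | H t =>
      induction t using TensorProduct.induction_on with
      | zero => exact zero_mem _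
      | add x y hx hy =>
        rw [Submodule.Quotient.mk_add]
        exact add_mem hx hy
      | tmul b q =>
        have h1 : (Submodule.Quotient.mk (b ⊗ₜ[A] q) : gL2 (A ⧸ I) a) =
            b • Submodule.Quotient.mk ((1 : A ⧸ I) ⊗ₜ[A] q) := by
          rw [← Submodule.Quotient.mk_smul, TensorProduct.smul_tmul', smul_eq_mul, mul_one]
        rw [h1]
        refine Submodule.smul_mem _ _ ?_
        have h2 := LinearMap.congr_fun hψ (Submodule.Quotient.mk ((1 : A ⧸ I) ⊗ₜ[A] q))
        simp only [LinearMap.comp_apply, LinearMap.id_apply, gd2_mk_tmul] at h2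
        rw [← h2]
        exact hψmem _ (hL1 q)
  haveI : Module.Finite A (gQ a) := inferInstance
  have hfg : (⊤ : Submodule (A ⧸ I) (gL2 (A ⧸ I) a)).FG := Module.finite_def.mp inferInstance
  have hbot : (⊤ : Submodule (A ⧸ I) (gL2 (A ⧸ I) a)) = ⊥ :=
    Submodule.eq_bot_of_le_smul_of_le_jacobson_bot _ _ hfg htop
      (by rw [jacobson_eq_maximalIdeal ⊥ bot_ne_top])
  -- step 3: back to `Q`
  set ε := TensorProduct.quotTensorEquivQuotSMul (gQ a) I with hε
  have hrange : ∀ t ∈ LinearMap.range ((gF0Q a).subtype.baseChange (A ⧸ I)),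
      ε t ∈ (gF0Q a).map (I • (⊤ : Submodule A (gQ a))).mkQ := by
    rintro _ ⟨t', rfl⟩
    induction t' using TensorProduct.induction_on with
    | zero => simp
    | add x y hx hy => rw [map_add, map_add]; exact add_mem hx hy
    | tmul b f =>
      obtain ⟨b', rfl⟩ := Ideal.Quotient.mk_surjective b
      rw [LinearMap.baseChange_tmul, hε, TensorProduct.quotTensorEquivQuotSMul_mk_tmul]
      refine Submodule.smul_mem _ _ (Submodule.mem_map_of_mem f.2)
  have hstep : (⊤ : Submodule A (gQ a)) ≤ gF0Q a ⊔ I • (⊤ : Submodule A (gQ a)) := by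
    rintro q -
    have h0 : (Submodule.Quotient.mk ((1 : A ⧸ I) ⊗ₜ[A] q) : gL2 (A ⧸ I) a) = 0 := by
      have : (Submodule.Quotient.mk ((1 : A ⧸ I) ⊗ₜ[A] q) : gL2 (A ⧸ I) a) ∈
          (⊤ : Submodule (A ⧸ I) (gL2 (A ⧸ I) a)) := Submodule.mem_top
      rw [hbot] at this
      exact this
    rw [Submodule.Quotient.mk_eq_zero] at h0
    have h1 := hrange _ h0
    have h2 : ε ((1 : A ⧸ I) ⊗ₜ[A] q) = (I • (⊤ : Submodule A (gQ a))).mkQ q := by
      have := TensorProduct.quotTensorEquivQuotSMul_mk_tmul (M := gQ a) I 1 q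
      rw [map_one, one_smul] at this
      exact this
    rw [h2] at h1
    obtain ⟨f, hf, hfq⟩ := h1
    have h3 : q - f ∈ I • (⊤ : Submodule A (gQ a)) := by
      have h4 : (I • (⊤ : Submodule A (gQ a))).mkQ (q - f) = 0 := by
        exact (map_sub _ q f).trans (by rw [hfq, sub_self])
      exact (Submodule.Quotient.mk_eq_zero _).mp h4
    have : q = f + (q - f) := by abel
    rw [this]
    exact Submodule.add_mem_sup hf h3
  have hstep' : gQ a ≤ gF0 a ⊔ I • gQ a := by
    intro q hq
    obtain ⟨f, hf, x, hx, hfx⟩ := Submodule.mem_sup.mp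
      (hstep (Submodule.mem_top : (⟨q, hq⟩ : gQ a) ∈ ⊤))
    have hq' : q = (f : Fin r →₀ A) + (x : Fin r →₀ A) := by
      have := congrArg (fun z : gQ a => (z : Fin r →₀ A)) hfx
      exact this.symm
    rw [hq']
    refine Submodule.add_mem_sup hf ?_
    refine Submodule.smul_induction_on hx (fun c hc y _ => ?_) (fun x y hx hy => ?_)
    · exact Submodule.smul_mem_smul hc y.2
    · exact add_mem hx hy
  have hfgQ : (gQ a).FG := IsNoetherian.noetherian _
  have hJ : I ≤ (⊥ : Ideal A).jacobson := by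
    rw [jacobson_eq_maximalIdeal (⊥ : Ideal A) bot_ne_top]
    exact le_maximalIdeal hI
  exact Submodule.le_of_le_smul_of_le_jacobson_bot hfgQ hJ hstep'

end Nak

end Groth.Agent.Helper3.CT1
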