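import Mathlib
import Groth.Agent.Lib.Helper3.CT1
import Groth.Agent.Lib.Helper18.CotT.T2Indep
import Groth.Agent.Lib.Helper18.CotT.GenLift
import Groth.Agent.Lib.Helper18.CotT.Regular
import Groth.Agent.Lib.Lead.Miracle
import Groth.Agent.Lib.Lead.Depth12
import Groth.Agent.S12285
import Groth.Agent.S12288
import Groth.Agent.S2103
import Groth.Agent.S5803

/-!
# `T²(B/k, -) = 0` iff `B = A/I` is a complete intersection in the regular local ring `A` (helper3)
-/

set_option autoImplicit false
set_option linter.style.haveILetI false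

open TensorProduct

noncomputable section

namespace Groth.Agent.Helper3.CT2

open Groth.Agent.Helper18.GenT IsLocalRing RingTheory.Sequence

universe u

/-- bridge between the canonical `T²` of a surjection and the ring-level version attached to any
generating family of the kernel. -/
theorem nonempty_T2_canon_equiv_gT2 (A B : Type u) [CommRing A] [CommRing B] [Algebra A B]
    (hs : Function.Surjective (algebraMap A B)) {σ : Type} (a : σ → A)
    (hker : Ideal.span (Set.range a) = RingHom.ker (algebraMap A B))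
    (hrel : ∀ s, algebraMap A B (a s) = 0) (M : Type u) [AddCommGroup M] [Module B M] :
    Nonempty (CotT.T2 (CotT.canon A B) M ≃ₗ[B] gT2 a hrel M) := by
  classical
  let G : Algebra.Generators A B PEmpty.{1} := Algebra.Generators.ofSurjectiveAlgebraMap hs
  let P₀ : Algebra.Presentation A B PEmpty.{1} G.ker :=
    { toGenerators := G
      relation := Subtype.val
      span_range_relation_eq_ker := by
        rw [Subtype.range_val]
        exact Ideal.span_eq _ }
  obtain ⟨e₁⟩ := Helper18.GenT.nonempty_T2_equiv (CotT.canon A B) P₀ M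
  let e : P₀.toExtension.Ring ≃+* A := MvPolynomial.isEmptyRingEquiv A PEmpty.{1}
  have he : ∀ p, algebraMap A B (e p) = algebraMap P₀.toExtension.Ring B p := by
    intro p
    obtain ⟨r, rfl⟩ := e.symm.surjective p
    rw [RingEquiv.apply_symm_apply]
    have h1 : e.symm r = MvPolynomial.C r := MvPolynomial.isEmptyRingEquiv_symm_apply _ _ r
    rw [h1]
    exact (Helper18.GenT.presentation_algebraMap_C P₀ r).symm
  obtain ⟨e₂⟩ := Helper18.GenT.nonempty_T2equiv_of_ringEquiv (CotT.algebraMap_rel P₀) hrel M e he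
    P₀.span_range_relation_eq_ker hker
  exact ⟨e₁.trans e₂⟩

section Main

variable (k A : Type u) [Field k] [CommRing A] [Algebra k A] (I : Ideal A)

/-- comparison `T²((A/I)/A, M) ≃ T²((A/I)/k, M)` when `T¹(A/k) = T²(A/k) = 0` -/
theorem subsingleton_T2_iff
    (hT : ∀ (N : Type u) [AddCommGroup N] [Module A N],
      Subsingleton (CotT.T1 (CotT.canon k A) N) ∧ Subsingleton (CotT.T2 (CotT.canon k A) N))
    (M : Type u) [AddCommGroup M] [Module (A ⧸ I) M] :
    Subsingleton (CotT.T2 (CotT.canon k (A ⧸ I)) M) ↔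
      Subsingleton (CotT.T2 (CotT.canon A (A ⧸ I)) M) := by
  letI : Module A M := Module.compHom M (algebraMap A (A ⧸ I))
  haveI : IsScalarTower A (A ⧸ I) M := IsScalarTower.of_algebraMap_smul fun _ _ => rfl
  obtain ⟨-, -, -, hex2, δ₀, δ₁, -, -, -, hex1⟩ := Groth.Agent.S12285.result k A (A ⧸ I) M
  obtain ⟨hT1, hT2⟩ := hT M
  constructor
  · intro h
    refine ⟨fun x y => ?_⟩
    -- injectivity of the pullback
    have hinj : Function.Injective ((CotT.canonHom k (A ⧸ I) A (A ⧸ I)).T2pull M) := by
      rw [injective_iff_map_eq_zero]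
      intro z hz
      obtain ⟨w, rfl⟩ := (hex1 z).mp hz
      rw [Subsingleton.elim w 0, map_zero]
    exact hinj (Subsingleton.elim _ _)
  · intro h
    refine ⟨fun x y => ?_⟩
    have hsurj : ∀ z, ∃ w, (CotT.canonHom k (A ⧸ I) A (A ⧸ I)).T2pull M w = z := by
      intro z
      exact (hex2 z).mp (Subsingleton.elim _ _)
    obtain ⟨x', rfl⟩ := hsurj x
    obtain ⟨y', rfl⟩ := hsurj y
    rw [Subsingleton.elim x' y']

end Main

section Local

variable (A : Type u) [CommRing A] [IsRegularLocalRing A] (I : Ideal A)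

include A in
theorem forward (hI : I ≠ ⊤) (rs : List A) (hrs : Ideal.ofList rs = I)
    (hdim : (rs.length : WithBot ℕ∞) + ringKrullDim (A ⧸ I) = ringKrullDim A)
    (M : Type u) [AddCommGroup M] [Module (A ⧸ I) M] :
    Subsingleton (CotT.T2 (CotT.canon A (A ⧸ I)) M) := by
  have hle : I ≤ maximalIdeal A := le_maximalIdeal hI
  have hmem : ∀ r ∈ rs, r ∈ maximalIdeal A := by
    intro r hr
    apply hle
    rw [← hrs]
    exact Ideal.subset_span hr
  have hCM : LocCoh.IsCohenMacaulayModule A A :=
    (Groth.Agent.Lead.Depth.isCohenMacaulayLocalRing_of_isRegularLocalRing (R := A)).supportDim_eq_depth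
  have hsm : Ideal.ofList rs • (⊤ : Submodule A A) = I := by
    rw [hrs, smul_eq_mul, Ideal.mul_top]
  have hdim' : Module.supportDim A (A ⧸ Ideal.ofList rs • (⊤ : Submodule A A)) +
      (rs.length : WithBot ℕ∞) = Module.supportDim A A := by
    rw [hsm, Module.supportDim_quotient_eq_ringKrullDim, Module.supportDim_self_eq_ringKrullDim,
      add_comm]
    exact hdim
  have hw : IsWeaklyRegular A rs :=
    Groth.Agent.Lead.Miracle.isWeaklyRegular_of_supportDim_drop rs A hCM hmem hdim'
  have htop : maximalIdeal A • (⊤ : Submodule A A) ≠ ⊤ := by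
    rw [smul_eq_mul, Ideal.mul_top]
    exact (maximalIdeal.isMaximal A).ne_top
  have hreg : IsRegular A rs :=
    Groth.Agent.Lead.Depth.isRegular_of_isWeaklyRegular_of_mem htop hw hmem
  refine Groth.Agent.S12288.result A (A ⧸ I) Ideal.Quotient.mk_surjective rs hreg ?_ M
  rw [hrs]
  exact Ideal.mk_ker

theorem backward (hI : I ≠ ⊤)
    (hT : ∀ (M : Type u) [AddCommGroup M] [Module (A ⧸ I) M],
      Subsingleton (CotT.T2 (CotT.canon A (A ⧸ I)) M)) :
    ∃ rs : List A, Ideal.ofList rs = I ∧
      (rs.length : WithBot ℕ∞) + ringKrullDim (A ⧸ I) = ringKrullDim A := by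
  obtain ⟨r, a, ha, hmin⟩ := CT1.exists_minimal_gens I
  have hker : Ideal.span (Set.range a) = RingHom.ker (algebraMap A (A ⧸ I)) := by
    rw [ha]
    exact Ideal.mk_ker.symm
  have hrel : ∀ s, algebraMap A (A ⧸ I) (a s) = 0 := by
    intro s
    have : a s ∈ RingHom.ker (algebraMap A (A ⧸ I)) := by
      rw [← hker]
      exact Ideal.subset_span ⟨s, rfl⟩
    exact this
  obtain ⟨e⟩ := nonempty_T2_canon_equiv_gT2 A (A ⧸ I) Ideal.Quotient.mk_surjective a hker hrel
    (gL2 (A ⧸ I) a)
  have hsub : Subsingleton (gT2 a hrel (gL2 (A ⧸ I) a)) := e.symm.toEquiv.subsingleton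
  have hmin' : ∀ q ∈ gQ a, ∀ s, q s ∈ maximalIdeal A := by
    intro q hq s
    refine hmin (fun i => q i) ?_ s
    have : gj a q = 0 := hq
    rw [← this]
    simp [gj, Finsupp.linearCombination_apply, Finsupp.sum_fintype]
  have hle := CT1.gQ_le_gF0_of_T2 I a hrel hI hmin' hsub
  have h1 := CT1.isH1Regular_of_le a hle
  have hq := Groth.Agent.S2103.result a h1
  have hmemI : ∀ i, a i ∈ I := by
    intro i
    rw [← ha]
    exact Ideal.subset_span ⟨i, rfl⟩
  have hjac : ∀ i, a i ∈ Ring.jacobson A := by
    intro i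
    rw [IsLocalRing.ringJacobson_eq_maximalIdeal]
    exact le_maximalIdeal hI (hmemI i)
  have hw := Groth.Agent.S5803.result A r a hjac hq
  have htop : maximalIdeal A • (⊤ : Submodule A A) ≠ ⊤ := by
    rw [smul_eq_mul, Ideal.mul_top]
    exact (maximalIdeal.isMaximal A).ne_top
  have hreg : IsRegular A (List.ofFn a) :=
    Groth.Agent.Lead.Depth.isRegular_of_isWeaklyRegular_of_mem htop hw (by
      intro x hx
      obtain ⟨i, rfl⟩ := (List.mem_ofFn' a x).mp hx
      exact le_maximalIdeal hI (hmemI i))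
  have hof : Ideal.ofList (List.ofFn a) = I := by
    rw [← ha]
    show Ideal.span {r | r ∈ List.ofFn a} = _
    congr 1
    ext x
    exact List.mem_ofFn' a x
  refine ⟨List.ofFn a, hof, ?_⟩
  have h2 := ringKrullDim_add_length_eq_ringKrullDim_of_isRegular (List.ofFn a) hreg
  subst hof
  rw [add_comm]
  exact h2

end Local

theorem main12291 (k A : Type u) [Field k] [CommRing A] [IsRegularLocalRing A] [Algebra k A]
    (hT : ∀ (N : Type u) [AddCommGroup N] [Module A N],
      Subsingleton (CotT.T1 (CotT.canon k A) N) ∧ Subsingleton (CotT.T2 (CotT.canon k A) N))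
    (I : Ideal A) (hI : I ≠ ⊤) :
    (∃ rs : List A, Ideal.ofList rs = I ∧
      (rs.length : WithBot ℕ∞) + ringKrullDim (A ⧸ I) = ringKrullDim A) ↔
      ∀ (M : Type u) [AddCommGroup M] [Module (A ⧸ I) M],
        Subsingleton (CotT.T2 (CotT.canon k (A ⧸ I)) M) := by
  constructor
  · rintro ⟨rs, hrs, hdim⟩ M _ _
    rw [subsingleton_T2_iff k A I hT M]
    exact forward A I hI rs hrs hdim M
  · intro h
    refine backward A I hI ?_
    intro M _ _
    rw [← subsingleton_T2_iff k A I hT M]
    exact h M

end Groth.Agent.Helper3.CT2
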