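import Mathlib
import Groth.Agent.Lib.Helper18.CotT.Gen
import Groth.Agent.Lib.Helper18.CotT.GenMor
import Groth.Agent.Lib.Helper18.CotT.T2Indep
import Groth.Agent.Lib.Helper18.CotT.GenLift

/-!
# An elementwise characterisation of the vanishing of the ring-level `T²`, and its behaviour under
localisation of the base ring (helper3)
-/

set_option autoImplicit false
set_option linter.style.haveILetI false

open TensorProduct

noncomputable section

namespace Groth.Agent.Helper3.CT3

open Groth.Agent.Helper18.GenT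

universe u u' v v' t m

section Char

variable {R : Type u} {B : Type v} {σ : Type t} [CommRing R] [CommRing B] [Algebra R B]
variable (rel : σ → R) (hrel : ∀ s, algebraMap R B (rel s) = 0)
variable (M : Type m) [AddCommGroup M] [Module R M]

/-- every `R`-linear map `Q → M` killing the trivial relations extends to `F` -/
def ExtProp : Prop :=
  ∀ ψ₀ : gQ rel →ₗ[R] M, (∀ q : gQ rel, (q : σ →₀ R) ∈ gF0 rel → ψ₀ q = 0) →
    ∃ φ₀ : (σ →₀ R) →ₗ[R] M, ∀ q : gQ rel, φ₀ q = ψ₀ q

variable [Module B M] [IsScalarTower R B M]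

theorem extProp_of_subsingleton (h : Subsingleton (gT2 rel hrel M)) : ExtProp rel M := by
  intro ψ₀ hψ₀
  let ψ₁ : B ⊗[R] gQ rel →ₗ[B] M := ψ₀.liftBaseChange B
  have hle : LinearMap.range ((gF0Q rel).subtype.baseChange B) ≤ LinearMap.ker ψ₁ := by
    rintro _ ⟨z, rfl⟩
    rw [LinearMap.mem_ker]
    induction z using TensorProduct.induction_on with
    | zero => simp
    | add x y hx hy => rw [map_add, map_add, hx, hy, add_zero]
    | tmul b k =>
      rw [LinearMap.baseChange_tmul, LinearMap.liftBaseChange_tmul, Submodule.subtype_apply,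
        hψ₀ _ k.2, smul_zero]
  let ψ : gL2 B rel →ₗ[B] M := Submodule.liftQ _ ψ₁ hle
  have h0 : (Submodule.Quotient.mk ψ : gT2 rel hrel M) = 0 := Subsingleton.elim _ _
  rw [Submodule.Quotient.mk_eq_zero] at h0
  obtain ⟨φ, hφ⟩ := h0
  refine ⟨(φ.restrictScalars R) ∘ₗ (TensorProduct.mk R B (σ →₀ R) 1), fun q => ?_⟩
  have h1 := LinearMap.congr_fun hφ (Submodule.Quotient.mk ((1 : B) ⊗ₜ q))
  rw [gd2Star_apply, LinearMap.comp_apply, gd2_mk_tmul] at h1
  show φ ((1 : B) ⊗ₜ (q : σ →₀ R)) = ψ₀ q
  rw [h1]
  show ψ₁ ((1 : B) ⊗ₜ q) = ψ₀ q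
  rw [LinearMap.liftBaseChange_tmul, one_smul]

theorem subsingleton_of_extProp (h : ExtProp rel M) : Subsingleton (gT2 rel hrel M) := by
  suffices hall : ∀ x : gT2 rel hrel M, x = 0 from ⟨fun x y => (hall x).trans (hall y).symm⟩
  intro x
  obtain ⟨ψ, rfl⟩ := Submodule.Quotient.mk_surjective _ x
  rw [Submodule.Quotient.mk_eq_zero]
  let ψ₀ : gQ rel →ₗ[R] M :=
    { toFun := fun q => ψ (Submodule.Quotient.mk ((1 : B) ⊗ₜ q))
      map_add' := by
        intro x y
        rw [TensorProduct.tmul_add, Submodule.Quotient.mk_add, map_add]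
      map_smul' := by
        intro r x
        have h1 : ((1 : B) ⊗ₜ[R] (r • x) : B ⊗[R] gQ rel) =
            algebraMap R B r • ((1 : B) ⊗ₜ[R] x) := by
          rw [TensorProduct.tmul_smul, algebraMap_smul]
        rw [h1, Submodule.Quotient.mk_smul, map_smul, algebraMap_smul, RingHom.id_apply] }
  have hψ₀ : ∀ q : gQ rel, (q : σ →₀ R) ∈ gF0 rel → ψ₀ q = 0 := by
    intro q hq
    show ψ (Submodule.Quotient.mk ((1 : B) ⊗ₜ q)) = 0
    have : (Submodule.Quotient.mk ((1 : B) ⊗ₜ[R] q) : gL2 B rel) = 0 := by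
      rw [Submodule.Quotient.mk_eq_zero]
      exact ⟨(1 : B) ⊗ₜ (⟨q, hq⟩ : gF0Q rel), rfl⟩
    rw [this, map_zero]
  obtain ⟨φ₀, hφ₀⟩ := h ψ₀ hψ₀
  refine ⟨φ₀.liftBaseChange B, ?_⟩
  rw [gd2Star_apply]
  refine LinearMap.ext fun z => ?_
  induction z using Mor.gL2_induction with
  | h0 => simp
  | hadd x y hx hy => rw [map_add, map_add, hx, hy]
  | hmk b q =>
    rw [LinearMap.comp_apply, gd2_mk_tmul, LinearMap.liftBaseChange_tmul, hφ₀]
    show b • ψ (Submodule.Quotient.mk ((1 : B) ⊗ₜ q)) = _
    rw [← map_smul, ← Submodule.Quotient.mk_smul, TensorProduct.smul_tmul', smul_eq_mul, mul_one]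

theorem subsingleton_gT2_iff : Subsingleton (gT2 rel hrel M) ↔ ExtProp rel M :=
  ⟨extProp_of_subsingleton rel hrel M, subsingleton_of_extProp rel hrel M⟩

end Char

section Loc

lemma smul_injective_of_mem {R : Type u} [CommRing R] (S : Submonoid R) (R' : Type u') [CommRing R']
    [Algebra R R'] [IsLocalization S R'] (M : Type m) [AddCommGroup M] [Module R M] [Module R' M]
    [IsScalarTower R R' M] {s : R} (hs : s ∈ S) : Function.Injective fun m : M => s • m := by
  intro m n h
  obtain ⟨u, hu⟩ := IsLocalization.map_units R' (⟨s, hs⟩ : S)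
  have h' : (u : R') • m = (u : R') • n := by
    rw [hu]
    simpa [algebraMap_smul] using h
  calc m = (↑u⁻¹ : R') • (u : R') • m := by rw [smul_smul, Units.inv_mul, one_smul]
    _ = (↑u⁻¹ : R') • (u : R') • n := by rw [h']
    _ = n := by rw [smul_smul, Units.inv_mul, one_smul]

lemma isUnit_algebraMap_end {R : Type u} [CommRing R] (S : Submonoid R) (R' : Type u') [CommRing R']
    [Algebra R R'] [IsLocalization S R'] (M : Type m) [AddCommGroup M] [Module R M] [Module R' M]
    [IsScalarTower R R' M] (s : S) : IsUnit (algebraMap R (Module.End R M) s) := by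
  rw [Module.End.isUnit_iff]
  refine ⟨smul_injective_of_mem S R' M s.2, fun m => ?_⟩
  obtain ⟨u, hu⟩ := IsLocalization.map_units R' s
  refine ⟨(↑u⁻¹ : R') • m, ?_⟩
  show (s : R) • ((↑u⁻¹ : R') • m) = m
  rw [← algebraMap_smul R' (s : R), ← hu, smul_smul, Units.mul_inv, one_smul]

theorem extProp_of_localization {R : Type u} [CommRing R] (S : Submonoid R) (R' : Type u')
    [CommRing R'] [Algebra R R'] [IsLocalization S R'] {σ : Type t} (rel : σ → R)
    (M : Type m) [AddCommGroup M] [Module R M] [Module R' M] [IsScalarTower R R' M]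
    (h : ExtProp (fun s => algebraMap R R' (rel s)) M) :
    ExtProp rel M := by
  classical
  intro ψ₀ hψ₀
  let rel' : σ → R' := fun s => algebraMap R R' (rel s)
  let f' : R →ₗ[R] R' := Algebra.linearMap R R'
  haveI : IsLocalizedModule S f' := inferInstance
  let f : (σ →₀ R) →ₗ[R] (σ →₀ R') := Finsupp.mapRange.linearMap f'
  haveI : IsLocalizedModule S f := inferInstance
  have hgj : ∀ x : σ →₀ R, gj rel' (f x) = algebraMap R R' (gj rel x) := by
    intro x
    induction x using Finsupp.induction_linear with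
    | zero => simp
    | add x y hx hy => rw [map_add, map_add, hx, hy, map_add, map_add]
    | single s r =>
      have : f (Finsupp.single s r) = Finsupp.single s (algebraMap R R' r) := by
        simp [f, f']
      rw [this, gj_single, gj_single, map_mul]
  have hmap : IsLocalizedModule.map S f f' (gj rel) = (gj rel').restrictScalars R := by
    apply IsLocalizedModule.linearMap_ext S f f'
    rw [IsLocalizedModule.map_comp]
    refine LinearMap.ext fun x => ?_
    simp only [LinearMap.comp_apply, LinearMap.restrictScalars_apply]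
    rw [hgj]
    rfl
  let ι : LinearMap.ker (gj rel) →ₗ[R] LinearMap.ker (IsLocalizedModule.map S f f' (gj rel)) :=
    LinearMap.toKerIsLocalized S f f' (gj rel)
  haveI hι : IsLocalizedModule S ι := LinearMap.toKerLocalized_isLocalizedModule R' S f f' (gj rel)
  let ψ₂ : LinearMap.ker (IsLocalizedModule.map S f f' (gj rel)) →ₗ[R] M :=
    IsLocalizedModule.lift S ι ψ₀ (isUnit_algebraMap_end S R' M)
  have hψ₂ : ∀ q : gQ rel, ψ₂ (ι q) = ψ₀ q := fun q =>
    IsLocalizedModule.lift_apply S ι ψ₀ (isUnit_algebraMap_end S R' M) q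
  have hmem : ∀ q' : gQ rel', (q' : σ →₀ R') ∈
      LinearMap.ker (IsLocalizedModule.map S f f' (gj rel)) := by
    intro q'
    rw [LinearMap.mem_ker, hmap]
    exact q'.2
  let ψR : gQ rel' →ₗ[R] M :=
    { toFun := fun q' => ψ₂ ⟨q', hmem q'⟩
      map_add' := by
        intro x y
        rw [← map_add]
        rfl
      map_smul' := by
        intro r x
        rw [RingHom.id_apply, ← map_smul]
        rfl }
  let ψ' : gQ rel' →ₗ[R'] M := ψR.extendScalarsOfIsLocalization S R'
  have hψ'ι : ∀ (q : gQ rel) (hq : f q ∈ gQ rel'), ψ' ⟨f q, hq⟩ = ψ₀ q := by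
    intro q hq
    rw [← hψ₂ q]
    rfl
  -- `ψ'` kills the trivial relations
  have hkill : ∀ x (hx : x ∈ gF0 rel') (hq : x ∈ gQ rel'), ψ' ⟨x, hq⟩ = 0 := by
    intro x hx
    induction hx using Submodule.span_induction with
    | mem x hx =>
      intro hq
      obtain ⟨a', b', rfl⟩ := hx
      obtain ⟨⟨a, s⟩, ha⟩ := IsLocalizedModule.surj S f a'
      obtain ⟨⟨b, t⟩, hb⟩ := IsLocalizedModule.surj S f b'
      simp only at ha hb
      set y : σ →₀ R := gj rel a • b - gj rel b • a with hy
      have hyF : y ∈ gF0 rel := Submodule.subset_span ⟨a, b, rfl⟩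
      have hyQ : y ∈ gQ rel := gF0_le_gQ rel hyF
      have hsa : f a = algebraMap R R' (s : R) • a' := by
        rw [← ha, Submonoid.smul_def, algebraMap_smul]
      have htb : f b = algebraMap R R' (t : R) • b' := by
        rw [← hb, Submonoid.smul_def, algebraMap_smul]
      have hfy : f y = ((s : R) * (t : R)) • (gj rel' a' • b' - gj rel' b' • a') := by
        rw [hy, map_sub, map_smul, map_smul, ← algebraMap_smul R' (gj rel a),
          ← algebraMap_smul R' (gj rel b), ← hgj, ← hgj, hsa, htb, map_smul, map_smul,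
          ← algebraMap_smul R' ((s : R) * (t : R)), map_mul]
        simp only [smul_eq_mul, smul_sub, smul_smul]
        congr 2 <;> ring
      have h1 : ((s : R) * (t : R)) • ψ' ⟨_, hq⟩ = 0 := by
        have hfyq : f y ∈ gQ rel' := by
          rw [hfy]
          exact Submodule.smul_of_tower_mem _ _ hq
        have h2 : ((s : R) * (t : R)) • (⟨_, hq⟩ : gQ rel') = ⟨f y, hfyq⟩ := by
          apply Subtype.ext
          show ((s : R) * (t : R)) • (gj rel' a' • b' - gj rel' b' • a') = f y
          exact hfy.symm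
        have h3 : ψ' (((s : R) * (t : R)) • (⟨_, hq⟩ : gQ rel')) =
            ((s : R) * (t : R)) • ψ' ⟨_, hq⟩ := by
          show ψR _ = _ • ψR _
          rw [map_smul]
        rw [← h3, h2, hψ'ι ⟨y, hyQ⟩]
        exact hψ₀ ⟨y, hyQ⟩ hyF
      have hst : (s : R) * (t : R) ∈ S := S.mul_mem s.2 t.2
      exact smul_injective_of_mem S R' M hst (by simpa using h1)
    | zero =>
      intro hq
      exact map_zero ψ'
    | add x y hx hy ihx ihy =>
      intro hq
      have hxq : x ∈ gQ rel' := gF0_le_gQ rel' hx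
      have hyq : y ∈ gQ rel' := gF0_le_gQ rel' hy
      have : (⟨x + y, hq⟩ : gQ rel') = ⟨x, hxq⟩ + ⟨y, hyq⟩ := rfl
      rw [this, map_add, ihx hxq, ihy hyq, add_zero]
    | smul r x hx ihx =>
      intro hq
      have hxq : x ∈ gQ rel' := gF0_le_gQ rel' hx
      have : (⟨r • x, hq⟩ : gQ rel') = r • ⟨x, hxq⟩ := rfl
      rw [this, map_smul, ihx hxq, smul_zero]
  obtain ⟨φ', hφ'⟩ := h ψ' (fun q hq => hkill q hq q.2)
  refine ⟨(φ'.restrictScalars R) ∘ₗ f, fun q => ?_⟩
  have hfq : f q ∈ gQ rel' := by
    show gj rel' (f q) = 0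
    rw [hgj, show gj rel (q : σ →₀ R) = 0 from q.2, map_zero]
  show φ' (f q) = ψ₀ q
  rw [← hψ'ι q hfq]
  exact hφ' ⟨f q, hfq⟩

end Loc

section Main

/-- flat base change along a localisation, in the direction needed: vanishing of `T²` over the
localised base implies vanishing over the original base (for modules over the localisation). -/
theorem subsingleton_gT2_of_localization {R : Type u} [CommRing R] (S : Submonoid R) (R' : Type u')
    [CommRing R'] [Algebra R R'] [IsLocalization S R']
    {B : Type v} {B' : Type v'} [CommRing B] [CommRing B'] [Algebra R B] [Algebra R' B']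
    {σ : Type t} (rel : σ → R) (hrel : ∀ s, algebraMap R B (rel s) = 0)
    (hrel' : ∀ s, algebraMap R' B' (algebraMap R R' (rel s)) = 0)
    (M : Type m) [AddCommGroup M] [Module R M] [Module R' M] [IsScalarTower R R' M]
    [Module B M] [IsScalarTower R B M] [Module B' M] [IsScalarTower R' B' M]
    (h : Subsingleton (gT2 (B := B') (fun s => algebraMap R R' (rel s)) hrel' M)) :
    Subsingleton (gT2 rel hrel M) := by
  rw [subsingleton_gT2_iff] at h ⊢
  exact extProp_of_localization S R' rel M h

end Main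

section Bridge

/-- bridge between the canonical `T²` of a surjection and the ring-level version attached to any
generating family of the kernel (any universe for the index type). -/
theorem nonempty_T2_canon_equiv_gT2 (A B : Type u) [CommRing A] [CommRing B] [Algebra A B]
    (hs : Function.Surjective (algebraMap A B)) {σ : Type t} (a : σ → A)
    (hker : Ideal.span (Set.range a) = RingHom.ker (algebraMap A B))
    (hrel : ∀ s, algebraMap A B (a s) = 0) (M : Type u) [AddCommGroup M] [Module B M] :
    Nonempty (CotT.T2 (CotT.canon A B) M ≃ₗ[B] gT2 a hrel M) := by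
  classical
  let G : Algebra.Generators A B PEmpty.{1} := Algebra.Generators.ofSurjectiveAlgebraMap hs
  let P₀ : Algebra.Presentation A B PEmpty.{1} G.ker :=
    { toGenerators := G
      relation := Subtype.val
      span_range_relation_eq_ker := by
        rw [Subtype.range_val]
        exact Ideal.span_eq _ }
  obtain ⟨e₁⟩ := Helper18.GenT.nonempty_T2_equiv (CotT.canon A B) P₀ M
  let e : P₀.toExtension.Ring ≃+* A := MvPolynomial.isEmptyRingEquiv A PEmpty.{1}
  have he : ∀ p, algebraMap A B (e p) = algebraMap P₀.toExtension.Ring B p := by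
    intro p
    obtain ⟨r, rfl⟩ := e.symm.surjective p
    rw [RingEquiv.apply_symm_apply]
    have h1 : e.symm r = MvPolynomial.C r := MvPolynomial.isEmptyRingEquiv_symm_apply _ _ r
    rw [h1]
    exact (Helper18.GenT.presentation_algebraMap_C P₀ r).symm
  obtain ⟨e₂⟩ := Helper18.GenT.nonempty_T2equiv_of_ringEquiv (CotT.algebraMap_rel P₀) hrel M e he
    P₀.span_range_relation_eq_ker hker
  exact ⟨e₁.trans e₂⟩

end Bridge

end Groth.Agent.Helper3.CT3
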