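import Mathlib
import Groth.Agent.Lib.Helper3.CT3
import Groth.Agent.S12285
import Groth.Agent.S12287

/-!
# `T²(S⁻¹R/R, M) = 0` (helper3)
-/

set_option autoImplicit false
set_option linter.style.haveILetI false

open TensorProduct

noncomputable section

namespace Groth.Agent.Helper3.CT4

open Groth.Agent.Helper18.GenT

universe u

attribute [local instance] MvPolynomial.algebraMvPolynomial

/-- vanishing of the middle term of an exact sequence of additive maps with vanishing ends -/
lemma subsingleton_of_exact {X Y Z : Type*} [AddCommGroup X] [AddCommGroup Y] [AddCommGroup Z]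
    {F G : Type*} [FunLike F X Y] [AddMonoidHomClass F X Y] [FunLike G Y Z]
    [AddMonoidHomClass G Y Z] (f : F) (g : G) (h : Function.Exact f g)
    [Subsingleton X] [Subsingleton Z] : Subsingleton Y := by
  refine ⟨fun a b => ?_⟩
  have key : ∀ y : Y, y = 0 := by
    intro y
    obtain ⟨x, rfl⟩ := (h y).mp (Subsingleton.elim _ _)
    rw [Subsingleton.elim x 0, map_zero]
  rw [key a, key b]

theorem subsingleton_T2_localization (R C : Type u) [CommRing R] [CommRing C] [Algebra R C]
    (S : Submonoid R) [IsLocalization S C] (M : Type u) [AddCommGroup M] [Module C M] :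
    Subsingleton (CotT.T2 (CotT.canon R C) M) := by
  classical
  -- the two polynomial rings
  letI algTC : Algebra (MvPolynomial C R) C :=
    (MvPolynomial.aeval (fun c : C => c) : MvPolynomial C R →ₐ[R] C).toRingHom.toAlgebra
  letI algT'C : Algebra (MvPolynomial C C) C :=
    (MvPolynomial.aeval (fun c : C => c) : MvPolynomial C C →ₐ[C] C).toRingHom.toAlgebra
  have hTC : ∀ p : MvPolynomial C R, algebraMap (MvPolynomial C R) C p =
      MvPolynomial.aeval (fun c : C => c) p := fun p => rfl
  have hT'C : ∀ p : MvPolynomial C C, algebraMap (MvPolynomial C C) C p =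
      MvPolynomial.aeval (fun c : C => c) p := fun p => rfl
  haveI tw1 : IsScalarTower R (MvPolynomial C R) C := IsScalarTower.of_algebraMap_eq fun r => by
    rw [hTC, MvPolynomial.algebraMap_eq, MvPolynomial.aeval_C]
  haveI tw2 : IsScalarTower C (MvPolynomial C C) C := IsScalarTower.of_algebraMap_eq fun r => by
    rw [hT'C, MvPolynomial.algebraMap_eq, MvPolynomial.aeval_C]
  have hcompat : ∀ p : MvPolynomial C R,
      algebraMap (MvPolynomial C C) C (algebraMap (MvPolynomial C R) (MvPolynomial C C) p) =
        algebraMap (MvPolynomial C R) C p := by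
    intro p
    rw [hT'C, hTC, MvPolynomial.algebraMap_def, MvPolynomial.aeval_map_algebraMap]
  have hsT : Function.Surjective (algebraMap (MvPolynomial C R) C) := fun c =>
    ⟨MvPolynomial.X c, by rw [hTC, MvPolynomial.aeval_X]⟩
  have hsT' : Function.Surjective (algebraMap (MvPolynomial C C) C) := fun c =>
    ⟨MvPolynomial.X c, by rw [hT'C, MvPolynomial.aeval_X]⟩
  -- module structures
  letI mT' : Module (MvPolynomial C C) M := Module.compHom M (algebraMap (MvPolynomial C C) C)
  haveI : IsScalarTower (MvPolynomial C C) C M := IsScalarTower.of_algebraMap_smul fun _ _ => rfl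
  letI mT : Module (MvPolynomial C R) M := Module.compHom M (algebraMap (MvPolynomial C R) C)
  haveI : IsScalarTower (MvPolynomial C R) C M := IsScalarTower.of_algebraMap_smul fun _ _ => rfl
  haveI : IsScalarTower (MvPolynomial C R) (MvPolynomial C C) M := by
    refine ⟨fun t t' m => ?_⟩
    show algebraMap (MvPolynomial C C) C (t • t') • m =
      algebraMap (MvPolynomial C R) C t • algebraMap (MvPolynomial C C) C t' • m
    rw [Algebra.smul_def, map_mul, hcompat, mul_smul]
  -- step 1: `T²(C/T', M) = 0`
  have h1 : Subsingleton (CotT.T2 (CotT.canon (MvPolynomial C C) C) M) := by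
    obtain ⟨-, -, -, -, δ₀, δ₁, -, -, -, hex⟩ :=
      Groth.Agent.S12285.result C (MvPolynomial C C) C M
    haveI := (Groth.Agent.S12287.result C (MvPolynomial C C) C AlgEquiv.refl M).1
    haveI := (Groth.Agent.S12287.result C C PEmpty.{u+1}
      (MvPolynomial.isEmptyAlgEquiv C PEmpty.{u+1}) M).2
    exact subsingleton_of_exact _ _ hex
  -- step 2: bridge to the ring-level `T²`
  let σ := ↥(RingHom.ker (algebraMap (MvPolynomial C R) C))
  let rel : σ → MvPolynomial C R := Subtype.val
  have hrel : ∀ s, algebraMap (MvPolynomial C R) C (rel s) = 0 := fun s => s.2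
  have hrel' : ∀ s, algebraMap (MvPolynomial C C) C
      (algebraMap (MvPolynomial C R) (MvPolynomial C C) (rel s)) = 0 := by
    intro s
    rw [hcompat]
    exact hrel s
  have hker : Ideal.span (Set.range rel) = RingHom.ker (algebraMap (MvPolynomial C R) C) := by
    rw [Subtype.range_val]
    exact Ideal.span_eq _
  have hker' : Ideal.span (Set.range fun s => algebraMap (MvPolynomial C R) (MvPolynomial C C)
      (rel s)) = RingHom.ker (algebraMap (MvPolynomial C C) C) := by
    refine le_antisymm ?_ ?_
    · rw [Ideal.span_le]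
      rintro _ ⟨s, rfl⟩
      exact hrel' s
    · intro p' hp'
      obtain ⟨⟨p, s⟩, hps⟩ := IsLocalization.surj (S.map (MvPolynomial.C (σ := C))) p'
      simp only at hps
      obtain ⟨u, hu⟩ := IsLocalization.map_units (MvPolynomial C C) s
      have hpk : p ∈ RingHom.ker (algebraMap (MvPolynomial C R) C) := by
        rw [RingHom.mem_ker, ← hcompat, ← hps, map_mul, (RingHom.mem_ker).mp hp', zero_mul]
      have hp'eq : p' = (↑u⁻¹ : MvPolynomial C C) *
          algebraMap (MvPolynomial C R) (MvPolynomial C C) p := by
        rw [← hps, ← hu, mul_comm p', ← mul_assoc, Units.inv_mul, one_mul]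
      rw [hp'eq]
      exact Ideal.mul_mem_left _ _ (Ideal.subset_span ⟨⟨p, hpk⟩, rfl⟩)
  obtain ⟨e'⟩ := CT3.nonempty_T2_canon_equiv_gT2 (MvPolynomial C C) C hsT'
    (fun s => algebraMap (MvPolynomial C R) (MvPolynomial C C) (rel s)) hker' hrel' M
  have h2 : Subsingleton (gT2 (B := C) (fun s => algebraMap (MvPolynomial C R) (MvPolynomial C C)
      (rel s)) hrel' M) := e'.symm.toEquiv.subsingleton
  -- step 3: descend along the localisation
  have h3 : Subsingleton (gT2 rel hrel M) :=
    CT3.subsingleton_gT2_of_localization (S.map (MvPolynomial.C (σ := C))) (MvPolynomial C C)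
      rel hrel hrel' M h2
  obtain ⟨e⟩ := CT3.nonempty_T2_canon_equiv_gT2 (MvPolynomial C R) C hsT rel hker hrel M
  have h4 : Subsingleton (CotT.T2 (CotT.canon (MvPolynomial C R) C) M) :=
    e.toEquiv.subsingleton
  -- step 4: nine-term sequence for `R → T → C`
  obtain ⟨-, -, -, hex, -⟩ := Groth.Agent.S12285.result R (MvPolynomial C R) C M
  haveI := (Groth.Agent.S12287.result R (MvPolynomial C R) C AlgEquiv.refl M).2
  exact subsingleton_of_exact _ _ hex

end Groth.Agent.Helper3.CT4
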