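import Mathlib
import Groth.Agent.S12289

/-!
# `T¹(B/A, -) = 0` iff `B` is formally smooth over `A` (helper3)
-/

set_option autoImplicit false
set_option linter.style.haveILetI false

open TensorProduct

noncomputable section

namespace Groth.Agent.Helper3.CT5

universe u

theorem formallySmooth_iff_T1 (A B : Type u) [CommRing A] [CommRing B] [Algebra A B] :
    Algebra.FormallySmooth A B ↔
      ∀ (M : Type u) [AddCommGroup M] [Module B M], Subsingleton (CotT.T1 (CotT.canon A B) M) := by
  haveI : Algebra.FormallySmooth A (CotT.canon A B).toExtension.Ring :=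
    inferInstanceAs (Algebra.FormallySmooth A (MvPolynomial _ A))
  rw [Algebra.Extension.formallySmooth_iff_split_injection (CotT.canon A B).toExtension]
  constructor
  · rintro ⟨l, hl⟩ M _ _
    obtain ⟨-, hker, hsurj⟩ := Groth.Agent.S12289.result A B _ _ (CotT.canon A B) M
    suffices hall : ∀ x : CotT.T1 (CotT.canon A B) M, x = 0 from
      ⟨fun x y => (hall x).trans (hall y).symm⟩
    intro x
    obtain ⟨φ, rfl⟩ := hsurj x
    rw [← LinearMap.mem_ker, hker]
    refine ⟨φ ∘ₗ l, ?_⟩
    rw [LinearMap.lcomp_apply', LinearMap.comp_assoc, hl, LinearMap.comp_id]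
  · intro h
    obtain ⟨-, hker, -⟩ := Groth.Agent.S12289.result A B _ _ (CotT.canon A B)
      (CotT.canon A B).toExtension.Cotangent
    haveI := h (CotT.canon A B).toExtension.Cotangent
    have h0 : (LinearMap.id : (CotT.canon A B).toExtension.Cotangent →ₗ[B] _) ∈
        LinearMap.ker (CotT.homToT1 (CotT.canon A B) (CotT.canon A B).toExtension.Cotangent) := by
      rw [LinearMap.mem_ker]
      exact Subsingleton.elim _ _
    rw [hker] at h0
    obtain ⟨l, hl⟩ := h0
    exact ⟨l, hl⟩

/-- over an algebraically closed field every reduced algebra is geometrically reduced -/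
theorem isGeometricallyReduced_of_isAlgClosed (k K : Type*) [Field k] [IsAlgClosed k] [CommRing K]
    [Algebra k K] [IsReduced K] : Algebra.IsGeometricallyReduced k K := by
  rw [Algebra.isGeometricallyReduced_field_iff]
  have hbij : Function.Bijective (algebraMap k (AlgebraicClosure k)) :=
    IsAlgClosed.algebraMap_bijective_of_isIntegral
  let e : k ≃ₐ[k] AlgebraicClosure k := AlgEquiv.ofBijective (Algebra.ofId k _) hbij
  let e2 : AlgebraicClosure k ⊗[k] K ≃ₐ[k] K :=
    (Algebra.TensorProduct.congr e.symm AlgEquiv.refl).trans (Algebra.TensorProduct.lid k K)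
  exact isReduced_of_injective e2.toRingEquiv.toRingHom e2.injective

end Groth.Agent.Helper3.CT5
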