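import Mathlib
import Groth.Agent.Lib.Helper3.CT2
import Groth.Agent.Lib.Helper3.CT4
import Groth.Agent.Lib.Helper3.CT5
import Groth.Agent.Lib.Helper14.RegSmooth
import Groth.Agent.Lib.Lead.RLR6

/-!
# Regular local rings essentially of finite type over an algebraically closed field: `T¹ = T² = 0`
(helper3)
-/

set_option autoImplicit false
set_option linter.style.haveILetI false

open TensorProduct

noncomputable section

namespace Groth.Agent.Helper3.CT6

open IsLocalRing RingTheory.Sequence

universe u

/-- a generating sequence of the right length in a regular local ring is regular -/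
theorem isRegular_of_dim (A : Type u) [CommRing A] [IsRegularLocalRing A] (I : Ideal A)
    (hI : I ≠ ⊤) (rs : List A) (hrs : Ideal.ofList rs = I)
    (hdim : (rs.length : WithBot ℕ∞) + ringKrullDim (A ⧸ I) = ringKrullDim A) :
    IsRegular A rs := by
  have hle : I ≤ maximalIdeal A := le_maximalIdeal hI
  have hmem : ∀ r ∈ rs, r ∈ maximalIdeal A := by
    intro r hr
    apply hle
    rw [← hrs]
    exact Ideal.subset_span hr
  have hCM : LocCoh.IsCohenMacaulayModule A A :=
    (Groth.Agent.Lead.Depth.isCohenMacaulayLocalRing_of_isRegularLocalRing (R := A)).supportDim_eq_depth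
  have hsm : Ideal.ofList rs • (⊤ : Submodule A A) = I := by
    rw [hrs, smul_eq_mul, Ideal.mul_top]
  have hdim' : Module.supportDim A (A ⧸ Ideal.ofList rs • (⊤ : Submodule A A)) +
      (rs.length : WithBot ℕ∞) = Module.supportDim A A := by
    rw [hsm, Module.supportDim_quotient_eq_ringKrullDim, Module.supportDim_self_eq_ringKrullDim,
      add_comm]
    exact hdim
  have hw : IsWeaklyRegular A rs :=
    Groth.Agent.Lead.Miracle.isWeaklyRegular_of_supportDim_drop rs A hCM hmem hdim'
  have htop : maximalIdeal A • (⊤ : Submodule A A) ≠ ⊤ := by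
    rw [smul_eq_mul, Ideal.mul_top]
    exact (maximalIdeal.isMaximal A).ne_top
  exact Groth.Agent.Lead.Depth.isRegular_of_isWeaklyRegular_of_mem htop hw hmem

/-- `T²(B/A, -) = 0` for a surjection of regular local rings -/
theorem subsingleton_T2_of_regular_surjective (A B : Type u) [CommRing A] [CommRing B]
    [IsRegularLocalRing A] [IsRegularLocalRing B] [Algebra A B]
    (hs : Function.Surjective (algebraMap A B)) (M : Type u) [AddCommGroup M] [Module B M] :
    Subsingleton (CotT.T2 (CotT.canon A B) M) := by
  set I := RingHom.ker (algebraMap A B) with hIdef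
  haveI : IsRegularLocalRing (A ⧸ I) :=
    IsRegularLocalRing.of_ringEquiv (RingHom.quotientKerEquivOfSurjective hs).symm
  obtain ⟨c, e, z, hce, hz, hIz⟩ :=
    Groth.Agent.Lead.RLR.exists_adapted_generators_of_regular_quotient I
  have hItop : I ≠ ⊤ := RingHom.ker_ne_top _
  set J := Ideal.span (Set.range (fun i : Fin c => z (Fin.castAdd e i))) with hJ
  have hJtop : J ≠ ⊤ := hIz ▸ hItop
  haveI : IsLocalRing (A ⧸ J) := Groth.Agent.Lead.RLR.isLocalRing_quotient hJtop
  obtain ⟨-, hdimJ⟩ := Groth.Agent.Lead.RLR.isRegularLocalRing_quotient_span_range z hz hce.symm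
  set rs : List A := List.ofFn (fun i : Fin c => z (Fin.castAdd e i)) with hrs
  have hof : Ideal.ofList rs = J := by
    show Ideal.span {r | r ∈ List.ofFn _} = _
    congr 1
    ext x
    exact List.mem_ofFn' _ x
  have hdim : (rs.length : WithBot ℕ∞) + ringKrullDim (A ⧸ J) = ringKrullDim A := by
    rw [hdimJ, hrs, List.length_ofFn, ← IsRegularLocalRing.spanFinrank_maximalIdeal, ← hce]
    push_cast
    rfl
  have hreg : IsRegular A rs := isRegular_of_dim A J hJtop rs hof hdim
  refine Groth.Agent.S12288.result A B hs rs hreg ?_ M
  rw [hof, ← hIz]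

/-- transitivity: `T²(C/k) = 0` for a localisation `C` of `R` when `T²(R/k, -) = 0` -/
theorem subsingleton_T2_of_localization_of_base (k R C : Type u) [CommRing k] [CommRing R]
    [CommRing C] [Algebra k R] [Algebra R C] [Algebra k C] [IsScalarTower k R C]
    (S : Submonoid R) [IsLocalization S C]
    (hR : ∀ (N : Type u) [AddCommGroup N] [Module R N],
      Subsingleton (CotT.T2 (CotT.canon k R) N))
    (M : Type u) [AddCommGroup M] [Module C M] :
    Subsingleton (CotT.T2 (CotT.canon k C) M) := by
  letI : Module R M := Module.compHom M (algebraMap R C)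
  haveI : IsScalarTower R C M := IsScalarTower.of_algebraMap_smul fun _ _ => rfl
  obtain ⟨-, -, -, hex, -⟩ := Groth.Agent.S12285.result k R C M
  haveI := CT4.subsingleton_T2_localization R C S M
  haveI := hR M
  exact CT4.subsingleton_of_exact _ _ hex

/-- transitivity: vanishing of `T²(B/k)` from `T²(B/A)` and `T²(A/k)` -/
theorem subsingleton_T2_of_tower (k A B : Type u) [CommRing k] [CommRing A]
    [CommRing B] [Algebra k A] [Algebra A B] [Algebra k B] [IsScalarTower k A B]
    (M : Type u) [AddCommGroup M] [Module B M]
    (hBA : Subsingleton (CotT.T2 (CotT.canon A B) M))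
    (hA : ∀ (N : Type u) [AddCommGroup N] [Module A N],
      Subsingleton (CotT.T2 (CotT.canon k A) N)) :
    Subsingleton (CotT.T2 (CotT.canon k B) M) := by
  letI : Module A M := Module.compHom M (algebraMap A B)
  haveI : IsScalarTower A B M := IsScalarTower.of_algebraMap_smul fun _ _ => rfl
  obtain ⟨-, -, -, hex, -⟩ := Groth.Agent.S12285.result k A B M
  haveI := hA M
  exact CT4.subsingleton_of_exact _ _ hex

/-- polynomial rings in finitely many variables have `T² = 0` -/
theorem subsingleton_T2_mvPolynomial (k : Type u) [CommRing k] (n : ℕ) (N : Type u)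
    [AddCommGroup N] [Module (MvPolynomial (Fin n) k) N] :
    Subsingleton (CotT.T2 (CotT.canon k (MvPolynomial (Fin n) k)) N) :=
  (Groth.Agent.S12287.result k (MvPolynomial (Fin n) k) (ULift.{u} (Fin n))
    (MvPolynomial.renameEquiv k Equiv.ulift) N).2

section Local

variable (k B : Type u) [Field k] [CommRing B] [Algebra k B] [Algebra.FiniteType k B]
  (q : Ideal B) [q.IsPrime]

/-- the local ring of a finite type algebra over a field at a regular point has `T² = 0` -/
theorem subsingleton_T2_of_regular [IsRegularLocalRing (Localization.AtPrime q)]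
    (M : Type u) [AddCommGroup M] [Module (Localization.AtPrime q) M] :
    Subsingleton (CotT.T2 (CotT.canon k (Localization.AtPrime q)) M) := by
  obtain ⟨n, f₀, hf₀⟩ := Algebra.FiniteType.iff_quotient_mvPolynomial''.mp
    (inferInstance : Algebra.FiniteType k B)
  set Q : Ideal (MvPolynomial (Fin n) k) := q.comap f₀.toRingHom with hQ
  haveI : Q.IsPrime := Ideal.comap_isPrime _ _
  set fP : Localization.AtPrime Q →+* Localization.AtPrime q :=
    Localization.localRingHom Q q f₀.toRingHom rfl with hfP
  have hsurj : Function.Surjective fP :=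
    RingHom.surjective_localRingHom_of_surjective f₀.toRingHom hf₀ q
  letI : Algebra (Localization.AtPrime Q) (Localization.AtPrime q) := fP.toAlgebra
  haveI : IsScalarTower k (Localization.AtPrime Q) (Localization.AtPrime q) := by
    refine IsScalarTower.of_algebraMap_eq (fun x => ?_)
    rw [RingHom.algebraMap_toAlgebra, IsScalarTower.algebraMap_apply k (MvPolynomial (Fin n) k)
      (Localization.AtPrime Q), hfP, Localization.localRingHom_to_map,
      IsScalarTower.algebraMap_apply k B (Localization.AtPrime q)]
    simp
  haveI : IsRegularLocalRing (Localization.AtPrime Q) :=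
    IsRegularRing.isRegularLocalRing_localization Q
  have h1 : Subsingleton (CotT.T2 (CotT.canon (Localization.AtPrime Q) (Localization.AtPrime q)) M) :=
    subsingleton_T2_of_regular_surjective _ _ hsurj M
  refine subsingleton_T2_of_tower k (Localization.AtPrime Q) (Localization.AtPrime q) M h1 ?_
  intro N _ _
  exact subsingleton_T2_of_localization_of_base k (MvPolynomial (Fin n) k) (Localization.AtPrime Q)
    Q.primeCompl (fun N' _ _ => subsingleton_T2_mvPolynomial k n N') N

end Local

theorem main12297 (k B : Type u) [Field k] [IsAlgClosed k] [CommRing B] [Algebra k B]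
    [Algebra.FiniteType k B] (m : Ideal B) [m.IsMaximal] :
    (IsRegularLocalRing (Localization.AtPrime m) ↔
      ∀ (M : Type u) [AddCommGroup M] [Module (Localization.AtPrime m) M],
        Subsingleton (CotT.T1 (CotT.canon k (Localization.AtPrime m)) M)) ∧
    (IsRegularLocalRing (Localization.AtPrime m) →
      ∀ (M : Type u) [AddCommGroup M] [Module (Localization.AtPrime m) M],
        Subsingleton (CotT.T2 (CotT.canon k (Localization.AtPrime m)) M)) := by
  haveI : Algebra.IsGeometricallyReduced k m.ResidueField :=
    CT5.isGeometricallyReduced_of_isAlgClosed k _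
  refine ⟨?_, ?_⟩
  · rw [← CT5.formallySmooth_iff_T1]
    constructor
    · intro h
      exact Groth.Agent.Helper14.RegSmooth.isSmoothAt_of_regular k B m
    · intro h
      haveI : Algebra.IsSmoothAt k m := h
      exact Groth.Agent.Helper14.RegSmooth.isRegularLocalRing_of_isSmoothAt k B m
  · intro h M _ _
    exact subsingleton_T2_of_regular k B m M

end Groth.Agent.Helper3.CT6
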