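import Mathlib
import Groth.Agent.Lib.Helper3.CI3
import Groth.Agent.Lib.Helper3.CT6
import Groth.Agent.Lib.Helper1.CompletionDim

/-!
# Complete intersections and the geometric depth `dim B - μ(I)` (helper3)
-/

set_option autoImplicit false
set_option linter.style.haveILetI false

noncomputable section

namespace Groth.Agent.Helper3.CI4

open IsLocalRing RingTheory.Sequence

universe u

/-- the predicate "`C` is a regular local ring modulo a regular sequence" -/
def IsRegQuot (C : Type u) [CommRing C] : Prop :=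
  ∃ (B : Type u) (_ : CommRing B) (_ : IsRegularLocalRing B) (rs : List B),
    (∀ r ∈ rs, r ∈ IsLocalRing.maximalIdeal B) ∧ RingTheory.Sequence.IsRegular B rs ∧
    Nonempty (C ≃+* B ⧸ Ideal.span {r | r ∈ rs})

lemma exists_nat_dim (B : Type u) [CommRing B] [IsLocalRing B] [IsNoetherianRing B] :
    ∃ n : ℕ, ringKrullDim B = n := by
  have h1 : ringKrullDim B ≠ ⊤ := ringKrullDim_ne_top
  have h2 : ringKrullDim B ≠ ⊥ := ringKrullDim_ne_bot
  obtain ⟨m, hm⟩ := WithBot.ne_bot_iff_exists.mp h2
  have h3 : m ≠ ⊤ := by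
    rintro rfl
    exact h1 hm.symm
  obtain ⟨n, hn⟩ := ENat.ne_top_iff_exists.mp h3
  exact ⟨n, by rw [← hm, ← hn]; rfl⟩

/-- if `C ≅ B/I ≅ B'/(rs)` with `rs` regular then `dim B - μ(I) = dim C` -/
theorem sub_spanFinrank_eq_of_isRegQuot (C : Type u) [CommRing C] [IsLocalRing C]
    (B : Type u) [CommRing B] [IsRegularLocalRing B] (I : Ideal B) (φ : C ≃+* B ⧸ I)
    (d e : ℕ) (hd : ringKrullDim C = d) (he : ringKrullDim B = e) (h : IsRegQuot C) :
    I.spanFinrank + d = e := by
  obtain ⟨B', _, _, rs, hmem, hreg, ⟨ψ⟩⟩ := h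
  obtain ⟨e', he'⟩ := exists_nat_dim B'
  set J : Ideal B' := Ideal.span {r | r ∈ rs} with hJ
  let f : B →+* C := (φ.symm : B ⧸ I →+* C).comp (Ideal.Quotient.mk I)
  let f' : B' →+* C := (ψ.symm : B' ⧸ J →+* C).comp (Ideal.Quotient.mk J)
  have hf : Function.Surjective f := φ.symm.surjective.comp Ideal.Quotient.mk_surjective
  have hf' : Function.Surjective f' := ψ.symm.surjective.comp Ideal.Quotient.mk_surjective
  have hk : RingHom.ker f = I := by
    ext x
    rw [RingHom.mem_ker]
    change φ.symm (Ideal.Quotient.mk I x) = 0 ↔ _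
    rw [map_eq_zero_iff _ φ.symm.injective, Ideal.Quotient.eq_zero_iff_mem]
  have hk' : RingHom.ker f' = J := by
    ext x
    rw [RingHom.mem_ker]
    change ψ.symm (Ideal.Quotient.mk J x) = 0 ↔ _
    rw [map_eq_zero_iff _ ψ.symm.injective, Ideal.Quotient.eq_zero_iff_mem]
  have hcore := CI3.core C B B' f hf f' hf' e e' he he'
  rw [hk, hk'] at hcore
  have hcore' : I.spanFinrank + e' = J.spanFinrank + e := by exact_mod_cast hcore
  -- dimension of `B'/J`
  have hdJ : ringKrullDim (B' ⧸ J) = d := by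
    rw [← ringKrullDim_eq_of_ringEquiv ψ, hd]
  have h1 := ringKrullDim_add_length_eq_ringKrullDim_of_isRegular rs hreg
  change ringKrullDim (B' ⧸ J) + _ = _ at h1
  rw [hdJ, he'] at h1
  have h1' : d + rs.length = e' := by exact_mod_cast h1
  have hJle : J ≤ Ring.jacobson B' := by
    rw [IsLocalRing.ringJacobson_eq_maximalIdeal]
    exact Ideal.span_le.mpr hmem
  have h2 := ringKrullDim_le_ringKrullDim_quotient_add_spanFinrank J hJle
  rw [hdJ, he'] at h2
  have h2' : e' ≤ d + J.spanFinrank := by exact_mod_cast h2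
  have h3 : J.spanFinrank ≤ rs.length := by
    classical
    have hfin : {r | r ∈ rs}.Finite := List.finite_toSet rs
    refine (Submodule.spanFinrank_span_le_ncard_of_finite hfin).trans ?_
    have : {r | r ∈ rs} = ((rs.toFinset : Finset B') : Set B') := by
      ext r; simp
    rw [this, Set.ncard_coe_finset]
    exact List.toFinset_card_le rs
  omega

/-- the main theorem for a local ring `C ≅ B/I` -/
theorem main (C : Type u) [CommRing C] [IsLocalRing C]
    (B : Type u) [CommRing B] [IsRegularLocalRing B] (I : Ideal B) (φ : C ≃+* B ⧸ I)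
    (d e : ℕ) (hd : ringKrullDim C = d) (he : ringKrullDim B = e) :
    (e : ℤ) - (I.spanFinrank : ℤ) ≤ (d : ℤ) ∧
      ((e : ℤ) - (I.spanFinrank : ℤ) = (d : ℤ) ↔ IsRegQuot C) := by
  haveI : Nontrivial (B ⧸ I) := φ.injective.nontrivial
  have hI : I ≠ ⊤ := Ideal.Quotient.nontrivial_iff.mp inferInstance
  have hIle : I ≤ maximalIdeal B := le_maximalIdeal hI
  have hdI : ringKrullDim (B ⧸ I) = d := by
    rw [← ringKrullDim_eq_of_ringEquiv φ, hd]
  have hK := ringKrullDim_le_ringKrullDim_quotient_add_spanFinrank I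
    (by rw [IsLocalRing.ringJacobson_eq_maximalIdeal]; exact hIle)
  rw [hdI, he] at hK
  have hK' : e ≤ d + I.spanFinrank := by exact_mod_cast hK
  refine ⟨by omega, ⟨fun h => ?_, fun h => ?_⟩⟩
  · classical
    have hfg : I.FG := IsNoetherian.noetherian _
    obtain ⟨s, hs, hspan⟩ := Submodule.FG.exists_span_finset_card_eq_spanFinrank hfg
    have hset : {r | r ∈ s.toList} = (s : Set B) := by
      ext r; simp
    have hrs : Ideal.ofList s.toList = I := by
      rw [Ideal.ofList, hset]
      exact hspan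
    have hdim : ((s.toList.length : ℕ) : WithBot ℕ∞) + ringKrullDim (B ⧸ I) = ringKrullDim B := by
      rw [hdI, he, Finset.length_toList, hs]
      have : I.spanFinrank + d = e := by omega
      exact_mod_cast this
    have hreg := CT6.isRegular_of_dim B I hI s.toList hrs hdim
    refine ⟨B, inferInstance, inferInstance, s.toList, ?_, hreg, ⟨φ.trans (Ideal.quotEquivOfEq ?_)⟩⟩
    · intro r hr
      apply hIle
      rw [← hrs]
      exact Ideal.subset_span hr
    · exact hrs.symm
  · have := sub_spanFinrank_eq_of_isRegQuot C B I φ d e hd he h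
    omega

end Groth.Agent.Helper3.CI4
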