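import Mathlib
import Groth.Agent.Lib.Helper3.CI4

/-!
# Kernels of regular presentations of complete intersections (helper3)
-/

set_option autoImplicit false
set_option linter.style.haveILetI false

noncomputable section

namespace Groth.Agent.Helper3.CI5

open IsLocalRing RingTheory.Sequence Groth.Agent.Helper3.CI4

universe u

/-- an ideal of a regular local ring with `μ(I) + dim B/I = dim B` is generated by a regular
sequence -/
theorem exists_regular_of_dim_eq (B : Type u) [CommRing B] [IsRegularLocalRing B] (I : Ideal B)
    (hI : I ≠ ⊤) (d e : ℕ) (hdI : ringKrullDim (B ⧸ I) = d) (he : ringKrullDim B = e)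
    (h : I.spanFinrank + d = e) :
    ∃ rs : List B, Ideal.ofList rs = I ∧ IsRegular B rs := by
  classical
  have hfg : I.FG := IsNoetherian.noetherian _
  obtain ⟨s, hs, hspan⟩ := Submodule.FG.exists_span_finset_card_eq_spanFinrank hfg
  have hset : {r | r ∈ s.toList} = (s : Set B) := by
    ext r; simp
  have hrs : Ideal.ofList s.toList = I := by
    rw [Ideal.ofList, hset]
    exact hspan
  have hdim : ((s.toList.length : ℕ) : WithBot ℕ∞) + ringKrullDim (B ⧸ I) = ringKrullDim B := by
    rw [hdI, he, Finset.length_toList, hs]
    exact_mod_cast h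
  exact ⟨s.toList, hrs, CT6.isRegular_of_dim B I hI s.toList hrs hdim⟩

/-- kernels of surjections from regular local rings onto a "regular quotient" -/
theorem exists_regular_ker (C : Type u) [CommRing C] [IsLocalRing C] [IsNoetherianRing C]
    (hC : IsRegQuot C) (R : Type u) [CommRing R] [IsRegularLocalRing R] (f : R →+* C)
    (hf : Function.Surjective f) :
    ∃ rs : List R, Ideal.ofList rs = RingHom.ker f ∧ IsRegular R rs := by
  obtain ⟨d, hd⟩ := exists_nat_dim C
  obtain ⟨e, he⟩ := exists_nat_dim R
  let φ : C ≃+* R ⧸ RingHom.ker f := (RingHom.quotientKerEquivOfSurjective hf).symm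
  have h := sub_spanFinrank_eq_of_isRegQuot C R (RingHom.ker f) φ d e hd he hC
  have hdI : ringKrullDim (R ⧸ RingHom.ker f) = d := by
    rw [← ringKrullDim_eq_of_ringEquiv φ, hd]
  exact exists_regular_of_dim_eq R _ (RingHom.ker_ne_top f) d e hdI he h

end Groth.Agent.Helper3.CI5
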