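import Mathlib
import Groth.Agent.Lib.Lead.Flat7
import Groth.Agent.Lib.Lead.RLR2

/-!
# Completion along a section with regular closed fibre, part 1: the local core (helper3)

* `exists_gens_of_span`: in a regular local ring `F` of dimension `r`, any generating set of the
  maximal ideal contains `r` elements generating the maximal ideal.
* `exists_regular_gens`: `A → L` flat local homomorphism of Noetherian local rings with a retraction
  `qL : L → A`, whose closed fibre `L/𝔪L ≅ F` is regular local: the kernel of `qL` is generated by a
  regular sequence, which may be picked inside any given generating set.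
-/

set_option autoImplicit false
set_option linter.style.haveILetI false
set_option linter.unusedSectionVars false

universe u

open IsLocalRing TensorProduct RingTheory.Sequence

namespace Groth.Agent.Helper3.RegSec

theorem exists_gens_of_span (F : Type u) [CommRing F] [IsRegularLocalRing F] (G : Set F)
    (hG : Ideal.span G = maximalIdeal F) :
    ∃ (r : ℕ) (g : Fin r → F), (∀ i, g i ∈ G) ∧ Ideal.span (Set.range g) = maximalIdeal F ∧
      ringKrullDim F = r := by
  classical
  let κ := ResidueField F
  let s : Set (maximalIdeal F) := {x | (x : F) ∈ G}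
  have himg : (Submodule.subtype (maximalIdeal F)) '' s = G := by
    ext y
    constructor
    · rintro ⟨x, hx, rfl⟩
      exact hx
    · intro hy
      have hy' : y ∈ maximalIdeal F := by
        rw [← hG]; exact Ideal.subset_span hy
      exact ⟨⟨y, hy'⟩, hy, rfl⟩
  have hs : Submodule.span F s = ⊤ := by
    apply Submodule.map_injective_of_injective (Submodule.injective_subtype (maximalIdeal F))
    rw [Submodule.map_span, himg, Submodule.map_top, Submodule.range_subtype]
    exact hG
  let SV : Set (CotangentSpace F) := (maximalIdeal F).toCotangent '' s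
  have hSV : Submodule.span κ SV = ⊤ := CotangentSpace.span_image_eq_top_iff.mpr hs
  obtain ⟨r, hr⟩ : ∃ r, r = Module.finrank κ (Submodule.span κ SV) := ⟨_, rfl⟩
  have hex := Submodule.exists_fun_fin_finrank_span_eq κ SV
  rw [← hr] at hex
  obtain ⟨v, hv_mem, hv_span, -⟩ := hex
  have hrdim : ringKrullDim F = r := by
    rw [hr, hSV, finrank_top]
    exact ((IsRegularLocalRing.iff_finrank_cotangentSpace F).mp inferInstance).symm
  have hch : ∀ i, ∃ x : maximalIdeal F, x ∈ s ∧ (maximalIdeal F).toCotangent x = v i :=
    fun i => hv_mem i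
  choose x hxs hxv using hch
  refine ⟨r, fun i => (x i : F), fun i => hxs i, ?_, hrdim⟩
  have h1 : (maximalIdeal F).toCotangent '' (Set.range x) = Set.range v := by
    rw [← Set.range_comp]
    congr 1
    ext i
    exact hxv i
  have h2 : Submodule.span F (Set.range x) = ⊤ := by
    apply CotangentSpace.span_image_eq_top_iff.mp
    rw [h1, hv_span, hSV]
  have h3 := congrArg (Submodule.map (Submodule.subtype (maximalIdeal F))) h2
  rw [Submodule.map_span, Submodule.map_top, Submodule.range_subtype, ← Set.range_comp] at h3
  exact h3

section Core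

variable {A L F : Type u} [CommRing A] [CommRing L] [CommRing F] [IsLocalRing A]
  [IsNoetherianRing A] [IsLocalRing L] [IsNoetherianRing L] [Algebra A L]
  [IsLocalHom (algebraMap A L)] [Module.Flat A L] [IsRegularLocalRing F]
  (qL : L →ₐ[A] A) (ψ : L →+* F) (hψ : Function.Surjective ψ)
  (hker : RingHom.ker ψ = (maximalIdeal A).map (algebraMap A L))

include qL in
theorem sub_mem_ker (x : L) : x - algebraMap A L (qL x) ∈ RingHom.ker qL := by
  rw [RingHom.mem_ker, map_sub, AlgHom.commutes, Algebra.algebraMap_self_apply, sub_self]

theorem ker_le_maximalIdeal : RingHom.ker qL ≤ maximalIdeal L := by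
  apply IsLocalRing.le_maximalIdeal
  intro h
  have : (1 : L) ∈ RingHom.ker qL := by rw [h]; trivial
  rw [RingHom.mem_ker, map_one] at this
  exact one_ne_zero this

theorem maximalIdeal_eq : maximalIdeal L =
    RingHom.ker qL ⊔ (maximalIdeal A).map (algebraMap A L) := by
  apply le_antisymm
  · intro x hx
    have h1 := sub_mem_ker qL x
    have h2 : qL x ∈ maximalIdeal A := by
      by_contra hcon
      have hu : IsUnit (qL x) := by
        by_contra hnu
        exact hcon ((IsLocalRing.mem_maximalIdeal _).mpr hnu)
      have hu' : IsUnit (algebraMap A L (qL x)) := hu.map _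
      have hx' : x = algebraMap A L (qL x) + (x - algebraMap A L (qL x)) := by ring
      have hxu : IsUnit x := by
        by_contra hnu
        have h3 : algebraMap A L (qL x) ∈ maximalIdeal L := by
          have : algebraMap A L (qL x) = x - (x - algebraMap A L (qL x)) := by ring
          rw [this]
          exact Ideal.sub_mem _ hx (ker_le_maximalIdeal qL h1)
        exact ((IsLocalRing.mem_maximalIdeal _).mp h3) hu'
      exact ((IsLocalRing.mem_maximalIdeal _).mp hx) hxu
    have hx' : x = (x - algebraMap A L (qL x)) + algebraMap A L (qL x) := by ring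
    rw [hx']
    exact Ideal.add_mem _ (Ideal.mem_sup_left h1)
      (Ideal.mem_sup_right (Ideal.mem_map_of_mem _ h2))
  · apply sup_le (ker_le_maximalIdeal qL)
    exact Ideal.map_le_iff_le_comap.mpr (IsLocalRing.maximalIdeal_comap (algebraMap A L)).ge

/-- `𝔪L ∩ ker qL ⊆ 𝔪 · ker qL`. -/
theorem mem_mul_of_mem_map_of_mem_ker (y : L)
    (hy : y ∈ (maximalIdeal A).map (algebraMap A L)) (hy' : y ∈ RingHom.ker qL) :
    y ∈ (maximalIdeal A).map (algebraMap A L) * RingHom.ker qL := by
  -- the set of `y ∈ 𝔪L` with `y - f (q y) ∈ 𝔪 · ker q`
  have key : ∀ y ∈ (maximalIdeal A).map (algebraMap A L),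
      y - algebraMap A L (qL y) ∈ (maximalIdeal A).map (algebraMap A L) * RingHom.ker qL := by
    intro y hy
    have hy2 : y ∈ Ideal.span (algebraMap A L '' (maximalIdeal A : Set A)) := hy
    refine Submodule.span_induction
      (p := fun y _ => y - algebraMap A L (qL y) ∈
        (maximalIdeal A).map (algebraMap A L) * RingHom.ker qL) ?_ ?_ ?_ ?_ hy2
    · rintro _ ⟨a, ha, rfl⟩
      rw [AlgHom.commutes, Algebra.algebraMap_self_apply, sub_self]
      exact Submodule.zero_mem _
    · rw [map_zero, map_zero, sub_zero]; exact Submodule.zero_mem _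
    · intro u v _ _ hu hv
      have : u + v - algebraMap A L (qL (u + v)) =
          (u - algebraMap A L (qL u)) + (v - algebraMap A L (qL v)) := by
        rw [map_add, map_add]; ring
      rw [this]
      exact Submodule.add_mem _ hu hv
    · intro c u hu ih
      rw [smul_eq_mul]
      have hu' : u ∈ (maximalIdeal A).map (algebraMap A L) := hu
      have : c * u - algebraMap A L (qL (c * u)) =
          u * (c - algebraMap A L (qL c)) +
            algebraMap A L (qL c) * (u - algebraMap A L (qL u)) := by
        rw [map_mul, map_mul]; ring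
      rw [this]
      apply Ideal.add_mem
      · exact Ideal.mul_mem_mul hu' (sub_mem_ker qL c)
      · exact Ideal.mul_mem_left _ _ ih
  have := key y hy
  rw [(RingHom.mem_ker).mp hy', map_zero, sub_zero] at this
  exact this

include hψ hker in
theorem exists_regular_gens (G : Set L) (hG : Ideal.span G = RingHom.ker qL) :
    ∃ (r : ℕ) (g : Fin r → L), (∀ i, g i ∈ G) ∧ Ideal.span (Set.range g) = RingHom.ker qL ∧
      IsWeaklyRegular L (List.ofFn g) := by
  classical
  have hmaxF : Ideal.span (ψ '' G) = maximalIdeal F := by
    rw [← Ideal.map_span, hG, ← map_maximalIdeal_of_surjective ψ hψ, maximalIdeal_eq qL,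
      Ideal.map_sup, ← hker, (Ideal.map_eq_bot_iff_le_ker ψ).mpr le_rfl, sup_bot_eq]
  obtain ⟨r, g', hg'G, hg'span, hdim⟩ := exists_gens_of_span F (ψ '' G) hmaxF
  choose g hgG hgψ using hg'G
  refine ⟨r, g, hgG, ?_, ?_⟩
  · -- Nakayama
    apply le_antisymm
    · rw [Ideal.span_le]
      rintro _ ⟨i, rfl⟩
      rw [← hG]
      exact Ideal.subset_span (hgG i)
    · apply Submodule.le_of_le_smul_of_le_jacobson_bot
        (I := (maximalIdeal A).map (algebraMap A L)) (IsNoetherian.noetherian _)
      · rw [IsLocalRing.jacobson_eq_maximalIdeal _ bot_ne_top]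
        exact Ideal.map_le_iff_le_comap.mpr (IsLocalRing.maximalIdeal_comap (algebraMap A L)).ge
      · intro x hx
        -- ψ x ∈ maximalIdeal F = span (ψ ∘ g)
        have h1 : ψ x ∈ Ideal.span (Set.range g') := by
          rw [hg'span, ← map_maximalIdeal_of_surjective ψ hψ]
          exact Ideal.mem_map_of_mem _ (ker_le_maximalIdeal qL hx)
        have h2 : Set.range g' = ψ '' (Set.range g) := by
          rw [← Set.range_comp]
          congr 1
          ext i
          exact (hgψ i).symm
        rw [h2, ← Ideal.map_span] at h1
        obtain ⟨z, hz, hzx⟩ := (Ideal.mem_map_iff_of_surjective ψ hψ).mp h1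
        have h3 : x - z ∈ RingHom.ker ψ := by
          rw [RingHom.mem_ker, map_sub, hzx, sub_self]
        rw [hker] at h3
        have hzker : z ∈ RingHom.ker qL := by
          have : Ideal.span (Set.range g) ≤ RingHom.ker qL := by
            rw [Ideal.span_le]
            rintro _ ⟨i, rfl⟩
            rw [← hG]
            exact Ideal.subset_span (hgG i)
          exact this hz
        have h4 := mem_mul_of_mem_map_of_mem_ker qL (x - z) h3 (Ideal.sub_mem _ hx hzker)
        have hx' : x = z + (x - z) := by ring
        rw [hx']
        exact Submodule.add_mem_sup hz h4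
  · -- regularity
    have hreg := Groth.Agent.Lead.RLR.isRegular_ofFn hdim g' hg'span
    letI algLF : Algebra L F := ψ.toAlgebra
    have h1 : IsWeaklyRegular F (List.ofFn g) := by
      rw [← isWeaklyRegular_map_algebraMap_iff F F (List.ofFn g), List.map_ofFn]
      have : (algebraMap L F) ∘ g = g' := by
        ext i; exact hgψ i
      rw [this]
      exact hreg.toIsWeaklyRegular
    have hsurj : Function.Surjective (Algebra.linearMap L F) := hψ
    have hk : LinearMap.ker (Algebra.linearMap L F) =
        ((maximalIdeal A).map (algebraMap A L)) • (⊤ : Submodule L L) := by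
      rw [smul_eq_mul, Ideal.mul_top, ← hker]
      rfl
    let e : F ≃ₗ[L] L ⊗[A] (A ⧸ maximalIdeal A) :=
      ((Algebra.linearMap L F).quotKerEquivOfSurjective hsurj).symm ≪≫ₗ
        Submodule.quotEquivOfEq _ _ hk ≪≫ₗ
        Groth.Agent.Lead.FlatDepth.fibreEquiv (S := L) (maximalIdeal A) L
    have h2 : IsWeaklyRegular (L ⊗[A] (A ⧸ maximalIdeal A)) (List.ofFn g) :=
      (e.isWeaklyRegular_congr _).mp h1
    exact Groth.Agent.Lead.FlatDepth.isWeaklyRegular_of_fibre (R := A) (S := L) (List.ofFn g) L h2

end Core

end Groth.Agent.Helper3.RegSec
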