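import Mathlib
import Groth.Agent.Lib.Helper3.RegSec1

/-!
# Completion along a section with regular closed fibre, part 2: localizing at the section (helper3)

`q : B → A` a retraction of the `A`-algebra `B` (`A` local), `P₀ = q⁻¹(𝔪)`, `L = B_{P₀}`.
* `qLoc`: the induced retraction `L → A`; `ker_qLoc`, `isLocalHom_algebraMap`.
* `ker_localRingHom`: kernel of the map on localizations induced by a surjection.
* `exists_regular_gens_global`: elements of `ker q` forming a regular sequence in `L` generating
  `ker q · L`.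
-/

set_option autoImplicit false
set_option linter.style.haveILetI false
set_option linter.unusedSectionVars false

universe u

open IsLocalRing TensorProduct RingTheory.Sequence

namespace Groth.Agent.Helper3.RegSec

theorem ker_localRingHom {R S : Type u} [CommRing R] [CommRing S] (f : R →+* S)
    (hf : Function.Surjective f) (P : Ideal S) [P.IsPrime] (I : Ideal R) [I.IsPrime]
    (hI : I = P.comap f) :
    RingHom.ker (Localization.localRingHom I P f hI) =
      (RingHom.ker f).map (algebraMap R (Localization.AtPrime I)) := by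
  apply le_antisymm
  · intro x hx
    obtain ⟨b, s, rfl⟩ := IsLocalization.exists_mk'_eq I.primeCompl x
    rw [RingHom.mem_ker, Localization.localRingHom_mk', IsLocalization.mk'_eq_zero_iff] at hx
    obtain ⟨⟨t, ht⟩, htb⟩ := hx
    obtain ⟨t', rfl⟩ := hf t
    rw [IsLocalization.mk'_mem_map_algebraMap_iff I.primeCompl]
    refine ⟨t', ?_, ?_⟩
    · show t' ∉ I
      rw [hI]
      exact ht
    · rw [RingHom.mem_ker, map_mul]
      exact htb
  · rw [Ideal.map_le_iff_le_comap]
    intro x hx
    rw [Ideal.mem_comap, RingHom.mem_ker, Localization.localRingHom_to_map,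
      (RingHom.mem_ker).mp hx, map_zero]

section Loc

variable {A B : Type u} [CommRing A] [IsLocalRing A] [CommRing B] [Algebra A B]
  (q : B →ₐ[A] A) (P₀ : Ideal B) [P₀.IsPrime]
  (hP₀ : P₀ = (maximalIdeal A).comap (q : B →+* A))

include hP₀ in
theorem isUnit_q (y : P₀.primeCompl) : IsUnit ((q : B →+* A) y) := by
  obtain ⟨y, hy⟩ := y
  have h : y ∉ P₀ := hy
  by_contra hnu
  apply h
  rw [hP₀, Ideal.mem_comap]
  exact (IsLocalRing.mem_maximalIdeal _).mpr hnu

/-- the retraction `B_{P₀} → A` -/
noncomputable def qLoc : Localization.AtPrime P₀ →ₐ[A] A :=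
  { IsLocalization.lift (M := P₀.primeCompl) (g := (q : B →+* A)) (isUnit_q q P₀ hP₀) with
    commutes' := fun a => by
      show IsLocalization.lift (M := P₀.primeCompl) (g := (q : B →+* A)) (isUnit_q q P₀ hP₀)
        (algebraMap A (Localization.AtPrime P₀) a) = a
      rw [IsScalarTower.algebraMap_apply A B (Localization.AtPrime P₀), IsLocalization.lift_eq]
      exact q.commutes a }

theorem qLoc_algebraMap (b : B) :
    qLoc q P₀ hP₀ (algebraMap B (Localization.AtPrime P₀) b) = q b :=
  IsLocalization.lift_eq (M := P₀.primeCompl) (g := (q : B →+* A)) (isUnit_q q P₀ hP₀) b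

theorem qLoc_mk' (b : B) (s : P₀.primeCompl) :
    qLoc q P₀ hP₀ (IsLocalization.mk' (Localization.AtPrime P₀) b s) * q s = q b := by
  rw [← qLoc_algebraMap q P₀ hP₀ (s : B), ← map_mul, IsLocalization.mk'_spec, qLoc_algebraMap]

theorem ker_qLoc : RingHom.ker (qLoc q P₀ hP₀) =
    (RingHom.ker q).map (algebraMap B (Localization.AtPrime P₀)) := by
  apply le_antisymm
  · intro x hx
    obtain ⟨b, s, rfl⟩ := IsLocalization.exists_mk'_eq P₀.primeCompl x
    have h1 := qLoc_mk' q P₀ hP₀ b s
    rw [(RingHom.mem_ker).mp hx, zero_mul] at h1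
    rw [IsLocalization.mk'_mem_map_algebraMap_iff P₀.primeCompl]
    refine ⟨1, Submonoid.one_mem _, ?_⟩
    rw [one_mul, RingHom.mem_ker]
    exact h1.symm
  · rw [Ideal.map_le_iff_le_comap]
    intro x hx
    rw [Ideal.mem_comap, RingHom.mem_ker, qLoc_algebraMap]
    exact hx

include q hP₀ in
theorem isLocalHom_algebraMap : IsLocalHom (algebraMap A (Localization.AtPrime P₀)) := by
  constructor
  intro a ha
  have := ha.map (qLoc q P₀ hP₀)
  rwa [AlgHom.commutes] at this

end Loc

section Global

variable {A B F : Type u} [CommRing A] [IsLocalRing A] [IsNoetherianRing A] [CommRing B]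
  [IsNoetherianRing B] [Algebra A B] [CommRing F] [IsRegularLocalRing F]
  (q : B →ₐ[A] A) (P₀ : Ideal B) [P₀.IsPrime]
  (hP₀ : P₀ = (maximalIdeal A).comap (q : B →+* A))
  [Module.Flat A (Localization.AtPrime P₀)]
  (ψ : Localization.AtPrime P₀ →+* F) (hψ : Function.Surjective ψ)
  (hker : RingHom.ker ψ = (maximalIdeal A).map (algebraMap A (Localization.AtPrime P₀)))

include hP₀ hψ hker in
theorem exists_regular_gens_global :
    ∃ (r : ℕ) (h : Fin r → B), (∀ i, h i ∈ RingHom.ker q) ∧
      Ideal.span (Set.range (algebraMap B (Localization.AtPrime P₀) ∘ h)) =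
        (RingHom.ker q).map (algebraMap B (Localization.AtPrime P₀)) ∧
      IsWeaklyRegular (Localization.AtPrime P₀)
        (List.ofFn (algebraMap B (Localization.AtPrime P₀) ∘ h)) := by
  haveI := isLocalHom_algebraMap q P₀ hP₀
  have hG : Ideal.span (algebraMap B (Localization.AtPrime P₀) '' (RingHom.ker q : Set B)) =
      RingHom.ker (qLoc q P₀ hP₀) := by
    rw [ker_qLoc]; rfl
  obtain ⟨r, g, hgG, hgspan, hreg⟩ :=
    exists_regular_gens (qLoc q P₀ hP₀) ψ hψ hker _ hG
  choose h hh hhg using hgG
  have hcomp : algebraMap B (Localization.AtPrime P₀) ∘ h = g := by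
    ext i; exact hhg i
  refine ⟨r, h, hh, ?_, ?_⟩
  · rw [hcomp, hgspan, ker_qLoc]
  · rw [hcomp]; exact hreg

end Global

end Groth.Agent.Helper3.RegSec
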