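import Mathlib
import Groth.Agent.Lib.Helper17.AR5

/-!
Helper3: a ring map inducing bijections on all quotients `Q/I^k → P/J^k` induces an isomorphism of
adic completions.
-/

namespace Groth.Agent.Helper3.ComplIso

open Groth.Agent.Helper17

universe u

variable {Q P : Type u} [CommRing Q] [CommRing P] (I : Ideal Q) (J : Ideal P) (g : Q →+* P)
  (hg : I.map g ≤ J)

include hg in
theorem mapRingHom_injective
    (hinj : ∀ k, Function.Injective (Ideal.quotientMap (J ^ k) g (AR.pow_le_comap I J g hg k))) :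
    Function.Injective (AR.mapRingHom I J g hg) := by
  rw [injective_iff_map_eq_zero]
  intro x hx
  apply AdicCompletion.ext_evalₐ
  intro k
  have h := congrArg (AdicCompletion.evalₐ J k) hx
  rw [AR.evalₐ_mapRingHom, map_zero] at h
  rw [map_zero]
  exact (injective_iff_map_eq_zero _).mp (hinj k) _ h

include hg in
theorem mapRingHom_surjective
    (hbij : ∀ k, Function.Bijective (Ideal.quotientMap (J ^ k) g (AR.pow_le_comap I J g hg k))) :
    Function.Surjective (AR.mapRingHom I J g hg) := by
  classical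
  let e : ∀ k, (Q ⧸ I ^ k) ≃+* (P ⧸ J ^ k) := fun k =>
    RingEquiv.ofBijective (Ideal.quotientMap (J ^ k) g (AR.pow_le_comap I J g hg k)) (hbij k)
  have he : ∀ k x, e k x = Ideal.quotientMap (J ^ k) g (AR.pow_le_comap I J g hg k) x :=
    fun k x => rfl
  have hnat : ∀ {m n : ℕ} (hle : m ≤ n) (z : Q ⧸ I ^ n),
      e m (Ideal.Quotient.factorPow I hle z) = Ideal.Quotient.factorPow J hle (e n z) := by
    intro m n hle z
    obtain ⟨q, rfl⟩ := Ideal.Quotient.mk_surjective z
    rw [he, he]
    simp only [Ideal.Quotient.factor_mk, Ideal.quotientMap_mk]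
  have hcompat : ∀ {m n : ℕ} (hle : m ≤ n),
      (Ideal.Quotient.factorPow I hle).comp
        (((e n).symm : (P ⧸ J ^ n) →+* (Q ⧸ I ^ n)).comp (AdicCompletion.evalₐ J n).toRingHom) =
      ((e m).symm : (P ⧸ J ^ m) →+* (Q ⧸ I ^ m)).comp (AdicCompletion.evalₐ J m).toRingHom := by
    intro m n hle
    refine RingHom.ext fun y => ?_
    simp only [RingHom.comp_apply, AlgHom.toRingHom_eq_coe, RingHom.coe_coe]
    apply (e m).injective
    rw [hnat hle, RingEquiv.apply_symm_apply, RingEquiv.apply_symm_apply]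
    obtain ⟨c, rfl⟩ := AdicCompletion.mk_surjective J P y
    simp only [AdicCompletion.evalₐ_mk, Ideal.Quotient.factor_mk]
    exact AdicCompletion.Ideal.mk_eq_mk J hle c
  let ψ : AdicCompletion J P →+* AdicCompletion I Q :=
    AdicCompletion.liftRingHom I
      (fun k => ((e k).symm : (P ⧸ J ^ k) →+* (Q ⧸ I ^ k)).comp
        (AdicCompletion.evalₐ J k).toRingHom)
      (fun hle => hcompat hle)
  intro y
  refine ⟨ψ y, ?_⟩
  apply AdicCompletion.ext_evalₐ
  intro k
  rw [AR.evalₐ_mapRingHom]
  have : AdicCompletion.evalₐ I k (ψ y) = (e k).symm (AdicCompletion.evalₐ J k y) := by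
    show AdicCompletion.evalₐ I k (AdicCompletion.liftRingHom I _ _ y) = _
    rw [AdicCompletion.evalₐ_liftRingHom I _ (fun hle => hcompat hle)]
    rfl
  rw [this, ← he, RingEquiv.apply_symm_apply]

include hg in
theorem nonempty_ringEquiv
    (hbij : ∀ k, Function.Bijective (Ideal.quotientMap (J ^ k) g (AR.pow_le_comap I J g hg k))) :
    Nonempty (AdicCompletion I Q ≃+* AdicCompletion J P) :=
  ⟨RingEquiv.ofBijective (AR.mapRingHom I J g hg)
    ⟨mapRingHom_injective I J g hg fun k => (hbij k).1, mapRingHom_surjective I J g hg hbij⟩⟩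

end Groth.Agent.Helper3.ComplIso
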