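import Mathlib
import Groth.Agent.Lib.Helper3.CI5

/-!
# Descent of the number of generators along a faithfully flat map (helper3)
-/

set_option autoImplicit false
set_option linter.style.haveILetI false

noncomputable section

namespace Groth.Agent.Helper3.CI6

open IsLocalRing TensorProduct

universe u

/-- extracting a minimal generating set from a generating set over a local ring -/
theorem exists_subset_span_eq {S M : Type*} [CommRing S] [IsLocalRing S] [AddCommGroup M]
    [Module S M] (N : Submodule S M) (hN : N.FG) (G : Set M) (hG : Submodule.span S G = N) :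
    ∃ G' ⊆ G, G'.Finite ∧ G'.ncard ≤ N.spanFinrank ∧ Submodule.span S G' = N := by
  classical
  haveI : Module.Finite S N := Module.Finite.iff_fg.mpr hN
  let k := ResidueField S
  let Gt : Set N := {x | (x : M) ∈ G}
  have hGt : Submodule.span S Gt = ⊤ := by
    apply Submodule.map_injective_of_injective N.injective_subtype
    rw [Submodule.map_span, Submodule.map_top, Submodule.range_subtype]
    have : N.subtype '' Gt = G := by
      ext m
      constructor
      · rintro ⟨x, hx, rfl⟩
        exact hx
      · intro hm
        exact ⟨⟨m, hG ▸ Submodule.subset_span hm⟩, hm, rfl⟩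
    rw [this, hG]
  let T : Set (k ⊗[S] N) := (TensorProduct.mk S k N 1) '' Gt
  have hT : Submodule.span k T = ⊤ := by
    have h1 : (Submodule.span S Gt).map (TensorProduct.mk S k N 1) = ⊤ := by
      rw [IsLocalRing.map_tensorProduct_mk_eq_top]
      exact hGt
    rw [Submodule.map_span] at h1
    rw [← Submodule.restrictScalars_eq_top_iff S k,
      Submodule.restrictScalars_span S k Ideal.Quotient.mk_surjective]
    exact h1
  obtain ⟨b, hbT, hbspan, hbli⟩ := exists_linearIndependent k T
  have hbtop : ⊤ ≤ Submodule.span k (Set.range (Subtype.val : b → k ⊗[S] N)) := by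
    rw [Subtype.range_coe, hbspan, hT]
  let bas : Module.Basis b k (k ⊗[S] N) := Module.Basis.mk hbli hbtop
  haveI : Fintype b := FiniteDimensional.fintypeBasisIndex bas
  have hch : ∀ i : b, ∃ x : N, (x : M) ∈ G ∧ (1 : k) ⊗ₜ[S] x = (i : k ⊗[S] N) := by
    intro i
    obtain ⟨x, hx, hxi⟩ := hbT i.2
    exact ⟨x, hx, hxi⟩
  choose f hfG hf using hch
  have hspan : Submodule.span S (Set.range f) = ⊤ :=
    IsLocalRing.span_eq_top_of_tmul_eq_basis f bas (fun i => by
      rw [hf i, Module.Basis.mk_apply])
  refine ⟨Set.range (fun i => (f i : M)), ?_, Set.finite_range _, ?_, ?_⟩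
  · rintro _ ⟨i, rfl⟩
    exact hfG i
  · have h1 : (Set.range (fun i => (f i : M))).ncard ≤ Nat.card b := by
      have := Set.ncard_image_le (f := fun i => (f i : M)) (Set.finite_univ (α := b))
      rwa [Set.image_univ, Set.ncard_univ] at this
    refine h1.trans (le_of_eq ?_)
    rw [← TensorProduct.spanFinrank_top_eq_of_residueField N hN,
      ← Module.finrank_eq_spanFinrank_of_free, Module.finrank_eq_nat_card_basis bas]
  · have : Set.range (fun i => (f i : M)) = N.subtype '' Set.range f := by
      rw [← Set.range_comp]
      rfl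
    rw [this, ← Submodule.map_span, hspan, Submodule.map_top, Submodule.range_subtype]

/-- the number of generators does not drop along a faithfully flat map to a local ring -/
theorem spanFinrank_le_map {R S : Type*} [CommRing R] [CommRing S] [IsLocalRing S] [Algebra R S]
    [Module.FaithfullyFlat R S] (I : Ideal R) (hfg : I.FG) :
    I.spanFinrank ≤ (I.map (algebraMap R S)).spanFinrank := by
  classical
  have hfg' : (I.map (algebraMap R S)).FG := hfg.map _
  obtain ⟨G', hG'sub, hG'fin, hG'card, hG'span⟩ :=
    exists_subset_span_eq (I.map (algebraMap R S)) hfg' ((algebraMap R S) '' (I : Set R)) rfl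
  have hch : ∀ g : G', ∃ x ∈ I, algebraMap R S x = g := fun g => hG'sub g.2
  choose t htI ht using hch
  haveI : Fintype G' := hG'fin.fintype
  let T : Set R := Set.range t
  have hTfin : T.Finite := Set.finite_range t
  have hTcard : T.ncard ≤ G'.ncard := by
    have := Set.ncard_image_le (f := t) (Set.finite_univ (α := G'))
    rw [Set.image_univ, Set.ncard_univ] at this
    refine this.trans (le_of_eq ?_)
    rw [Set.ncard_eq_toFinset_card', Nat.card_eq_fintype_card]
    simp
  have hTle : Ideal.span T ≤ I := Ideal.span_le.mpr (by rintro _ ⟨g, rfl⟩; exact htI g)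
  have hmap : (Ideal.span T).map (algebraMap R S) = I.map (algebraMap R S) := by
    rw [Ideal.map_span]
    have : (algebraMap R S) '' T = G' := by
      ext s
      constructor
      · rintro ⟨_, ⟨g, rfl⟩, rfl⟩
        rw [ht g]; exact g.2
      · intro hs
        exact ⟨t ⟨s, hs⟩, ⟨_, rfl⟩, ht ⟨s, hs⟩⟩
    rw [this]
    exact hG'span
  have heq : Ideal.span T = I := by
    rw [← Ideal.comap_map_eq_self_of_faithfullyFlat (B := S) (Ideal.span T), hmap,
      Ideal.comap_map_eq_self_of_faithfullyFlat]
  calc I.spanFinrank = (Ideal.span T).spanFinrank := by rw [heq]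
    _ ≤ T.ncard := Submodule.spanFinrank_span_le_ncard_of_finite hTfin
    _ ≤ G'.ncard := hTcard
    _ ≤ _ := hG'card

end Groth.Agent.Helper3.CI6
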