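import Mathlib
import Groth.Agent.Lib.Helper3.CI6
import Groth.Agent.Lib.Helper5.CompReg2
import Groth.Agent.Lib.Helper1.FC2

/-!
# Quotients of regular local rings which are complete intersections (helper3)
-/

set_option autoImplicit false
set_option linter.style.haveILetI false

noncomputable section

namespace Groth.Agent.Helper3.CI7

open IsLocalRing RingTheory.Sequence Groth.Agent.Helper3.CI4

universe u

theorem main {R : Type u} [CommRing R] [IsRegularLocalRing R]
    (I : Ideal R) (hI : I ≠ ⊤) [IsLocalRing (R ⧸ I)] :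
    IsRegQuot (AdicCompletion (maximalIdeal (R ⧸ I)) (R ⧸ I)) ↔
      ∃ rs : List R, Ideal.ofList rs = I ∧ RingTheory.Sequence.IsRegular R rs := by
  classical
  haveI : Nontrivial (R ⧸ I) := inferInstance
  have hm : maximalIdeal R ≠ ⊤ := Ideal.IsPrime.ne_top'
  haveI hregc : IsRegularLocalRing (AdicCompletion (maximalIdeal R) R) :=
    (Groth.Agent.Helper5.CompReg.isRegularLocalRing_iff_adicCompletion _ _ hm).1 inferInstance
  obtain ⟨e1⟩ := Groth.Agent.Helper1.FC.nonempty_cpl_quotient_equiv R I
  constructor
  · intro hCI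
    obtain ⟨d, hd⟩ := exists_nat_dim (R ⧸ I)
    obtain ⟨e, he⟩ := exists_nat_dim R
    have hd' : ringKrullDim (AdicCompletion (maximalIdeal (R ⧸ I)) (R ⧸ I)) = d := by
      rw [Groth.Agent.Helper1.ringKrullDim_adicCompletion_eq, hd]
    have he' : ringKrullDim (AdicCompletion (maximalIdeal R) R) = e := by
      rw [Groth.Agent.Helper1.ringKrullDim_adicCompletion_eq, he]
    have h1 := sub_spanFinrank_eq_of_isRegQuot _ (AdicCompletion (maximalIdeal R) R)
      (I.map (algebraMap R (AdicCompletion (maximalIdeal R) R))) e1.symm d e hd' he' hCI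
    haveI : Module.Flat R (AdicCompletion (maximalIdeal R) R) :=
      AdicCompletion.flat_of_isNoetherian (maximalIdeal R)
    haveI : IsLocalHom (algebraMap R (AdicCompletion (maximalIdeal R) R)) :=
      Groth.Agent.Helper5.CompReg.isLocalHom_algebraMap_adicCompletion R _ hm
    haveI : Module.FaithfullyFlat R (AdicCompletion (maximalIdeal R) R) :=
      Module.FaithfullyFlat.of_flat_of_isLocalHom
    have h2 := CI6.spanFinrank_le_map (S := AdicCompletion (maximalIdeal R) R) I
      (IsNoetherian.noetherian _)
    have hK := ringKrullDim_le_ringKrullDim_quotient_add_spanFinrank I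
      (by rw [IsLocalRing.ringJacobson_eq_maximalIdeal]; exact le_maximalIdeal hI)
    rw [hd, he] at hK
    have hK' : e ≤ d + I.spanFinrank := by exact_mod_cast hK
    exact CI5.exists_regular_of_dim_eq R I hI d e hd he (by omega)
  · rintro ⟨rs, hrs, hreg⟩
    have hmem : ∀ r ∈ rs, r ∈ maximalIdeal R := by
      intro r hr
      apply le_maximalIdeal hI
      rw [← hrs]
      exact Ideal.subset_span hr
    have h2 : IsWeaklyRegular (AdicCompletion (maximalIdeal R) R)
        (rs.map (algebraMap R (AdicCompletion (maximalIdeal R) R))) :=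
      hreg.1.of_flat
    have hmem' : ∀ r ∈ rs.map (algebraMap R (AdicCompletion (maximalIdeal R) R)),
        r ∈ maximalIdeal (AdicCompletion (maximalIdeal R) R) := by
      intro r hr
      obtain ⟨a, ha, rfl⟩ := List.mem_map.mp hr
      rw [Groth.Agent.Helper5.CompReg.maximalIdeal_adicCompletion _ _ hm]
      exact Ideal.mem_map_of_mem _ (hmem a ha)
    have h3 : IsRegular (AdicCompletion (maximalIdeal R) R)
        (rs.map (algebraMap R (AdicCompletion (maximalIdeal R) R))) :=
      (IsLocalRing.isRegular_iff_isWeaklyRegular_of_subset_maximalIdeal hmem').2 h2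
    have hI' : I.map (algebraMap R (AdicCompletion (maximalIdeal R) R)) =
        Ideal.span {r | r ∈ rs.map (algebraMap R (AdicCompletion (maximalIdeal R) R))} := by
      rw [← hrs, Ideal.map_ofList]
    exact ⟨_, inferInstance, hregc, _, hmem', h3, ⟨e1.symm.trans (Ideal.quotEquivOfEq hI')⟩⟩

end Groth.Agent.Helper3.CI7
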