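import Mathlib

/-!
# (RAT) closed points of a locally finite type scheme over an algebraically closed field are
rational (helper lemma requested by helper14 for S5339).  This is Mathlib's
`AlgebraicGeometry.pointOfClosedPoint`.
-/

set_option autoImplicit false

universe u

open CategoryTheory CategoryTheory.Limits AlgebraicGeometry

namespace Groth.Agent.Lib.Helper3.RatPt

theorem RAT {K : Type u} [Field K] [IsAlgClosed K] {X : Scheme.{u}}
    (f : X ⟶ Spec (CommRingCat.of K)) [LocallyOfFiniteType f] (z : X)
    (hz : IsClosed ({z} : Set X)) :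
    ∃ σ : Spec (CommRingCat.of K) ⟶ X, σ ≫ f = 𝟙 _ ∧ ∀ p, σ p = z :=
  ⟨pointOfClosedPoint f z hz, pointOfClosedPoint_comp f z hz,
    fun p => pointOfClosedPoint_apply f z hz p⟩

end Groth.Agent.Lib.Helper3.RatPt
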