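import Mathlib

/-!
# (R-FU) formally unramified over an Artinian local ring can be checked after base change to a field

Sub-lemma for helper14's S5339.
-/

set_option autoImplicit false
set_option linter.style.haveILetI false

universe u

open CategoryTheory CategoryTheory.Limits AlgebraicGeometry TensorProduct

namespace Groth.Agent.Lib.Helper3.RedFU

/-- Nilpotent Nakayama plus faithful flatness of field extensions: over a local ring with nilpotent
maximal ideal, a module that dies after tensoring with a field is zero. -/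
theorem subsingleton_of_tensor_field {A K M : Type*} [CommRing A] [IsLocalRing A] [Field K]
    [Algebra A K] [AddCommGroup M] [Module A M]
    (hnil : IsNilpotent (IsLocalRing.maximalIdeal A))
    (h : Subsingleton (K ⊗[A] M)) : Subsingleton M := by
  classical
  set 𝔪 := IsLocalRing.maximalIdeal A with h𝔪
  have hker : ∀ a ∈ 𝔪, algebraMap A K a = 0 := by
    intro a ha
    obtain ⟨n, hn⟩ := hnil
    have h1 : a ^ n ∈ 𝔪 ^ n := Ideal.pow_mem_pow ha n
    rw [hn, Ideal.zero_eq_bot, Ideal.mem_bot] at h1
    have h2 : (algebraMap A K a) ^ n = 0 := by rw [← map_pow, h1, map_zero]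
    exact IsNilpotent.eq_zero ⟨n, h2⟩
  letI : Field (A ⧸ 𝔪) := Ideal.Quotient.field 𝔪
  let ψ' : (A ⧸ 𝔪) →+* K := Ideal.Quotient.lift 𝔪 (algebraMap A K) hker
  letI : Algebra (A ⧸ 𝔪) K := ψ'.toAlgebra
  haveI : IsScalarTower A (A ⧸ 𝔪) K := IsScalarTower.of_algebraMap_eq (fun a => rfl)
  haveI : Module.FaithfullyFlat (A ⧸ 𝔪) K := inferInstance
  let e := TensorProduct.AlgebraTensorModule.cancelBaseChange A (A ⧸ 𝔪) K K M
  haveI : Subsingleton (K ⊗[A ⧸ 𝔪] ((A ⧸ 𝔪) ⊗[A] M)) := e.toEquiv.subsingleton
  haveI h2 : Subsingleton ((A ⧸ 𝔪) ⊗[A] M) :=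
    Module.FaithfullyFlat.lTensor_reflects_triviality (A ⧸ 𝔪) K _
  let e2 := TensorProduct.quotTensorEquivQuotSMul M 𝔪
  haveI : Subsingleton (M ⧸ (𝔪 • (⊤ : Submodule A M))) := e2.symm.toEquiv.subsingleton
  have htop : 𝔪 • (⊤ : Submodule A M) = ⊤ :=
    Submodule.Quotient.subsingleton_iff.mp inferInstance
  have hall : ∀ n : ℕ, (𝔪 ^ n) • (⊤ : Submodule A M) = ⊤ := by
    intro n
    induction n with
    | zero => rw [pow_zero, Ideal.one_eq_top, Submodule.top_smul]
    | succ n ih => rw [pow_succ, Submodule.mul_smul, htop, ih]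
  obtain ⟨n, hn⟩ := hnil
  have h3 := hall n
  rw [hn, Ideal.zero_eq_bot, Submodule.bot_smul] at h3
  exact (Submodule.subsingleton_iff A).mp (subsingleton_of_bot_eq_top h3)

attribute [local instance] Algebra.TensorProduct.rightAlgebra in
/-- Algebraic core. -/
theorem formallyUnramified_of_tensor {A K B : Type u} [CommRing A] [IsArtinianRing A]
    [IsLocalRing A] [Field K] [Algebra A K] [CommRing B] [Algebra A B]
    (h : Algebra.FormallyUnramified K (B ⊗[A] K)) : Algebra.FormallyUnramified A B := by
  have hnil : IsNilpotent (IsLocalRing.maximalIdeal A) := by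
    rw [← IsLocalRing.jacobson_eq_maximalIdeal (⊥ : Ideal A) bot_ne_top]
    exact IsArtinianRing.isNilpotent_jacobson_bot
  let e := KaehlerDifferential.tensorKaehlerEquivBase A K B (B ⊗[A] K)
  haveI : Subsingleton (Ω[(B ⊗[A] K)⁄K]) := h.subsingleton_kaehlerDifferential
  haveI : Subsingleton (K ⊗[A] Ω[B⁄A]) := e.toEquiv.subsingleton
  exact ⟨subsingleton_of_tensor_field (K := K) hnil inferInstance⟩

attribute [local instance] Algebra.TensorProduct.rightAlgebra in
theorem REDK_fu_affine {A K : Type u} [CommRing A] [IsArtinianRing A] [IsLocalRing A] [Field K]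
    (ψ : A →+* K) {R : CommRingCat.{u}} (φ : CommRingCat.of A ⟶ R)
    (h : FormallyUnramified (pullback.snd (Spec.map φ) (Spec.map (CommRingCat.ofHom ψ)))) :
    FormallyUnramified (Spec.map φ) := by
  letI : Algebra A R := φ.hom.toAlgebra
  letI : Algebra A K := ψ.toAlgebra
  have hφ : φ = CommRingCat.ofHom (algebraMap A R) := rfl
  have hψ : (CommRingCat.ofHom ψ) = CommRingCat.ofHom (algebraMap A K) := rfl
  rw [hφ, hψ] at h
  have h1 : FormallyUnramified ((pullbackSpecIso A R K).inv ≫
      pullback.snd (Spec.map (CommRingCat.ofHom (algebraMap A R)))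
        (Spec.map (CommRingCat.ofHom (algebraMap A K)))) :=
    (MorphismProperty.cancel_left_of_respectsIso (P := @FormallyUnramified) _ _).mpr h
  rw [pullbackSpecIso_inv_snd, HasRingHomProperty.Spec_iff (P := @FormallyUnramified)] at h1
  have h1' : (algebraMap K (R ⊗[A] K)).FormallyUnramified := h1
  have h2 : Algebra.FormallyUnramified A R :=
    formallyUnramified_of_tensor (K := K) (RingHom.formallyUnramified_algebraMap.mp h1')
  rw [hφ, HasRingHomProperty.Spec_iff (P := @FormallyUnramified)]
  exact RingHom.formallyUnramified_algebraMap.mpr h2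

theorem REDK_fu {A K : Type u} [CommRing A] [IsArtinianRing A] [IsLocalRing A] [Field K]
    (ψ : A →+* K) {X : Scheme.{u}} (g : X ⟶ Spec (CommRingCat.of A)) [LocallyOfFiniteType g]
    (h : FormallyUnramified (pullback.snd g (Spec.map (CommRingCat.ofHom ψ)))) :
    FormallyUnramified g := by
  apply (IsZariskiLocalAtSource.iff_of_openCover (P := @FormallyUnramified) X.affineCover).2
  intro i
  let q := Spec.map (CommRingCat.ofHom ψ)
  let fi := X.affineCover.f i
  have hi : FormallyUnramified (pullback.snd (fi ≫ g) q) := by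
    have e : pullback.snd (fi ≫ g) q =
        (pullbackRightPullbackFstIso g q fi).inv ≫ pullback.snd fi (pullback.fst g q) ≫
          pullback.snd g q := by
      rw [pullbackRightPullbackFstIso_inv_snd_snd]
    rw [e]
    have h3 : FormallyUnramified (pullback.snd fi (pullback.fst g q)) := inferInstance
    have h4 : FormallyUnramified (pullback.snd fi (pullback.fst g q) ≫ pullback.snd g q) :=
      MorphismProperty.comp_mem (@FormallyUnramified) _ _ h3 h
    exact (MorphismProperty.cancel_left_of_respectsIso (P := @FormallyUnramified) _ _).mpr h4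
  have hfi : fi ≫ g = Spec.map (Spec.preimage (fi ≫ g)) := (Spec.map_preimage _).symm
  rw [hfi] at hi ⊢
  exact REDK_fu_affine ψ _ hi

end Groth.Agent.Lib.Helper3.RedFU
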