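import Mathlib

/-!
# (U3) formally unramified can be checked on fibres

Sub-lemma for helper14's S5318.
-/

set_option autoImplicit false
set_option linter.style.haveILetI false

universe u

open CategoryTheory CategoryTheory.Limits AlgebraicGeometry TensorProduct

namespace Groth.Agent.Lib.Helper3.FuFibres

/-- If `A ⊗[S] M = 0` and there is an `S`-linear map `A → B` preserving `1`, then `B ⊗[S] M = 0`. -/
theorem subsingleton_tensor_of_map {S A B M : Type*} [CommRing S] [CommRing A] [CommRing B]
    [Algebra S A] [Algebra S B] (φ : A →ₗ[S] B) (h1 : φ 1 = 1) [AddCommGroup M] [Module S M]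
    [Subsingleton (A ⊗[S] M)] : Subsingleton (B ⊗[S] M) := by
  suffices h : ∀ z : B ⊗[S] M, z = 0 from ⟨fun x y => by rw [h x, h y]⟩
  intro z
  induction z with
  | zero => rfl
  | add a b ha hb => rw [ha, hb, add_zero]
  | tmul b m =>
    have h0 : (1 : A) ⊗ₜ[S] m = 0 := Subsingleton.elim _ _
    have h2 : (1 : B) ⊗ₜ[S] m = 0 := by
      have h3 := congrArg (LinearMap.rTensor M φ) h0
      rw [LinearMap.rTensor_tmul, h1, map_zero] at h3
      exact h3
    calc b ⊗ₜ[S] m = b • ((1 : B) ⊗ₜ[S] m) := by
          rw [TensorProduct.smul_tmul', smul_eq_mul, mul_one]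
      _ = 0 := by rw [h2, smul_zero]

attribute [local instance] Algebra.TensorProduct.rightAlgebra in
/-- Algebraic core: a finite type algebra all of whose fibres are formally unramified is formally
unramified. -/
theorem formallyUnramified_of_fibers {R S : Type u} [CommRing R] [CommRing S] [Algebra R S]
    [Algebra.FiniteType R S]
    (H : ∀ (p : Ideal R) [p.IsPrime], Algebra.FormallyUnramified p.ResidueField (p.Fiber S)) :
    Algebra.FormallyUnramified R S := by
  constructor
  rw [← Module.support_eq_empty_iff (R := S), Set.eq_empty_iff_forall_notMem]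
  intro q hq
  rw [Module.mem_support_iff_nontrivial_residueField_tensorProduct] at hq
  set p : Ideal R := q.asIdeal.comap (algebraMap R S) with hp
  haveI : p.IsPrime := Ideal.comap_isPrime _ _
  haveI := H p
  let e := KaehlerDifferential.tensorKaehlerEquiv R p.ResidueField S (p.Fiber S)
  haveI : Subsingleton (Ω[(p.Fiber S)⁄p.ResidueField]) := inferInstance
  haveI : Subsingleton ((p.Fiber S) ⊗[S] Ω[S⁄R]) := e.toEquiv.subsingleton
  let g1 : p.ResidueField →ₐ[R] q.asIdeal.ResidueField :=
    Ideal.ResidueField.mapₐ p q.asIdeal (Algebra.ofId R S) rfl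
  let g2 : S →ₐ[R] q.asIdeal.ResidueField := IsScalarTower.toAlgHom R S _
  let φ := Algebra.TensorProduct.productMap g1 g2
  let φl : (p.Fiber S) →ₗ[S] q.asIdeal.ResidueField :=
    { toFun := φ
      map_add' := map_add φ
      map_smul' := fun s x => by
        rw [RingHom.id_apply, Algebra.smul_def, map_mul, Algebra.smul_def]
        congr 1
        change φ ((1 : p.ResidueField) ⊗ₜ s) = _
        rw [Algebra.TensorProduct.productMap_apply_tmul, map_one, one_mul]
        rfl }
  haveI : Subsingleton (q.asIdeal.ResidueField ⊗[S] Ω[S⁄R]) :=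
    subsingleton_tensor_of_map φl (map_one φ)
  exact not_subsingleton _ ‹_›

theorem fu_of_fibres {X S : Scheme.{u}} (f : X ⟶ S) [LocallyOfFiniteType f]
    (h : ∀ s : S, FormallyUnramified (f.fiberToSpecResidueField s)) : FormallyUnramified f := by
  wlog hS : ∃ R, S = Spec R
  · rw [IsZariskiLocalAtTarget.iff_of_openCover (P := @FormallyUnramified) S.affineCover]
    intro i
    dsimp [Scheme.Cover.pullbackHom]
    haveI hlft : LocallyOfFiniteType (pullback.snd f (S.affineCover.f i)) :=
      MorphismProperty.pullback_snd (P := @LocallyOfFiniteType) _ _ ‹_›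
    refine this (pullback.snd f (S.affineCover.f i)) (fun y ↦ ?_) ⟨_, rfl⟩
    apply MorphismProperty.of_isPullback
    · exact isPullback_fiberToSpecResidueField_of_isPullback (IsPullback.of_hasPullback _ _) _
    · exact h _
  obtain ⟨R, rfl⟩ := hS
  wlog hX : ∃ T, X = Spec T generalizing f X
  · rw [IsZariskiLocalAtSource.iff_of_openCover (P := @FormallyUnramified) X.affineCover]
    intro i
    have h' (y) : FormallyUnramified (pullback.snd f ((Spec R).fromSpecResidueField y)) := h y
    refine this _ (fun y ↦ ?_) ⟨_, rfl⟩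
    rw [Scheme.Hom.fiberToSpecResidueField, ← pullbackRightPullbackFstIso_inv_snd_snd]
    have h3 : FormallyUnramified (pullback.snd (X.affineCover.f i)
        (pullback.fst f ((Spec R).fromSpecResidueField y))) := inferInstance
    have h4 := MorphismProperty.comp_mem (@FormallyUnramified) _ _ h3 (h' y)
    exact (MorphismProperty.cancel_left_of_respectsIso (P := @FormallyUnramified) _ _).mpr h4
  obtain ⟨T, rfl⟩ := hX
  obtain ⟨φ, rfl⟩ := Spec.map_surjective f
  simp only [HasRingHomProperty.Spec_iff] at *
  algebraize [φ.hom]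
  refine formallyUnramified_of_fibers fun p hp ↦ ?_
  rw [← RingHom.formallyUnramified_algebraMap]
  rw [← CommRingCat.hom_ofHom (algebraMap p.ResidueField (p.Fiber ↑T)),
    ← HasRingHomProperty.Spec_iff (P := @FormallyUnramified),
    ← MorphismProperty.arrow_mk_iso_iff (P := @FormallyUnramified)
    (Spec.fiberToSpecResidueFieldIso R T ⟨p, hp⟩)]
  exact h ⟨p, hp⟩

end Groth.Agent.Lib.Helper3.FuFibres
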