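import Mathlib
import Groth.Prelude.Def_MoreMor

set_option autoImplicit false
universe u
open CategoryTheory CategoryTheory.Limits AlgebraicGeometry

namespace Groth.Agent.Helper3.FormEt

/-- Ring-level lifting for a formally étale (formally smooth suffices) ring map against a
surjection with square-zero kernel. -/
theorem ring_lift {B C R' R : Type u} [CommRing B] [CommRing C] [CommRing R'] [CommRing R]
    (γ : B →+* C) (hγ : γ.FormallyEtale) (φ : R' →+* R) (hφ : Function.Surjective φ)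
    (hker : RingHom.ker φ ^ 2 = ⊥) (α : C →+* R) (β : B →+* R') (h : φ.comp β = α.comp γ) :
    ∃ ψ : C →+* R', φ.comp ψ = α ∧ ψ.comp γ = β := by
  let := γ.toAlgebra
  let := β.toAlgebra
  let := (φ.comp β).toAlgebra
  have : Algebra.FormallyEtale B C := hγ
  let φ' : R' →ₐ[B] R := { φ with commutes' := fun _ => rfl }
  let α' : C →ₐ[B] R := { α with commutes' := fun b => (RingHom.congr_fun h b).symm }
  have hφ' : Function.Surjective φ' := hφ
  have hnil : IsNilpotent (RingHom.ker (φ' : R' →+* R)) := ⟨2, hker⟩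
  let ψ := Algebra.FormallySmooth.liftOfSurjective α' φ' hφ' hnil
  refine ⟨ψ.toRingHom, ?_, ?_⟩
  · ext x
    exact Algebra.FormallySmooth.liftOfSurjective_apply α' φ' hφ' hnil x
  · ext b
    exact ψ.commutes b

theorem spec_lift {B C R' R : CommRingCat.{u}} (γ : B ⟶ C) (hγ : γ.hom.FormallyEtale)
    (φ : R' ⟶ R) (hφ : Function.Surjective φ.hom) (hker : RingHom.ker φ.hom ^ 2 = ⊥)
    (a : Spec R ⟶ Spec C) (b : Spec R' ⟶ Spec B) (h : Spec.map φ ≫ b = a ≫ Spec.map γ) :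
    ∃ l : Spec R' ⟶ Spec C, Spec.map φ ≫ l = a ∧ l ≫ Spec.map γ = b := by
  obtain ⟨α, rfl⟩ := Spec.map_surjective a
  obtain ⟨β, rfl⟩ := Spec.map_surjective b
  rw [← Spec.map_comp, ← Spec.map_comp] at h
  have h' := Spec.map_injective h
  obtain ⟨ψ, h1, h2⟩ := ring_lift γ.hom hγ φ.hom hφ hker α.hom β.hom (by
    rw [← CommRingCat.hom_comp, ← CommRingCat.hom_comp, h'])
  refine ⟨Spec.map (CommRingCat.ofHom ψ), ?_, ?_⟩
  · rw [← Spec.map_comp]
    congr 1
    ext x
    exact RingHom.congr_fun h1 x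
  · rw [← Spec.map_comp]
    congr 1
    ext x
    exact RingHom.congr_fun h2 x


theorem specMap_surjective_of_ker_sq {R' R : CommRingCat.{u}} (φ : R' ⟶ R)
    (hφ : Function.Surjective φ.hom) (hker : RingHom.ker φ.hom ^ 2 = ⊥) :
    Function.Surjective (Spec.map φ) := by
  intro p
  have h1 : RingHom.ker φ.hom ≤ p.asIdeal := by
    apply Ideal.IsPrime.le_of_pow_le (n := 2)
    rw [hker]; exact bot_le
  have h2 : p ∈ Set.range (PrimeSpectrum.comap φ.hom) := by
    rw [range_comap_of_surjective _ _ hφ]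
    exact h1
  obtain ⟨q, hq⟩ := h2
  exact ⟨q, hq⟩

/-- Local lift against `Spec R → Spec R'` when the top map factors through an affine open on which
`f` is formally étale. -/
theorem local_lift {X Y : Scheme.{u}} (f : X ⟶ Y) {V : X.Opens} {W : Y.Opens}
    (hV : IsAffineOpen V) (hW : IsAffineOpen W) (hVW : V ≤ f ⁻¹ᵁ W)
    (hfe : (f.appLE W V hVW).hom.FormallyEtale)
    {R' R : CommRingCat.{u}} (φ : R' ⟶ R) (hφ : Function.Surjective φ.hom)
    (hker : RingHom.ker φ.hom ^ 2 = ⊥)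
    (a : Spec R ⟶ X) (b : Spec R' ⟶ Y) (h : Spec.map φ ≫ b = a ≫ f)
    (ha : Set.range a ⊆ V) :
    ∃ l : Spec R' ⟶ X, Spec.map φ ≫ l = a ∧ l ≫ f = b := by
  have hb : Set.range b ⊆ W := by
    rintro _ ⟨y, rfl⟩
    obtain ⟨x, rfl⟩ := specMap_surjective_of_ker_sq φ hφ hker y
    have : b (Spec.map φ x) = f (a x) := by
      rw [← Scheme.Hom.comp_apply, h, Scheme.Hom.comp_apply]
    rw [this]
    exact hVW (ha ⟨x, rfl⟩)
  let a'' : Spec R ⟶ Spec Γ(X, V) := IsOpenImmersion.lift hV.fromSpec a (by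
    rw [hV.range_fromSpec]; exact ha)
  let b'' : Spec R' ⟶ Spec Γ(Y, W) := IsOpenImmersion.lift hW.fromSpec b (by
    rw [hW.range_fromSpec]; exact hb)
  have ha'' : a'' ≫ hV.fromSpec = a := IsOpenImmersion.lift_fac _ _ _
  have hb'' : b'' ≫ hW.fromSpec = b := IsOpenImmersion.lift_fac _ _ _
  have hsq : Spec.map φ ≫ b'' = a'' ≫ Spec.map (f.appLE W V hVW) := by
    rw [← cancel_mono hW.fromSpec, Category.assoc, hb'', Category.assoc,
      hW.SpecMap_appLE_fromSpec f hV hVW, ← Category.assoc, ha'', h]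
  obtain ⟨l'', h1, h2⟩ := spec_lift (f.appLE W V hVW) hfe φ hφ hker a'' b'' hsq
  refine ⟨l'' ≫ hV.fromSpec, ?_, ?_⟩
  · rw [← Category.assoc, h1, ha'']
  · rw [Category.assoc, ← hW.SpecMap_appLE_fromSpec f hV hVW, ← Category.assoc, h2, hb'']

theorem formallyEtale_appLE_of_hom {X Y : Scheme.{u}} (f : X ⟶ Y)
    (hf : MoreMor.IsFormallyEtaleHom f)
    {U : X.Opens} {V : Y.Opens} (hU : IsAffineOpen U) (hV : IsAffineOpen V)
    (hUV : U ≤ f ⁻¹ᵁ V) :
    (f.appLE V U hUV).hom.FormallyEtale := by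
  let := (f.appLE V U hUV).hom.toAlgebra
  show Algebra.FormallyEtale Γ(Y, V) Γ(X, U)
  have key : ∀ (B' : Type u) [CommRing B'] [Algebra Γ(Y, V) B'] (g : Γ(X, U) →ₐ[Γ(Y, V)] B'),
      (Spec.map (CommRingCat.ofHom g.toRingHom) ≫ hU.fromSpec) ≫ f =
        Spec.map (CommRingCat.ofHom (algebraMap Γ(Y, V) B')) ≫ hV.fromSpec := by
    intro B' _ _ g
    rw [Category.assoc, ← hV.SpecMap_appLE_fromSpec f hU hUV, ← Category.assoc, ← Spec.map_comp]
    congr 2
    ext y
    exact g.commutes y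
  rw [Algebra.FormallyEtale.iff_comp_bijective]
  intro B _ _ I hI
  have hmk : ∀ (g : Γ(X, U) →ₐ[Γ(Y, V)] B),
      Spec.map (CommRingCat.ofHom (Ideal.Quotient.mk I)) ≫
        (Spec.map (CommRingCat.ofHom g.toRingHom) ≫ hU.fromSpec) =
      Spec.map (CommRingCat.ofHom ((Ideal.Quotient.mkₐ Γ(Y, V) I).comp g).toRingHom) ≫
        hU.fromSpec := by
    intro g
    rw [← Category.assoc, ← Spec.map_comp]
    rfl
  have hw : ∀ (gb : Γ(X, U) →ₐ[Γ(Y, V)] B ⧸ I),
      Spec.map (CommRingCat.ofHom (Ideal.Quotient.mk I)) ≫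
        (Spec.map (CommRingCat.ofHom (algebraMap Γ(Y, V) B)) ≫ hV.fromSpec) =
      (Spec.map (CommRingCat.ofHom gb.toRingHom) ≫ hU.fromSpec) ≫ f := by
    intro gb
    rw [key (B ⧸ I) gb, ← Category.assoc, ← Spec.map_comp]
    rfl
  constructor
  · intro g₁ g₂ hg
    have hg' : (Ideal.Quotient.mkₐ Γ(Y, V) I).comp g₁ = (Ideal.Quotient.mkₐ Γ(Y, V) I).comp g₂ := hg
    have huniq := (hf B I hI _ _ (hw ((Ideal.Quotient.mkₐ Γ(Y, V) I).comp g₁))).unique
      (y₁ := Spec.map (CommRingCat.ofHom g₁.toRingHom) ≫ hU.fromSpec)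
      (y₂ := Spec.map (CommRingCat.ofHom g₂.toRingHom) ≫ hU.fromSpec)
      ⟨hmk g₁, key B g₁⟩ ⟨by rw [hmk g₂, hg'], key B g₂⟩
    rw [cancel_mono] at huniq
    have := Spec.map_injective huniq
    ext x
    exact congr($this x)
  · intro gb
    obtain ⟨l, ⟨hl1, hl2⟩, -⟩ := hf B I hI _ _ (hw gb)
    have hrange : Set.range l ⊆ Set.range hU.fromSpec := by
      rintro _ ⟨y, rfl⟩
      obtain ⟨x, rfl⟩ := specMap_surjective_of_ker_sq
        (CommRingCat.ofHom (Ideal.Quotient.mk I)) Ideal.Quotient.mk_surjective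
        (by simpa using hI) y
      rw [← Scheme.Hom.comp_apply, hl1, Scheme.Hom.comp_apply]
      exact ⟨_, rfl⟩
    let l' : Spec (CommRingCat.of B) ⟶ Spec Γ(X, U) := IsOpenImmersion.lift hU.fromSpec l hrange
    have hl' : l' ≫ hU.fromSpec = l := IsOpenImmersion.lift_fac _ _ _
    obtain ⟨g, hg⟩ := Spec.map_surjective l'
    have hcomm : f.appLE V U hUV ≫ g = CommRingCat.ofHom (algebraMap Γ(Y, V) B) := by
      apply Spec.map_injective
      rw [← cancel_mono hV.fromSpec, Spec.map_comp, Category.assoc,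
        hV.SpecMap_appLE_fromSpec f hU hUV, hg, ← Category.assoc, hl', hl2]
    let g' : Γ(X, U) →ₐ[Γ(Y, V)] B := { g.hom with commutes' := fun y => congr($hcomm y) }
    refine ⟨g', ?_⟩
    have h3 : g ≫ CommRingCat.ofHom (Ideal.Quotient.mk I) = CommRingCat.ofHom gb.toRingHom := by
      apply Spec.map_injective
      rw [← cancel_mono hU.fromSpec, Spec.map_comp, Category.assoc, hg, hl', hl1]
    ext x
    exact congr($h3 x)

/-- The kernel of the base change of a square-zero closed immersion along an open immersion has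
square zero. -/
theorem ker_sq_of_isPullback {X Y U V : Scheme.{u}} (f : X ⟶ Y) (f' : U ⟶ V) (iU : U ⟶ X)
    (iV : V ⟶ Y) [IsOpenImmersion iV] [QuasiCompact f] (H : IsPullback f' iU iV f)
    (hker : f.ker * f.ker = ⊥) : f'.ker * f'.ker = ⊥ := by
  ext W : 2
  rw [Scheme.IdealSheafData.ideal_mul, Pi.mul_apply,
    Scheme.ker_ideal_of_isPullback_of_isOpenImmersion f f' iU iV H W,
    Scheme.IdealSheafData.ideal_bot, Pi.bot_apply]
  apply le_bot_iff.mp
  refine (Ideal.le_comap_mul _).trans ?_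
  have h0 : f.ker.ideal ⟨iV ''ᵁ W, W.2.image_of_isOpenImmersion _⟩ *
      f.ker.ideal ⟨iV ''ᵁ W, W.2.image_of_isOpenImmersion _⟩ = ⊥ := by
    have := congr(($hker).ideal ⟨iV ''ᵁ W, W.2.image_of_isOpenImmersion _⟩)
    simpa using this
  rw [h0]
  intro x hx
  rw [Ideal.mem_comap, Ideal.mem_bot] at hx
  rw [Ideal.mem_bot]
  have hinj : Function.Injective (iV.appIso W).inv.hom :=
    (ConcreteCategory.bijective_of_isIso (iV.appIso W).inv).1
  exact hinj (by rw [hx, map_zero])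


/-- If `s : P → Spec R'` factors as `e.hom ≫ Spec.map (mk I)` with `e` an iso and `s.ker` has square
zero then `I ^ 2 = ⊥`. -/
theorem sq_eq_bot_of_ker {P : Scheme.{u}} {R' : CommRingCat.{u}} (I : Ideal R')
    (s : P ⟶ Spec R') [QuasiCompact s] (e : P ≅ Spec (CommRingCat.of (R' ⧸ I)))
    (he : s = e.hom ≫ Spec.map (CommRingCat.ofHom (Ideal.Quotient.mk I)))
    (hs : s.ker * s.ker = ⊥) : I ^ 2 = ⊥ := by
  have hmem : ∀ x ∈ I, (Scheme.ΓSpecIso R').inv.hom x ∈
      s.ker.ideal ⟨⊤, isAffineOpen_top _⟩ := by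
    intro x hx
    rw [Scheme.Hom.ker_apply, RingHom.mem_ker]
    show (s.appTop).hom ((Scheme.ΓSpecIso R').inv.hom x) = 0
    rw [he, Scheme.Hom.comp_appTop]
    have h1 := Scheme.ΓSpecIso_inv_naturality (CommRingCat.ofHom (Ideal.Quotient.mk I))
    have h2 : ((Spec.map (CommRingCat.ofHom (Ideal.Quotient.mk I))).appTop).hom
        ((Scheme.ΓSpecIso R').inv.hom x) = 0 := by
      have := congr($h1 x)
      refine Eq.trans this.symm ?_
      show (Scheme.ΓSpecIso (CommRingCat.of (R' ⧸ I))).inv.hom (Ideal.Quotient.mk I x) = 0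
      rw [Ideal.Quotient.eq_zero_iff_mem.mpr hx, map_zero]
    simp only [CommRingCat.hom_comp, RingHom.comp_apply]
    rw [h2, map_zero]
  rw [sq, ← le_bot_iff, Ideal.mul_le]
  intro x hx y hy
  have h3 : (Scheme.ΓSpecIso R').inv.hom (x * y) ∈
      (s.ker * s.ker).ideal ⟨⊤, isAffineOpen_top _⟩ := by
    rw [map_mul, Scheme.IdealSheafData.ideal_mul, Pi.mul_apply]
    exact Ideal.mul_mem_mul (hmem x hx) (hmem y hy)
  rw [hs, Scheme.IdealSheafData.ideal_bot, Pi.bot_apply, Ideal.mem_bot] at h3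
  rw [Ideal.mem_bot]
  have hinj : Function.Injective (Scheme.ΓSpecIso R').inv.hom :=
    (ConcreteCategory.bijective_of_isIso (Scheme.ΓSpecIso R').inv).1
  exact hinj (by rw [h3, map_zero])


/-- Local lift on a small affine open of the thickening. -/
theorem local_lift_open {X Y : Scheme.{u}} (f : X ⟶ Y) {V : X.Opens} {W : Y.Opens}
    (hV : IsAffineOpen V) (hW : IsAffineOpen W) (hVW : V ≤ f ⁻¹ᵁ W)
    (hfe : (f.appLE W V hVW).hom.FormallyEtale)
    {T T' : Scheme.{u}} (t : T ⟶ T') [IsClosedImmersion t] (hker : t.ker * t.ker = ⊥)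
    (a : T ⟶ X) (b : T' ⟶ Y) (w : t ≫ b = a ≫ f)
    (U : T'.Opens) (hU : IsAffineOpen U) (hUa : ∀ z : T, t z ∈ U → a z ∈ V) :
    ∃ l : U.toScheme ⟶ X, pullback.snd t U.ι ≫ l = pullback.fst t U.ι ≫ a ∧ l ≫ f = U.ι ≫ b := by
  have : IsAffine U.toScheme := hU
  let s := pullback.snd t U.ι
  have hsker : s.ker * s.ker = ⊥ :=
    ker_sq_of_isPullback t s (pullback.fst t U.ι) U.ι (IsPullback.of_hasPullback t U.ι).flip hker
  let s' := s ≫ U.toScheme.isoSpec.hom
  have hs' : IsClosedImmersion s' := inferInstance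
  obtain ⟨I, e, he⟩ := IsClosedImmersion.Spec_iff.mp hs'
  have hs'ker : s'.ker * s'.ker = ⊥ := by
    have H : IsPullback s' (𝟙 _) U.toScheme.isoSpec.inv s :=
      IsPullback.of_vert_isIso ⟨by simp [s']⟩
    exact ker_sq_of_isPullback s s' (𝟙 _) U.toScheme.isoSpec.inv H hsker
  have hI : I ^ 2 = ⊥ := sq_eq_bot_of_ker I s' e he hs'ker
  have hmk : Spec.map (CommRingCat.ofHom (Ideal.Quotient.mk I)) = e.inv ≫ s' := by
    rw [Iso.eq_inv_comp, ← he]
  have hw' : Spec.map (CommRingCat.ofHom (Ideal.Quotient.mk I)) ≫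
      (U.toScheme.isoSpec.inv ≫ U.ι ≫ b) = (e.inv ≫ pullback.fst t U.ι ≫ a) ≫ f := by
    rw [hmk]
    simp only [s', s, Category.assoc, Iso.hom_inv_id_assoc]
    rw [← pullback.condition_assoc, w]
  have hrange : Set.range (e.inv ≫ pullback.fst t U.ι ≫ a) ⊆ V := by
    rintro _ ⟨x, rfl⟩
    have hx : (e.inv ≫ pullback.fst t U.ι ≫ a) x = a (pullback.fst t U.ι (e.inv x)) := by
      simp
    rw [hx]
    apply hUa
    have : t (pullback.fst t U.ι (e.inv x)) = U.ι (pullback.snd t U.ι (e.inv x)) := by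
      show (pullback.fst t U.ι ≫ t) (e.inv x) = (pullback.snd t U.ι ≫ U.ι) (e.inv x)
      rw [pullback.condition]
    rw [this]
    exact (pullback.snd t U.ι (e.inv x)).2
  obtain ⟨l₀, h1, h2⟩ := local_lift f hV hW hVW hfe (CommRingCat.ofHom (Ideal.Quotient.mk I))
    Ideal.Quotient.mk_surjective (by simpa using hI) _ _ hw' hrange
  refine ⟨U.toScheme.isoSpec.hom ≫ l₀, ?_, ?_⟩
  · have : pullback.snd t U.ι ≫ U.toScheme.isoSpec.hom = e.hom ≫
        Spec.map (CommRingCat.ofHom (Ideal.Quotient.mk I)) := he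
    rw [← Category.assoc, this, Category.assoc, h1, Iso.hom_inv_id_assoc]
  · rw [Category.assoc, h2, Iso.hom_inv_id_assoc]


theorem formallyUnramified_of_appLE {X Y : Scheme.{u}} (f : X ⟶ Y)
    (hfe : ∀ {U : X.Opens} {V : Y.Opens} (hU : IsAffineOpen U) (hV : IsAffineOpen V)
      (hUV : U ≤ f ⁻¹ᵁ V), (f.appLE V U hUV).hom.FormallyEtale) : FormallyUnramified f := by
  refine ⟨fun {U hU V hV hVU} => ?_⟩
  have h := hfe hV hU hVU
  let := (f.appLE U V hVU).hom.toAlgebra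
  have : Algebra.FormallyEtale Γ(Y, U) Γ(X, V) := h
  show Algebra.FormallyUnramified Γ(Y, U) Γ(X, V)
  infer_instance

/-- Unique lifting against square-zero thickenings of schemes for a morphism which is affine
locally formally étale. -/
theorem exists_unique_lift {X Y : Scheme.{u}} (f : X ⟶ Y)
    (hfe : ∀ {U : X.Opens} {V : Y.Opens} (hU : IsAffineOpen U) (hV : IsAffineOpen V)
      (hUV : U ≤ f ⁻¹ᵁ V), (f.appLE V U hUV).hom.FormallyEtale)
    {T T' : Scheme.{u}} (t : T ⟶ T') [IsClosedImmersion t] (hsurj : Function.Surjective t)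
    (hker : t.ker * t.ker = ⊥) (a : T ⟶ X) (b : T' ⟶ Y) (w : t ≫ b = a ≫ f) :
    ∃! l : T' ⟶ X, t ≫ l = a ∧ l ≫ f = b := by
  have hunr : FormallyUnramified f := formallyUnramified_of_appLE f hfe
  have hnil : IsNilpotent t.ker := ⟨2, by rw [sq, hker]; rfl⟩
  -- t is a homeomorphism
  have hhomeo : IsHomeomorph t :=
    isHomeomorph_iff_isEmbedding_surjective.mpr ⟨t.isClosedEmbedding.isEmbedding, hsurj⟩
  -- the local data
  have hloc : ∀ x' : T', ∃ (U : T'.Opens), x' ∈ U ∧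
      ∃ l : U.toScheme ⟶ X, pullback.snd t U.ι ≫ l = pullback.fst t U.ι ≫ a ∧
        l ≫ f = U.ι ≫ b := by
    intro x'
    obtain ⟨x, rfl⟩ := hsurj x'
    obtain ⟨_, ⟨W, hW, rfl⟩, hxW, -⟩ :=
      Y.isBasis_affineOpens.exists_subset_of_mem_open (Set.mem_univ (f (a x))) isOpen_univ
    obtain ⟨_, ⟨V, hV, rfl⟩, hxV, hVW : V ≤ f ⁻¹ᵁ W⟩ :=
      X.isBasis_affineOpens.exists_subset_of_mem_open hxW (f ⁻¹ᵁ W).isOpen
    have hO : IsOpen (t '' (a ⁻¹ᵁ V : Set T)) := hhomeo.isOpenMap _ (a ⁻¹ᵁ V).isOpen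
    obtain ⟨_, ⟨U, hU, rfl⟩, hxU, hUO⟩ :=
      T'.isBasis_affineOpens.exists_subset_of_mem_open
        (show t x ∈ t '' (a ⁻¹ᵁ V : Set T) from ⟨x, hxV, rfl⟩) hO
    refine ⟨U, hxU, ?_⟩
    refine local_lift_open f hV hW hVW (hfe hV hW hVW) t hker a b w U hU ?_
    intro z hz
    obtain ⟨z', hz', hzz'⟩ := hUO hz
    have : z' = z := hhomeo.injective hzz'
    rw [← this]
    exact hz'
  choose U hxU l hl1 hl2 using hloc
  let 𝒰 : T'.OpenCover :=
    { I₀ := T', X := fun i => (U i), f := fun i => (U i).ι,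
      mem₀ := by
        rw [Scheme.presieve₀_mem_precoverage_iff]
        refine ⟨fun x ↦ ⟨x, by simpa using hxU x⟩, inferInstance⟩ }
  have hcompat : ∀ i j : T', pullback.fst (𝒰.f i) (𝒰.f j) ≫ l i = pullback.snd _ _ ≫ l j := by
    intro i j
    let p : pullback (𝒰.f i) (𝒰.f j) ⟶ T' := pullback.fst (𝒰.f i) (𝒰.f j) ≫ 𝒰.f i
    have hp : p = pullback.snd (𝒰.f i) (𝒰.f j) ≫ 𝒰.f j := pullback.condition
    have hker' : (pullback.snd t p).ker * (pullback.snd t p).ker = ⊥ :=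
      ker_sq_of_isPullback t (pullback.snd t p) (pullback.fst t p) p
        (IsPullback.of_hasPullback t p).flip hker
    have hnil' : IsNilpotent (pullback.snd t p).ker := ⟨2, by rw [sq, hker']; rfl⟩
    refine FormallyUnramified.hom_ext (pullback.snd t p) hnil' f ?_ ?_
    · have h1 : pullback.snd t p ≫ pullback.fst (𝒰.f i) (𝒰.f j) ≫ l i =
          pullback.fst t p ≫ a := by
        have hc : pullback.fst t p ≫ t = (pullback.snd t p ≫ pullback.fst (𝒰.f i) (𝒰.f j)) ≫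
            (U i).ι := by
          rw [pullback.condition, Category.assoc]
        have : pullback.snd t p ≫ pullback.fst (𝒰.f i) (𝒰.f j) =
            pullback.lift (pullback.fst t p) (pullback.snd t p ≫ pullback.fst (𝒰.f i) (𝒰.f j)) hc ≫
              pullback.snd t (U i).ι := (pullback.lift_snd _ _ _).symm
        rw [← Category.assoc, this, Category.assoc, hl1 i, ← Category.assoc, pullback.lift_fst]
      have h2 : pullback.snd t p ≫ pullback.snd (𝒰.f i) (𝒰.f j) ≫ l j =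
          pullback.fst t p ≫ a := by
        have hc : pullback.fst t p ≫ t = (pullback.snd t p ≫ pullback.snd (𝒰.f i) (𝒰.f j)) ≫
            (U j).ι := by
          rw [pullback.condition, Category.assoc, hp]
        have : pullback.snd t p ≫ pullback.snd (𝒰.f i) (𝒰.f j) =
            pullback.lift (pullback.fst t p) (pullback.snd t p ≫ pullback.snd (𝒰.f i) (𝒰.f j)) hc ≫
              pullback.snd t (U j).ι := (pullback.lift_snd _ _ _).symm
        rw [← Category.assoc, this, Category.assoc, hl1 j, ← Category.assoc, pullback.lift_fst]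
      rw [h1, h2]
    · rw [Category.assoc, Category.assoc, hl2 i, hl2 j]
      show pullback.fst (𝒰.f i) (𝒰.f j) ≫ 𝒰.f i ≫ b = pullback.snd (𝒰.f i) (𝒰.f j) ≫ 𝒰.f j ≫ b
      rw [← Category.assoc, ← Category.assoc, pullback.condition]
  let L : T' ⟶ X := 𝒰.glueMorphisms l hcompat
  have hL : ∀ i, (U i).ι ≫ L = l i := fun i => 𝒰.ι_glueMorphisms l hcompat i
  have hL1 : t ≫ L = a := by
    refine Scheme.Cover.hom_ext (𝒰.pullback₁ t) _ _ fun i => ?_
    show pullback.fst t (U i).ι ≫ t ≫ L = pullback.fst t (U i).ι ≫ a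
    rw [← Category.assoc, pullback.condition, Category.assoc, hL i, hl1 i]
  have hL2 : L ≫ f = b := by
    refine Scheme.Cover.hom_ext 𝒰 _ _ fun i => ?_
    show (U i).ι ≫ L ≫ f = (U i).ι ≫ b
    rw [← Category.assoc, hL i, hl2 i]
  refine ⟨L, ⟨hL1, hL2⟩, ?_⟩
  rintro L' ⟨h1, h2⟩
  exact FormallyUnramified.hom_ext t hnil f (h1.trans hL1.symm) (h2.trans hL2.symm)


/-- `Spec (A/I) → Spec A` has square-zero kernel when `I ^ 2 = ⊥`. -/
theorem ker_sq_specMap {R' R : CommRingCat.{u}} (φ : R' ⟶ R)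
    (hker : RingHom.ker φ.hom ^ 2 = ⊥) : (Spec.map φ).ker * (Spec.map φ).ker = ⊥ := by
  apply Scheme.IdealSheafData.ext_of_isAffine
  rw [Scheme.IdealSheafData.ideal_mul, Pi.mul_apply, Scheme.IdealSheafData.ideal_bot,
    Pi.bot_apply, ← le_bot_iff, Ideal.mul_le]
  have hmem : ∀ y ∈ (Spec.map φ).ker.ideal ⟨⊤, isAffineOpen_top _⟩,
      ∃ x ∈ RingHom.ker φ.hom, (Scheme.ΓSpecIso R').inv.hom x = y := by
    intro y hy
    rw [Scheme.Hom.ker_apply, RingHom.mem_ker] at hy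
    obtain ⟨x, rfl⟩ := (ConcreteCategory.bijective_of_isIso (Scheme.ΓSpecIso R').inv).2 y
    refine ⟨x, ?_, rfl⟩
    have h1 := Scheme.ΓSpecIso_inv_naturality φ
    have h2 := congr($h1 x)
    have h3 : (Scheme.ΓSpecIso R).inv.hom (φ.hom x) = 0 := h2.trans hy
    have hinj : Function.Injective (Scheme.ΓSpecIso R).inv.hom :=
      (ConcreteCategory.bijective_of_isIso (Scheme.ΓSpecIso R).inv).1
    exact hinj (by rw [h3, map_zero])
  intro y₁ hy₁ y₂ hy₂
  obtain ⟨x₁, hx₁, rfl⟩ := hmem y₁ hy₁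
  obtain ⟨x₂, hx₂, rfl⟩ := hmem y₂ hy₂
  have : x₁ * x₂ ∈ RingHom.ker φ.hom ^ 2 := by
    rw [sq]; exact Ideal.mul_mem_mul hx₁ hx₂
  rw [hker, Ideal.mem_bot] at this
  rw [Ideal.mem_bot, ← map_mul, this, map_zero]

/-- `S1487`. -/
theorem isFormallyEtaleHom_iff {X Y : Scheme.{u}} (f : X ⟶ Y) :
    MoreMor.IsFormallyEtaleHom f ↔ ∀ (U : X.Opens) (V : Y.Opens) (hU : IsAffineOpen U)
      (hV : IsAffineOpen V) (hUV : U ≤ f ⁻¹ᵁ V), (f.appLE V U hUV).hom.FormallyEtale := by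
  constructor
  · intro hf U V hU hV hUV
    exact formallyEtale_appLE_of_hom f hf hU hV hUV
  · intro hfe A _ I hI a b w
    have hsurjmk : Function.Surjective (CommRingCat.ofHom (Ideal.Quotient.mk I)).hom :=
      Ideal.Quotient.mk_surjective
    have hkermk : RingHom.ker (CommRingCat.ofHom (Ideal.Quotient.mk I)).hom ^ 2 = ⊥ := by
      simpa using hI
    have : IsClosedImmersion (Spec.map (CommRingCat.ofHom (Ideal.Quotient.mk I))) :=
      IsClosedImmersion.spec_of_surjective _ hsurjmk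
    exact exists_unique_lift f (fun hU hV hUV => hfe _ _ hU hV hUV) _
      (specMap_surjective_of_ker_sq _ hsurjmk hkermk) (ker_sq_specMap _ hkermk) a b w

/-- `S1516`. -/
theorem lift_firstOrderThickening {X S : Scheme.{u}} (f : X ⟶ S)
    (hf : MoreMor.IsFormallyEtaleHom f) {T T' : Scheme.{u}} (t : T ⟶ T')
    (ht : MoreMor.IsFirstOrderThickening t) (a : T ⟶ X) (b : T' ⟶ S) (w : t ≫ b = a ≫ f) :
    ∃! l : T' ⟶ X, t ≫ l = a ∧ l ≫ f = b := by
  obtain ⟨⟨hcl, hsurj⟩, hker⟩ := ht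
  have hsurj' : Function.Surjective t := hsurj.surj
  exact exists_unique_lift f (fun hU hV hUV => (isFormallyEtaleHom_iff f).mp hf _ _ hU hV hUV) t
    hsurj' hker a b w

/-- `S1489`. -/
theorem etale_iff {X S : Scheme.{u}} (f : X ⟶ S) :
    Etale f ↔ LocallyOfFinitePresentation f ∧ MoreMor.IsFormallyEtaleHom f := by
  rw [isFormallyEtaleHom_iff, HasRingHomProperty.iff_appLE (P := @Etale),
    HasRingHomProperty.iff_appLE (P := @LocallyOfFinitePresentation)]
  constructor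
  · intro h
    refine ⟨fun U V e => ?_, fun U V hU hV hUV => ?_⟩
    · have h1 : (f.appLE U.1 V.1 e).hom.Etale := h U V e
      let := (f.appLE U.1 V.1 e).hom.toAlgebra
      have h2 : Algebra.Etale Γ(S, U.1) Γ(X, V.1) := h1
      exact (h2.finitePresentation : Algebra.FinitePresentation Γ(S, U.1) Γ(X, V.1))
    · have h1 : (f.appLE V U hUV).hom.Etale := h ⟨V, hV⟩ ⟨U, hU⟩ hUV
      let := (f.appLE V U hUV).hom.toAlgebra
      have h2 : Algebra.Etale Γ(S, V) Γ(X, U) := h1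
      exact (h2.formallyEtale : Algebra.FormallyEtale Γ(S, V) Γ(X, U))
  · rintro ⟨h1, h2⟩ U V e
    have h3 : (f.appLE U.1 V.1 e).hom.FinitePresentation := h1 U V e
    have h4 : (f.appLE U.1 V.1 e).hom.FormallyEtale := h2 V.1 U.1 V.2 U.2 e
    let := (f.appLE U.1 V.1 e).hom.toAlgebra
    have h5 : Algebra.FinitePresentation Γ(S, U.1) Γ(X, V.1) := h3
    have h6 : Algebra.FormallyEtale Γ(S, U.1) Γ(X, V.1) := h4
    exact (⟨h6, h5⟩ : Algebra.Etale Γ(S, U.1) Γ(X, V.1))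

end Groth.Agent.Helper3.FormEt
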