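import Groth.Prelude.Def_EtGlue
import Mathlib.LinearAlgebra.TensorProduct.Quotient
import Mathlib.RingTheory.Localization.Away.Basic
import Mathlib.Algebra.Module.LocalizedModule.Basic
import Mathlib.Tactic.LinearCombination
import Mathlib.Tactic.Ring
import Mathlib.Tactic.Abel
import Mathlib.LinearAlgebra.DirectSum.Finsupp
import Mathlib.LinearAlgebra.TensorProduct.RightExactness

/-!
# Beauville–Laszlo glueing: basic lemmas

For a ring map `R → R'` and `f : R` with `R/f^n ≅ R'/f^n` for all `n > 0`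
(`EtGlue.QuotPowBijective`).
-/

namespace Groth.Agent.Helper3.BL

open TensorProduct

universe u

variable {R R' : Type u} [CommRing R] [CommRing R'] [Algebra R R'] {f : R}

/-- every element of `R'` is congruent mod `f^n` to an element of `R`. -/
lemma q_surj (hq : EtGlue.QuotPowBijective R R' f) (n : ℕ) (r' : R') :
    ∃ (a : R) (s' : R'), r' = algebraMap R R' a + algebraMap R R' f ^ n * s' := by
  rcases Nat.eq_zero_or_pos n with rfl | hn
  · exact ⟨0, r', by simp⟩
  · obtain ⟨a, ha⟩ := (hq n hn).2 (Ideal.Quotient.mk _ r')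
    obtain ⟨a, rfl⟩ := Ideal.Quotient.mk_surjective a
    rw [Ideal.quotientMap_mk, Ideal.Quotient.eq, Ideal.map_span, Set.image_singleton,
      Ideal.mem_span_singleton'] at ha
    obtain ⟨s', hs'⟩ := ha
    refine ⟨a, -s', ?_⟩
    rw [map_pow] at hs'
    linear_combination hs'

/-- if the image of `a` is divisible by `f^n` in `R'` then `a` is divisible by `f^n`. -/
lemma q_inj (hq : EtGlue.QuotPowBijective R R' f) (n : ℕ) (a : R) (s' : R')
    (h : algebraMap R R' a = algebraMap R R' f ^ n * s') : ∃ b : R, a = f ^ n * b := by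
  rcases Nat.eq_zero_or_pos n with rfl | hn
  · exact ⟨a, by simp⟩
  · have h0 : Ideal.quotientMap (Ideal.map (algebraMap R R') (Ideal.span {f ^ n}))
        (algebraMap R R') Ideal.le_comap_map (Ideal.Quotient.mk _ a) = 0 := by
      rw [Ideal.quotientMap_mk, Ideal.Quotient.eq_zero_iff_mem, Ideal.map_span,
        Set.image_singleton, Ideal.mem_span_singleton', map_pow]
      exact ⟨s', by rw [h]; ring⟩
    have := (hq n hn).1 (h0.trans (map_zero _).symm)
    rw [Ideal.Quotient.eq_zero_iff_mem, Ideal.mem_span_singleton'] at this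
    obtain ⟨b, hb⟩ := this
    exact ⟨b, by rw [← hb]; ring⟩

section Modules

variable (M : Type u) [AddCommGroup M] [Module R M]

/-- (L1) `R' ⊗ M = image of M + f^n (R' ⊗ M)`. -/
lemma tensor_decomp (hq : EtGlue.QuotPowBijective R R' f) (n : ℕ) (x : R' ⊗[R] M) :
    ∃ (m : M) (y : R' ⊗[R] M), x = (1 : R') ⊗ₜ[R] m + f ^ n • y := by
  induction x with
  | zero => exact ⟨0, 0, by simp⟩
  | tmul r' m =>
    obtain ⟨a, s', rfl⟩ := q_surj hq n r'
    refine ⟨a • m, s' ⊗ₜ[R] m, ?_⟩
    rw [add_tmul, TensorProduct.smul_tmul', ← map_pow, ← Algebra.smul_def,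
      ← TensorProduct.smul_tmul, Algebra.algebraMap_eq_smul_one]
  | add x y hx hy =>
    obtain ⟨m, y₁, rfl⟩ := hx
    obtain ⟨m', y₂, rfl⟩ := hy
    exact ⟨m + m', y₁ + y₂, by rw [tmul_add, smul_add]; abel⟩

/-- the submodule `f^n M`. -/
def fpow (f : R) (n : ℕ) : Submodule R M := LinearMap.range (LinearMap.lsmul R M (f ^ n))

variable {M}

lemma mem_fpow {n : ℕ} {m : M} : m ∈ fpow M f n ↔ ∃ m₀ : M, f ^ n • m₀ = m := by
  simp [fpow, LinearMap.mem_range]

/-- a representative in `R` of `r'` modulo `f^n`. -/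
noncomputable def rep (hq : EtGlue.QuotPowBijective R R' f) (n : ℕ) (r' : R') : R :=
  (q_surj hq n r').choose

lemma rep_spec (hq : EtGlue.QuotPowBijective R R' f) (n : ℕ) (r' : R') :
    ∃ s' : R', r' = algebraMap R R' (rep hq n r') + algebraMap R R' f ^ n * s' :=
  (q_surj hq n r').choose_spec

lemma smul_mem_fpow_of_dvd (hq : EtGlue.QuotPowBijective R R' f) (n : ℕ) (d : R)
    (hd : ∃ s' : R', algebraMap R R' d = algebraMap R R' f ^ n * s') (m : M) :
    d • m ∈ fpow M f n := by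
  obtain ⟨s', hs'⟩ := hd
  obtain ⟨b, rfl⟩ := q_inj hq n d s' hs'
  exact mem_fpow.2 ⟨b • m, by rw [smul_smul]⟩

variable (M)

/-- the retraction `R' ⊗ M → M / f^n M`. -/
noncomputable def retr (hq : EtGlue.QuotPowBijective R R' f) (n : ℕ) :
    R' ⊗[R] M →ₗ[R] M ⧸ fpow M f n :=
  TensorProduct.lift <| LinearMap.mk₂ R (fun r' m => Submodule.Quotient.mk (rep hq n r' • m))
    (by
      intro r₁ r₂ m
      rw [← Submodule.Quotient.mk_add, ← add_smul, eq_comm, Submodule.Quotient.eq, ← sub_smul]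
      apply smul_mem_fpow_of_dvd hq
      obtain ⟨s₁, h₁⟩ := rep_spec hq n r₁
      obtain ⟨s₂, h₂⟩ := rep_spec hq n r₂
      obtain ⟨s₃, h₃⟩ := rep_spec hq n (r₁ + r₂)
      refine ⟨s₃ - s₁ - s₂, ?_⟩
      rw [map_sub, map_add]
      linear_combination h₃ - h₁ - h₂)
    (by
      intro a r m
      rw [← Submodule.Quotient.mk_smul, smul_smul, eq_comm, Submodule.Quotient.eq, ← sub_smul]
      apply smul_mem_fpow_of_dvd hq
      obtain ⟨s₁, h₁⟩ := rep_spec hq n r
      obtain ⟨s₂, h₂⟩ := rep_spec hq n (a • r)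
      refine ⟨s₂ - algebraMap R R' a * s₁, ?_⟩
      rw [map_sub, map_mul]
      have h₂' : algebraMap R R' a * r = algebraMap R R' (rep hq n (a • r)) +
          algebraMap R R' f ^ n * s₂ := by rw [← Algebra.smul_def]; exact h₂
      linear_combination h₂' - algebraMap R R' a * h₁)
    (by
      intro r m m'
      rw [smul_add, Submodule.Quotient.mk_add])
    (by
      intro a r m
      rw [smul_comm, Submodule.Quotient.mk_smul])

lemma retr_one_tmul (hq : EtGlue.QuotPowBijective R R' f) (n : ℕ) (m : M) :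
    retr M hq n ((1 : R') ⊗ₜ[R] m) = Submodule.Quotient.mk m := by
  simp only [retr, TensorProduct.lift.tmul, LinearMap.mk₂_apply]
  rw [Submodule.Quotient.eq]
  have : rep hq n (1 : R') • m - m = (rep hq n (1 : R') - 1) • m := by rw [sub_smul, one_smul]
  rw [this]
  apply smul_mem_fpow_of_dvd hq
  obtain ⟨s₁, h₁⟩ := rep_spec hq n (1 : R')
  refine ⟨-s₁, ?_⟩
  rw [map_sub, map_one]
  linear_combination (-1 : R') * h₁

variable {M}

/-- (L2) if `1 ⊗ m` is divisible by `f^n` then so is `m`. -/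
lemma dvd_of_tmul_dvd (hq : EtGlue.QuotPowBijective R R' f) (n : ℕ) (m : M) (y : R' ⊗[R] M)
    (h : (1 : R') ⊗ₜ[R] m = f ^ n • y) : ∃ m₀ : M, m = f ^ n • m₀ := by
  have h1 := congrArg (retr M hq n) h
  rw [retr_one_tmul, map_smul] at h1
  obtain ⟨z, hz⟩ := Submodule.Quotient.mk_surjective _ (retr M hq n y)
  rw [← hz, ← Submodule.Quotient.mk_smul, Submodule.Quotient.eq] at h1
  have h2 : f ^ n • z ∈ fpow M f n := mem_fpow.2 ⟨z, rfl⟩
  have h3 : m ∈ fpow M f n := by
    have := Submodule.add_mem _ h1 h2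
    simpa using this
  obtain ⟨m₀, hm₀⟩ := mem_fpow.1 h3
  exact ⟨m₀, hm₀.symm⟩

end Modules

section Ring

/-- the torsion statements for the ring itself following from the glueing pair property. -/
lemma ring_tors_inj (h : EtGlue.IsGlueingPair R R' f) (x : R) (hx : ∃ n : ℕ, f ^ n * x = 0)
    (hx0 : algebraMap R R' x = 0) : x = 0 := by
  obtain ⟨-, hinj, -, -⟩ := h
  obtain ⟨n, hn⟩ := hx
  have h0 : algebraMap R (Localization.Away f) x = 0 := by
    have := congrArg (algebraMap R (Localization.Away f)) hn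
    rw [map_mul, map_zero, map_pow] at this
    exact (IsLocalization.Away.algebraMap_pow_isUnit f n).mul_right_eq_zero.1 this
  have h1 : (fun r : R => (algebraMap R R' r, algebraMap R (Localization.Away f) r)) x =
      (fun r : R => (algebraMap R R' r, algebraMap R (Localization.Away f) r)) 0 := by
    simp only [map_zero]
    rw [hx0, h0]
  exact hinj h1

lemma ring_tors_surj (h : EtGlue.IsGlueingPair R R' f) (n : ℕ) (x' : R')
    (hx' : algebraMap R R' f ^ n * x' = 0) :
    ∃ x : R, f ^ n * x = 0 ∧ algebraMap R R' x = x' := by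
  have h' := h
  obtain ⟨-, -, hmid, -⟩ := h
  have h0 : algebraMap R' (Localization.Away (algebraMap R R' f)) x' = 0 := by
    have := congrArg (algebraMap R' (Localization.Away (algebraMap R R' f))) hx'
    rw [map_mul, map_zero, map_pow] at this
    exact (IsLocalization.Away.algebraMap_pow_isUnit (algebraMap R R' f) n).mul_right_eq_zero.1 this
  obtain ⟨r, hr1, hr2⟩ := hmid x' 0 (by rw [h0, map_zero])
  obtain ⟨k, hk⟩ := IsLocalization.Away.exists_of_eq f (hr2.trans (map_zero _).symm)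
  refine ⟨r, ?_, hr1⟩
  apply ring_tors_inj h' (f ^ n * r) ⟨k, by rw [mul_left_comm, hk, mul_zero, mul_zero]⟩
  rw [map_mul, map_pow, hr1, hx']

end Ring

section Loc

variable (M : Type u) [AddCommGroup M] [Module R M]

lemma mk_one_eq_zero_iff (m : M) :
    LocalizedModule.mkLinearMap (Submonoid.powers f) M m = 0 ↔ ∃ k : ℕ, f ^ k • m = 0 := by
  rw [IsLocalizedModule.eq_zero_iff (Submonoid.powers f)]
  constructor
  · rintro ⟨⟨_, k, rfl⟩, hk⟩
    exact ⟨k, hk⟩
  · rintro ⟨k, hk⟩
    exact ⟨⟨f ^ k, k, rfl⟩, hk⟩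

lemma tensorOfLoc_mk (m : M) (s : Submonoid.powers f) :
    EtGlue.tensorOfLoc R R' f M (LocalizedModule.mk m s) =
      LocalizedModule.mk ((1 : R') ⊗ₜ[R] m) s := by
  rw [EtGlue.tensorOfLoc, IsLocalizedModule.map_LocalizedModules]
  rfl

lemma locOfTensor_apply (x : R' ⊗[R] M) :
    EtGlue.locOfTensor R R' f M x = LocalizedModule.mk x 1 := rfl

end Loc

section Glueable

variable {M : Type u} [AddCommGroup M] [Module R M]

/-- glueable iff `m ↦ 1 ⊗ m` is bijective on `f`-power torsion. -/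
theorem glueable_iff (hq : EtGlue.QuotPowBijective R R' f) :
    EtGlue.IsGlueable R R' f M ↔
      ((∀ m : M, (∃ n : ℕ, f ^ n • m = 0) → (1 : R') ⊗ₜ[R] m = 0 → m = 0) ∧
       (∀ x : R' ⊗[R] M, (∃ n : ℕ, f ^ n • x = 0) →
          ∃ m : M, (∃ n : ℕ, f ^ n • m = 0) ∧ (1 : R') ⊗ₜ[R] m = x)) := by
  constructor
  · rintro ⟨hinj, hmid⟩
    constructor
    · intro m hm hm0
      have h1 : (fun m : M => ((1 : R') ⊗ₜ[R] m,
          LocalizedModule.mkLinearMap (Submonoid.powers f) M m)) m =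
          (fun m : M => ((1 : R') ⊗ₜ[R] m,
          LocalizedModule.mkLinearMap (Submonoid.powers f) M m)) 0 := by
        simp only [tmul_zero, map_zero]
        rw [hm0, (mk_one_eq_zero_iff M m).2 hm]
      exact hinj h1
    · intro x hx
      have h0 : EtGlue.locOfTensor R R' f M x = EtGlue.tensorOfLoc R R' f M 0 := by
        rw [map_zero]
        exact (mk_one_eq_zero_iff (R' ⊗[R] M) x).2 hx
      obtain ⟨m, hm1, hm2⟩ := hmid x 0 h0
      exact ⟨m, (mk_one_eq_zero_iff M m).1 hm2, hm1⟩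
  · rintro ⟨htinj, htsurj⟩
    constructor
    · intro m m₂ h
      simp only [Prod.mk.injEq] at h
      obtain ⟨h1, h2⟩ := h
      have h3 : LocalizedModule.mkLinearMap (Submonoid.powers f) M (m - m₂) = 0 := by
        rw [map_sub, h2, sub_self]
      have := htinj (m - m₂) ((mk_one_eq_zero_iff M _).1 h3) (by rw [tmul_sub, h1, sub_self])
      exact sub_eq_zero.1 this
    · intro x y hxy
      induction y using LocalizedModule.induction_on with
      | h m s =>
      obtain ⟨_, n, rfl⟩ := s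
      rw [tensorOfLoc_mk, locOfTensor_apply, LocalizedModule.mk_eq] at hxy
      obtain ⟨⟨_, k, rfl⟩, hk⟩ := hxy
      simp only [Submonoid.smul_def, one_smul] at hk
      -- hk : f ^ k • f ^ n • x = f ^ k • 1 ⊗ m
      have h1 : (1 : R') ⊗ₜ[R] (f ^ k • m) = f ^ (n + k) • x := by
        rw [tmul_smul, ← hk, smul_smul, pow_add, mul_comm]
      obtain ⟨m₀, hm₀⟩ := dvd_of_tmul_dvd hq (n + k) (f ^ k • m) x h1
      have h2 : f ^ (n + k) • (x - (1 : R') ⊗ₜ[R] m₀) = 0 := by
        rw [smul_sub, ← h1, ← tmul_smul, hm₀, sub_self]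
      obtain ⟨τ, hτ, hτx⟩ := htsurj _ ⟨n + k, h2⟩
      refine ⟨m₀ + τ, by rw [tmul_add, hτx]; abel, ?_⟩
      rw [map_add, (mk_one_eq_zero_iff M τ).2 hτ, add_zero, LocalizedModule.mkLinearMap_apply,
        LocalizedModule.mk_eq]
      refine ⟨⟨f ^ k, k, rfl⟩, ?_⟩
      simp only [Submonoid.smul_def, one_smul]
      rw [hm₀, smul_smul, pow_add, mul_comm]

end Glueable

section TorsSurj

variable {M : Type u} [AddCommGroup M] [Module R M]

/-- the free case of Lemma T. -/
lemma free_tors_surj (h : EtGlue.IsGlueingPair R R' f) (ι : Type u) (n : ℕ)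
    (z : R' ⊗[R] (ι →₀ R)) (hz : f ^ n • z = 0) :
    ∃ v : ι →₀ R, f ^ n • v = 0 ∧ (1 : R') ⊗ₜ[R] v = z := by
  classical
  let e := TensorProduct.finsuppScalarRight R R R' ι
  set g := e z with hg
  have hg0 : ∀ i, algebraMap R R' f ^ n * g i = 0 := by
    intro i
    have : f ^ n • g = 0 := by rw [hg, ← map_smul, hz, map_zero]
    have := DFunLike.congr_fun this i
    rw [Finsupp.smul_apply, Algebra.smul_def, map_pow] at this
    exact this
  choose c hc1 hc2 using fun i => ring_tors_surj h n (g i) (hg0 i)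
  let v : ι →₀ R := Finsupp.onFinset g.support (fun i => if g i = 0 then 0 else c i) (by
    intro i hi
    rw [Finsupp.mem_support_iff]
    intro h0
    simp [h0] at hi)
  have hv : ∀ i, algebraMap R R' (v i) = g i := by
    intro i
    by_cases h0 : g i = 0
    · simp [v, h0]
    · simp [v, h0, hc2 i]
  refine ⟨v, ?_, ?_⟩
  · ext i
    by_cases h0 : g i = 0
    · simp [v, h0]
    · simp [v, h0, hc1 i]
  · apply e.injective
    ext i
    rw [TensorProduct.finsuppScalarRight_apply_tmul_apply, ← hg, ← hv i,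
      Algebra.algebraMap_eq_smul_one]

/-- Lemma T, reduction to a module `F` surjecting onto `M` for which the statement is known. -/
theorem tors_surj_aux (hq : EtGlue.QuotPowBijective R R' f) {F : Type u} [AddCommGroup F]
    [Module R F] (π : F →ₗ[R] M) (hπ : Function.Surjective π) (n : ℕ)
    (hF : ∀ z : R' ⊗[R] F, f ^ n • z = 0 → ∃ v : F, f ^ n • v = 0 ∧ (1 : R') ⊗ₜ[R] v = z)
    (x : R' ⊗[R] M) (hx : f ^ n • x = 0) :
    ∃ m : M, (∃ k : ℕ, f ^ k • m = 0) ∧ (1 : R') ⊗ₜ[R] m = x := by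
  have hex : Function.Exact (LinearMap.ker π).subtype π := LinearMap.exact_subtype_ker_map π
  obtain ⟨xt, rfl⟩ := LinearMap.lTensor_surjective R' hπ x
  have h1 : f ^ n • xt ∈ LinearMap.ker (π.lTensor R') := by
    rw [LinearMap.mem_ker, map_smul, hx]
  obtain ⟨κ', hκ'⟩ := (lTensor_exact R' hex hπ (f ^ n • xt)).1 h1
  obtain ⟨κ, κ'', rfl⟩ := tensor_decomp (LinearMap.ker π) hq n κ'
  set xt₂ := xt - ((LinearMap.ker π).subtype.lTensor R') κ'' with hxt₂
  have h2 : (1 : R') ⊗ₜ[R] (κ : F) = f ^ n • xt₂ := by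
    rw [hxt₂, smul_sub, ← hκ', map_add, map_smul, LinearMap.lTensor_tmul]
    simp
  obtain ⟨u, hu⟩ := dvd_of_tmul_dvd hq n (κ : F) xt₂ h2
  have h3 : f ^ n • (xt₂ - (1 : R') ⊗ₜ[R] u) = 0 := by
    rw [smul_sub, ← h2, ← tmul_smul, hu, sub_self]
  obtain ⟨v, hv1, hv2⟩ := hF _ h3
  have h4 : (π.lTensor R') xt = (π.lTensor R') xt₂ := by
    rw [hxt₂, map_sub, ← LinearMap.comp_apply, ← LinearMap.lTensor_comp]
    have : π ∘ₗ (LinearMap.ker π).subtype = 0 := by
      ext k; exact k.2
    rw [this, LinearMap.lTensor_zero, LinearMap.zero_apply, sub_zero]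
  refine ⟨π (u + v), ⟨n, ?_⟩, ?_⟩
  · rw [← map_smul, smul_add, ← hu, hv1, add_zero]
    exact κ.2
  · rw [h4]
    have : xt₂ = (1 : R') ⊗ₜ[R] (u + v) := by
      rw [tmul_add, hv2]; abel
    rw [this, LinearMap.lTensor_tmul]

/-- Lemma T: for a glueing pair, `f`-power torsion of `R' ⊗ M` comes from torsion of `M`. -/
theorem tors_surj (h : EtGlue.IsGlueingPair R R' f) (x : R' ⊗[R] M) (n : ℕ)
    (hx : f ^ n • x = 0) : ∃ m : M, (∃ k : ℕ, f ^ k • m = 0) ∧ (1 : R') ⊗ₜ[R] m = x := by
  refine tors_surj_aux h.1 (F := M →₀ R) (Finsupp.linearCombination R (id : M → M))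
    (fun m => ⟨Finsupp.single m 1, by simp⟩) n ?_ x hx
  intro z hz
  exact free_tors_surj h M n z hz

/-- for a glueing pair, glueable iff injective on torsion. -/
theorem glueable_iff_of_glueingPair (h : EtGlue.IsGlueingPair R R' f) :
    EtGlue.IsGlueable R R' f M ↔
      ∀ m : M, (∃ n : ℕ, f ^ n • m = 0) → (1 : R') ⊗ₜ[R] m = 0 → m = 0 := by
  rw [glueable_iff h.1]
  constructor
  · exact fun h' => h'.1
  · intro h'
    refine ⟨h', ?_⟩
    rintro x ⟨n, hn⟩
    exact tors_surj h x n hn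

end TorsSurj

end Groth.Agent.Helper3.BL
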