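import Groth.Prelude.Def_Found
import Mathlib.AlgebraicGeometry.Morphisms.Smooth
import Mathlib.AlgebraicGeometry.AffineScheme
import Groth.Agent.S9408

/-! Smooth ring maps are regular. -/

universe u

open TensorProduct

namespace Groth.Agent.Helper3.SmoothRegHom

theorem isGeometricallyRegular_self (k : Type u) [Field k] : CAlg.IsGeometricallyRegular k k := by
  intro k' _ _ _
  haveI : IsRegularRing k' := inferInstance
  exact IsRegularRing.of_ringEquiv (Algebra.TensorProduct.rid k k' k').symm.toRingEquiv

theorem isRegularHom_of_smooth (R S : Type u) [CommRing R] [CommRing S] [Algebra R S]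
    [Algebra.Smooth R S] : CAlg.IsRegularHom R S := by
  refine ⟨inferInstance, fun p hp => ?_⟩
  haveI : Algebra.Smooth p.ResidueField (p.Fiber S) := inferInstance
  refine ⟨Algebra.FiniteType.isNoetherianRing p.ResidueField _, ?_⟩
  exact Groth.Agent.S9408.result p.ResidueField p.ResidueField (p.Fiber S)
    (isGeometricallyRegular_self _)

open AlgebraicGeometry in
theorem main {X Y : Scheme.{u}} (f : X ⟶ Y) [Smooth f] (U : X.Opens) (V : Y.Opens)
    (hU : IsAffineOpen U) (hV : IsAffineOpen V) (hUV : U ≤ f ⁻¹ᵁ V) :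
    letI := (f.appLE V U hUV).hom.toAlgebra
    CAlg.IsRegularHom Γ(Y, V) Γ(X, U) := by
  letI := (f.appLE V U hUV).hom.toAlgebra
  haveI : Algebra.Smooth Γ(Y, V) Γ(X, U) := Smooth.smooth_appLE f hV hU hUV
  exact isRegularHom_of_smooth _ _

end Groth.Agent.Helper3.SmoothRegHom
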