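import Groth.Prelude.Def_Cyc
import Groth.Agent.Lib.Helper3.CohLen
import Groth.Agent.Lib.Helper13.EpiStalk
import Mathlib

/-!
# Additivity of `[F]_k` in short exact sequences
-/

universe u

open CategoryTheory CategoryTheory.Limits AlgebraicGeometry TopologicalSpace

namespace Groth.Agent.Helper3.CohLenAdd

open Groth.Agent.Helper13.QCoh Groth.Agent.Helper3.CohLen

variable {X : Scheme.{u}}

/-- The linear map on stalks induced by a morphism of modules. -/
noncomputable def stalkLin {F G : X.Modules} (φ : F ⟶ G) (x : X) :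
    F.presheaf.stalk x →ₗ[X.presheaf.stalk x] G.presheaf.stalk x where
  toFun := stalkMap φ x
  map_add' := map_add _
  map_smul' := stalkMap_smul φ x

lemma stalkLin_apply {F G : X.Modules} (φ : F ⟶ G) (x : X) (m : F.presheaf.stalk x) :
    stalkLin φ x m = stalkMap φ x m := rfl

lemma stalkMap_comp {F G H : X.Modules} (φ : F ⟶ G) (ψ : G ⟶ H) (x : X)
    (m : F.presheaf.stalk x) : stalkMap (φ ≫ ψ) x m = stalkMap ψ x (stalkMap φ x m) := by
  obtain ⟨U, hxU, m₀, rfl⟩ := TopCat.Presheaf.exists_germ_eq F.presheaf m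
  rw [stalkMap_germ, stalkMap_germ, stalkMap_germ]
  rfl

lemma stalkMap_zero {F G : X.Modules} (x : X) (m : F.presheaf.stalk x) :
    stalkMap (0 : F ⟶ G) x m = 0 := by
  obtain ⟨U, hxU, m₀, rfl⟩ := TopCat.Presheaf.exists_germ_eq F.presheaf m
  rw [stalkMap_germ]
  exact map_zero _

/-- Short exact sequences of modules give short exact sequences on stalks. -/
theorem stalk_shortExact (T : ShortComplex X.Modules) (hT : T.ShortExact) (x : X) :
    Function.Injective (stalkLin T.f x) ∧ Function.Surjective (stalkLin T.g x) ∧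
      Function.Exact (stalkLin T.f x) (stalkLin T.g x) := by
  haveI := hT.mono_f
  haveI := hT.epi_g
  refine ⟨(mono_iff_stalk_injective T.f).mp inferInstance x,
    Groth.Agent.Helper13.FinType.stalkMap_surjective_of_epi T.g x, ?_⟩
  intro m
  constructor
  · intro hm
    obtain ⟨m₁, hm₁⟩ := stalk_exact_of_exact_of_mono T hT.exact x m hm
    exact ⟨m₁, hm₁⟩
  · rintro ⟨m₁, rfl⟩
    change stalkMap T.g x (stalkMap T.f x m₁) = 0
    rw [← stalkMap_comp, T.zero, stalkMap_zero]

/-- S1896. -/
theorem s1896 (X : Scheme.{u}) (δ : X → ℤ) (hX : Cyc.IsSetup X δ) (k : ℤ)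
    (T : ShortComplex X.Modules) (hT : T.ShortExact) (h₁ : Coh.IsCoh T.X₁) (h₂ : Coh.IsCoh T.X₂)
    (h₃ : Coh.IsCoh T.X₃) (hdim : ∀ x : X, Nontrivial (T.X₂.presheaf.stalk x) → δ x ≤ k) :
    Cyc.sheafFun δ k T.X₂ = Cyc.sheafFun δ k T.X₁ + Cyc.sheafFun δ k T.X₃ := by
  obtain ⟨hN, -, hdf⟩ := hX
  haveI := hN
  funext x
  simp only [Cyc.sheafFun, Pi.add_apply]
  by_cases hk : δ x = k
  · simp only [hk, if_true]
    obtain ⟨hinj, hsurj, hex⟩ := stalk_shortExact T hT x
    have hadd := Module.length_eq_add_of_exact _ _ hinj hsurj hex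
    have hfin : Module.length (X.presheaf.stalk x) (T.X₂.presheaf.stalk x) ≠ ⊤ := by
      by_cases hnt : Nontrivial (T.X₂.presheaf.stalk x)
      · obtain ⟨hqc, hft⟩ := h₂
        haveI : T.X₂.IsQuasicoherent := hqc
        haveI : SheafOfModules.IsFiniteType (R := X.ringCatSheaf) T.X₂ := hft
        apply ne_of_lt
        apply length_stalk_lt_top T.X₂ x
        intro y hy hyx
        by_contra hne
        have h1 := (hdf y x hyx hne).1
        have h2 := hdim y hy
        omega
      · rw [not_nontrivial_iff_subsingleton] at hnt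
        rw [Module.length_eq_zero]
        simp
    rw [hadd] at hfin ⊢
    have h1 : Module.length (X.presheaf.stalk x) (T.X₁.presheaf.stalk x) ≠ ⊤ :=
      fun h => hfin (ENat.add_eq_top.mpr (Or.inl h))
    have h3 : Module.length (X.presheaf.stalk x) (T.X₃.presheaf.stalk x) ≠ ⊤ :=
      fun h => hfin (ENat.add_eq_top.mpr (Or.inr h))
    rw [ENat.toNat_add h1 h3]
    push_cast
    rfl
  · simp [hk]

end Groth.Agent.Helper3.CohLenAdd
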