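import Groth.Agent.Lib.Helper3.BL
import Mathlib.RingTheory.TensorProduct.DirectLimitFG
import Mathlib.Algebra.Module.LocalizedModule.Submodule
import Mathlib.RingTheory.Finiteness.Basic
import Mathlib.LinearAlgebra.TensorProduct.Finiteness
import Mathlib.RingTheory.Localization.Finiteness
import Mathlib.RingTheory.TensorProduct.Finite

/-!
# Beauville–Laszlo: torsion modules and finite generation
-/

namespace Groth.Agent.Helper3.BL

open TensorProduct

universe u

variable {R R' : Type u} [CommRing R] [CommRing R'] [Algebra R R'] {f : R}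

/-- a finitely generated `f`-power torsion module is killed by a power of `f`. -/
lemma exists_pow_smul_eq_zero_of_fg {T : Type u} [AddCommGroup T] [Module R T]
    (Q : Submodule R T) (hQ : Q.FG) (htors : ∀ t ∈ Q, ∃ n : ℕ, f ^ n • t = 0) :
    ∃ N : ℕ, ∀ t ∈ Q, f ^ N • t = 0 := by
  classical
  obtain ⟨s, rfl⟩ := hQ
  choose! n hn using htors
  refine ⟨s.sup n, ?_⟩
  intro t ht
  induction ht using Submodule.span_induction with
  | mem x hx =>
    have hle : n x ≤ s.sup n := Finset.le_sup hx
    obtain ⟨d, hd⟩ := Nat.exists_eq_add_of_le hle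
    rw [hd, pow_add, mul_comm, mul_smul, hn x (Submodule.subset_span hx), smul_zero]
  | zero => simp
  | add x y _ _ hx hy => rw [smul_add, hx, hy, add_zero]
  | smul a x _ hx => rw [smul_comm, hx, smul_zero]

/-- for an `f`-power torsion module `T`, the map `T → R' ⊗ T` is injective. -/
theorem tmul_injective_of_torsion (hq : EtGlue.QuotPowBijective R R' f)
    {T : Type u} [AddCommGroup T] [Module R T] (htors : ∀ t : T, ∃ n : ℕ, f ^ n • t = 0)
    (t : T) (ht : (1 : R') ⊗ₜ[R] t = 0) : t = 0 := by
  -- work in `T ⊗ R'`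
  have ht' : t ⊗ₜ[R] (1 : R') = 0 := by
    have := congrArg (TensorProduct.comm R R' T) ht
    simpa using this
  let P : Submodule R T := Submodule.span R {t}
  have hP : P.FG := Submodule.fg_span_singleton t
  let t₀ : P := ⟨t, Submodule.mem_span_singleton_self t⟩
  have h1 : (P.subtype.rTensor R') (t₀ ⊗ₜ[R] (1 : R')) = 0 := by
    rw [LinearMap.rTensor_tmul]; exact ht'
  obtain ⟨Q, hPQ, hQ, h2⟩ := TensorProduct.eq_zero_of_fg_of_subtype_eq_zero hP h1
  rw [LinearMap.rTensor_tmul] at h2
  obtain ⟨N, hN⟩ := exists_pow_smul_eq_zero_of_fg Q hQ (fun t _ => htors t)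
  have h3 : (1 : R') ⊗ₜ[R] (Submodule.inclusion hPQ t₀) = f ^ N • (0 : R' ⊗[R] Q) := by
    rw [smul_zero]
    have := congrArg (TensorProduct.comm R Q R') h2
    simpa using this
  obtain ⟨q₀, hq₀⟩ := dvd_of_tmul_dvd hq N _ _ h3
  have h4 : f ^ N • q₀ = 0 := by
    ext
    simpa using hN q₀ q₀.2
  rw [h4] at hq₀
  have := congrArg Subtype.val hq₀
  simpa [t₀] using this

/-- S2006: finite generation can be checked after base change to `R'` and `R_f`. -/
theorem finite_iff (hq : EtGlue.QuotPowBijective R R' f) (M : Type u) [AddCommGroup M]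
    [Module R M] :
    Module.Finite R M ↔ Module.Finite R' (R' ⊗[R] M) ∧
      Module.Finite (Localization.Away f) (LocalizedModule (Submonoid.powers f) M) := by
  constructor
  · intro h
    exact ⟨inferInstance, inferInstance⟩
  · rintro ⟨h1, h2⟩
    classical
    -- generators of `R' ⊗ M`
    obtain ⟨s, hs⟩ := h1.fg_top
    obtain ⟨P, hPfin, hPs⟩ :=
      TensorProduct.exists_finite_submodule_right_of_setFinite (R := R) (M := R') (N := M)
        (s : Set (R' ⊗[R] M)) s.finite_toSet
    have hP : P.FG := Module.Finite.iff_fg.1 hPfin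
    have hPtop : LinearMap.range (P.subtype.baseChange R') = ⊤ := by
      rw [eq_top_iff, ← hs, Submodule.span_le]
      intro z hz
      obtain ⟨w, hw⟩ := hPs hz
      exact ⟨w, hw⟩
    -- generators of `M_f`
    obtain ⟨s₂, hs₂⟩ := h2.fg_top
    have hex : ∀ y : LocalizedModule (Submonoid.powers f) M, ∃ m : M, ∃ t : Submonoid.powers f,
        LocalizedModule.mk m t = y := fun y => by
      induction y using LocalizedModule.induction_on with
      | h m t => exact ⟨m, t, rfl⟩
    choose num den hnd using hex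
    let P₂ : Submodule R M := Submodule.span R (num '' (s₂ : Set _))
    have hP₂ : P₂.FG := Submodule.fg_span (s₂.finite_toSet.image _)
    have hP₂top : P₂.localized (Submonoid.powers f) = ⊤ := by
      rw [eq_top_iff, ← hs₂, Submodule.span_le]
      intro y hy
      refine ⟨num y, Submodule.subset_span ⟨y, hy, rfl⟩, den y, ?_⟩
      rw [← IsLocalizedModule.mk_eq_mk']
      exact hnd y
    let M₀ := P ⊔ P₂
    have hM₀ : M₀.FG := hP.sup hP₂
    -- the quotient is torsion
    have htors : ∀ t : M ⧸ M₀, ∃ n : ℕ, f ^ n • t = 0 := by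
      intro t
      obtain ⟨m, rfl⟩ := Submodule.Quotient.mk_surjective _ t
      have : LocalizedModule.mkLinearMap (Submonoid.powers f) M m ∈
          P₂.localized (Submonoid.powers f) := by rw [hP₂top]; trivial
      obtain ⟨p, hp, t, ht⟩ := this
      rw [← IsLocalizedModule.mk_eq_mk', LocalizedModule.mkLinearMap_apply,
        LocalizedModule.mk_eq] at ht
      obtain ⟨⟨_, k, rfl⟩, hk⟩ := ht
      obtain ⟨_, j, rfl⟩ := t
      simp only [Submonoid.smul_def, one_smul] at hk
      refine ⟨k + j, ?_⟩
      rw [← Submodule.Quotient.mk_smul, Submodule.Quotient.mk_eq_zero, pow_add, mul_smul, ← hk]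
      exact M₀.smul_mem _ (le_sup_right (a := P) hp)
    -- `R' ⊗ (M/M₀) = 0`
    have hzero : ∀ z : R' ⊗[R] (M ⧸ M₀), z = 0 := by
      intro z
      obtain ⟨w, rfl⟩ := LinearMap.lTensor_surjective R' (Submodule.mkQ_surjective M₀) z
      have : w ∈ LinearMap.range (P.subtype.baseChange R') := by rw [hPtop]; trivial
      obtain ⟨v, rfl⟩ := this
      rw [LinearMap.baseChange_eq_ltensor, ← LinearMap.comp_apply, ← LinearMap.lTensor_comp]
      have : M₀.mkQ ∘ₗ P.subtype = 0 := by
        ext p
        simp only [LinearMap.comp_apply, Submodule.subtype_apply, Submodule.mkQ_apply,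
          LinearMap.zero_apply, Submodule.Quotient.mk_eq_zero]
        exact le_sup_left (b := P₂) p.2
      rw [this, LinearMap.lTensor_zero, LinearMap.zero_apply]
    have hM₀top : M₀ = ⊤ := by
      rw [eq_top_iff]
      intro m _
      have := tmul_injective_of_torsion hq htors (Submodule.Quotient.mk m) (hzero _)
      exact (Submodule.Quotient.mk_eq_zero _).1 this
    exact ⟨hM₀top ▸ hM₀⟩

end Groth.Agent.Helper3.BL
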