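import Mathlib

/-!
# The Hopf lemma on 1-generic bilinear maps over an algebraically closed field

via the Segre subalgebra `k[u_i v_j] ⊆ k[u, v]`, Krull's height theorem and the Nullstellensatz.
-/

set_option autoImplicit false
universe u

open MvPolynomial

namespace Groth.Agent.Helper3.HopfLemma

variable (k : Type u) [Field k] (m n : ℕ)

/-- the polynomial ring `k[u_1..u_m, v_1..v_n]` -/
abbrev S := MvPolynomial (Fin m ⊕ Fin n) k

/-- `u_i v_j` -/
noncomputable def w (i : Fin m) (j : Fin n) : S k m n := X (Sum.inl i) * X (Sum.inr j)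

/-- generating set -/
def gens : Set (S k m n) := Set.range (fun p : Fin m × Fin n => w k m n p.1 p.2)

/-- The Segre subalgebra `k[u_i v_j]`. -/
noncomputable def R : Subalgebra k (S k m n) := Algebra.adjoin k (gens k m n)

lemma w_mem (i : Fin m) (j : Fin n) : w k m n i j ∈ R k m n :=
  Algebra.subset_adjoin ⟨(i, j), rfl⟩

/-- `u_i v_j` as an element of `R`. -/
noncomputable def wR (i : Fin m) (j : Fin n) : R k m n := ⟨w k m n i j, w_mem k m n i j⟩

instance : Algebra.FiniteType k (R k m n) :=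
  (Subalgebra.fg_iff_finiteType _).mp (Subalgebra.fg_def.mpr ⟨_, Set.finite_range _, rfl⟩)

instance : IsNoetherianRing (R k m n) := Algebra.FiniteType.isNoetherianRing k _

instance : IsJacobsonRing (R k m n) := isJacobsonRing_of_finiteType (A := k)

/-- kill the variables in `T` -/
noncomputable def kill (T : Finset (Fin m ⊕ Fin n)) : S k m n →ₐ[k] S k m n :=
  aeval (fun s => if s ∈ T then 0 else X s)

lemma kill_X (T : Finset (Fin m ⊕ Fin n)) (s : Fin m ⊕ Fin n) :
    kill k m n T (X s) = if s ∈ T then 0 else X s := by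
  simp [kill]

lemma kill_comp {T T' : Finset (Fin m ⊕ Fin n)} (h : T ⊆ T') :
    (kill k m n T').comp (kill k m n T) = kill k m n T' := by
  apply MvPolynomial.algHom_ext
  intro s
  simp only [AlgHom.comp_apply, kill_X]
  by_cases hs : s ∈ T
  · simp [hs, h hs]
  · simp [hs, kill_X]

/-- evaluation at the origin -/
noncomputable def ev0 : S k m n →ₐ[k] k := aeval (fun _ => 0)

lemma ev0_comp_kill (T : Finset (Fin m ⊕ Fin n)) :
    (ev0 k m n).comp (kill k m n T) = ev0 k m n := by
  apply MvPolynomial.algHom_ext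
  intro s
  simp only [AlgHom.comp_apply, kill_X, ev0]
  by_cases hs : s ∈ T <;> simp [hs]

/-- The prime `P_T` of `R`. -/
noncomputable def PT (T : Finset (Fin m ⊕ Fin n)) : Ideal (R k m n) :=
  RingHom.ker ((kill k m n T).comp (R k m n).val : R k m n →ₐ[k] S k m n)

instance (T : Finset (Fin m ⊕ Fin n)) : (PT k m n T).IsPrime := by
  unfold PT
  exact RingHom.ker_isPrime _

/-- The irrelevant maximal ideal. -/
noncomputable def m0 : Ideal (R k m n) :=
  RingHom.ker ((ev0 k m n).comp (R k m n).val : R k m n →ₐ[k] k)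

instance : (m0 k m n).IsMaximal := by
  unfold m0
  apply RingHom.ker_isMaximal_of_surjective
  intro c
  exact ⟨algebraMap k _ c, by simp⟩

lemma PT_mono {T T' : Finset (Fin m ⊕ Fin n)} (h : T ⊆ T') : PT k m n T ≤ PT k m n T' := by
  intro r hr
  simp only [PT, RingHom.mem_ker, AlgHom.coe_comp, Function.comp_apply, Subalgebra.coe_val] at hr ⊢
  rw [← kill_comp k m n h, AlgHom.comp_apply, hr, map_zero]

lemma PT_le_m0 (T : Finset (Fin m ⊕ Fin n)) : PT k m n T ≤ m0 k m n := by
  intro r hr
  simp only [PT, m0, RingHom.mem_ker, AlgHom.coe_comp, Function.comp_apply,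
    Subalgebra.coe_val] at hr ⊢
  rw [← ev0_comp_kill k m n T, AlgHom.comp_apply, hr, map_zero]

lemma wR_mem_PT_iff (T : Finset (Fin m ⊕ Fin n)) (i : Fin m) (j : Fin n) :
    wR k m n i j ∈ PT k m n T ↔ Sum.inl i ∈ T ∨ Sum.inr j ∈ T := by
  simp only [PT, RingHom.mem_ker, AlgHom.coe_comp, Function.comp_apply, Subalgebra.coe_val, wR, w,
    map_mul, kill_X, mul_eq_zero]
  constructor
  · rintro (h | h)
    · left; by_contra hc; simp [hc] at h
    · right; by_contra hc; simp [hc] at h
  · rintro (h | h)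
    · left; simp [h]
    · right; simp [h]

lemma wR_mem_m0 (i : Fin m) (j : Fin n) : wR k m n i j ∈ m0 k m n := by
  simp [m0, RingHom.mem_ker, wR, w, ev0]


lemma card_le_height_PT (i₀ : Fin m) (j₀ : Fin n) (T : Finset (Fin m ⊕ Fin n))
    (h1 : Sum.inl i₀ ∉ T) (h2 : Sum.inr j₀ ∉ T) : (T.card : ℕ∞) ≤ (PT k m n T).height := by
  classical
  induction T using Finset.induction_on with
  | empty => simp
  | insert s T hs ih =>
    have h1' : Sum.inl i₀ ∉ T := fun h => h1 (Finset.mem_insert_of_mem h)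
    have h2' : Sum.inr j₀ ∉ T := fun h => h2 (Finset.mem_insert_of_mem h)
    have hlt : PT k m n T < PT k m n (insert s T) := by
      refine lt_of_le_of_ne (PT_mono k m n (Finset.subset_insert s T)) ?_
      intro heq
      rcases s with i | j
      · have : wR k m n i j₀ ∈ PT k m n T := by
          rw [heq, wR_mem_PT_iff]; left; exact Finset.mem_insert_self _ _
        rw [wR_mem_PT_iff] at this
        rcases this with h | h
        · exact hs h
        · exact h2' h
      · have : wR k m n i₀ j ∈ PT k m n T := by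
          rw [heq, wR_mem_PT_iff]; right; exact Finset.mem_insert_self _ _
        rw [wR_mem_PT_iff] at this
        rcases this with h | h
        · exact h1' h
        · exact hs h
    have := Ideal.height_add_one_le_of_lt_of_isPrime hlt
    rw [Finset.card_insert_of_notMem hs]
    push_cast
    exact (add_le_add_left (ih h1' h2') 1).trans this

lemma le_height_m0 (i₀ : Fin m) (j₀ : Fin n) :
    ((m + n - 1 : ℕ) : ℕ∞) ≤ (m0 k m n).height := by
  classical
  set T : Finset (Fin m ⊕ Fin n) := (Finset.univ.erase (Sum.inl i₀)).erase (Sum.inr j₀) with hT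
  have hcard : T.card = m + n - 2 := by
    rw [hT, Finset.card_erase_of_mem (by simp), Finset.card_erase_of_mem (by simp)]
    simp
    omega
  have h1 : Sum.inl i₀ ∉ T := by simp [hT]
  have h2 : Sum.inr j₀ ∉ T := by simp [hT]
  have hlt : PT k m n T < m0 k m n := by
    refine lt_of_le_of_ne (PT_le_m0 k m n T) ?_
    intro heq
    have : wR k m n i₀ j₀ ∈ PT k m n T := heq ▸ wR_mem_m0 k m n i₀ j₀
    rw [wR_mem_PT_iff] at this
    rcases this with h | h
    · exact h1 h
    · exact h2 h
  have h3 := Ideal.height_add_one_le_of_lt_of_isPrime hlt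
  have h4 := card_le_height_PT k m n i₀ j₀ T h1 h2
  rw [hcard] at h4
  have hmn : m + n - 1 = (m + n - 2) + 1 := by
    have := i₀.pos; have := j₀.pos; omega
  rw [hmn]
  push_cast
  exact (add_le_add_left h4 1).trans h3


section algClosed
variable [IsAlgClosed k]

/-- A maximal ideal of `R` gives a `k`-point. -/
lemma exists_algHom_ker_eq (𝔫 : Ideal (R k m n)) [h𝔫 : 𝔫.IsMaximal] :
    ∃ χ : R k m n →ₐ[k] k, ∀ r, χ r = 0 ↔ r ∈ 𝔫 := by
  letI := Ideal.Quotient.field 𝔫
  haveI : Algebra.FiniteType k (R k m n ⧸ 𝔫) :=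
    Algebra.FiniteType.of_surjective (Ideal.Quotient.mkₐ k 𝔫) (Ideal.Quotient.mkₐ_surjective k 𝔫)
  haveI : Module.Finite k (R k m n ⧸ 𝔫) := finite_of_finite_type_of_isJacobsonRing k _
  have hbij : Function.Bijective (algebraMap k (R k m n ⧸ 𝔫)) :=
    IsAlgClosed.algebraMap_bijective_of_isIntegral
  let e : k ≃ₐ[k] (R k m n ⧸ 𝔫) := AlgEquiv.ofBijective (Algebra.ofId k _) hbij
  refine ⟨e.symm.toAlgHom.comp (Ideal.Quotient.mkₐ k 𝔫), fun r => ?_⟩
  show e.symm (Ideal.Quotient.mk 𝔫 r) = 0 ↔ r ∈ 𝔫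
  rw [EmbeddingLike.map_eq_zero_iff, Ideal.Quotient.eq_zero_iff_mem]

theorem exists_algHom (c : ℕ) (hc : c + 2 ≤ m + n) (i₀ : Fin m) (j₀ : Fin n)
    (ℓ : Fin c → R k m n) (hℓ : ∀ t, ℓ t ∈ m0 k m n) :
    ∃ χ : R k m n →ₐ[k] k, (∀ t, χ (ℓ t) = 0) ∧ ∃ i j, χ (wR k m n i j) ≠ 0 := by
  classical
  by_contra hcon
  push Not at hcon
  set s : Finset (R k m n) := Finset.univ.image ℓ with hs
  have hmin : m0 k m n ∈ (Ideal.span (s : Set (R k m n))).minimalPrimes := by
    have hle : Ideal.span (s : Set (R k m n)) ≤ m0 k m n := by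
      rw [Ideal.span_le]
      intro r hr
      simp only [hs, Finset.coe_image, Finset.coe_univ, Set.image_univ, Set.mem_range] at hr
      obtain ⟨t, rfl⟩ := hr
      exact hℓ t
    refine ⟨⟨inferInstance, hle⟩, ?_⟩
    rintro Q ⟨hQ, hIQ⟩ hQm
    have hjac : Q.jacobson = Q := IsJacobsonRing.out inferInstance hQ.isRadical
    rw [← hjac]
    refine le_sInf ?_
    rintro 𝔫 ⟨hQ𝔫, h𝔫⟩
    obtain ⟨χ, hχ⟩ := exists_algHom_ker_eq k m n 𝔫
    have h1 : ∀ t, χ (ℓ t) = 0 := by
      intro t
      rw [hχ]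
      apply hQ𝔫
      apply hIQ
      apply Ideal.subset_span
      simp [hs]
    have h2 := hcon χ h1
    have h3 : χ = (ev0 k m n).comp (R k m n).val := by
      apply AlgHom.ext_of_eq_adjoin (s := gens k m n) rfl
      rintro x ⟨⟨i, j⟩, rfl⟩
      have h4 : χ (wR k m n i j) = 0 := h2 i j
      have h5 : ((ev0 k m n).comp (R k m n).val) (wR k m n i j) = 0 := by simp [wR, w, ev0]
      exact h4.trans h5.symm
    intro r hr
    rw [← hχ, h3]
    exact hr
  have h5 := Ideal.height_le_card_of_mem_minimalPrimes_span_finset hmin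
  have h6 := le_height_m0 k m n i₀ j₀
  have h7 : s.card ≤ c := by
    rw [hs]
    exact (Finset.card_image_le).trans (by simp)
  have h8 : ((m + n - 1 : ℕ) : ℕ∞) ≤ (c : ℕ∞) := h6.trans (h5.trans (by exact_mod_cast h7))
  have h9 : m + n - 1 ≤ c := by exact_mod_cast h8
  omega


omit [IsAlgClosed k] in
lemma wR_mul_wR (i i' : Fin m) (j j' : Fin n) :
    wR k m n i j * wR k m n i' j' = wR k m n i j' * wR k m n i' j := by
  apply Subtype.ext
  simp only [wR, w, MulMemClass.mk_mul_mk]
  ring

/-- Coordinate form of the Hopf lemma: `c ≤ m + n - 2` bilinear forms on `k^m × k^n` have a common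
zero `(x, y)` with `x ≠ 0`, `y ≠ 0`. -/
theorem exists_rank_one (c : ℕ) (hc : c + 2 ≤ m + n) (hm : 0 < m) (hn : 0 < n)
    (a : Fin c → Fin m → Fin n → k) :
    ∃ (x : Fin m → k) (y : Fin n → k), x ≠ 0 ∧ y ≠ 0 ∧
      ∀ t, ∑ i, ∑ j, a t i j * (x i * y j) = 0 := by
  set ℓ : Fin c → R k m n := fun t => ∑ i, ∑ j, a t i j • wR k m n i j with hℓ
  have hℓm : ∀ t, ℓ t ∈ m0 k m n := by
    intro t
    refine Ideal.sum_mem _ fun i _ => Ideal.sum_mem _ fun j _ => ?_
    rw [Algebra.smul_def]
    exact Ideal.mul_mem_left _ _ (wR_mem_m0 k m n i j)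
  obtain ⟨χ, hχ, i₁, j₁, hne⟩ := exists_algHom k m n c hc ⟨0, hm⟩ ⟨0, hn⟩ ℓ hℓm
  set A : Fin m → Fin n → k := fun i j => χ (wR k m n i j) with hA
  have hrel : ∀ i i' j j', A i j * A i' j' = A i j' * A i' j := by
    intro i i' j j'
    simp only [hA, ← map_mul, wR_mul_wR k m n i i' j j']
  refine ⟨fun i => A i j₁, fun j => A i₁ j / A i₁ j₁, ?_, ?_, ?_⟩
  · intro h
    exact hne (congrFun h i₁)
  · intro h
    have := congrFun h j₁
    simp only [Pi.zero_apply] at this
    rw [div_self hne] at this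
    exact one_ne_zero this
  · intro t
    have key : ∀ i j, A i j₁ * (A i₁ j / A i₁ j₁) = A i j := by
      intro i j
      rw [← mul_div_assoc, hrel i i₁ j₁ j, mul_div_assoc, div_self hne, mul_one]
    simp only [key]
    have := hχ t
    simp only [hℓ, map_sum, map_smul, smul_eq_mul] at this
    exact this


/-- **Hopf lemma**: a 1-generic bilinear map `U × V → W` over an algebraically closed field has
`dim U + dim V ≤ dim W + 1`. -/
theorem hopf {U : Type*} {V : Type*} {W : Type*} [AddCommGroup U] [Module k U] [AddCommGroup V]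
    [Module k V] [AddCommGroup W] [Module k W] [Module.Finite k U] [Module.Finite k V]
    [Module.Finite k W] [Nontrivial U] [Nontrivial V]
    (φ : U →ₗ[k] V →ₗ[k] W) (hφ : ∀ (a : U) (b : V), a ≠ 0 → b ≠ 0 → φ a b ≠ 0) :
    Module.finrank k U + Module.finrank k V ≤ Module.finrank k W + 1 := by
  by_contra hcon
  push Not at hcon
  set bU := Module.finBasis k U
  set bV := Module.finBasis k V
  set bW := Module.finBasis k W
  have hm : 0 < Module.finrank k U := Module.finrank_pos
  have hn : 0 < Module.finrank k V := Module.finrank_pos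
  obtain ⟨x, y, hx, hy, hxy⟩ := exists_rank_one k (Module.finrank k U) (Module.finrank k V)
    (Module.finrank k W) (by omega) hm hn (fun t i j => bW.repr (φ (bU i) (bV j)) t)
  set u : U := ∑ i, x i • bU i with hu
  set v : V := ∑ j, y j • bV j with hv
  have hu0 : u ≠ 0 := by
    intro h
    apply hx
    have := congrArg bU.equivFun h
    rw [hu, Module.Basis.equivFun_apply, Module.Basis.repr_sum_self, map_zero] at this
    funext i
    exact congrFun this i
  have hv0 : v ≠ 0 := by
    intro h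
    apply hy
    have := congrArg bV.equivFun h
    rw [hv, Module.Basis.equivFun_apply, Module.Basis.repr_sum_self, map_zero] at this
    funext i
    exact congrFun this i
  apply hφ u v hu0 hv0
  apply bW.repr.injective
  rw [map_zero]
  ext t
  rw [hu, hv]
  simp only [map_sum, map_smul, LinearMap.sum_apply, LinearMap.smul_apply, Finsupp.coe_finsetSum,
    Finsupp.coe_smul, Finset.sum_apply, Pi.smul_apply, smul_eq_mul, Finsupp.coe_zero, Pi.zero_apply]
  have h := hxy t
  rw [Finset.sum_comm] at h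
  refine Eq.trans ?_ h
  refine Finset.sum_congr rfl fun j _ => ?_
  rw [Finset.mul_sum]
  refine Finset.sum_congr rfl fun i _ => ?_
  ring

end algClosed

end Groth.Agent.Helper3.HopfLemma
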