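import Mathlib
import Groth.Prelude.Def_Curv2
import Groth.Agent.Lib.Helper13.CurveVan4
import Groth.Agent.Lib.Helper24.LinLES2
import Groth.Agent.Lib.Helper9.PowKill
import Groth.Agent.Lib.Helper28.H0Const
import Groth.Agent.Lib.Helper3.HopfLemma
import Groth.Agent.Lib.Helper3.CurveHopfA

/-!
# The Hopf lemma on curves (helper3)

For a proper integral curve `X` over an algebraically closed field `k` and an invertible module
`L` with `H⁰(L) ≠ 0 ≠ H¹(L)`, the pairing `H⁰(L) × H¹(O) → H¹(L)` is 1-generic (a nonzero section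
induces a surjection on `H¹`), so `h⁰(L) + h¹(L) ≤ g + 1` by the Hopf lemma.  Consequences:
`H¹(L) = 0` for `deg L ≥ 2g - 1` (S1522).
-/

set_option autoImplicit false
universe u
open CategoryTheory CategoryTheory.Limits AlgebraicGeometry Opposite TopologicalSpace

namespace Groth.Agent.Helper3.CurveHopf

open Groth.Agent.Helper13.PnFin Groth.Agent.Helper13.LocFree



section Curve

variable (k : Type u) [Field k] (X : Scheme.{u}) [X.Over (Spec (CommRingCat.of k))]
  [IsIntegral X] [IsProper (X ↘ Spec (CommRingCat.of k))]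

/-- a nonzero section of an invertible module on a proper integral curve induces a surjection
on `H¹`. -/
theorem hstar_surjective (hdim : topologicalKrullDim X = 1) (L : X.Modules)
    (hL : PicF.IsInvertible L) (s : Coh.structureModule X ⟶ L) (hs : s ≠ 0) :
    Function.Surjective (hstar k s 1) := by
  have hO : PicF.IsInvertible (Coh.structureModule X) :=
    Groth.Agent.Helper13.Inv.isInvertible_structureModule
  haveI := Groth.Agent.Helper13.CurveDeg.mono_of_ne_zero (Coh.structureModule X) L hO hL s hs
  let S : ShortComplex X.Modules := ShortComplex.mk s (cokernel.π s) (cokernel.condition s)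
  have hS : S.ShortExact :=
    ShortComplex.ShortExact.mk' (ShortComplex.exact_of_g_is_cokernel _ (cokernelIsCokernel s))
      (inferInstanceAs (Mono s)) (inferInstanceAs (Epi (cokernel.π s)))
  have hQ := Groth.Agent.Helper13.CurveDeg.isCoh_cokernel X (Coh.structureModule X) L hO hL s
  have hQd := Groth.Agent.Helper13.CurveDeg.dim_support_cokernel X (Coh.structureModule X) L hO hL
    s hdim hs
  haveI : Subsingleton (Coh.HH X (cokernel s) 1) :=
    Groth.Agent.S1526.result k X (cokernel s) hQ hQd 1 le_rfl
  have hr := Groth.Agent.Helper24.LinLES.range_f_eq_ker_g k S hS 1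
  intro y
  have hy : y ∈ LinearMap.ker (hstar k S.g 1) := by
    rw [LinearMap.mem_ker]
    exact Subsingleton.elim _ _
  rw [← hr] at hy
  exact LinearMap.mem_range.mp hy

/-- the pairing `H⁰(L) × H¹(L)^* → H¹(O)^*`. -/
noncomputable def pairing (L : X.Modules) :
    Coh.HH X L 0 →ₗ[k] Module.Dual k (Coh.HH X L 1) →ₗ[k]
      Module.Dual k (Coh.HH X (Coh.structureModule X) 1) :=
  LinearMap.mk₂ k (fun u ψ => ψ.comp (hstar k (secHom L u) 1))
    (fun u v ψ => by
      show ψ.comp (hstar k (secHom L (u + v)) 1) =
        ψ.comp (hstar k (secHom L u) 1) + ψ.comp (hstar k (secHom L v) 1)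
      rw [secHom_add, hstar_add, LinearMap.comp_add])
    (fun c u ψ => by
      show ψ.comp (hstar k (secHom L (c • u)) 1) = c • ψ.comp (hstar k (secHom L u) 1)
      rw [hstar_secHom_smul, LinearMap.comp_smul])
    (fun u ψ ψ' => LinearMap.add_comp _ _ _)
    (fun c u ψ => LinearMap.smul_comp _ _ _)

theorem pairing_apply (L : X.Modules) (u : Coh.HH X L 0) (ψ : Module.Dual k (Coh.HH X L 1))
    (x : Coh.HH X (Coh.structureModule X) 1) :
    pairing k X L u ψ x = ψ (hstar k (secHom L u) 1 x) := rfl

theorem finite_HH (F : X.Modules) (hF : Coh.IsCoh F) (n : ℕ) : Module.Finite k (Coh.HH X F n) :=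
  Groth.Agent.Helper13.FinProj.finite_HH_of_isProper k X F hF n

/-- **Hopf inequality** `h⁰(L) + h¹(L) ≤ g + 1` when both are nonzero. -/
theorem hopf_ineq [IsAlgClosed k] (hdim : topologicalKrullDim X = 1) (L : X.Modules)
    (hL : PicF.IsInvertible L) (h0 : Nontrivial (Coh.HH X L 0)) (h1 : Nontrivial (Coh.HH X L 1)) :
    Module.finrank k (Coh.HH X L 0) + Module.finrank k (Coh.HH X L 1) ≤ Curv2.genus k X + 1 := by
  have hLc := Groth.Agent.Helper13.CurveDeg.isCoh_of_isInvertible L hL
  have hOc := Groth.Agent.Helper13.CohRoof.isCoh_structureModule X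
  haveI := finite_HH k X L hLc 0
  haveI := finite_HH k X L hLc 1
  haveI := finite_HH k X (Coh.structureModule X) hOc 1
  haveI : Nontrivial (Module.Dual k (Coh.HH X L 1)) := by
    apply Module.nontrivial_of_finrank_pos (R := k)
    rw [Subspace.dual_finrank_eq]
    exact Module.finrank_pos
  have h := Groth.Agent.Helper3.HopfLemma.hopf k (pairing k X L) (by
    intro u ψ hu hψ hzero
    apply hψ
    have hsurj := hstar_surjective k X hdim L hL (secHom L u) (secHom_ne_zero L u hu)
    apply LinearMap.ext
    intro y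
    obtain ⟨x, rfl⟩ := hsurj y
    have h3 := LinearMap.congr_fun hzero x
    rw [pairing_apply] at h3
    rw [h3]
    rfl)
  rw [Subspace.dual_finrank_eq, Subspace.dual_finrank_eq] at h
  exact h

theorem nontrivial_h0_structure : Nontrivial (Coh.HH X (Coh.structureModule X) 0) := by
  haveI : Nontrivial (Coh.Γtop X) := (inferInstance : Nontrivial Γ(X, ⊤))
  exact (Groth.Agent.Helper28.H0Const.h0Equiv X).symm.injective.nontrivial

/-- S1522 -/
theorem main1522 [IsAlgClosed k] (hdim : topologicalKrullDim X = 1)
    (L : X.Modules) (hL : PicF.IsInvertible L)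
    (hdeg : 2 * (Curv2.genus k X : ℤ) - 1 ≤ Curv2.deg k X L 1) :
    Subsingleton (Coh.HH X L 1) := by
  by_contra hns
  rw [not_subsingleton_iff_nontrivial] at hns
  have hLc := Groth.Agent.Helper13.CurveDeg.isCoh_of_isInvertible L hL
  have hOc := Groth.Agent.Helper13.CohRoof.isCoh_structureModule X
  haveI := hLc.1
  haveI := hOc.1
  haveI := finite_HH k X L hLc 0
  haveI := finite_HH k X L hLc 1
  haveI := finite_HH k X (Coh.structureModule X) hOc 0
  haveI := finite_HH k X (Coh.structureModule X) hOc 1
  have eL := Groth.Agent.Helper13.CurveVan.euler_eq_sub k X hdim.le L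
  have eO := Groth.Agent.Helper13.CurveVan.euler_eq_sub k X hdim.le (Coh.structureModule X)
  haveI := nontrivial_h0_structure X
  have ha : 0 < Module.finrank k (Coh.HH X (Coh.structureModule X) 0) := Module.finrank_pos
  have h1pos : 0 < Module.finrank k (Coh.HH X L 1) := Module.finrank_pos
  unfold Curv2.deg at hdeg
  rw [eL, eO] at hdeg
  have hg : Curv2.genus k X = Module.finrank k (Coh.HH X (Coh.structureModule X) 1) := rfl
  rw [hg] at hdeg
  push_cast at hdeg
  have h0pos : 0 < Module.finrank k (Coh.HH X L 0) := by omega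
  haveI : Nontrivial (Coh.HH X L 0) := Module.nontrivial_of_finrank_pos (R := k) h0pos
  have hH := hopf_ineq k X hdim L hL inferInstance hns
  rw [hg] at hH
  omega

end Curve

end Groth.Agent.Helper3.CurveHopf
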