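import Mathlib

/-!
# Integer arithmetic behind slope inequalities on curves (helper3)
-/

set_option autoImplicit false

namespace Groth.Agent.Helper3.CurveArith

theorem arith_le (d D g m a : ℤ) (hg0 : 0 ≤ g) (hd : 2 * g ≤ d) (hm : 1 ≤ m) (hsec : m + 1 ≤ a)
    (hdeg : D ≤ d) (h : D = a - 1 + g ∨ 2 * a ≤ D + 2) : d * m ≤ D * (d - g) := by
  have hd0 : 0 ≤ d := by linarith
  rcases h with h | h
  · have h1 : 0 ≤ D - g - m := by linarith
    have h2 : 0 ≤ d - D := by linarith
    nlinarith [mul_nonneg hd0 h1, mul_nonneg hg0 h2]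
  · have h1 : 0 ≤ D - 2 * m := by linarith
    have h2 : 0 ≤ d - 2 * g := by linarith
    have hD0 : 0 ≤ D := by linarith
    nlinarith [mul_nonneg hD0 h2, mul_nonneg hd0 h1]

theorem arith_lt (d D g m a : ℤ) (hg1 : 1 ≤ g) (hd : 2 * g < d) (hm : 1 ≤ m) (hsec : m + 1 ≤ a)
    (hdeg : D ≤ d) (hlt : D < d ∨ m < d - g) (h : D = a - 1 + g ∨ 2 * a ≤ D + 2) :
    d * m < D * (d - g) := by
  have hd0 : 0 < d := by linarith
  have hg0 : 0 < g := by linarith
  rcases h with h | h
  · have h1 : 0 ≤ D - g - m := by linarith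
    have h2 : 0 ≤ d - D := by linarith
    rcases hdeg.lt_or_eq with hlt' | heq
    · have h3 : 0 < d - D := by linarith
      nlinarith [mul_nonneg hd0.le h1, mul_pos hg0 h3]
    · have h4 : 0 < D - g - m := by
        rcases hlt with h5 | h5
        · exact absurd heq h5.ne
        · linarith
      nlinarith [mul_pos hd0 h4, mul_nonneg hg0.le h2]
  · have h1 : 0 ≤ D - 2 * m := by linarith
    have h2 : 0 < d - 2 * g := by linarith
    have hD0 : 0 < D := by linarith
    nlinarith [mul_pos hD0 h2, mul_nonneg hd0.le h1]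

end Groth.Agent.Helper3.CurveArith
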