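import Mathlib
import Groth.Prelude.Def_Curv2
import Groth.Agent.Lib.Helper3.CurveHopf
import Groth.Agent.Lib.Helper18.CurveH0
import Groth.Agent.Lib.Helper3.CurveArith

/-!
# Consequences of the Hopf inequality on curves (helper3): S18895, S11823, S19204, S19205, S16966
-/

set_option autoImplicit false
universe u
open CategoryTheory CategoryTheory.Limits AlgebraicGeometry Opposite TopologicalSpace

namespace Groth.Agent.Helper3.CurveHopf

open Groth.Agent.Helper13.PnFin Groth.Agent.Helper13.LocFree Groth.Agent.Helper28.H0Const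

variable (k : Type u) [Field k] (X : Scheme.{u}) [X.Over (Spec (CommRingCat.of k))]
  [IsIntegral X] [IsProper (X ↘ Spec (CommRingCat.of k))]

/-- global functions on a proper integral scheme over an algebraically closed field are the
constants. -/
theorem finrank_h0_of_isAlgClosed [IsAlgClosed k] :
    Module.finrank k (Coh.HH X (Coh.structureModule X) 0) = 1 := by
  have hint : ((Scheme.ΓSpecIso (CommRingCat.of k)).inv ≫
      (X ↘ Spec (CommRingCat.of k)).appTop).hom.IsIntegral := by
    have h1 := isIntegral_appTop_of_universallyClosed (X ↘ Spec (CommRingCat.of k))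
    have h2 : (Scheme.ΓSpecIso (CommRingCat.of k)).inv.hom.IsIntegral :=
      RingHom.isIntegral_of_surjective _
        (ConcreteCategory.bijective_of_isIso (Scheme.ΓSpecIso (CommRingCat.of k)).inv).2
    exact RingHom.IsIntegral.trans _ _ h2 h1
  have hsurj : Function.Surjective ((Scheme.ΓSpecIso (CommRingCat.of k)).inv ≫
      (X ↘ Spec (CommRingCat.of k)).appTop).hom :=
    surjective_of_isIntegral _ hint (idem_of_connected X)
  have hsmul : ∀ (c : k) (x : Coh.HH X (Coh.structureModule X) 0),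
      h0Equiv X (c • x) = Coh.toGlobal (X ↘ Spec (CommRingCat.of k)) c * h0Equiv X x :=
    fun c x => h0Equiv_smul X _ x
  have hune : (h0Equiv X).symm 1 ≠ 0 := by
    intro hu0
    have h10 : (1 : Coh.Γtop X) = 0 := by
      have := congrArg (h0Equiv X) hu0
      rwa [AddEquiv.apply_symm_apply, map_zero] at this
    exact one_ne_zero (α := Γ(X, ⊤)) h10
  rw [finrank_eq_one_iff_of_nonzero' _ hune]
  intro w
  obtain ⟨c, hc⟩ := hsurj (h0Equiv X w)
  refine ⟨c, ?_⟩
  apply (h0Equiv X).injective
  rw [hsmul, AddEquiv.apply_symm_apply, mul_one]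
  exact hc

/-- S18895 (integral form). -/
theorem main18895 [IsAlgClosed k] (hdim : topologicalKrullDim X = 1) (hg : 1 ≤ Curv2.genus k X)
    (L : X.Modules) (hL : PicF.IsInvertible L) (hdeg : 0 < Curv2.deg k X L 1) :
    (Module.finrank k (Coh.HH X L 0) : ℤ) ≤ Curv2.deg k X L 1 := by
  by_contra hlt
  rw [not_le] at hlt
  have hLc := Groth.Agent.Helper13.CurveDeg.isCoh_of_isInvertible L hL
  have hOc := Groth.Agent.Helper13.CohRoof.isCoh_structureModule X
  haveI := hLc.1
  haveI := hOc.1
  haveI := finite_HH k X L hLc 0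
  haveI := finite_HH k X L hLc 1
  have eL := Groth.Agent.Helper13.CurveVan.euler_eq_sub k X hdim.le L
  have eO := Groth.Agent.Helper13.CurveVan.euler_eq_sub k X hdim.le (Coh.structureModule X)
  have ha := finrank_h0_of_isAlgClosed k X
  have hgdef : Curv2.genus k X = Module.finrank k (Coh.HH X (Coh.structureModule X) 1) := rfl
  unfold Curv2.deg at hdeg hlt
  rw [eL, eO, ha] at hdeg hlt
  rw [hgdef] at hg
  push_cast at hdeg hlt
  have h0pos : 0 < Module.finrank k (Coh.HH X L 0) := by omega
  have h1pos : 0 < Module.finrank k (Coh.HH X L 1) := by omega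
  haveI : Nontrivial (Coh.HH X L 0) := Module.nontrivial_of_finrank_pos (R := k) h0pos
  haveI : Nontrivial (Coh.HH X L 1) := Module.nontrivial_of_finrank_pos (R := k) h1pos
  have hH := hopf_ineq k X hdim L hL inferInstance inferInstance
  rw [hgdef] at hH
  omega

/-- S11823: `h⁰(L) > g` forces `H¹(L) = 0`. -/
theorem main11823 [IsAlgClosed k] (hdim : topologicalKrullDim X = 1)
    (L : X.Modules) (hL : PicF.IsInvertible L)
    (h0 : Curv2.genus k X < Module.finrank k (Coh.HH X L 0)) :
    Subsingleton (Coh.HH X L 1) := by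
  by_contra hns
  rw [not_subsingleton_iff_nontrivial] at hns
  have hLc := Groth.Agent.Helper13.CurveDeg.isCoh_of_isInvertible L hL
  haveI := finite_HH k X L hLc 1
  have h0pos : 0 < Module.finrank k (Coh.HH X L 0) := by omega
  haveI : Nontrivial (Coh.HH X L 0) := Module.nontrivial_of_finrank_pos (R := k) h0pos
  have h1pos : 0 < Module.finrank k (Coh.HH X L 1) := Module.finrank_pos
  have hH := hopf_ineq k X hdim L hL inferInstance hns
  omega

/-- Riemann–Roch bookkeeping: `deg M = h⁰(M) - h¹(M) - 1 + g` (with `h⁰(O) = 1`). -/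
theorem deg_eq_rr [IsAlgClosed k] (hdim : topologicalKrullDim X = 1) (M : X.Modules)
    (hM : PicF.IsInvertible M) :
    Curv2.deg k X M 1 = (Module.finrank k (Coh.HH X M 0) : ℤ) -
      (Module.finrank k (Coh.HH X M 1) : ℤ) - 1 + (Curv2.genus k X : ℤ) := by
  have hMc := Groth.Agent.Helper13.CurveDeg.isCoh_of_isInvertible M hM
  have hOc := Groth.Agent.Helper13.CohRoof.isCoh_structureModule X
  haveI := hMc.1
  haveI := hOc.1
  have eM := Groth.Agent.Helper13.CurveVan.euler_eq_sub k X hdim.le M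
  have eO := Groth.Agent.Helper13.CurveVan.euler_eq_sub k X hdim.le (Coh.structureModule X)
  have ha := finrank_h0_of_isAlgClosed k X
  have hgdef : Curv2.genus k X = Module.finrank k (Coh.HH X (Coh.structureModule X) 1) := rfl
  unfold Curv2.deg
  rw [eM, eO, ha, hgdef]
  push_cast
  ring

/-- dichotomy: either `h¹ = 0` and Riemann–Roch computes `h⁰`, or Clifford's bound holds. -/
theorem h0_dichotomy [IsAlgClosed k] (hdim : topologicalKrullDim X = 1) (M : X.Modules)
    (hM : PicF.IsInvertible M) (ha : 0 < Module.finrank k (Coh.HH X M 0)) :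
    (Curv2.deg k X M 1 = (Module.finrank k (Coh.HH X M 0) : ℤ) - 1 + (Curv2.genus k X : ℤ)) ∨
      (2 * (Module.finrank k (Coh.HH X M 0) : ℤ) ≤ Curv2.deg k X M 1 + 2) := by
  have hMc := Groth.Agent.Helper13.CurveDeg.isCoh_of_isInvertible M hM
  haveI := finite_HH k X M hMc 1
  have hrr := deg_eq_rr k X hdim M hM
  by_cases h1 : Subsingleton (Coh.HH X M 1)
  · left
    have hz : Module.finrank k (Coh.HH X M 1) = 0 := Module.finrank_zero_of_subsingleton
    rw [hrr, hz]
    push_cast
    ring
  · right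
    rw [not_subsingleton_iff_nontrivial] at h1
    haveI : Nontrivial (Coh.HH X M 0) := Module.nontrivial_of_finrank_pos (R := k) ha
    have hH := hopf_ineq k X hdim M hM inferInstance h1
    have hH' : (Module.finrank k (Coh.HH X M 0) : ℤ) + (Module.finrank k (Coh.HH X M 1) : ℤ) ≤
        (Curv2.genus k X : ℤ) + 1 := by exact_mod_cast hH
    rw [hrr]
    linarith

/-- S19205 -/
theorem main19205 [IsAlgClosed k] (hdim : topologicalKrullDim X = 1)
    (d : ℤ) (hd : 2 * (Curv2.genus k X : ℤ) ≤ d)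
    (M : X.Modules) (hM : PicF.IsInvertible M) (m : ℕ) (hm : 1 ≤ m)
    (hsec : m + 1 ≤ Module.finrank k (Coh.HH X M 0)) (hdeg : Curv2.deg k X M 1 ≤ d) :
    d * (m : ℤ) ≤ Curv2.deg k X M 1 * (d - Curv2.genus k X) := by
  have ha : 0 < Module.finrank k (Coh.HH X M 0) := by omega
  exact Groth.Agent.Helper3.CurveArith.arith_le d (Curv2.deg k X M 1) (Curv2.genus k X : ℤ) (m : ℤ)
    (Module.finrank k (Coh.HH X M 0) : ℤ) (Int.natCast_nonneg _) hd (by exact_mod_cast hm)
    (by exact_mod_cast hsec) hdeg (h0_dichotomy k X hdim M hM ha)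

/-- S19204 -/
theorem main19204 [IsAlgClosed k] (hdim : topologicalKrullDim X = 1)
    (hg : 1 ≤ Curv2.genus k X) (d : ℤ) (hd : 2 * (Curv2.genus k X : ℤ) < d)
    (M : X.Modules) (hM : PicF.IsInvertible M) (m : ℕ) (hm : 1 ≤ m)
    (hsec : m + 1 ≤ Module.finrank k (Coh.HH X M 0)) (hdeg : Curv2.deg k X M 1 ≤ d)
    (hlt : Curv2.deg k X M 1 < d ∨ (m : ℤ) < d - Curv2.genus k X) :
    d * (m : ℤ) < Curv2.deg k X M 1 * (d - Curv2.genus k X) := by
  have ha : 0 < Module.finrank k (Coh.HH X M 0) := by omega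
  exact Groth.Agent.Helper3.CurveArith.arith_lt d (Curv2.deg k X M 1) (Curv2.genus k X : ℤ) (m : ℤ)
    (Module.finrank k (Coh.HH X M 0) : ℤ) (by exact_mod_cast hg) hd (by exact_mod_cast hm)
    (by exact_mod_cast hsec) hdeg hlt (h0_dichotomy k X hdim M hM ha)

/-- S16966 -/
theorem main16966 [IsAlgClosed k] (hdim : topologicalKrullDim X = 1)
    (hg : 1 ≤ Curv2.genus k X) (L : X.Modules) (hL : PicF.IsInvertible L)
    (hdeg : 2 * (Curv2.genus k X : ℤ) < Curv2.deg k X L 1)
    (M : X.Modules) (hM : PicF.IsInvertible M) (ι : M ⟶ L) [Mono ι] (hι : ¬ IsIso ι)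
    (h2 : 2 ≤ Module.finrank k (Coh.HH X M 0)) :
    Curv2.deg k X L 1 * ((Module.finrank k (Coh.HH X M 0) : ℤ) - 1) <
      Curv2.deg k X M 1 * ((Module.finrank k (Coh.HH X L 0) : ℤ) - 1) := by
  have hι0 : ι ≠ 0 := by
    intro h0
    have hinj : Function.Injective (hstar k ι 0) := by
      let S : ShortComplex X.Modules := ShortComplex.mk ι (cokernel.π ι) (cokernel.condition ι)
      have hS : S.ShortExact :=
        ShortComplex.ShortExact.mk' (ShortComplex.exact_of_g_is_cokernel _ (cokernelIsCokernel ι))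
          (inferInstanceAs (Mono ι)) (inferInstanceAs (Epi (cokernel.π ι)))
      exact Groth.Agent.Helper24.LinLES.hstar_f_injective_zero k S hS
    have hz : hstar k ι 0 = 0 := by rw [h0, hstar_zero]
    rw [hz] at hinj
    haveI : Subsingleton (Coh.HH X M 0) := ⟨fun x y => hinj (by simp)⟩
    have hz0 : Module.finrank k (Coh.HH X M 0) = 0 := Module.finrank_zero_of_subsingleton
    omega
  have h1521 := Groth.Agent.Helper13.CurveDeg.main1521 k X hdim M L hM hL ι hι0
  have hlt : Curv2.deg k X M 1 < Curv2.deg k X L 1 :=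
    lt_of_le_of_ne h1521.1 (fun heq => hι (h1521.2 heq))
  haveI hH1 : Subsingleton (Coh.HH X L 1) := main1522 k X hdim L hL (by linarith)
  have hrrL := deg_eq_rr k X hdim L hL
  have hz : Module.finrank k (Coh.HH X L 1) = 0 := Module.finrank_zero_of_subsingleton
  rw [hz] at hrrL
  push_cast at hrrL
  have hL1 : (Module.finrank k (Coh.HH X L 0) : ℤ) - 1 =
      Curv2.deg k X L 1 - (Curv2.genus k X : ℤ) := by linarith
  rw [hL1]
  have ha : 0 < Module.finrank k (Coh.HH X M 0) := by omega
  have h2' : (2 : ℤ) ≤ (Module.finrank k (Coh.HH X M 0) : ℤ) := by exact_mod_cast h2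
  exact Groth.Agent.Helper3.CurveArith.arith_lt (Curv2.deg k X L 1) (Curv2.deg k X M 1)
    (Curv2.genus k X : ℤ) ((Module.finrank k (Coh.HH X M 0) : ℤ) - 1)
    (Module.finrank k (Coh.HH X M 0) : ℤ) (by exact_mod_cast hg) hdeg (by linarith) (by linarith)
    hlt.le (Or.inl hlt) (h0_dichotomy k X hdim M hM ha)

end Groth.Agent.Helper3.CurveHopf
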