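import Groth.Agent.Lib.Helper3.WEField

/-!
# Residue field extensions of weakly étale maps are separable
-/

open TensorProduct

namespace Groth.Agent.Helper3.WEResidue

open Groth.Agent.Helper3.WEField

universe u

theorem residueField_isSeparable (A B : Type u) [CommRing A] [CommRing B] [Algebra A B]
    [Algebra.WeaklyEtale A B] (p : Ideal A) [p.IsPrime] (q : Ideal B) [q.IsPrime] [q.LiesOver p]
    [Algebra (Localization.AtPrime p) (Localization.AtPrime q)]
    [Localization.AtPrime.IsLiesOverAlgebra p q] :
    Algebra.IsSeparable p.ResidueField q.ResidueField := by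
  have hsepC : Algebra.IsSeparable p.ResidueField (p.ResidueField ⊗[A] B) :=
    isSeparable_of_weaklyEtale _ _
  let φ : p.ResidueField ⊗[A] B →ₐ[p.ResidueField] q.ResidueField :=
    Algebra.TensorProduct.productLeftAlgHom (Algebra.ofId p.ResidueField q.ResidueField)
      (IsScalarTower.toAlgHom A B q.ResidueField)
  have hB : ∀ b : B, IsSeparable p.ResidueField (algebraMap B q.ResidueField b) := by
    intro b
    have : algebraMap B q.ResidueField b = φ (1 ⊗ₜ b) := by simp [φ]
    rw [this]
    exact isSeparable_algHom φ (Algebra.IsSeparable.isSeparable p.ResidueField _)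
  refine ⟨fun z => ?_⟩
  rw [← mem_separableClosure_iff]
  obtain ⟨x, y, hy, rfl⟩ := IsFractionRing.div_surjective (A := B ⧸ q) z
  obtain ⟨x, rfl⟩ := Ideal.Quotient.mk_surjective x
  obtain ⟨y, rfl⟩ := Ideal.Quotient.mk_surjective y
  apply div_mem
  · rw [mem_separableClosure_iff]
    exact hB x
  · rw [mem_separableClosure_iff]
    exact hB y

end Groth.Agent.Helper3.WEResidue
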