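import Groth.Agent.Lib.Helper3.BL
import Mathlib.RingTheory.Localization.BaseChange

/-!
# Beauville–Laszlo: essential surjectivity

Given a glueing pair `(R → R', f)`, an `R'`-module `M'`, an `R`-module `M₁` on which `f` is
bijective and an `R'`-isomorphism `α : M'_f ≃ R' ⊗ M₁`, the fibre product
`M = M' ×_{R' ⊗ M₁} M₁` is glueable with `R' ⊗ M ≃ M'` and `M_f ≃ M₁`.
-/

namespace Groth.Agent.Helper3.BL

open TensorProduct

universe u

variable {R R' : Type u} [CommRing R] [CommRing R'] [Algebra R R'] {f : R}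
variable {M' : Type u} [AddCommGroup M'] [Module R' M'] [Module R M'] [IsScalarTower R R' M']
variable {M₁ : Type u} [AddCommGroup M₁] [Module R M₁]
variable (α : LocalizedModule (Submonoid.powers (algebraMap R R' f)) M' ≃ₗ[R'] R' ⊗[R] M₁)

/-- the fibre product module. -/
def fibreProd : Submodule R (M' × M₁) where
  carrier := {p | α (LocalizedModule.mkLinearMap (Submonoid.powers (algebraMap R R' f)) M' p.1) =
    (1 : R') ⊗ₜ[R] p.2}
  add_mem' := by
    intro a b ha hb
    simp only [Set.mem_ofPred_eq, Prod.fst_add, Prod.snd_add, map_add, tmul_add] at ha hb ⊢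
    rw [ha, hb]
  zero_mem' := by simp
  smul_mem' := by
    intro c a ha
    simp only [Set.mem_ofPred_eq, Prod.smul_fst, Prod.smul_snd] at ha ⊢
    rw [← algebraMap_smul R' c a.1, map_smul, map_smul, ha, tmul_smul, algebraMap_smul]

lemma mem_fibreProd {p : M' × M₁} : p ∈ fibreProd α ↔
    α (LocalizedModule.mkLinearMap (Submonoid.powers (algebraMap R R' f)) M' p.1) =
      (1 : R') ⊗ₜ[R] p.2 := Iff.rfl

/-- first projection -/
def pr₁ : fibreProd α →ₗ[R] M' := (LinearMap.fst R M' M₁).comp (fibreProd α).subtype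

/-- second projection -/
def pr₂ : fibreProd α →ₗ[R] M₁ := (LinearMap.snd R M' M₁).comp (fibreProd α).subtype

lemma pr₁_apply (x : fibreProd α) : pr₁ α x = x.1.1 := rfl
lemma pr₂_apply (x : fibreProd α) : pr₂ α x = x.1.2 := rfl

lemma fibreProd_spec (x : fibreProd α) :
    α (LocalizedModule.mkLinearMap (Submonoid.powers (algebraMap R R' f)) M' (pr₁ α x)) =
      (1 : R') ⊗ₜ[R] (pr₂ α x) := x.2

section

variable (hf : Function.Bijective fun x : M₁ => f • x)
include hf

lemma pow_bij (n : ℕ) : Function.Bijective fun x : M₁ => f ^ n • x := by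
  induction n with
  | zero =>
    have : (fun x : M₁ => f ^ 0 • x) = id := by funext x; simp
    rw [this]; exact Function.bijective_id
  | succ n ih =>
    have : (fun x : M₁ => f ^ (n + 1) • x) = (fun x : M₁ => f ^ n • x) ∘ (fun x : M₁ => f • x) := by
      funext x
      simp [pow_succ, mul_smul]
    rw [this]
    exact ih.comp hf

lemma pow_smul_tmul_injective (n : ℕ) (t : R' ⊗[R] M₁) (ht : f ^ n • t = 0) : t = 0 := by
  let e : M₁ ≃ₗ[R] M₁ := LinearEquiv.ofBijective (LinearMap.lsmul R M₁ (f ^ n)) (pow_bij hf n)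
  have h1 : ∀ t : R' ⊗[R] M₁, (e.lTensor R') t = f ^ n • t := by
    intro t
    induction t with
    | zero => simp
    | tmul a b => simp [e, tmul_smul]
    | add x y hx hy => rw [map_add, hx, hy, smul_add]
  apply (e.lTensor R').injective
  rw [h1, ht, map_zero]

/-- `pr₂ : M → M₁` is a localization at the powers of `f`. -/
lemma isLocalizedModule_pr₂ : IsLocalizedModule (Submonoid.powers f) (pr₂ α) where
  map_units := by
    rintro ⟨_, n, rfl⟩
    rw [Module.End.isUnit_iff]
    exact pow_bij hf n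
  surj := by
    intro y
    obtain ⟨t, ht⟩ : ∃ t, α t = (1 : R') ⊗ₜ[R] y := ⟨α.symm _, α.apply_symm_apply _⟩
    induction t using LocalizedModule.induction_on with
    | h m' s =>
    obtain ⟨s, n, hn⟩ := s
    have hn' : s = algebraMap R R' f ^ n := hn.symm
    subst hn'
    have h1 : LocalizedModule.mkLinearMap (Submonoid.powers (algebraMap R R' f)) M' m' =
        (algebraMap R R' f) ^ n • LocalizedModule.mk m'
          (⟨algebraMap R R' f ^ n, n, hn⟩ : Submonoid.powers (algebraMap R R' f)) := by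
      rw [LocalizedModule.mkLinearMap_apply, LocalizedModule.smul'_mk]
      exact (LocalizedModule.mk_cancel (⟨algebraMap R R' f ^ n, n, hn⟩ :
        Submonoid.powers (algebraMap R R' f)) m').symm
    have h2 : ((m', f ^ n • y) : M' × M₁) ∈ fibreProd α := by
      rw [mem_fibreProd]
      simp only
      rw [h1, map_smul, ht, ← map_pow, algebraMap_smul, tmul_smul]
    exact ⟨(⟨(m', f ^ n • y), h2⟩, ⟨f ^ n, n, rfl⟩), rfl⟩
  exists_of_eq := by
    intro x₁ x₂ h
    have h0 : pr₂ α (x₁ - x₂) = 0 := by rw [map_sub, h, sub_self]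
    have h1 := fibreProd_spec α (x₁ - x₂)
    rw [h0, tmul_zero] at h1
    have h2 := α.map_eq_zero_iff.1 h1
    rw [IsLocalizedModule.eq_zero_iff (Submonoid.powers (algebraMap R R' f))] at h2
    obtain ⟨⟨_, k, rfl⟩, hk⟩ := h2
    refine ⟨⟨f ^ k, k, rfl⟩, ?_⟩
    rw [Submonoid.smul_def, Submonoid.smul_def, ← sub_eq_zero, ← smul_sub]
    ext
    · change f ^ k • pr₁ α (x₁ - x₂) = 0
      rw [← algebraMap_smul R' (f ^ k) (pr₁ α (x₁ - x₂)), map_pow]
      exact hk
    · change f ^ k • pr₂ α (x₁ - x₂) = 0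
      rw [h0, smul_zero]

end

/-- the comparison map `R' ⊗ M → M'`. -/
noncomputable def Phi : R' ⊗[R] fibreProd α →ₗ[R'] M' := (pr₁ α).liftBaseChange R'

lemma Phi_tmul (r' : R') (x : fibreProd α) : Phi α (r' ⊗ₜ[R] x) = r' • pr₁ α x := rfl

lemma alpha_Phi (w : R' ⊗[R] fibreProd α) :
    α (LocalizedModule.mkLinearMap (Submonoid.powers (algebraMap R R' f)) M' (Phi α w)) =
      (pr₂ α).lTensor R' w := by
  induction w with
  | zero => simp
  | tmul r' x =>
    rw [Phi_tmul, map_smul, map_smul, fibreProd_spec, LinearMap.lTensor_tmul,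
      TensorProduct.smul_tmul', smul_eq_mul, mul_one]
  | add x y hx hy => rw [map_add, map_add, map_add, map_add, hx, hy]

lemma alpha_mk_smul (c : R) (m' : M') :
    α (LocalizedModule.mkLinearMap (Submonoid.powers (algebraMap R R' f)) M' (c • m')) =
      c • α (LocalizedModule.mkLinearMap (Submonoid.powers (algebraMap R R' f)) M' m') := by
  rw [← algebraMap_smul R' c m', map_smul, map_smul, algebraMap_smul]

lemma Phi_smul (c : R) (w : R' ⊗[R] fibreProd α) : Phi α (c • w) = c • Phi α w := by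
  rw [← algebraMap_smul R' c w, map_smul, algebraMap_smul]

section

variable (hf : Function.Bijective fun x : M₁ => f • x)
include hf

lemma Phi_surjective (hq : EtGlue.QuotPowBijective R R' f) : Function.Surjective (Phi α) := by
  have hloc := isLocalizedModule_pr₂ α hf
  -- Claim S1
  have hS1 : ∀ t : R' ⊗[R] M₁, ∃ (n : ℕ) (w : R' ⊗[R] fibreProd α),
      (pr₂ α).lTensor R' w = f ^ n • t := by
    intro t
    induction t with
    | zero => exact ⟨0, 0, by simp⟩
    | tmul r' m₁ =>
      obtain ⟨⟨x, ⟨_, n, rfl⟩⟩, hx⟩ := IsLocalizedModule.surj (Submonoid.powers f) (pr₂ α) m₁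
      refine ⟨n, r' ⊗ₜ[R] x, ?_⟩
      rw [LinearMap.lTensor_tmul, ← hx, Submonoid.smul_def, tmul_smul]
    | add t t' ht ht' =>
      obtain ⟨n, w, hw⟩ := ht
      obtain ⟨n', w', hw'⟩ := ht'
      refine ⟨n + n', f ^ n' • w + f ^ n • w', ?_⟩
      rw [map_add, map_smul, map_smul, hw, hw', smul_add, smul_smul, smul_smul, pow_add,
        mul_comm (f ^ n') (f ^ n)]
  -- Claim S2
  have hS2 : ∀ m' : M', ∃ (N : ℕ) (w : R' ⊗[R] fibreProd α), f ^ N • m' = Phi α w := by
    intro m'
    obtain ⟨n, w, hw⟩ := hS1 (α (LocalizedModule.mkLinearMap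
      (Submonoid.powers (algebraMap R R' f)) M' m'))
    rw [← alpha_Phi, ← alpha_mk_smul] at hw
    have h1 := α.injective hw
    rw [IsLocalizedModule.eq_iff_exists (Submonoid.powers (algebraMap R R' f))] at h1
    obtain ⟨⟨c, k, hk0⟩, hk⟩ := h1
    have hk0' : c = algebraMap R R' f ^ k := hk0.symm
    subst hk0'
    rw [Submonoid.smul_def, Submonoid.smul_def] at hk
    simp only at hk
    refine ⟨k + n, f ^ k • w, ?_⟩
    rw [pow_add, mul_smul, ← algebraMap_smul R' (f ^ k) (f ^ n • m'), map_pow, ← hk,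
      ← map_pow, algebraMap_smul, Phi_smul]
  intro m'
  obtain ⟨N, w, hw⟩ := hS2 m'
  obtain ⟨x, y, rfl⟩ := tensor_decomp (fibreProd α) hq N w
  set m'' := m' - Phi α y with hm''
  have h1 : f ^ N • m'' = pr₁ α x := by
    rw [hm'', smul_sub, hw, map_add, Phi_smul, Phi_tmul, one_smul]
    abel
  obtain ⟨u, hu⟩ := (pow_bij hf N).2 (pr₂ α x)
  simp only at hu
  have h2 : ((m'', u) : M' × M₁) ∈ fibreProd α := by
    rw [mem_fibreProd]
    simp only
    have h3 : f ^ N • (α (LocalizedModule.mkLinearMap (Submonoid.powers (algebraMap R R' f)) M' m'')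
        - (1 : R') ⊗ₜ[R] u) = 0 := by
      rw [smul_sub, ← tmul_smul, hu, ← fibreProd_spec, ← h1, alpha_mk_smul, sub_self]
    exact sub_eq_zero.1 (pow_smul_tmul_injective hf N _ h3)
  refine ⟨y + (1 : R') ⊗ₜ[R] (⟨(m'', u), h2⟩ : fibreProd α), ?_⟩
  rw [map_add, Phi_tmul, one_smul]
  change Phi α y + m'' = m'
  rw [hm'']
  abel

lemma Phi_injective (h : EtGlue.IsGlueingPair R R' f) : Function.Injective (Phi α) := by
  have hloc := isLocalizedModule_pr₂ α hf
  rw [injective_iff_map_eq_zero]
  intro w hw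
  -- β w = 0
  have h1 : (pr₂ α).lTensor R' w = 0 := by rw [← alpha_Phi, hw, map_zero, map_zero]
  -- w is torsion
  have h2 : ∃ n : ℕ, f ^ n • w = 0 := by
    have hloc' : IsLocalizedModule (Submonoid.powers f)
        (AlgebraTensorModule.rTensor R R' (pr₂ α)) := inferInstance
    have h3 : (AlgebraTensorModule.rTensor R R' (pr₂ α)) (TensorProduct.comm R R' _ w) = 0 := by
      have : ∀ w : R' ⊗[R] fibreProd α,
          (AlgebraTensorModule.rTensor R R' (pr₂ α)) (TensorProduct.comm R R' _ w) =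
            TensorProduct.comm R R' _ ((pr₂ α).lTensor R' w) := by
        intro w
        induction w with
        | zero => simp
        | tmul a b => simp
        | add x y hx hy => rw [map_add, map_add, map_add, map_add, hx, hy]
      rw [this, h1, map_zero]
    rw [IsLocalizedModule.eq_zero_iff (Submonoid.powers f)] at h3
    obtain ⟨⟨_, n, rfl⟩, hn⟩ := h3
    refine ⟨n, ?_⟩
    rw [Submonoid.smul_def, ← map_smul] at hn
    exact (TensorProduct.comm R R' _).map_eq_zero_iff.1 hn
  obtain ⟨n, hn⟩ := h2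
  obtain ⟨x, ⟨k, hk⟩, rfl⟩ := tors_surj h w n hn
  rw [Phi_tmul, one_smul] at hw
  have hx2 : pr₂ α x = 0 := by
    apply (pow_bij hf k).1
    simp only
    rw [← map_smul, hk, map_zero, smul_zero]
  have : x = 0 := by
    ext
    · exact hw
    · exact hx2
  rw [this, tmul_zero]

lemma fibreProd_glueable (h : EtGlue.IsGlueingPair R R' f) :
    EtGlue.IsGlueable R R' f (fibreProd α) := by
  rw [glueable_iff_of_glueingPair h]
  rintro x ⟨k, hk⟩ hx
  have hx1 : pr₁ α x = 0 := by
    have := congrArg (Phi α) hx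
    rwa [Phi_tmul, one_smul, map_zero] at this
  have hx2 : pr₂ α x = 0 := by
    apply (pow_bij hf k).1
    simp only
    rw [← map_smul, hk, map_zero, smul_zero]
  ext
  · exact hx1
  · exact hx2

end

end Groth.Agent.Helper3.BL
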