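import Mathlib

/-!
# Vanishing of `1 ⊗ x` in `κ(q) ⊗_A M`

`(1 : κ(q)) ⊗ x = 0` in `κ(q) ⊗_A M` iff `t • x ∈ q M` for some `t ∉ q`.
-/

namespace Groth.Agent.Helper3.ResTensor

open TensorProduct IsLocalRing

variable {A : Type*} [CommRing A] (q : Ideal A) [q.IsPrime] {M : Type*} [AddCommGroup M]
  [Module A M]

lemma one_tmul_eq_zero_of_smul_mem (x : M) (t : A) (ht : t ∉ q)
    (h : t • x ∈ q • (⊤ : Submodule A M)) : (1 : q.ResidueField) ⊗ₜ[A] x = 0 := by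
  have hu : IsUnit (algebraMap A q.ResidueField t) := by
    rw [isUnit_iff_ne_zero, Ne, Ideal.algebraMap_residueField_eq_zero]; exact ht
  obtain ⟨u, hu⟩ := hu
  have h1 : (1 : q.ResidueField) ⊗ₜ[A] x = (↑u⁻¹ : q.ResidueField) ⊗ₜ[A] (t • x) := by
    rw [TensorProduct.tmul_smul, TensorProduct.smul_tmul', Algebra.smul_def, ← hu, Units.mul_inv]
  rw [h1]
  refine Submodule.smul_induction_on h ?_ ?_
  · intro a ha m _
    rw [TensorProduct.tmul_smul, TensorProduct.smul_tmul', Algebra.smul_def,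
      (Ideal.algebraMap_residueField_eq_zero).mpr ha, zero_mul, TensorProduct.zero_tmul]
  · intro y z hy hz
    rw [TensorProduct.tmul_add, hy, hz, add_zero]

lemma exists_smul_mem_of_one_tmul_eq_zero (x : M) (h : (1 : q.ResidueField) ⊗ₜ[A] x = 0) :
    ∃ t, t ∉ q ∧ t • x ∈ q • (⊤ : Submodule A M) := by
  let Aq := Localization.AtPrime q
  let N := Aq ⊗[A] M
  have h1 : (1 : q.ResidueField) ⊗ₜ[Aq] ((1 : Aq) ⊗ₜ[A] x) = 0 := by
    apply (AlgebraTensorModule.cancelBaseChange A Aq q.ResidueField q.ResidueField M).injective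
    rw [AlgebraTensorModule.cancelBaseChange_tmul, one_smul, map_zero]
    exact h
  have h2 : (1 : Aq) ⊗ₜ[A] x ∈ (maximalIdeal Aq) • (⊤ : Submodule Aq N) := by
    have h3 : quotTensorEquivQuotSMul N (maximalIdeal Aq)
        ((1 : Aq ⧸ maximalIdeal Aq) ⊗ₜ[Aq] ((1 : Aq) ⊗ₜ[A] x)) = 0 := by
      rw [show ((1 : Aq ⧸ maximalIdeal Aq) ⊗ₜ[Aq] ((1 : Aq) ⊗ₜ[A] x)) = 0 from h1, map_zero]
    rw [quotTensorEquivQuotSMul_mk_one_tmul, Submodule.Quotient.mk_eq_zero] at h3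
    exact h3
  let f : M →ₗ[A] N := TensorProduct.mk A Aq M 1
  haveI : IsLocalizedModule q.primeCompl f :=
    (isLocalizedModule_iff_isBaseChange q.primeCompl Aq _).mpr (TensorProduct.isBaseChange A M Aq)
  have key : ∀ z ∈ (maximalIdeal Aq) • (⊤ : Submodule Aq N),
      ∃ t : A, t ∉ q ∧ ∃ y ∈ q • (⊤ : Submodule A M), t • z = f y := by
    intro z hz
    refine Submodule.smul_induction_on hz ?_ ?_
    · intro r hr n _
      obtain ⟨a, s, rfl⟩ := IsLocalization.exists_mk'_eq q.primeCompl r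
      have ha : a ∈ q := (IsLocalization.AtPrime.mk'_mem_maximal_iff Aq q a s).mp hr
      obtain ⟨⟨m', s'⟩, hs'⟩ := IsLocalizedModule.surj q.primeCompl f n
      refine ⟨(s : A) * (s' : A), (s * s').2, a • m', Submodule.smul_mem_smul ha trivial, ?_⟩
      have e1 : ((s : A) * (s' : A)) • (IsLocalization.mk' Aq a s • n) =
          (algebraMap A Aq (s : A) * IsLocalization.mk' Aq a s) • ((s' : A) • n) := by
        rw [mul_smul, mul_smul, algebraMap_smul, smul_comm ((s' : A))]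
      rw [e1, mul_comm, IsLocalization.mk'_spec, algebraMap_smul]
      change a • ((s' : q.primeCompl) • n) = f (a • m')
      rw [hs', map_smul]
    · intro z₁ z₂ ⟨t₁, ht₁, y₁, hy₁, e₁⟩ ⟨t₂, ht₂, y₂, hy₂, e₂⟩
      refine ⟨t₁ * t₂, ‹q.IsPrime›.mul_notMem ht₁ ht₂, t₂ • y₁ + t₁ • y₂,
        add_mem (Submodule.smul_mem _ _ hy₁) (Submodule.smul_mem _ _ hy₂), ?_⟩
      rw [smul_add, map_add, map_smul, map_smul, ← e₁, ← e₂, mul_smul, mul_smul,
        smul_comm t₁ t₂ z₁]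
  obtain ⟨t, ht, y, hy, e⟩ := key _ h2
  have e' : f (t • x) = f y := by rw [map_smul]; exact e
  obtain ⟨c, hc⟩ := (IsLocalizedModule.eq_iff_exists q.primeCompl f).mp e'
  refine ⟨c * t, ‹q.IsPrime›.mul_notMem c.2 ht, ?_⟩
  rw [mul_smul]
  change (c : q.primeCompl) • t • x ∈ _
  rw [hc]
  exact Submodule.smul_mem _ _ hy

theorem one_tmul_eq_zero_iff (x : M) :
    (1 : q.ResidueField) ⊗ₜ[A] x = 0 ↔ ∃ t, t ∉ q ∧ t • x ∈ q • (⊤ : Submodule A M) :=
  ⟨exists_smul_mem_of_one_tmul_eq_zero q x, fun ⟨t, ht, h⟩ =>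
    one_tmul_eq_zero_of_smul_mem q x t ht h⟩

end Groth.Agent.Helper3.ResTensor
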