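import Mathlib
import Groth.Agent.Lib.Helper18.IntInv

/-!
# Fibres of the quotient map of a finite locally free groupoid (pure algebra; helper3)

Ring-level groupoid data `(A, B, D, s = algebraMap A B, t, e, p0, p1, c)` (as in helper18's `IntInv`):
* `RG`: the bundle of hypotheses;
* the "norm" `det (Mm i r b)` of `b : B` through a retraction `B ⊂ A^n`, its invariance, divisibility
  and non-vanishing properties;
* `exists_prime`: primes `P₀`, `P₁` of `A` with the same restriction to the invariants are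
  "target" and "source" of a prime of `B`;
* `RG.poly`: stability of the data under `MvPolynomial σ`;
* `exists_point`: the same for points with values in an algebraically closed field;
* `exists_extension`: lifting of points along integral extensions.
-/

set_option autoImplicit false
set_option linter.style.haveILetI false
universe u

open Polynomial CategoryTheory Limits

namespace Groth.Agent.Helper3.GrpdFib

open Groth.Agent.Lib.Helper18.IntInv

section Retract

variable {A : Type*} [CommRing A] {B : Type*} [CommRing B] [Algebra A B] {n : ℕ}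
  (i : B →ₗ[A] (Fin n → A)) (r : (Fin n → A) →ₗ[A] B)

/-- `id ⊕ (mult by b)` on `Q ⊕ B = A^n`. -/
noncomputable def Mm (b : B) : (Fin n → A) →ₗ[A] (Fin n → A) :=
  LinearMap.id - i ∘ₗ r + i ∘ₗ LinearMap.mulLeft A b ∘ₗ r

theorem Mm_apply (b : B) (v : Fin n → A) : Mm i r b v = v - i (r v) + i (b * r v) := by
  simp [Mm]

theorem Mm_eq (b : B) :
    Mm i r b = LinearMap.id - i ∘ₗ LinearMap.mulLeft A (1 - b) ∘ₗ r := by
  apply LinearMap.ext
  intro v
  rw [Mm_apply]
  simp only [LinearMap.sub_apply, LinearMap.id_apply, LinearMap.comp_apply,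
    LinearMap.mulLeft_apply]
  rw [sub_mul, one_mul, map_sub]
  abel

theorem eval_one_mchar (b : B) :
    (mchar i r (LinearMap.mulLeft A (1 - b))).eval 1 = LinearMap.det (Mm i r b) := by
  unfold mchar
  rw [Matrix.eval_charpoly, ← LinearMap.det_toMatrix', Mm_eq, map_sub, LinearMap.toMatrix'_id,
    map_one]

/-- The key non-vanishing property of the norm. -/
theorem det_Mm_not_mem (hri : ∀ x, r (i x) = x) (p : Ideal A) [p.IsPrime] (b : B)
    (hb : ∀ q : Ideal B, q.IsPrime → q.comap (algebraMap A B) = p → b ∉ q) :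
    LinearMap.det (Mm i r b) ∉ p := by
  classical
  -- Step 1
  have hnd : ¬ Disjoint ((Ideal.span {b} ⊔ p.map (algebraMap A B) : Ideal B) : Set B)
      (p.primeCompl.map (algebraMap A B) : Submonoid B) := by
    intro hd
    obtain ⟨q, hq, hJq, hqd⟩ := Ideal.exists_le_prime_disjoint _ _ hd
    refine hb q hq ?_ (hJq (Ideal.mem_sup_left (Ideal.mem_span_singleton_self b)))
    apply le_antisymm
    · intro a ha
      by_contra hap
      exact Set.disjoint_left.mp hqd ha ⟨a, hap, rfl⟩
    · exact Ideal.map_le_iff_le_comap.mp (le_sup_right.trans hJq)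
  rw [Set.not_disjoint_iff] at hnd
  obtain ⟨x, hxJ, a, ha, rfl⟩ := hnd
  rw [SetLike.mem_coe, Ideal.mem_span_singleton_sup] at hxJ
  obtain ⟨v, π, hπ, hx⟩ := hxJ
  have hvb : v * b = algebraMap A B a - π := eq_sub_of_add_eq hx
  -- Step 2
  obtain ⟨W, hWdef⟩ : ∃ W : (Fin n → A) →ₗ[A] (Fin n → A),
      W = a • (LinearMap.id - i ∘ₗ r) + i ∘ₗ r := ⟨_, rfl⟩
  have hkey : Mm i r b ∘ₗ (Mm i r v ∘ₗ W) =
      a • LinearMap.id - i ∘ₗ LinearMap.mulLeft A π ∘ₗ r := by
    apply LinearMap.ext
    intro w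
    have hW : W w = a • (w - i (r w)) + i (r w) := by
      rw [hWdef]
      simp
    have hrW : r (W w) = r w := by
      rw [hW, map_add, map_smul, map_sub, hri, sub_self, smul_zero, zero_add]
    have hT : (Mm i r v ∘ₗ W) w = a • (w - i (r w)) + i (v * r w) := by
      rw [LinearMap.comp_apply, Mm_apply, hrW, hW]
      abel
    have hrT : r ((Mm i r v ∘ₗ W) w) = v * r w := by
      rw [hT, map_add, map_smul, map_sub, hri, sub_self, smul_zero, zero_add, hri]
    have hbv : b * (v * r w) = a • r w - π * r w := by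
      rw [← mul_assoc, mul_comm b v, hvb, sub_mul, Algebra.smul_def]
    rw [LinearMap.comp_apply, Mm_apply, hrT, hT, hbv, map_sub, map_smul]
    simp only [LinearMap.sub_apply, LinearMap.smul_apply, LinearMap.id_apply,
      LinearMap.comp_apply, LinearMap.mulLeft_apply]
    rw [smul_sub]
    abel
  -- Step 3
  have hfunc : ∀ x ∈ p.map (algebraMap A B), ∀ l : B →ₗ[A] A, l x ∈ p := by
    intro x hx
    refine Submodule.span_induction (p := fun x _ => ∀ l : B →ₗ[A] A, l x ∈ p) ?_ ?_ ?_ ?_ hx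
    · rintro _ ⟨a', ha', rfl⟩ l
      rw [Algebra.algebraMap_eq_smul_one, map_smul, smul_eq_mul]
      exact p.mul_mem_right _ ha'
    · intro l
      rw [map_zero]
      exact p.zero_mem
    · intro x y _ _ hx hy l
      rw [map_add]
      exact p.add_mem (hx l) (hy l)
    · intro b' x _ hx l
      exact hx (l ∘ₗ LinearMap.mulLeft A b')
  have hmat : (Ideal.Quotient.mk p).mapMatrix (LinearMap.toMatrix'
      (a • LinearMap.id - i ∘ₗ LinearMap.mulLeft A π ∘ₗ r)) =
      (Ideal.Quotient.mk p a) • (1 : Matrix (Fin n) (Fin n) (A ⧸ p)) := by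
    ext k l
    have hz : (i (π * r (Pi.single l 1))) k ∈ p :=
      hfunc _ (Ideal.mul_mem_right _ _ hπ) ((LinearMap.proj k) ∘ₗ i)
    rw [RingHom.mapMatrix_apply, Matrix.map_apply, LinearMap.toMatrix'_apply]
    simp only [LinearMap.sub_apply, LinearMap.smul_apply, LinearMap.id_apply,
      LinearMap.comp_apply, LinearMap.mulLeft_apply, Pi.sub_apply, Pi.smul_apply, smul_eq_mul,
      map_sub, map_mul, Matrix.smul_apply, Matrix.one_apply]
    rw [Ideal.Quotient.eq_zero_iff_mem.mpr hz, sub_zero, Pi.single_apply]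
    split_ifs <;> simp
  have hdet : Ideal.Quotient.mk p (LinearMap.det
      (a • LinearMap.id - i ∘ₗ LinearMap.mulLeft A π ∘ₗ r)) = (Ideal.Quotient.mk p a) ^ n := by
    rw [← LinearMap.det_toMatrix', RingHom.map_det, hmat, Matrix.det_smul, Matrix.det_one,
      mul_one, Fintype.card_fin]
  intro hmem
  have h1 : LinearMap.det (a • LinearMap.id - i ∘ₗ LinearMap.mulLeft A π ∘ₗ r) ∈ p := by
    rw [← hkey, LinearMap.det_comp]
    exact p.mul_mem_right _ hmem
  rw [← Ideal.Quotient.eq_zero_iff_mem, hdet] at h1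
  have h2 : Ideal.Quotient.mk p a = 0 := eq_zero_of_pow_eq_zero h1
  exact ha (Ideal.Quotient.eq_zero_iff_mem.mp h2)

end Retract

section Cat

variable {A B D : Type u} [CommRing A] [CommRing B] [CommRing D] [Algebra A B]
  (t : A →+* B) (e : B →+* A) (p0 p1 c : B →+* D)

/-- Ring-level groupoid data (`s = algebraMap A B`). -/
structure RG : Prop where
  hes : ∀ a, e (algebraMap A B a) = a
  het : ∀ a, e (t a) = a
  hct : ∀ a, c (t a) = p0 (t a)
  hsq_t : IsPushout (CommRingCat.ofHom t) (CommRingCat.ofHom (algebraMap A B))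
    (CommRingCat.ofHom p1) (CommRingCat.ofHom p0)
  hsq_s : IsPushout (CommRingCat.ofHom (algebraMap A B)) (CommRingCat.ofHom (algebraMap A B))
    (CommRingCat.ofHom p1) (CommRingCat.ofHom c)

variable {t e p0 p1 c}

theorem RG.coeff_mem (h : RG t e p0 p1 c) {n : ℕ} (i : B →ₗ[A] (Fin n → A))
    (r : (Fin n → A) →ₗ[A] B) (hri : r ∘ₗ i = LinearMap.id) (f : A) (k : ℕ) :
    (mchar i r (LinearMap.mulLeft A (t f))).coeff k ∈ RingHom.eqLocus (algebraMap A B) t := by
  letI : Algebra B D := p1.toAlgebra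
  obtain ⟨i1, r1, h1, e1⟩ := exists_retract_of_isPushout_cat t p0 h.hsq_t i r hri (t f)
  obtain ⟨i2, r2, h2, e2⟩ :=
    exists_retract_of_isPushout_cat (algebraMap A B) c h.hsq_s i r hri (t f)
  have hmap : (mchar i r (LinearMap.mulLeft A (t f))).map t =
      (mchar i r (LinearMap.mulLeft A (t f))).map (algebraMap A B) := by
    rw [← e1, ← e2, h.hct]
    exact mchar_indep i1 r1 i2 r2 h1 h2 _
  have := congrArg (fun q => q.coeff k) hmap
  simp only [Polynomial.coeff_map] at this
  exact this.symm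

theorem RG.eval_self (h : RG t e p0 p1 c) {n : ℕ} (i : B →ₗ[A] (Fin n → A))
    (r : (Fin n → A) →ₗ[A] B) (hri : r ∘ₗ i = LinearMap.id) (f : A) :
    (mchar i r (LinearMap.mulLeft A (t f))).eval f = 0 := by
  obtain ⟨χ, hχ⟩ : ∃ χ : A[X], χ = mchar i r (LinearMap.mulLeft A (t f)) := ⟨_, rfl⟩
  have hCH : aeval (LinearMap.mulLeft A (t f)) χ = 0 := by
    rw [hχ]
    exact aeval_mchar i r hri _
  rw [← hχ]
  have hB : Polynomial.eval₂ (algebraMap A B) (t f) χ = 0 := by
    have h3 : aeval (t f) χ = 0 := by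
      have h4 : LinearMap.mulLeft A (t f) = Algebra.lmul A B (t f) := rfl
      rw [h4, Polynomial.aeval_algHom_apply] at hCH
      have := congrArg (fun φ => φ 1) hCH
      simpa using this
    exact h3
  have := congrArg e hB
  rw [Polynomial.hom_eval₂, map_zero, h.het] at this
  have hid : e.comp (algebraMap A B) = RingHom.id A := RingHom.ext h.hes
  rw [hid, Polynomial.eval₂_id] at this
  exact this

theorem RG.Nm_mem (h : RG t e p0 p1 c) {n : ℕ} (i : B →ₗ[A] (Fin n → A))
    (r : (Fin n → A) →ₗ[A] B) (hri : r ∘ₗ i = LinearMap.id) (g : A) :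
    LinearMap.det (Mm i r (t g)) ∈ RingHom.eqLocus (algebraMap A B) t := by
  have h1 : (1 : B) - t g = t (1 - g) := by rw [map_sub, map_one]
  rw [← eval_one_mchar, h1, Polynomial.eval_eq_sum_range]
  refine Subring.sum_mem _ (fun k _ => ?_)
  rw [one_pow, mul_one]
  exact h.coeff_mem i r hri (1 - g) k

theorem RG.dvd_Nm (h : RG t e p0 p1 c) {n : ℕ} (i : B →ₗ[A] (Fin n → A))
    (r : (Fin n → A) →ₗ[A] B) (hri : r ∘ₗ i = LinearMap.id) (g : A) :
    g ∣ LinearMap.det (Mm i r (t g)) := by
  have h1 : (1 : B) - t g = t (1 - g) := by rw [map_sub, map_one]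
  rw [← eval_one_mchar, h1]
  have h0 := h.eval_self i r hri (1 - g)
  have h2 := Polynomial.sub_dvd_eval_sub 1 (1 - g) (mchar i r (LinearMap.mulLeft A (t (1 - g))))
  rw [h0, sub_zero, sub_sub_cancel] at h2
  exact h2

/-- Two primes of `A` with the same restriction to the invariants are target and source of a
prime of `B`. -/
theorem RG.exists_prime (h : RG t e p0 p1 c) [Module.Finite A B] [Module.Projective A B]
    (P₀ P₁ : Ideal A) [P₀.IsPrime] [P₁.IsPrime]
    (hP : ∀ x ∈ RingHom.eqLocus (algebraMap A B) t, x ∈ P₀ ↔ x ∈ P₁) :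
    ∃ q : Ideal B, q.IsPrime ∧ q.comap (algebraMap A B) = P₁ ∧ q.comap t = P₀ := by
  classical
  obtain ⟨n, r, i, -, -, hri⟩ := Module.Finite.exists_comp_eq_id_of_projective A B
  have hri' : ∀ x, r (i x) = x := fun x => by
    have := congrArg (fun φ => φ x) hri
    simpa using this
  by_contra hne
  push Not at hne
  have hfin : (P₁.primesOver B).Finite := Algebra.QuasiFinite.finite_primesOver P₁
  have horb : ∀ q : Ideal B, q.IsPrime → q.comap (algebraMap A B) = P₁ →
      ∀ x ∈ RingHom.eqLocus (algebraMap A B) t, x ∈ q.comap t ↔ x ∈ P₁ := by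
    intro q _ hq x hx
    rw [← hq, Ideal.mem_comap, Ideal.mem_comap]
    have : algebraMap A B x = t x := hx
    rw [this]
  have hp : ∀ q ∈ hfin.toFinset, q ≠ (⊥ : Ideal B) → q ≠ ⊥ →
      ((fun q : Ideal B => q.comap t) q).IsPrime := by
    intro q hq _ _
    rw [Set.Finite.mem_toFinset] at hq
    haveI := hq.1
    exact Ideal.comap_isPrime t q
  have hav : ¬ ((P₀ : Set A) ⊆ ⋃ q ∈ (↑hfin.toFinset : Set (Ideal B)),
      (((fun q : Ideal B => q.comap t) q : Ideal A) : Set A)) := by
    intro hsub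
    obtain ⟨q, hq, hle⟩ := (Ideal.subset_union_prime (⊥ : Ideal B) ⊥ hp).mp hsub
    rw [Set.Finite.mem_toFinset] at hq
    obtain ⟨hqp, hqo⟩ := hq
    have hqc : q.comap (algebraMap A B) = P₁ := hqo.over.symm
    refine hne q hqp hqc ?_
    by_contra hneq
    have hlt : P₀ < q.comap t := lt_of_le_of_ne hle (Ne.symm hneq)
    obtain ⟨x, hxq, hxP⟩ := SetLike.exists_of_lt hlt
    have hint : IsIntegral (RingHom.eqLocus (algebraMap A B) t) x :=
      isIntegral_of_groupoid t e p0 p1 c h.hes h.het h.hct h.hsq_t h.hsq_s x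
    haveI : (q.comap t).IsPrime := Ideal.comap_isPrime t q
    have hlt2 := Ideal.comap_lt_comap_of_integral_mem_sdiff
      (R := RingHom.eqLocus (algebraMap A B) t) hle ⟨hxq, hxP⟩ hint
    have heq : P₀.comap (algebraMap (RingHom.eqLocus (algebraMap A B) t) A) =
        (q.comap t).comap (algebraMap (RingHom.eqLocus (algebraMap A B) t) A) := by
      ext ⟨y, hy⟩
      rw [Ideal.mem_comap, Ideal.mem_comap]
      exact (hP y hy).trans (horb q hqp hqc y hy).symm
    exact hlt2.ne heq
  rw [Set.not_subset] at hav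
  obtain ⟨g, hgP, hgU⟩ := hav
  have hgq : ∀ q : Ideal B, q.IsPrime → q.comap (algebraMap A B) = P₁ → t g ∉ q := by
    intro q hqp hqc hmem
    apply hgU
    simp only [Set.mem_iUnion]
    refine ⟨q, ?_, hmem⟩
    rw [Finset.mem_coe, Set.Finite.mem_toFinset]
    exact ⟨hqp, ⟨hqc.symm⟩⟩
  have hN1 : LinearMap.det (Mm i r (t g)) ∈ P₀ := by
    obtain ⟨d, hd⟩ := h.dvd_Nm i r hri g
    rw [hd]
    exact P₀.mul_mem_right _ hgP
  have hN2 := h.Nm_mem i r hri g
  have hN3 : LinearMap.det (Mm i r (t g)) ∈ P₁ := (hP _ hN2).mp hN1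
  exact det_Mm_not_mem i r hri' P₁ (t g) hgq hN3

end Cat

section Poly

variable (σ : Type u)

attribute [local instance] MvPolynomial.algebraMvPolynomial

theorem isPushout_mvPolynomial {R S : Type u} [CommRing R] [CommRing S] (φ : R →+* S) :
    IsPushout (CommRingCat.ofHom (MvPolynomial.C : R →+* MvPolynomial σ R)) (CommRingCat.ofHom φ)
      (CommRingCat.ofHom (MvPolynomial.map (σ := σ) φ))
      (CommRingCat.ofHom (MvPolynomial.C : S →+* MvPolynomial σ S)) := by
  letI := φ.toAlgebra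
  exact CommRingCat.isPushout_iff_isPushout.mpr inferInstance

theorem isPushout_map {A B B' D : Type u} [CommRing A] [CommRing B] [CommRing B'] [CommRing D]
    (f : A →+* B) (g : A →+* B') (inl : B →+* D) (inr : B' →+* D)
    (h : IsPushout (CommRingCat.ofHom f) (CommRingCat.ofHom g) (CommRingCat.ofHom inl)
      (CommRingCat.ofHom inr)) :
    IsPushout (CommRingCat.ofHom (MvPolynomial.map (σ := σ) f))
      (CommRingCat.ofHom (MvPolynomial.map (σ := σ) g))
      (CommRingCat.ofHom (MvPolynomial.map (σ := σ) inl))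
      (CommRingCat.ofHom (MvPolynomial.map (σ := σ) inr)) := by
  have hR := isPushout_mvPolynomial σ inl
  have hL := isPushout_mvPolynomial σ g
  have hbig := h.paste_horiz hR
  have e1 : CommRingCat.ofHom f ≫ CommRingCat.ofHom (MvPolynomial.C : B →+* MvPolynomial σ B) =
      CommRingCat.ofHom (MvPolynomial.C : A →+* MvPolynomial σ A) ≫
        CommRingCat.ofHom (MvPolynomial.map (σ := σ) f) := by
    apply CommRingCat.hom_ext
    apply RingHom.ext
    intro x
    simp
  have e2 : CommRingCat.ofHom inr ≫ CommRingCat.ofHom (MvPolynomial.C : D →+* MvPolynomial σ D) =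
      CommRingCat.ofHom (MvPolynomial.C : B' →+* MvPolynomial σ B') ≫
        CommRingCat.ofHom (MvPolynomial.map (σ := σ) inr) := by
    apply CommRingCat.hom_ext
    apply RingHom.ext
    intro x
    simp
  rw [e1, e2] at hbig
  refine hbig.of_left ?_ hL
  have hw' : inl.comp f = inr.comp g := by
    have := congrArg CommRingCat.Hom.hom h.w
    simpa using this
  apply CommRingCat.hom_ext
  apply RingHom.ext
  intro x
  simp only [CommRingCat.hom_comp, CommRingCat.hom_ofHom, RingHom.comp_apply,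
    MvPolynomial.map_map, hw']

variable {A B D : Type u} [CommRing A] [CommRing B] [CommRing D] [Algebra A B]
  {t : A →+* B} {e : B →+* A} {p0 p1 c : B →+* D}

theorem RG.poly (h : RG t e p0 p1 c) :
    RG (A := MvPolynomial σ A) (B := MvPolynomial σ B) (D := MvPolynomial σ D)
      (MvPolynomial.map t) (MvPolynomial.map e) (MvPolynomial.map p0) (MvPolynomial.map p1)
      (MvPolynomial.map c) where
  hes := fun a => by
    rw [MvPolynomial.algebraMap_def, MvPolynomial.map_map,
      show e.comp (algebraMap A B) = RingHom.id A from RingHom.ext h.hes, MvPolynomial.map_id]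
  het := fun a => by
    rw [MvPolynomial.map_map, show e.comp t = RingHom.id A from RingHom.ext h.het,
      MvPolynomial.map_id]
  hct := fun a => by
    rw [MvPolynomial.map_map, MvPolynomial.map_map,
      show c.comp t = p0.comp t from RingHom.ext h.hct]
  hsq_t := isPushout_map σ _ _ _ _ h.hsq_t
  hsq_s := isPushout_map σ _ _ _ _ h.hsq_s

theorem finite_poly [Module.Finite A B] :
    Module.Finite (MvPolynomial σ A) (MvPolynomial σ B) :=
  Module.Finite.equiv
    (Algebra.IsPushout.equiv A (MvPolynomial σ A) B (MvPolynomial σ B)).toLinearEquiv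

theorem projective_poly [Module.Projective A B] :
    Module.Projective (MvPolynomial σ A) (MvPolynomial σ B) :=
  Module.Projective.of_equiv
    (Algebra.IsPushout.equiv A (MvPolynomial σ A) B (MvPolynomial σ B)).toLinearEquiv

end Poly

section Points

attribute [local instance] MvPolynomial.algebraMvPolynomial

variable {A B D : Type u} [CommRing A] [CommRing B] [CommRing D] [Algebra A B]
  {t : A →+* B} {e : B →+* A} {p0 p1 c : B →+* D}

/-- Points with values in an algebraically closed field: two points of `A` agreeing on the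
invariants are target and source of a point of `B`. -/
theorem RG.exists_point (h : RG t e p0 p1 c) [Module.Finite A B] [Module.Projective A B]
    (k : Type u) [Field k] [IsAlgClosed k] (φ₀ φ₁ : A →+* k)
    (hφ : ∀ x ∈ RingHom.eqLocus (algebraMap A B) t, φ₀ x = φ₁ x) :
    ∃ ψ : B →+* k, ψ.comp t = φ₀ ∧ ψ.comp (algebraMap A B) = φ₁ := by
  classical
  have hG := h.poly k
  haveI : Module.Finite (MvPolynomial k A) (MvPolynomial k B) := finite_poly k
  haveI : Module.Projective (MvPolynomial k A) (MvPolynomial k B) := projective_poly k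
  obtain ⟨Φ₀, hΦ₀⟩ : ∃ Φ₀ : MvPolynomial k A →+* k, Φ₀ = MvPolynomial.eval₂Hom φ₀ id := ⟨_, rfl⟩
  obtain ⟨Φ₁, hΦ₁⟩ : ∃ Φ₁ : MvPolynomial k A →+* k, Φ₁ = MvPolynomial.eval₂Hom φ₁ id := ⟨_, rfl⟩
  have hΦ₀X : ∀ x : k, Φ₀ (MvPolynomial.X x) = x := fun x => by rw [hΦ₀]; simp
  have hΦ₁X : ∀ x : k, Φ₁ (MvPolynomial.X x) = x := fun x => by rw [hΦ₁]; simp
  have hΦ₀C : ∀ a : A, Φ₀ (MvPolynomial.C a) = φ₀ a := fun a => by rw [hΦ₀]; simp
  have hΦ₁C : ∀ a : A, Φ₁ (MvPolynomial.C a) = φ₁ a := fun a => by rw [hΦ₁]; simp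
  have hagree : ∀ P ∈ RingHom.eqLocus (algebraMap (MvPolynomial k A) (MvPolynomial k B))
      (MvPolynomial.map t), Φ₀ P = Φ₁ P := by
    intro P hP
    have hcoef : ∀ m, P.coeff m ∈ RingHom.eqLocus (algebraMap A B) t := by
      intro m
      have hP' : algebraMap (MvPolynomial k A) (MvPolynomial k B) P = MvPolynomial.map t P := hP
      have := congrArg (MvPolynomial.coeff m) hP'
      rw [MvPolynomial.algebraMap_def, MvPolynomial.coeff_map, MvPolynomial.coeff_map] at this
      exact this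
    rw [hΦ₀, hΦ₁, MvPolynomial.coe_eval₂Hom, MvPolynomial.coe_eval₂Hom, MvPolynomial.eval₂_eq,
      MvPolynomial.eval₂_eq]
    refine Finset.sum_congr rfl (fun m _ => ?_)
    rw [hφ _ (hcoef m)]
  have hsurj₁ : Function.Surjective Φ₁ := fun x => ⟨MvPolynomial.X x, hΦ₁X x⟩
  haveI : (RingHom.ker Φ₀).IsPrime := RingHom.ker_isPrime Φ₀
  haveI : (RingHom.ker Φ₁).IsPrime := RingHom.ker_isPrime Φ₁
  obtain ⟨q, hqp, hq1, hq0⟩ := hG.exists_prime (RingHom.ker Φ₀) (RingHom.ker Φ₁)
    (fun x hx => by rw [RingHom.mem_ker, RingHom.mem_ker, hagree x hx])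
  haveI := hqp
  -- the residue ring `L` of `q` and the embedding `k → L`
  have hker : RingHom.ker Φ₁ ≤ RingHom.ker ((Ideal.Quotient.mk q).comp
      (algebraMap (MvPolynomial k A) (MvPolynomial k B))) := by
    intro x hx
    rw [RingHom.mem_ker, RingHom.comp_apply, Ideal.Quotient.eq_zero_iff_mem, ← Ideal.mem_comap,
      hq1]
    exact hx
  obtain ⟨ι, hι⟩ : ∃ ι : k →+* (MvPolynomial k B ⧸ q), ∀ x, ι (Φ₁ x) =
      Ideal.Quotient.mk q (algebraMap (MvPolynomial k A) (MvPolynomial k B) x) :=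
    ⟨Φ₁.liftOfRightInverse (Function.surjInv hsurj₁) (Function.rightInverse_surjInv hsurj₁)
      ⟨_, hker⟩, fun x => RingHom.liftOfRightInverse_comp_apply _ _ _ _ x⟩
  have hιint : ι.IsIntegral := by
    intro y
    obtain ⟨b, rfl⟩ := Ideal.Quotient.mk_surjective y
    letI : Algebra k (MvPolynomial k B ⧸ q) := ι.toAlgebra
    have hb : IsIntegral (MvPolynomial k A) b := Algebra.IsIntegral.isIntegral b
    exact IsIntegral.map_of_comp_eq Φ₁ (Ideal.Quotient.mk q) (RingHom.ext fun x => hι x) hb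
  have hbij : Function.Bijective ι := IsAlgClosed.ringHom_bijective_of_isIntegral ι hιint
  obtain ⟨E, hE⟩ : ∃ E : k ≃+* (MvPolynomial k B ⧸ q), ∀ x, E x = ι x :=
    ⟨RingEquiv.ofBijective ι hbij, fun x => rfl⟩
  obtain ⟨Ψ, hΨ⟩ : ∃ Ψ : MvPolynomial k B →+* k, ∀ b, Ψ b = E.symm (Ideal.Quotient.mk q b) :=
    ⟨E.symm.toRingHom.comp (Ideal.Quotient.mk q), fun b => rfl⟩
  have hΨs : ∀ a : MvPolynomial k A,
      Ψ (algebraMap (MvPolynomial k A) (MvPolynomial k B) a) = Φ₁ a := by
    intro a
    rw [hΨ, ← hι, ← hE, E.symm_apply_apply]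
  have hΨt0 : ∀ a : MvPolynomial k A, Φ₀ a = 0 → Ψ (MvPolynomial.map t a) = 0 := by
    intro a ha
    rw [hΨ]
    have : MvPolynomial.map t a ∈ q := by
      rw [← Ideal.mem_comap, hq0]
      exact ha
    rw [Ideal.Quotient.eq_zero_iff_mem.mpr this, map_zero]
  have hΨtX : ∀ x : k, Ψ (MvPolynomial.map t (MvPolynomial.X x)) = x := by
    intro x
    have h1 : MvPolynomial.map t (MvPolynomial.X x) =
        algebraMap (MvPolynomial k A) (MvPolynomial k B) (MvPolynomial.X x) := by
      rw [MvPolynomial.algebraMap_def, MvPolynomial.map_X, MvPolynomial.map_X]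
    rw [h1, hΨs, hΦ₁X]
  have hΨt : ∀ a : MvPolynomial k A, Ψ (MvPolynomial.map t a) = Φ₀ a := by
    intro a
    have h1 : Φ₀ (a - MvPolynomial.X (Φ₀ a)) = 0 := by rw [map_sub, hΦ₀X, sub_self]
    have h2 := hΨt0 _ h1
    rw [map_sub, map_sub, hΨtX, sub_eq_zero] at h2
    exact h2
  refine ⟨Ψ.comp MvPolynomial.C, ?_, ?_⟩
  · ext a
    rw [RingHom.comp_apply, RingHom.comp_apply, ← MvPolynomial.map_C, hΨt, hΦ₀C]
  · ext a
    rw [RingHom.comp_apply, RingHom.comp_apply, ← MvPolynomial.map_C (algebraMap A B),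
      ← MvPolynomial.algebraMap_def, hΨs, hΦ₁C]

end Points

section Extension

/-- Points with values in an algebraically closed field lift along integral extensions. -/
theorem exists_extension {C' A : Type u} [CommRing C'] [CommRing A] [Algebra C' A]
    [Algebra.IsIntegral C' A] (hinj : Function.Injective (algebraMap C' A))
    (k : Type u) [Field k] [IsAlgClosed k] (φ : C' →+* k) :
    ∃ ψ : A →+* k, ψ.comp (algebraMap C' A) = φ := by
  haveI : (RingHom.ker φ).IsPrime := RingHom.ker_isPrime φ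
  obtain ⟨Q, -, hQp, hQ⟩ := Ideal.exists_ideal_over_prime_of_isIntegral (RingHom.ker φ)
    (⊥ : Ideal A) (by
      rw [Ideal.comap_bot_of_injective (algebraMap C' A) hinj]
      exact bot_le)
  haveI := hQp
  haveI : Q.LiesOver (RingHom.ker φ) := ⟨hQ.symm⟩
  letI : Algebra (C' ⧸ RingHom.ker φ) k := (RingHom.kerLift φ).toAlgebra
  haveI : FaithfulSMul (C' ⧸ RingHom.ker φ) k :=
    (faithfulSMul_iff_algebraMap_injective _ _).mpr (RingHom.kerLift_injective φ)
  haveI : Module.IsTorsionFree (C' ⧸ RingHom.ker φ) k := inferInstance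
  haveI : Module.IsTorsionFree (C' ⧸ RingHom.ker φ) (A ⧸ Q) := inferInstance
  haveI : Algebra.IsAlgebraic (C' ⧸ RingHom.ker φ) (A ⧸ Q) := inferInstance
  obtain ⟨l⟩ : Nonempty ((A ⧸ Q) →ₐ[C' ⧸ RingHom.ker φ] k) := ⟨IsAlgClosed.lift⟩
  refine ⟨l.toRingHom.comp (Ideal.Quotient.mk Q), ?_⟩
  ext x
  have h1 : Ideal.Quotient.mk Q (algebraMap C' A x) =
      algebraMap (C' ⧸ RingHom.ker φ) (A ⧸ Q) (Ideal.Quotient.mk (RingHom.ker φ) x) := rfl
  rw [RingHom.comp_apply, RingHom.comp_apply, h1]
  show l (algebraMap (C' ⧸ RingHom.ker φ) (A ⧸ Q) (Ideal.Quotient.mk (RingHom.ker φ) x)) = φ x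
  rw [l.commutes]
  rfl

end Extension

end Groth.Agent.Helper3.GrpdFib
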