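import Mathlib

/-!
# Generic lemmas for the quotient of a finite locally free groupoid (helper3)

* `multilinear_mem_of_span`, `exists_det_notMem`: a multilinear map is controlled by its values
  on a spanning set; choice of vectors from a spanning set with determinant outside an ideal;
* `eq_zero_of_local`, `common_mul`, `tensor_local_form`, `inj_local`: local criterion of
  injectivity for a linear map out of `N ⊗[C] A` when `A` is "locally spanned";
* `rankAtStalk_of_isPushout_cat`, `finrank_quot_eq_rankAtStalk`: ranks and pushouts.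
-/

set_option autoImplicit false
set_option linter.style.haveILetI false
universe u

open CategoryTheory Limits TensorProduct

namespace Groth.Agent.Helper3.GrpdQ1

section Multilinear

theorem multilinear_mem_of_span {R : Type*} [CommRing R] {Mo Q : Type*} [AddCommGroup Mo]
    [Module R Mo] [AddCommGroup Q] [Module R Q] {n : ℕ}
    (f : MultilinearMap R (fun _ : Fin n => Mo) Q) (S : Set Mo)
    (hS : Submodule.span R S = ⊤) (N : Submodule R Q)
    (hf : ∀ v : Fin n → Mo, (∀ i, v i ∈ S) → f v ∈ N) : ∀ v : Fin n → Mo, f v ∈ N := by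
  classical
  have key : ∀ k : ℕ, ∀ v : Fin n → Mo, (∀ i : Fin n, k ≤ i.val → v i ∈ S) → f v ∈ N := by
    intro k
    induction k with
    | zero =>
      intro v hv
      exact hf v (fun i => hv i (Nat.zero_le _))
    | succ k ih =>
      intro v hv
      by_cases hk : k < n
      · have hmem : v ⟨k, hk⟩ ∈ Submodule.span R S := by
          rw [hS]
          exact Submodule.mem_top
        have hgen : ∀ w ∈ Submodule.span R S, f (Function.update v ⟨k, hk⟩ w) ∈ N := by
          intro w hw
          refine Submodule.span_induction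
            (p := fun w _ => f (Function.update v ⟨k, hk⟩ w) ∈ N) ?_ ?_ ?_ ?_ hw
          · intro w hw
            apply ih
            intro i hi
            by_cases hik : i = ⟨k, hk⟩
            · rw [hik, Function.update_self]
              exact hw
            · rw [Function.update_of_ne hik]
              apply hv
              have hne : i.val ≠ k := fun h => hik (Fin.ext h)
              omega
          · rw [f.map_update_zero]
            exact N.zero_mem
          · intro w₁ w₂ _ _ h₁ h₂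
            rw [f.map_update_add]
            exact N.add_mem h₁ h₂
          · intro r w _ hw
            rw [f.map_update_smul]
            exact N.smul_mem r hw
        have h3 := hgen _ hmem
        rwa [Function.update_eq_self] at h3
      · apply ih
        intro i hi
        exact absurd i.isLt (by omega)
  intro v
  exact key n v (fun i hi => absurd i.isLt (by omega))

theorem exists_det_notMem {A B : Type*} [CommRing A] [AddCommGroup B] [Module A B] {n : ℕ}
    (β : Module.Basis (Fin n) A B) {Y : Type*} (σ : Y → B)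
    (hσ : Submodule.span A (Set.range σ) = ⊤) (P : Ideal A) (hP : P ≠ ⊤) :
    ∃ y : Fin n → Y, β.det (fun i => σ (y i)) ∉ P := by
  by_contra hall
  push Not at hall
  have h1 : ∀ v : Fin n → B, β.det.toMultilinearMap v ∈ P := by
    apply multilinear_mem_of_span β.det.toMultilinearMap (Set.range σ) hσ P
    intro v hv
    choose y hy using hv
    have hvy : v = fun i => σ (y i) := funext fun i => (hy i).symm
    rw [hvy]
    exact hall y
  have h2 : β.det β ∈ P := h1 β
  rw [β.det_self] at h2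
  exact hP ((Ideal.eq_top_iff_one P).mpr h2)

end Multilinear

section Local

theorem eq_zero_of_local {C : Type*} [CommRing C] {N : Type*} [AddCommGroup N] [Module C N]
    (z : N) (h : ∀ 𝔭 : Ideal C, 𝔭.IsPrime → ∃ g, g ∉ 𝔭 ∧ g • z = 0) : z = 0 := by
  by_contra hz
  have hne : Ideal.torsionOf C N z ≠ ⊤ := by
    intro htop
    apply hz
    have h1 : (1 : C) ∈ Ideal.torsionOf C N z := by
      rw [htop]
      exact Submodule.mem_top
    rw [Ideal.mem_torsionOf_iff, one_smul] at h1
    exact h1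
  obtain ⟨𝔪, h𝔪, hle⟩ := Ideal.exists_le_maximal _ hne
  obtain ⟨g, hg, hgz⟩ := h 𝔪 h𝔪.isPrime
  exact hg (hle ((Ideal.mem_torsionOf_iff z g).mpr hgz))

theorem common_mul {C : Type*} [CommRing C] (S : Submonoid C) {N : Type*} [AddCommGroup N]
    [Module C N] {n : ℕ} (ν : Fin n → N) (h : ∀ i, ∃ g ∈ S, g • ν i = 0) :
    ∃ g ∈ S, ∀ i, g • ν i = 0 := by
  classical
  choose gs hgs hgν using h
  refine ⟨∏ j, gs j, Submonoid.prod_mem S (fun j _ => hgs j), fun i => ?_⟩
  rw [← Finset.prod_erase_mul Finset.univ gs (Finset.mem_univ i), mul_smul, hgν, smul_zero]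

theorem tensor_local_form {C : Type*} [CommRing C] {A : Type*} [AddCommGroup A] [Module C A]
    {N : Type*} [AddCommGroup N] [Module C N] (S : Submonoid C) {n : ℕ} (y : Fin n → A)
    (h1 : ∀ a : A, ∃ g ∈ S, g • a ∈ Submodule.span C (Set.range y)) (z : N ⊗[C] A) :
    ∃ g ∈ S, ∃ ν : Fin n → N, g • z = ∑ i, ν i ⊗ₜ[C] y i := by
  induction z using TensorProduct.induction_on with
  | zero => exact ⟨1, S.one_mem, fun _ => 0, by simp⟩
  | tmul ν₀ a =>
    obtain ⟨g, hg, hmem⟩ := h1 a
    obtain ⟨cc, hcc⟩ := (Submodule.mem_span_range_iff_exists_fun C).mp hmem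
    refine ⟨g, hg, fun i => cc i • ν₀, ?_⟩
    rw [← TensorProduct.tmul_smul, ← hcc, TensorProduct.tmul_sum]
    refine Finset.sum_congr rfl (fun i _ => ?_)
    rw [TensorProduct.tmul_smul, TensorProduct.smul_tmul']
  | add z₁ z₂ ih₁ ih₂ =>
    obtain ⟨g₁, hg₁, ν₁, h₁⟩ := ih₁
    obtain ⟨g₂, hg₂, ν₂, h₂⟩ := ih₂
    refine ⟨g₁ * g₂, S.mul_mem hg₁ hg₂, fun i => g₂ • ν₁ i + g₁ • ν₂ i, ?_⟩
    have e1 : (g₁ * g₂) • z₁ = g₂ • (g₁ • z₁) := by rw [mul_comm, mul_smul]
    have e2 : (g₁ * g₂) • z₂ = g₁ • (g₂ • z₂) := mul_smul _ _ _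
    rw [smul_add, e1, e2, h₁, h₂, Finset.smul_sum, Finset.smul_sum, ← Finset.sum_add_distrib]
    refine Finset.sum_congr rfl (fun i _ => ?_)
    rw [TensorProduct.add_tmul, TensorProduct.smul_tmul', TensorProduct.smul_tmul']

theorem inj_local {C : Type*} [CommRing C] {A : Type*} [AddCommGroup A] [Module C A]
    {N : Type*} [AddCommGroup N] [Module C N] {T : Type*} [AddCommGroup T] [Module C T]
    (φ : N ⊗[C] A →ₗ[C] T)
    (hloc : ∀ 𝔭 : Ideal C, 𝔭.IsPrime → ∃ (n : ℕ) (y : Fin n → A),
      (∀ a : A, ∃ g, g ∉ 𝔭 ∧ g • a ∈ Submodule.span C (Set.range y)) ∧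
      (∀ ν : Fin n → N, φ (∑ i, ν i ⊗ₜ[C] y i) = 0 → ∀ i, ∃ g, g ∉ 𝔭 ∧ g • ν i = 0)) :
    Function.Injective φ := by
  rw [injective_iff_map_eq_zero]
  intro z hz
  apply eq_zero_of_local (C := C)
  intro 𝔭 h𝔭
  haveI := h𝔭
  obtain ⟨n, y, h1, h2⟩ := hloc 𝔭 h𝔭
  obtain ⟨g, hg, ν, hν⟩ := tensor_local_form 𝔭.primeCompl y h1 z
  have h3 : φ (∑ i, ν i ⊗ₜ[C] y i) = 0 := by rw [← hν, map_smul, hz, smul_zero]
  obtain ⟨g', hg', hg'ν⟩ := common_mul 𝔭.primeCompl ν (h2 ν h3)
  refine ⟨g' * g, 𝔭.primeCompl.mul_mem hg' hg, ?_⟩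
  rw [mul_smul, hν, Finset.smul_sum]
  refine Finset.sum_eq_zero (fun i _ => ?_)
  rw [TensorProduct.smul_tmul', hg'ν i, TensorProduct.zero_tmul]

end Local

section Rank

theorem rankAtStalk_of_isPushout_cat {A A' B B' : Type u} [CommRing A] [CommRing A'] [CommRing B]
    [CommRing B'] [Algebra A B] [Algebra A' B'] [Module.Finite A B] [Module.Flat A B]
    (ψ : A →+* A') (ψ' : B →+* B')
    (h : IsPushout (CommRingCat.ofHom ψ) (CommRingCat.ofHom (algebraMap A B))
      (CommRingCat.ofHom (algebraMap A' B')) (CommRingCat.ofHom ψ'))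
    (q : PrimeSpectrum A') :
    Module.rankAtStalk (R := A') B' q = Module.rankAtStalk (R := A) B (q.comap ψ) := by
  letI := ψ.toAlgebra
  letI := ψ'.toAlgebra
  letI : Algebra A B' := (ψ'.comp (algebraMap A B)).toAlgebra
  haveI : IsScalarTower A B B' := .of_algebraMap_eq' rfl
  haveI : IsScalarTower A A' B' := .of_algebraMap_eq' (by
    have := congrArg CommRingCat.Hom.hom h.w
    exact this.symm)
  haveI hp : Algebra.IsPushout A A' B B' := CommRingCat.isPushout_iff_isPushout.mp h
  exact Module.rankAtStalk_isBaseChange hp.out q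

theorem finrank_quot_eq_rankAtStalk {A B : Type*} [CommRing A] [AddCommGroup B] [Module A B]
    [Module.Finite A B] [Module.Flat A B] (P : Ideal A) [hP : P.IsMaximal] :
    Module.finrank (A ⧸ P) ((A ⧸ P) ⊗[A] B) =
      Module.rankAtStalk (R := A) B ⟨P, hP.isPrime⟩ := by
  letI : Field (A ⧸ P) := Ideal.Quotient.field P
  have h1 := Module.rankAtStalk_baseChange (R := A) (M := B) (S := A ⧸ P)
    ⟨⊥, Ideal.isPrime_bot⟩
  have h2 : Module.rankAtStalk (R := A ⧸ P) ((A ⧸ P) ⊗[A] B) ⟨⊥, Ideal.isPrime_bot⟩ =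
      Module.finrank (A ⧸ P) ((A ⧸ P) ⊗[A] B) := by
    simp
  have h3 : (⟨⊥, Ideal.isPrime_bot⟩ : PrimeSpectrum (A ⧸ P)).comap (algebraMap A (A ⧸ P)) =
      ⟨P, hP.isPrime⟩ := by
    apply PrimeSpectrum.ext
    show Ideal.comap (Ideal.Quotient.mk P) ⊥ = P
    rw [← RingHom.ker_eq_comap_bot, Ideal.mk_ker]
  rw [← h2, h1, h3]

end Rank

end Groth.Agent.Helper3.GrpdQ1
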