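import Mathlib
import Groth.Agent.Lib.Helper3.GrpdFib

/-!
# Localization of ring-level groupoid data at invariant elements (helper3)
-/

set_option autoImplicit false
set_option linter.style.haveILetI false
universe u

open CategoryTheory Limits TensorProduct

namespace Groth.Agent.Helper3.GrpdQ2

open Groth.Agent.Helper3.GrpdFib

section Integral

/-- Maximal ideals of the localization of an integral `C`-algebra `A` at (the image of) the
complement of a prime `𝔭` of `C` lie over `𝔭`. -/
theorem under_of_isMaximal_localization {C A A' : Type*} [CommRing C] [CommRing A] [CommRing A']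
    [Algebra C A] [Algebra A A'] [Algebra.IsIntegral C A] (𝔭 : Ideal C) [𝔭.IsPrime]
    [IsLocalization (Algebra.algebraMapSubmonoid A 𝔭.primeCompl) A'] (P : Ideal A')
    [hP : P.IsMaximal] (c₀ : C) : algebraMap A A' (algebraMap C A c₀) ∈ P ↔ c₀ ∈ 𝔭 := by
  haveI hPp : P.IsPrime := hP.isPrime
  obtain ⟨Q₀, hQ₀⟩ : ∃ Q₀ : Ideal A, Q₀ = P.comap (algebraMap A A') := ⟨_, rfl⟩
  haveI hQ₀p : Q₀.IsPrime := by
    rw [hQ₀]
    exact Ideal.comap_isPrime _ _
  have hle : Q₀.comap (algebraMap C A) ≤ 𝔭 := by
    intro x hx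
    by_contra hx𝔭
    have hu : IsUnit (algebraMap A A' (algebraMap C A x)) :=
      IsLocalization.map_units A'
        (⟨algebraMap C A x, ⟨x, hx𝔭, rfl⟩⟩ : Algebra.algebraMapSubmonoid A 𝔭.primeCompl)
    rw [hQ₀] at hx
    exact hP.ne_top (Ideal.eq_top_of_isUnit_mem _ hx hu)
  obtain ⟨Q, hQ₀Q, hQp, hQ𝔭⟩ :=
    Ideal.exists_ideal_over_prime_of_isIntegral_of_isPrime 𝔭 Q₀ hle
  have hdisj : Disjoint ((Algebra.algebraMapSubmonoid A 𝔭.primeCompl : Submonoid A) : Set A)
      (Q : Set A) := by
    rw [Set.disjoint_left]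
    rintro _ ⟨x, hx, rfl⟩ hmem
    apply hx
    rw [← hQ𝔭]
    exact hmem
  have hQ'p : (Q.map (algebraMap A A')).IsPrime :=
    IsLocalization.isPrime_of_isPrime_disjoint (Algebra.algebraMapSubmonoid A 𝔭.primeCompl) A' Q
      hQp hdisj
  have hPQ : P ≤ Q.map (algebraMap A A') := by
    calc P = (P.under A).map (algebraMap A A') :=
          (IsLocalization.map_under (Algebra.algebraMapSubmonoid A 𝔭.primeCompl) A' P).symm
      _ ≤ Q.map (algebraMap A A') := by
          apply Ideal.map_mono
          rw [hQ₀] at hQ₀Q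
          exact hQ₀Q
  have hPeq : P = Q.map (algebraMap A A') := hP.eq_of_le hQ'p.ne_top hPQ
  have hQeq : Q₀ = Q := by
    rw [hQ₀, hPeq]
    exact IsLocalization.under_map_of_isPrime_disjoint
      (Algebra.algebraMapSubmonoid A 𝔭.primeCompl) A' hQp hdisj
  constructor
  · intro hmem
    rw [← hQ𝔭, ← hQeq, hQ₀]
    exact hmem
  · intro hc
    rw [← hQ𝔭, ← hQeq, hQ₀] at hc
    exact hc

end Integral

section Loc

variable {A B D : Type u} [CommRing A] [CommRing B] [CommRing D] [Algebra A B]
  {t : A →+* B} {e : B →+* A} {p0 p1 c : B →+* D}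
  (M : Submonoid A)
  {A' B' D' : Type u} [CommRing A'] [CommRing B'] [CommRing D']
  [Algebra A A'] [Algebra B B'] [Algebra D D'] [Algebra A' B']
  [IsLocalization M A'] [IsLocalization (Algebra.algebraMapSubmonoid B M) B']
  [IsLocalization ((Algebra.algebraMapSubmonoid B M).map p1) D']
  {t' : A' →+* B'} {e' : B' →+* A'} {p0' p1' c' : B' →+* D'}
  (hs' : ∀ a, algebraMap A' B' (algebraMap A A' a) = algebraMap B B' (algebraMap A B a))
  (ht' : ∀ a, t' (algebraMap A A' a) = algebraMap B B' (t a))
  (he' : ∀ b, e' (algebraMap B B' b) = algebraMap A A' (e b))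
  (hp0' : ∀ b, p0' (algebraMap B B' b) = algebraMap D D' (p0 b))
  (hp1' : ∀ b, p1' (algebraMap B B' b) = algebraMap D D' (p1 b))
  (hc' : ∀ b, c' (algebraMap B B' b) = algebraMap D D' (c b))

include M hs' hp1' in
theorem isPushout_loc (f : A →+* B) (g : B →+* D) (f' : A' →+* B') (g' : B' →+* D')
    (hf' : ∀ a, f' (algebraMap A A' a) = algebraMap B B' (f a))
    (hg' : ∀ b, g' (algebraMap B B' b) = algebraMap D D' (g b))
    (h : IsPushout (CommRingCat.ofHom f) (CommRingCat.ofHom (algebraMap A B))
      (CommRingCat.ofHom p1) (CommRingCat.ofHom g)) :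
    IsPushout (CommRingCat.ofHom f') (CommRingCat.ofHom (algebraMap A' B'))
      (CommRingCat.ofHom p1') (CommRingCat.ofHom g') := by
  haveI : IsLocalization (M.map (algebraMap A B)) B' :=
    ‹IsLocalization (Algebra.algebraMapSubmonoid B M) B'›
  have hR : IsPushout (CommRingCat.ofHom p1) (CommRingCat.ofHom (algebraMap B B'))
      (CommRingCat.ofHom (algebraMap D D')) (CommRingCat.ofHom p1') :=
    CommRingCat.isPushout_of_isLocalization p1 p1' (RingHom.ext fun x => hp1' x)
      (Algebra.algebraMapSubmonoid B M)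
  have hL : IsPushout (CommRingCat.ofHom (algebraMap A B)) (CommRingCat.ofHom (algebraMap A A'))
      (CommRingCat.ofHom (algebraMap B B')) (CommRingCat.ofHom (algebraMap A' B')) :=
    CommRingCat.isPushout_of_isLocalization (algebraMap A B) (algebraMap A' B')
      (RingHom.ext fun x => hs' x) M
  have hbig := h.paste_horiz hR.flip
  have e1 : CommRingCat.ofHom f ≫ CommRingCat.ofHom (algebraMap B B') =
      CommRingCat.ofHom (algebraMap A A') ≫ CommRingCat.ofHom f' := by
    apply CommRingCat.hom_ext
    apply RingHom.ext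
    intro x
    simp only [CommRingCat.hom_comp, CommRingCat.hom_ofHom, RingHom.comp_apply]
    exact (hf' x).symm
  have e2 : CommRingCat.ofHom g ≫ CommRingCat.ofHom (algebraMap D D') =
      CommRingCat.ofHom (algebraMap B B') ≫ CommRingCat.ofHom g' := by
    apply CommRingCat.hom_ext
    apply RingHom.ext
    intro x
    simp only [CommRingCat.hom_comp, CommRingCat.hom_ofHom, RingHom.comp_apply]
    exact (hg' x).symm
  rw [e1, e2] at hbig
  refine hbig.of_left ?_ hL.flip
  have key : p1'.comp f' = g'.comp (algebraMap A' B') := by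
    apply IsLocalization.ringHom_ext M
    refine RingHom.ext fun a => ?_
    have hw : p1 (f a) = g (algebraMap A B a) := by
      have := congrArg (fun φ => φ.hom a) h.w
      simpa using this
    simp only [RingHom.comp_apply]
    rw [hf', hp1', hs', hg', hw]
  apply CommRingCat.hom_ext
  simpa only [CommRingCat.hom_comp, CommRingCat.hom_ofHom] using key

include M hs' ht' he' hp0' hp1' hc' in
theorem RG.localize (h : RG t e p0 p1 c) : RG t' e' p0' p1' c' where
  hes := by
    have key : e'.comp (algebraMap A' B') = RingHom.id A' := by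
      apply IsLocalization.ringHom_ext M
      refine RingHom.ext fun a => ?_
      simp only [RingHom.comp_apply, RingHom.id_apply]
      rw [hs', he', h.hes]
    exact fun a => RingHom.congr_fun key a
  het := by
    have key : e'.comp t' = RingHom.id A' := by
      apply IsLocalization.ringHom_ext M
      refine RingHom.ext fun a => ?_
      simp only [RingHom.comp_apply, RingHom.id_apply]
      rw [ht', he', h.het]
    exact fun a => RingHom.congr_fun key a
  hct := by
    have key : c'.comp t' = p0'.comp t' := by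
      apply IsLocalization.ringHom_ext M
      refine RingHom.ext fun a => ?_
      simp only [RingHom.comp_apply]
      rw [ht', hc', hp0', h.hct]
    exact fun a => RingHom.congr_fun key a
  hsq_t := isPushout_loc M hs' hp1' t p0 t' p0' ht' hp0' h.hsq_t
  hsq_s := isPushout_loc M hs' hp1' (algebraMap A B) c (algebraMap A' B') c' hs' hc' h.hsq_s

include M hs' in
theorem finite_localize [Module.Finite A B] : Module.Finite A' B' := by
  letI : Algebra A B' := ((algebraMap B B').comp (algebraMap A B)).toAlgebra
  haveI : IsScalarTower A B B' := .of_algebraMap_eq' rfl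
  haveI : IsScalarTower A A' B' := .of_algebraMap_eq' (RingHom.ext fun a => (hs' a).symm)
  exact Module.Finite.of_isLocalization A B M

include M hs' in
theorem projective_localize [Module.Projective A B] : Module.Projective A' B' := by
  letI : Algebra A B' := ((algebraMap B B').comp (algebraMap A B)).toAlgebra
  haveI : IsScalarTower A B B' := .of_algebraMap_eq' rfl
  haveI : IsScalarTower A A' B' := .of_algebraMap_eq' (RingHom.ext fun a => (hs' a).symm)
  haveI h1 : Algebra.IsPushout A B A' B' := Algebra.isPushout_of_isLocalization M A' B B'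
  haveI h2 : Algebra.IsPushout A A' B B' := Algebra.IsPushout.symm h1
  exact Module.Projective.of_equiv (Algebra.IsPushout.equiv A A' B B').toLinearEquiv

include M hs' ht' in
theorem span_localize (hsurj : ∀ b : B, b ∈ Submodule.span A (Set.range t)) :
    Submodule.span A' (Set.range (fun y : A => t' (algebraMap A A' y))) = ⊤ := by
  rw [eq_top_iff]
  intro y' _
  obtain ⟨⟨b, m⟩, hbm⟩ := IsLocalization.surj (Algebra.algebraMapSubmonoid B M) y'
  obtain ⟨m₀, hm₀, hm₀'⟩ : ∃ m₀ ∈ M, algebraMap A B m₀ = (m : B) := m.2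
  have hb : algebraMap B B' b ∈
      Submodule.span A' (Set.range (fun y : A => t' (algebraMap A A' y))) := by
    refine Submodule.span_induction (p := fun b _ => algebraMap B B' b ∈
      Submodule.span A' (Set.range (fun y : A => t' (algebraMap A A' y)))) ?_ ?_ ?_ ?_ (hsurj b)
    · rintro _ ⟨y, rfl⟩
      apply Submodule.subset_span
      exact ⟨y, ht' y⟩
    · rw [map_zero]
      exact Submodule.zero_mem _
    · intro x y _ _ hx hy
      rw [map_add]
      exact Submodule.add_mem _ hx hy
    · intro a x _ hx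
      rw [Algebra.smul_def, map_mul, ← hs', ← Algebra.smul_def]
      exact Submodule.smul_mem _ _ hx
  obtain ⟨u, hu⟩ := IsLocalization.map_units A' (⟨m₀, hm₀⟩ : M)
  have h1 : algebraMap B B' (m : B) = algebraMap A' B' (u : A') := by
    rw [← hm₀', ← hs', hu]
  have h2 : y' = ((u⁻¹ : A'ˣ) : A') • algebraMap B B' b := by
    rw [← hbm, h1, Algebra.smul_def, mul_comm y', ← mul_assoc, ← map_mul, Units.inv_mul, map_one,
      one_mul]
  rw [h2]
  exact Submodule.smul_mem _ _ hb

include M hs' ht' in
theorem eqLocus_localize (hM : ∀ m ∈ M, t m = algebraMap A B m) (x : A')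
    (hx : x ∈ RingHom.eqLocus (algebraMap A' B') t') :
    ∃ c₀ ∈ RingHom.eqLocus (algebraMap A B) t, ∃ m ∈ M,
      x * algebraMap A A' m = algebraMap A A' c₀ := by
  obtain ⟨⟨a, m⟩, ham⟩ := IsLocalization.surj M x
  have hx' : algebraMap A' B' x = t' x := hx
  have h1 : algebraMap B B' (algebraMap A B a) = algebraMap B B' (t a) := by
    rw [← hs', ← ht', ← ham, map_mul, map_mul, hx', hs', ht', hM _ m.2]
  have h2 : algebraMap B B' (algebraMap A B a - t a) = 0 := by rw [map_sub, h1, sub_self]
  obtain ⟨⟨mb, hmb⟩, h3⟩ :=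
    (IsLocalization.map_eq_zero_iff (Algebra.algebraMapSubmonoid B M) B' _).mp h2
  obtain ⟨m', hm', rfl⟩ := hmb
  refine ⟨m' * a, ?_, m' * m, M.mul_mem hm' m.2, ?_⟩
  · show algebraMap A B (m' * a) = t (m' * a)
    rw [map_mul, map_mul, hM m' hm']
    have h4 : algebraMap A B m' * (algebraMap A B a - t a) = 0 := h3
    rw [mul_sub, sub_eq_zero] at h4
    exact h4
  · rw [map_mul, map_mul, ← ham]
    ring

end Loc

end Groth.Agent.Helper3.GrpdQ2
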