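import Mathlib
import Groth.Agent.Lib.Helper3.GrpdFib
import Groth.Agent.Lib.Helper3.GrpdQ1
import Groth.Agent.Lib.Helper18.InvBasis

/-!
# Semilocal core: a basis of `B` over `A` of the form `t (x i)` (helper3)
-/

set_option autoImplicit false
set_option linter.style.haveILetI false
universe u

open CategoryTheory Limits TensorProduct

namespace Groth.Agent.Helper3.GrpdQ3

open Groth.Agent.Helper3.GrpdFib Groth.Agent.Helper3.GrpdQ1 Groth.Agent.Lib.Helper18.InvBasis

variable {A B D : Type u} [CommRing A] [CommRing B] [CommRing D] [Algebra A B]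
  {t : A →+* B} {e : B →+* A} {p0 p1 c : B →+* D}

theorem RG.hcs (h : RG t e p0 p1 c) (a : A) : c (algebraMap A B a) = p1 (algebraMap A B a) := by
  have := congrArg (fun φ => φ.hom a) h.hsq_s.w
  simpa using this.symm

theorem RG.rank_invariant (h : RG t e p0 p1 c) [Module.Finite A B] [Module.Flat A B]
    (q : PrimeSpectrum B) :
    Module.rankAtStalk (R := A) B (q.comap t) =
      Module.rankAtStalk (R := A) B (q.comap (algebraMap A B)) := by
  letI : Algebra B D := p1.toAlgebra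
  have h1 := rankAtStalk_of_isPushout_cat t p0 h.hsq_t q
  have h2 := rankAtStalk_of_isPushout_cat (algebraMap A B) c h.hsq_s q
  rw [← h1, ← h2]

theorem RG.det_invariant (h : RG t e p0 p1 c) {n : ℕ} (β : Module.Basis (Fin n) A B)
    (x : Fin n → A) :
    ∃ u : B, IsUnit u ∧ t (β.det (fun i => t (x i))) =
      u * algebraMap A B (β.det (fun i => t (x i))) := by
  classical
  letI : Algebra B D := p1.toAlgebra
  obtain ⟨b₀, hb₀, hr₀⟩ := exists_basis_of_isPushout_cat t p0 h.hsq_t β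
  obtain ⟨b₁, hb₁, hr₁⟩ := exists_basis_of_isPushout_cat (algebraMap A B) c h.hsq_s β
  refine ⟨b₀.det b₁, b₀.isUnit_det b₁, ?_⟩
  have h0 : b₀.toMatrix (fun j => p0 (t (x j))) =
      (β.toMatrix (fun i => t (x i))).map t := by
    ext i j
    rw [Module.Basis.toMatrix_apply, hr₀, Matrix.map_apply, Module.Basis.toMatrix_apply]
  have h1 : b₁.toMatrix (fun j => p0 (t (x j))) =
      (β.toMatrix (fun i => t (x i))).map (algebraMap A B) := by
    ext i j
    rw [Module.Basis.toMatrix_apply, ← h.hct, hr₁, Matrix.map_apply, Module.Basis.toMatrix_apply]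
  have hmul := Module.Basis.toMatrix_mul_toMatrix b₀ b₁ (fun j => p0 (t (x j)))
  rw [Module.Basis.det_apply, Module.Basis.det_apply, RingHom.map_det, RingHom.map_det,
    RingHom.mapMatrix_apply, RingHom.mapMatrix_apply, ← h0, ← h1, ← hmul, Matrix.det_mul]

theorem RG.exists_basis (h : RG t e p0 p1 c) [Module.Finite A B] [Module.Projective A B]
    (hloc : ∀ P₀ P₁ : Ideal A, P₀.IsMaximal → P₁.IsMaximal →
      ∀ x ∈ RingHom.eqLocus (algebraMap A B) t, x ∈ P₀ → x ∈ P₁)
    {Y : Type*} (τ : Y → A) (hτ : Submodule.span A (Set.range (fun y => t (τ y))) = ⊤) :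
    ∃ (n : ℕ) (y : Fin n → Y) (bB : Module.Basis (Fin n) A B), ∀ i, bB i = t (τ (y i)) := by
  classical
  have horb : ∀ P₀ P₁ : Ideal A, P₀.IsMaximal → P₁.IsMaximal →
      ∃ q : Ideal B, q.IsPrime ∧ q.comap (algebraMap A B) = P₁ ∧ q.comap t = P₀ := by
    intro P₀ P₁ h₀ h₁
    haveI := h₀.isPrime
    haveI := h₁.isPrime
    exact h.exists_prime P₀ P₁ (fun x hx => ⟨hloc P₀ P₁ h₀ h₁ x hx, hloc P₁ P₀ h₁ h₀ x hx⟩)
  by_cases hne : Nonempty (MaximalSpectrum A)
  · obtain ⟨⟨P₁, hP₁⟩⟩ := hne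
    haveI := hP₁.isPrime
    have hfin : (P₁.primesOver B).Finite := Algebra.QuasiFinite.finite_primesOver P₁
    haveI : Finite (MaximalSpectrum A) := by
      have hS : ((fun q : Ideal B => q.comap t) '' (P₁.primesOver B)).Finite := hfin.image _
      haveI := hS.to_subtype
      refine Finite.of_injective (fun P : MaximalSpectrum A =>
        (⟨P.asIdeal, ?_⟩ : ((fun q : Ideal B => q.comap t) '' (P₁.primesOver B)))) ?_
      · obtain ⟨q, hq, hq1, hq0⟩ := horb P.asIdeal P₁ P.isMaximal hP₁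
        exact ⟨q, ⟨hq, ⟨hq1.symm⟩⟩, hq0⟩
      · intro P P' hPP'
        exact MaximalSpectrum.ext (congrArg Subtype.val hPP')
    obtain ⟨n, hn⟩ : ∃ n : ℕ, n = Module.rankAtStalk (R := A) B ⟨P₁, hP₁.isPrime⟩ := ⟨_, rfl⟩
    have hrk : ∀ P : MaximalSpectrum A,
        Module.finrank (A ⧸ P.1) ((A ⧸ P.1) ⊗[A] B) = n := by
      intro P
      haveI := P.isMaximal
      rw [finrank_quot_eq_rankAtStalk P.1, hn]
      obtain ⟨q, hq, hq1, hq0⟩ := horb P.asIdeal P₁ P.isMaximal hP₁
      have h3 := RG.rank_invariant h ⟨q, hq⟩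
      have e0 : (⟨q, hq⟩ : PrimeSpectrum B).comap t = ⟨P.asIdeal, P.isMaximal.isPrime⟩ :=
        PrimeSpectrum.ext hq0
      have e1 : (⟨q, hq⟩ : PrimeSpectrum B).comap (algebraMap A B) = ⟨P₁, hP₁.isPrime⟩ :=
        PrimeSpectrum.ext hq1
      rw [e0, e1] at h3
      exact h3
    obtain ⟨β⟩ := Module.nonempty_basis_of_flat_of_finrank_eq A B n hrk
    obtain ⟨y, hy⟩ := exists_det_notMem β (fun y => t (τ y)) hτ P₁ hP₁.ne_top
    obtain ⟨δ, hδ⟩ : ∃ δ : A, δ = β.det (fun i => t (τ (y i))) := ⟨_, rfl⟩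
    have hunit : IsUnit δ := by
      by_contra hnu
      obtain ⟨P₀, hP₀, hmem⟩ := exists_max_ideal_of_mem_nonunits (mem_nonunits_iff.mpr hnu)
      obtain ⟨q, hq, hq1, hq0⟩ := horb P₀ P₁ hP₀ hP₁
      obtain ⟨u, hu, hteq⟩ := RG.det_invariant h β (fun i => τ (y i))
      rw [← hδ] at hteq
      have h1 : t δ ∈ q := by
        rw [← Ideal.mem_comap, hq0]
        exact hmem
      rw [hteq] at h1
      have h2 : algebraMap A B δ ∈ q := by
        rcases hq.mem_or_mem h1 with hu' | h'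
        · exact absurd (Ideal.eq_top_of_isUnit_mem _ hu' hu) hq.ne_top
        · exact h'
      apply hy
      rw [← hδ, ← hq1]
      exact h2
    rw [hδ] at hunit
    obtain ⟨hli, hsp⟩ := (β.is_basis_iff_det).mpr hunit
    exact ⟨n, y, Module.Basis.mk hli hsp.ge, fun i => Module.Basis.mk_apply hli hsp.ge i⟩
  · haveI : IsEmpty (MaximalSpectrum A) := not_nonempty_iff.mp hne
    haveI : Finite (MaximalSpectrum A) := inferInstance
    obtain ⟨β⟩ := Module.nonempty_basis_of_flat_of_finrank_eq A B 0 (fun P => isEmptyElim P)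
    exact ⟨0, Fin.elim0, β, fun i => Fin.elim0 i⟩

end Groth.Agent.Helper3.GrpdQ3
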