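import Mathlib
import Groth.Agent.Lib.Helper3.GrpdFib
import Groth.Agent.Lib.Helper3.GrpdQ1
import Groth.Agent.Lib.Helper3.GrpdQ2
import Groth.Agent.Lib.Helper3.GrpdQ3
import Groth.Agent.Lib.Helper18.InvBasis
import Groth.Agent.Lib.Helper18.IntInv

/-!
# Quotient of a finite locally free affine groupoid: ring-level main theorem (helper3)

For ring-level groupoid data `(A, B, D, s = algebraMap A B, t, e, p0, p1, c)` with `B` finite
projective over `A` and `B` generated by `t(A)` as an `A`-module (`j` a monomorphism), the ring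
of invariants `C = eqLocus s t` satisfies: `A` is finite, flat and finitely presented over `C`
and `A ⊗[C] A ≃ B`.
-/

set_option autoImplicit false
set_option linter.style.haveILetI false
universe u

open CategoryTheory Limits TensorProduct

namespace Groth.Agent.Helper3.GrpdQ4

open Groth.Agent.Helper3.GrpdFib Groth.Agent.Helper3.GrpdQ1
open Groth.Agent.Lib.Helper18.InvBasis Groth.Agent.Lib.Helper18.IntInv

variable {A B D : Type u} [CommRing A] [CommRing B] [CommRing D] [Algebra A B]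
  {t : A →+* B} {e : B →+* A} {p0 p1 c : B →+* D}

theorem local_structure_aux (h : RG t e p0 p1 c) [Module.Finite A B] [Module.Projective A B]
    (hsurj : ∀ b : B, b ∈ Submodule.span A (Set.range t))
    (𝔭 : Ideal (RingHom.eqLocus (algebraMap A B) t)) [𝔭.IsPrime]
    (M : Submonoid A) (hMdef : M = Algebra.algebraMapSubmonoid A 𝔭.primeCompl)
    {A' B' D' : Type u} [CommRing A'] [CommRing B'] [CommRing D']
    [Algebra A A'] [Algebra B B'] [Algebra D D'] [Algebra A' B']
    [IsLocalization M A'] [IsLocalization (Algebra.algebraMapSubmonoid B M) B']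
    [IsLocalization ((Algebra.algebraMapSubmonoid B M).map p1) D']
    {t' : A' →+* B'} {e' : B' →+* A'} {p0' p1' c' : B' →+* D'}
    (hs' : ∀ a, algebraMap A' B' (algebraMap A A' a) = algebraMap B B' (algebraMap A B a))
    (ht' : ∀ a, t' (algebraMap A A' a) = algebraMap B B' (t a))
    (he' : ∀ b, e' (algebraMap B B' b) = algebraMap A A' (e b))
    (hp0' : ∀ b, p0' (algebraMap B B' b) = algebraMap D D' (p0 b))
    (hp1' : ∀ b, p1' (algebraMap B B' b) = algebraMap D D' (p1 b))
    (hc' : ∀ b, c' (algebraMap B B' b) = algebraMap D D' (c b)) :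
    ∃ (n : ℕ) (y : Fin n → A),
      (∀ a : A, ∃ g, g ∉ 𝔭 ∧
        g • a ∈ Submodule.span (RingHom.eqLocus (algebraMap A B) t) (Set.range y)) ∧
      (∀ b : Fin n → A, ∑ i, algebraMap A B (b i) * t (y i) = 0 →
        ∀ i, ∃ g, g ∉ 𝔭 ∧ g • b i = 0) := by
  classical
  have hMC : ∀ g ∈ M, ∃ cg : RingHom.eqLocus (algebraMap A B) t, cg ∉ 𝔭 ∧ (cg : A) = g := by
    rw [hMdef]
    rintro _ ⟨x, hx, rfl⟩
    exact ⟨x, hx, rfl⟩
  have hM : ∀ m ∈ M, t m = algebraMap A B m := by
    intro m hm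
    obtain ⟨cg, -, rfl⟩ := hMC m hm
    exact cg.2.symm
  haveI hloc𝔭 : IsLocalization (Algebra.algebraMapSubmonoid A 𝔭.primeCompl) A' := by
    rw [← hMdef]
    infer_instance
  have hRG' : RG t' e' p0' p1' c' := GrpdQ2.RG.localize M hs' ht' he' hp0' hp1' hc' h
  haveI : Module.Finite A' B' := GrpdQ2.finite_localize M hs'
  haveI : Module.Projective A' B' := GrpdQ2.projective_localize M hs'
  have hspan := GrpdQ2.span_localize M hs' ht' hsurj
  haveI hint : Algebra.IsIntegral (RingHom.eqLocus (algebraMap A B) t) A :=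
    ⟨fun f => isIntegral_of_groupoid t e p0 p1 c h.hes h.het h.hct h.hsq_t h.hsq_s f⟩
  have hloc' : ∀ P₀ P₁ : Ideal A', P₀.IsMaximal → P₁.IsMaximal →
      ∀ x ∈ RingHom.eqLocus (algebraMap A' B') t', x ∈ P₀ → x ∈ P₁ := by
    intro P₀ P₁ h₀ h₁ x hx hx0
    haveI := h₀
    haveI := h₁
    obtain ⟨c₀, hc₀, m, hm, hxm⟩ := GrpdQ2.eqLocus_localize M hs' ht' hM x hx
    have hu : IsUnit (algebraMap A A' m) := IsLocalization.map_units A' (⟨m, hm⟩ : M)
    have h1 : algebraMap A A' c₀ ∈ P₀ := by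
      rw [← hxm]
      exact P₀.mul_mem_right _ hx0
    have h2 : (⟨c₀, hc₀⟩ : RingHom.eqLocus (algebraMap A B) t) ∈ 𝔭 :=
      (GrpdQ2.under_of_isMaximal_localization 𝔭 P₀ ⟨c₀, hc₀⟩).mp h1
    have h3 : algebraMap A A' c₀ ∈ P₁ :=
      (GrpdQ2.under_of_isMaximal_localization 𝔭 P₁ ⟨c₀, hc₀⟩).mpr h2
    rw [← hxm] at h3
    rcases h₁.isPrime.mem_or_mem h3 with h4 | h4
    · exact h4
    · exact absurd (Ideal.eq_top_of_isUnit_mem _ h4 hu) h₁.ne_top
  obtain ⟨n, y, bB, hbB⟩ := GrpdQ3.RG.exists_basis hRG' hloc' (fun a : A => algebraMap A A' a) hspan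
  obtain ⟨bA, hbA⟩ := part1 t' e' p0' p1' c' hRG'.hes hRG'.het hRG'.hct (GrpdQ3.RG.hcs hRG')
    hRG'.hsq_t (fun i : ULift.{u} (Fin n) => algebraMap A A' (y i.down))
    (bB.reindex Equiv.ulift.symm) (fun i => by
      rw [Module.Basis.reindex_apply]
      exact hbB _)
  refine ⟨n, y, ?_, ?_⟩
  · intro a
    have key : ∀ z ∈ Submodule.span (RingHom.eqLocus (algebraMap A' B') t') (Set.range bA),
        ∃ g ∈ M, ∃ a₀ ∈ Submodule.span (RingHom.eqLocus (algebraMap A B) t) (Set.range y),
          algebraMap A A' g * z = algebraMap A A' a₀ := by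
      intro z hz
      refine Submodule.span_induction (p := fun z _ => ∃ g ∈ M, ∃ a₀ ∈
        Submodule.span (RingHom.eqLocus (algebraMap A B) t) (Set.range y),
          algebraMap A A' g * z = algebraMap A A' a₀) ?_ ?_ ?_ ?_ hz
      · rintro _ ⟨i, rfl⟩
        refine ⟨1, M.one_mem, y i.down, Submodule.subset_span ⟨i.down, rfl⟩, ?_⟩
        rw [map_one, one_mul, hbA]
      · exact ⟨1, M.one_mem, 0, Submodule.zero_mem _, by rw [mul_zero, map_zero]⟩
      · rintro z₁ z₂ _ _ ⟨g₁, hg₁, a₁, ha₁, e₁⟩ ⟨g₂, hg₂, a₂, ha₂, e₂⟩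
        obtain ⟨c₁, -, hc₁⟩ := hMC g₁ hg₁
        obtain ⟨c₂, -, hc₂⟩ := hMC g₂ hg₂
        refine ⟨g₁ * g₂, M.mul_mem hg₁ hg₂, c₂ • a₁ + c₁ • a₂,
          Submodule.add_mem _ (Submodule.smul_mem _ _ ha₁) (Submodule.smul_mem _ _ ha₂), ?_⟩
        rw [Subring.smul_def, Subring.smul_def, smul_eq_mul, smul_eq_mul, hc₁, hc₂, map_add,
          map_mul, map_mul, map_mul, ← e₁, ← e₂]
        ring
      · rintro r z _ ⟨g, hg, a₀, ha₀, e₀⟩
        obtain ⟨c₀, hc₀, m, hm, hrm⟩ := GrpdQ2.eqLocus_localize M hs' ht' hM r.1 r.2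
        obtain ⟨cC, hcC⟩ : ∃ cC : RingHom.eqLocus (algebraMap A B) t, (cC : A) = c₀ :=
          ⟨⟨c₀, hc₀⟩, rfl⟩
        refine ⟨g * m, M.mul_mem hg hm, cC • a₀, Submodule.smul_mem _ _ ha₀, ?_⟩
        rw [Subring.smul_def, Subring.smul_def, smul_eq_mul, smul_eq_mul, hcC, map_mul, map_mul,
          ← hrm, ← e₀]
        ring
    have ha : algebraMap A A' a ∈
        Submodule.span (RingHom.eqLocus (algebraMap A' B') t') (Set.range bA) := by
      rw [bA.span_eq]
      exact Submodule.mem_top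
    obtain ⟨g, hg, a₀, ha₀, e₀⟩ := key _ ha
    rw [← map_mul] at e₀
    obtain ⟨m, hm⟩ := (IsLocalization.eq_iff_exists M A').mp e₀
    obtain ⟨cm, hcm, hcmeq⟩ := hMC m.1 m.2
    obtain ⟨cg, hcg, hcgeq⟩ := hMC g hg
    refine ⟨cm * cg, ?_, ?_⟩
    · exact fun hmem => (‹𝔭.IsPrime›.mem_or_mem hmem).elim hcm hcg
    · have h5 : (cm * cg) • a = cm • a₀ := by
        rw [Subring.smul_def, Subring.smul_def, smul_eq_mul, smul_eq_mul, Subring.coe_mul, hcmeq,
          hcgeq, mul_assoc]
        exact hm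
      rw [h5]
      exact Submodule.smul_mem _ _ ha₀
  · intro b hb i
    have h1 : ∑ j, algebraMap A A' (b j) • bB j = 0 := by
      have h0 := congrArg (algebraMap B B') hb
      rw [map_sum, map_zero] at h0
      rw [← h0]
      refine Finset.sum_congr rfl (fun j _ => ?_)
      rw [hbB, Algebra.smul_def, hs', ht', map_mul]
    have h2 := (Fintype.linearIndependent_iff.mp bB.linearIndependent)
      (fun j => algebraMap A A' (b j)) h1 i
    obtain ⟨m, hm⟩ := (IsLocalization.map_eq_zero_iff M A' _).mp h2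
    obtain ⟨cm, hcm, hcmeq⟩ := hMC m.1 m.2
    refine ⟨cm, hcm, ?_⟩
    rw [Subring.smul_def, smul_eq_mul, hcmeq]
    exact hm

theorem RG.local_structure (h : RG t e p0 p1 c) [Module.Finite A B] [Module.Projective A B]
    (hsurj : ∀ b : B, b ∈ Submodule.span A (Set.range t))
    (𝔭 : Ideal (RingHom.eqLocus (algebraMap A B) t)) [𝔭.IsPrime] :
    ∃ (n : ℕ) (y : Fin n → A),
      (∀ a : A, ∃ g, g ∉ 𝔭 ∧
        g • a ∈ Submodule.span (RingHom.eqLocus (algebraMap A B) t) (Set.range y)) ∧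
      (∀ b : Fin n → A, ∑ i, algebraMap A B (b i) * t (y i) = 0 →
        ∀ i, ∃ g, g ∉ 𝔭 ∧ g • b i = 0) := by
  obtain ⟨M, hMdef⟩ : ∃ M : Submonoid A, M = Algebra.algebraMapSubmonoid A 𝔭.primeCompl :=
    ⟨_, rfl⟩
  have hM : ∀ m ∈ M, t m = algebraMap A B m := by
    rw [hMdef]
    rintro _ ⟨x, -, rfl⟩
    exact x.2.symm
  have hMB : M ≤ (Algebra.algebraMapSubmonoid B M).comap (algebraMap A B) :=
    fun m hm => ⟨m, hm, rfl⟩
  have hMBt : M ≤ (Algebra.algebraMapSubmonoid B M).comap t :=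
    fun m hm => ⟨m, hm, (hM m hm).symm⟩
  have hMe : Algebra.algebraMapSubmonoid B M ≤ M.comap e := by
    rintro _ ⟨m, hm, rfl⟩
    show e (algebraMap A B m) ∈ M
    rw [h.hes]
    exact hm
  have hMp1 : Algebra.algebraMapSubmonoid B M ≤
      ((Algebra.algebraMapSubmonoid B M).map p1).comap p1 := fun b hb => ⟨b, hb, rfl⟩
  have hMp0 : Algebra.algebraMapSubmonoid B M ≤
      ((Algebra.algebraMapSubmonoid B M).map p1).comap p0 := by
    rintro _ ⟨m, hm, rfl⟩
    show p0 (algebraMap A B m) ∈ (Algebra.algebraMapSubmonoid B M).map p1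
    have hw : p1 (t m) = p0 (algebraMap A B m) := by
      have := congrArg (fun φ => φ.hom m) h.hsq_t.w
      simpa using this
    rw [← hw, hM m hm]
    exact ⟨algebraMap A B m, ⟨m, hm, rfl⟩, rfl⟩
  have hMc : Algebra.algebraMapSubmonoid B M ≤
      ((Algebra.algebraMapSubmonoid B M).map p1).comap c := by
    rintro _ ⟨m, hm, rfl⟩
    show c (algebraMap A B m) ∈ (Algebra.algebraMapSubmonoid B M).map p1
    rw [GrpdQ3.RG.hcs h]
    exact ⟨algebraMap A B m, ⟨m, hm, rfl⟩, rfl⟩
  letI : Algebra (Localization M) (Localization (Algebra.algebraMapSubmonoid B M)) :=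
    (IsLocalization.map (Localization (Algebra.algebraMapSubmonoid B M)) (algebraMap A B)
      hMB).toAlgebra
  exact local_structure_aux h hsurj 𝔭 M hMdef
    (A' := Localization M) (B' := Localization (Algebra.algebraMapSubmonoid B M))
    (D' := Localization ((Algebra.algebraMapSubmonoid B M).map p1))
    (t' := IsLocalization.map _ t hMBt) (e' := IsLocalization.map _ e hMe)
    (p0' := IsLocalization.map _ p0 hMp0) (p1' := IsLocalization.map _ p1 hMp1)
    (c' := IsLocalization.map _ c hMc)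
    (fun a => IsLocalization.map_eq hMB a) (fun a => IsLocalization.map_eq hMBt a)
    (fun b => IsLocalization.map_eq hMe b) (fun b => IsLocalization.map_eq hMp0 b)
    (fun b => IsLocalization.map_eq hMp1 b) (fun b => IsLocalization.map_eq hMc b)

theorem RG.flat_invariants (h : RG t e p0 p1 c) [Module.Finite A B] [Module.Projective A B]
    (hsurj : ∀ b : B, b ∈ Submodule.span A (Set.range t)) :
    Module.Flat (RingHom.eqLocus (algebraMap A B) t) A := by
  rw [Module.Flat.iff_rTensor_injective']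
  intro I
  have hφ : Function.Injective
      ((TensorProduct.lid (RingHom.eqLocus (algebraMap A B) t) A).toLinearMap ∘ₗ
        (LinearMap.rTensor A I.subtype)) := by
    apply inj_local
    intro 𝔭 h𝔭
    haveI := h𝔭
    obtain ⟨n, y, h1, h2⟩ := RG.local_structure h hsurj 𝔭
    refine ⟨n, y, h1, ?_⟩
    intro ν hν i
    simp only [map_sum, LinearMap.comp_apply, LinearMap.rTensor_tmul, LinearEquiv.coe_coe,
      TensorProduct.lid_tmul, Submodule.subtype_apply] at hν
    have hB : ∑ j, algebraMap A B (((ν j : RingHom.eqLocus (algebraMap A B) t) : A)) * t (y j) =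
        0 := by
      have h0 := congrArg t hν
      rw [map_sum, map_zero] at h0
      rw [← h0]
      refine Finset.sum_congr rfl (fun j _ => ?_)
      rw [Subring.smul_def, smul_eq_mul, map_mul]
      congr 1
      exact (ν j : RingHom.eqLocus (algebraMap A B) t).2
    obtain ⟨g, hg, hgz⟩ := h2 (fun j => ((ν j : RingHom.eqLocus (algebraMap A B) t) : A)) hB i
    refine ⟨g, hg, ?_⟩
    rw [Subring.smul_def, smul_eq_mul] at hgz
    have hC : g * (ν i : RingHom.eqLocus (algebraMap A B) t) = 0 := by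
      apply Subtype.ext
      rw [Subring.coe_mul, Subring.coe_zero]
      exact hgz
    apply Subtype.ext
    rw [Submodule.coe_smul, smul_eq_mul, hC, Submodule.coe_zero]
  rw [LinearMap.coe_comp] at hφ
  exact Function.Injective.of_comp hφ

theorem RG.theta (h : RG t e p0 p1 c) [Module.Finite A B] [Module.Projective A B]
    (hsurj : ∀ b : B, b ∈ Submodule.span A (Set.range t)) :
    ∃ θ : A ⊗[RingHom.eqLocus (algebraMap A B) t] A ≃ₐ[A] B,
      ∀ a a' : A, θ (a ⊗ₜ a') = algebraMap A B a * t a' := by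
  letI : Algebra (RingHom.eqLocus (algebraMap A B) t) B :=
    ((algebraMap A B).comp (RingHom.eqLocus (algebraMap A B) t).subtype).toAlgebra
  haveI : IsScalarTower (RingHom.eqLocus (algebraMap A B) t) A B := .of_algebraMap_eq' rfl
  obtain ⟨tAlg, htAlg⟩ : ∃ tAlg : A →ₐ[RingHom.eqLocus (algebraMap A B) t] B,
      ∀ a, tAlg a = t a :=
    ⟨{ t with commutes' := fun r => r.2.symm }, fun a => rfl⟩
  obtain ⟨θ, hθ⟩ : ∃ θ : A ⊗[RingHom.eqLocus (algebraMap A B) t] A →ₐ[A] B,
      ∀ a a' : A, θ (a ⊗ₜ a') = algebraMap A B a * t a' :=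
    ⟨Algebra.TensorProduct.lift (Algebra.ofId A B) tAlg (fun _ _ => Commute.all _ _),
      fun a a' => by
        rw [Algebra.TensorProduct.lift_tmul, htAlg]
        rfl⟩
  have hsurjθ : Function.Surjective θ := by
    intro b
    refine Submodule.span_induction (p := fun b _ => ∃ z, θ z = b) ?_ ?_ ?_ ?_ (hsurj b)
    · rintro _ ⟨a', rfl⟩
      exact ⟨1 ⊗ₜ a', by rw [hθ, map_one, one_mul]⟩
    · exact ⟨0, map_zero _⟩
    · rintro x y _ _ ⟨z₁, rfl⟩ ⟨z₂, rfl⟩
      exact ⟨z₁ + z₂, map_add _ _ _⟩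
    · rintro a x _ ⟨z, rfl⟩
      exact ⟨a • z, map_smul _ _ _⟩
  have hinjθ : Function.Injective θ := by
    have hφ : Function.Injective
        (θ.toLinearMap.restrictScalars (RingHom.eqLocus (algebraMap A B) t)) := by
      apply inj_local
      intro 𝔭 h𝔭
      haveI := h𝔭
      obtain ⟨n, y, h1, h2⟩ := RG.local_structure h hsurj 𝔭
      refine ⟨n, y, h1, ?_⟩
      intro ν hν i
      have h3 : ∑ j, algebraMap A B (ν j) * t (y j) = 0 := by
        have h4 : θ (∑ j, ν j ⊗ₜ[RingHom.eqLocus (algebraMap A B) t] y j) = 0 := hν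
        rw [map_sum] at h4
        rw [← h4]
        exact Finset.sum_congr rfl (fun j _ => (hθ _ _).symm)
      exact h2 ν h3 i
    intro x y hxy
    exact hφ hxy
  exact ⟨AlgEquiv.ofBijective θ ⟨hinjθ, hsurjθ⟩, fun a a' => hθ a a'⟩

/-- Ring-level main theorem. -/
theorem RG.main (h : RG t e p0 p1 c) [Module.Finite A B] [Module.Projective A B]
    [Algebra.FinitePresentation A B]
    (hsurj : ∀ b : B, b ∈ Submodule.span A (Set.range t)) :
    (Module.Finite (RingHom.eqLocus (algebraMap A B) t) A ∧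
      Module.Flat (RingHom.eqLocus (algebraMap A B) t) A ∧
      Algebra.FinitePresentation (RingHom.eqLocus (algebraMap A B) t) A) ∧
    IsPushout (CommRingCat.ofHom (algebraMap (RingHom.eqLocus (algebraMap A B) t) A))
      (CommRingCat.ofHom (algebraMap (RingHom.eqLocus (algebraMap A B) t) A))
      (CommRingCat.ofHom t) (CommRingCat.ofHom (algebraMap A B)) := by
  haveI hflat : Module.Flat (RingHom.eqLocus (algebraMap A B) t) A := RG.flat_invariants h hsurj
  haveI hint : Algebra.IsIntegral (RingHom.eqLocus (algebraMap A B) t) A :=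
    ⟨fun f => isIntegral_of_groupoid t e p0 p1 c h.hes h.het h.hct h.hsq_t h.hsq_s f⟩
  haveI : FaithfulSMul (RingHom.eqLocus (algebraMap A B) t) A :=
    (faithfulSMul_iff_algebraMap_injective _ _).mpr Subtype.val_injective
  haveI hff : Module.FaithfullyFlat (RingHom.eqLocus (algebraMap A B) t) A :=
    Module.FaithfullyFlat.of_comap_surjective
      (Algebra.IsIntegral.comap_surjective (RingHom.eqLocus (algebraMap A B) t) A)
  obtain ⟨θ, hθ⟩ := RG.theta h hsurj
  haveI : Module.Finite A (A ⊗[RingHom.eqLocus (algebraMap A B) t] A) :=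
    Module.Finite.equiv θ.symm.toLinearEquiv
  haveI hfin : Module.Finite (RingHom.eqLocus (algebraMap A B) t) A :=
    Module.Finite.of_finite_tensorProduct_of_faithfullyFlat A
  haveI : Algebra.FinitePresentation A (A ⊗[RingHom.eqLocus (algebraMap A B) t] A) :=
    Algebra.FinitePresentation.equiv θ.symm
  haveI hfp : Algebra.FinitePresentation (RingHom.eqLocus (algebraMap A B) t) A :=
    Algebra.FinitePresentation.of_finitePresentation_tensorProduct_of_faithfullyFlat A
  refine ⟨⟨hfin, hflat, hfp⟩, ?_⟩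
  have hPO := CommRingCat.isPushout_tensorProduct (RingHom.eqLocus (algebraMap A B) t) A A
  have hPO2 : IsPushout
      (CommRingCat.ofHom (algebraMap (RingHom.eqLocus (algebraMap A B) t) A))
      (CommRingCat.ofHom (algebraMap (RingHom.eqLocus (algebraMap A B) t) A))
      (CommRingCat.ofHom (algebraMap A B)) (CommRingCat.ofHom t) := by
    refine hPO.of_iso (Iso.refl _) (Iso.refl _) (Iso.refl _) (θ.toRingEquiv.toCommRingCatIso)
      ?_ ?_ ?_ ?_
    · simp
    · simp
    · apply CommRingCat.hom_ext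
      apply RingHom.ext
      intro a
      show θ (a ⊗ₜ[RingHom.eqLocus (algebraMap A B) t] (1 : A)) = algebraMap A B a
      rw [hθ, map_one, mul_one]
    · apply CommRingCat.hom_ext
      apply RingHom.ext
      intro a
      show θ ((1 : A) ⊗ₜ[RingHom.eqLocus (algebraMap A B) t] a) = t a
      rw [hθ, map_one, one_mul]
  exact hPO2.flip

end Groth.Agent.Helper3.GrpdQ4
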