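import Mathlib
set_option autoImplicit false
universe u
open IsLocalRing

namespace Groth.Agent.Helper3.MonicTower
variable {A : Type u} [CommRing A] {r : ℕ}
/-- the polynomials `F_i`. -/
noncomputable def F (d : Fin r → ℕ) (c : Fin r → ℕ → A) : Fin r → MvPolynomial (Fin r) A := fun i =>
  MvPolynomial.X i ^ d i + (Finset.range (d i)).sum fun k => MvPolynomial.C (c i k) * MvPolynomial.X i ^ k

/-- the quotient ring `A' = A[T]/(F)`. -/
abbrev Q (d : Fin r → ℕ) (c : Fin r → ℕ → A) := MvPolynomial (Fin r) A ⧸ Ideal.span (Set.range (F d c))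

lemma constantCoeff_F (d : Fin r → ℕ) (hd : ∀ i, 1 ≤ d i) (c : Fin r → ℕ → A) (i : Fin r) :
    MvPolynomial.constantCoeff (F d c i) = c i 0 := by
  unfold F
  obtain ⟨e, he⟩ : ∃ e, d i = e + 1 := ⟨d i - 1, by have := hd i; omega⟩
  rw [he, Finset.sum_range_succ']
  simp

/-- evaluation at `T = 0` modulo an ideal containing the constant terms. -/
noncomputable def ev0 (d : Fin r → ℕ) (hd : ∀ i, 1 ≤ d i) (c : Fin r → ℕ → A) (J : Ideal A)
    (hJ : ∀ i, c i 0 ∈ J) : Q d c →+* A ⧸ J :=
  Ideal.Quotient.lift _ ((Ideal.Quotient.mk J).comp MvPolynomial.constantCoeff) (by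
    intro a ha
    have : Ideal.span (Set.range (F d c)) ≤
        RingHom.ker ((Ideal.Quotient.mk J).comp MvPolynomial.constantCoeff) := by
      rw [Ideal.span_le]
      rintro _ ⟨i, rfl⟩
      simp only [SetLike.mem_coe, RingHom.mem_ker, RingHom.comp_apply, constantCoeff_F d hd c i]
      exact Ideal.Quotient.eq_zero_iff_mem.mpr (hJ i)
    exact this ha)

lemma ev0_mk (d : Fin r → ℕ) (hd : ∀ i, 1 ≤ d i) (c : Fin r → ℕ → A) (J : Ideal A)
    (hJ : ∀ i, c i 0 ∈ J) (P : MvPolynomial (Fin r) A) :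
    ev0 d hd c J hJ (Ideal.Quotient.mk _ P) = Ideal.Quotient.mk J (MvPolynomial.constantCoeff P) := rfl

lemma sub_C_mem_idealOfVars (P : MvPolynomial (Fin r) A) :
    P - MvPolynomial.C (MvPolynomial.constantCoeff P) ∈ MvPolynomial.idealOfVars (Fin r) A := by
  have := (MvPolynomial.mem_pow_idealOfVars_iff' (σ := Fin r) (R := A) 1
    (P - MvPolynomial.C (MvPolynomial.constantCoeff P)))
  rw [pow_one] at this
  rw [this]
  intro x hx
  have hx0 : x = 0 := by
    have : Finsupp.degree x = 0 := by omega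
    exact (Finsupp.degree_eq_zero_iff x).mp this
  subst hx0
  simp [MvPolynomial.constantCoeff_eq]

/-- relation in the quotient. -/
lemma mk_X_pow (d : Fin r → ℕ) (c : Fin r → ℕ → A) (i : Fin r) :
    (Ideal.Quotient.mk (Ideal.span (Set.range (F d c))) (MvPolynomial.X i)) ^ d i =
      - (Finset.range (d i)).sum fun k => algebraMap A (Q d c) (c i k) *
        (Ideal.Quotient.mk (Ideal.span (Set.range (F d c))) (MvPolynomial.X i)) ^ k := by
  have h : Ideal.Quotient.mk (Ideal.span (Set.range (F d c))) (MvPolynomial.X i ^ d i +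
      (Finset.range (d i)).sum fun k => MvPolynomial.C (c i k) * MvPolynomial.X i ^ k) = 0 :=
    Ideal.Quotient.eq_zero_iff_mem.mpr (Ideal.subset_span ⟨i, rfl⟩)
  rw [map_add, map_pow, map_sum] at h
  rw [eq_neg_iff_add_eq_zero, ← h]
  congr 1

variable [IsLocalRing A]

/-- if `x ∈ A'` is not killed by evaluation `A' → K` then it is a unit. -/
lemma isUnit_of_ev0_ne_zero (d : Fin r → ℕ) (hd : ∀ i, 1 ≤ d i) (c : Fin r → ℕ → A)
    (hc : ∀ i k, c i k ∈ maximalIdeal A) (x : Q d c)
    (hx : ev0 d hd c (maximalIdeal A) (fun i => hc i 0) x ≠ 0) : IsUnit x := by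
  by_contra hnu
  obtain ⟨M, hM, hxM⟩ := exists_max_ideal_of_mem_nonunits hnu
  -- `A'` is integral over `A`
  have hint : Algebra.IsIntegral A (Q d c) := by
    have hXint : ∀ i, IsIntegral A (Ideal.Quotient.mk (Ideal.span (Set.range (F d c)))
        (MvPolynomial.X i)) := by
      intro i
      refine ⟨Polynomial.X ^ d i + (Finset.range (d i)).sum fun k =>
        Polynomial.C (c i k) * Polynomial.X ^ k, ?_, ?_⟩
      · apply Polynomial.monic_X_pow_add
        apply (Polynomial.degree_sum_le _ _).trans_lt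
        rw [Finset.sup_lt_iff (by simp)]
        intro k hk
        apply (Polynomial.degree_C_mul_X_pow_le _ _).trans_lt
        exact_mod_cast Finset.mem_range.mp hk
      · simp only [Polynomial.eval₂_add, Polynomial.eval₂_pow, Polynomial.eval₂_X,
          Polynomial.eval₂_finsetSum, Polynomial.eval₂_mul, Polynomial.eval₂_C]
        rw [mk_X_pow]
        simp
    have htop : Algebra.adjoin A (Set.range fun i : Fin r =>
        (Ideal.Quotient.mk (Ideal.span (Set.range (F d c))) (MvPolynomial.X i))) = ⊤ := by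
      have h1 := MvPolynomial.adjoin_range_X (R := A) (σ := Fin r)
      have h2 : (Algebra.adjoin A (Set.range (MvPolynomial.X : Fin r → MvPolynomial (Fin r) A))).map
          (Ideal.Quotient.mkₐ A (Ideal.span (Set.range (F d c)))) = ⊤ := by
        rw [h1, Algebra.map_top, AlgHom.range_eq_top]
        exact Ideal.Quotient.mkₐ_surjective _ _
      rw [AlgHom.map_adjoin, ← Set.range_comp] at h2
      exact h2
    have : (⊤ : Subalgebra A (Q d c)) ≤ integralClosure A (Q d c) := by
      rw [← htop]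
      apply Algebra.adjoin_le
      rintro _ ⟨i, rfl⟩
      exact hXint i
    exact ⟨fun y => this Algebra.mem_top⟩
  have hMm : M.comap (algebraMap A (Q d c)) = maximalIdeal A := by
    haveI := Ideal.isMaximal_comap_of_isIntegral_of_isMaximal (R := A) M
    exact IsLocalRing.eq_maximalIdeal this
  have hXM : ∀ i, Ideal.Quotient.mk (Ideal.span (Set.range (F d c))) (MvPolynomial.X i) ∈ M := by
    intro i
    apply hM.isPrime.mem_of_pow_mem (d i)
    rw [mk_X_pow]
    apply Ideal.neg_mem_iff _ |>.mpr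
    apply Ideal.sum_mem
    intro k _
    apply Ideal.mul_mem_right
    have : c i k ∈ M.comap (algebraMap A (Q d c)) := hMm ▸ hc i k
    exact this
  obtain ⟨P, rfl⟩ := Ideal.Quotient.mk_surjective x
  apply hx
  rw [ev0_mk]
  rw [Ideal.Quotient.eq_zero_iff_mem, ← hMm, Ideal.mem_comap]
  have h1 : Ideal.Quotient.mk (Ideal.span (Set.range (F d c)))
      (P - MvPolynomial.C (MvPolynomial.constantCoeff P)) ∈ M := by
    have h2 : (MvPolynomial.idealOfVars (Fin r) A).map
        (Ideal.Quotient.mk (Ideal.span (Set.range (F d c)))) ≤ M := by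
      rw [Ideal.map_span, Ideal.span_le]
      rintro _ ⟨_, ⟨i, rfl⟩, rfl⟩
      exact hXM i
    exact h2 (Ideal.mem_map_of_mem _ (sub_C_mem_idealOfVars P))
  have h3 : algebraMap A (Q d c) (MvPolynomial.constantCoeff P) =
      Ideal.Quotient.mk _ P - Ideal.Quotient.mk (Ideal.span (Set.range (F d c)))
        (P - MvPolynomial.C (MvPolynomial.constantCoeff P)) := by
    rw [map_sub, sub_sub_cancel]; rfl
  rw [h3]
  exact M.sub_mem hxM h1


omit [IsLocalRing A] in
lemma ev0_algebraMap (d : Fin r → ℕ) (hd : ∀ i, 1 ≤ d i) (c : Fin r → ℕ → A) (J : Ideal A)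
    (hJ : ∀ i, c i 0 ∈ J) (a : A) :
    ev0 d hd c J hJ (algebraMap A (Q d c) a) = Ideal.Quotient.mk J a := by
  have : algebraMap A (Q d c) a = Ideal.Quotient.mk _ (MvPolynomial.C a) := rfl
  rw [this, ev0_mk]; simp

theorem isLocalRing (d : Fin r → ℕ) (hd : ∀ i, 1 ≤ d i) (c : Fin r → ℕ → A)
    (hc : ∀ i k, c i k ∈ maximalIdeal A) : IsLocalRing (Q d c) := by
  letI := Ideal.Quotient.field (maximalIdeal A)
  haveI : IsLocalHom (ev0 d hd c (maximalIdeal A) (fun i => hc i 0)) :=
    ⟨fun x hx => isUnit_of_ev0_ne_zero d hd c hc x hx.ne_zero⟩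
  exact RingHom.domain_isLocalRing (ev0 d hd c (maximalIdeal A) (fun i => hc i 0))

lemma mem_maximalIdeal_iff (d : Fin r → ℕ) (hd : ∀ i, 1 ≤ d i) (c : Fin r → ℕ → A)
    (hc : ∀ i k, c i k ∈ maximalIdeal A) (x : Q d c) :
    haveI := isLocalRing d hd c hc
    x ∈ maximalIdeal (Q d c) ↔ ev0 d hd c (maximalIdeal A) (fun i => hc i 0) x = 0 := by
  haveI := isLocalRing d hd c hc
  constructor
  · intro hx
    by_contra h
    exact hx (isUnit_of_ev0_ne_zero d hd c hc x h)
  · intro hx hu
    have := hu.map (ev0 d hd c (maximalIdeal A) (fun i => hc i 0))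
    rw [hx] at this
    exact not_isUnit_zero this

lemma X_mem_maximalIdeal (d : Fin r → ℕ) (hd : ∀ i, 1 ≤ d i) (c : Fin r → ℕ → A)
    (hc : ∀ i k, c i k ∈ maximalIdeal A) (i : Fin r) :
    haveI := isLocalRing d hd c hc
    Ideal.Quotient.mk (Ideal.span (Set.range (F d c))) (MvPolynomial.X i) ∈ maximalIdeal (Q d c) := by
  rw [mem_maximalIdeal_iff d hd c hc, ev0_mk]
  simp

lemma algebraMap_mem_maximalIdeal (d : Fin r → ℕ) (hd : ∀ i, 1 ≤ d i) (c : Fin r → ℕ → A)
    (hc : ∀ i k, c i k ∈ maximalIdeal A) (a : A) (ha : a ∈ maximalIdeal A) :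
    haveI := isLocalRing d hd c hc
    algebraMap A (Q d c) a ∈ maximalIdeal (Q d c) := by
  rw [mem_maximalIdeal_iff d hd c hc, ev0_algebraMap]
  exact Ideal.Quotient.eq_zero_iff_mem.mpr ha

theorem residue_surjective (d : Fin r → ℕ) (hd : ∀ i, 1 ≤ d i) (c : Fin r → ℕ → A)
    (hc : ∀ i k, c i k ∈ maximalIdeal A) (M : Ideal (Q d c)) [M.IsMaximal] :
    Function.Surjective ((Ideal.Quotient.mk M).comp (algebraMap A (Q d c))) := by
  haveI := isLocalRing d hd c hc
  have hM : M = maximalIdeal (Q d c) := IsLocalRing.eq_maximalIdeal inferInstance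
  intro y
  obtain ⟨x, rfl⟩ := Ideal.Quotient.mk_surjective y
  obtain ⟨P, rfl⟩ := Ideal.Quotient.mk_surjective x
  refine ⟨MvPolynomial.constantCoeff P, ?_⟩
  rw [RingHom.comp_apply, Ideal.Quotient.eq, hM, mem_maximalIdeal_iff d hd c hc, map_sub,
    ev0_algebraMap, ev0_mk, sub_self]

theorem kernel_eq (hm : maximalIdeal A ^ 2 = ⊥) (d : Fin r → ℕ) (hd : ∀ i, 2 ≤ d i)
    (c : Fin r → ℕ → A) (hc : ∀ i k, c i k ∈ maximalIdeal A) :
    haveI := isLocalRing d (fun i => le_trans (by norm_num) (hd i)) c hc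
    maximalIdeal A ⊓ Ideal.comap (algebraMap A (Q d c)) (maximalIdeal (Q d c) ^ 2) =
      Ideal.span (Set.range fun i => c i 0) := by
  have hd1 : ∀ i, 1 ≤ d i := fun i => le_trans (by norm_num) (hd i)
  haveI := isLocalRing d hd1 c hc
  apply le_antisymm
  · rintro a ⟨ha, ha2⟩
    set J : Ideal A := Ideal.span (Set.range fun i => c i 0) with hJdef
    have hJ : ∀ i, c i 0 ∈ J := fun i => Ideal.subset_span ⟨i, rfl⟩
    have h1 : (maximalIdeal (Q d c)).map (ev0 d hd1 c J hJ) ≤
        (maximalIdeal A).map (Ideal.Quotient.mk J) := by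
      rw [Ideal.map_le_iff_le_comap]
      intro x hx
      rw [mem_maximalIdeal_iff d hd1 c hc] at hx
      obtain ⟨P, rfl⟩ := Ideal.Quotient.mk_surjective x
      rw [ev0_mk, Ideal.Quotient.eq_zero_iff_mem] at hx
      rw [Ideal.mem_comap, ev0_mk]
      exact Ideal.mem_map_of_mem _ hx
    have h2 : ev0 d hd1 c J hJ (algebraMap A (Q d c) a) ∈
        ((maximalIdeal A).map (Ideal.Quotient.mk J)) ^ 2 := by
      have ha2' : algebraMap A (Q d c) a ∈ maximalIdeal (Q d c) ^ 2 := ha2
      have := Ideal.mem_map_of_mem (ev0 d hd1 c J hJ) ha2'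
      rw [Ideal.map_pow] at this
      exact Ideal.pow_right_mono h1 2 this
    rw [← Ideal.map_pow, hm, Ideal.map_bot, Ideal.mem_bot, ev0_algebraMap,
      Ideal.Quotient.eq_zero_iff_mem] at h2
    exact h2
  · rw [Ideal.span_le]
    rintro _ ⟨i, rfl⟩
    refine ⟨hc i 0, ?_⟩
    show algebraMap A (Q d c) (c i 0) ∈ maximalIdeal (Q d c) ^ 2
    set x := Ideal.Quotient.mk (Ideal.span (Set.range (F d c))) (MvPolynomial.X i) with hx
    have hxm : x ∈ maximalIdeal (Q d c) := X_mem_maximalIdeal d hd1 c hc i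
    obtain ⟨e, he⟩ : ∃ e, d i = e + 2 := ⟨d i - 2, by have := hd i; omega⟩
    have hrel := mk_X_pow d c i
    rw [← hx, he, Finset.sum_range_succ'] at hrel
    have h0 : algebraMap A (Q d c) (c i 0) = - x ^ (e + 2) -
        ∑ k ∈ Finset.range (e + 1), algebraMap A (Q d c) (c i (k + 1)) * x ^ (k + 1) := by
      rw [hrel]; ring
    rw [h0]
    apply Ideal.sub_mem
    · apply Ideal.neg_mem_iff _ |>.mpr
      rw [pow_add]
      exact Ideal.mul_mem_left _ _ (Ideal.pow_mem_pow hxm 2)
    · apply Ideal.sum_mem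
      intro k _
      have h2 : algebraMap A (Q d c) (c i (k + 1)) * x ∈ maximalIdeal (Q d c) ^ 2 := by
        rw [pow_two (maximalIdeal (Q d c))]
        exact Ideal.mul_mem_mul (algebraMap_mem_maximalIdeal d hd1 c hc _ (hc i _)) hxm
      have h3 : algebraMap A (Q d c) (c i (k + 1)) * x ^ (k + 1) =
          (algebraMap A (Q d c) (c i (k + 1)) * x) * x ^ k := by ring
      rw [h3]
      exact Ideal.mul_mem_right _ _ h2

end Groth.Agent.Helper3.MonicTower
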