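import Mathlib
import Groth.Agent.Lib.Helper3.MonicTower
import Groth.Agent.Lib.Helper7.IntDim
import Groth.Agent.Lib.Lead.Hom10
set_option autoImplicit false
universe u
open IsLocalRing

namespace Groth.Agent.Helper3.MonicTower

variable {A : Type u} [CommRing A] {r : ℕ}
/-- a ring extension containing roots of finitely many monic polynomials. -/
theorem exists_roots [Nontrivial A] : ∀ (r : ℕ) (G : Fin r → Polynomial A),
    (∀ i, (G i).Monic ∧ 1 ≤ (G i).natDegree) →
    ∃ (B : Type u) (_ : CommRing B) (_ : Algebra A B), Function.Injective (algebraMap A B) ∧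
      ∀ i, ∃ x : B, Polynomial.aeval x (G i) = 0 := by
  intro r
  induction r with
  | zero => intro G _; exact ⟨A, inferInstance, inferInstance, fun _ _ h => h, fun i => i.elim0⟩
  | succ r ih =>
    intro G hG
    obtain ⟨B₀, _, _, hinj, hroot⟩ := ih (fun i => G i.castSucc) (fun i => hG _)
    haveI : Nontrivial B₀ := hinj.nontrivial
    let g : Polynomial B₀ := (G (Fin.last r)).map (algebraMap A B₀)
    have hg : g.Monic := (hG _).1.map _
    have hgd : 1 ≤ g.natDegree := by
      rw [(hG (Fin.last r)).1.natDegree_map]; exact (hG _).2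
    have hinj2 : Function.Injective (AdjoinRoot.of g) := by
      rw [injective_iff_map_eq_zero]
      intro b hb
      rw [AdjoinRoot.of, RingHom.comp_apply, AdjoinRoot.mk_eq_zero] at hb
      by_contra hb0
      refine hg.not_dvd_of_natDegree_lt ?_ ?_ hb
      · simpa using hb0
      · rw [Polynomial.natDegree_C]; omega
    refine ⟨AdjoinRoot g, inferInstance, inferInstance, ?_, ?_⟩
    · have : algebraMap A (AdjoinRoot g) = (AdjoinRoot.of g).comp (algebraMap A B₀) := rfl
      rw [this]
      exact hinj2.comp hinj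
    · intro i
      refine Fin.lastCases ?_ (fun j => ?_) i
      · refine ⟨AdjoinRoot.root g, ?_⟩
        have h1 := AdjoinRoot.eval₂_root g
        rw [Polynomial.aeval_def]
        simp only [g, Polynomial.eval₂_map] at h1
        exact h1
      · obtain ⟨x, hx⟩ := hroot j
        refine ⟨AdjoinRoot.of g x, ?_⟩
        have : Polynomial.aeval (AdjoinRoot.of g x) (G j.castSucc) =
            AdjoinRoot.of g (Polynomial.aeval x (G j.castSucc)) := by
          rw [Polynomial.aeval_def, Polynomial.aeval_def, Polynomial.hom_eval₂]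
          rfl
        rw [this, hx, map_zero]

/-- univariate version of `F`. -/
noncomputable def G (d : Fin r → ℕ) (c : Fin r → ℕ → A) (i : Fin r) : Polynomial A :=
  Polynomial.X ^ d i + (Finset.range (d i)).sum fun k => Polynomial.C (c i k) * Polynomial.X ^ k

lemma G_monic (d : Fin r → ℕ) (c : Fin r → ℕ → A) (i : Fin r) : (G d c i).Monic := by
  apply Polynomial.monic_X_pow_add
  apply (Polynomial.degree_sum_le _ _).trans_lt
  rw [Finset.sup_lt_iff (by simp)]
  intro k hk
  apply (Polynomial.degree_C_mul_X_pow_le _ _).trans_lt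
  exact_mod_cast Finset.mem_range.mp hk

lemma G_natDegree [Nontrivial A] (d : Fin r → ℕ) (c : Fin r → ℕ → A) (i : Fin r) :
    (G d c i).natDegree = d i := by
  unfold G
  rw [Polynomial.natDegree_add_eq_left_of_degree_lt]
  · simp
  · rw [Polynomial.degree_X_pow]
    apply (Polynomial.degree_sum_le _ _).trans_lt
    rw [Finset.sup_lt_iff (by simp)]
    intro k hk
    apply (Polynomial.degree_C_mul_X_pow_le _ _).trans_lt
    exact_mod_cast Finset.mem_range.mp hk

lemma aeval_G {B : Type*} [CommRing B] [Algebra A B] (d : Fin r → ℕ) (c : Fin r → ℕ → A) (i : Fin r)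
    (x : B) : Polynomial.aeval x (G d c i) =
      x ^ d i + (Finset.range (d i)).sum fun k => algebraMap A B (c i k) * x ^ k := by
  simp [G]

theorem algebraMap_injective [Nontrivial A] (d : Fin r → ℕ) (hd : ∀ i, 1 ≤ d i) (c : Fin r → ℕ → A) :
    Function.Injective (algebraMap A (Q d c)) := by
  obtain ⟨B, _, _, hinj, hroot⟩ := exists_roots r (G d c)
    (fun i => ⟨G_monic d c i, by rw [G_natDegree]; exact hd i⟩)
  choose x hx using hroot
  let φ : MvPolynomial (Fin r) A →ₐ[A] B := MvPolynomial.aeval x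
  have hφ : ∀ a ∈ Ideal.span (Set.range (F d c)), φ a = 0 := by
    intro a ha
    have : Ideal.span (Set.range (F d c)) ≤ RingHom.ker φ.toRingHom := by
      rw [Ideal.span_le]
      rintro _ ⟨i, rfl⟩
      show φ (F d c i) = 0
      have := hx i
      rw [aeval_G] at this
      simp only [F, φ, map_add, map_pow, MvPolynomial.aeval_X, map_sum, map_mul,
        MvPolynomial.aeval_C]
      exact this
    exact this ha
  let φ' : Q d c →ₐ[A] B := Ideal.Quotient.liftₐ _ φ hφ
  intro a b hab
  apply hinj
  have := congrArg φ' hab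
  simpa using this


theorem isIntegral (d : Fin r → ℕ) (c : Fin r → ℕ → A) : Algebra.IsIntegral A (Q d c) := by
  have hXint : ∀ i, IsIntegral A (Ideal.Quotient.mk (Ideal.span (Set.range (F d c)))
      (MvPolynomial.X i)) := by
    intro i
    refine ⟨G d c i, G_monic d c i, ?_⟩
    rw [← Polynomial.aeval_def, aeval_G, mk_X_pow]
    simp
  have htop : Algebra.adjoin A (Set.range fun i : Fin r =>
      (Ideal.Quotient.mk (Ideal.span (Set.range (F d c))) (MvPolynomial.X i))) = ⊤ := by
    have h1 := MvPolynomial.adjoin_range_X (R := A) (σ := Fin r)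
    have h2 : (Algebra.adjoin A (Set.range (MvPolynomial.X : Fin r → MvPolynomial (Fin r) A))).map
        (Ideal.Quotient.mkₐ A (Ideal.span (Set.range (F d c)))) = ⊤ := by
      rw [h1, Algebra.map_top, AlgHom.range_eq_top]
      exact Ideal.Quotient.mkₐ_surjective _ _
    rw [AlgHom.map_adjoin, ← Set.range_comp] at h2
    exact h2
  have : (⊤ : Subalgebra A (Q d c)) ≤ integralClosure A (Q d c) := by
    rw [← htop]
    apply Algebra.adjoin_le
    rintro _ ⟨i, rfl⟩
    exact hXint i
  exact ⟨fun y => this Algebra.mem_top⟩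

theorem ringKrullDim_eq [Nontrivial A] (d : Fin r → ℕ) (hd : ∀ i, 1 ≤ d i) (c : Fin r → ℕ → A) :
    ringKrullDim (Q d c) = ringKrullDim A := by
  haveI := isIntegral d c
  exact Groth.Agent.Helper7.IntDim.ringKrullDim_eq_of_isIntegral_of_injective
    (algebraMap_injective d hd c)

/-- the maximal ideal of `A'` is generated by `m` and the `X_i`. -/
lemma mem_maximalIdeal_decomp [IsLocalRing A] (d : Fin r → ℕ) (hd : ∀ i, 1 ≤ d i) (c : Fin r → ℕ → A)
    (hc : ∀ i k, c i k ∈ maximalIdeal A) (x : Q d c)
    (hx : ev0 d hd c (maximalIdeal A) (fun i => hc i 0) x = 0) :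
    ∃ a ∈ maximalIdeal A, x - algebraMap A (Q d c) a ∈
      Ideal.span (Set.range fun i : Fin r =>
        Ideal.Quotient.mk (Ideal.span (Set.range (F d c))) (MvPolynomial.X i)) := by
  obtain ⟨P, rfl⟩ := Ideal.Quotient.mk_surjective x
  rw [ev0_mk, Ideal.Quotient.eq_zero_iff_mem] at hx
  refine ⟨MvPolynomial.constantCoeff P, hx, ?_⟩
  have h1 : Ideal.Quotient.mk (Ideal.span (Set.range (F d c))) P -
      algebraMap A (Q d c) (MvPolynomial.constantCoeff P) =
      Ideal.Quotient.mk (Ideal.span (Set.range (F d c)))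
        (P - MvPolynomial.C (MvPolynomial.constantCoeff P)) := by
    rw [map_sub]; rfl
  rw [h1]
  have h2 : (MvPolynomial.idealOfVars (Fin r) A).map
      (Ideal.Quotient.mk (Ideal.span (Set.range (F d c)))) =
      Ideal.span (Set.range fun i : Fin r =>
        Ideal.Quotient.mk (Ideal.span (Set.range (F d c))) (MvPolynomial.X i)) := by
    rw [Ideal.map_span, ← Set.range_comp]; rfl
  rw [← h2]
  exact Ideal.mem_map_of_mem _ (sub_C_mem_idealOfVars P)

/-- `c_{i0}` is a multiple of `X_i` in `A'`. -/
lemma algebraMap_c0_mem (d : Fin r → ℕ) (hd : ∀ i, 1 ≤ d i) (c : Fin r → ℕ → A) (i : Fin r) :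
    algebraMap A (Q d c) (c i 0) ∈ Ideal.span (Set.range fun i : Fin r =>
        Ideal.Quotient.mk (Ideal.span (Set.range (F d c))) (MvPolynomial.X i)) := by
  set x := Ideal.Quotient.mk (Ideal.span (Set.range (F d c))) (MvPolynomial.X i) with hx
  have hxm : x ∈ Ideal.span (Set.range fun i : Fin r =>
      Ideal.Quotient.mk (Ideal.span (Set.range (F d c))) (MvPolynomial.X i)) :=
    Ideal.subset_span ⟨i, rfl⟩
  obtain ⟨e, he⟩ : ∃ e, d i = e + 1 := ⟨d i - 1, by have := hd i; omega⟩
  have hrel := mk_X_pow d c i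
  rw [← hx, he, Finset.sum_range_succ'] at hrel
  have h0 : algebraMap A (Q d c) (c i 0) = - x ^ (e + 1) -
      ∑ k ∈ Finset.range e, algebraMap A (Q d c) (c i (k + 1)) * x ^ (k + 1) := by
    rw [hrel]; ring
  rw [h0]
  apply Ideal.sub_mem
  · apply Ideal.neg_mem_iff _ |>.mpr
    rw [pow_succ]
    exact Ideal.mul_mem_left _ _ hxm
  · apply Ideal.sum_mem
    intro k _
    rw [pow_succ, ← mul_assoc]
    exact Ideal.mul_mem_left _ _ hxm

end Groth.Agent.Helper3.MonicTower
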