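import Mathlib
import Groth.Agent.Lib.Helper3.MonicTower2
set_option autoImplicit false
universe u
open IsLocalRing

namespace Groth.Agent.Helper3.MonicTower

variable {A : Type u} [CommRing A] {r : ℕ}

theorem isRegularLocalRing_of_linearIndependent [IsRegularLocalRing A] (d : Fin r → ℕ)
    (hd : ∀ i, 1 ≤ d i) (c : Fin r → ℕ → A) (hc : ∀ i k, c i k ∈ maximalIdeal A)
    (hli : LinearIndependent (ResidueField A)
      (fun i => (maximalIdeal A).toCotangent ⟨c i 0, hc i 0⟩)) :
    haveI := isLocalRing d hd c hc
    IsRegularLocalRing (Q d c) := by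
  classical
  haveI := isLocalRing d hd c hc
  apply IsRegularLocalRing.of_spanFinrank_maximalIdeal_le
  set v : Fin r → CotangentSpace A := fun i => (maximalIdeal A).toCotangent ⟨c i 0, hc i 0⟩ with hv
  let W : Submodule (ResidueField A) (CotangentSpace A) := Submodule.span _ (Set.range v)
  let bq := Module.finBasis (ResidueField A) (CotangentSpace A ⧸ W)
  have hlift : ∀ e, ∃ y : maximalIdeal A, W.mkQ ((maximalIdeal A).toCotangent y) = bq e := by
    intro e
    obtain ⟨z, hz⟩ := W.mkQ_surjective (bq e)
    obtain ⟨y, rfl⟩ := Ideal.toCotangent_surjective _ z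
    exact ⟨y, hz⟩
  choose y hy using hlift
  let gens : Set (maximalIdeal A) := Set.range (fun i => (⟨c i 0, hc i 0⟩ : maximalIdeal A)) ∪ Set.range y
  have h1 : Submodule.span (ResidueField A) ((maximalIdeal A).toCotangent '' gens) = ⊤ := by
    simp only [gens, Set.image_union, Submodule.span_union, ← Set.range_comp]
    have e1 : Submodule.span (ResidueField A) (Set.range ((maximalIdeal A).toCotangent ∘
        fun i => (⟨c i 0, hc i 0⟩ : maximalIdeal A))) = W := rfl
    rw [e1, ← Submodule.map_mkQ_eq_top, Submodule.map_span, ← Set.range_comp]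
    have e2 : (W.mkQ ∘ (maximalIdeal A).toCotangent ∘ y) = bq := funext hy
    rw [e2, bq.span_eq]
  have h2 : Submodule.span A gens = ⊤ := CotangentSpace.span_image_eq_top_iff.mp h1
  have h3 : maximalIdeal A = Ideal.span (Subtype.val '' gens) := by
    have := congrArg (Submodule.map (maximalIdeal A).subtype) h2
    rw [Submodule.map_span, Submodule.map_top, Submodule.range_subtype] at this
    exact this.symm
  let Xs : Ideal (Q d c) := Ideal.span (Set.range fun i : Fin r =>
        Ideal.Quotient.mk (Ideal.span (Set.range (F d c))) (MvPolynomial.X i))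
  let S' : Finset (Q d c) := Finset.univ.image (fun i : Fin r =>
        Ideal.Quotient.mk (Ideal.span (Set.range (F d c))) (MvPolynomial.X i)) ∪
      Finset.univ.image (fun e => algebraMap A (Q d c) (y e))
  have hXs : Xs ≤ Ideal.span (S' : Set (Q d c)) := by
    apply Ideal.span_mono
    rintro _ ⟨i, rfl⟩
    simp [S']
  have hm' : maximalIdeal (Q d c) = Ideal.span (S' : Set (Q d c)) := by
    apply le_antisymm
    · intro x hx
      rw [mem_maximalIdeal_iff d hd c hc] at hx
      obtain ⟨a, ha, hxa⟩ := mem_maximalIdeal_decomp d hd c hc x hx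
      have h4 : algebraMap A (Q d c) a ∈ Ideal.span (S' : Set (Q d c)) := by
        rw [h3] at ha
        have := Ideal.mem_map_of_mem (algebraMap A (Q d c)) ha
        rw [Ideal.map_span] at this
        refine (Ideal.span_le.mpr ?_) this
        rintro _ ⟨_, ⟨g, hg, rfl⟩, rfl⟩
        rcases hg with ⟨i, rfl⟩ | ⟨e, rfl⟩
        · exact hXs (algebraMap_c0_mem d hd c i)
        · apply Ideal.subset_span
          simp [S']
      have : x = algebraMap A (Q d c) a + (x - algebraMap A (Q d c) a) := by ring
      rw [this]
      exact Ideal.add_mem _ h4 (hXs hxa)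
    · rw [Ideal.span_le]
      intro x hx
      simp only [S', Finset.coe_union, Finset.coe_image, Finset.coe_univ, Set.image_univ,
        Set.mem_union, Set.mem_range] at hx
      rcases hx with ⟨i, rfl⟩ | ⟨e, rfl⟩
      · exact X_mem_maximalIdeal d hd c hc i
      · exact algebraMap_mem_maximalIdeal d hd c hc _ (y e).2
  have hcard : S'.card ≤ r + Module.finrank (ResidueField A) (CotangentSpace A ⧸ W) := by
    refine (Finset.card_union_le _ _).trans ?_
    refine add_le_add (Finset.card_image_le.trans (by simp)) (Finset.card_image_le.trans (by simp))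
  have hW : Module.finrank (ResidueField A) W = r := by
    have := finrank_span_eq_card hli
    simpa using this
  have hV : Module.finrank (ResidueField A) (CotangentSpace A ⧸ W) + r =
      Module.finrank (ResidueField A) (CotangentSpace A) := by
    rw [← hW]; exact Submodule.finrank_quotient_add_finrank W
  have hdimA : (Module.finrank (ResidueField A) (CotangentSpace A) : WithBot ℕ∞) = ringKrullDim A :=
    (IsRegularLocalRing.iff_finrank_cotangentSpace A).mp inferInstance
  haveI : Nontrivial A := inferInstance
  rw [ringKrullDim_eq d hd c, ← hdimA, hm']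
  have h5 : (Ideal.span (S' : Set (Q d c))).spanFinrank ≤ S'.card := by
    have := Submodule.spanFinrank_span_le_ncard_of_finite (R := Q d c) (s := (S' : Set (Q d c)))
      S'.finite_toSet
    rwa [Set.ncard_coe_finset] at this
  have h6 : (Ideal.span (S' : Set (Q d c))).spanFinrank ≤
      Module.finrank (ResidueField A) (CotangentSpace A) := by
    rw [← hV]; omega
  exact_mod_cast h6

end Groth.Agent.Helper3.MonicTower
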