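import Mathlib
import Groth.Agent.Lib.Helper3.MonicTower3
set_option autoImplicit false
universe u
open IsLocalRing

namespace Groth.Agent.Helper3.MonicTower

variable {A : Type u} [CommRing A] {r : ℕ}

section psi
variable [IsLocalRing A]

/-- the map `A[T] → κ[ε_1..ε_r]`. -/
noncomputable def psiPoly (r : ℕ) : MvPolynomial (Fin r) A →+* TrivSqZeroExt (ResidueField A) (Fin r → ResidueField A) :=
  MvPolynomial.eval₂Hom ((TrivSqZeroExt.inlHom (ResidueField A) (Fin r → ResidueField A)).comp (residue A))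
    (fun i => TrivSqZeroExt.inr (Pi.single i 1))

lemma psiPoly_F (d : Fin r → ℕ) (hd : ∀ i, 2 ≤ d i) (c : Fin r → ℕ → A)
    (hc : ∀ i k, c i k ∈ maximalIdeal A) (i : Fin r) : psiPoly r (F d c i) = 0 := by
  unfold F psiPoly
  obtain ⟨e, he⟩ : ∃ e, d i = e + 2 := ⟨d i - 2, by have := hd i; omega⟩
  rw [map_add, map_pow, MvPolynomial.eval₂Hom_X', he, pow_add, pow_two, TrivSqZeroExt.inr_mul_inr,
    mul_zero, zero_add, map_sum]
  apply Finset.sum_eq_zero
  intro k _
  rw [map_mul, MvPolynomial.eval₂Hom_C, RingHom.comp_apply,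
    (residue_eq_zero_iff _).mpr (hc i k), map_zero, zero_mul]

noncomputable def psi (d : Fin r → ℕ) (hd : ∀ i, 2 ≤ d i) (c : Fin r → ℕ → A)
    (hc : ∀ i k, c i k ∈ maximalIdeal A) :
    Q d c →+* TrivSqZeroExt (ResidueField A) (Fin r → ResidueField A) :=
  Ideal.Quotient.lift _ (psiPoly r) (by
    intro a ha
    have : Ideal.span (Set.range (F d c)) ≤ RingHom.ker (psiPoly (A := A) r) := by
      rw [Ideal.span_le]
      rintro _ ⟨i, rfl⟩
      exact psiPoly_F d hd c hc i
    exact this ha)

lemma psi_mk (d : Fin r → ℕ) (hd : ∀ i, 2 ≤ d i) (c : Fin r → ℕ → A)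
    (hc : ∀ i k, c i k ∈ maximalIdeal A) (P : MvPolynomial (Fin r) A) :
    psi d hd c hc (Ideal.Quotient.mk _ P) = psiPoly r P := rfl

lemma fst_psiPoly (P : MvPolynomial (Fin r) A) :
    (psiPoly r P).fst = residue A (MvPolynomial.constantCoeff P) := by
  have : (TrivSqZeroExt.fstHom (ResidueField A) (ResidueField A) (Fin r → ResidueField A)).toRingHom.comp (psiPoly r) =
      (residue A).comp MvPolynomial.constantCoeff := by
    apply MvPolynomial.ringHom_ext
    · intro a
      simp [psiPoly]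
    · intro i
      simp [psiPoly]
  exact congrArg (fun f => f P) this

lemma psi_algebraMap (d : Fin r → ℕ) (hd : ∀ i, 2 ≤ d i) (c : Fin r → ℕ → A)
    (hc : ∀ i k, c i k ∈ maximalIdeal A) (a : A) :
    psi d hd c hc (algebraMap A (Q d c) a) = TrivSqZeroExt.inl (residue A a) := by
  have : algebraMap A (Q d c) a = Ideal.Quotient.mk _ (MvPolynomial.C a) := rfl
  rw [this, psi_mk]
  simp [psiPoly]

lemma psi_mk_X (d : Fin r → ℕ) (hd : ∀ i, 2 ≤ d i) (c : Fin r → ℕ → A)
    (hc : ∀ i k, c i k ∈ maximalIdeal A) (i : Fin r) :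
    psi d hd c hc (Ideal.Quotient.mk _ (MvPolynomial.X i)) = TrivSqZeroExt.inr (Pi.single i 1) := by
  rw [psi_mk]
  simp [psiPoly]

lemma fst_psi_eq_zero (d : Fin r → ℕ) (hd : ∀ i, 2 ≤ d i) (c : Fin r → ℕ → A)
    (hc : ∀ i k, c i k ∈ maximalIdeal A) (x : Q d c)
    (hx : ev0 d (fun i => le_trans (by norm_num) (hd i)) c (maximalIdeal A) (fun i => hc i 0) x = 0) :
    (psi d hd c hc x).fst = 0 := by
  obtain ⟨P, rfl⟩ := Ideal.Quotient.mk_surjective x
  rw [ev0_mk, Ideal.Quotient.eq_zero_iff_mem] at hx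
  rw [psi_mk, fst_psiPoly]
  exact (residue_eq_zero_iff _).mpr hx

/-- elements of `m ∩ (m² + (c_{i0}))` have class in the span of the classes of `c_{i0}`. -/
lemma toCotangent_mem_span (c : Fin r → ℕ → A) (hc : ∀ i k, c i k ∈ maximalIdeal A) (z : A)
    (hz : z ∈ maximalIdeal A)
    (hz' : z ∈ maximalIdeal A ^ 2 ⊔ Ideal.span (Set.range fun i => c i 0)) :
    (maximalIdeal A).toCotangent ⟨z, hz⟩ ∈ Submodule.span (ResidueField A)
      (Set.range fun i => (maximalIdeal A).toCotangent ⟨c i 0, hc i 0⟩) := by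
  obtain ⟨p, hp, j, hj, rfl⟩ := Submodule.mem_sup.mp hz'
  obtain ⟨t, rfl⟩ := Ideal.mem_span_range_iff_exists_fun.mp hj
  have hpm : p ∈ maximalIdeal A := Ideal.pow_le_self (by norm_num) hp
  have e : (⟨p + ∑ i, t i * c i 0, hz⟩ : maximalIdeal A) =
      ⟨p, hpm⟩ + ∑ i, t i • (⟨c i 0, hc i 0⟩ : maximalIdeal A) := by
    ext
    simp
  rw [e, map_add, (Ideal.toCotangent_eq_zero _ _).mpr hp, zero_add, map_sum]
  apply Submodule.sum_mem
  intro i _
  rw [map_smul]
  have : t i • (maximalIdeal A).toCotangent ⟨c i 0, hc i 0⟩ =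
      residue A (t i) • (maximalIdeal A).toCotangent ⟨c i 0, hc i 0⟩ := rfl
  rw [this]
  exact Submodule.smul_mem _ _ (Submodule.subset_span ⟨i, rfl⟩)

end psi

theorem linearIndependent_of_isRegularLocalRing [IsRegularLocalRing A] (d : Fin r → ℕ)
    (hd : ∀ i, 2 ≤ d i) (c : Fin r → ℕ → A) (hc : ∀ i k, c i k ∈ maximalIdeal A)
    (hreg : IsRegularLocalRing (Q d c)) :
    LinearIndependent (ResidueField A)
      (fun i => (maximalIdeal A).toCotangent ⟨c i 0, hc i 0⟩) := by
  classical
  have hd1 : ∀ i, 1 ≤ d i := fun i => le_trans (by norm_num) (hd i)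
  haveI : Nontrivial A := inferInstance
  let W : Submodule (ResidueField A) (CotangentSpace A) := Submodule.span _
    (Set.range fun i => (maximalIdeal A).toCotangent ⟨c i 0, hc i 0⟩)
  rw [linearIndependent_iff_card_le_finrank_span, Fintype.card_fin]
  change r ≤ Module.finrank (ResidueField A) W
  -- generating set of `m'`
  have hfg : (maximalIdeal (Q d c)).FG := (inferInstance : IsNoetherianRing (Q d c)).noetherian _
  obtain ⟨S, hScard, hSspan⟩ := Submodule.FG.exists_span_finset_card_eq_spanFinrank hfg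
  have hdimA : (Module.finrank (ResidueField A) (CotangentSpace A) : WithBot ℕ∞) = ringKrullDim A :=
    (IsRegularLocalRing.iff_finrank_cotangentSpace A).mp inferInstance
  have hn : S.card = Module.finrank (ResidueField A) (CotangentSpace A) := by
    have h1 : ((maximalIdeal (Q d c)).spanFinrank : WithBot ℕ∞) = ringKrullDim (Q d c) :=
      hreg.spanFinrank_maximalIdeal
    rw [ringKrullDim_eq d hd1 c, ← hdimA, ← hScard] at h1
    exact_mod_cast h1
  set J' : Ideal A := maximalIdeal A ^ 2 ⊔ Ideal.span (Set.range fun i => c i 0) with hJ'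
  have hcJ' : ∀ i, c i 0 ∈ J' := fun i => Ideal.mem_sup_right (Ideal.subset_span ⟨i, rfl⟩)
  let Xs : Ideal (Q d c) := Ideal.span (Set.range fun i : Fin r =>
        Ideal.Quotient.mk (Ideal.span (Set.range (F d c))) (MvPolynomial.X i))
  have hev0Xs : ∀ x ∈ Xs, ev0 d hd1 c J' hcJ' x = 0 := by
    intro x hx
    have : Xs ≤ RingHom.ker (ev0 d hd1 c J' hcJ') := by
      rw [Ideal.span_le]
      rintro _ ⟨i, rfl⟩
      simp [ev0_mk]
    exact this hx
  have hSm : ∀ σ : S, ev0 d hd1 c (maximalIdeal A) (fun i => hc i 0) (σ : Q d c) = 0 := by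
    intro σ
    rw [← mem_maximalIdeal_iff d hd1 c hc, ← hSspan]
    exact Submodule.subset_span σ.2
  choose a ham haXs using fun σ : S => mem_maximalIdeal_decomp d hd1 c hc (σ : Q d c) (hSm σ)
  let w : S → (CotangentSpace A ⧸ W) × (Fin r → ResidueField A) := fun σ =>
    (W.mkQ ((maximalIdeal A).toCotangent ⟨a σ, ham σ⟩), (psi d hd c hc (σ : Q d c)).snd)
  have hspan : Submodule.span (ResidueField A) (Set.range w) = ⊤ := by
    rw [eq_top_iff]
    rintro ⟨q, u⟩ -
    obtain ⟨q', rfl⟩ := W.mkQ_surjective q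
    obtain ⟨⟨a0, ha0⟩, rfl⟩ := Ideal.toCotangent_surjective _ q'
    choose û hû using fun i => IsLocalRing.residue_surjective (R := A) (u i)
    let x : Q d c := algebraMap A (Q d c) a0 + ∑ i, algebraMap A (Q d c) (û i) *
      Ideal.Quotient.mk (Ideal.span (Set.range (F d c))) (MvPolynomial.X i)
    have hxm : x ∈ Submodule.span (Q d c) (S : Set (Q d c)) := by
      rw [hSspan]
      apply Ideal.add_mem _ (algebraMap_mem_maximalIdeal d hd1 c hc _ ha0)
      apply Ideal.sum_mem
      intro i _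
      exact Ideal.mul_mem_left _ _ (X_mem_maximalIdeal d hd1 c hc i)
    obtain ⟨b, -, hb⟩ := Submodule.mem_span_finset.mp hxm
    choose P hP using fun y : Q d c => Ideal.Quotient.mk_surjective (b y)
    let β : Q d c → A := fun y => MvPolynomial.constantCoeff (P y)
    have hx' : x = ∑ σ : S, b σ * (σ : Q d c) := by
      rw [← hb, ← Finset.sum_coe_sort]
      rfl
    -- first component
    have h1 : Ideal.Quotient.mk J' a0 = ∑ σ : S, Ideal.Quotient.mk J' (β σ * a σ) := by
      have := congrArg (ev0 d hd1 c J' hcJ') hx'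
      simp only [x, map_add, map_sum, map_mul, ev0_algebraMap, ev0_mk, MvPolynomial.constantCoeff_X,
        map_zero, mul_zero, Finset.sum_const_zero, add_zero] at this
      rw [this]
      apply Finset.sum_congr rfl
      intro σ _
      have e1 : ev0 d hd1 c J' hcJ' (b σ) = Ideal.Quotient.mk J' (β σ) := by
        rw [← hP σ, ev0_mk]
      have e2 : ev0 d hd1 c J' hcJ' (σ : Q d c) = Ideal.Quotient.mk J' (a σ) := by
        have := hev0Xs _ (haXs σ)
        rw [map_sub, ev0_algebraMap, sub_eq_zero] at this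
        exact this
      rw [e1, e2, map_mul]
    have h2 : a0 - ∑ σ : S, β σ * a σ ∈ J' := by
      rw [← Ideal.Quotient.eq_zero_iff_mem, map_sub, map_sum, h1, sub_self]
    have h3 : a0 - ∑ σ : S, β σ * a σ ∈ maximalIdeal A := by
      apply Ideal.sub_mem _ ha0
      apply Ideal.sum_mem
      intro σ _
      exact Ideal.mul_mem_left _ _ (ham σ)
    have h4 := toCotangent_mem_span c hc _ h3 h2
    have e3 : (⟨a0 - ∑ σ : S, β σ * a σ, h3⟩ : maximalIdeal A) =
        ⟨a0, ha0⟩ - ∑ σ : S, β σ • (⟨a σ, ham σ⟩ : maximalIdeal A) := by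
      ext
      simp
    rw [e3, map_sub, map_sum] at h4
    have h5 : W.mkQ ((maximalIdeal A).toCotangent ⟨a0, ha0⟩) =
        ∑ σ : S, residue A (β σ) • W.mkQ ((maximalIdeal A).toCotangent ⟨a σ, ham σ⟩) := by
      have := (Submodule.Quotient.mk_eq_zero W).mpr h4
      rw [Submodule.Quotient.mk_sub, sub_eq_zero] at this
      rw [Submodule.mkQ_apply, this, ← Submodule.mkQ_apply, map_sum]
      apply Finset.sum_congr rfl
      intro σ _
      rw [map_smul, ← map_smul]
      rfl
    -- second component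
    have h6 : u = ∑ σ : S, residue A (β σ) • (psi d hd c hc (σ : Q d c)).snd := by
      have := congrArg (fun z => (psi d hd c hc z).snd) hx'
      simp only [x, map_add, map_sum, map_mul, psi_algebraMap, psi_mk_X, TrivSqZeroExt.snd_add,
        TrivSqZeroExt.snd_sum, TrivSqZeroExt.snd_inl, TrivSqZeroExt.inl_mul_inr,
        TrivSqZeroExt.snd_inr, zero_add, TrivSqZeroExt.snd_mul] at this
      have e4 : ∑ i, residue A (û i) • (Pi.single i (1 : ResidueField A) : Fin r → ResidueField A) = u := by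
        ext j
        simp [Finset.sum_apply, Pi.single_apply, hû]
      rw [e4] at this
      rw [this]
      apply Finset.sum_congr rfl
      intro σ _
      have e5 : (psi d hd c hc (b σ)).fst = residue A (β σ) := by
        rw [← hP σ, psi_mk, fst_psiPoly]
      rw [e5, fst_psi_eq_zero d hd c hc _ (hSm σ)]
      simp
    have h7 : ((W.mkQ ((maximalIdeal A).toCotangent ⟨a0, ha0⟩), u) :
        (CotangentSpace A ⧸ W) × (Fin r → ResidueField A)) = ∑ σ : S, residue A (β σ) • w σ := by
      ext1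
      · rw [Prod.fst_sum]
        simp only [Prod.smul_fst, w]
        exact h5
      · rw [Prod.snd_sum]
        simp only [Prod.smul_snd, w]
        exact h6
    rw [h7]
    apply Submodule.sum_mem
    intro σ _
    exact Submodule.smul_mem _ _ (Submodule.subset_span ⟨σ, rfl⟩)
  have hfr : Module.finrank (ResidueField A) ((CotangentSpace A ⧸ W) × (Fin r → ResidueField A)) ≤
      S.card := by
    have := finrank_range_le_card (R := ResidueField A) w
    rw [Set.finrank, hspan, finrank_top, Fintype.card_coe] at this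
    exact this
  rw [Module.finrank_prod, Module.finrank_fin_fun, hn,
    ← Submodule.finrank_quotient_add_finrank W] at hfr
  omega

end Groth.Agent.Helper3.MonicTower
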