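import Mathlib
import Groth.Agent.Lib.Helper3.MonicTower4
import Groth.Agent.Lib.Helper17.PS1
import Groth.Agent.Lib.Helper5.PSR
set_option autoImplicit false
universe u
open IsLocalRing

namespace Groth.Agent.Helper3.WildQuot

open Groth.Agent.Helper3.MonicTower

variable (p : ℕ) [Fact p.Prime] (k : Type u) [Field k] (n : ℕ)

/-- coefficient family -/
noncomputable def c (a : Fin n → MvPowerSeries (Fin n) k) : Fin n → ℕ → MvPowerSeries (Fin n) k :=
  fun i j => if j = 0 then - MvPowerSeries.X i else if j = 1 then - a i ^ (p - 1) else 0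

lemma mem_max_iff (f : MvPowerSeries (Fin n) k) :
    f ∈ maximalIdeal (MvPowerSeries (Fin n) k) ↔ MvPowerSeries.constantCoeff f = 0 := by
  rw [mem_maximalIdeal, mem_nonunits_iff, MvPowerSeries.isUnit_iff_constantCoeff, isUnit_iff_ne_zero,
    not_not]

lemma hc (a : Fin n → MvPowerSeries (Fin n) k) (ham : ∀ i, MvPowerSeries.constantCoeff (a i) = 0)
    (i : Fin n) (j : ℕ) : c p k n a i j ∈ maximalIdeal (MvPowerSeries (Fin n) k) := by
  have hp : 2 ≤ p := (Fact.out : p.Prime).two_le
  unfold c
  split_ifs with h0 h1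
  · rw [mem_max_iff]; simp
  · rw [mem_max_iff, map_neg, map_pow, ham, zero_pow (by omega), neg_zero]
  · exact zero_mem _

lemma F_eq (a : Fin n → MvPowerSeries (Fin n) k) (i : Fin n) :
    F (fun _ => p) (c p k n a) i = MvPolynomial.X i ^ p - MvPolynomial.C (a i ^ (p - 1)) * MvPolynomial.X i -
      MvPolynomial.C (MvPowerSeries.X i) := by
  have hp : 2 ≤ p := (Fact.out : p.Prime).two_le
  unfold F
  have h : ∀ j, MvPolynomial.C (c p k n a i j) * (MvPolynomial.X i : MvPolynomial (Fin n) (MvPowerSeries (Fin n) k)) ^ j =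
      (if j = 0 then - MvPolynomial.C (MvPowerSeries.X i) else 0) +
      (if j = 1 then - (MvPolynomial.C (a i ^ (p - 1)) * MvPolynomial.X i) else 0) := by
    intro j
    by_cases h0 : j = 0
    · subst h0; simp [c]
    · by_cases h1 : j = 1
      · subst h1; simp [c]; ring
      · simp [c, h0, h1]
  have h0 : 0 ∈ Finset.range ((fun _ : Fin n => p) i) := Finset.mem_range.mpr (by show 0 < p; omega)
  have h1 : 1 ∈ Finset.range ((fun _ : Fin n => p) i) := Finset.mem_range.mpr (by show 1 < p; omega)
  rw [Finset.sum_congr rfl (fun j _ => h j), Finset.sum_add_distrib, Finset.sum_ite_eq',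
    Finset.sum_ite_eq', if_pos h0, if_pos h1]
  ring

lemma finrank_cotangentSpace :
    Module.finrank (ResidueField (MvPowerSeries (Fin n) k)) (CotangentSpace (MvPowerSeries (Fin n) k)) = n := by
  haveI := Groth.Agent.Helper5.PSR.isRegularLocalRing_mvPowerSeries (k := k) n
  have h1 : (Module.finrank (ResidueField (MvPowerSeries (Fin n) k))
      (CotangentSpace (MvPowerSeries (Fin n) k)) : WithBot ℕ∞) = ringKrullDim (MvPowerSeries (Fin n) k) :=
    (IsRegularLocalRing.iff_finrank_cotangentSpace _).mp inferInstance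
  have h2 : ringKrullDim (MvPowerSeries (Fin n) k) = n :=
    le_antisymm (Groth.Agent.Helper17.PS.ringKrullDim_le n) (Groth.Agent.Helper17.PS.le_ringKrullDim n)
  rw [h2] at h1
  exact_mod_cast h1

lemma linearIndependent (a : Fin n → MvPowerSeries (Fin n) k)
    (ham : ∀ i, MvPowerSeries.constantCoeff (a i) = 0) :
    LinearIndependent (ResidueField (MvPowerSeries (Fin n) k))
      (fun i => (maximalIdeal (MvPowerSeries (Fin n) k)).toCotangent
        ⟨c p k n a i 0, hc p k n a ham i 0⟩) := by
  apply linearIndependent_of_top_le_span_of_card_eq_finrank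
  · rw [top_le_iff, Set.range_comp', CotangentSpace.span_image_eq_top_iff]
    apply Submodule.map_injective_of_injective (maximalIdeal (MvPowerSeries (Fin n) k)).subtype_injective
    rw [Submodule.map_span, Submodule.map_top, Submodule.range_subtype, ← Set.range_comp]
    have h1 : ((maximalIdeal (MvPowerSeries (Fin n) k)).subtype ∘ fun i : Fin n =>
        (⟨c p k n a i 0, hc p k n a ham i 0⟩ : maximalIdeal (MvPowerSeries (Fin n) k))) =
        fun i => - MvPowerSeries.X i := by
      funext i; simp [c]
    rw [h1, Groth.Agent.Helper17.PS.maximalIdeal_eq_span_X]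
    apply le_antisymm
    · rw [Submodule.span_le]
      rintro _ ⟨i, rfl⟩
      exact Submodule.neg_mem _ (Submodule.subset_span ⟨i, rfl⟩)
    · rw [Ideal.span, Submodule.span_le]
      rintro _ ⟨i, rfl⟩
      have := Submodule.neg_mem _ (Submodule.subset_span (R := MvPowerSeries (Fin n) k)
        (s := Set.range fun i : Fin n => - (MvPowerSeries.X i : MvPowerSeries (Fin n) k)) ⟨i, rfl⟩)
      simpa using this
  · rw [finrank_cotangentSpace, Fintype.card_fin]

theorem main (a : Fin n → MvPowerSeries (Fin n) k)
    (ham : ∀ i, MvPowerSeries.constantCoeff (a i) = 0) :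
    let I : Ideal (MvPolynomial (Fin n) (MvPowerSeries (Fin n) k)) :=
      Ideal.span (Set.range fun i : Fin n =>
        MvPolynomial.X i ^ p - MvPolynomial.C (a i ^ (p - 1)) * MvPolynomial.X i -
          MvPolynomial.C (MvPowerSeries.X i))
    IsRegularLocalRing (MvPolynomial (Fin n) (MvPowerSeries (Fin n) k) ⧸ I) ∧
      (Ideal.map (Ideal.Quotient.mk I)
        (Ideal.span (Set.range (MvPolynomial.X : Fin n → MvPolynomial (Fin n) (MvPowerSeries (Fin n) k))))).IsMaximal := by
  have hp : 2 ≤ p := (Fact.out : p.Prime).two_le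
  haveI := Groth.Agent.Helper5.PSR.isRegularLocalRing_mvPowerSeries (k := k) n
  have hI : (fun i : Fin n => MvPolynomial.X i ^ p - MvPolynomial.C (a i ^ (p - 1)) * MvPolynomial.X i -
      MvPolynomial.C (MvPowerSeries.X i)) = F (fun _ => p) (c p k n a) := by
    funext i; rw [F_eq]
  intro I
  have hI' : I = Ideal.span (Set.range (F (fun _ => p) (c p k n a))) := by
    show Ideal.span _ = _
    rw [hI]
  have hd1 : ∀ i : Fin n, 1 ≤ (fun _ : Fin n => p) i := fun _ => by show 1 ≤ p; omega
  have key : IsRegularLocalRing (Q (fun _ : Fin n => p) (c p k n a)) ∧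
      (Ideal.map (Ideal.Quotient.mk (Ideal.span (Set.range (F (fun _ => p) (c p k n a)))))
        (Ideal.span (Set.range (MvPolynomial.X : Fin n → MvPolynomial (Fin n) (MvPowerSeries (Fin n) k))))).IsMaximal := by
    haveI := isLocalRing (fun _ : Fin n => p) hd1 (c p k n a) (hc p k n a ham)
    refine ⟨isRegularLocalRing_of_linearIndependent _ hd1 _ (hc p k n a ham)
      (linearIndependent p k n a ham), ?_⟩
    have h2 : Ideal.map (Ideal.Quotient.mk (Ideal.span (Set.range (F (fun _ => p) (c p k n a)))))
        (Ideal.span (Set.range (MvPolynomial.X : Fin n → MvPolynomial (Fin n) (MvPowerSeries (Fin n) k)))) =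
        maximalIdeal (Q (fun _ : Fin n => p) (c p k n a)) := by
      rw [Ideal.map_span, ← Set.range_comp]
      apply le_antisymm
      · rw [Ideal.span_le]
        rintro _ ⟨i, rfl⟩
        exact X_mem_maximalIdeal _ hd1 _ (hc p k n a ham) i
      · intro x hx
        rw [mem_maximalIdeal_iff _ hd1 _ (hc p k n a ham)] at hx
        obtain ⟨b, hb, hxb⟩ := mem_maximalIdeal_decomp _ hd1 _ (hc p k n a ham) x hx
        have h3 : algebraMap _ (Q (fun _ : Fin n => p) (c p k n a)) b ∈
            Ideal.span (Set.range fun i : Fin n =>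
              Ideal.Quotient.mk (Ideal.span (Set.range (F (fun _ => p) (c p k n a)))) (MvPolynomial.X i)) := by
          rw [Groth.Agent.Helper17.PS.maximalIdeal_eq_span_X] at hb
          have := Ideal.mem_map_of_mem (algebraMap _ (Q (fun _ : Fin n => p) (c p k n a))) hb
          rw [Ideal.map_span] at this
          refine (Ideal.span_le.mpr ?_) this
          rintro _ ⟨_, ⟨i, rfl⟩, rfl⟩
          have h4 := algebraMap_c0_mem (fun _ : Fin n => p) hd1 (c p k n a) i
          have h5 : c p k n a i 0 = - MvPowerSeries.X i := by simp [c]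
          rw [h5, map_neg] at h4
          simpa using Ideal.neg_mem_iff _ |>.mp h4
        have : x = algebraMap _ (Q (fun _ : Fin n => p) (c p k n a)) b +
            (x - algebraMap _ (Q (fun _ : Fin n => p) (c p k n a)) b) := by ring
        rw [this]
        exact Ideal.add_mem _ h3 hxb
    rw [h2]
    exact maximalIdeal.isMaximal _
  rw [hI']
  exact key

end Groth.Agent.Helper3.WildQuot
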