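import Mathlib

/-!
# Rig-closed primes of adic Noetherian rings (helper3)
-/

set_option autoImplicit false

universe u

namespace Groth.Agent.Helper3.RigClosed

section Dim

variable {B : Type u} [CommRing B] [IsNoetherianRing B] (K : Ideal B) (q : Ideal B) [q.IsPrime]

/-- If `q` is a prime not containing `K` and maximal among such primes (in a Noetherian ring),
then every prime strictly containing `q` is maximal. -/
theorem isMaximal_of_lt (hK : ¬ K ≤ q)
    (hmax : ∀ P : Ideal B, P.IsPrime → q ≤ P → ¬ K ≤ P → P = q)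
    (P : Ideal B) [hPp : P.IsPrime] (hP : q < P) : P.IsMaximal := by
  classical
  have hKof : ∀ Q : Ideal B, Q.IsPrime → q < Q → K ≤ Q := by
    intro Q hQ hlt
    by_contra hc
    exact hlt.ne (hmax Q hQ hlt.le hc).symm
  have hKP : K ≤ P := hKof P hPp hP
  by_contra hPmax
  obtain ⟨M, hM, hPM⟩ := Ideal.exists_le_maximal P hPp.ne_top
  have hPltM : P < M := lt_of_le_of_ne hPM (fun h => hPmax (h ▸ hM))
  have hfin : (q ⊔ K).minimalPrimes.Finite := Ideal.finite_minimalPrimes_of_isNoetherianRing B _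
  have hqKP : q ⊔ K ≤ P := sup_le hP.le hKP
  -- no minimal prime over q ⊔ K contains M
  have hMS : ∀ 𝔭 ∈ (q ⊔ K).minimalPrimes, ¬ M ≤ 𝔭 := by
    intro 𝔭 h𝔭 hM𝔭
    have h𝔭prime : 𝔭.IsPrime := h𝔭.1.1
    have hM𝔭eq : M = 𝔭 := hM.eq_of_le h𝔭prime.ne_top hM𝔭
    have : 𝔭 ≤ P := h𝔭.2 ⟨hPp, hqKP⟩ (hM𝔭eq ▸ hPM)
    exact hPltM.not_ge (hM𝔭eq ▸ this)
  -- prime avoidance
  have hav : ¬ ((M : Set B) ⊆ ⋃ i ∈ (hfin.toFinset : Set (Ideal B)), (id i : Ideal B)) := by
    rw [Ideal.subset_union_prime (⊥ : Ideal B) ⊥]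
    · rintro ⟨i, hi, hMi⟩
      exact hMS i (hfin.mem_toFinset.mp hi) hMi
    · intro i hi _ _
      exact (hfin.mem_toFinset.mp hi).1.1
  rw [Set.not_subset] at hav
  obtain ⟨y, hyM, hyS⟩ := hav
  have hyS' : ∀ 𝔭 ∈ (q ⊔ K).minimalPrimes, y ∉ 𝔭 := by
    intro 𝔭 h𝔭 hy
    apply hyS
    simp only [Set.mem_iUnion, id]
    exact ⟨𝔭, by simpa using h𝔭, hy⟩
  -- a minimal prime over q ⊔ (y) inside M
  haveI : M.IsPrime := hM.isPrime
  have hle : q ⊔ Ideal.span {y} ≤ M :=
    sup_le (hP.le.trans hPM) ((Ideal.span_singleton_le_iff_mem M).mpr hyM)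
  obtain ⟨𝔮, h𝔮, h𝔮M⟩ := Ideal.exists_minimalPrimes_le hle
  have h𝔮prime : 𝔮.IsPrime := h𝔮.1.1
  have hq𝔮 : q ≤ 𝔮 := le_sup_left.trans h𝔮.1.2
  have hy𝔮 : y ∈ 𝔮 := h𝔮.1.2 (Ideal.mem_sup_right (Ideal.mem_span_singleton_self y))
  have hht := Ideal.map_height_le_one_of_mem_minimalPrimes h𝔮
  obtain ⟨𝔭0, h𝔭0, _⟩ := Ideal.exists_minimalPrimes_le hqKP
  have hq𝔮lt : q < 𝔮 := by
    refine lt_of_le_of_ne hq𝔮 ?_
    intro h
    exact hyS' 𝔭0 h𝔭0 (h𝔭0.1.2 (Ideal.mem_sup_left (h ▸ hy𝔮)))
  have hK𝔮 : K ≤ 𝔮 := hKof 𝔮 h𝔮prime hq𝔮lt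
  obtain ⟨𝔭, h𝔭, h𝔭𝔮⟩ := Ideal.exists_minimalPrimes_le (sup_le hq𝔮 hK𝔮)
  have h𝔭prime : 𝔭.IsPrime := h𝔭.1.1
  have hq𝔭 : q ≤ 𝔭 := le_sup_left.trans h𝔭.1.2
  have hK𝔭 : K ≤ 𝔭 := le_sup_right.trans h𝔭.1.2
  have heq : 𝔭 = 𝔮 := by
    by_contra hne
    have hlt : 𝔭 < 𝔮 := lt_of_le_of_ne h𝔭𝔮 hne
    have hker : RingHom.ker (Ideal.Quotient.mk q) = q := Ideal.mk_ker
    haveI : (𝔮.map (Ideal.Quotient.mk q)).IsPrime :=
      Ideal.map_isPrime_of_surjective Ideal.Quotient.mk_surjective (hker.le.trans hq𝔮)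
    haveI : (𝔭.map (Ideal.Quotient.mk q)).IsPrime :=
      Ideal.map_isPrime_of_surjective Ideal.Quotient.mk_surjective (hker.le.trans hq𝔭)
    have hcm : ∀ J : Ideal B, q ≤ J → (J.map (Ideal.Quotient.mk q)).comap (Ideal.Quotient.mk q) = J := by
      intro J hJ
      rw [Ideal.comap_map_of_surjective _ Ideal.Quotient.mk_surjective, ← RingHom.ker_eq_comap_bot,
        hker, sup_eq_left.mpr hJ]
    have hlt' : 𝔭.map (Ideal.Quotient.mk q) < 𝔮.map (Ideal.Quotient.mk q) := by
      refine lt_of_le_of_ne (Ideal.map_mono hlt.le) ?_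
      intro h
      apply hne
      rw [← hcm 𝔭 hq𝔭, ← hcm 𝔮 hq𝔮, h]
    have h1 := (Ideal.height_le_iff (n := 1)).mp (by exact_mod_cast hht) _ inferInstance hlt'
    have h0 : (𝔭.map (Ideal.Quotient.mk q)).height = 0 := by
      rw [← Order.lt_one_iff]; exact_mod_cast h1
    rw [Ideal.height_eq_zero_iff_eq_bot, Ideal.map_eq_bot_iff_le_ker, hker] at h0
    exact hK (hK𝔭.trans h0)
  exact hyS' 𝔭 h𝔭 (heq ▸ hy𝔮)

end Dim

section S8836

variable (A : Type u) [CommRing A] [IsNoetherianRing A] (I : Ideal A) [IsAdicComplete I A]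
  (B : Type u) [CommRing B] [Algebra A B] [IsNoetherianRing B]
  [IsAdicComplete (I.map (algebraMap A B)) B]

omit [IsNoetherianRing A] [IsAdicComplete I A] [IsNoetherianRing B] in
lemma map_le_of_isMaximal (M : Ideal B) (hM : M.IsMaximal) : I.map (algebraMap A B) ≤ M :=
  (IsAdicComplete.le_jacobson_bot (I.map (algebraMap A B))).trans (sInf_le ⟨bot_le, hM⟩)

omit [IsAdicComplete I A] [IsAdicComplete (I.map (algebraMap A B)) B] [IsNoetherianRing A] in
/-- every prime not containing `K` lies in a rig-closed prime -/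
lemma exists_rigClosed_ge (K : Ideal B) (q0 : Ideal B) [q0.IsPrime] (h0 : ¬ K ≤ q0) :
    ∃ q : PrimeSpectrum B, q0 ≤ q.asIdeal ∧ (¬ K ≤ q.asIdeal ∧
      ∀ y : PrimeSpectrum B, q ≤ y → ¬ K ≤ y.asIdeal → y = q) := by
  let s : Set (Ideal B) := {P | P.IsPrime ∧ q0 ≤ P ∧ ¬ K ≤ P}
  have hs : s.Nonempty := ⟨q0, inferInstance, le_rfl, h0⟩
  obtain ⟨m, hm, hmax⟩ := wellFounded_gt.has_min s hs
  refine ⟨⟨m, hm.1⟩, hm.2.1, hm.2.2, ?_⟩
  intro y hqy hy
  have hle : m ≤ y.asIdeal := hqy
  have : ¬ m < y.asIdeal := hmax y.asIdeal ⟨y.2, hm.2.1.trans hle, hy⟩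
  have heq : m = y.asIdeal := eq_of_le_of_not_lt hle this
  exact PrimeSpectrum.ext heq.symm

omit [IsAdicComplete I A] in
theorem main8836 [Module.Flat A B] (p : PrimeSpectrum A)
    (hp : (¬ I ≤ p.asIdeal ∧ ∀ y : PrimeSpectrum A, p ≤ y → ¬ I ≤ y.asIdeal → y = p)) :
    (∃ Q : PrimeSpectrum B, (I.map (algebraMap A B)) ≤ Q.asIdeal ∧
      p.asIdeal ≤ (PrimeSpectrum.comap (algebraMap A B) Q).asIdeal ∧
      (PrimeSpectrum.comap (algebraMap A B) Q).asIdeal.IsMaximal) ↔
    (∃ q : PrimeSpectrum B, (¬ (I.map (algebraMap A B)) ≤ q.asIdeal ∧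
      ∀ y : PrimeSpectrum B, q ≤ y → ¬ (I.map (algebraMap A B)) ≤ y.asIdeal → y = q) ∧
      PrimeSpectrum.comap (algebraMap A B) q = p) := by
  have hpmax : ∀ P : Ideal A, P.IsPrime → p.asIdeal ≤ P → ¬ I ≤ P → P = p.asIdeal := by
    intro P hP hle hI
    have := hp.2 ⟨P, hP⟩ hle hI
    exact congrArg PrimeSpectrum.asIdeal this
  constructor
  · rintro ⟨Q, hQI, hpQ, hQmax⟩
    -- going down
    haveI : Q.asIdeal.LiesOver ((PrimeSpectrum.comap (algebraMap A B) Q).asIdeal) := ⟨rfl⟩
    obtain ⟨q0, hq0Q, hq0prime, hq0over⟩ :=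
      Ideal.exists_ideal_le_liesOver_of_le (p := p.asIdeal)
        (q := (PrimeSpectrum.comap (algebraMap A B) Q).asIdeal) Q.asIdeal hpQ
    have hq0comap : q0.comap (algebraMap A B) = p.asIdeal := (hq0over.over).symm
    have h0 : ¬ I.map (algebraMap A B) ≤ q0 := by
      intro h
      apply hp.1
      rw [← hq0comap]
      exact Ideal.map_le_iff_le_comap.mp h
    obtain ⟨q, hq0q, hq⟩ := exists_rigClosed_ge B (I.map (algebraMap A B)) q0 h0
    refine ⟨q, hq, ?_⟩
    apply PrimeSpectrum.ext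
    change q.asIdeal.comap (algebraMap A B) = p.asIdeal
    apply hpmax _ (Ideal.comap_isPrime _ _)
    · rw [← hq0comap]
      exact Ideal.comap_mono hq0q
    · intro h
      exact hq.1 (Ideal.map_le_iff_le_comap.mpr h)
  · rintro ⟨q, hq, hqp⟩
    obtain ⟨M, hM, hqM⟩ := Ideal.exists_le_maximal q.asIdeal q.2.ne_top
    have hIM : I.map (algebraMap A B) ≤ M := map_le_of_isMaximal A I B M hM
    refine ⟨⟨M, hM.isPrime⟩, hIM, ?_, ?_⟩
    · rw [← hqp]
      exact Ideal.comap_mono hqM
    · change (M.comap (algebraMap A B)).IsMaximal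
      haveI : (M.comap (algebraMap A B)).IsPrime := Ideal.comap_isPrime _ _
      have hple : p.asIdeal ≤ M.comap (algebraMap A B) := by
        rw [← hqp]; exact Ideal.comap_mono hqM
      have hIle : I ≤ M.comap (algebraMap A B) := Ideal.map_le_iff_le_comap.mp hIM
      apply isMaximal_of_lt I p.asIdeal hp.1 hpmax
      refine lt_of_le_of_ne hple ?_
      intro h
      exact hp.1 (h ▸ hIle)

end S8836

section FL
variable {A R : Type u} [CommRing A] [CommRing R] [Algebra A R]

set_option linter.unusedVariables false in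
theorem finite_of_isFiniteLength_aux
    (h : ∀ m : Ideal R, m.IsMaximal → Module.Finite A (R ⧸ m))
    (M : Type u) [AddCommGroup M] [Module R M] (hM : IsFiniteLength R M) :
    ∀ (inst : Module A M), (∀ (a : A) (m : M), a • m = algebraMap A R a • m) →
      Module.Finite A M := by
  induction hM with
  | of_subsingleton =>
    intro inst _
    exact inferInstance
  | @of_simple_quotient M _ _ N hsimple hN ih =>
    intro inst hcompat
    haveI : IsScalarTower A R M := IsScalarTower.of_algebraMap_smul (fun a m => (hcompat a m).symm)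
    have hNfin : Module.Finite A N := ih inferInstance (fun a n => Subtype.ext (hcompat a n))
    obtain ⟨m, hm, ⟨e⟩⟩ := isSimpleModule_iff_quot_maximal.mp hsimple
    haveI := h m hm
    have hQfin : Module.Finite A (M ⧸ N) := Module.Finite.equiv (e.restrictScalars A).symm
    haveI : Module.Finite A (N.restrictScalars A) := hNfin
    haveI : Module.Finite A (M ⧸ N.restrictScalars A) :=
      Module.Finite.equiv (Submodule.Quotient.restrictScalarsEquiv A N).symm
    exact Module.Finite.of_submodule_quotient (N.restrictScalars A)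

theorem finite_of_isArtinianRing [IsArtinianRing R]
    (h : ∀ m : Ideal R, m.IsMaximal → Module.Finite A (R ⧸ m)) : Module.Finite A R := by
  have hfl : IsFiniteLength R R := isFiniteLength_iff_isNoetherian_isArtinian.mpr ⟨inferInstance, inferInstance⟩
  exact finite_of_isFiniteLength_aux h R hfl inferInstance (fun a m => Algebra.smul_def a m)
end FL

section Precomplete

variable {R : Type u} [CommRing R] (I : Ideal R) {M : Type u} [AddCommGroup M] [Module R M]

/-- (from helper17's AR10) finite products of precomplete modules are precomplete -/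
lemma isPrecomplete_pi {ι : Type} [Finite ι] [IsPrecomplete I M] : IsPrecomplete I (ι → M) := by
  classical
  have := Fintype.ofFinite ι
  have hproj : ∀ (k : ℕ) (j : ι) (x : ι → M), x ∈ (I ^ k • ⊤ : Submodule R (ι → M)) →
      x j ∈ (I ^ k • ⊤ : Submodule R M) := by
    intro k j x hx
    have h1 : (LinearMap.proj j : (ι → M) →ₗ[R] M) x ∈
        (I ^ k • ⊤ : Submodule R (ι → M)).map (LinearMap.proj j) := Submodule.mem_map_of_mem hx
    rw [Submodule.map_smul''] at h1
    exact Submodule.smul_mono le_rfl le_top h1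
  have hsingle : ∀ (k : ℕ) (x : ι → M), (∀ j, x j ∈ (I ^ k • ⊤ : Submodule R M)) →
      x ∈ (I ^ k • ⊤ : Submodule R (ι → M)) := by
    intro k x hx
    have hsum : x = ∑ j, (LinearMap.single R (fun _ : ι => M) j) (x j) := by
      funext i
      rw [Finset.sum_apply]
      simp [Pi.single_apply]
    rw [hsum]
    apply Submodule.sum_mem
    intro j _
    have h1 : (LinearMap.single R (fun _ : ι => M) j) (x j) ∈
        (I ^ k • ⊤ : Submodule R M).map (LinearMap.single R (fun _ : ι => M) j) :=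
      Submodule.mem_map_of_mem (hx j)
    rw [Submodule.map_smul''] at h1
    exact Submodule.smul_mono le_rfl le_top h1
  refine ⟨fun f hf => ?_⟩
  have hc : ∀ j, ∃ L : M, ∀ k, f k j ≡ L [SMOD (I ^ k • ⊤ : Submodule R M)] := by
    intro j
    apply IsPrecomplete.prec ‹IsPrecomplete I M› (f := fun k => f k j)
    intro a b hab
    have := hf hab
    rw [SModEq.sub_mem] at this ⊢
    exact hproj a j _ this
  choose L hL using hc
  refine ⟨L, fun k => ?_⟩
  rw [SModEq.sub_mem]
  apply hsingle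
  intro j
  have := hL j k
  rwa [SModEq.sub_mem] at this

/-- A Hausdorff module over a precomplete ring which is finite modulo `I` is finite. -/
theorem finite_of_finite_quotient [IsPrecomplete I R] (N : Type u) [AddCommGroup N] [Module R N]
    [IsHausdorff I N] (h : Module.Finite R (N ⧸ (I • ⊤ : Submodule R N))) : Module.Finite R N := by
  obtain ⟨n, s, hs⟩ := Module.Finite.exists_fin (R := R) (M := N ⧸ (I • ⊤ : Submodule R N))
  have hlift : ∀ i, ∃ t : N, Submodule.mkQ (I • ⊤ : Submodule R N) t = s i :=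
    fun i => Submodule.mkQ_surjective _ (s i)
  choose t ht using hlift
  let f : (Fin n → R) →ₗ[R] N := Fintype.linearCombination R t
  haveI : IsPrecomplete I (Fin n → R) := isPrecomplete_pi I
  have hsurj : Function.Surjective (Submodule.mkQ (I • ⊤ : Submodule R N) ∘ₗ f) := by
    rw [← LinearMap.range_eq_top, LinearMap.range_comp, Fintype.range_linearCombination,
      Submodule.map_span, ← Set.range_comp]
    have : (Submodule.mkQ (I • ⊤ : Submodule R N)) ∘ t = s := funext ht
    rw [this, hs]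
  have := surjective_of_mkQ_comp_surjective hsurj
  exact Module.Finite.of_surjective f this

end Precomplete

section TFAE

variable (A : Type u) [CommRing A] [IsNoetherianRing A] (I : Ideal A) [IsAdicComplete I A]
  (B : Type u) [CommRing B] [Algebra A B] [IsNoetherianRing B]
  [IsAdicComplete (I.map (algebraMap A B)) B]
  (q : Ideal B) [q.IsPrime] (hK : ¬ I.map (algebraMap A B) ≤ q)
  (hmax : ∀ P : Ideal B, P.IsPrime → q ≤ P → ¬ I.map (algebraMap A B) ≤ P → P = q)

include hK hmax in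
omit [IsNoetherianRing A] [IsAdicComplete I A] [IsAdicComplete (I.map (algebraMap A B)) B] in
lemma isArtinianRing_quot : IsArtinianRing (B ⧸ (q ⊔ I.map (algebraMap A B))) := by
  set J := q ⊔ I.map (algebraMap A B) with hJ
  rw [isArtinianRing_iff_isNoetherianRing_krullDimLE_zero]
  refine ⟨inferInstance, Ring.krullDimLE_zero_iff.mpr ?_⟩
  intro P' hP'
  set P := P'.comap (Ideal.Quotient.mk J) with hPdef
  haveI : P.IsPrime := Ideal.comap_isPrime _ _
  have hJP : J ≤ P := by
    intro x hx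
    rw [hPdef, Ideal.mem_comap, Ideal.Quotient.eq_zero_iff_mem.mpr hx]
    exact zero_mem _
  have hqP : q < P := by
    refine lt_of_le_of_ne (le_sup_left.trans hJP) ?_
    intro h
    exact hK (h ▸ le_sup_right.trans hJP)
  have hPmax : P.IsMaximal := isMaximal_of_lt (I.map (algebraMap A B)) q hK hmax P hqP
  have : P' = P.map (Ideal.Quotient.mk J) := by
    rw [hPdef, Ideal.map_comap_of_surjective _ Ideal.Quotient.mk_surjective]
  rw [this]
  exact (Ideal.map_eq_top_or_isMaximal_of_surjective _ Ideal.Quotient.mk_surjective hPmax).resolve_left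
    (by rw [← this]; exact hP'.ne_top)

include hK hmax in
omit [IsNoetherianRing A] in
theorem finite_quot_of_finite_residue
    (h1 : ∀ m : Ideal B, m.IsMaximal → q ≤ m → Module.Finite A (B ⧸ m)) :
    Module.Finite A (B ⧸ q) := by
  set K := I.map (algebraMap A B) with hKdef
  set J := q ⊔ K with hJ
  haveI : IsArtinianRing (B ⧸ J) := isArtinianRing_quot A I B q hK hmax
  -- residue fields of B ⧸ J are finite over A
  have hres : ∀ m' : Ideal (B ⧸ J), m'.IsMaximal → Module.Finite A ((B ⧸ J) ⧸ m') := by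
    intro m' hm'
    set m := m'.comap (Ideal.Quotient.mk J) with hmdef
    have hmmax : m.IsMaximal := Ideal.comap_isMaximal_of_surjective _ Ideal.Quotient.mk_surjective
    have hqm : q ≤ m := by
      intro x hx
      rw [hmdef, Ideal.mem_comap, Ideal.Quotient.eq_zero_iff_mem.mpr (Ideal.mem_sup_left hx)]
      exact zero_mem _
    haveI := h1 m hmmax hqm
    let φ : B ⧸ m →ₐ[A] (B ⧸ J) ⧸ m' :=
      Ideal.quotientMapₐ m' (Ideal.Quotient.mkₐ A J) le_rfl
    have hφ : Function.Surjective φ :=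
      Ideal.quotientMap_surjective (H := le_rfl) Ideal.Quotient.mk_surjective
    exact Module.Finite.of_surjective φ.toLinearMap hφ
  have hJfin : Module.Finite A (B ⧸ J) := finite_of_isArtinianRing hres
  -- Hausdorff
  have hjac : K ≤ Ideal.jacobson ⊥ := IsAdicComplete.le_jacobson_bot K
  haveI : IsHausdorff K (B ⧸ q) := IsHausdorff.of_le_jacobson K (B ⧸ q) hjac
  haveI : IsHausdorff I (B ⧸ q) := IsHausdorff.map_algebraMap_iff.mp ‹IsHausdorff K (B ⧸ q)›
  apply finite_of_finite_quotient I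
  -- the quotient (B ⧸ q) ⧸ I • ⊤ is a quotient of B ⧸ J
  let φ : B →ₗ[A] (B ⧸ q) ⧸ (I • ⊤ : Submodule A (B ⧸ q)) :=
    (Submodule.mkQ (I • ⊤ : Submodule A (B ⧸ q))) ∘ₗ (Ideal.Quotient.mkₐ A q).toLinearMap
  have hφsurj : Function.Surjective φ :=
    (Submodule.mkQ_surjective _).comp Ideal.Quotient.mk_surjective
  have hker : J.restrictScalars A ≤ LinearMap.ker φ := by
    intro x hx
    rw [Submodule.restrictScalars_mem, hJ] at hx
    obtain ⟨y, hy, z, hz, rfl⟩ := Submodule.mem_sup.mp hx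
    rw [LinearMap.mem_ker, map_add]
    have hy0 : φ y = 0 := by
      change Submodule.mkQ _ (Ideal.Quotient.mk q y) = 0
      rw [Ideal.Quotient.eq_zero_iff_mem.mpr hy, map_zero]
    have hz0 : φ z = 0 := by
      change Submodule.mkQ _ (Ideal.Quotient.mk q z) = 0
      rw [Submodule.mkQ_apply, Submodule.Quotient.mk_eq_zero]
      have h1 : (Ideal.Quotient.mk q z) ∈ (K • ⊤ : Submodule B (B ⧸ q)) := by
        have : Ideal.Quotient.mk q z = z • (1 : B ⧸ q) := by
          rw [Algebra.smul_def, mul_one]; rfl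
        rw [this]
        exact Submodule.smul_mem_smul hz Submodule.mem_top
      have h2 := Submodule.restrictScalars_map_smul_eq (S := A) (R := B) I (⊤ : Submodule B (B ⧸ q))
      have h3 : (Ideal.Quotient.mk q z) ∈ ((K • ⊤ : Submodule B (B ⧸ q))).restrictScalars A := h1
      rw [hKdef, h2] at h3
      simpa using h3
    rw [hy0, hz0, add_zero]
  let ψ : (B ⧸ J.restrictScalars A) →ₗ[A] (B ⧸ q) ⧸ (I • ⊤ : Submodule A (B ⧸ q)) :=
    Submodule.liftQ (J.restrictScalars A) φ hker
  have hψsurj : Function.Surjective ψ := by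
    intro y
    obtain ⟨x, rfl⟩ := hφsurj y
    exact ⟨Submodule.Quotient.mk x, rfl⟩
  let ψ' : (B ⧸ J) →ₗ[A] (B ⧸ q) ⧸ (I • ⊤ : Submodule A (B ⧸ q)) :=
    ψ ∘ₗ (Submodule.Quotient.restrictScalarsEquiv A J).symm.toLinearMap
  have hψ'surj : Function.Surjective ψ' :=
    hψsurj.comp (Submodule.Quotient.restrictScalarsEquiv A J).symm.surjective
  exact Module.Finite.of_surjective ψ' hψ'surj

include hK hmax in
omit [IsNoetherianRing A] [IsAdicComplete I A] [IsNoetherianRing B]
  [IsAdicComplete (I.map (algebraMap A B)) B] in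
theorem rigClosed_comap_of_finite (h3 : Module.Finite A (B ⧸ q)) :
    ¬ I ≤ q.comap (algebraMap A B) ∧
      ∀ P : Ideal A, P.IsPrime → q.comap (algebraMap A B) ≤ P → ¬ I ≤ P →
        P = q.comap (algebraMap A B) := by
  refine ⟨fun h => hK (Ideal.map_le_iff_le_comap.mpr h), ?_⟩
  intro P hP hle hIP
  haveI : Algebra.IsIntegral A (B ⧸ q) := Algebra.IsIntegral.of_finite A (B ⧸ q)
  have hker : RingHom.ker (algebraMap A (B ⧸ q)) = q.comap (algebraMap A B) := by
    ext x
    rw [RingHom.mem_ker, Ideal.mem_comap]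
    exact Ideal.Quotient.eq_zero_iff_mem
  obtain ⟨Q', hQ'prime, hQ'⟩ := Ideal.exists_ideal_over_prime_of_isIntegral_of_isDomain
    (S := B ⧸ q) P (hker.le.trans hle)
  set q' := Q'.comap (Ideal.Quotient.mk q) with hq'
  haveI : q'.IsPrime := Ideal.comap_isPrime _ _
  have hqq' : q ≤ q' := by
    intro x hx
    rw [hq', Ideal.mem_comap, Ideal.Quotient.eq_zero_iff_mem.mpr hx]
    exact zero_mem _
  have hq'P : q'.comap (algebraMap A B) = P := by
    rw [← hQ', hq', Ideal.comap_comap]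
    rfl
  by_cases hK' : I.map (algebraMap A B) ≤ q'
  · exfalso
    apply hIP
    rw [← hq'P]
    exact Ideal.map_le_iff_le_comap.mp hK'
  · have := hmax q' inferInstance hqq' hK'
    rw [← hq'P, this]

omit [IsAdicComplete I A] [IsNoetherianRing B] in
theorem finite_residue_of_rigClosed_comap
    (hft : Algebra.FiniteType A (B ⧸ (I.map (algebraMap A B))))
    (h2 : ¬ I ≤ q.comap (algebraMap A B) ∧
      ∀ P : Ideal A, P.IsPrime → q.comap (algebraMap A B) ≤ P → ¬ I ≤ P →
        P = q.comap (algebraMap A B))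
    (m : Ideal B) (hm : m.IsMaximal) (hqm : q ≤ m) : Module.Finite A (B ⧸ m) := by
  have hIm : I.map (algebraMap A B) ≤ m := map_le_of_isMaximal A I B m hm
  haveI : (q.comap (algebraMap A B)).IsPrime := Ideal.comap_isPrime _ _
  haveI : (m.comap (algebraMap A B)).IsPrime := Ideal.comap_isPrime _ _
  have hlt : q.comap (algebraMap A B) < m.comap (algebraMap A B) := by
    refine lt_of_le_of_ne (Ideal.comap_mono hqm) ?_
    intro h
    apply h2.1
    rw [h]
    exact Ideal.map_le_iff_le_comap.mp hIm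
  haveI hnmax : (m.comap (algebraMap A B)).IsMaximal :=
    isMaximal_of_lt I (q.comap (algebraMap A B)) h2.1 h2.2 _ hlt
  letI : Field (A ⧸ m.comap (algebraMap A B)) := Ideal.Quotient.field _
  letI : Field (B ⧸ m) := Ideal.Quotient.field _
  haveI : Algebra.FiniteType A (B ⧸ m) :=
    Algebra.FiniteType.of_surjective (Ideal.Quotient.factorₐ A hIm) (Ideal.Quotient.factor_surjective hIm)
  haveI : Algebra.FiniteType (A ⧸ m.comap (algebraMap A B)) (B ⧸ m) :=
    Algebra.FiniteType.of_restrictScalars_finiteType A _ _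
  haveI : Module.Finite (A ⧸ m.comap (algebraMap A B)) (B ⧸ m) :=
    finite_of_finite_type_of_isJacobsonRing _ _
  exact Module.Finite.trans (A ⧸ m.comap (algebraMap A B)) (B ⧸ m)

omit [IsNoetherianRing A] [IsAdicComplete I A] [IsNoetherianRing B] in
theorem finite_residue_of_isJacobsonRing
    (hft : Algebra.FiniteType A (B ⧸ (I.map (algebraMap A B))))
    (hJ : IsJacobsonRing (A ⧸ I))
    (m : Ideal B) (hm : m.IsMaximal) : Module.Finite A (B ⧸ m) := by
  have hIm : I.map (algebraMap A B) ≤ m := map_le_of_isMaximal A I B m hm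
  have hIn : I ≤ m.comap (algebraMap A B) := Ideal.map_le_iff_le_comap.mp hIm
  haveI : IsJacobsonRing (A ⧸ m.comap (algebraMap A B)) :=
    isJacobsonRing_of_surjective ⟨Ideal.Quotient.factor hIn, Ideal.Quotient.factor_surjective hIn⟩
  letI : Field (B ⧸ m) := Ideal.Quotient.field _
  haveI : Algebra.FiniteType A (B ⧸ m) :=
    Algebra.FiniteType.of_surjective (Ideal.Quotient.factorₐ A hIm) (Ideal.Quotient.factor_surjective hIm)
  haveI : Algebra.FiniteType (A ⧸ m.comap (algebraMap A B)) (B ⧸ m) :=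
    Algebra.FiniteType.of_restrictScalars_finiteType A _ _
  haveI : Module.Finite (A ⧸ m.comap (algebraMap A B)) (B ⧸ m) :=
    finite_of_finite_type_of_isJacobsonRing _ _
  exact Module.Finite.trans (A ⧸ m.comap (algebraMap A B)) (B ⧸ m)

theorem main8829 (hft : Algebra.FiniteType A (B ⧸ (I.map (algebraMap A B))))
    (q : PrimeSpectrum B)
    (hq : (¬ (I.map (algebraMap A B)) ≤ q.asIdeal ∧ ∀ y : PrimeSpectrum B, q ≤ y →
      ¬ (I.map (algebraMap A B)) ≤ y.asIdeal → y = q)) :
    List.TFAE [∀ m : Ideal B, m.IsMaximal → q.asIdeal ≤ m → Module.Finite A (B ⧸ m),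
      (¬ I ≤ (PrimeSpectrum.comap (algebraMap A B) q).asIdeal ∧
        ∀ y : PrimeSpectrum A, (PrimeSpectrum.comap (algebraMap A B) q) ≤ y →
          ¬ I ≤ y.asIdeal → y = (PrimeSpectrum.comap (algebraMap A B) q)),
      Module.Finite A (B ⧸ q.asIdeal)] := by
  have hmax : ∀ P : Ideal B, P.IsPrime → q.asIdeal ≤ P → ¬ I.map (algebraMap A B) ≤ P →
      P = q.asIdeal := by
    intro P hP hle hKP
    exact congrArg PrimeSpectrum.asIdeal (hq.2 ⟨P, hP⟩ hle hKP)
  tfae_have 1 → 3 := fun h1 => finite_quot_of_finite_residue A I B q.asIdeal hq.1 hmax h1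
  tfae_have 3 → 2 := by
    intro h3
    obtain ⟨h, h'⟩ := rigClosed_comap_of_finite A I B q.asIdeal hq.1 hmax h3
    refine ⟨h, ?_⟩
    intro y hle hy
    exact PrimeSpectrum.ext (h' y.asIdeal y.2 hle hy)
  tfae_have 2 → 1 := by
    intro h2 m hm hqm
    refine finite_residue_of_rigClosed_comap A I B q.asIdeal hft ⟨h2.1, ?_⟩ m hm hqm
    intro P hP hle hIP
    exact congrArg PrimeSpectrum.asIdeal (h2.2 ⟨P, hP⟩ hle hIP)
  tfae_finish

theorem main8835 (hft : Algebra.FiniteType A (B ⧸ (I.map (algebraMap A B))))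
    (q : PrimeSpectrum B)
    (hq : (¬ (I.map (algebraMap A B)) ≤ q.asIdeal ∧ ∀ y : PrimeSpectrum B, q ≤ y →
      ¬ (I.map (algebraMap A B)) ≤ y.asIdeal → y = q))
    (hJ : IsJacobsonRing (A ⧸ I)) :
    (¬ I ≤ (PrimeSpectrum.comap (algebraMap A B) q).asIdeal ∧
      ∀ y : PrimeSpectrum A, (PrimeSpectrum.comap (algebraMap A B) q) ≤ y →
        ¬ I ≤ y.asIdeal → y = (PrimeSpectrum.comap (algebraMap A B) q)) := by
  have h := main8829 A I B hft q hq
  refine (h.out 0 1).mp ?_
  intro m hm _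
  exact finite_residue_of_isJacobsonRing A I B hft hJ m hm

end TFAE

end Groth.Agent.Helper3.RigClosed
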