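import Mathlib
import Groth.Agent.Lib.Helper1.KA3

set_option autoImplicit false

namespace Groth.Agent.Helper3.OneDimNorm

universe u

variable (B : Type u) [CommRing B] [IsDomain B] [IsNoetherianRing B]

local notation "K" => FractionRing B
local notation "B'" => integralClosure B (FractionRing B)

theorem dimLE (hdim : ringKrullDim B = 1) : Ring.DimensionLEOne B := by
  have hKA : Ring.KrullDimLE 1 B := Ring.krullDimLE_iff.mpr hdim.le
  exact ⟨fun {p} hp hpp => Ring.krullDimLE_one_iff_of_noZeroDivisors.mp hKA p hp hpp⟩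

theorem finite_maxSpec (hdim : ringKrullDim B = 1) (hsl : Finite (MaximalSpectrum B)) :
    IsDedekindDomain B' ∧ Finite (MaximalSpectrum B') := by
  obtain ⟨hded, _, hfib, _⟩ := Groth.Agent.Helper1.KA.integralClosure_dedekind B K K B' hdim
  refine ⟨hded, ?_⟩
  have hfin : {Q : PrimeSpectrum B' | Q.asIdeal.IsMaximal}.Finite := by
    refine Set.Finite.subset (Set.Finite.biUnion
      (s := Set.range (MaximalSpectrum.toPrimeSpectrum : MaximalSpectrum B → PrimeSpectrum B))
      (t := fun p => PrimeSpectrum.comap (algebraMap B B') ⁻¹' {p})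
      (Set.finite_range _) (fun p _ => hfib p)) ?_
    intro Q hQ
    simp only [Set.mem_iUnion, Set.mem_preimage, Set.mem_singleton_iff, exists_prop]
    haveI : Q.asIdeal.IsMaximal := hQ
    have hmax : (Q.asIdeal.comap (algebraMap B B')).IsMaximal :=
      Ideal.isMaximal_comap_of_isIntegral_of_isMaximal Q.asIdeal
    exact ⟨_, ⟨⟨_, hmax⟩, rfl⟩, rfl⟩
  haveI := hfin.to_subtype
  exact Finite.of_injective
    (fun m : MaximalSpectrum B' =>
      (⟨m.toPrimeSpectrum, m.isMaximal⟩ : {Q : PrimeSpectrum B' | Q.asIdeal.IsMaximal}))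
    (fun m₁ m₂ h => by
      have := congrArg (fun z => z.1.asIdeal) h
      exact MaximalSpectrum.ext this)

theorem pow_mul_mem (hdim : ringKrullDim B = 1) (x y : B') (hx : x ∈ (⊥ : Ideal B').jacobson) :
    ∃ n : ℕ, (x ^ n * y).1 ∈ (algebraMap B K).range := by
  classical
  haveI := dimLE B hdim
  let C : Subalgebra B K := Algebra.adjoin B {(x : K), (y : K)}
  have hCB' : C ≤ B' := by
    apply Algebra.adjoin_le
    rintro z (rfl | rfl)
    · exact x.2
    · exact y.2
  have hfg : C.toSubmodule.FG := by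
    apply fg_adjoin_of_finite (Set.toFinite _)
    rintro z (rfl | rfl)
    · exact x.2
    · exact y.2
  obtain ⟨s, hs⟩ := hfg
  obtain ⟨d, hd⟩ := IsLocalization.exist_integer_multiples_of_finset (nonZeroDivisors B) s
  have hd0 : (d : B) ≠ 0 := nonZeroDivisors.coe_ne_zero d
  have hdC : ∀ z ∈ C, ∃ b : B, algebraMap B K b = algebraMap B K d * z := by
    intro z hz
    have hz' : z ∈ C.toSubmodule := hz
    rw [← hs] at hz'
    clear hz
    induction hz' using Submodule.span_induction with
    | mem z hzs =>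
      obtain ⟨b, hb⟩ := hd z hzs
      exact ⟨b, by rw [hb, Algebra.smul_def]⟩
    | zero => exact ⟨0, by simp⟩
    | add z w _ _ ihz ihw =>
      obtain ⟨b, hb⟩ := ihz
      obtain ⟨c, hc⟩ := ihw
      exact ⟨b + c, by rw [map_add, hb, hc, mul_add]⟩
    | smul r z _ ihz =>
      obtain ⟨b, hb⟩ := ihz
      exact ⟨r * b, by rw [map_mul, hb, Algebra.smul_def]; ring⟩
  -- algebra structure C → B'
  letI : Algebra C B' := (Subalgebra.inclusion hCB').toRingHom.toAlgebra
  haveI : IsScalarTower B C B' := IsScalarTower.of_algebraMap_eq (fun b => rfl)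
  haveI : Algebra.IsIntegral B B' := inferInstance
  haveI : Algebra.IsIntegral C B' := Algebra.IsIntegral.tower_top B
  haveI : Algebra.IsIntegral B C :=
    ⟨fun z => by
      have := (B').2
      have hz : IsIntegral B (z : K) := hCB' z.2
      exact (isIntegral_algebraMap_iff (A := C) (B := K) Subtype.val_injective).mp hz⟩
  haveI : Ring.DimensionLEOne C := Ring.DimensionLEOne.of_isIntegral B C
  have hinj : Function.Injective (algebraMap C B') := Subalgebra.inclusion_injective hCB'
  let x' : C := ⟨(x : K), Algebra.subset_adjoin (by simp)⟩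
  let y' : C := ⟨(y : K), Algebra.subset_adjoin (by simp)⟩
  let d' : C := algebraMap B C d
  have hd'0 : d' ≠ 0 := by
    intro h
    have : algebraMap B K d = 0 := congrArg Subtype.val h
    exact hd0 ((IsFractionRing.injective B K) (by rw [this, map_zero]))
  have hrad : x' ∈ (Ideal.span {d'}).radical := by
    rw [Ideal.radical_eq_sInf, Ideal.mem_sInf]
    rintro J ⟨hJ, hJp⟩
    have hJ0 : J ≠ ⊥ := by
      intro h
      apply hd'0
      have : d' ∈ J := hJ (Ideal.mem_span_singleton_self d')
      rwa [h, Ideal.mem_bot] at this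
    haveI hJm : J.IsMaximal := hJp.isMaximal hJ0
    have hker : RingHom.ker (algebraMap C B') ≤ J := by
      rw [(RingHom.injective_iff_ker_eq_bot _).mp hinj]; exact bot_le
    obtain ⟨m', hm', hm'J⟩ := Ideal.exists_ideal_over_maximal_of_isIntegral J hker
    have hxm : x ∈ m' := by
      rw [Ideal.jacobson, Ideal.mem_sInf] at hx
      exact hx ⟨bot_le, hm'⟩
    rw [← hm'J, Ideal.mem_comap]
    have : algebraMap C B' x' = x := Subtype.ext rfl
    rw [this]; exact hxm
  obtain ⟨n, hn⟩ := hrad
  obtain ⟨c, hc⟩ := Ideal.mem_span_singleton'.mp hn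
  refine ⟨n, ?_⟩
  obtain ⟨b, hb⟩ := hdC ((c * y' : C) : K) (c * y').2
  refine ⟨b, ?_⟩
  rw [hb]
  have h1 : ((x ^ n * y : B') : K) = (x : K) ^ n * (y : K) := by
    simp
  have h2 : (x : K) ^ n = (c : K) * algebraMap B K d := by
    have := congrArg (Subtype.val : C → K) hc
    simpa [x', d'] using this.symm
  rw [h1, h2]
  simp [y']
  ring

end Groth.Agent.Helper3.OneDimNorm
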