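import Mathlib

set_option autoImplicit false

namespace Groth.Agent.Helper3.ValPoles

open scoped WithZero

variable {K : Type*} [Field K] {Γ₀ : Type*} [LinearOrderedCommGroupWithZero Γ₀] [MulArchimedean Γ₀]

lemma exists_forall_lt_pow {g h : Γ₀} (hg : 1 < g) : ∃ n : ℕ, ∀ m ≥ n, h < g ^ m := by
  obtain ⟨n, hn⟩ := MulArchimedean.arch h hg
  refine ⟨n + 1, fun m hm => ?_⟩
  calc h ≤ g ^ n := hn
    _ < g ^ m := pow_lt_pow_right₀ hg (by omega)

/-- simultaneous poles: if a subring has an element with a pole at each of finitely many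
valuations, it has a single element with poles at all of them. -/
theorem exists_common_pole (A : Subring K) (V : Finset (Valuation K Γ₀))
    (h : ∀ v ∈ V, ∃ a ∈ A, 1 < v a) : ∃ x ∈ A, x ≠ 0 ∧ ∀ v ∈ V, 1 < v x := by
  classical
  induction V using Finset.induction_on with
  | empty => exact ⟨1, A.one_mem, one_ne_zero, by simp⟩
  | insert v₀ V hv₀ ih =>
    obtain ⟨a, haA, -, ha⟩ := ih (fun v hv => h v (Finset.mem_insert_of_mem hv))
    have hne : ∀ x : K, 1 < v₀ x → x ≠ 0 := by
      rintro x hx rfl
      rw [map_zero] at hx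
      exact absurd hx (not_lt.mpr zero_le_one)
    obtain ⟨b, hbA, hb⟩ := h v₀ (Finset.mem_insert_self _ _)
    by_cases hv₀a : 1 < v₀ a
    · refine ⟨a, haA, hne a hv₀a, fun v hv => ?_⟩
      rcases Finset.mem_insert.mp hv with rfl | hv
      · exact hv₀a
      · exact ha v hv
    · push Not at hv₀a
      have hN : ∀ v ∈ V, ∃ n : ℕ, ∀ m ≥ n, v b < v a ^ m := fun v hv =>
        exists_forall_lt_pow (ha v hv)
      choose! N hN using hN
      let n := V.sup N + 1
      have key : ∀ v ∈ insert v₀ V, 1 < v (a ^ n + b) := ?_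
      · exact ⟨a ^ n + b, A.add_mem (A.pow_mem haA n) hbA,
          hne _ (key v₀ (Finset.mem_insert_self _ _)), key⟩
      intro v hv
      rcases Finset.mem_insert.mp hv with rfl | hv
      · have h1 : v (a ^ n) < v b := by
          rw [map_pow]
          exact lt_of_le_of_lt (pow_le_one₀ zero_le hv₀a) hb
        rw [Valuation.map_add_eq_of_lt_right _ h1]
        exact hb
      · have hle : N v ≤ n := (Finset.le_sup (f := N) hv).trans (Nat.le_succ _)
        have h1 : v b < v (a ^ n) := by
          rw [map_pow]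
          exact hN v hv n hle
        rw [Valuation.map_add_eq_of_lt_left _ h1, map_pow]
        exact one_lt_pow₀ (ha v hv) (Nat.succ_ne_zero _)

end Groth.Agent.Helper3.ValPoles
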