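import Mathlib
import Groth.Agent.Lib.Helper1.KA3
import Groth.Agent.Lib.Helper3.OneDimNorm
import Groth.Agent.Lib.Helper3.ValPoles

set_option autoImplicit false

namespace Groth.Agent.Helper3.OneDimNorm2

open IsDedekindDomain

universe u

variable (B : Type u) [CommRing B] [IsDomain B] [IsNoetherianRing B]
  (K : Type u) [Field K] [Algebra B K] [IsFractionRing B K]

local notation "C" => integralClosure B K

theorem pow_mul_mem (hdim : ringKrullDim B = 1) (x y : C) (hx : x ∈ (⊥ : Ideal C).jacobson) :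
    ∃ n : ℕ, ((x ^ n * y : C) : K) ∈ (algebraMap B K).range := by
  classical
  haveI := Groth.Agent.Helper3.OneDimNorm.dimLE B hdim
  let D : Subalgebra B K := Algebra.adjoin B {(x : K), (y : K)}
  have hDC : D ≤ C := by
    apply Algebra.adjoin_le
    rintro z (rfl | rfl)
    · exact x.2
    · exact y.2
  have hfg : D.toSubmodule.FG := by
    apply fg_adjoin_of_finite (Set.toFinite _)
    rintro z (rfl | rfl)
    · exact x.2
    · exact y.2
  obtain ⟨s, hs⟩ := hfg
  obtain ⟨d, hd⟩ := IsLocalization.exist_integer_multiples_of_finset (nonZeroDivisors B) s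
  have hd0 : (d : B) ≠ 0 := nonZeroDivisors.coe_ne_zero d
  have hdD : ∀ z ∈ D, ∃ b : B, algebraMap B K b = algebraMap B K d * z := by
    intro z hz
    have hz' : z ∈ D.toSubmodule := hz
    rw [← hs] at hz'
    clear hz
    induction hz' using Submodule.span_induction with
    | mem z hzs =>
      obtain ⟨b, hb⟩ := hd z hzs
      exact ⟨b, by rw [hb, Algebra.smul_def]⟩
    | zero => exact ⟨0, by simp⟩
    | add z w _ _ ihz ihw =>
      obtain ⟨b, hb⟩ := ihz
      obtain ⟨c, hc⟩ := ihw
      exact ⟨b + c, by rw [map_add, hb, hc, mul_add]⟩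
    | smul r z _ ihz =>
      obtain ⟨b, hb⟩ := ihz
      exact ⟨r * b, by rw [map_mul, hb, Algebra.smul_def]; ring⟩
  letI : Algebra D C := (Subalgebra.inclusion hDC).toRingHom.toAlgebra
  haveI : IsScalarTower B D C := IsScalarTower.of_algebraMap_eq (fun b => rfl)
  haveI : Algebra.IsIntegral B C := inferInstance
  haveI : Algebra.IsIntegral D C := Algebra.IsIntegral.tower_top B
  haveI : Algebra.IsIntegral B D :=
    ⟨fun z => by
      have hz : IsIntegral B (z : K) := hDC z.2
      exact (isIntegral_algebraMap_iff (A := D) (B := K) Subtype.val_injective).mp hz⟩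
  haveI : Ring.DimensionLEOne D := Ring.DimensionLEOne.of_isIntegral B D
  have hinj : Function.Injective (algebraMap D C) := Subalgebra.inclusion_injective hDC
  let x' : D := ⟨(x : K), Algebra.subset_adjoin (by simp)⟩
  let y' : D := ⟨(y : K), Algebra.subset_adjoin (by simp)⟩
  let d' : D := algebraMap B D d
  have hd'0 : d' ≠ 0 := by
    intro h
    have : algebraMap B K d = 0 := congrArg Subtype.val h
    exact hd0 ((IsFractionRing.injective B K) (by rw [this, map_zero]))
  have hrad : x' ∈ (Ideal.span {d'}).radical := by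
    rw [Ideal.radical_eq_sInf, Ideal.mem_sInf]
    rintro J ⟨hJ, hJp⟩
    have hJ0 : J ≠ ⊥ := by
      intro h
      apply hd'0
      have : d' ∈ J := hJ (Ideal.mem_span_singleton_self d')
      rwa [h, Ideal.mem_bot] at this
    haveI hJm : J.IsMaximal := hJp.isMaximal hJ0
    have hker : RingHom.ker (algebraMap D C) ≤ J := by
      rw [(RingHom.injective_iff_ker_eq_bot _).mp hinj]; exact bot_le
    obtain ⟨m', hm', hm'J⟩ := Ideal.exists_ideal_over_maximal_of_isIntegral J hker
    have hxm : x ∈ m' := by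
      rw [Ideal.jacobson, Ideal.mem_sInf] at hx
      exact hx ⟨bot_le, hm'⟩
    rw [← hm'J, Ideal.mem_comap]
    have : algebraMap D C x' = x := Subtype.ext rfl
    rw [this]; exact hxm
  obtain ⟨n, hn⟩ := hrad
  obtain ⟨c, hc⟩ := Ideal.mem_span_singleton'.mp hn
  refine ⟨n, ?_⟩
  obtain ⟨b, hb⟩ := hdD ((c * y' : D) : K) (c * y').2
  refine ⟨b, ?_⟩
  rw [hb]
  have h1 : ((x ^ n * y : C) : K) = (x : K) ^ n * (y : K) := by
    simp
  have h2 : (x : K) ^ n = (c : K) * algebraMap B K d := by
    have := congrArg (Subtype.val : D → K) hc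
    simpa [x', d'] using this.symm
  rw [h1, h2]
  simp [y']
  ring

section Second

theorem dedekind (hdim : ringKrullDim B = 1) : IsDedekindDomain C :=
  (Groth.Agent.Helper1.KA.integralClosure_dedekind B K K C hdim).1

theorem not_isField (hdim : ringKrullDim B = 1) : ¬ IsField C := by
  intro hF
  have hB : IsField B := isField_of_isIntegral_of_isField
    (R := B) (S := C) (FaithfulSMul.algebraMap_injective B C) hF
  have h0 := ringKrullDim_eq_zero_of_isField hB
  rw [hdim] at h0
  exact one_ne_zero h0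

theorem finite_heightOne (hdim : ringKrullDim B = 1) (hsl : Finite (MaximalSpectrum B)) :
    Finite (@HeightOneSpectrum C _) := by
  obtain ⟨hded, _, hfib, _⟩ := Groth.Agent.Helper1.KA.integralClosure_dedekind B K K C hdim
  have hfin : {Q : PrimeSpectrum C | Q.asIdeal.IsMaximal}.Finite := by
    refine Set.Finite.subset (Set.Finite.biUnion
      (s := Set.range (MaximalSpectrum.toPrimeSpectrum : MaximalSpectrum B → PrimeSpectrum B))
      (t := fun p => PrimeSpectrum.comap (algebraMap B C) ⁻¹' {p})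
      (Set.finite_range _) (fun p _ => hfib p)) ?_
    intro Q hQ
    simp only [Set.mem_iUnion, Set.mem_preimage, Set.mem_singleton_iff, exists_prop]
    haveI : Q.asIdeal.IsMaximal := hQ
    have hmax : (Q.asIdeal.comap (algebraMap B C)).IsMaximal :=
      Ideal.isMaximal_comap_of_isIntegral_of_isMaximal Q.asIdeal
    exact ⟨_, ⟨⟨_, hmax⟩, rfl⟩, rfl⟩
  haveI := hfin.to_subtype
  haveI := hded
  exact Finite.of_injective
    (fun v : HeightOneSpectrum C =>
      (⟨⟨v.asIdeal, v.isPrime⟩, v.isMaximal⟩ : {Q : PrimeSpectrum C | Q.asIdeal.IsMaximal}))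
    (fun v w h => by
      have := congrArg (fun z => z.1.asIdeal) h
      exact HeightOneSpectrum.ext this)

theorem fracC : IsFractionRing C K := IsIntegralClosure.isFractionRing_of_finite_extension B K K C

theorem exists_pole [IsDedekindDomain C] (A : Subring K)
    (hgen : A ⊔ (algebraMap B K).range = ⊤) (v : HeightOneSpectrum C) :
    ∃ a ∈ A, 1 < v.valuation K a := by
  haveI := fracC B K
  by_contra hcon
  push Not at hcon
  have hA : A ≤ (v.valuation K).integer := fun a ha => hcon a ha
  have hB : (algebraMap B K).range ≤ (v.valuation K).integer := by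
    rintro _ ⟨b, rfl⟩
    have : algebraMap B K b = algebraMap C K (algebraMap B C b) := rfl
    rw [this]
    exact v.valuation_le_one _
  have htop : (⊤ : Subring K) ≤ (v.valuation K).integer := by
    rw [← hgen]; exact sup_le hA hB
  obtain ⟨π, hπ, hπ0⟩ := Submodule.exists_mem_ne_zero_of_ne_bot v.ne_bot
  have h1 : v.valuation K (algebraMap C K π) < 1 := (v.valuation_lt_one_iff_mem π).mpr hπ
  have h2 : v.valuation K (algebraMap C K π)⁻¹ ≤ 1 := htop (Subring.mem_top _)
  have h0 : v.valuation K (algebraMap C K π) ≠ 0 := by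
    rw [Valuation.ne_zero_iff]
    exact fun h => hπ0 ((IsFractionRing.injective C K) (by rw [h, map_zero]))
  rw [map_inv₀] at h2
  have h3 : 1 < (v.valuation K (algebraMap C K π))⁻¹ := (one_lt_inv₀ (zero_lt_iff.mpr h0)).mpr h1
  exact absurd h2 (not_le.mpr h3)

theorem inv_pow_mem_jacobson [IsDedekindDomain C] (hdim : ringKrullDim B = 1) (x : K)
    (hx : ∀ v : HeightOneSpectrum C, 1 < v.valuation K x) :
    ∃ (n : ℕ) (b : B), 0 < n ∧ algebraMap B K b = (x⁻¹) ^ n ∧ b ∈ (⊥ : Ideal B).jacobson := by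
  haveI := fracC B K
  have hu : ∀ v : HeightOneSpectrum C, v.valuation K x⁻¹ < 1 := by
    intro v
    rw [map_inv₀]
    exact inv_lt_one_of_one_lt₀ (hx v)
  obtain ⟨u, hu'⟩ := HeightOneSpectrum.mem_integers_of_valuation_le_one K x⁻¹ (fun v => (hu v).le)
  have hujac : u ∈ (⊥ : Ideal C).jacobson := by
    rw [Ideal.jacobson, Ideal.mem_sInf]
    rintro 𝔮 ⟨_, h𝔮⟩
    have hne : 𝔮 ≠ ⊥ := by
      rintro rfl
      exact not_isField B K hdim (Ring.isField_iff_isSimpleOrder_ideal.mpr
        ⟨fun I => by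
          by_cases hI : I = ⊤
          · exact Or.inr hI
          · left
            exact (h𝔮.eq_of_le hI bot_le).symm⟩)
    let v : HeightOneSpectrum C := ⟨𝔮, h𝔮.isPrime, hne⟩
    have hlt : v.valuation K (algebraMap C K u) < 1 := by rw [hu']; exact hu v
    exact (v.valuation_lt_one_iff_mem u).mp hlt
  obtain ⟨n, b, hb⟩ := pow_mul_mem B K hdim u u hujac
  refine ⟨n + 1, b, Nat.succ_pos _, ?_, ?_⟩
  · rw [hb, ← hu']; simp [pow_succ]
  · rw [Ideal.jacobson, Ideal.mem_sInf]
    rintro 𝔪 ⟨_, h𝔪⟩
    haveI := h𝔪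
    have hker : RingHom.ker (algebraMap B C) ≤ 𝔪 := by
      rw [(RingHom.injective_iff_ker_eq_bot _).mp (FaithfulSMul.algebraMap_injective B C)]
      exact bot_le
    obtain ⟨𝔮, h𝔮, h𝔮𝔪⟩ := Ideal.exists_ideal_over_maximal_of_isIntegral 𝔪 hker
    have hu𝔮 : u ∈ 𝔮 := by
      rw [Ideal.jacobson, Ideal.mem_sInf] at hujac
      exact hujac ⟨bot_le, h𝔮⟩
    change b ∈ 𝔪
    rw [← h𝔮𝔪, Ideal.mem_comap]
    have : algebraMap B C b = u ^ n * u := by
      apply Subtype.ext
      exact hb
    rw [this]
    exact Ideal.mul_mem_left _ _ hu𝔮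

end Second

end Groth.Agent.Helper3.OneDimNorm2
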