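import Groth.Prelude.Def_Cyc
import Mathlib.AlgebraicGeometry.Morphisms.Proper
import Mathlib.AlgebraicGeometry.Morphisms.Flat
import Mathlib.AlgebraicGeometry.Morphisms.FiniteType
import Mathlib.AlgebraicGeometry.Fiber

/-! Functoriality of proper pushforward of cycles. -/

universe u

open CategoryTheory AlgebraicGeometry

namespace Groth.Agent.Helper3.CycPush

section Finsum

variable {α β : Type*}

/-- Summing over the fibres and then over the base is summing over the total space. -/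
theorem finsum_mem_fiberwise (φ : α → β) (T : Set β) (F : α → ℤ)
    (hfin : (φ ⁻¹' T ∩ Function.support F).Finite) :
    ∑ᶠ y ∈ T, ∑ᶠ x ∈ φ ⁻¹' {y}, F x = ∑ᶠ x ∈ φ ⁻¹' T, F x := by
  classical
  set S : Finset α := hfin.toFinset with hS
  have hSmem : ∀ x, x ∈ S ↔ φ x ∈ T ∧ F x ≠ 0 := by
    intro x; simp [hS]
  have hR : ∑ᶠ x ∈ φ ⁻¹' T, F x = ∑ x ∈ S, F x := by
    apply finsum_mem_eq_sum_of_inter_support_eq
    ext x
    simp [hS]
  have hinner : ∀ y ∈ T, ∑ᶠ x ∈ φ ⁻¹' {y}, F x = ∑ x ∈ S.filter (fun x => φ x = y), F x := by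
    intro y hy
    apply finsum_mem_eq_sum_of_inter_support_eq
    ext x
    simp only [Set.mem_inter_iff, Set.mem_preimage, Set.mem_singleton_iff, Function.mem_support,
      Finset.coe_filter, Set.mem_setOf_eq, hSmem]
    constructor
    · rintro ⟨rfl, h⟩; exact ⟨⟨⟨hy, h⟩, rfl⟩, h⟩
    · rintro ⟨⟨_, rfl⟩, h⟩; exact ⟨rfl, h⟩
  have hL : ∑ᶠ y ∈ T, ∑ᶠ x ∈ φ ⁻¹' {y}, F x =
      ∑ᶠ y ∈ T, ∑ x ∈ S.filter (fun x => φ x = y), F x :=
    finsum_mem_congr rfl hinner
  rw [hL, hR]
  have hsub : T ∩ Function.support (fun y => ∑ x ∈ S.filter (fun x => φ x = y), F x) ⊆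
      ((S.image φ : Finset β) : Set β) := by
    intro y hy
    obtain ⟨_, hy2⟩ := hy
    rw [Function.mem_support] at hy2
    obtain ⟨x, hx, _⟩ := Finset.exists_ne_zero_of_sum_ne_zero hy2
    rw [Finset.mem_filter] at hx
    simp only [Finset.coe_image, Set.mem_image, Finset.mem_coe]
    exact ⟨x, hx.1, hx.2⟩
  have hsub2 : ((S.image φ : Finset β) : Set β) ⊆ T := by
    intro y hy
    simp only [Finset.coe_image, Set.mem_image, Finset.mem_coe] at hy
    obtain ⟨x, hx, rfl⟩ := hy
    exact ((hSmem x).mp hx).1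
  rw [finsum_mem_eq_sum_of_inter_support_eq (s := T) (t := S.image φ)]
  · exact Finset.sum_fiberwise_of_maps_to (fun x hx => Finset.mem_image_of_mem φ hx) _
  · ext y
    constructor
    · intro hy
      exact ⟨hsub hy, hy.2⟩
    · intro hy
      exact ⟨hsub2 hy.1, hy.2⟩

end Finsum

section Coeff

variable {X Y Z : Scheme.{u}} (f : X ⟶ Y) (g : Y ⟶ Z)

theorem residueDegree_comp (x : X) :
    (f ≫ g).residueDegree x = g.residueDegree (f x) * f.residueDegree x := by
  letI a1 : Algebra (Z.residueField (g (f x))) (Y.residueField (f x)) :=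
    (g.residueFieldMap (f x)).hom.toAlgebra
  letI a2 : Algebra (Y.residueField (f x)) (X.residueField x) := (f.residueFieldMap x).hom.toAlgebra
  letI a3 : Algebra (Z.residueField (g (f x))) (X.residueField x) :=
    ((f ≫ g).residueFieldMap x).hom.toAlgebra
  haveI : IsScalarTower (Z.residueField (g (f x))) (Y.residueField (f x)) (X.residueField x) := by
    apply IsScalarTower.of_algebraMap_eq
    intro c
    have h := Scheme.residueFieldMap_comp f g x
    exact congrArg (fun (φ : Z.residueField (g (f x)) ⟶ X.residueField x) => φ.hom c) h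
  exact (Module.finrank_mul_finrank (Z.residueField (g (f x))) (Y.residueField (f x))
    (X.residueField x)).symm

theorem mapCoeff_comp (δX : X → ℤ) (δY : Y → ℤ) (δZ : Z → ℤ)
    (hf : Cyc.DeltaCompat f δX δY) (hg : Cyc.DeltaCompat g δY δZ) (x : X) :
    AlgebraicCycle.mapCoeff (f ≫ g) δX δZ x =
      AlgebraicCycle.mapCoeff f δX δY x * AlgebraicCycle.mapCoeff g δY δZ (f x) := by
  obtain ⟨n, -, hn⟩ := hf x
  obtain ⟨n', -, hn'⟩ := hg (f x)
  unfold AlgebraicCycle.mapCoeff
  have hbase : (f ≫ g).base x = g.base (f.base x) := rfl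
  by_cases h1 : δX x = δY (f.base x)
  · by_cases h2 : δY (f.base x) = δZ (g.base (f.base x))
    · rw [if_pos h1, if_pos h2, if_pos (by rw [hbase, h1, h2]), residueDegree_comp, mul_comm]
    · rw [if_pos h1, if_neg h2, mul_zero, if_neg]
      rw [hbase, h1]; exact h2
  · rw [if_neg h1, zero_mul, if_neg]
    rw [hbase]
    intro h
    apply h1
    have e1 : δX x = δY (f.base x) + n := hn
    have e2 : δY (f.base x) = δZ (g.base (f.base x)) + n' := hn'
    omega

end Coeff

section Main

theorem main (X Y Z : Scheme.{u}) (δX : X → ℤ) (δY : Y → ℤ) (δZ : Z → ℤ)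
    (f : X ⟶ Y) (g : Y ⟶ Z) [IsProper f] [IsProper g] (hf : Cyc.DeltaCompat f δX δY)
    (hg : Cyc.DeltaCompat g δY δZ) (α : AlgebraicCycle X ℤ) :
    AlgebraicCycle.map g δY δZ (AlgebraicCycle.map f δX δY α) =
      AlgebraicCycle.map (f ≫ g) δX δZ α := by
  ext z
  unfold AlgebraicCycle.map
  rw [Function.locallyFinsupp.map_apply, Function.locallyFinsupp.map_apply]
  simp only [Function.locallyFinsupp.map_apply]
  have hfin : ((f ≫ g).base ⁻¹' {z} ∩ Function.support α).Finite :=
    α.locallyFiniteSupport.finite_inter_support_of_isCompact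
      ((f ≫ g).isCompact_preimage_singleton z)
  set F : X → ℤ := fun x => α x * (AlgebraicCycle.mapCoeff f δX δY x : ℤ) *
    (AlgebraicCycle.mapCoeff g δY δZ (f.base x) : ℤ) with hF
  have h1 : ∀ y ∈ g.base ⁻¹' {z},
      (∑ᶠ x ∈ f.base ⁻¹' {y}, α x * (AlgebraicCycle.mapCoeff f δX δY x : ℤ)) *
        (AlgebraicCycle.mapCoeff g δY δZ y : ℤ) = ∑ᶠ x ∈ f.base ⁻¹' {y}, F x := by
    intro y _
    rw [finsum_mem_mul]
    apply finsum_mem_congr rfl
    intro x hx
    have : f.base x = y := hx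
    rw [hF]; simp only; rw [this]
  rw [finsum_mem_congr rfl h1]
  have h2 := finsum_mem_fiberwise f.base (g.base ⁻¹' {z}) F (hfin.subset (by
    intro x hx
    refine ⟨hx.1, ?_⟩
    have h3 : F x ≠ 0 := hx.2
    rw [Function.mem_support]
    intro h0
    apply h3
    rw [hF]; simp only
    rw [h0, zero_mul, zero_mul]))
  rw [h2]
  apply finsum_mem_congr rfl
  intro x _
  rw [hF]; simp only
  rw [mapCoeff_comp f g δX δY δZ hf hg x]
  push_cast
  ring

end Main

end Groth.Agent.Helper3.CycPush
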