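import Groth.Prelude.Def_CycDet
import Mathlib.LinearAlgebra.Dimension.Basic
import Mathlib.LinearAlgebra.Dimension.Constructions
import Mathlib.RingTheory.Length
import Mathlib.LinearAlgebra.Dimension.FreeAndStrongRankCondition
import Mathlib.Algebra.Order.SuccPred

/-! The determinant of a finite length module has rank at most one. -/

universe u v

open CycDet IsLocalRing

namespace Groth.Agent.Helper3.CycDetRank

variable {R : Type u} [CommRing R] [IsLocalRing R] {M : Type v} [AddCommGroup M] [Module R M]

section SpanBefore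

variable {l : ℕ} (e : Fin l → M)

theorem spanBefore_mono {i j : ℕ} (h : i ≤ j) : spanBefore R M e i ≤ spanBefore R M e j := by
  apply Submodule.span_mono
  apply Set.image_mono
  intro k hk
  exact lt_of_lt_of_le hk h

theorem spanBefore_zero : spanBefore R M e 0 = ⊥ := by
  unfold spanBefore
  simp

theorem mem_spanBefore_self (i : Fin l) {n : ℕ} (h : (i : ℕ) < n) : e i ∈ spanBefore R M e n :=
  Submodule.subset_span ⟨i, h, rfl⟩

theorem spanBefore_le_iff {n : ℕ} {N : Submodule R M} :
    spanBefore R M e n ≤ N ↔ ∀ j : Fin l, (j : ℕ) < n → e j ∈ N := by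
  unfold spanBefore
  rw [Submodule.span_le]
  constructor
  · intro h j hj; exact h ⟨j, hj, rfl⟩
  · rintro h _ ⟨j, hj, rfl⟩; exact h j hj

theorem spanBefore_congr (e' : Fin l → M) (n : ℕ) (h : ∀ j : Fin l, (j : ℕ) < n → e j = e' j) :
    spanBefore R M e n = spanBefore R M e' n := by
  apply le_antisymm
  · rw [spanBefore_le_iff]; intro j hj; rw [h j hj]; exact mem_spanBefore_self e' j hj
  · rw [spanBefore_le_iff]; intro j hj; rw [← h j hj]; exact mem_spanBefore_self e j hj

theorem spanBefore_succ (i : Fin l) :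
    spanBefore R M e ((i : ℕ) + 1) = spanBefore R M e i ⊔ Submodule.span R {e i} := by
  apply le_antisymm
  · rw [spanBefore_le_iff]
    intro j hj
    rcases Nat.lt_succ_iff_lt_or_eq.mp hj with h | h
    · exact Submodule.mem_sup_left (mem_spanBefore_self e j h)
    · have : j = i := Fin.ext h
      rw [this]
      exact Submodule.mem_sup_right (Submodule.mem_span_singleton_self _)
  · apply sup_le
    · exact spanBefore_mono e (Nat.le_succ _)
    · rw [Submodule.span_singleton_le_iff_mem]
      exact mem_spanBefore_self e i (Nat.lt_succ_self _)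

theorem spanBefore_top {n : ℕ} (h : l ≤ n) :
    spanBefore R M e n = Submodule.span R (Set.range e) := by
  unfold spanBefore
  congr 1
  ext x
  constructor
  · rintro ⟨j, _, rfl⟩; exact ⟨j, rfl⟩
  · rintro ⟨j, rfl⟩; exact ⟨j, lt_of_lt_of_le j.2 h, rfl⟩

end SpanBefore

section Cls

variable {l : ℕ}

/-- The class of an admissible tuple in `DetOfLen`. -/
noncomputable def cls (e : Adm R M l) : DetOfLen R M l := Submodule.Quotient.mk (sym R M e)

theorem cls_eq_zero_of_redundant (e : Adm R M l) (a : Fin l)
    (h : e.1 a ∈ spanBefore R M e.1 a) : cls e = 0 := by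
  unfold cls
  rw [Submodule.Quotient.mk_eq_zero]
  apply Submodule.subset_span
  exact Or.inl (Or.inl ⟨e, a, h, rfl⟩)

theorem cls_rel_b (e e' : Adm R M l) (a : Fin l) (c : Rˣ) (h1 : ∀ j, j ≠ a → e.1 j = e'.1 j)
    (h2 : e.1 a - (c : R) • e'.1 a ∈ spanBefore R M e.1 a) :
    cls e = IsLocalRing.residue R (c : R) • cls e' := by
  unfold cls
  rw [← Submodule.Quotient.mk_smul, ← sub_eq_zero, ← Submodule.Quotient.mk_sub,
    Submodule.Quotient.mk_eq_zero]
  apply Submodule.subset_span
  exact Or.inl (Or.inr ⟨e, e', a, c, h1, h2, rfl⟩)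

theorem cls_rel_c (e e' : Adm R M l) (a b : Fin l) (hab : (b : ℕ) + 1 = (a : ℕ))
    (h1 : ∀ r ∈ maximalIdeal R, r • e.1 a ∈ spanBefore R M e.1 b)
    (h2 : e'.1 = e.1 ∘ Equiv.swap a b) : cls e = - cls e' := by
  unfold cls
  rw [eq_neg_iff_add_eq_zero, ← Submodule.Quotient.mk_add, Submodule.Quotient.mk_eq_zero]
  apply Submodule.subset_span
  exact Or.inr ⟨e, e', a, b, hab, h1, h2, rfl⟩

end Cls

section Moves

variable {l : ℕ}

/-- Replace the `i`-th entry by `x` where `e i ≡ c x` modulo the earlier entries. -/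
theorem replace (e : Adm R M l) (i : Fin l) (x : M) (c : Rˣ)
    (hx : ∀ r ∈ maximalIdeal R, r • x ∈ spanBefore R M e.1 i)
    (h : e.1 i - (c : R) • x ∈ spanBefore R M e.1 i) :
    ∃ e' : Adm R M l, (∀ j, j ≠ i → e'.1 j = e.1 j) ∧ e'.1 i = x ∧
      cls e = IsLocalRing.residue R (c : R) • cls e' := by
  classical
  set e' : Fin l → M := Function.update e.1 i x with he'
  have hne : ∀ j, j ≠ i → e' j = e.1 j := fun j hj => Function.update_of_ne hj _ _
  have hi : e' i = x := Function.update_self _ _ _
  have hlow : ∀ n : ℕ, n ≤ i → spanBefore R M e' n = spanBefore R M e.1 n := by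
    intro n hn
    apply spanBefore_congr
    intro j hj
    exact hne j (fun hji => by rw [hji] at hj; omega)
  have hxmem : x ∈ spanBefore R M e.1 ((i : ℕ) + 1) := by
    have h1 : (c : R) • x ∈ spanBefore R M e.1 ((i : ℕ) + 1) := by
      have h2 : (c : R) • x = e.1 i - (e.1 i - (c : R) • x) := by abel
      rw [h2]
      exact Submodule.sub_mem _ (mem_spanBefore_self e.1 i (Nat.lt_succ_self _))
        (spanBefore_mono e.1 (Nat.le_succ _) h)
    have h3 : x = ((c⁻¹ : Rˣ) : R) • ((c : R) • x) := by
      rw [smul_smul, Units.inv_mul, one_smul]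
    rw [h3]
    exact Submodule.smul_mem _ _ h1
  have hall : ∀ n : ℕ, spanBefore R M e' n = spanBefore R M e.1 n := by
    intro n
    by_cases hn : n ≤ i
    · exact hlow n hn
    push Not at hn
    apply le_antisymm
    · rw [spanBefore_le_iff]
      intro j hj
      by_cases hji : j = i
      · rw [hji, hi]; exact spanBefore_mono e.1 hn hxmem
      · rw [hne j hji]; exact mem_spanBefore_self e.1 j hj
    · rw [spanBefore_le_iff]
      intro j hj
      by_cases hji : j = i
      · rw [hji]
        have h2 : e.1 i = (c : R) • x + (e.1 i - (c : R) • x) := by abel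
        rw [h2]
        refine Submodule.add_mem _ (Submodule.smul_mem _ _ ?_) ?_
        · rw [← hi]; exact mem_spanBefore_self e' i hn
        · have := hlow i le_rfl
          exact spanBefore_mono e' (le_of_lt hn) (this ▸ h)
      · rw [← hne j hji]; exact mem_spanBefore_self e' j hj
  have hadm : IsAdmissible R M e' := by
    intro j r hr
    rw [hall]
    by_cases hji : j = i
    · rw [hji, hi]; exact hx r hr
    · rw [hne j hji]; exact e.2 j r hr
  refine ⟨⟨e', hadm⟩, hne, hi, ?_⟩
  apply cls_rel_b e ⟨e', hadm⟩ i c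
  · intro j hj; exact (hne j hj).symm
  · show e.1 i - (c : R) • e' i ∈ _
    rw [hi]; exact h

/-- Swap two adjacent entries. -/
theorem swap_adj (e : Adm R M l) (a b : Fin l) (hab : (b : ℕ) + 1 = (a : ℕ))
    (h : ∀ r ∈ maximalIdeal R, r • e.1 a ∈ spanBefore R M e.1 b) :
    ∃ e' : Adm R M l, e'.1 = e.1 ∘ Equiv.swap a b ∧ cls e = - cls e' := by
  classical
  set e' : Fin l → M := e.1 ∘ Equiv.swap a b with he'
  have hab' : a ≠ b := fun hh => by rw [hh] at hab; omega
  have ha : e' a = e.1 b := by simp [he']
  have hb : e' b = e.1 a := by simp [he']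
  have hother : ∀ j, j ≠ a → j ≠ b → e' j = e.1 j := by
    intro j hja hjb
    simp [he', Equiv.swap_apply_of_ne_of_ne hja hjb]
  -- spans agree except at `n = a`
  have hspan : ∀ n : ℕ, n ≠ a → spanBefore R M e' n = spanBefore R M e.1 n := by
    intro n hn
    by_cases hnb : n ≤ b
    · apply spanBefore_congr
      intro j hj
      exact hother j (fun hh => by rw [hh] at hj; omega) (fun hh => by rw [hh] at hj; omega)
    · push Not at hnb
      have hna : (a : ℕ) < n := by omega
      apply le_antisymm
      · rw [spanBefore_le_iff]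
        intro j hj
        by_cases hja : j = a
        · rw [hja, ha]; exact mem_spanBefore_self e.1 b hnb
        by_cases hjb : j = b
        · rw [hjb, hb]; exact mem_spanBefore_self e.1 a hna
        rw [hother j hja hjb]; exact mem_spanBefore_self e.1 j hj
      · rw [spanBefore_le_iff]
        intro j hj
        by_cases hja : j = a
        · rw [hja, ← hb]; exact mem_spanBefore_self e' b hnb
        by_cases hjb : j = b
        · rw [hjb, ← ha]; exact mem_spanBefore_self e' a hna
        rw [← hother j hja hjb]; exact mem_spanBefore_self e' j hj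
  have hadm : IsAdmissible R M e' := by
    intro j r hr
    by_cases hja : j = a
    · rw [hja, ha]
      have h1 : r • e.1 b ∈ spanBefore R M e.1 b := e.2 b r hr
      have h2 : spanBefore R M e.1 b = spanBefore R M e' b :=
        (hspan b (fun hh => by omega)).symm
      rw [h2] at h1
      exact spanBefore_mono e' (by omega) h1
    by_cases hjb : j = b
    · rw [hjb, hb, hspan b (fun hh => by omega)]
      exact h r hr
    rw [hother j hja hjb, hspan j (fun hh => hja (Fin.ext hh))]
    exact e.2 j r hr
  exact ⟨⟨e', hadm⟩, rfl, cls_rel_c e ⟨e', hadm⟩ a b hab h rfl⟩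

/-- Move the `i`-th entry forward to position `t`. -/
theorem move (d : ℕ) : ∀ (e : Adm R M l) (i t : Fin l), (t : ℕ) + d = i →
    (∀ r ∈ maximalIdeal R, r • e.1 i ∈ spanBefore R M e.1 t) →
    ∃ (e' : Adm R M l) (s : ResidueField R), (∀ j : Fin l, (j : ℕ) < t → e'.1 j = e.1 j) ∧
      e'.1 t = e.1 i ∧ cls e = s • cls e' := by
  classical
  induction d with
  | zero =>
    intro e i t hti _
    have : t = i := Fin.ext (by omega)
    subst this
    exact ⟨e, 1, fun _ _ => rfl, rfl, (one_smul _ _).symm⟩
  | succ d ih =>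
    intro e i t hti h
    have hipos : 0 < (i : ℕ) := by omega
    let b : Fin l := ⟨(i : ℕ) - 1, by omega⟩
    have hb : (b : ℕ) + 1 = i := by simp [b]; omega
    have htb : (t : ℕ) ≤ b := by simp [b]; omega
    obtain ⟨e₁, he₁, hcls₁⟩ := swap_adj e i b hb
      (fun r hr => spanBefore_mono e.1 htb (h r hr))
    have hib : i ≠ b := fun hh => by rw [← hh] at hb; omega
    have he₁b : e₁.1 b = e.1 i := by rw [he₁]; simp
    have he₁low : ∀ j : Fin l, (j : ℕ) < t → e₁.1 j = e.1 j := by
      intro j hj
      rw [he₁]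
      simp only [Function.comp_apply]
      rw [Equiv.swap_apply_of_ne_of_ne]
      · intro hh; rw [hh] at hj; omega
      · intro hh; rw [hh] at hj; omega
    have hspan : spanBefore R M e₁.1 t = spanBefore R M e.1 t :=
      spanBefore_congr _ _ _ he₁low
    obtain ⟨e', s, hlow, ht, hcls⟩ := ih e₁ b t (by omega) (fun r hr => by
      rw [he₁b, hspan]; exact h r hr)
    refine ⟨e', -s, fun j hj => (hlow j hj).trans (he₁low j hj), ht.trans he₁b, ?_⟩
    rw [hcls₁, hcls, neg_smul]

end Moves

section Main

variable {l : ℕ}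

theorem span_eq_top_of_nonredundant [IsArtinian R M] [IsNoetherian R M] (e : Fin l → M)
    (hl : Module.length R M = l) (hnr : ∀ i : Fin l, e i ∉ spanBefore R M e i) :
    spanBefore R M e l = ⊤ := by
  have key : ∀ n : ℕ, n ≤ l → (n : ℕ∞) ≤ Order.height (spanBefore R M e n) := by
    intro n
    induction n with
    | zero => intro _; simp
    | succ n ih =>
      intro hn
      have h1 := ih (by omega)
      have hlt : spanBefore R M e n < spanBefore R M e (n + 1) := by
        refine lt_of_le_of_ne (spanBefore_mono e (Nat.le_succ n)) ?_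
        intro heq
        apply hnr ⟨n, by omega⟩
        show e ⟨n, _⟩ ∈ spanBefore R M e n
        rw [heq]; exact mem_spanBefore_self e ⟨n, by omega⟩ (Nat.lt_succ_self n)
      have h2 := Submodule.height_strictMono hlt
      push_cast
      exact Order.add_one_le_of_lt (lt_of_le_of_lt h1 h2)
  by_contra hne
  have h1 := key l le_rfl
  have h2 := Submodule.height_strictMono (lt_top_iff_ne_top.mpr hne)
  rw [← Module.length_eq_height, hl] at h2
  exact absurd h1 (not_le.mpr h2)

theorem cls_mem_span [IsArtinian R M] [IsNoetherian R M] (hl : Module.length R M = l)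
    (f : Adm R M l) (hf : ∀ i : Fin l, f.1 i ∉ spanBefore R M f.1 i) :
    ∀ (d : ℕ) (e : Adm R M l), (∀ j : Fin l, (j : ℕ) + d < l → e.1 j = f.1 j) →
      ∃ s : ResidueField R, cls e = s • cls f := by
  classical
  intro d
  induction d with
  | zero =>
    intro e he
    have : e = f := Subtype.ext (funext fun j => he j (by simp))
    exact ⟨1, by rw [this, one_smul]⟩
  | succ d ih =>
    intro e he
    by_cases hdl : l ≤ d
    · exact ih e (fun j hj => absurd hj (by omega))
    push Not at hdl
    by_cases hred : ∃ i : Fin l, e.1 i ∈ spanBefore R M e.1 i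
    · obtain ⟨i, hi⟩ := hred
      exact ⟨0, by rw [cls_eq_zero_of_redundant e i hi, zero_smul]⟩
    push Not at hred
    have htop := span_eq_top_of_nonredundant e.1 hl hred
    let t : Fin l := ⟨l - (d + 1), by omega⟩
    have htval : (t : ℕ) = l - (d + 1) := rfl
    have hlow : ∀ j : Fin l, (j : ℕ) < t → e.1 j = f.1 j := fun j hj => he j (by omega)
    have hspant : spanBefore R M e.1 t = spanBefore R M f.1 t := spanBefore_congr _ _ _ hlow
    set x := f.1 t with hxdef
    have hxt : x ∉ spanBefore R M e.1 t := by rw [hspant]; exact hf t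
    have hex : ∃ n : ℕ, x ∈ spanBefore R M e.1 n := ⟨l, by rw [htop]; trivial⟩
    have hfind := Nat.find_spec hex
    have hmin := fun m => Nat.find_min (H := hex) (m := m)
    have hi₀l : Nat.find hex ≤ l := Nat.find_min' hex (by rw [htop]; trivial)
    have hti₀ : (t : ℕ) < Nat.find hex := by
      by_contra hh
      push Not at hh
      exact hxt (spanBefore_mono e.1 hh hfind)
    let i : Fin l := ⟨Nat.find hex - 1, by omega⟩
    have hival : (i : ℕ) + 1 = Nat.find hex := by simp [i]; omega
    have hti : (t : ℕ) ≤ i := by omega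
    have hxi : x ∉ spanBefore R M e.1 i := hmin i (by omega)
    have hxi1 : x ∈ spanBefore R M e.1 i ⊔ Submodule.span R {e.1 i} := by
      rw [← spanBefore_succ, hival]; exact hfind
    obtain ⟨y, hy, z, hz, hyz⟩ := Submodule.mem_sup.mp hxi1
    obtain ⟨a, rfl⟩ := Submodule.mem_span_singleton.mp hz
    have hau : IsUnit a := by
      by_contra hna
      have ham : a ∈ maximalIdeal R := (IsLocalRing.mem_maximalIdeal a).mpr hna
      apply hxi
      rw [← hyz]
      exact Submodule.add_mem _ hy (e.2 i a ham)
    obtain ⟨ua, rfl⟩ := hau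
    have hrepl : e.1 i - ((ua⁻¹ : Rˣ) : R) • x ∈ spanBefore R M e.1 i := by
      have : e.1 i - ((ua⁻¹ : Rˣ) : R) • x = - (((ua⁻¹ : Rˣ) : R) • y) := by
        rw [← hyz, smul_add, smul_smul, Units.inv_mul, one_smul]; abel
      rw [this]
      exact Submodule.neg_mem _ (Submodule.smul_mem _ _ hy)
    have hxm : ∀ r ∈ maximalIdeal R, r • x ∈ spanBefore R M e.1 t := by
      intro r hr
      rw [hspant]
      exact f.2 t r hr
    obtain ⟨e', hne', hi', hcls'⟩ := replace e i x (ua⁻¹)
      (fun r hr => spanBefore_mono e.1 hti (hxm r hr)) hrepl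
    have hlow' : ∀ j : Fin l, (j : ℕ) < t → e'.1 j = e.1 j := fun j hj =>
      hne' j (fun hh => by rw [hh] at hj; omega)
    have hspant' : spanBefore R M e'.1 t = spanBefore R M e.1 t := spanBefore_congr _ _ _ hlow'
    obtain ⟨e'', s, hlow'', ht'', hcls''⟩ := move ((i : ℕ) - t) e' i t (by omega)
      (fun r hr => by rw [hi', hspant']; exact hxm r hr)
    obtain ⟨s'', hs''⟩ := ih e'' (fun j hj => by
      by_cases hjt : (j : ℕ) < t
      · rw [hlow'' j hjt, hlow' j hjt, hlow j hjt]
      · have : j = t := Fin.ext (by omega)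
        rw [this, ht'', hi'])
    refine ⟨IsLocalRing.residue R ((ua⁻¹ : Rˣ) : R) * (s * s''), ?_⟩
    rw [hcls', hcls'', hs'', smul_smul, smul_smul, mul_assoc]

theorem main (R : Type u) [CommRing R] [IsLocalRing R] (M : Type v) [AddCommGroup M] [Module R M]
    (hM : IsFiniteLength R M) :
    Module.rank (IsLocalRing.ResidueField R) (CycDet.Det R M) ≤ 1 := by
  classical
  obtain ⟨hN, hA⟩ := isFiniteLength_iff_isNoetherian_isArtinian.mp hM
  have hl : Module.length R M = ((Module.length R M).toNat : ℕ) :=
    (ENat.coe_toNat (Module.length_ne_top_iff.mpr hM)).symm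
  have hkey : ∃ v₀ : Det R M, ∀ e : Adm R M (Module.length R M).toNat,
      ∃ s : ResidueField R, cls e = s • v₀ := by
    by_cases hex : ∃ f : Adm R M (Module.length R M).toNat,
        ∀ i : Fin (Module.length R M).toNat, f.1 i ∉ spanBefore R M f.1 i
    · obtain ⟨f, hf⟩ := hex
      exact ⟨cls f, fun e => cls_mem_span hl f hf (Module.length R M).toNat e
        (fun j hj => absurd hj (by omega))⟩
    · push Not at hex
      refine ⟨0, fun e => ?_⟩
      obtain ⟨i, hi⟩ := hex e
      exact ⟨0, by rw [cls_eq_zero_of_redundant e i hi, zero_smul]⟩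
  obtain ⟨v₀, hv₀⟩ := hkey
  rw [rank_le_one_iff]
  refine ⟨v₀, fun v => ?_⟩
  obtain ⟨x, rfl⟩ := Submodule.Quotient.mk_surjective _ v
  induction x using Finsupp.induction_linear with
  | zero => exact ⟨0, by simp⟩
  | add x y hx hy =>
    obtain ⟨r₁, h₁⟩ := hx
    obtain ⟨r₂, h₂⟩ := hy
    exact ⟨r₁ + r₂, by rw [add_smul, h₁, h₂, Submodule.Quotient.mk_add]⟩
  | single e c =>
    obtain ⟨s, hs⟩ := hv₀ e
    refine ⟨c * s, ?_⟩
    have : (Finsupp.single e c : Free R M _) = c • sym R M e := by
      unfold sym; rw [Finsupp.smul_single, smul_eq_mul, mul_one]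
    rw [this, Submodule.Quotient.mk_smul]
    change _ = c • cls e
    rw [hs, smul_smul]

end Main

end Groth.Agent.Helper3.CycDetRank
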