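import Groth.Prelude.Def_Cyc
import Groth.Prelude.Def_Coh
import Groth.Agent.Lib.Helper13.QCohStalk
import Mathlib

/-!
# Stalks of the structure module and of pushforwards along embeddings
-/

universe u

open CategoryTheory CategoryTheory.Limits AlgebraicGeometry TopologicalSpace

namespace Groth.Agent.Helper3.PushStalk

open Groth.Agent.Helper13.QCoh

section Unit

variable (Z : Scheme.{u})

/-- The section `1` of the structure module. -/
noncomputable def one (U : Z.Opens) : Γ(Coh.structureModule Z, U) := (1 : Γ(Z, U))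

/-- View a function as a section of the structure module. -/
def toMod {U : Z.Opens} (a : Γ(Z, U)) : Γ(Coh.structureModule Z, U) := a

lemma smul_one (U : Z.Opens) (a : Γ(Z, U)) : a • one Z U = toMod Z a :=
  mul_one a

lemma toMod_res {U V : Z.Opens} (h : U ≤ V) (b : Γ(Z, V)) :
    (Coh.structureModule Z).presheaf.map (homOfLE h).op (toMod Z b) =
      toMod Z (Z.presheaf.map (homOfLE h).op b) := rfl

lemma one_res {U V : Z.Opens} (h : U ≤ V) :
    (Coh.structureModule Z).presheaf.map (homOfLE h).op (one Z V) = one Z U :=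
  map_one (Z.presheaf.map (homOfLE h).op).hom

/-- The germ of `1`. -/
noncomputable def oneGerm (z : Z) : (Coh.structureModule Z).presheaf.stalk z :=
  (Coh.structureModule Z).presheaf.germ ⊤ z trivial (one Z ⊤)

lemma germ_one (z : Z) (U : Z.Opens) (hz : z ∈ U) :
    (Coh.structureModule Z).presheaf.germ U z hz (one Z U) = oneGerm Z z := by
  rw [oneGerm, ← one_res Z (le_top : U ≤ ⊤), TopCat.Presheaf.germ_res_apply]

/-- The map `O_{Z,z} → (O_Z)_z`, `r ↦ r • 1`. -/
noncomputable def unitStalk (z : Z) :
    Z.presheaf.stalk z →ₗ[Z.presheaf.stalk z] (Coh.structureModule Z).presheaf.stalk z :=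
  LinearMap.toSpanSingleton _ _ (oneGerm Z z)

lemma unitStalk_germ (z : Z) (U : Z.Opens) (hz : z ∈ U) (b : Γ(Z, U)) :
    unitStalk Z z (Z.presheaf.germ U z hz b) =
      (Coh.structureModule Z).presheaf.germ U z hz (toMod Z b) := by
  rw [unitStalk, LinearMap.toSpanSingleton_apply, ← germ_one Z z U hz, ← germ_smul, smul_one]

theorem unitStalk_bijective (z : Z) : Function.Bijective (unitStalk Z z) := by
  constructor
  · rw [injective_iff_map_eq_zero]
    intro r hr
    obtain ⟨U, hzU, b, rfl⟩ := TopCat.Presheaf.exists_germ_eq Z.presheaf r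
    rw [unitStalk_germ] at hr
    have h0 : (Coh.structureModule Z).presheaf.germ U z hzU (toMod Z b) =
        (Coh.structureModule Z).presheaf.germ U z hzU 0 := by rw [hr, map_zero]
    obtain ⟨W, hzW, iU, iV, hW⟩ :=
      TopCat.Presheaf.germ_eq (Coh.structureModule Z).presheaf z hzU hzU _ _ h0
    rw [map_zero] at hW
    have hW' : Z.presheaf.map iU.op b = 0 := hW
    rw [← TopCat.Presheaf.germ_res_apply Z.presheaf iU z hzW b, hW', map_zero]
  · intro m
    obtain ⟨U, hzU, b, rfl⟩ := TopCat.Presheaf.exists_germ_eq (Coh.structureModule Z).presheaf m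
    exact ⟨Z.presheaf.germ U z hzU b, unitStalk_germ Z z U hzU b⟩

/-- `(O_Z)_z ≃ O_{Z,z}` as modules. -/
noncomputable def unitStalkEquiv (z : Z) :
    Z.presheaf.stalk z ≃ₗ[Z.presheaf.stalk z] (Coh.structureModule Z).presheaf.stalk z :=
  LinearEquiv.ofBijective (unitStalk Z z) (unitStalk_bijective Z z)

theorem length_unit_stalk (z : Z) :
    Module.length (Z.presheaf.stalk z) ((Coh.structureModule Z).presheaf.stalk z) =
      Module.length (Z.presheaf.stalk z) (Z.presheaf.stalk z) :=
  (unitStalkEquiv Z z).length_eq.symm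

end Unit

section Push

variable {Z X : Scheme.{u}} (i : Z ⟶ X) (M : Z.Modules)

/-- The comparison map `(i_* M)_{i z} → M_z`. -/
noncomputable def pushStalkHom (z : Z) :
    ((Scheme.Modules.pushforward i).obj M).presheaf.stalk (i z) ⟶ M.presheaf.stalk z :=
  TopCat.Presheaf.stalkPushforward Ab.{u} i.base M.presheaf z

lemma pushStalkHom_germ (z : Z) (U : X.Opens) (hz : i z ∈ U) (b : Γ(M, i ⁻¹ᵁ U)) :
    pushStalkHom i M z
      (((Scheme.Modules.pushforward i).obj M).presheaf.germ U (i z) hz b) =
      M.presheaf.germ (i ⁻¹ᵁ U) z hz b :=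
  ConcreteCategory.congr_hom
    (TopCat.Presheaf.stalkPushforward_germ Ab.{u} i.base M.presheaf U z hz) b

lemma pushStalkHom_smul (z : Z) (r : X.presheaf.stalk (i z))
    (m : ((Scheme.Modules.pushforward i).obj M).presheaf.stalk (i z)) :
    pushStalkHom i M z (r • m) = (i.stalkMap z).hom r • pushStalkHom i M z m := by
  obtain ⟨U, hxU, r₀, rfl⟩ := TopCat.Presheaf.exists_germ_eq X.presheaf r
  obtain ⟨V, hxV, m₀, rfl⟩ :=
    TopCat.Presheaf.exists_germ_eq ((Scheme.Modules.pushforward i).obj M).presheaf m
  have hW : i z ∈ U ⊓ V := ⟨hxU, hxV⟩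
  have e1 : X.presheaf.germ U (i z) hxU r₀
      = X.presheaf.germ (U ⊓ V) (i z) hW (X.presheaf.map (homOfLE inf_le_left).op r₀) :=
    (TopCat.Presheaf.germ_res_apply X.presheaf (homOfLE inf_le_left) (i z) hW r₀).symm
  have e2 : ((Scheme.Modules.pushforward i).obj M).presheaf.germ V (i z) hxV m₀
      = ((Scheme.Modules.pushforward i).obj M).presheaf.germ (U ⊓ V) (i z) hW
        (((Scheme.Modules.pushforward i).obj M).presheaf.map (homOfLE inf_le_right).op m₀) :=
    (TopCat.Presheaf.germ_res_apply ((Scheme.Modules.pushforward i).obj M).presheaf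
      (homOfLE inf_le_right) (i z) hW m₀).symm
  rw [e1, e2, ← germ_smul, pushStalkHom_germ, pushStalkHom_germ]
  erw [Scheme.Hom.germ_stalkMap_apply]
  rw [← germ_smul]
  rfl

theorem pushStalkHom_bijective (hi : Topology.IsInducing i) (z : Z) :
    Function.Bijective (pushStalkHom i M z) := by
  have : IsIso (pushStalkHom i M z) :=
    TopCat.Presheaf.stalkPushforward.stalkPushforward_iso_of_isInducing Ab.{u} hi M.presheaf z
  exact ConcreteCategory.bijective_of_isIso _

/-- Lengths of the stalks of a pushforward along an inducing morphism which is surjective on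
stalks. -/
theorem length_push_stalk (hi : Topology.IsInducing i) (z : Z)
    (hsurj : Function.Surjective (i.stalkMap z).hom) :
    Module.length (X.presheaf.stalk (i z))
      (((Scheme.Modules.pushforward i).obj M).presheaf.stalk (i z)) =
    Module.length (Z.presheaf.stalk z) (M.presheaf.stalk z) := by
  letI : Algebra (X.presheaf.stalk (i z)) (Z.presheaf.stalk z) := (i.stalkMap z).hom.toAlgebra
  letI : Module (X.presheaf.stalk (i z)) (M.presheaf.stalk z) :=
    Module.compHom _ (i.stalkMap z).hom
  haveI : IsScalarTower (X.presheaf.stalk (i z)) (Z.presheaf.stalk z) (M.presheaf.stalk z) :=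
    IsScalarTower.of_algebraMap_smul (fun _ _ => rfl)
  let f : ((Scheme.Modules.pushforward i).obj M).presheaf.stalk (i z) →ₗ[X.presheaf.stalk (i z)]
      M.presheaf.stalk z :=
    { toFun := pushStalkHom i M z
      map_add' := map_add _
      map_smul' := fun r m => by
        rw [RingHom.id_apply]
        exact pushStalkHom_smul i M z r m }
  let e : ((Scheme.Modules.pushforward i).obj M).presheaf.stalk (i z) ≃ₗ[X.presheaf.stalk (i z)]
      M.presheaf.stalk z :=
    LinearEquiv.ofBijective f (pushStalkHom_bijective i M hi z)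
  rw [e.length_eq]
  exact Module.length_eq_of_surjective hsurj

/-- Stalks of a pushforward vanish outside the closure of the range. -/
theorem subsingleton_push_stalk (x : X) (hx : x ∉ closure (Set.range i)) :
    Subsingleton (((Scheme.Modules.pushforward i).obj M).presheaf.stalk x) := by
  let U : X.Opens := ⟨(closure (Set.range i))ᶜ, isClosed_closure.isOpen_compl⟩
  have hxU : x ∈ U := hx
  have hempty : ∀ y : Z, y ∉ i ⁻¹ᵁ U := fun y hy => hy (subset_closure ⟨y, rfl⟩)
  refine ⟨fun a b => ?_⟩
  have key : ∀ m : ((Scheme.Modules.pushforward i).obj M).presheaf.stalk x, m = 0 := by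
    intro m
    obtain ⟨V, hxV, m₀, rfl⟩ :=
      TopCat.Presheaf.exists_germ_eq ((Scheme.Modules.pushforward i).obj M).presheaf m
    have hW : x ∈ U ⊓ V := ⟨hxU, hxV⟩
    rw [← TopCat.Presheaf.germ_res_apply ((Scheme.Modules.pushforward i).obj M).presheaf
      (homOfLE inf_le_right) x hW m₀]
    have h0 : ((Scheme.Modules.pushforward i).obj M).presheaf.map
        (homOfLE (inf_le_right : U ⊓ V ≤ V)).op m₀ = 0 := by
      apply TopCat.Presheaf.section_ext ⟨M.presheaf, M.isSheaf⟩ (i ⁻¹ᵁ (U ⊓ V))
      intro y hy
      exact absurd hy.1 (hempty y)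
    rw [h0, map_zero]
  rw [key a, key b]

end Push

/-- S1899. -/
theorem s1899 (X Z : Scheme.{u}) (δ : X → ℤ) (i : Z ⟶ X) [IsClosedImmersion i] (k : ℤ) :
    Cyc.subschemeFun δ k i =
      Cyc.sheafFun δ k ((Coh.push i).obj (Coh.structureModule Z)) := by
  funext x
  simp only [Cyc.subschemeFun, Cyc.sheafFun]
  by_cases hk : δ x = k
  · simp only [hk, if_true]
    by_cases hx : x ∈ Set.range i
    · obtain ⟨z, rfl⟩ := hx
      have hset : {z' : Z | i z' = i z} = {z} := by
        ext z'
        simp only [Set.mem_setOf_eq, Set.mem_singleton_iff]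
        exact i.isClosedEmbedding.injective.eq_iff
      rw [hset, finsum_mem_singleton]
      rw [length_push_stalk i _ i.isEmbedding.isInducing z (i.stalkMap_surjective z),
        length_unit_stalk]
    · have hset : {z' : Z | i z' = x} = ∅ := by
        ext z'
        simp only [Set.mem_setOf_eq, Set.mem_empty_iff_false, iff_false]
        exact fun h => hx ⟨z', h⟩
      rw [hset, finsum_mem_empty]
      have hcl : closure (Set.range i) = Set.range i :=
        i.isClosedEmbedding.isClosed_range.closure_eq
      haveI := subsingleton_push_stalk i (Coh.structureModule Z) x (by rwa [hcl])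
      rw [Module.length_eq_zero]
      simp
  · simp [hk]

end Groth.Agent.Helper3.PushStalk
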