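import Mathlib
import Groth.Prelude.Def_Smoothing

set_option autoImplicit false

namespace Groth.Agent.Helper3.ElemStd

open MvPolynomial

/-- Determinant trick: if `t • I ⊆ J + I²` with `J ≤ I` f.g., then some `h ≡ t^d mod I` has
`h • I ⊆ J`. -/
theorem exists_mul_mem {P : Type*} [CommRing P] (I J : Ideal P) (hJI : J ≤ I) (hI : I.FG) (t : P)
    (ht : ∀ x ∈ I, t * x ∈ J ⊔ I ^ 2) :
    ∃ (d : ℕ) (h : P), h - t ^ d ∈ I ∧ ∀ x ∈ I, h * x ∈ J := by
  classical
  let Q := P ⧸ J
  let mk : P →+* Q := Ideal.Quotient.mk J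
  have mk_surj : Function.Surjective mk := Ideal.Quotient.mk_surjective
  let Ib : Ideal Q := I.map mk
  have hfg : Ib.FG := hI.map mk
  have : Module.Finite Q Ib := Module.Finite.iff_fg.mpr hfg
  let f : Module.End Q Ib := algebraMap Q (Module.End Q Ib) (mk t)
  have hrange : LinearMap.range f ≤ Ib • (⊤ : Submodule Q Ib) := by
    rintro _ ⟨y, rfl⟩
    rw [Submodule.mem_smul_top_iff]
    obtain ⟨x, hx, hxy⟩ := (Ideal.mem_map_iff_of_surjective mk mk_surj).mp y.2
    have h1 := Ideal.mem_map_of_mem mk (ht x hx)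
    rw [Ideal.map_sup, Ideal.map_pow] at h1
    have h2 : Ideal.map mk J = ⊥ := Ideal.map_quotient_self J
    rw [h2, bot_sup_eq, pow_two] at h1
    have h3 : ((f y : Ib) : Q) = mk (t * x) := by
      simp [f, ← hxy, Module.algebraMap_end_apply]
    rw [h3]
    exact h1
  obtain ⟨p, hmonic, -, hcoeff, hp⟩ :=
    LinearMap.exists_monic_and_natDegree_eq_and_coeff_mem_pow_and_aeval_eq_zero Q f Ib hrange
  have hp' : algebraMap Q (Module.End Q Ib) (Polynomial.aeval (mk t) p) = 0 := by
    rw [← Polynomial.aeval_algebraMap_apply]; exact hp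
  set hb : Q := Polynomial.aeval (mk t) p with hb_def
  have hkill : ∀ y ∈ Ib, hb * y = 0 := by
    intro y hy
    have := LinearMap.congr_fun hp' ⟨y, hy⟩
    simpa [Module.algebraMap_end_apply, Subtype.ext_iff] using this
  have hcong : hb - mk t ^ p.natDegree ∈ Ib := by
    have e1 : hb = mk t ^ p.natDegree +
        ∑ i ∈ Finset.range p.natDegree, p.coeff i * mk t ^ i := by
      rw [hb_def]
      conv_lhs => rw [hmonic.as_sum]
      simp [Polynomial.aeval_def, Polynomial.eval₂_finsetSum]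
    rw [e1, add_sub_cancel_left]
    refine Ideal.sum_mem _ fun i hi => Ideal.mul_mem_right _ _ ?_
    have hi' : p.natDegree - i ≠ 0 := by
      have := Finset.mem_range.mp hi; omega
    exact Ideal.pow_le_self hi' (hcoeff i)
  obtain ⟨h, hh⟩ := mk_surj hb
  refine ⟨p.natDegree, h, ?_, ?_⟩
  · have : mk (h - t ^ p.natDegree) ∈ Ib := by
      rw [map_sub, map_pow, hh]; exact hcong
    obtain ⟨x, hx, hxy⟩ := (Ideal.mem_map_iff_of_surjective mk mk_surj).mp this
    have h4 : x - (h - t ^ p.natDegree) ∈ J := by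
      rw [← Ideal.Quotient.eq]; exact hxy
    have : h - t ^ p.natDegree = x - (x - (h - t ^ p.natDegree)) := by ring
    rw [this]
    exact I.sub_mem hx (hJI h4)
  · intro x hx
    have : mk (h * x) = 0 := by
      rw [map_mul, hh]
      exact hkill _ (Ideal.mem_map_of_mem mk hx)
    exact Ideal.Quotient.eq_zero_iff_mem.mp this


section Main

universe u

variable {R A : Type u} [CommRing R] [CommRing A] [Algebra R A]
variable {n c : ℕ} (hcn : c ≤ n) (f : Fin c → MvPolynomial (Fin n) R) (H : MvPolynomial (Fin n) R)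

/-- relations of the candidate presentation of `A_a` -/
noncomputable def v : Fin c ⊕ Unit → MvPolynomial (Fin n ⊕ Unit) R :=
  Sum.elim (fun j => rename Sum.inl (f j)) (fun _ => X (Sum.inr ()) * rename Sum.inl H - 1)

/-- the candidate algebra -/
abbrev T : Type u := MvPolynomial (Fin n ⊕ Unit) R ⧸ Ideal.span (Set.range (v f H))

lemma pderiv_inr_rename_inl (u : Unit) (p : MvPolynomial (Fin n) R) :
    pderiv (Sum.inr u : Fin n ⊕ Unit) (rename Sum.inl p) = 0 := by
  classical
  induction p using MvPolynomial.induction_on with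
  | C a => simp
  | add p q hp hq => simp [hp, hq]
  | mul_X p i h => simp [h, pderiv_X]

lemma map_castLE_injective : Function.Injective (Sum.map (Fin.castLE hcn) (id : Unit → Unit)) :=
  Sum.map_injective.mpr ⟨Fin.castLE_injective hcn, fun _ _ h => h⟩

/-- the naive presubmersive presentation of `T` -/
noncomputable def Q : Algebra.PreSubmersivePresentation R (T f H) (Fin n ⊕ Unit) (Fin c ⊕ Unit) :=
  Algebra.PreSubmersivePresentation.naive (v := v f H) (Sum.map (Fin.castLE hcn) id)
    (map_castLE_injective hcn)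

lemma mk_X_mul : (Ideal.Quotient.mk (Ideal.span (Set.range (v f H))) (X (Sum.inr ())) : T f H) *
    Ideal.Quotient.mk _ (rename Sum.inl H) = 1 := by
  rw [← map_mul, ← sub_eq_zero, ← map_one (Ideal.Quotient.mk _), ← map_sub,
    Ideal.Quotient.eq_zero_iff_mem]
  exact Ideal.subset_span ⟨Sum.inr (), rfl⟩

lemma Q_jacobiMatrix [DecidableEq (Fin c ⊕ Unit)] (i j : Fin c ⊕ Unit) :
    (Q hcn f H).jacobiMatrix i j = pderiv (Sum.map (Fin.castLE hcn) id i) (v f H j) :=
  Algebra.PreSubmersivePresentation.jacobiMatrix_apply _ _ _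

lemma jacobian_eq :
    (Q hcn f H).jacobian = Ideal.Quotient.mk _
      (rename Sum.inl (Matrix.det (Matrix.of fun j k : Fin c => pderiv (Fin.castLE hcn k) (f j))) *
        rename Sum.inl H) := by
  classical
  rw [Algebra.PreSubmersivePresentation.jacobian_eq_jacobiMatrix_det]
  have h21 : (Q hcn f H).jacobiMatrix.toBlocks₂₁ = 0 := by
    refine Matrix.ext fun i j => ?_
    rw [Matrix.toBlocks₂₁, Matrix.of_apply, Q_jacobiMatrix]
    exact pderiv_inr_rename_inl _ _
  have h11 : (Q hcn f H).jacobiMatrix.toBlocks₁₁ =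
      ((rename Sum.inl : MvPolynomial (Fin n) R →ₐ[R] MvPolynomial (Fin n ⊕ Unit) R).mapMatrix
        (Matrix.of fun j k : Fin c => pderiv (Fin.castLE hcn k) (f j)).transpose) := by
    refine Matrix.ext fun i j => ?_
    rw [Matrix.toBlocks₁₁, Matrix.of_apply, Q_jacobiMatrix]
    exact pderiv_rename Sum.inl_injective _ _
  have h22 : (Q hcn f H).jacobiMatrix.toBlocks₂₂.det = rename Sum.inl H := by
    rw [Matrix.det_unique, Matrix.toBlocks₂₂, Matrix.of_apply, Q_jacobiMatrix]
    simp [v, pderiv_inr_rename_inl, pderiv_X]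
  rw [← Matrix.fromBlocks_toBlocks (Q hcn f H).jacobiMatrix, h21, Matrix.det_fromBlocks_zero₂₁,
    h11, h22, ← AlgHom.map_det, Matrix.det_transpose]
  rfl


variable (hom : MvPolynomial (Fin n) R →ₐ[R] A) (surj : Function.Surjective hom)

/-- `mk ∘ rename inl : R[x] → T` -/
noncomputable def toT : MvPolynomial (Fin n) R →ₐ[R] T f H :=
  (Ideal.Quotient.mkₐ R _).comp (rename Sum.inl)

lemma toT_apply (p : MvPolynomial (Fin n) R) :
    toT f H p = Ideal.Quotient.mk _ (rename Sum.inl p) := rfl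

lemma toT_H_isUnit : IsUnit (toT f H H) :=
  IsUnit.of_mul_eq_one _ (by rw [mul_comm]; exact mk_X_mul f H)

lemma toT_span (x : MvPolynomial (Fin n) R) (hx : x ∈ Ideal.span (Set.range f)) :
    toT f H x = 0 := by
  rw [toT_apply, Ideal.Quotient.eq_zero_iff_mem]
  have h1 := Ideal.mem_map_of_mem
    (rename Sum.inl : MvPolynomial (Fin n) R →ₐ[R] MvPolynomial (Fin n ⊕ Unit) R) hx
  rw [Ideal.map_span] at h1
  refine Ideal.span_mono ?_ h1
  rintro _ ⟨_, ⟨j, rfl⟩, rfl⟩
  exact ⟨Sum.inl j, rfl⟩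

include surj in
theorem isStandardSmooth_away_aux
    (hH : ∀ x ∈ RingHom.ker hom.toRingHom, H * x ∈ Ideal.span (Set.range f))
    (hf : ∀ j, hom (f j) = 0)
    (a : A) (N : ℕ) (hHa : hom H = a ^ (N + 1)) (a' : A)
    (ha : a = a' * hom (Matrix.det (Matrix.of fun j k : Fin c => pderiv (Fin.castLE hcn k) (f j)))) :
    Algebra.IsStandardSmooth R (Localization.Away a) := by
  classical
  -- the map `A → T`
  have hker : RingHom.ker hom.toRingHom ≤ RingHom.ker (toT f H).toRingHom := by
    intro x hx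
    have h1 := toT_span f H _ (hH x hx)
    rw [map_mul] at h1
    exact (toT_H_isUnit f H).mul_right_eq_zero.mp h1
  let φ : A →ₐ[R] T f H := AlgHom.liftOfSurjective hom surj (toT f H) hker
  have hφ : ∀ p, φ (hom p) = toT f H p := fun p => AlgHom.liftOfSurjective_apply _ _ _ _ p
  have hφaN : φ a ^ (N + 1) = toT f H H := by rw [← map_pow, ← hHa, hφ]
  have hφa : IsUnit (φ a) := by
    have : IsUnit (φ a ^ (N + 1)) := hφaN ▸ toT_H_isUnit f H
    exact (isUnit_pow_iff (Nat.succ_ne_zero N)).mp this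
  -- jacobian is a unit
  have hjac : IsUnit (Q hcn f H).jacobian := by
    rw [jacobian_eq, map_mul]
    refine IsUnit.mul ?_ (toT_H_isUnit f H)
    have h1 : φ a = φ a' * toT f H
        (Matrix.det (Matrix.of fun j k : Fin c => pderiv (Fin.castLE hcn k) (f j))) := by
      rw [← hφ, ← map_mul, ← ha]
    rw [h1] at hφa
    exact isUnit_of_mul_isUnit_right hφa
  have hT : Algebra.IsStandardSmooth R (T f H) :=
    Algebra.SubmersivePresentation.isStandardSmooth ⟨Q hcn f H, hjac⟩
  -- maps between `T` and `A_a`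
  let Aa := Localization.Away a
  let φ' : Aa →ₐ[R] T f H := IsLocalization.liftAlgHom (M := Submonoid.powers a) (f := φ) (by
    rintro ⟨_, k, rfl⟩
    simpa using hφa.pow k)
  have hφ' : ∀ x, φ' (algebraMap A Aa x) = φ x := fun x => by
    simp [φ', IsLocalization.liftAlgHom_apply]
  let inv : Aa := IsLocalization.Away.invSelf a
  have hinv : algebraMap A Aa a * inv = 1 := IsLocalization.Away.mul_invSelf a
  let g : MvPolynomial (Fin n ⊕ Unit) R →ₐ[R] Aa :=
    aeval (Sum.elim (fun i => algebraMap A Aa (hom (X i))) (fun _ => inv ^ (N + 1)))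
  have hg : ∀ p, g (rename Sum.inl p) = algebraMap A Aa (hom p) := by
    intro p
    have : (g.comp (rename Sum.inl)) = (IsScalarTower.toAlgHom R A Aa).comp hom := by
      apply MvPolynomial.algHom_ext
      intro i
      simp [g]
    exact AlgHom.congr_fun this p
  have hgv : ∀ x ∈ Ideal.span (Set.range (v f H)), g x = 0 := by
    intro x hx
    have : Ideal.span (Set.range (v f H)) ≤ RingHom.ker g.toRingHom := by
      rw [Ideal.span_le]
      rintro _ ⟨j | j, rfl⟩
      · show g (rename Sum.inl (f j)) = 0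
        rw [hg, hf, map_zero]
      · show g (X (Sum.inr ()) * rename Sum.inl H - 1) = 0
        rw [map_sub, map_mul, hg, hHa, map_one, map_pow]
        have : g (X (Sum.inr ())) = inv ^ (N + 1) := by simp [g]
        rw [this, ← mul_pow, mul_comm, hinv, one_pow, sub_self]
    exact this hx
  let ψ : T f H →ₐ[R] Aa := Ideal.Quotient.liftₐ _ g hgv
  have hψ : ∀ p, ψ (Ideal.Quotient.mk _ p) = g p := fun p => rfl
  have h1 : ψ.comp φ' = AlgHom.id R Aa := by
    apply IsLocalization.algHom_ext (Submonoid.powers a)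
    ext x
    obtain ⟨p, rfl⟩ := surj x
    simp only [AlgHom.coe_comp, Function.comp_apply, Algebra.algHom,
      AlgHom.coe_id, id]
    show ψ (φ' (algebraMap A Aa (hom p))) = algebraMap A Aa (hom p)
    rw [hφ', hφ, toT_apply, hψ, hg]
  have h2 : φ'.comp ψ = AlgHom.id R (T f H) := by
    apply Ideal.Quotient.algHom_ext
    apply MvPolynomial.algHom_ext
    rintro (i | u)
    · show φ' (ψ (Ideal.Quotient.mk _ (X (Sum.inl i)))) = Ideal.Quotient.mk _ (X (Sum.inl i))
      rw [hψ]
      have : g (X (Sum.inl i)) = algebraMap A Aa (hom (X i)) := by simp [g]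
      rw [this, hφ', hφ, toT_apply, rename_X]
    · show φ' (ψ (Ideal.Quotient.mk _ (X (Sum.inr u)))) = Ideal.Quotient.mk _ (X (Sum.inr u))
      rw [hψ]
      have : g (X (Sum.inr u)) = inv ^ (N + 1) := by simp [g]
      rw [this]
      -- both are inverses of `toT H`
      have e1 : φ' (inv ^ (N + 1)) * toT f H H = 1 := by
        rw [← hφaN, ← hφ', ← map_pow, ← map_mul, ← mul_pow, mul_comm inv, hinv, one_pow, map_one]
      have e2 := mk_X_mul f H
      calc φ' (inv ^ (N + 1)) = φ' (inv ^ (N + 1)) *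
            ((Ideal.Quotient.mk _ (X (Sum.inr ())) : T f H) * toT f H H) := by
              rw [toT_apply, e2, mul_one]
        _ = (φ' (inv ^ (N + 1)) * toT f H H) * Ideal.Quotient.mk _ (X (Sum.inr ())) := by ring
        _ = _ := by rw [e1, one_mul]
  exact Algebra.IsStandardSmooth.of_algEquiv (AlgEquiv.ofAlgHom ψ φ' h1 h2)


theorem isStandardSmooth_away_of_isElementaryStandard (a : A)
    (ha : Smoothing.IsElementaryStandard R A a) :
    Algebra.IsStandardSmooth R (Localization.Away a) := by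
  classical
  obtain ⟨P, ⟨a', ha'⟩, hk⟩ := ha
  obtain ⟨at', hat⟩ := P.surj a
  set I : Ideal (MvPolynomial (Fin P.n) R) := Ideal.span (Set.range P.rel) with hI
  let f : Fin P.c → MvPolynomial (Fin P.n) R := fun j => P.rel (Fin.castLE P.hcm j)
  set J : Ideal (MvPolynomial (Fin P.n) R) := Ideal.span (Set.range f) with hJ
  have himg : P.rel '' {j' : Fin P.m | (j' : ℕ) < P.c} = Set.range f := by
    ext x
    constructor
    · rintro ⟨j, hj, rfl⟩
      exact ⟨⟨j, hj⟩, by simp [f]⟩
    · rintro ⟨j, rfl⟩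
      exact ⟨Fin.castLE P.hcm j, by simp, rfl⟩
  have hJI : J ≤ I := Ideal.span_mono (by rintro _ ⟨j, rfl⟩; exact ⟨_, rfl⟩)
  have hIfg : I.FG := ⟨(Finset.univ.image P.rel), by simp [hI]⟩
  have ht : ∀ x ∈ I, at' * x ∈ J ⊔ I ^ 2 := by
    intro x hx
    refine Submodule.span_induction (p := fun x _ => at' * x ∈ J ⊔ I ^ 2) ?_ ?_ ?_ ?_ hx
    · rintro _ ⟨j, rfl⟩
      by_cases hj : (j : ℕ) < P.c
      · refine Ideal.mem_sup_left (Ideal.mul_mem_left _ _ (Ideal.subset_span ?_))
        exact ⟨⟨j, hj⟩, by simp [f]⟩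
      · have := hk at' hat j (not_lt.mp hj)
        rwa [himg] at this
    · simp
    · intro x y _ _ h1 h2
      rw [mul_add]; exact Ideal.add_mem _ h1 h2
    · intro r x _ h1
      rw [smul_eq_mul, mul_left_comm]; exact Ideal.mul_mem_left _ _ h1
  obtain ⟨d, h, hh, hhI⟩ := exists_mul_mem I J hJI hIfg at' ht
  have hker : RingHom.ker P.hom.toRingHom = I := P.ker_eq
  have hhom : P.hom h = a ^ d := by
    have : h - at' ^ d ∈ RingHom.ker P.hom.toRingHom := hker ▸ hh
    rw [RingHom.mem_ker] at this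
    have h2 : P.hom (h - at' ^ d) = 0 := this
    rw [map_sub, map_pow, hat, sub_eq_zero] at h2
    exact h2
  refine isStandardSmooth_away_aux P.hcn f (at' * h) P.hom P.surj ?_ ?_ a d ?_ a' ha'
  · intro x hx
    rw [hker] at hx
    rw [mul_assoc]
    exact Ideal.mul_mem_left _ _ (hhI x hx)
  · intro j
    have : f j ∈ RingHom.ker P.hom.toRingHom := by
      rw [hker]; exact Ideal.subset_span ⟨_, rfl⟩
    exact this
  · rw [map_mul, hat, hhom, pow_succ']

end Main

end Groth.Agent.Helper3.ElemStd
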