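import Mathlib
import Groth.Agent.Lib.Helper23.ExtBC

/-!
Contraction on the exterior algebra and a surjection `⋀^(r+d) M → ⋀^d Q` (helper3).
-/

set_option autoImplicit false

namespace Groth.Agent.Helper3.ExtDet1

open Groth.Agent.Helper23.ExtBC

variable {B : Type*} [CommRing B] {M : Type*} [AddCommGroup M] [Module B M]

/-- contraction on the exterior algebra -/
noncomputable def cl (d : Module.Dual B M) : ExteriorAlgebra B M →ₗ[B] ExteriorAlgebra B M :=
  CliffordAlgebra.contractLeft (Q := (0 : QuadraticForm B M)) d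

theorem cl_ι_mul (d : Module.Dual B M) (a : M) (b : ExteriorAlgebra B M) :
    cl d (ExteriorAlgebra.ι B a * b) = d a • b - ExteriorAlgebra.ι B a * cl d b :=
  CliffordAlgebra.contractLeft_ι_mul _ _ _

theorem cl_one (d : Module.Dual B M) : cl d (1 : ExteriorAlgebra B M) = 0 :=
  CliffordAlgebra.contractLeft_one _ _

/-- products of `ι`'s of vectors killed by `d` are killed by contraction -/
theorem cl_list_prod (d : Module.Dual B M) (l : List M) (h : ∀ v ∈ l, d v = 0) :
    cl d (l.map (ExteriorAlgebra.ι B)).prod = 0 := by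
  induction l with
  | nil => simp [cl_one]
  | cons v l ih =>
    rw [List.map_cons, List.prod_cons, cl_ι_mul, h v List.mem_cons_self, zero_smul,
      ih (fun u hu => h u (List.mem_cons_of_mem _ hu)), mul_zero, sub_zero]

/-- iterated contraction -/
noncomputable def Contr : (r : ℕ) → (Fin r → Module.Dual B M) →
    (ExteriorAlgebra B M →ₗ[B] ExteriorAlgebra B M)
  | 0, _ => LinearMap.id
  | r+1, ρ => (Contr r (Fin.tail ρ)).comp (cl (ρ 0))

theorem Contr_wedge : ∀ (r : ℕ) (ρ : Fin r → Module.Dual B M) (w : Fin r → M)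
    (_ : ∀ i j, ρ i (w j) = if i = j then 1 else 0) (l : List M)
    (_ : ∀ v ∈ l, ∀ i, ρ i v = 0),
    Contr r ρ (ExteriorAlgebra.ιMulti B r w * (l.map (ExteriorAlgebra.ι B)).prod) =
      (l.map (ExteriorAlgebra.ι B)).prod
  | 0, ρ, w, _, l, _ => by simp [Contr, ExteriorAlgebra.ιMulti_zero_apply]
  | r+1, ρ, w, hρw, l, hl => by
    rw [Contr, LinearMap.comp_apply, ExteriorAlgebra.ιMulti_succ_apply, mul_assoc, cl_ι_mul,
      hρw 0 0, if_pos rfl, one_smul]
    have h1 : ExteriorAlgebra.ιMulti B r (Matrix.vecTail w) * (l.map (ExteriorAlgebra.ι B)).prod =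
        ((List.ofFn (Matrix.vecTail w) ++ l).map (ExteriorAlgebra.ι B)).prod := by
      rw [List.map_append, List.prod_append, ExteriorAlgebra.ιMulti_apply, List.map_ofFn]
      rfl
    rw [h1, cl_list_prod, mul_zero, sub_zero, ← h1]
    · refine Contr_wedge r (Fin.tail ρ) (Matrix.vecTail w) ?_ l ?_
      · intro i j
        have := hρw i.succ j.succ
        simp only [Fin.succ_inj] at this
        exact this
      · intro v hv i
        exact hl v hv i.succ
    · intro v hv
      rcases List.mem_append.mp hv with h | h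
      · obtain ⟨j, rfl⟩ := (List.mem_ofFn' _ _).mp h
        rw [Matrix.vecTail, Function.comp_apply, hρw 0 j.succ, if_neg (Fin.succ_ne_zero j).symm]
      · exact hl v h 0

variable {Q : Type*} [AddCommGroup Q] [Module B Q]

/-- the map `⋀^(r+d) M → ⋀^d Q` -/
noncomputable def psi (r d : ℕ) (ρ : Fin r → Module.Dual B M) (π : M →ₗ[B] Q) :
    ⋀[B]^(r + d) M →ₗ[B] ⋀[B]^d Q :=
  (exteriorPower.map d π).comp ((retr d).comp ((Contr r ρ).comp (⋀[B]^(r + d) M).subtype))

theorem psi_surjective (r d : ℕ) (ρ : Fin r → Module.Dual B M) (π : M →ₗ[B] Q)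
    (hπ : Function.Surjective π) (w : Fin r → M)
    (hρw : ∀ i j, ρ i (w j) = if i = j then 1 else 0) (hπw : ∀ j, π (w j) = 0) :
    Function.Surjective (psi r d ρ π) := by
  rw [← LinearMap.range_eq_top, eq_top_iff, ← exteriorPower.ιMulti_span, Submodule.span_le]
  rintro _ ⟨q, rfl⟩
  choose m hm using fun i => hπ (q i)
  let m' : Fin d → M := fun i => m i - ∑ j, ρ j (m i) • w j
  have hm' : ∀ i, π (m' i) = q i := by
    intro i
    simp [m', hm, hπw]
  have hρm' : ∀ i j, ρ j (m' i) = 0 := by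
    intro i j
    simp only [m', map_sub, map_sum, map_smul, hρw, smul_eq_mul, mul_ite, mul_one, mul_zero,
      Finset.sum_ite_eq, Finset.mem_univ, if_true, sub_self]
  have hY : ExteriorAlgebra.ιMulti B r w * ExteriorAlgebra.ιMulti B d m' ∈ ⋀[B]^(r + d) M := by
    rw [ExteriorAlgebra.ιMulti_mul_ιMulti]
    exact ExteriorAlgebra.ιMulti_range B (r + d) ⟨_, rfl⟩
  refine ⟨⟨_, hY⟩, ?_⟩
  have h2 : ExteriorAlgebra.ιMulti B d m' = ((List.ofFn m').map (ExteriorAlgebra.ι B)).prod := by
    rw [ExteriorAlgebra.ιMulti_apply, List.map_ofFn]; rfl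
  have h3 : Contr r ρ (ExteriorAlgebra.ιMulti B r w * ExteriorAlgebra.ιMulti B d m') =
      ExteriorAlgebra.ιMulti B d m' := by
    rw [h2]
    apply Contr_wedge r ρ w hρw
    intro v hv i
    obtain ⟨j, rfl⟩ := (List.mem_ofFn' _ _).mp hv
    exact hρm' j i
  have h4 : retr d (ExteriorAlgebra.ιMulti B d m') = exteriorPower.ιMulti B d m' := by
    have := retr_coe d (exteriorPower.ιMulti B d m')
    rwa [exteriorPower.ιMulti_apply_coe] at this
  simp only [psi, LinearMap.comp_apply, Submodule.subtype_apply, h3, h4,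
    exteriorPower.map_apply_ιMulti]
  congr 1
  ext i
  exact hm' i

end Groth.Agent.Helper3.ExtDet1
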