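import Mathlib
import Groth.Agent.Lib.Helper3.ExtDet1

/-!
Ranks of exterior powers of projective modules; top exterior power of a stably trivial
quotient (helper3).
-/

set_option autoImplicit false
universe u v

namespace Groth.Agent.Helper3.ExtDet2

open Groth.Agent.Helper23.ExtBC TensorProduct Module

variable {B : Type u} [CommRing B]

section
variable {Q : Type v} [AddCommGroup Q] [Module B Q]

/-- exterior powers of f.g. projective modules are projective -/
theorem projective_extPow [Module.Finite B Q] [Module.Projective B Q] (d : ℕ) :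
    Module.Projective B (⋀[B]^d Q) := by
  obtain ⟨n, f, g, -, -, hfg⟩ := Module.Finite.exists_comp_eq_id_of_projective B Q
  exact Module.Projective.of_split (exteriorPower.map d g) (exteriorPower.map d f)
    (by rw [← exteriorPower.map_comp, hfg, exteriorPower.map_id])

/-- rank of an exterior power of a f.g. projective module -/
theorem rankAtStalk_extPow [Module.Finite B Q] [Module.Projective B Q] (d : ℕ)
    (p : PrimeSpectrum B) :
    rankAtStalk (R := B) (⋀[B]^d Q) p = Nat.choose (rankAtStalk (R := B) Q p) d := by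
  rw [rankAtStalk_eq_finrank_tensorProduct, rankAtStalk_eq_finrank_tensorProduct,
    (equivP (Localization.AtPrime p.asIdeal) d (A := B) (N := Q)).finrank_eq]
  haveI : Module.Free (Localization.AtPrime p.asIdeal) (Localization.AtPrime p.asIdeal ⊗[B] Q) :=
    Module.free_of_flat_of_isLocalRing
  exact exteriorPower.finrank_eq _ _

end

section Main
variable {M : Type v} [AddCommGroup M] [Module B M] {Q : Type v} [AddCommGroup Q] [Module B Q]

/-- the splitting `M ≃ Q × B^r` -/
theorem exists_equiv (r : ℕ) (π : M →ₗ[B] Q) (s : Q →ₗ[B] M) (hπs : ∀ q, π (s q) = q)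
    (w : Fin r → M) (ρ : Fin r → Module.Dual B M)
    (hρw : ∀ i j, ρ i (w j) = if i = j then 1 else 0) (hπw : ∀ j, π (w j) = 0)
    (hker : LinearMap.ker π ≤ Submodule.span B (Set.range w)) :
    Nonempty (M ≃ₗ[B] Q × (Fin r → B)) := by
  let e : M →ₗ[B] Q × (Fin r → B) := π.prod (LinearMap.pi ρ)
  refine ⟨LinearEquiv.ofBijective e ⟨?_, ?_⟩⟩
  · rw [← LinearMap.ker_eq_bot, eq_bot_iff]
    intro m hm
    have h1 : π m = 0 := congrArg Prod.fst hm
    have h2 : ∀ i, ρ i m = 0 := fun i => congrFun (congrArg Prod.snd hm) i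
    have h3 := hker h1
    obtain ⟨c, rfl⟩ := (Submodule.mem_span_range_iff_exists_fun B).mp h3
    have h4 : ∀ i, c i = 0 := by
      intro i
      have := h2 i
      simpa [map_sum, hρw] using this
    simp [h4]
  · rintro ⟨q, c⟩
    refine ⟨s q - ∑ j, ρ j (s q) • w j + ∑ j, c j • w j, ?_⟩
    ext
    · simp [e, hπs, hπw]
    · rename_i i
      simp [e, map_sum, hρw]

theorem main [Nontrivial B] [Module.Free B M] [Module.Finite B M] (r d : ℕ)
    (hM : Module.finrank B M = r + d)
    (π : M →ₗ[B] Q) (s : Q →ₗ[B] M) (hπs : ∀ q, π (s q) = q)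
    (w : Fin r → M) (ρ : Fin r → Module.Dual B M)
    (hρw : ∀ i j, ρ i (w j) = if i = j then 1 else 0) (hπw : ∀ j, π (w j) = 0)
    (hker : LinearMap.ker π ≤ Submodule.span B (Set.range w)) :
    Nonempty ((⋀[B]^d Q) ≃ₗ[B] B) := by
  have hπ : Function.Surjective π := fun q => ⟨s q, hπs q⟩
  haveI : Module.Finite B Q := Module.Finite.of_surjective π hπ
  haveI : Module.Projective B Q :=
    Module.Projective.of_split s π (LinearMap.ext hπs)
  obtain ⟨e⟩ := exists_equiv r π s hπs w ρ hρw hπw hker
  have hrankQ : ∀ p : PrimeSpectrum B, rankAtStalk (R := B) Q p = d := by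
    intro p
    have h1 := congrFun (rankAtStalk_eq_of_equiv (R := B) e) p
    rw [rankAtStalk_prod] at h1
    simp only [rankAtStalk_eq_finrank_of_free, Pi.add_apply, Pi.natCast_apply, hM,
      Module.finrank_pi, Fintype.card_fin] at h1
    have : (r : ℕ) + d = rankAtStalk (R := B) Q p + r := by exact_mod_cast h1
    omega
  haveI := projective_extPow (B := B) (Q := Q) d
  have hsurj := ExtDet1.psi_surjective r d ρ π hπ w hρw hπw
  have hbij : Function.Bijective (ExtDet1.psi r d ρ π) := by
    apply Module.bijective_of_surjective_of_rankAtStalk_eq hsurj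
    intro m hm
    rw [rankAtStalk_extPow, rankAtStalk_extPow, hrankQ, rankAtStalk_eq_finrank_of_free]
    simp [hM]
  have h1 : Module.finrank B (⋀[B]^(r + d) M) = 1 := by
    rw [exteriorPower.finrank_eq, hM, Nat.choose_self]
  obtain ⟨e1⟩ := Module.nonempty_linearEquiv_of_finrank_eq_one h1
  exact ⟨(LinearEquiv.ofBijective _ hbij).symm.trans e1.symm⟩

end Main

end Groth.Agent.Helper3.ExtDet2
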