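import Mathlib
import Groth.Prelude.Def_Grpd
import Groth.Agent.Lib.Helper18.GrpdOm
import Groth.Agent.Lib.Helper23.SigmaFinite

/-!
# The action groupoid of a group acting on a scheme (helper3)

For `ρ : G →* Aut X` the groupoid scheme `(X, ∐_G X, s, t, c)` over the terminal scheme, with
`s (g, x) = x`, `t (g, x) = g x`, `(g, x) ∘ (h, y) = (g h, y)` (when `x = h y`).
-/

set_option autoImplicit false
set_option linter.style.haveILetI false
set_option linter.unusedSectionVars false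
universe u

open CategoryTheory CategoryTheory.Limits AlgebraicGeometry
open Grpd

namespace Groth.Agent.Helper3.AG1

variable {X : Scheme.{u}} {G : Type u} [Group G] (ρ : G →* Aut X)

/-- `R = ∐_G X` -/
noncomputable abbrev RR (X : Scheme.{u}) (G : Type u) : Scheme.{u} := ∐ (fun _ : G => X)

/-- inclusion of the `g`-th copy -/
noncomputable def ι (g : G) : X ⟶ RR X G := Sigma.ι (fun _ : G => X) g

instance ι_isOpenImmersion (g : G) : IsOpenImmersion (ι (X := X) g) := by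
  unfold ι; infer_instance

/-- source -/
noncomputable def s : RR X G ⟶ X := Sigma.desc (fun _ => 𝟙 X)

/-- target -/
noncomputable def t : RR X G ⟶ X := Sigma.desc (fun g => (ρ g).hom)

@[reassoc] theorem ι_s (g : G) : ι g ≫ s (X := X) (G := G) = 𝟙 X := by
  unfold ι s; exact Sigma.ι_desc _ _

@[reassoc] theorem ι_t (g : G) : ι g ≫ t ρ = (ρ g).hom := by
  unfold ι t; exact Sigma.ι_desc _ _

/-- left translation on `R` -/
noncomputable def L (g : G) : RR X G ⟶ RR X G := Sigma.desc (fun h => ι (g * h))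

@[reassoc] theorem ι_L (g h : G) : ι h ≫ L (X := X) g = ι (g * h) := by
  unfold L; unfold ι; exact Sigma.ι_desc _ _

/-- inverse -/
noncomputable def inv : RR X G ⟶ RR X G := Sigma.desc (fun g => (ρ g).hom ≫ ι g⁻¹)

@[reassoc] theorem ι_inv (g : G) : ι g ≫ inv ρ = (ρ g).hom ≫ ι g⁻¹ := by
  unfold inv; unfold ι; exact Sigma.ι_desc _ _

theorem hom_ext_R {Z : Scheme.{u}} (f f' : RR X G ⟶ Z) (h : ∀ g : G, ι g ≫ f = ι g ≫ f') :
    f = f' := Sigma.hom_ext _ _ (fun g => h g)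

theorem ρ_mul_hom (g h : G) : (ρ (g * h)).hom = (ρ h).hom ≫ (ρ g).hom := by
  rw [map_mul]; rfl

theorem ρ_one_hom : (ρ 1).hom = 𝟙 X := by
  rw [map_one]; rfl

@[reassoc] theorem ρ_inv_comp (g : G) : (ρ g⁻¹).hom ≫ (ρ g).hom = 𝟙 X := by
  rw [← ρ_mul_hom, mul_inv_cancel, ρ_one_hom]

@[reassoc] theorem ρ_comp_inv (g : G) : (ρ g).hom ≫ (ρ g⁻¹).hom = 𝟙 X := by
  rw [← ρ_mul_hom, inv_mul_cancel, ρ_one_hom]

theorem exists_ι_eq (r : RR X G) : ∃ (g : G) (y : X), ι g y = r := by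
  obtain ⟨g, y, hy⟩ := (sigmaOpenCover (fun _ : G => X)).exists_eq r
  exact ⟨g, y, hy⟩

/-- locally a `T`-point of `R` lies in one copy -/
theorem exists_factor {T : Scheme.{u}} (α : T ⟶ RR X G) (x : T) :
    ∃ (g : G) (O : T.Opens) (a : O.toScheme ⟶ X), x ∈ O ∧ O.ι ≫ α = a ≫ ι g := by
  obtain ⟨g, y, hy⟩ := exists_ι_eq (α x)
  have hr : Set.range ((α ⁻¹ᵁ (ι (X := X) g).opensRange).ι ≫ α) ⊆ Set.range (ι (X := X) g) := by
    rintro _ ⟨z, rfl⟩
    have hz : α z.1 ∈ Set.range (ι (X := X) g) := z.2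
    rw [Scheme.Hom.comp_apply]
    exact hz
  exact ⟨g, α ⁻¹ᵁ (ι g).opensRange,
    IsOpenImmersion.lift (ι g) ((α ⁻¹ᵁ (ι (X := X) g).opensRange).ι ≫ α) hr, ⟨y, hy⟩,
    (IsOpenImmersion.lift_fac _ _ _).symm⟩

theorem exists_factor₂ {T : Scheme.{u}} (α β : T ⟶ RR X G) (x : T) :
    ∃ (g h : G) (O : T.Opens) (a b : O.toScheme ⟶ X), x ∈ O ∧ O.ι ≫ α = a ≫ ι g ∧
      O.ι ≫ β = b ≫ ι h := by
  obtain ⟨g, O₁, a, hx₁, ha⟩ := exists_factor α x
  obtain ⟨h, O₂, b, hx₂, hb⟩ := exists_factor β x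
  refine ⟨g, h, O₁ ⊓ O₂, T.homOfLE inf_le_left ≫ a, T.homOfLE inf_le_right ≫ b, ⟨hx₁, hx₂⟩,
    ?_, ?_⟩
  · rw [Category.assoc, ← ha, Scheme.homOfLE_ι_assoc]
  · rw [Category.assoc, ← hb, Scheme.homOfLE_ι_assoc]

theorem exists_factor₃ {T : Scheme.{u}} (α β γ : T ⟶ RR X G) (x : T) :
    ∃ (g h k : G) (O : T.Opens) (a b d : O.toScheme ⟶ X), x ∈ O ∧ O.ι ≫ α = a ≫ ι g ∧
      O.ι ≫ β = b ≫ ι h ∧ O.ι ≫ γ = d ≫ ι k := by
  obtain ⟨g, h, O₁, a, b, hx₁, ha, hb⟩ := exists_factor₂ α β x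
  obtain ⟨k, O₂, d, hx₂, hd⟩ := exists_factor γ x
  refine ⟨g, h, k, O₁ ⊓ O₂, T.homOfLE inf_le_left ≫ a, T.homOfLE inf_le_left ≫ b,
    T.homOfLE inf_le_right ≫ d, ⟨hx₁, hx₂⟩, ?_, ?_, ?_⟩
  · rw [Category.assoc, ← ha, Scheme.homOfLE_ι_assoc]
  · rw [Category.assoc, ← hb, Scheme.homOfLE_ι_assoc]
  · rw [Category.assoc, ← hd, Scheme.homOfLE_ι_assoc]

section Comp

/-- the open of `R ×_{s,t} R` where the first arrow lies in the `g`-th copy -/
noncomputable def Oc (g : G) : (pullback (s (X := X) (G := G)) (t ρ)).Opens :=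
  (pullback.fst (s (X := X) (G := G)) (t ρ)) ⁻¹ᵁ (ι (X := X) g).opensRange

theorem isOpenCover_Oc : TopologicalSpace.IsOpenCover (Oc ρ) := by
  apply eq_top_iff.mpr
  intro x _
  obtain ⟨g, y, hy⟩ := exists_ι_eq ((pullback.fst (s (X := X) (G := G)) (t ρ)) x)
  exact TopologicalSpace.Opens.mem_iSup.mpr ⟨g, ⟨y, hy⟩⟩

/-- the cover of `R ×_{s,t} R` by the copy of the first arrow -/
noncomputable def covP : (pullback (s (X := X) (G := G)) (t ρ)).OpenCover :=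
  (pullback (s (X := X) (G := G)) (t ρ)).openCoverOfIsOpenCover (Oc ρ) (isOpenCover_Oc ρ)

/-- composition on the `g`-th piece -/
noncomputable def cg (g : G) : (Oc ρ g).toScheme ⟶ RR X G :=
  (Oc ρ g).ι ≫ pullback.snd (s (X := X) (G := G)) (t ρ) ≫ L g

theorem cg_compat (g g' : G) :
    pullback.fst (Oc ρ g).ι (Oc ρ g').ι ≫ cg ρ g = pullback.snd (Oc ρ g).ι (Oc ρ g').ι ≫ cg ρ g' := by
  by_cases hgg : g = g'
  · subst hgg
    unfold cg
    rw [← Category.assoc, ← Category.assoc, pullback.condition]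
    simp only [Category.assoc]
  · apply Scheme.hom_ext_of_forall
    intro z
    exfalso
    have h1 : (pullback.fst (Oc ρ g).ι (Oc ρ g').ι ≫ (Oc ρ g).ι) z ∈ Oc ρ g := by
      rw [Scheme.Hom.comp_apply]
      exact ((pullback.fst (Oc ρ g).ι (Oc ρ g').ι) z).2
    have h2 : (pullback.fst (Oc ρ g).ι (Oc ρ g').ι ≫ (Oc ρ g).ι) z ∈ Oc ρ g' := by
      rw [pullback.condition, Scheme.Hom.comp_apply]
      exact ((pullback.snd (Oc ρ g).ι (Oc ρ g').ι) z).2
    exact ((disjoint_opensRange_sigmaι (fun _ : G => X) g g' hgg).le_bot ⟨h1, h2⟩).elim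

/-- composition -/
noncomputable def c : pullback (s (X := X) (G := G)) (t ρ) ⟶ RR X G :=
  (covP ρ).glueMorphisms (cg ρ) (cg_compat ρ)

theorem Oc_ι_c (g : G) : (Oc ρ g).ι ≫ c ρ = cg ρ g :=
  (covP ρ).ι_glueMorphisms (cg ρ) (cg_compat ρ) g

theorem lift_c {T : Scheme.{u}} (a b : T ⟶ X) (g h : G)
    (hc : (a ≫ ι g) ≫ s = (b ≫ ι h) ≫ t ρ) :
    pullback.lift (a ≫ ι g) (b ≫ ι h) hc ≫ c ρ = b ≫ ι (g * h) := by
  have hr : Set.range (pullback.lift (a ≫ ι g) (b ≫ ι h) hc) ⊆ Set.range (Oc ρ g).ι := by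
    rw [Scheme.Opens.range_ι]
    rintro _ ⟨z, rfl⟩
    show (pullback.fst (s (X := X) (G := G)) (t ρ))
      ((pullback.lift (a ≫ ι g) (b ≫ ι h) hc) z) ∈ Set.range (ι (X := X) g)
    rw [← Scheme.Hom.comp_apply, pullback.lift_fst, Scheme.Hom.comp_apply]
    exact ⟨a z, rfl⟩
  have hfac := IsOpenImmersion.lift_fac (Oc ρ g).ι (pullback.lift (a ≫ ι g) (b ≫ ι h) hc) hr
  rw [← hfac, Category.assoc, Oc_ι_c]
  unfold cg
  rw [← Category.assoc, ← Category.assoc, hfac, Category.assoc, ← Category.assoc _ _ (L g),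
    pullback.lift_snd, Category.assoc, ι_L]

theorem res_cmp {T : Scheme.{u}} (α β : T ⟶ RR X G) (hαβ : α ≫ s = β ≫ t ρ) (O : T.Opens)
    (a b : O.toScheme ⟶ X) (g h : G) (ha : O.ι ≫ α = a ≫ ι g) (hb : O.ι ≫ β = b ≫ ι h) :
    O.ι ≫ pullback.lift α β hαβ ≫ c ρ = b ≫ ι (g * h) := by
  have hc : (a ≫ ι g) ≫ s = (b ≫ ι h) ≫ t ρ := by
    rw [← ha, ← hb, Category.assoc, Category.assoc, hαβ]
  have h1 : O.ι ≫ pullback.lift α β hαβ = pullback.lift (a ≫ ι g) (b ≫ ι h) hc := by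
    apply pullback.hom_ext
    · rw [Category.assoc, pullback.lift_fst, pullback.lift_fst, ha]
    · rw [Category.assoc, pullback.lift_snd, pullback.lift_snd, hb]
  rw [← Category.assoc, h1, lift_c]

theorem cond_eq {T : Scheme.{u}} (a b : T ⟶ X) (g h : G)
    (hc : (a ≫ ι g) ≫ s = (b ≫ ι h) ≫ t ρ) : a = b ≫ (ρ h).hom := by
  rw [Category.assoc, ι_s, Category.comp_id, Category.assoc, ι_t] at hc
  exact hc

end Comp

/-- The action groupoid. -/
@[reducible] noncomputable def act : GroupoidScheme (⊤_ Scheme.{u}) where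
  U := X
  R := RR X G
  pU := terminal.from X
  pR := terminal.from (RR X G)
  s := s
  t := t ρ
  e := ι 1
  i := inv ρ
  c := c ρ
  s_over := terminal.hom_ext _ _
  t_over := terminal.hom_ext _ _
  comp_s := fun {T} α β h => by
    apply Scheme.hom_ext_of_forall
    intro x
    obtain ⟨g, h', O, a, b, hx, ha, hb⟩ := exists_factor₂ α β x
    refine ⟨O, hx, ?_⟩
    have e := res_cmp ρ α β h O a b g h' ha hb
    calc O.ι ≫ (pullback.lift α β h ≫ c ρ) ≫ s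
        = (O.ι ≫ pullback.lift α β h ≫ c ρ) ≫ s := by simp only [Category.assoc]
      _ = b := by rw [e, Category.assoc, ι_s, Category.comp_id]
      _ = (b ≫ ι h') ≫ s := by rw [Category.assoc, ι_s, Category.comp_id]
      _ = O.ι ≫ β ≫ s := by rw [← hb, Category.assoc]
  comp_t := fun {T} α β h => by
    apply Scheme.hom_ext_of_forall
    intro x
    obtain ⟨g, h', O, a, b, hx, ha, hb⟩ := exists_factor₂ α β x
    refine ⟨O, hx, ?_⟩
    have e := res_cmp ρ α β h O a b g h' ha hb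
    have hc : (a ≫ ι g) ≫ s = (b ≫ ι h') ≫ t ρ := by
      rw [← ha, ← hb, Category.assoc, Category.assoc, h]
    have hab := cond_eq ρ a b g h' hc
    calc O.ι ≫ (pullback.lift α β h ≫ c ρ) ≫ t ρ
        = (O.ι ≫ pullback.lift α β h ≫ c ρ) ≫ t ρ := by simp only [Category.assoc]
      _ = b ≫ (ρ h').hom ≫ (ρ g).hom := by rw [e, Category.assoc, ι_t, ρ_mul_hom]
      _ = (a ≫ ι g) ≫ t ρ := by rw [Category.assoc, ι_t, hab, Category.assoc]
      _ = O.ι ≫ α ≫ t ρ := by rw [← ha, Category.assoc]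
  assoc := fun {T} α β γ h₁ h₂ => by
    apply Scheme.hom_ext_of_forall
    intro x
    obtain ⟨g, h, k, O, a, b, d, hx, ha, hb, hd⟩ := exists_factor₃ α β γ x
    refine ⟨O, hx, ?_⟩
    have e1 := res_cmp ρ α β h₁ O a b g h ha hb
    have e2 := res_cmp ρ β γ h₂ O b d h k hb hd
    rw [res_cmp ρ _ γ _ O b d (g * h) k e1 hd, res_cmp ρ α _ _ O a d g (h * k) ha e2, mul_assoc]
  e_s := ι_s 1
  e_t := (ι_t ρ 1).trans (ρ_one_hom ρ)
  comp_e := fun {T} α => by
    apply Scheme.hom_ext_of_forall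
    intro x
    obtain ⟨g, O, a, hx, ha⟩ := exists_factor α x
    refine ⟨O, hx, ?_⟩
    have hb : O.ι ≫ α ≫ s ≫ ι (1 : G) = a ≫ ι (1 : G) := by
      rw [← Category.assoc, ha, Category.assoc, ι_s_assoc]
    rw [res_cmp ρ α _ _ O a a g (1 : G) ha hb, mul_one, ha]
  e_comp := fun {T} α => by
    apply Scheme.hom_ext_of_forall
    intro x
    obtain ⟨g, O, a, hx, ha⟩ := exists_factor α x
    refine ⟨O, hx, ?_⟩
    have hb : O.ι ≫ α ≫ t ρ ≫ ι (1 : G) = (a ≫ (ρ g).hom) ≫ ι (1 : G) := by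
      rw [← Category.assoc, ha]
      simp only [Category.assoc, ι_t_assoc]
    rw [res_cmp ρ _ α _ O (a ≫ (ρ g).hom) a (1 : G) g hb ha, one_mul, ha]
  i_s := by
    apply hom_ext_R
    intro g
    rw [ι_inv_assoc, ι_s, Category.comp_id, ι_t]
  i_t := by
    apply hom_ext_R
    intro g
    rw [ι_inv_assoc, ι_t, ρ_comp_inv, ι_s]
  comp_i := fun {T} α => by
    apply Scheme.hom_ext_of_forall
    intro x
    obtain ⟨g, O, a, hx, ha⟩ := exists_factor α x
    refine ⟨O, hx, ?_⟩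
    have hb : O.ι ≫ α ≫ inv ρ = (a ≫ (ρ g).hom) ≫ ι g⁻¹ := by
      rw [← Category.assoc, ha]
      simp only [Category.assoc, ι_inv]
    rw [res_cmp ρ α _ _ O a (a ≫ (ρ g).hom) g g⁻¹ ha hb, mul_inv_cancel, ← Category.assoc O.ι α,
      ha]
    simp only [Category.assoc, ι_t_assoc]
  i_comp := fun {T} α => by
    apply Scheme.hom_ext_of_forall
    intro x
    obtain ⟨g, O, a, hx, ha⟩ := exists_factor α x
    refine ⟨O, hx, ?_⟩
    have hb : O.ι ≫ α ≫ inv ρ = (a ≫ (ρ g).hom) ≫ ι g⁻¹ := by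
      rw [← Category.assoc, ha]
      simp only [Category.assoc, ι_inv]
    rw [res_cmp ρ _ α _ O (a ≫ (ρ g).hom) a g⁻¹ g hb ha, inv_mul_cancel, ← Category.assoc O.ι α,
      ha]
    simp only [Category.assoc, ι_s_assoc]

instance act_s_isFinite [Finite G] : IsFinite (act ρ).s :=
  Groth.Agent.Helper23.SigmaFinite.isFinite_sigmaDesc (fun _ : G => X) (fun _ => 𝟙 X)

instance act_s_flat : Flat (act ρ).s := by
  show Flat (Sigma.desc (fun _ : G => 𝟙 X))
  infer_instance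

instance act_s_lfp : LocallyOfFinitePresentation (act ρ).s := by
  show LocallyOfFinitePresentation (Sigma.desc (fun _ : G => 𝟙 X))
  exact IsZariskiLocalAtSource.sigmaDesc (fun _ => inferInstance)

/-- points of `R` -/
theorem rel_iff (x y : X) :
    (∃ r : (act ρ).R, (act ρ).t r = x ∧ (act ρ).s r = y) ↔ ∃ g : G, (ρ g).hom y = x := by
  constructor
  · rintro ⟨r, rfl, rfl⟩
    obtain ⟨g, y, rfl⟩ := exists_ι_eq r
    refine ⟨g, ?_⟩
    show (ρ g).hom (s (ι g y)) = t ρ (ι g y)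
    rw [← Scheme.Hom.comp_apply, ← Scheme.Hom.comp_apply, ← Scheme.Hom.comp_apply, ι_s_assoc, ι_t]
  · rintro ⟨g, rfl⟩
    refine ⟨ι g y, ?_, ?_⟩
    · show t ρ (ι g y) = (ρ g).hom y
      rw [← Scheme.Hom.comp_apply, ι_t]
    · show s (ι g y) = y
      rw [← Scheme.Hom.comp_apply, ι_s]
      rfl

end Groth.Agent.Helper3.AG1
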