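import Mathlib
import Groth.Agent.Lib.Helper3.GrpdFib

/-!
# Ring-level lemmas for the global quotient by a finite locally free groupoid (helper3)

* `dvd_det_Mm`, `det_Mm_mem_iff`: the "norm" `det (Mm i r b)` lies in a prime `p` of `A` iff `b`
  lies in some prime of `B` over `p`.
* `isLocalization_eqLocus`: invariants commute with localization at an invariant element.
-/

set_option autoImplicit false
set_option linter.style.haveILetI false
universe u

open Polynomial

namespace Groth.Agent.Helper3.GQ0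

open Groth.Agent.Helper3.GrpdFib Groth.Agent.Lib.Helper18.IntInv

section Norm

variable {A : Type*} [CommRing A] {B : Type*} [CommRing B] [Algebra A B] {n : ℕ}
  (i : B →ₗ[A] (Fin n → A)) (r : (Fin n → A) →ₗ[A] B)

theorem dvd_det_Mm (hri : r ∘ₗ i = LinearMap.id) (b : B) :
    b ∣ algebraMap A B (LinearMap.det (Mm i r b)) := by
  obtain ⟨χ, hχ⟩ : ∃ χ : A[X], χ = mchar i r (LinearMap.mulLeft A (1 - b)) := ⟨_, rfl⟩
  have hCH : aeval (LinearMap.mulLeft A (1 - b)) χ = 0 := by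
    rw [hχ]
    exact aeval_mchar i r hri _
  have hB : Polynomial.eval₂ (algebraMap A B) (1 - b) χ = 0 := by
    have h3 : aeval (1 - b) χ = 0 := by
      have h4 : LinearMap.mulLeft A (1 - b) = Algebra.lmul A B (1 - b) := rfl
      rw [h4, Polynomial.aeval_algHom_apply] at hCH
      have := congrArg (fun φ => φ 1) hCH
      simpa using this
    exact h3
  have h1 : χ.eval 1 = LinearMap.det (Mm i r b) := by
    rw [hχ]
    exact eval_one_mchar i r b
  have h2 := Polynomial.sub_dvd_eval_sub (1 : B) (1 - b) (χ.map (algebraMap A B))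
  rw [Polynomial.eval_map, Polynomial.eval_map, hB, sub_zero, sub_sub_cancel,
    Polynomial.eval₂_at_one, h1] at h2
  exact h2

theorem det_Mm_mem_iff (hri : r ∘ₗ i = LinearMap.id) (p : Ideal A) [p.IsPrime] (b : B) :
    LinearMap.det (Mm i r b) ∈ p ↔
      ∃ q : Ideal B, q.IsPrime ∧ q.comap (algebraMap A B) = p ∧ b ∈ q := by
  constructor
  · intro h
    by_contra hne
    push Not at hne
    have hri' : ∀ x, r (i x) = x := fun x => by
      have := congrArg (fun φ => φ x) hri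
      simpa using this
    exact det_Mm_not_mem i r hri' p b (fun q hq hqp hb => hne q hq hqp hb) h
  · rintro ⟨q, hq, hqp, hb⟩
    obtain ⟨d, hd⟩ := dvd_det_Mm i r hri b
    rw [← hqp, Ideal.mem_comap, hd]
    exact q.mul_mem_right _ hb

end Norm

section Loc

variable {A A' B B' : Type*} [CommRing A] [CommRing A'] [CommRing B] [CommRing B']
  (σ τ : A →+* B) (σ' τ' : A' →+* B') (φ : A →+* A') (ψ : B →+* B')
  (hσ : ∀ a, σ' (φ a) = ψ (σ a)) (hτ : ∀ a, τ' (φ a) = ψ (τ a))

/-- restriction of invariants -/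
def resEq : RingHom.eqLocus σ τ →+* RingHom.eqLocus σ' τ' :=
  (φ.comp (RingHom.eqLocus σ τ).subtype).codRestrict (RingHom.eqLocus σ' τ') (fun x => by
    show σ' (φ x.1) = τ' (φ x.1)
    rw [hσ, hτ]
    exact congrArg ψ x.2)

theorem resEq_coe (x : RingHom.eqLocus σ τ) :
    ((resEq σ τ σ' τ' φ ψ hσ hτ x : RingHom.eqLocus σ' τ') : A') = φ x.1 := rfl

theorem isLocalization_eqLocus (g : A) (hg : σ g = τ g)
    (hA : letI := φ.toAlgebra; IsLocalization.Away g A')
    (hB : letI := ψ.toAlgebra; IsLocalization.Away (σ g) B') :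
    letI := (resEq σ τ σ' τ' φ ψ hσ hτ).toAlgebra
    IsLocalization.Away (⟨g, hg⟩ : RingHom.eqLocus σ τ) (RingHom.eqLocus σ' τ') := by
  letI := φ.toAlgebra
  letI := ψ.toAlgebra
  letI := (resEq σ τ σ' τ' φ ψ hσ hτ).toAlgebra
  haveI : IsLocalization.Away g A' := hA
  haveI : IsLocalization.Away (σ g) B' := hB
  have hφ : ∀ a, algebraMap A A' a = φ a := fun a => rfl
  obtain ⟨u, hu⟩ := IsLocalization.map_units A' (⟨g, Submonoid.mem_powers g⟩ : Submonoid.powers g)
  have hu' : (u : A') = φ g := hu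
  have hv : σ' ((u⁻¹ : A'ˣ) : A') = τ' ((u⁻¹ : A'ˣ) : A') := by
    have h3 : σ' (φ g) = τ' (φ g) := by rw [hσ, hτ, hg]
    have h1 : σ' ((u⁻¹ : A'ˣ) : A') * σ' (φ g) = 1 := by
      rw [← map_mul, ← hu', Units.inv_mul, map_one]
    have h2 : σ' (φ g) * τ' ((u⁻¹ : A'ˣ) : A') = 1 := by
      rw [h3, ← map_mul, ← hu', Units.mul_inv, map_one]
    exact left_inv_eq_right_inv h1 h2
  have hunit : IsUnit (algebraMap (RingHom.eqLocus σ τ) (RingHom.eqLocus σ' τ') ⟨g, hg⟩) := by
    rw [isUnit_iff_exists_inv]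
    refine ⟨⟨((u⁻¹ : A'ˣ) : A'), hv⟩, Subtype.ext ?_⟩
    show φ g * ((u⁻¹ : A'ˣ) : A') = 1
    rw [← hu', Units.mul_inv]
  show IsLocalization (Submonoid.powers (⟨g, hg⟩ : RingHom.eqLocus σ τ)) (RingHom.eqLocus σ' τ')
  rw [isLocalization_iff]
  refine ⟨?_, ?_, ?_⟩
  · rintro ⟨_, k, rfl⟩
    rw [map_pow]
    exact hunit.pow k
  · intro z
    obtain ⟨⟨a, ⟨_, k, rfl⟩⟩, ha⟩ := IsLocalization.surj (Submonoid.powers g) (z : A')
    have ha' : (z : A') * φ g ^ k = φ a := by
      have := ha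
      simp only [hφ, map_pow] at this
      exact this
    have hz : σ' (z : A') = τ' (z : A') := z.2
    have h1 : algebraMap B B' (σ a - τ a) = 0 := by
      show ψ (σ a - τ a) = 0
      rw [map_sub, ← hσ, ← hτ, ← ha', map_mul, map_mul, map_pow, map_pow, hz, hσ, hτ, hg,
        sub_self]
    obtain ⟨⟨_, m, rfl⟩, hm⟩ :=
      (IsLocalization.map_eq_zero_iff (Submonoid.powers (σ g)) B' _).mp h1
    have hm' : σ g ^ m * σ a = σ g ^ m * τ a := by
      have h2 : σ g ^ m * (σ a - τ a) = 0 := hm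
      rw [mul_sub, sub_eq_zero] at h2
      exact h2
    have hmem : σ (g ^ m * a) = τ (g ^ m * a) := by
      rw [map_mul, map_mul, map_pow, map_pow, hm', hg]
    refine ⟨(⟨g ^ m * a, hmem⟩, ⟨(⟨g, hg⟩ : RingHom.eqLocus σ τ) ^ (m + k), m + k, rfl⟩),
      Subtype.ext ?_⟩
    show (z : A') * φ (g ^ (m + k)) = φ (g ^ m * a)
    rw [map_pow, pow_add, map_mul, map_pow, ← ha']
    ring
  · intro x y hxy
    have h1 : algebraMap A A' x.1 = algebraMap A A' y.1 := congrArg Subtype.val hxy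
    obtain ⟨⟨_, k, rfl⟩, hk⟩ := (IsLocalization.eq_iff_exists (Submonoid.powers g) A').mp h1
    refine ⟨⟨(⟨g, hg⟩ : RingHom.eqLocus σ τ) ^ k, k, rfl⟩, Subtype.ext ?_⟩
    show g ^ k * x.1 = g ^ k * y.1
    exact hk

end Loc

end Groth.Agent.Helper3.GQ0
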