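import Mathlib
import Groth.Prelude.Def_Grpd
import Groth.Agent.Lib.Helper18.GrpdOm
import Groth.Agent.Lib.Helper18.GrpdRank
import Groth.Agent.Lib.Helper18.GrpdFin

/-!
# Restriction of a groupoid scheme to an invariant open (helper3)
-/

set_option autoImplicit false
set_option linter.style.haveILetI false
universe u

open CategoryTheory CategoryTheory.Limits AlgebraicGeometry
open Grpd

namespace Groth.Agent.Helper3.GQ1

open Groth.Agent.Helper18.GrpdOm

variable {S : Scheme.{u}} (G : GroupoidScheme S)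

theorem mem_iff_of_inv {O : G.U.Opens} (hO : G.s ⁻¹ᵁ O = G.t ⁻¹ᵁ O) (r : G.R) :
    G.s r ∈ O ↔ G.t r ∈ O := by
  show r ∈ G.s ⁻¹ᵁ O ↔ r ∈ G.t ⁻¹ᵁ O
  rw [hO]

theorem inv_of_forall {O : G.U.Opens} (h : ∀ r : G.R, G.s r ∈ O ↔ G.t r ∈ O) :
    G.s ⁻¹ᵁ O = G.t ⁻¹ᵁ O :=
  TopologicalSpace.Opens.ext (Set.ext fun r => h r)

section Restr

variable (O : G.U.Opens) (hO : G.s ⁻¹ᵁ O = G.t ⁻¹ᵁ O)

/-- the arrows over `O` -/
abbrev RO : G.R.Opens := G.s ⁻¹ᵁ O

noncomputable def sO : (RO G O).toScheme ⟶ O.toScheme := G.s.resLE O (RO G O) le_rfl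

include hO in
theorem le_t : RO G O ≤ G.t ⁻¹ᵁ O := le_of_eq hO

noncomputable def tO : (RO G O).toScheme ⟶ O.toScheme := G.t.resLE O (RO G O) (le_t G O hO)

theorem le_e : O ≤ G.e ⁻¹ᵁ (RO G O) := fun x hx => by
  show G.s (G.e x) ∈ O
  rw [← Scheme.Hom.comp_apply, G.e_s]
  simpa using hx

noncomputable def eO : O.toScheme ⟶ (RO G O).toScheme := G.e.resLE (RO G O) O (le_e G O)

include hO in
theorem le_i : RO G O ≤ G.i ⁻¹ᵁ (RO G O) := fun r hr => by
  show G.s (G.i r) ∈ O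
  rw [← Scheme.Hom.comp_apply, G.i_s]
  exact (mem_iff_of_inv G hO r).1 hr

noncomputable def iO : (RO G O).toScheme ⟶ (RO G O).toScheme :=
  G.i.resLE (RO G O) (RO G O) (le_i G O hO)

@[reassoc]
theorem sO_ι : sO G O ≫ O.ι = (RO G O).ι ≫ G.s := Scheme.Hom.resLE_comp_ι _ _

@[reassoc]
theorem tO_ι : tO G O hO ≫ O.ι = (RO G O).ι ≫ G.t := Scheme.Hom.resLE_comp_ι _ _

@[reassoc]
theorem eO_ι : eO G O ≫ (RO G O).ι = O.ι ≫ G.e := Scheme.Hom.resLE_comp_ι _ _

@[reassoc]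
theorem iO_ι : iO G O hO ≫ (RO G O).ι = (RO G O).ι ≫ G.i := Scheme.Hom.resLE_comp_ι _ _

theorem hc_aux : (pullback.fst (sO G O) (tO G O hO) ≫ (RO G O).ι) ≫ G.s =
    (pullback.snd (sO G O) (tO G O hO) ≫ (RO G O).ι) ≫ G.t := by
  rw [Category.assoc, ← sO_ι, Category.assoc, ← tO_ι G O hO, ← Category.assoc, ← Category.assoc,
    pullback.condition]

theorem range_aux : Set.range (cmp G _ _ (hc_aux G O hO)) ⊆ Set.range (RO G O).ι := by
  rw [Scheme.Opens.range_ι]
  rintro _ ⟨x, rfl⟩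
  show G.s ((cmp G _ _ (hc_aux G O hO)) x) ∈ O
  rw [← Scheme.Hom.comp_apply, cmp_s, Category.assoc, ← sO_ι, ← Category.assoc,
    Scheme.Hom.comp_apply]
  exact ((pullback.snd _ _ ≫ sO G O) x).2

noncomputable def cO : pullback (sO G O) (tO G O hO) ⟶ (RO G O).toScheme :=
  IsOpenImmersion.lift (RO G O).ι (cmp G _ _ (hc_aux G O hO)) (range_aux G O hO)

theorem cO_ι : cO G O hO ≫ (RO G O).ι = cmp G _ _ (hc_aux G O hO) :=
  IsOpenImmersion.lift_fac _ _ _

theorem comp_ι_s {T : Scheme.{u}} (γ : T ⟶ (RO G O).toScheme) :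
    (γ ≫ sO G O) ≫ O.ι = (γ ≫ (RO G O).ι) ≫ G.s := by
  rw [Category.assoc, sO_ι, Category.assoc]

theorem comp_ι_t {T : Scheme.{u}} (γ : T ⟶ (RO G O).toScheme) :
    (γ ≫ tO G O hO) ≫ O.ι = (γ ≫ (RO G O).ι) ≫ G.t := by
  rw [Category.assoc, tO_ι, Category.assoc]

theorem h_aux {T : Scheme.{u}} (α β : T ⟶ (RO G O).toScheme)
    (h : α ≫ sO G O = β ≫ tO G O hO) :
    (α ≫ (RO G O).ι) ≫ G.s = (β ≫ (RO G O).ι) ≫ G.t := by
  rw [← comp_ι_s, ← comp_ι_t G O hO, h]

theorem lift_cO {T : Scheme.{u}} (α β : T ⟶ (RO G O).toScheme)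
    (h : α ≫ sO G O = β ≫ tO G O hO) :
    (pullback.lift α β h ≫ cO G O hO) ≫ (RO G O).ι =
      cmp G (α ≫ (RO G O).ι) (β ≫ (RO G O).ι) (h_aux G O hO α β h) := by
  rw [Category.assoc, cO_ι, precomp_cmp]
  exact cmp_congr G _ (by rw [← Category.assoc, pullback.lift_fst])
    (by rw [← Category.assoc, pullback.lift_snd])

/-- The restriction of the groupoid to an invariant open. -/
@[reducible] noncomputable def restr : GroupoidScheme S where
  U := O.toScheme
  R := (RO G O).toScheme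
  pU := O.ι ≫ G.pU
  pR := (RO G O).ι ≫ G.pR
  s := sO G O
  t := tO G O hO
  e := eO G O
  i := iO G O hO
  c := cO G O hO
  s_over := by rw [← Category.assoc, sO_ι, Category.assoc, G.s_over]
  t_over := by rw [← Category.assoc, tO_ι, Category.assoc, G.t_over]
  comp_s := fun α β h => by
    apply (cancel_mono O.ι).1
    rw [comp_ι_s, comp_ι_s, lift_cO]
    exact cmp_s G _ _ _
  comp_t := fun α β h => by
    apply (cancel_mono O.ι).1
    rw [comp_ι_t, comp_ι_t, lift_cO]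
    exact cmp_t G _ _ _
  assoc := fun α β γ h₁ h₂ => by
    apply (cancel_mono (RO G O).ι).1
    refine (lift_cO G O hO _ _ _).trans ?_
    refine Eq.trans ?_ (lift_cO G O hO _ _ _).symm
    refine (cmp_congr G _ (lift_cO G O hO α β h₁) rfl).trans ?_
    refine Eq.trans ?_ (cmp_congr G _ rfl (lift_cO G O hO β γ h₂)).symm
    exact cmp_assoc G _ _ _ _ _
  e_s := by
    apply (cancel_mono O.ι).1
    rw [comp_ι_s, eO_ι, Category.assoc, G.e_s, Category.comp_id, Category.id_comp]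
  e_t := by
    apply (cancel_mono O.ι).1
    rw [comp_ι_t, eO_ι, Category.assoc, G.e_t, Category.comp_id, Category.id_comp]
  comp_e := fun α => by
    apply (cancel_mono (RO G O).ι).1
    rw [lift_cO]
    have hβ : (α ≫ sO G O ≫ eO G O) ≫ (RO G O).ι = (α ≫ (RO G O).ι) ≫ G.s ≫ G.e := by
      simp only [Category.assoc, eO_ι, sO_ι_assoc]
    exact (cmp_congr G _ rfl hβ).trans (cmp_e G _)
  e_comp := fun α => by
    apply (cancel_mono (RO G O).ι).1
    rw [lift_cO]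
    have hα : (α ≫ tO G O hO ≫ eO G O) ≫ (RO G O).ι = (α ≫ (RO G O).ι) ≫ G.t ≫ G.e := by
      simp only [Category.assoc, eO_ι, tO_ι_assoc]
    exact (cmp_congr G _ hα rfl).trans (e_cmp G _)
  i_s := by
    apply (cancel_mono O.ι).1
    rw [comp_ι_s, iO_ι, Category.assoc, G.i_s, tO_ι]
  i_t := by
    apply (cancel_mono O.ι).1
    rw [comp_ι_t, iO_ι, Category.assoc, G.i_t, sO_ι]
  comp_i := fun α => by
    apply (cancel_mono (RO G O).ι).1
    rw [lift_cO]
    have h1 : (α ≫ iO G O hO) ≫ (RO G O).ι = (α ≫ (RO G O).ι) ≫ G.i := by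
      simp only [Category.assoc, iO_ι]
    have h2 : (α ≫ tO G O hO ≫ eO G O) ≫ (RO G O).ι = (α ≫ (RO G O).ι) ≫ G.t ≫ G.e := by
      simp only [Category.assoc, eO_ι, tO_ι_assoc]
    exact ((cmp_congr G _ rfl h1).trans (cmp_i G _)).trans h2.symm
  i_comp := fun α => by
    apply (cancel_mono (RO G O).ι).1
    rw [lift_cO]
    have h1 : (α ≫ iO G O hO) ≫ (RO G O).ι = (α ≫ (RO G O).ι) ≫ G.i := by
      simp only [Category.assoc, iO_ι]
    have h2 : (α ≫ sO G O ≫ eO G O) ≫ (RO G O).ι = (α ≫ (RO G O).ι) ≫ G.s ≫ G.e := by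
      simp only [Category.assoc, eO_ι, sO_ι_assoc]
    exact ((cmp_congr G _ h1 rfl).trans (i_cmp G _)).trans h2.symm

@[reassoc]
theorem restr_s_ι : (restr G O hO).s ≫ O.ι = (RO G O).ι ≫ G.s := sO_ι G O

@[reassoc]
theorem restr_t_ι : (restr G O hO).t ≫ O.ι = (RO G O).ι ≫ G.t := tO_ι G O hO

theorem restr_s_apply (r : (RO G O).toScheme) : ((restr G O hO).s r).1 = G.s r.1 :=
  Scheme.Hom.coe_resLE_apply _ _ _

theorem restr_t_apply (r : (RO G O).toScheme) : ((restr G O hO).t r).1 = G.t r.1 :=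
  Scheme.Hom.coe_resLE_apply _ _ _

instance sO_isFinite [IsFinite G.s] : IsFinite (sO G O) := by
  show IsFinite (G.s.resLE O (G.s ⁻¹ᵁ O) le_rfl)
  rw [Scheme.Hom.resLE_eq_morphismRestrict]
  exact IsZariskiLocalAtTarget.restrict ‹_› O

instance sO_flat [Flat G.s] : Flat (sO G O) := by
  show Flat (G.s.resLE O (G.s ⁻¹ᵁ O) le_rfl)
  rw [Scheme.Hom.resLE_eq_morphismRestrict]
  exact IsZariskiLocalAtTarget.restrict ‹_› O

instance sO_lfp [LocallyOfFinitePresentation G.s] : LocallyOfFinitePresentation (sO G O) := by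
  show LocallyOfFinitePresentation (G.s.resLE O (G.s ⁻¹ᵁ O) le_rfl)
  rw [Scheme.Hom.resLE_eq_morphismRestrict]
  exact IsZariskiLocalAtTarget.restrict ‹_› O

theorem sO_apply (r : (RO G O).toScheme) : (sO G O r).1 = G.s r.1 :=
  Scheme.Hom.coe_resLE_apply _ _ _

instance restr_s_isFinite [IsFinite G.s] : IsFinite (restr G O hO).s := by
  show IsFinite (G.s.resLE O (G.s ⁻¹ᵁ O) le_rfl)
  rw [Scheme.Hom.resLE_eq_morphismRestrict]
  exact IsZariskiLocalAtTarget.restrict ‹_› O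

instance restr_s_flat [Flat G.s] : Flat (restr G O hO).s := by
  show Flat (G.s.resLE O (G.s ⁻¹ᵁ O) le_rfl)
  rw [Scheme.Hom.resLE_eq_morphismRestrict]
  exact IsZariskiLocalAtTarget.restrict ‹_› O

instance restr_s_lfp [LocallyOfFinitePresentation G.s] :
    LocallyOfFinitePresentation (restr G O hO).s := by
  show LocallyOfFinitePresentation (G.s.resLE O (G.s ⁻¹ᵁ O) le_rfl)
  rw [Scheme.Hom.resLE_eq_morphismRestrict]
  exact IsZariskiLocalAtTarget.restrict ‹_› O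

end Restr

section T

variable (G' : GroupoidScheme S)

open Groth.Agent.Helper18.GrpdRank

theorem t_isFinite [IsFinite G'.s] : IsFinite G'.t := by
  rw [← G'.i_s]
  infer_instance

theorem t_flat [Flat G'.s] : Flat G'.t := by
  rw [← G'.i_s]
  infer_instance

theorem t_lfp [LocallyOfFinitePresentation G'.s] : LocallyOfFinitePresentation G'.t := by
  rw [← G'.i_s]
  infer_instance

/-- `Mono j` in terms of `t` and `s`. -/
theorem eq_of_mono_j [Mono G'.j] {T : Scheme.{u}} (a b : T ⟶ G'.R) (ht : a ≫ G'.t = b ≫ G'.t)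
    (hs : a ≫ G'.s = b ≫ G'.s) : a = b := by
  apply (cancel_mono G'.j).1
  apply pullback.hom_ext
  · simp only [Category.assoc, GroupoidScheme.j, pullback.lift_fst, ht]
  · simp only [Category.assoc, GroupoidScheme.j, pullback.lift_snd, hs]

theorem mono_j_of_forall
    (h : ∀ {T : Scheme.{u}} (a b : T ⟶ G'.R), a ≫ G'.t = b ≫ G'.t → a ≫ G'.s = b ≫ G'.s → a = b) :
    Mono G'.j := by
  constructor
  intro T a b hab
  apply h
  · have := congrArg (fun φ => φ ≫ pullback.fst G'.pU G'.pU) hab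
    simpa only [Category.assoc, GroupoidScheme.j, pullback.lift_fst] using this
  · have := congrArg (fun φ => φ ≫ pullback.snd G'.pU G'.pU) hab
    simpa only [Category.assoc, GroupoidScheme.j, pullback.lift_snd] using this

end T

section More

variable (O : G.U.Opens) (hO : G.s ⁻¹ᵁ O = G.t ⁻¹ᵁ O)

instance restr_mono_j [Mono G.j] : Mono (restr G O hO).j := by
  apply mono_j_of_forall
  intro T a b ht hs
  apply (cancel_mono (RO G O).ι).1
  apply eq_of_mono_j G
  · have := congrArg (fun φ : T ⟶ (restr G O hO).U => φ ≫ O.ι) ht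
    simpa only [Category.assoc, restr_t_ι, tO_ι] using this
  · have := congrArg (fun φ : T ⟶ (restr G O hO).U => φ ≫ O.ι) hs
    simpa only [Category.assoc, restr_s_ι, sO_ι] using this

theorem RO_mono {O' O : G.U.Opens} (h : O' ≤ O) : RO G O' ≤ RO G O := fun _ hr => h hr

@[reassoc]
theorem homOfLE_s {O' : G.U.Opens} (h : O' ≤ O) (hO' : G.s ⁻¹ᵁ O' = G.t ⁻¹ᵁ O') :
    G.R.homOfLE (RO_mono G h) ≫ (restr G O hO).s = (restr G O' hO').s ≫ G.U.homOfLE h := by
  apply (cancel_mono O.ι).1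
  simp only [Category.assoc, restr_s_ι, sO_ι, Scheme.homOfLE_ι, Scheme.homOfLE_ι_assoc]

@[reassoc]
theorem homOfLE_t {O' : G.U.Opens} (h : O' ≤ O) (hO' : G.s ⁻¹ᵁ O' = G.t ⁻¹ᵁ O') :
    G.R.homOfLE (RO_mono G h) ≫ (restr G O hO).t = (restr G O' hO').t ≫ G.U.homOfLE h := by
  apply (cancel_mono O.ι).1
  simp only [Category.assoc, restr_t_ι, tO_ι, Scheme.homOfLE_ι, Scheme.homOfLE_ι_assoc]

/-- orbit relation for the restricted groupoid -/
theorem restr_rel_iff (u u' : O.toScheme) :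
    (∃ r : (restr G O hO).R, (restr G O hO).t r = u ∧ (restr G O hO).s r = u') ↔
      ∃ r : G.R, G.t r = u.1 ∧ G.s r = u'.1 := by
  constructor
  · rintro ⟨r, rfl, rfl⟩
    exact ⟨r.1, (restr_t_apply G O hO r).symm, (restr_s_apply G O hO r).symm⟩
  · rintro ⟨r, h1, h2⟩
    have hr : r ∈ RO G O := by
      show G.s r ∈ O
      rw [h2]
      exact u'.2
    refine ⟨⟨r, hr⟩, Subtype.ext ?_, Subtype.ext ?_⟩
    · rw [restr_t_apply]
      exact h1
    · rw [restr_s_apply]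
      exact h2

end More

end Groth.Agent.Helper3.GQ1
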