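import Mathlib
import Groth.Prelude.Def_Grpd
import Groth.Agent.Lib.Helper18.IntInv
import Groth.Agent.Lib.Helper18.GrpdNorm
import Groth.Agent.Lib.Helper3.GrpdFib

/-!
# The quotient map `U → Spec C` of a finite locally free groupoid with `U`, `R` affine (helper3)

`main` = S1878: surjectivity, fibres = orbits, and the same on points with values in an
algebraically closed field.
-/

set_option autoImplicit false
set_option linter.style.haveILetI false
universe u

open CategoryTheory CategoryTheory.Limits AlgebraicGeometry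
open Grpd

namespace Groth.Agent.Helper3.GrpdFibSch

open Groth.Agent.Helper3.GrpdFib

theorem eq_of_toSpecΓ_eq {X : Scheme.{u}} [IsAffine X] {a b : X}
    (h : X.toSpecΓ a = X.toSpecΓ b) : a = b := by
  have ha : X.isoSpec.inv (X.toSpecΓ a) = a := by
    rw [← Scheme.Hom.comp_apply, Scheme.toSpecΓ_isoSpec_inv]
    rfl
  have hb : X.isoSpec.inv (X.toSpecΓ b) = b := by
    rw [← Scheme.Hom.comp_apply, Scheme.toSpecΓ_isoSpec_inv]
    rfl
  rw [← ha, ← hb, h]

theorem toSpecΓ_isoSpec_inv_apply {X : Scheme.{u}} [IsAffine X] (y : Spec Γ(X, ⊤)) :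
    X.toSpecΓ (X.isoSpec.inv y) = y := by
  rw [← Scheme.Hom.comp_apply, Scheme.isoSpec_inv_toSpecΓ]
  rfl

theorem toSpecΓ_apply {X Y : Scheme.{u}} (h : X ⟶ Y) (x : X) :
    Y.toSpecΓ (h x) = (Spec.map h.appTop) (X.toSpecΓ x) := by
  rw [← Scheme.Hom.comp_apply, Scheme.toSpecΓ_naturality, Scheme.Hom.comp_apply]

variable {S : Scheme.{u}} (G : Grpd.GroupoidScheme S)

/-- `t` and `s` agree after composing with the quotient map. -/
theorem t_toQuot : G.t ≫ G.toQuot = G.s ≫ G.toQuot := by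
  unfold GroupoidScheme.toQuot
  rw [← Category.assoc, ← Category.assoc, Scheme.toSpecΓ_naturality, Scheme.toSpecΓ_naturality,
    Category.assoc, Category.assoc, ← Spec.map_comp, ← Spec.map_comp]
  congr 2
  apply CommRingCat.hom_ext
  apply RingHom.ext
  rintro ⟨x, hx⟩
  exact hx.symm

theorem spec_comp_toQuot [IsAffine G.U] {K : CommRingCat.{u}} (x : Spec K ⟶ G.U) :
    x ≫ G.toQuot = Spec.map (CommRingCat.ofHom G.invariants.subtype ≫
      Spec.preimage (x ≫ G.U.isoSpec.hom)) := by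
  unfold GroupoidScheme.toQuot
  rw [Spec.map_comp, Spec.map_preimage, Category.assoc, Scheme.isoSpec_hom]

theorem spec_eq [IsAffine G.U] {K : CommRingCat.{u}} (x : Spec K ⟶ G.U) :
    x = Spec.map (Spec.preimage (x ≫ G.U.isoSpec.hom)) ≫ G.U.isoSpec.inv := by
  rw [Spec.map_preimage, Category.assoc, Iso.hom_inv_id, Category.comp_id]

/-- **S1878**. -/
theorem main (S : Scheme.{u}) (G : Grpd.GroupoidScheme S) [IsAffine G.U] [IsAffine G.R]
    [IsFinite G.s] [Flat G.s] [LocallyOfFinitePresentation G.s] [IsFinite G.t] [Flat G.t]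
    [LocallyOfFinitePresentation G.t] :
    (Function.Surjective G.toQuot ∧ ∀ u₀ u₁ : G.U, G.toQuot u₀ = G.toQuot u₁ ↔
      ∃ r : G.R, G.t r = u₀ ∧ G.s r = u₁) ∧
    ∀ (k : Type u) [Field k] [IsAlgClosed k],
      (∀ m : Spec (CommRingCat.of k) ⟶ Spec (CommRingCat.of G.invariants),
        ∃ x : Spec (CommRingCat.of k) ⟶ G.U, x ≫ G.toQuot = m) ∧
      ∀ x₀ x₁ : Spec (CommRingCat.of k) ⟶ G.U, x₀ ≫ G.toQuot = x₁ ≫ G.toQuot ↔
        ∃ r : Spec (CommRingCat.of k) ⟶ G.R, r ≫ G.t = x₀ ∧ r ≫ G.s = x₁ := by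
  letI := G.s.appTop.hom.toAlgebra
  haveI hfin : Module.Finite Γ(G.U, ⊤) Γ(G.R, ⊤) := G.s.finite_appTop
  haveI hflat : Module.Flat Γ(G.U, ⊤) Γ(G.R, ⊤) := G.s.flat_appTop
  haveI hfp : Algebra.FinitePresentation Γ(G.U, ⊤) Γ(G.R, ⊤) := G.s.finitePresentation_appTop
  haveI : Module.FinitePresentation Γ(G.U, ⊤) Γ(G.R, ⊤) :=
    Module.FinitePresentation.of_finite_of_finitePresentation _ _
  haveI : Module.Projective Γ(G.U, ⊤) Γ(G.R, ⊤) := Module.Flat.projective_of_finitePresentation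
  have hes : ∀ a, G.e.appTop.hom (algebraMap Γ(G.U, ⊤) Γ(G.R, ⊤) a) = a := by
    intro a
    have h2 := congrArg (fun φ => φ.appTop.hom a) G.e_s
    simp only [Scheme.Hom.comp_appTop] at h2
    exact h2.trans (by simp)
  have het : ∀ a, G.e.appTop.hom (G.t.appTop.hom a) = a := by
    intro a
    have h2 := congrArg (fun φ => φ.appTop.hom a) G.e_t
    simp only [Scheme.Hom.comp_appTop] at h2
    exact h2.trans (by simp)
  have hct : ∀ a, G.c.appTop.hom (G.t.appTop.hom a) =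
      (pullback.fst G.s G.t).appTop.hom (G.t.appTop.hom a) := by
    intro a
    have h1 : G.c ≫ G.t = pullback.fst G.s G.t ≫ G.t := by
      rw [Groth.Agent.Helper18.GrpdOm.c_eq, Groth.Agent.Helper18.GrpdOm.cmp_t]
    have h2 := congrArg (fun φ => φ.appTop.hom a) h1
    simp only [Scheme.Hom.comp_appTop] at h2
    exact h2
  have hsq_t : IsPushout (CommRingCat.ofHom G.t.appTop.hom)
      (CommRingCat.ofHom (algebraMap Γ(G.U, ⊤) Γ(G.R, ⊤)))
      (CommRingCat.ofHom (pullback.snd G.s G.t).appTop.hom)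
      (CommRingCat.ofHom (pullback.fst G.s G.t).appTop.hom) :=
    (isPushout_appTop_of_isPullback (IsPullback.of_hasPullback G.s G.t)).flip
  have hsq_s : IsPushout (CommRingCat.ofHom (algebraMap Γ(G.U, ⊤) Γ(G.R, ⊤)))
      (CommRingCat.ofHom (algebraMap Γ(G.U, ⊤) Γ(G.R, ⊤)))
      (CommRingCat.ofHom (pullback.snd G.s G.t).appTop.hom)
      (CommRingCat.ofHom G.c.appTop.hom) :=
    (isPushout_appTop_of_isPullback (Groth.Agent.Helper18.GrpdNorm.isPullback_c' G)).flip
  have hRG : RG G.t.appTop.hom G.e.appTop.hom (pullback.fst G.s G.t).appTop.hom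
      (pullback.snd G.s G.t).appTop.hom G.c.appTop.hom := ⟨hes, het, hct, hsq_t, hsq_s⟩
  haveI hint : Algebra.IsIntegral G.invariants Γ(G.U, ⊤) :=
    ⟨fun f => Groth.Agent.Lib.Helper18.IntInv.isIntegral_of_groupoid G.t.appTop.hom
      G.e.appTop.hom (pullback.fst G.s G.t).appTop.hom (pullback.snd G.s G.t).appTop.hom
      G.c.appTop.hom hes het hct hsq_t hsq_s f⟩
  have hinj : Function.Injective (algebraMap G.invariants Γ(G.U, ⊤)) := Subtype.val_injective
  refine ⟨⟨?_, ?_⟩, ?_⟩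
  · -- surjectivity
    intro m
    haveI : FaithfulSMul G.invariants Γ(G.U, ⊤) :=
      (faithfulSMul_iff_algebraMap_injective _ _).mpr hinj
    obtain ⟨y, hy⟩ := Algebra.IsIntegral.comap_surjective G.invariants Γ(G.U, ⊤) m
    refine ⟨G.U.isoSpec.inv y, ?_⟩
    show (G.U.toSpecΓ ≫ Spec.map (CommRingCat.ofHom G.invariants.subtype)) (G.U.isoSpec.inv y) = m
    rw [Scheme.Hom.comp_apply, toSpecΓ_isoSpec_inv_apply]
    exact hy
  · -- fibres
    intro u₀ u₁
    constructor
    · intro hq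
      haveI : ((G.U.toSpecΓ u₀ : PrimeSpectrum Γ(G.U, ⊤)).asIdeal).IsPrime :=
        (G.U.toSpecΓ u₀ : PrimeSpectrum Γ(G.U, ⊤)).isPrime
      haveI : ((G.U.toSpecΓ u₁ : PrimeSpectrum Γ(G.U, ⊤)).asIdeal).IsPrime :=
        (G.U.toSpecΓ u₁ : PrimeSpectrum Γ(G.U, ⊤)).isPrime
      have hP : ∀ x ∈ RingHom.eqLocus (algebraMap Γ(G.U, ⊤) Γ(G.R, ⊤)) G.t.appTop.hom,
          x ∈ (G.U.toSpecΓ u₀ : PrimeSpectrum Γ(G.U, ⊤)).asIdeal ↔
            x ∈ (G.U.toSpecΓ u₁ : PrimeSpectrum Γ(G.U, ⊤)).asIdeal := by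
        intro x hx
        have h1 := congrArg PrimeSpectrum.asIdeal hq
        exact Ideal.ext_iff.mp h1 ⟨x, hx⟩
      obtain ⟨q, hqp, hq1, hq0⟩ := hRG.exists_prime _ _ hP
      refine ⟨G.R.isoSpec.inv (⟨q, hqp⟩ : PrimeSpectrum Γ(G.R, ⊤)), ?_, ?_⟩
      · apply eq_of_toSpecΓ_eq
        rw [toSpecΓ_apply, toSpecΓ_isoSpec_inv_apply]
        exact PrimeSpectrum.ext hq0
      · apply eq_of_toSpecΓ_eq
        rw [toSpecΓ_apply, toSpecΓ_isoSpec_inv_apply]
        exact PrimeSpectrum.ext hq1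
    · rintro ⟨r, rfl, rfl⟩
      rw [← Scheme.Hom.comp_apply, ← Scheme.Hom.comp_apply, t_toQuot]
  · intro k _ _
    refine ⟨?_, ?_⟩
    · intro m
      obtain ⟨ψ, hψ⟩ := exists_extension (C' := G.invariants) (A := Γ(G.U, ⊤)) hinj k
        (Spec.preimage m).hom
      refine ⟨Spec.map (CommRingCat.ofHom ψ) ≫ G.U.isoSpec.inv, ?_⟩
      unfold GroupoidScheme.toQuot
      rw [Category.assoc, Scheme.isoSpec_inv_toSpecΓ_assoc, ← Spec.map_comp]
      have h1 : CommRingCat.ofHom G.invariants.subtype ≫ CommRingCat.ofHom ψ =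
          Spec.preimage m := by
        apply CommRingCat.hom_ext
        exact hψ
      rw [h1, Spec.map_preimage]
    · intro x₀ x₁
      constructor
      · intro hx
        rw [spec_comp_toQuot, spec_comp_toQuot] at hx
        have h2 := Spec.map_injective hx
        have hφ : ∀ x ∈ RingHom.eqLocus (algebraMap Γ(G.U, ⊤) Γ(G.R, ⊤)) G.t.appTop.hom,
            (Spec.preimage (x₀ ≫ G.U.isoSpec.hom)).hom x =
              (Spec.preimage (x₁ ≫ G.U.isoSpec.hom)).hom x := by
          intro x hxm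
          exact congrArg (fun f => f.hom ⟨x, hxm⟩) h2
        obtain ⟨ψ, hψt, hψs⟩ := hRG.exists_point k _ _ hφ
        refine ⟨Spec.map (CommRingCat.ofHom ψ) ≫ G.R.isoSpec.inv, ?_, ?_⟩
        · rw [Category.assoc, ← Scheme.isoSpec_inv_naturality, ← Category.assoc, ← Spec.map_comp]
          conv_rhs => rw [spec_eq G x₀]
          congr 2
          apply CommRingCat.hom_ext
          exact hψt
        · rw [Category.assoc, ← Scheme.isoSpec_inv_naturality, ← Category.assoc, ← Spec.map_comp]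
          conv_rhs => rw [spec_eq G x₁]
          congr 2
          apply CommRingCat.hom_ext
          exact hψs
      · rintro ⟨r, rfl, rfl⟩
        rw [Category.assoc, Category.assoc, t_toQuot]

end Groth.Agent.Helper3.GrpdFibSch
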