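import Mathlib
import Groth.Prelude.Def_Grpd
import Groth.Agent.Lib.Helper3.GQ0
import Groth.Agent.Lib.Helper3.GQ1
import Groth.Agent.Lib.Helper3.GrpdFibSch
import Groth.Agent.Lib.Helper16.Sch.AffFin

/-!
# Invariant affine open neighbourhoods for a finite locally free groupoid (helper3)

`exists_inv_affine`: if the orbit of `x` lies in an affine open then every invariant open
neighbourhood of `x` contains an invariant affine open neighbourhood of `x`.
-/

set_option autoImplicit false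
set_option linter.style.haveILetI false
universe u

open CategoryTheory CategoryTheory.Limits AlgebraicGeometry
open Grpd

namespace Groth.Agent.Helper3.GQ2

open Groth.Agent.Helper3.GQ1 Groth.Agent.Helper3.GQ0 Groth.Agent.Helper3.GrpdFib
  Groth.Agent.Helper3.GrpdFibSch

variable {S : Scheme.{u}} (G : GroupoidScheme S)

/-- the largest invariant subset of `D` -/
def core (D : Set G.U) : Set G.U := {u | ∀ r : G.R, G.s r = u → G.t r ∈ D}

theorem core_subset (D : Set G.U) : core G D ⊆ D := fun u hu => by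
  have h1 : G.s (G.e u) = u := by
    rw [← Scheme.Hom.comp_apply, G.e_s]; rfl
  have h2 : G.t (G.e u) = u := by
    rw [← Scheme.Hom.comp_apply, G.e_t]; rfl
  have := hu (G.e u) h1
  rwa [h2] at this

theorem s_mem_core_iff (D : Set G.U) (r : G.R) : G.s r ∈ core G D ↔ G.t r ∈ core G D := by
  constructor
  · intro h r₁ hr₁
    obtain ⟨r₂, h2s, h2t⟩ := Groth.Agent.Helper18.GrpdFin.exists_comp G r r₁ hr₁
    rw [← h2t]
    exact h r₂ h2s
  · intro h r₁ hr₁
    have hi_s : G.s (G.i r) = G.t r := by rw [← Scheme.Hom.comp_apply, G.i_s]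
    have hi_t : G.t (G.i r) = G.s r := by rw [← Scheme.Hom.comp_apply, G.i_t]
    obtain ⟨r₂, h2s, h2t⟩ := Groth.Agent.Helper18.GrpdFin.exists_comp G (G.i r) r₁
      (by rw [hr₁, hi_t])
    rw [← h2t]
    exact h r₂ (h2s.trans hi_s)

theorem isOpen_core [IsFinite G.s] (D : Set G.U) (hD : IsOpen D) : IsOpen (core G D) := by
  have h : core G D = (G.s '' (G.t ⁻¹' Dᶜ))ᶜ := by
    ext u
    simp only [core, Set.mem_ofPred_eq, Set.mem_compl_iff, Set.mem_image, Set.mem_preimage,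
      not_exists, not_and]
    constructor
    · intro h r hr hs
      exact hr (h r hs)
    · intro h r hs
      by_contra hr
      exact h r hr hs
  rw [h]
  exact (G.s.isClosedMap _ (hD.isClosed_compl.preimage G.t.continuous)).isOpen_compl

/-- the largest invariant open inside `D` -/
def coreO [IsFinite G.s] (D : G.U.Opens) : G.U.Opens := ⟨core G D, isOpen_core G D D.2⟩

theorem mem_coreO [IsFinite G.s] (D : G.U.Opens) (u : G.U) :
    u ∈ coreO G D ↔ ∀ r : G.R, G.s r = u → G.t r ∈ D := Iff.rfl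

theorem coreO_inv [IsFinite G.s] (D : G.U.Opens) : G.s ⁻¹ᵁ coreO G D = G.t ⁻¹ᵁ coreO G D :=
  inv_of_forall G (fun r => s_mem_core_iff G D r)

theorem coreO_le [IsFinite G.s] (D : G.U.Opens) : coreO G D ≤ D := core_subset G D

/-- prime avoidance on an affine scheme -/
theorem exists_basicOpen_of_finite {X : Scheme.{u}} [IsAffine X] (Q : X.Opens) (P : Set X)
    (hP : P.Finite) (hPQ : ∀ x ∈ P, x ∈ Q) :
    ∃ f : Γ(X, ⊤), (∀ x ∈ P, x ∈ X.basicOpen f) ∧ X.basicOpen f ≤ Q := by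
  classical
  have hid : ∀ x : X, X.isoSpec.inv (X.isoSpec.hom x) = x := fun x => by
    rw [← Scheme.Hom.comp_apply, Iso.hom_inv_id]; rfl
  obtain ⟨g, hg1, hg2⟩ := Groth.Agent.Helper16.AffFin.exists_basicOpen_of_finset Γ(X, ⊤)
    (X.isoSpec.inv ⁻¹ᵁ Q) (hP.toFinset.image (fun x => X.isoSpec.hom x)) (by
      intro y hy
      obtain ⟨x, hx, rfl⟩ := Finset.mem_image.mp hy
      rw [Set.Finite.mem_toFinset] at hx
      show X.isoSpec.inv (X.isoSpec.hom x) ∈ Q
      rw [hid]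
      exact hPQ x hx)
  refine ⟨g, ?_, ?_⟩
  · intro x hx
    have h1 := hg1 (X.isoSpec.hom x)
      (Finset.mem_image.mpr ⟨x, (Set.Finite.mem_toFinset _).mpr hx, rfl⟩)
    rw [← Scheme.toSpecΓ_preimage_basicOpen]
    show X.toSpecΓ x ∈ PrimeSpectrum.basicOpen g
    rw [← Scheme.isoSpec_hom]
    exact h1
  · intro x hx
    rw [← Scheme.toSpecΓ_preimage_basicOpen] at hx
    have hx' : X.isoSpec.hom x ∈ PrimeSpectrum.basicOpen g := by
      rw [Scheme.isoSpec_hom]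
      exact hx
    have h2 : X.isoSpec.inv (X.isoSpec.hom x) ∈ Q := hg2 _ hx'
    rwa [hid] at h2

theorem mem_basicOpen_iff {X : Scheme.{u}} (a : Γ(X, ⊤)) (x : X) :
    x ∈ X.basicOpen a ↔ a ∉ (X.toSpecΓ x : PrimeSpectrum Γ(X, ⊤)).asIdeal := by
  rw [← Scheme.toSpecΓ_preimage_basicOpen]
  exact Iff.rfl

section Norm

variable [IsFinite G.s] [Flat G.s] [LocallyOfFinitePresentation G.s]

/-- The largest invariant open inside a suitable affine basic open is affine (it is the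
non-vanishing locus of a norm). -/
theorem isAffineOpen_coreO (V : G.U.Opens) (f' : Γ(V.toScheme, ⊤)) (D : G.U.Opens)
    (hDdef : D = V.ι ''ᵁ (V.toScheme.basicOpen f')) (hD : IsAffineOpen D)
    (hle : G.s ⁻¹ᵁ D ≤ G.t ⁻¹ᵁ V) : IsAffineOpen (coreO G D) := by
  haveI : IsAffine D.toScheme := hD
  haveI hD' : IsAffine (RO G D).toScheme := hD.preimage G.s
  obtain ⟨τ, hτ⟩ : ∃ τ : (RO G D).toScheme ⟶ V.toScheme, τ = G.t.resLE V (G.s ⁻¹ᵁ D) hle :=
    ⟨_, rfl⟩
  have hτa : ∀ r' : (RO G D).toScheme, (τ r').1 = G.t r'.1 := fun r' => by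
    rw [hτ]
    exact Scheme.Hom.coe_resLE_apply _ _ _
  letI := (sO G D).appTop.hom.toAlgebra
  haveI hfin : Module.Finite Γ(D.toScheme, ⊤) Γ((RO G D).toScheme, ⊤) := (sO G D).finite_appTop
  haveI hflat : Module.Flat Γ(D.toScheme, ⊤) Γ((RO G D).toScheme, ⊤) := (sO G D).flat_appTop
  haveI hfp : Algebra.FinitePresentation Γ(D.toScheme, ⊤) Γ((RO G D).toScheme, ⊤) :=
    (sO G D).finitePresentation_appTop
  haveI : Module.FinitePresentation Γ(D.toScheme, ⊤) Γ((RO G D).toScheme, ⊤) :=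
    Module.FinitePresentation.of_finite_of_finitePresentation _ _
  haveI : Module.Projective Γ(D.toScheme, ⊤) Γ((RO G D).toScheme, ⊤) :=
    Module.Flat.projective_of_finitePresentation
  obtain ⟨n, r, i, -, -, hri⟩ :=
    Module.Finite.exists_comp_eq_id_of_projective Γ(D.toScheme, ⊤) Γ((RO G D).toScheme, ⊤)
  obtain ⟨b, hb⟩ : ∃ b : Γ((RO G D).toScheme, ⊤), b = τ.appTop.hom f' := ⟨_, rfl⟩
  obtain ⟨Nm, hNm⟩ : ∃ Nm : Γ(D.toScheme, ⊤), Nm = LinearMap.det (Mm i r b) := ⟨_, rfl⟩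
  -- membership of `t r` in `D` in terms of `b`
  have hDmem : ∀ v : V.toScheme, v.1 ∈ D ↔ v ∈ V.toScheme.basicOpen f' := by
    intro v
    rw [hDdef]
    exact Scheme.Opens.mem_ι_image_iff V
  have hbD : ∀ r' : (RO G D).toScheme, G.t r'.1 ∈ D ↔
      b ∉ ((RO G D).toScheme.toSpecΓ r' : PrimeSpectrum Γ((RO G D).toScheme, ⊤)).asIdeal := by
    intro r'
    have h1 : τ ⁻¹ᵁ V.toScheme.basicOpen f' = (RO G D).toScheme.basicOpen (τ.appTop.hom f') :=
      Scheme.preimage_basicOpen_top τ f'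
    rw [← hτa r', hDmem, ← mem_basicOpen_iff, hb, ← h1]
    exact Iff.rfl
  -- primes over
  have hcomap : ∀ r' : (RO G D).toScheme,
      ((RO G D).toScheme.toSpecΓ r' : PrimeSpectrum Γ((RO G D).toScheme, ⊤)).asIdeal.comap
        (algebraMap Γ(D.toScheme, ⊤) Γ((RO G D).toScheme, ⊤)) =
      (D.toScheme.toSpecΓ (sO G D r') : PrimeSpectrum Γ(D.toScheme, ⊤)).asIdeal := by
    intro r'
    have h1 := toSpecΓ_apply (sO G D) r'
    exact (congrArg PrimeSpectrum.asIdeal h1).symm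
  have key : ∀ u : G.U, u ∈ D.ι ''ᵁ (D.toScheme.basicOpen Nm) ↔ u ∈ coreO G D := by
    intro u
    constructor
    · rintro ⟨y, hy, rfl⟩
      have hy' : Nm ∉ (D.toScheme.toSpecΓ y : PrimeSpectrum Γ(D.toScheme, ⊤)).asIdeal :=
        (mem_basicOpen_iff Nm y).1 hy
      intro r₀ hr₀
      have hrD : r₀ ∈ RO G D := by
        show G.s r₀ ∈ D
        rw [hr₀]
        exact y.2
      have hσ : sO G D ⟨r₀, hrD⟩ = y := Subtype.ext ((sO_apply G D ⟨r₀, hrD⟩).trans hr₀)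
      by_contra hnot
      have hbq := (hbD ⟨r₀, hrD⟩).not.1 hnot
      rw [not_not] at hbq
      apply hy'
      rw [hNm]
      haveI := ((RO G D).toScheme.toSpecΓ ⟨r₀, hrD⟩ :
        PrimeSpectrum Γ((RO G D).toScheme, ⊤)).isPrime
      haveI := (D.toScheme.toSpecΓ y : PrimeSpectrum Γ(D.toScheme, ⊤)).isPrime
      refine (det_Mm_mem_iff i r hri _ b).2 ⟨_, inferInstance, ?_, hbq⟩
      rw [hcomap, hσ]
    · intro hu
      have huD : u ∈ D := coreO_le G D hu
      refine ⟨⟨u, huD⟩, ?_, rfl⟩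
      refine (mem_basicOpen_iff Nm (⟨u, huD⟩ : D.toScheme)).2 ?_
      intro hmem
      haveI := (D.toScheme.toSpecΓ ⟨u, huD⟩ : PrimeSpectrum Γ(D.toScheme, ⊤)).isPrime
      rw [hNm] at hmem
      obtain ⟨q, hq, hqp, hbq⟩ := (det_Mm_mem_iff i r hri _ b).1 hmem
      obtain ⟨r', hr'⟩ : ∃ r' : (RO G D).toScheme, (RO G D).toScheme.toSpecΓ r' =
          (⟨q, hq⟩ : PrimeSpectrum Γ((RO G D).toScheme, ⊤)) :=
        ⟨(RO G D).toScheme.isoSpec.inv (⟨q, hq⟩ : PrimeSpectrum Γ((RO G D).toScheme, ⊤)),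
          toSpecΓ_isoSpec_inv_apply _⟩
      have hσ : sO G D r' = ⟨u, huD⟩ := by
        apply eq_of_toSpecΓ_eq
        apply PrimeSpectrum.ext
        rw [← hcomap, hr']
        exact hqp
      have hsr : G.s r'.1 = u := by
        rw [← sO_apply, hσ]
      have htD : G.t r'.1 ∈ D := hu r'.1 hsr
      have := (hbD r').1 htD
      rw [hr'] at this
      exact this hbq
  have heq : coreO G D = D.ι ''ᵁ (D.toScheme.basicOpen Nm) := by
    ext u
    exact (key u).symm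
  rw [heq]
  exact ((isAffineOpen_top D.toScheme).basicOpen Nm).image_of_isOpenImmersion D.ι

/-- **Invariant affine neighbourhoods.** -/
theorem exists_inv_affine (x : G.U) (V : G.U.Opens) (hV : IsAffineOpen V)
    (hxV : ∀ r : G.R, G.s r = x → G.t r ∈ V)
    (O : G.U.Opens) (hO : G.s ⁻¹ᵁ O = G.t ⁻¹ᵁ O) (hxO : x ∈ O) :
    ∃ W : G.U.Opens, IsAffineOpen W ∧ G.s ⁻¹ᵁ W = G.t ⁻¹ᵁ W ∧ x ∈ W ∧ W ≤ O := by
  haveI : IsAffine V.toScheme := hV
  obtain ⟨Q, hQ⟩ : ∃ Q : G.U.Opens, Q = coreO G (V ⊓ O) := ⟨_, rfl⟩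
  have hQVO : Q ≤ V ⊓ O := hQ ▸ coreO_le G _
  have hQinv : G.s ⁻¹ᵁ Q = G.t ⁻¹ᵁ Q := hQ ▸ coreO_inv G _
  have horbO : ∀ r : G.R, G.s r = x → G.t r ∈ O := fun r hr =>
    (mem_iff_of_inv G hO r).1 (by rw [hr]; exact hxO)
  have hxQ : x ∈ Q := by
    rw [hQ]
    intro r hr
    exact ⟨hxV r hr, horbO r hr⟩
  have horbQ : ∀ r : G.R, G.s r = x → G.t r ∈ Q := fun r hr =>
    (mem_iff_of_inv G hQinv r).1 (by rw [hr]; exact hxQ)
  -- the finite orbit inside `V`
  have hfin : (G.t '' (G.s ⁻¹' {x})).Finite := (G.s.finite_preimage_singleton x).image _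
  obtain ⟨P, hP⟩ : ∃ P : Set V.toScheme, P = Subtype.val ⁻¹' (G.t '' (G.s ⁻¹' {x})) := ⟨_, rfl⟩
  have hPfin : P.Finite := by
    rw [hP]
    exact hfin.preimage Subtype.val_injective.injOn
  have hPQ : ∀ v ∈ P, v ∈ V.ι ⁻¹ᵁ Q := by
    intro v hv
    rw [hP] at hv
    obtain ⟨r, hr, hrv⟩ := hv
    show v.1 ∈ Q
    rw [← hrv]
    exact horbQ r hr
  obtain ⟨f', hPf, hfQ⟩ := exists_basicOpen_of_finite (V.ι ⁻¹ᵁ Q) P hPfin hPQ
  obtain ⟨D, hDdef⟩ : ∃ D : G.U.Opens, D = V.ι ''ᵁ (V.toScheme.basicOpen f') := ⟨_, rfl⟩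
  have hD : IsAffineOpen D := by
    rw [hDdef]
    exact ((isAffineOpen_top V.toScheme).basicOpen f').image_of_isOpenImmersion V.ι
  have hDQ : D ≤ Q := by
    rw [hDdef]
    rintro _ ⟨v, hv, rfl⟩
    exact hfQ hv
  have horbD : ∀ r : G.R, G.s r = x → G.t r ∈ D := by
    intro r hr
    rw [hDdef]
    have hv : (⟨G.t r, hxV r hr⟩ : V.toScheme) ∈ P := by
      rw [hP]
      exact ⟨r, hr, rfl⟩
    exact ⟨⟨G.t r, hxV r hr⟩, hPf _ hv, rfl⟩
  have hle : G.s ⁻¹ᵁ D ≤ G.t ⁻¹ᵁ V := by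
    intro r hr
    have h1 : G.s r ∈ Q := hDQ hr
    exact (hQVO ((mem_iff_of_inv G hQinv r).1 h1)).1
  refine ⟨coreO G D, isAffineOpen_coreO G V f' D hDdef hD hle, coreO_inv G D, horbD, ?_⟩
  exact (coreO_le G D).trans (hDQ.trans (hQVO.trans inf_le_right))

end Norm

end Groth.Agent.Helper3.GQ2
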