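import Mathlib
import Groth.Prelude.Def_Grpd
import Groth.Agent.Lib.Helper18.IntInv
import Groth.Agent.Lib.Helper18.GrpdNorm
import Groth.Agent.Lib.Helper3.GrpdFib
import Groth.Agent.Lib.Helper3.GrpdQ4

/-!
# The quotient `U → Spec C` of a finite locally free affine groupoid with `j` a monomorphism
(helper3).  `main` = S1877.
-/

set_option autoImplicit false
set_option linter.style.haveILetI false
universe u

open CategoryTheory CategoryTheory.Limits AlgebraicGeometry TensorProduct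
open Grpd

namespace Groth.Agent.Helper3.GrpdQSch

open Groth.Agent.Helper3.GrpdFib

/-- **S1877**. -/
theorem main (S : Scheme.{u}) (G : Grpd.GroupoidScheme S) [IsAffine G.U] [IsAffine G.R]
    [IsFinite G.s] [Flat G.s] [LocallyOfFinitePresentation G.s] [IsFinite G.t] [Flat G.t]
    [LocallyOfFinitePresentation G.t] [Mono G.j] :
    (IsFinite G.toQuot ∧ Flat G.toQuot ∧ LocallyOfFinitePresentation G.toQuot) ∧
    ∃ φ : G.R ≅ pullback G.toQuot G.toQuot,
      φ.hom ≫ pullback.fst G.toQuot G.toQuot = G.t ∧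
        φ.hom ≫ pullback.snd G.toQuot G.toQuot = G.s := by
  letI := G.s.appTop.hom.toAlgebra
  haveI hfin : Module.Finite Γ(G.U, ⊤) Γ(G.R, ⊤) := G.s.finite_appTop
  haveI hflat : Module.Flat Γ(G.U, ⊤) Γ(G.R, ⊤) := G.s.flat_appTop
  haveI hfp : Algebra.FinitePresentation Γ(G.U, ⊤) Γ(G.R, ⊤) := G.s.finitePresentation_appTop
  haveI : Module.FinitePresentation Γ(G.U, ⊤) Γ(G.R, ⊤) :=
    Module.FinitePresentation.of_finite_of_finitePresentation _ _
  haveI : Module.Projective Γ(G.U, ⊤) Γ(G.R, ⊤) := Module.Flat.projective_of_finitePresentation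
  have hes : ∀ a, G.e.appTop.hom (algebraMap Γ(G.U, ⊤) Γ(G.R, ⊤) a) = a := by
    intro a
    have h2 := congrArg (fun φ => φ.appTop.hom a) G.e_s
    simp only [Scheme.Hom.comp_appTop] at h2
    exact h2.trans (by simp)
  have het : ∀ a, G.e.appTop.hom (G.t.appTop.hom a) = a := by
    intro a
    have h2 := congrArg (fun φ => φ.appTop.hom a) G.e_t
    simp only [Scheme.Hom.comp_appTop] at h2
    exact h2.trans (by simp)
  have hct : ∀ a, G.c.appTop.hom (G.t.appTop.hom a) =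
      (pullback.fst G.s G.t).appTop.hom (G.t.appTop.hom a) := by
    intro a
    have h1 : G.c ≫ G.t = pullback.fst G.s G.t ≫ G.t := by
      rw [Groth.Agent.Helper18.GrpdOm.c_eq, Groth.Agent.Helper18.GrpdOm.cmp_t]
    have h2 := congrArg (fun φ => φ.appTop.hom a) h1
    simp only [Scheme.Hom.comp_appTop] at h2
    exact h2
  have hsq_t : IsPushout (CommRingCat.ofHom G.t.appTop.hom)
      (CommRingCat.ofHom (algebraMap Γ(G.U, ⊤) Γ(G.R, ⊤)))
      (CommRingCat.ofHom (pullback.snd G.s G.t).appTop.hom)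
      (CommRingCat.ofHom (pullback.fst G.s G.t).appTop.hom) :=
    (isPushout_appTop_of_isPullback (IsPullback.of_hasPullback G.s G.t)).flip
  have hsq_s : IsPushout (CommRingCat.ofHom (algebraMap Γ(G.U, ⊤) Γ(G.R, ⊤)))
      (CommRingCat.ofHom (algebraMap Γ(G.U, ⊤) Γ(G.R, ⊤)))
      (CommRingCat.ofHom (pullback.snd G.s G.t).appTop.hom)
      (CommRingCat.ofHom G.c.appTop.hom) :=
    (isPushout_appTop_of_isPullback (Groth.Agent.Helper18.GrpdNorm.isPullback_c' G)).flip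
  have hRG : RG G.t.appTop.hom G.e.appTop.hom (pullback.fst G.s G.t).appTop.hom
      (pullback.snd G.s G.t).appTop.hom G.c.appTop.hom := ⟨hes, het, hct, hsq_t, hsq_s⟩
  -- the multiplication map `Γ(U) ⊗[ℤ] Γ(U) → Γ(R)`
  obtain ⟨μ, hμ⟩ : ∃ μ : Γ(G.U, ⊤) ⊗[ℤ] Γ(G.U, ⊤) →+* Γ(G.R, ⊤),
      ∀ a a', μ (a ⊗ₜ[ℤ] a') = algebraMap Γ(G.U, ⊤) Γ(G.R, ⊤) a * G.t.appTop.hom a' :=
    ⟨(Algebra.TensorProduct.productMap (algebraMap Γ(G.U, ⊤) Γ(G.R, ⊤)).toIntAlgHom
      G.t.appTop.hom.toIntAlgHom).toRingHom, fun a a' => rfl⟩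
  have hμ1 : ∀ a, μ (a ⊗ₜ[ℤ] (1 : Γ(G.U, ⊤))) = G.s.appTop.hom a := by
    intro a
    rw [hμ, map_one, mul_one]
    rfl
  have hμ2 : ∀ a, μ ((1 : Γ(G.U, ⊤)) ⊗ₜ[ℤ] a) = G.t.appTop.hom a := by
    intro a
    rw [hμ, map_one, one_mul]
  haveI hepi : Epi (CommRingCat.ofHom μ) := by
    constructor
    intro Z f₁ f₂ hf
    have hs12 : G.s.appTop ≫ f₁ = G.s.appTop ≫ f₂ := by
      apply CommRingCat.hom_ext
      apply RingHom.ext
      intro a
      have h1 := congrArg (fun φ => φ.hom (a ⊗ₜ[ℤ] (1 : Γ(G.U, ⊤)))) hf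
      simp only [CommRingCat.hom_comp, CommRingCat.hom_ofHom, RingHom.comp_apply] at h1
      rw [hμ1] at h1
      exact h1
    have ht12 : G.t.appTop ≫ f₁ = G.t.appTop ≫ f₂ := by
      apply CommRingCat.hom_ext
      apply RingHom.ext
      intro a
      have h1 := congrArg (fun φ => φ.hom ((1 : Γ(G.U, ⊤)) ⊗ₜ[ℤ] a)) hf
      simp only [CommRingCat.hom_comp, CommRingCat.hom_ofHom, RingHom.comp_apply] at h1
      rw [hμ2] at h1
      exact h1
    have hxs : Spec.map f₁ ≫ G.R.isoSpec.inv ≫ G.s = Spec.map f₂ ≫ G.R.isoSpec.inv ≫ G.s := by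
      rw [← Scheme.isoSpec_inv_naturality, ← Spec.map_comp_assoc, ← Spec.map_comp_assoc, hs12]
    have hxt : Spec.map f₁ ≫ G.R.isoSpec.inv ≫ G.t = Spec.map f₂ ≫ G.R.isoSpec.inv ≫ G.t := by
      rw [← Scheme.isoSpec_inv_naturality, ← Spec.map_comp_assoc, ← Spec.map_comp_assoc, ht12]
    have hj : (Spec.map f₁ ≫ G.R.isoSpec.inv) ≫ G.j = (Spec.map f₂ ≫ G.R.isoSpec.inv) ≫ G.j := by
      apply pullback.hom_ext
      · simp only [Category.assoc, GroupoidScheme.j, pullback.lift_fst]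
        exact hxt
      · simp only [Category.assoc, GroupoidScheme.j, pullback.lift_snd]
        exact hxs
    have h12 := (cancel_mono G.j).mp hj
    have h12' := (cancel_mono G.R.isoSpec.inv).mp h12
    exact Spec.map_injective h12'
  have hμfin : μ.Finite := by
    apply RingHom.Finite.of_comp_finite (f := Algebra.TensorProduct.includeLeftRingHom)
    have h1 : μ.comp Algebra.TensorProduct.includeLeftRingHom = G.s.appTop.hom :=
      RingHom.ext hμ1
    rw [h1]
    exact hfin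
  have hμsurj : Function.Surjective μ :=
    RingHom.surjective_of_epi_of_finite (CommRingCat.ofHom μ) hμfin
  have hall : ∀ z : Γ(G.U, ⊤) ⊗[ℤ] Γ(G.U, ⊤),
      μ z ∈ Submodule.span Γ(G.U, ⊤) (Set.range G.t.appTop.hom) := by
    intro z
    induction z using TensorProduct.induction_on with
    | zero =>
      rw [map_zero]
      exact Submodule.zero_mem _
    | tmul a a' =>
      rw [hμ, ← Algebra.smul_def]
      exact Submodule.smul_mem _ _ (Submodule.subset_span ⟨a', rfl⟩)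
    | add z₁ z₂ h₁ h₂ =>
      rw [map_add]
      exact Submodule.add_mem _ h₁ h₂
  have hsurj : ∀ b : Γ(G.R, ⊤), b ∈ Submodule.span Γ(G.U, ⊤) (Set.range G.t.appTop.hom) := by
    intro b
    obtain ⟨z, hz⟩ := hμsurj b
    rw [← hz]
    exact hall z
  obtain ⟨⟨hF, hFl, hFP⟩, hPO⟩ := GrpdQ4.RG.main hRG hsurj
  have hPB := isPullback_SpecMap_of_isPushout _ _ _ _ hPO
  refine ⟨⟨?_, ?_, ?_⟩, ?_⟩
  · have h1 : IsFinite (Spec.map (CommRingCat.ofHom (algebraMap
        (RingHom.eqLocus (algebraMap Γ(G.U, ⊤) Γ(G.R, ⊤)) G.t.appTop.hom) Γ(G.U, ⊤)))) := by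
      rw [IsFinite.SpecMap_iff]
      exact RingHom.finite_algebraMap.mpr hF
    show IsFinite (G.U.toSpecΓ ≫ Spec.map (CommRingCat.ofHom (algebraMap
        (RingHom.eqLocus (algebraMap Γ(G.U, ⊤) Γ(G.R, ⊤)) G.t.appTop.hom) Γ(G.U, ⊤))))
    infer_instance
  · have h1 : Flat (Spec.map (CommRingCat.ofHom (algebraMap
        (RingHom.eqLocus (algebraMap Γ(G.U, ⊤) Γ(G.R, ⊤)) G.t.appTop.hom) Γ(G.U, ⊤)))) := by
      rw [Flat.SpecMap_iff]
      exact RingHom.flat_algebraMap_iff.mpr hFl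
    show Flat (G.U.toSpecΓ ≫ Spec.map (CommRingCat.ofHom (algebraMap
        (RingHom.eqLocus (algebraMap Γ(G.U, ⊤) Γ(G.R, ⊤)) G.t.appTop.hom) Γ(G.U, ⊤))))
    infer_instance
  · have h1 : LocallyOfFinitePresentation (Spec.map (CommRingCat.ofHom (algebraMap
        (RingHom.eqLocus (algebraMap Γ(G.U, ⊤) Γ(G.R, ⊤)) G.t.appTop.hom) Γ(G.U, ⊤)))) := by
      rw [LocallyOfFinitePresentation.SpecMap_iff]
      exact RingHom.finitePresentation_algebraMap.mpr hFP
    show LocallyOfFinitePresentation (G.U.toSpecΓ ≫ Spec.map (CommRingCat.ofHom (algebraMap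
        (RingHom.eqLocus (algebraMap Γ(G.U, ⊤) Γ(G.R, ⊤)) G.t.appTop.hom) Γ(G.U, ⊤))))
    infer_instance
  · have hPB' : IsPullback G.t G.s G.toQuot G.toQuot := by
      refine hPB.of_iso' G.R.isoSpec G.U.isoSpec G.U.isoSpec
        (Iso.refl (Spec (CommRingCat.of G.invariants))) ?_ ?_ ?_ ?_
      · exact Scheme.isoSpec_hom_naturality G.t
      · exact Scheme.isoSpec_hom_naturality G.s
      · exact (Category.comp_id G.toQuot).symm
      · exact (Category.comp_id G.toQuot).symm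
    exact ⟨hPB'.isoPullback, hPB'.isoPullback_hom_fst, hPB'.isoPullback_hom_snd⟩

end Groth.Agent.Helper3.GrpdQSch
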