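import Mathlib
import Groth.Prelude.Def_Grpd
import Groth.Prelude.Def_QuotSh
import Groth.Agent.Lib.Helper3.GrpdQSch
import Groth.Agent.Lib.Helper3.GrpdFibSch
import Groth.Agent.Lib.Helper18.QSh2

/-!
# `U → Spec C` represents the fppf quotient sheaf `U/R` (helper3).  `main` = S7488.
-/

set_option autoImplicit false
set_option linter.style.haveILetI false
universe u

open CategoryTheory CategoryTheory.Limits AlgebraicGeometry
open Grpd

namespace Groth.Agent.Helper3.GrpdQuotSh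

/-- The cartesian square `R = U ×_M U`. -/
theorem isPullback_toQuot (S : Scheme.{u}) (G : Grpd.GroupoidScheme S) [IsAffine G.U]
    [IsAffine G.R] [IsFinite G.s] [Flat G.s] [LocallyOfFinitePresentation G.s] [IsFinite G.t]
    [Flat G.t] [LocallyOfFinitePresentation G.t] [Mono G.j] :
    IsPullback G.t G.s G.toQuot G.toQuot := by
  obtain ⟨-, φ, hφt, hφs⟩ := GrpdQSch.main S G
  exact IsPullback.of_iso_pullback ⟨GrpdFibSch.t_toQuot G⟩ φ hφt hφs

/-- **S7488**. -/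
theorem main (S : Scheme.{u}) (G : Grpd.GroupoidScheme S) [IsAffine G.U] [IsAffine G.R]
    [IsFinite G.s] [Flat G.s] [LocallyOfFinitePresentation G.s] [IsFinite G.t] [Flat G.t]
    [LocallyOfFinitePresentation G.t] [Mono G.j] :
    ∃! m : Spec (CommRingCat.of G.invariants) ⟶ S, ∃ h : G.toQuot ≫ m = G.pU,
      QuotSh.IsQuotient Scheme.fppfPrecoverage
        (Over.homMk G.s G.s_over : Over.mk G.pR ⟶ Over.mk G.pU)
        (Over.homMk G.t G.t_over : Over.mk G.pR ⟶ Over.mk G.pU)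
        (Over.homMk G.toQuot h : Over.mk G.pU ⟶ Over.mk m) := by
  obtain ⟨⟨hF, hFl, hFP⟩, -⟩ := GrpdQSch.main S G
  obtain ⟨⟨hsurj, -⟩, -⟩ := GrpdFibSch.main S G
  haveI := hFl
  haveI := hFP
  haveI : Surjective G.toQuot := ⟨hsurj⟩
  have hPB : IsPullback G.t G.s G.toQuot G.toQuot := isPullback_toQuot S G
  have hcompat : ∀ {Z : Scheme.{u}} (g₁ g₂ : Z ⟶ G.U), g₁ ≫ G.toQuot = g₂ ≫ G.toQuot →
      g₁ ≫ G.pU = g₂ ≫ G.pU := by
    intro Z g₁ g₂ hg
    calc g₁ ≫ G.pU = (hPB.lift g₁ g₂ hg ≫ G.t) ≫ G.pU := by rw [hPB.lift_fst]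
      _ = (hPB.lift g₁ g₂ hg ≫ G.s) ≫ G.pU := by
          rw [Category.assoc, Category.assoc, G.t_over, G.s_over]
      _ = g₂ ≫ G.pU := by rw [hPB.lift_snd]
  refine ⟨EffectiveEpi.desc G.toQuot G.pU hcompat, ⟨EffectiveEpi.fac _ _ _, ?_⟩, ?_⟩
  · refine Groth.Agent.Helper18.QSh.isQuotient_of_isKernelPair Scheme.fppfPrecoverage ?_ ?_
    · exact IsPullback.of_map_of_faithful (Over.forget S) hPB.flip
    · exact Groth.Agent.Helper18.QSh.secSieve_mem_of_singleton _ _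
        (G.toQuot.singleton_mem_fppfPrecoverage)
  · rintro m' ⟨h', -⟩
    exact EffectiveEpi.uniq _ _ _ m' h'

end Groth.Agent.Helper3.GrpdQuotSh
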