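import Mathlib
import Groth.Prelude.Def_Grpd
import Groth.Agent.Lib.Helper3.GQ1
import Groth.Agent.Lib.Helper3.GrpdFibSch
import Groth.Agent.Lib.Helper3.GrpdQuotSh

/-!
# The affine quotient `W → Spec C_W` on an invariant affine open `W` (helper3)
-/

set_option autoImplicit false
set_option linter.style.haveILetI false
universe u

open CategoryTheory CategoryTheory.Limits AlgebraicGeometry
open Grpd

namespace Groth.Agent.Helper3.GQ3

open Groth.Agent.Helper3.GQ1 Groth.Agent.Helper3.GrpdFib Groth.Agent.Helper3.GrpdFibSch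

/-- surjective + injective on global sections into an affine scheme ⇒ epi -/
theorem epi_of_surjective_of_appTop_injective {X Y : Scheme.{u}} [IsAffine Y] (f : X ⟶ Y)
    (hs : Function.Surjective f) (hi : Function.Injective f.appTop) : Epi f := by
  constructor
  intro Z g h hgh
  obtain ⟨l, hl⟩ : ∃ l : X ⟶ equalizer g h, l ≫ equalizer.ι g h = f :=
    ⟨equalizer.lift f hgh, equalizer.lift_ι _ _⟩
  have hsurj : Function.Surjective (equalizer.ι g h) := by
    intro y
    obtain ⟨x, rfl⟩ := hs y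
    exact ⟨l x, by rw [← Scheme.Hom.comp_apply, hl]⟩
  haveI : IsClosedImmersion (equalizer.ι g h) :=
    IsClosedImmersion.of_isPreimmersion _ (by rw [hsurj.range_eq]; exact isClosed_univ)
  have hinj : Function.Injective (equalizer.ι g h).appTop := by
    have h2 : f.appTop = (equalizer.ι g h).appTop ≫ l.appTop := by
      rw [← hl, Scheme.Hom.comp_appTop]
    intro a b hab
    apply hi
    rw [h2]
    show l.appTop ((equalizer.ι g h).appTop a) = l.appTop ((equalizer.ι g h).appTop b)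
    rw [hab]
  haveI : IsIso (equalizer.ι g h) := IsClosedImmersion.isIso_of_injective_of_isAffine hinj
  exact (cancel_epi (equalizer.ι g h)).1 (equalizer.condition g h)

section Affine

variable {S : Scheme.{u}} (G' : GroupoidScheme S) [IsAffine G'.U] [IsAffine G'.R]
  [IsFinite G'.s] [Flat G'.s] [LocallyOfFinitePresentation G'.s]

theorem surjective_toQuot : Function.Surjective G'.toQuot := by
  haveI := t_isFinite G'
  haveI := t_flat G'
  haveI := t_lfp G'
  exact (GrpdFibSch.main S G').1.1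

theorem toQuot_eq_iff (u₀ u₁ : G'.U) :
    G'.toQuot u₀ = G'.toQuot u₁ ↔ ∃ r : G'.R, G'.t r = u₀ ∧ G'.s r = u₁ := by
  haveI := t_isFinite G'
  haveI := t_flat G'
  haveI := t_lfp G'
  exact (GrpdFibSch.main S G').1.2 u₀ u₁

theorem exists_geom (k : Type u) [Field k] [IsAlgClosed k]
    (x₀ x₁ : Spec (CommRingCat.of k) ⟶ G'.U) (h : x₀ ≫ G'.toQuot = x₁ ≫ G'.toQuot) :
    ∃ r : Spec (CommRingCat.of k) ⟶ G'.R, r ≫ G'.t = x₀ ∧ r ≫ G'.s = x₁ := by
  haveI := t_isFinite G'
  haveI := t_flat G'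
  haveI := t_lfp G'
  exact (((GrpdFibSch.main S G').2 k).2 x₀ x₁).1 h

theorem isIntegral_invariants : Algebra.IsIntegral G'.invariants Γ(G'.U, ⊤) := by
  haveI := t_isFinite G'
  haveI := t_flat G'
  haveI := t_lfp G'
  letI := G'.s.appTop.hom.toAlgebra
  haveI hfin : Module.Finite Γ(G'.U, ⊤) Γ(G'.R, ⊤) := G'.s.finite_appTop
  haveI hflat : Module.Flat Γ(G'.U, ⊤) Γ(G'.R, ⊤) := G'.s.flat_appTop
  haveI hfp : Algebra.FinitePresentation Γ(G'.U, ⊤) Γ(G'.R, ⊤) := G'.s.finitePresentation_appTop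
  haveI : Module.FinitePresentation Γ(G'.U, ⊤) Γ(G'.R, ⊤) :=
    Module.FinitePresentation.of_finite_of_finitePresentation _ _
  haveI : Module.Projective Γ(G'.U, ⊤) Γ(G'.R, ⊤) := Module.Flat.projective_of_finitePresentation
  have hes : ∀ a, G'.e.appTop.hom (algebraMap Γ(G'.U, ⊤) Γ(G'.R, ⊤) a) = a := by
    intro a
    have h2 := congrArg (fun φ => φ.appTop.hom a) G'.e_s
    simp only [Scheme.Hom.comp_appTop] at h2
    exact h2.trans (by simp)
  have het : ∀ a, G'.e.appTop.hom (G'.t.appTop.hom a) = a := by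
    intro a
    have h2 := congrArg (fun φ => φ.appTop.hom a) G'.e_t
    simp only [Scheme.Hom.comp_appTop] at h2
    exact h2.trans (by simp)
  have hct : ∀ a, G'.c.appTop.hom (G'.t.appTop.hom a) =
      (pullback.fst G'.s G'.t).appTop.hom (G'.t.appTop.hom a) := by
    intro a
    have h1 : G'.c ≫ G'.t = pullback.fst G'.s G'.t ≫ G'.t := by
      rw [Groth.Agent.Helper18.GrpdOm.c_eq, Groth.Agent.Helper18.GrpdOm.cmp_t]
    have h2 := congrArg (fun φ => φ.appTop.hom a) h1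
    simp only [Scheme.Hom.comp_appTop] at h2
    exact h2
  have hsq_t : IsPushout (CommRingCat.ofHom G'.t.appTop.hom)
      (CommRingCat.ofHom (algebraMap Γ(G'.U, ⊤) Γ(G'.R, ⊤)))
      (CommRingCat.ofHom (pullback.snd G'.s G'.t).appTop.hom)
      (CommRingCat.ofHom (pullback.fst G'.s G'.t).appTop.hom) :=
    (isPushout_appTop_of_isPullback (IsPullback.of_hasPullback G'.s G'.t)).flip
  have hsq_s : IsPushout (CommRingCat.ofHom (algebraMap Γ(G'.U, ⊤) Γ(G'.R, ⊤)))
      (CommRingCat.ofHom (algebraMap Γ(G'.U, ⊤) Γ(G'.R, ⊤)))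
      (CommRingCat.ofHom (pullback.snd G'.s G'.t).appTop.hom)
      (CommRingCat.ofHom G'.c.appTop.hom) :=
    (isPushout_appTop_of_isPullback (Groth.Agent.Helper18.GrpdNorm.isPullback_c' G')).flip
  exact ⟨fun f => Groth.Agent.Lib.Helper18.IntInv.isIntegral_of_groupoid G'.t.appTop.hom
      G'.e.appTop.hom (pullback.fst G'.s G'.t).appTop.hom (pullback.snd G'.s G'.t).appTop.hom
      G'.c.appTop.hom hes het hct hsq_t hsq_s f⟩

theorem isIntegralHom_toQuot : IsIntegralHom G'.toQuot := by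
  haveI := isIntegral_invariants G'
  have h1 : (CommRingCat.ofHom G'.invariants.subtype).hom.IsIntegral := by
    have := algebraMap_isIntegral_iff.mpr (isIntegral_invariants G')
    exact this
  haveI : IsIntegralHom (Spec.map (CommRingCat.ofHom G'.invariants.subtype)) :=
    IsIntegralHom.SpecMap_iff.mpr h1
  unfold GroupoidScheme.toQuot
  infer_instance

theorem isClosedMap_toQuot : IsClosedMap G'.toQuot := by
  haveI := isIntegralHom_toQuot G'
  exact G'.toQuot.isClosedMap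

theorem isOpenMap_toQuot : IsOpenMap G'.toQuot := by
  haveI := t_flat G'
  haveI := t_lfp G'
  intro O hO
  have hq : Topology.IsQuotientMap G'.toQuot :=
    (isClosedMap_toQuot G').isQuotientMap G'.toQuot.continuous (surjective_toQuot G')
  rw [← hq.isOpen_preimage]
  have : G'.toQuot ⁻¹' (G'.toQuot '' O) = G'.t '' (G'.s ⁻¹' O) := by
    ext u
    constructor
    · rintro ⟨u', hu', h⟩
      obtain ⟨r, hr1, hr2⟩ := (toQuot_eq_iff G' u u').1 h.symm
      exact ⟨r, by rw [Set.mem_preimage, hr2]; exact hu', hr1⟩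
    · rintro ⟨r, hr, rfl⟩
      exact ⟨G'.s r, hr, ((toQuot_eq_iff G' _ _).2 ⟨r, rfl, rfl⟩).symm⟩
  rw [this]
  exact G'.t.isOpenMap _ (hO.preimage G'.s.continuous)

theorem toQuot_appTop_injective : Function.Injective G'.toQuot.appTop := by
  have h : G'.toQuot.appTop = (Scheme.ΓSpecIso (CommRingCat.of G'.invariants)).hom ≫
      CommRingCat.ofHom G'.invariants.subtype := by
    unfold GroupoidScheme.toQuot
    rw [Scheme.Hom.comp_appTop, Scheme.toSpecΓ_appTop, Scheme.ΓSpecIso_naturality]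
  intro a b hab
  rw [h] at hab
  have h2 : ((Scheme.ΓSpecIso (CommRingCat.of G'.invariants)).hom a).1 =
      ((Scheme.ΓSpecIso (CommRingCat.of G'.invariants)).hom b).1 := hab
  exact (ConcreteCategory.bijective_of_isIso
    (Scheme.ΓSpecIso (CommRingCat.of G'.invariants)).hom).1 (Subtype.ext h2)

instance epi_toQuot : Epi G'.toQuot :=
  epi_of_surjective_of_appTop_injective _ (surjective_toQuot G') (toQuot_appTop_injective G')

/-- the universal property of `Spec C` for affine targets -/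
theorem exists_desc_affine {T : Scheme.{u}} [IsAffine T] (ψ : G'.U ⟶ T)
    (hψ : G'.t ≫ ψ = G'.s ≫ ψ) :
    ∃ g : Spec (CommRingCat.of G'.invariants) ⟶ T, G'.toQuot ≫ g = ψ := by
  have hmem : ∀ a : Γ(T, ⊤), ψ.appTop.hom a ∈ G'.invariants := by
    intro a
    show G'.s.appTop.hom (ψ.appTop.hom a) = G'.t.appTop.hom (ψ.appTop.hom a)
    have h2 := congrArg (fun φ => φ.appTop.hom a) hψ
    simp only [Scheme.Hom.comp_appTop] at h2
    exact h2.symm
  obtain ⟨θ, hθ⟩ : ∃ θ : Γ(T, ⊤) →+* G'.invariants,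
      θ = ψ.appTop.hom.codRestrict G'.invariants hmem := ⟨_, rfl⟩
  refine ⟨Spec.map (CommRingCat.ofHom θ) ≫ T.isoSpec.inv, ?_⟩
  have h1 : CommRingCat.ofHom θ ≫ CommRingCat.ofHom G'.invariants.subtype = ψ.appTop := by
    rw [hθ]
    rfl
  unfold GroupoidScheme.toQuot
  rw [Category.assoc, ← Category.assoc (Spec.map _), ← Spec.map_comp, h1, ← Category.assoc,
    ← Scheme.toSpecΓ_naturality, Category.assoc, Scheme.toSpecΓ_isoSpec_inv, Category.comp_id]

end Affine

section Glob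

variable {S : Scheme.{u}} (G : GroupoidScheme S)

/-- invariant affine opens -/
structure J : Type u where
  /-- the open -/
  W : G.U.Opens
  aff : IsAffineOpen W
  inv : G.s ⁻¹ᵁ W = G.t ⁻¹ᵁ W

theorem J.ext' {G : GroupoidScheme S} {W W' : J G} (h : W.1 = W'.1) : W = W' := by
  cases W; cases W'; cases h; rfl

variable {G}

/-- the restricted groupoid -/
@[reducible] noncomputable def GW (W : J G) : GroupoidScheme S := restr G W.1 W.3

instance isAffine_GW_U (W : J G) : IsAffine (GW W).U := W.2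

instance isAffine_GW_R [IsFinite G.s] (W : J G) : IsAffine (GW W).R := W.2.preimage G.s

/-- the ring of invariants on `W` -/
noncomputable abbrev CW (W : J G) : Subring Γ((GW W).U, ⊤) := (GW W).invariants

/-- the local quotient -/
noncomputable abbrev YW (W : J G) : Scheme.{u} := Spec (CommRingCat.of (CW W))

/-- the local quotient map -/
noncomputable abbrev pW (W : J G) : W.1.toScheme ⟶ YW W := (GW W).toQuot

variable [IsFinite G.s] [Flat G.s] [LocallyOfFinitePresentation G.s]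

theorem surjective_pW (W : J G) : Function.Surjective (pW W) := surjective_toQuot (GW W)

theorem pW_eq_iff (W : J G) (u u' : W.1.toScheme) :
    pW W u = pW W u' ↔ ∃ r : G.R, G.t r = u.1 ∧ G.s r = u'.1 :=
  (toQuot_eq_iff (GW W) u u').trans (restr_rel_iff G W.1 W.3 u u')

theorem pW_s_eq_t (W : J G) (r : G.R) (hs : G.s r ∈ W.1) (ht : G.t r ∈ W.1) :
    pW W ⟨G.s r, hs⟩ = pW W ⟨G.t r, ht⟩ :=
  ((pW_eq_iff W _ _).2 ⟨r, rfl, rfl⟩).symm

/-- the invariant open of `U` attached to an open of `Y_W` -/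
noncomputable def pre (W : J G) (V : (YW W).Opens) : G.U.Opens := W.1.ι ''ᵁ (pW W ⁻¹ᵁ V)

theorem mem_pre (W : J G) (V : (YW W).Opens) (u : G.U) :
    u ∈ pre W V ↔ ∃ h : u ∈ W.1, pW W ⟨u, h⟩ ∈ V := by
  constructor
  · rintro ⟨y, hy, rfl⟩
    exact ⟨y.2, hy⟩
  · rintro ⟨h, hv⟩
    exact ⟨⟨u, h⟩, hv, rfl⟩

theorem pre_le (W : J G) (V : (YW W).Opens) : pre W V ≤ W.1 := fun u hu =>
  ((mem_pre W V u).1 hu).1

theorem pre_inv (W : J G) (V : (YW W).Opens) : G.s ⁻¹ᵁ pre W V = G.t ⁻¹ᵁ pre W V := by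
  apply inv_of_forall
  intro r
  rw [mem_pre, mem_pre]
  constructor
  · rintro ⟨h, hv⟩
    have ht : G.t r ∈ W.1 := (mem_iff_of_inv G W.3 r).1 h
    exact ⟨ht, by rw [← pW_s_eq_t W r h ht]; exact hv⟩
  · rintro ⟨h, hv⟩
    have hs : G.s r ∈ W.1 := (mem_iff_of_inv G W.3 r).2 h
    exact ⟨hs, by rw [pW_s_eq_t W r hs h]; exact hv⟩

/-- invariant opens of `W` are preimages of opens of `Y_W` -/
theorem exists_pre_eq (W : J G) (O : G.U.Opens) (hO : G.s ⁻¹ᵁ O = G.t ⁻¹ᵁ O) :
    ∃ V : (YW W).Opens, pre W V = W.1 ⊓ O := by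
  obtain ⟨Zc, hZc⟩ : ∃ Zc : Set W.1.toScheme, Zc = (W.1.ι ⁻¹' (O : Set G.U))ᶜ := ⟨_, rfl⟩
  have hcl : IsClosed Zc := by
    rw [hZc]
    exact (O.2.preimage W.1.ι.continuous).isClosed_compl
  refine ⟨⟨(pW W '' Zc)ᶜ, (isClosedMap_toQuot (GW W) _ hcl).isOpen_compl⟩, ?_⟩
  ext u
  show u ∈ pre W _ ↔ u ∈ W.1 ⊓ O
  rw [mem_pre]
  constructor
  · rintro ⟨h, hv⟩
    refine ⟨h, ?_⟩
    by_contra hu
    refine hv ⟨⟨u, h⟩, ?_, rfl⟩
    rw [hZc]
    exact hu
  · rintro ⟨h, hu⟩
    refine ⟨h, ?_⟩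
    rintro ⟨y, hy, hyu⟩
    obtain ⟨r, hr1, hr2⟩ := (pW_eq_iff W y ⟨u, h⟩).1 hyu
    rw [hZc] at hy
    apply hy
    show y.1 ∈ O
    rw [← hr1]
    exact (mem_iff_of_inv G hO r).1 (by rw [hr2]; exact hu)

theorem pW_preimage_basicOpen (W : J G) (g : CW W) :
    pW W ⁻¹ᵁ (PrimeSpectrum.basicOpen g) = W.1.toScheme.basicOpen g.1 := by
  show (W.1.toScheme.toSpecΓ ≫ Spec.map (CommRingCat.ofHom (CW W).subtype)) ⁻¹ᵁ
    (PrimeSpectrum.basicOpen g) = _
  rw [Scheme.Hom.comp_preimage, SpecMap_preimage_basicOpen, Scheme.toSpecΓ_preimage_basicOpen]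
  rfl

/-- the principal invariant affine open `W_g` -/
noncomputable def Wg (W : J G) (g : CW W) : J G :=
  ⟨pre W (PrimeSpectrum.basicOpen g), by
    unfold pre
    rw [pW_preimage_basicOpen]
    haveI : IsAffine W.1.toScheme := W.2
    exact ((isAffineOpen_top W.1.toScheme).basicOpen g.1).image_of_isOpenImmersion W.1.ι,
    pre_inv W _⟩

theorem Wg_le (W : J G) (g : CW W) : (Wg W g).1 ≤ W.1 := pre_le W _

theorem Wg_eq (W : J G) (g : CW W) : (Wg W g).1 = W.1.ι ''ᵁ (W.1.toScheme.basicOpen g.1) := by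
  show pre W _ = _
  unfold pre
  rw [pW_preimage_basicOpen]

/-- principal opens form a basis of the invariant opens of `W` -/
theorem exists_principal (W : J G) (O : G.U.Opens) (hO : G.s ⁻¹ᵁ O = G.t ⁻¹ᵁ O) (u : G.U)
    (huW : u ∈ W.1) (huO : u ∈ O) : ∃ g : CW W, u ∈ (Wg W g).1 ∧ (Wg W g).1 ≤ O := by
  obtain ⟨V, hV⟩ := exists_pre_eq W O hO
  have huV : u ∈ pre W V := by
    rw [hV]
    exact ⟨huW, huO⟩
  obtain ⟨h, hv⟩ := (mem_pre W V u).1 huV
  obtain ⟨_, ⟨g, rfl⟩, hg1, hg2⟩ :=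
    TopologicalSpace.Opens.isBasis_iff_nbhd.mp PrimeSpectrum.isBasis_basic_opens hv
  refine ⟨g, (mem_pre W _ u).2 ⟨h, hg1⟩, ?_⟩
  intro u' hu'
  obtain ⟨h', hv'⟩ := (mem_pre W _ u').1 hu'
  have : u' ∈ pre W V := (mem_pre W V u').2 ⟨h', hg2 hv'⟩
  rw [hV] at this
  exact this.2

end Glob

end Groth.Agent.Helper3.GQ3
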