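import Mathlib
import Groth.Prelude.Def_Grpd
import Groth.Agent.Lib.Helper3.GQ0
import Groth.Agent.Lib.Helper3.GQ3

/-!
# Transition maps between the local quotients `Spec C_W` (helper3)
-/

set_option autoImplicit false
set_option linter.style.haveILetI false
set_option linter.unusedSectionVars false
universe u

open CategoryTheory CategoryTheory.Limits AlgebraicGeometry
open Grpd

namespace Groth.Agent.Helper3.GQ4

open Groth.Agent.Helper3.GQ0 Groth.Agent.Helper3.GQ1 Groth.Agent.Helper3.GQ3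

/-- an open immersion onto a basic open of an affine scheme is a localization on global
sections -/
theorem isLocalization_of_range_eq {X X' : Scheme.{u}} [IsAffine X] (j : X' ⟶ X)
    [IsOpenImmersion j] (g : Γ(X, ⊤)) (hr : j.opensRange = X.basicOpen g) :
    letI := j.appTop.hom.toAlgebra
    IsLocalization.Away g Γ(X', ⊤) := by
  letI := j.appTop.hom.toAlgebra
  obtain ⟨e, he⟩ : ∃ e : X' ≅ (X.basicOpen g).toScheme, e.hom ≫ (X.basicOpen g).ι = j :=
    ⟨IsOpenImmersion.isoOfRangeEq j (X.basicOpen g).ι (by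
      rw [Scheme.Opens.range_ι, ← hr]; rfl), IsOpenImmersion.isoOfRangeEq_hom_fac _ _ _⟩
  have h1 : e.inv.appTop ≫ e.hom.appTop = 𝟙 _ := by
    rw [← Scheme.Hom.comp_appTop, e.hom_inv_id]; simp
  have h2 : e.hom.appTop ≫ e.inv.appTop = 𝟙 _ := by
    rw [← Scheme.Hom.comp_appTop, e.inv_hom_id]; simp
  obtain ⟨ρ, hρ⟩ : ∃ ρ : Γ((X.basicOpen g).toScheme, ⊤) ≃+* Γ(X', ⊤),
      ∀ a, ρ a = e.hom.appTop.hom a :=
    ⟨RingEquiv.ofRingHom e.hom.appTop.hom e.inv.appTop.hom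
      (congrArg CommRingCat.Hom.hom h1) (congrArg CommRingCat.Hom.hom h2), fun a => rfl⟩
  have hcomm : ∀ a : Γ(X, ⊤), ρ (algebraMap Γ(X, ⊤) Γ((X.basicOpen g).toScheme, ⊤) a) =
      algebraMap Γ(X, ⊤) Γ(X', ⊤) a := by
    intro a
    rw [hρ]
    show e.hom.appTop.hom ((X.basicOpen g).ι.appTop.hom a) = j.appTop.hom a
    rw [← he, Scheme.Hom.comp_appTop]
    rfl
  exact IsLocalization.isLocalization_of_algEquiv (Submonoid.powers g)
    ({ ρ with commutes' := hcomm } : Γ((X.basicOpen g).toScheme, ⊤) ≃ₐ[Γ(X, ⊤)] Γ(X', ⊤))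

section Glob

variable {S : Scheme.{u}} {G : GroupoidScheme S}
  [IsFinite G.s] [Flat G.s] [LocallyOfFinitePresentation G.s]

theorem hσ {W' W : J G} (h : W'.1 ≤ W.1) (a : Γ((GW W).U, ⊤)) :
    (GW W').s.appTop.hom ((G.U.homOfLE h).appTop.hom a) =
      (G.R.homOfLE (RO_mono G h)).appTop.hom ((GW W).s.appTop.hom a) := by
  have h2 := congrArg (fun φ => φ.appTop.hom a) (homOfLE_s G W.1 W.3 h W'.3)
  simp only [Scheme.Hom.comp_appTop] at h2
  exact h2.symm

theorem hτ {W' W : J G} (h : W'.1 ≤ W.1) (a : Γ((GW W).U, ⊤)) :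
    (GW W').t.appTop.hom ((G.U.homOfLE h).appTop.hom a) =
      (G.R.homOfLE (RO_mono G h)).appTop.hom ((GW W).t.appTop.hom a) := by
  have h2 := congrArg (fun φ => φ.appTop.hom a) (homOfLE_t G W.1 W.3 h W'.3)
  simp only [Scheme.Hom.comp_appTop] at h2
  exact h2.symm

/-- restriction of invariants -/
noncomputable def resC {W' W : J G} (h : W'.1 ≤ W.1) : CW W →+* CW W' :=
  resEq (GW W).s.appTop.hom (GW W).t.appTop.hom (GW W').s.appTop.hom (GW W').t.appTop.hom
    (G.U.homOfLE h).appTop.hom (G.R.homOfLE (RO_mono G h)).appTop.hom (hσ h) (hτ h)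

/-- the transition maps -/
noncomputable def trans {W' W : J G} (h : W'.1 ≤ W.1) : YW W' ⟶ YW W :=
  Spec.map (CommRingCat.ofHom (resC h))

theorem pW_trans {W' W : J G} (h : W'.1 ≤ W.1) :
    pW W' ≫ trans h = G.U.homOfLE h ≫ pW W := by
  have key : CommRingCat.ofHom (resC h) ≫ CommRingCat.ofHom (CW W').subtype =
      CommRingCat.ofHom (CW W).subtype ≫ (G.U.homOfLE h).appTop :=
    CommRingCat.hom_ext (RingHom.ext fun x => rfl)
  have e1 : pW W' ≫ trans h = W'.1.toScheme.toSpecΓ ≫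
      Spec.map (CommRingCat.ofHom (resC h) ≫ CommRingCat.ofHom (CW W').subtype) := by
    show (W'.1.toScheme.toSpecΓ ≫ Spec.map (CommRingCat.ofHom (CW W').subtype)) ≫
      Spec.map (CommRingCat.ofHom (resC h)) = _
    rw [Category.assoc, ← Spec.map_comp]
  have e2 : G.U.homOfLE h ≫ pW W = W'.1.toScheme.toSpecΓ ≫
      Spec.map (CommRingCat.ofHom (CW W).subtype ≫ (G.U.homOfLE h).appTop) := by
    show G.U.homOfLE h ≫ (W.1.toScheme.toSpecΓ ≫ Spec.map (CommRingCat.ofHom (CW W).subtype)) = _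
    rw [← Category.assoc, Scheme.toSpecΓ_naturality, Category.assoc, ← Spec.map_comp]
    rfl
  rw [e1, e2]
  exact congrArg (fun φ => W'.1.toScheme.toSpecΓ ≫ Spec.map φ) key

theorem trans_id (W : J G) : trans (le_refl W.1) = 𝟙 (YW W) := by
  apply (cancel_epi (pW W)).1
  rw [pW_trans, Scheme.homOfLE_rfl, Category.id_comp, Category.comp_id]

theorem trans_comp {W'' W' W : J G} (h1 : W''.1 ≤ W'.1) (h2 : W'.1 ≤ W.1) :
    trans (h1.trans h2) = trans h1 ≫ trans h2 := by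
  apply (cancel_epi (pW W'')).1
  have e1 : pW W'' ≫ trans h1 ≫ trans h2 = G.U.homOfLE (h1.trans h2) ≫ pW W := by
    rw [← Category.assoc, pW_trans, Category.assoc, pW_trans, ← Category.assoc,
      Scheme.homOfLE_homOfLE]
  rw [pW_trans, e1]

theorem trans_pW_apply {W' W : J G} (h : W'.1 ≤ W.1) (u : W'.1.toScheme) :
    trans h (pW W' u) = pW W ⟨u.1, h u.2⟩ := by
  have h1 := congr($(pW_trans h) u)
  rw [Scheme.Hom.comp_apply, Scheme.Hom.comp_apply] at h1
  rw [h1]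
  congr 1
  exact Subtype.ext (Scheme.homOfLE_apply _ _)

theorem isOpenImmersion_trans_Wg (W : J G) (g : CW W) :
    IsOpenImmersion (trans (Wg_le W g)) := by
  have hA : letI := (G.U.homOfLE (Wg_le W g)).appTop.hom.toAlgebra
      IsLocalization.Away g.1 Γ((GW (Wg W g)).U, ⊤) :=
    isLocalization_of_range_eq (G.U.homOfLE (Wg_le W g)) g.1 (by
      rw [Scheme.opensRange_homOfLE, Wg_eq, Scheme.Hom.preimage_image_eq])
  have hB : letI := (G.R.homOfLE (RO_mono G (Wg_le W g))).appTop.hom.toAlgebra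
      IsLocalization.Away ((GW W).s.appTop.hom g.1) Γ((GW (Wg W g)).R, ⊤) :=
    isLocalization_of_range_eq (G.R.homOfLE (RO_mono G (Wg_le W g)))
      ((GW W).s.appTop.hom g.1) (by
      rw [Scheme.opensRange_homOfLE, ← Scheme.preimage_basicOpen_top]
      ext r'
      show G.s r'.1 ∈ (Wg W g).1 ↔ (GW W).s r' ∈ W.1.toScheme.basicOpen g.1
      rw [Wg_eq, ← restr_s_apply G W.1 W.3 r']
      exact Scheme.Opens.mem_ι_image_iff W.1)
  have key := isLocalization_eqLocus (GW W).s.appTop.hom (GW W).t.appTop.hom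
    (GW (Wg W g)).s.appTop.hom (GW (Wg W g)).t.appTop.hom
    (G.U.homOfLE (Wg_le W g)).appTop.hom (G.R.homOfLE (RO_mono G (Wg_le W g))).appTop.hom
    (hσ (Wg_le W g)) (hτ (Wg_le W g)) g.1 g.2 hA hB
  letI := (resC (Wg_le W g)).toAlgebra
  haveI : IsLocalization.Away (⟨g.1, g.2⟩ : CW W) (CW (Wg W g)) := key
  exact IsOpenImmersion.of_isLocalization (⟨g.1, g.2⟩ : CW W)

theorem pre_trans {W' W : J G} (h : W'.1 ≤ W.1) (V : (YW W).Opens) :
    pre W' (trans h ⁻¹ᵁ V) = W'.1 ⊓ pre W V := by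
  ext u
  show u ∈ pre W' _ ↔ u ∈ W'.1 ∧ u ∈ pre W V
  rw [mem_pre, mem_pre]
  constructor
  · rintro ⟨h', hv⟩
    refine ⟨h', h h', ?_⟩
    have h3 : trans h (pW W' ⟨u, h'⟩) ∈ V := hv
    rwa [trans_pW_apply] at h3
  · rintro ⟨h', hW, hv⟩
    refine ⟨h', ?_⟩
    show trans h (pW W' ⟨u, h'⟩) ∈ V
    rw [trans_pW_apply]
    exact hv

theorem Wg_res {W' W : J G} (h : W'.1 ≤ W.1) (g : CW W) :
    (Wg W' (resC h g)).1 = W'.1 ⊓ (Wg W g).1 := by
  show pre W' (PrimeSpectrum.basicOpen (resC h g)) = W'.1 ⊓ pre W (PrimeSpectrum.basicOpen g)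
  rw [← pre_trans h]
  rfl

/-- the order on invariant affine opens: inclusion with open immersion on quotients -/
def Le (W' W : J G) : Prop := ∃ h : W'.1 ≤ W.1, IsOpenImmersion (trans h)

theorem Le.le {W' W : J G} (h : Le W' W) : W'.1 ≤ W.1 := by
  obtain ⟨h', -⟩ := h
  exact h'

theorem Le.oi {W' W : J G} (h : Le W' W) : IsOpenImmersion (trans (Le.le h)) := by
  obtain ⟨h', hoi⟩ := h
  exact hoi

theorem Le.refl (W : J G) : Le W W := ⟨le_rfl, by rw [trans_id]; infer_instance⟩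

theorem Le.trans' {W'' W' W : J G} (h1 : Le W'' W') (h2 : Le W' W) : Le W'' W :=
  ⟨(Le.le h1).trans (Le.le h2), by
    rw [trans_comp (Le.le h1) (Le.le h2)]
    haveI := Le.oi h1
    haveI := Le.oi h2
    infer_instance⟩

theorem Le.of_principal (W : J G) (g : CW W) : Le (Wg W g) W :=
  ⟨Wg_le W g, isOpenImmersion_trans_Wg W g⟩

theorem Le.of_eq {l l' a : J G} (e : l' = l) (h : Le l' a) : Le l a := e ▸ h

theorem exists_le_le (i j : J G) (u : G.U) (hi : u ∈ i.1) (hj : u ∈ j.1) :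
    ∃ l : J G, u ∈ l.1 ∧ Le l i ∧ Le l j := by
  have hinv : G.s ⁻¹ᵁ (i.1 ⊓ j.1) = G.t ⁻¹ᵁ (i.1 ⊓ j.1) := inv_of_forall G (fun r => by
    show (G.s r ∈ i.1 ∧ G.s r ∈ j.1) ↔ (G.t r ∈ i.1 ∧ G.t r ∈ j.1)
    rw [mem_iff_of_inv G i.3 r, mem_iff_of_inv G j.3 r])
  obtain ⟨g1, hu1, h1⟩ := exists_principal i (i.1 ⊓ j.1) hinv u hi ⟨hi, hj⟩
  have haj : (Wg i g1).1 ≤ j.1 := h1.trans inf_le_right
  obtain ⟨g2, hu2, h2⟩ := exists_principal j (Wg i g1).1 (Wg i g1).3 u hj hu1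
  have hl : Wg (Wg i g1) (resC haj g2) = Wg j g2 :=
    J.ext' (by rw [Wg_res]; exact inf_eq_right.mpr h2)
  refine ⟨Wg j g2, hu2, ?_, Le.of_principal j g2⟩
  exact (Le.of_eq hl (Le.of_principal _ _)).trans' (Le.of_principal i g1)

noncomputable instance : Preorder (J G) where
  le := Le
  le_refl := Le.refl
  le_trans _ _ _ := Le.trans'

variable (G) in
/-- the diagram of local quotients -/
noncomputable def F : J G ⥤ Scheme.{u} where
  obj W := YW W
  map f := trans (Le.le (leOfHom f))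
  map_id W := trans_id W
  map_comp f g := trans_comp _ _

instance {i j : J G} (f : i ⟶ j) : IsOpenImmersion ((F G).map f) := Le.oi (leOfHom f)

instance : ((F G) ⋙ Scheme.forget).IsLocallyDirected where
  cond {i j k} fi fj xi xj heq := by
    obtain ⟨ui, rfl⟩ := surjective_pW i xi
    obtain ⟨uj, rfl⟩ := surjective_pW j xj
    have hik : i.1 ≤ k.1 := Le.le (leOfHom fi)
    have hjk : j.1 ≤ k.1 := Le.le (leOfHom fj)
    have h1 : trans hik (pW i ui) = trans hjk (pW j uj) := heq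
    rw [trans_pW_apply, trans_pW_apply] at h1
    obtain ⟨r, hr1, hr2⟩ := (pW_eq_iff k _ _).1 h1
    have huj : ui.1 ∈ j.1 := by
      rw [← hr1]
      exact (mem_iff_of_inv G j.3 r).1 (by rw [hr2]; exact uj.2)
    obtain ⟨l, hul, hli, hlj⟩ := exists_le_le i j ui.1 ui.2 huj
    refine ⟨l, homOfLE hli, homOfLE hlj, pW l ⟨ui.1, hul⟩, ?_, ?_⟩
    · show trans _ (pW l ⟨ui.1, hul⟩) = pW i ui
      rw [trans_pW_apply]
      rfl
    · show trans _ (pW l ⟨ui.1, hul⟩) = pW j uj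
      rw [trans_pW_apply]
      exact (pW_eq_iff j _ _).2 ⟨r, hr1, hr2⟩

end Glob

end Groth.Agent.Helper3.GQ4
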