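import Mathlib
import Groth.Prelude.Def_Grpd
import Groth.Agent.Lib.Helper3.GQ2
import Groth.Agent.Lib.Helper3.GQ4

/-!
# The global quotient `p : U → Y` (helper3)
-/

set_option autoImplicit false
set_option linter.style.haveILetI false
set_option linter.unusedSectionVars false
universe u

open CategoryTheory CategoryTheory.Limits AlgebraicGeometry
open Grpd

namespace Groth.Agent.Helper3.GQ5

open Groth.Agent.Helper3.GQ1 Groth.Agent.Helper3.GQ2 Groth.Agent.Helper3.GQ3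
  Groth.Agent.Helper3.GQ4

variable {S : Scheme.{u}} {G : GroupoidScheme S}
  [IsFinite G.s] [Flat G.s] [LocallyOfFinitePresentation G.s]

variable (G) in
/-- the quotient scheme -/
noncomputable def Y : Scheme.{u} := colimit (F G)

/-- the open immersions `Y_W → Y` -/
noncomputable def ιY (W : J G) : YW W ⟶ Y G := colimit.ι (F G) W

instance (W : J G) : IsOpenImmersion (ιY W) :=
  inferInstanceAs (IsOpenImmersion (colimit.ι (F G) W))

theorem ιY_trans {W' W : J G} (h : Le W' W) : trans (Le.le h) ≫ ιY W = ιY W' :=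
  colimit.w (F G) (homOfLE h)

theorem ιY_eq_iff {i j : J G} (xi : YW i) (xj : YW j) :
    ιY i xi = ιY j xj ↔ ∃ (k : J G) (hi : Le k i) (hj : Le k j) (x : YW k),
      trans (Le.le hi) x = xi ∧ trans (Le.le hj) x = xj := by
  constructor
  · intro h
    obtain ⟨k, fi, fj, x, h1, h2⟩ := (Scheme.IsLocallyDirected.ι_eq_ι_iff (F G)).1 h
    exact ⟨k, leOfHom fi, leOfHom fj, x, h1, h2⟩
  · rintro ⟨k, hi, hj, x, rfl, rfl⟩
    rw [← Scheme.Hom.comp_apply, ← Scheme.Hom.comp_apply, ιY_trans hi, ιY_trans hj]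

theorem ιY_jointly_surjective (y : Y G) : ∃ (W : J G) (x : YW W), ιY W x = y :=
  Scheme.IsLocallyDirected.ι_jointly_surjective (F G) y

/-- the hypothesis: every orbit lies in an affine open -/
def Hb (G : GroupoidScheme S) : Prop :=
  ∀ x : G.U, ∃ V : G.U.Opens, IsAffineOpen V ∧ ∀ r : G.R, G.s r = x → G.t r ∈ V

theorem exists_J_mem_le (hb : Hb G) (u : G.U) (O : G.U.Opens) (hO : G.s ⁻¹ᵁ O = G.t ⁻¹ᵁ O)
    (hu : u ∈ O) : ∃ W : J G, u ∈ W.1 ∧ W.1 ≤ O := by
  obtain ⟨V, hV, hxV⟩ := hb u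
  obtain ⟨W, hW, hinv, huW, hle⟩ := exists_inv_affine G u V hV hxV O hO hu
  exact ⟨⟨W, hW, hinv⟩, huW, hle⟩

theorem inv_top : G.s ⁻¹ᵁ (⊤ : G.U.Opens) = G.t ⁻¹ᵁ ⊤ :=
  inv_of_forall G (fun _ => ⟨fun _ => trivial, fun _ => trivial⟩)

/-- a downward closed covering family of invariant affine opens -/
structure CovP (P : G.U.Opens → Prop) : Prop where
  down : ∀ W W' : G.U.Opens, W' ≤ W → P W → P W'
  cov : ∀ u : G.U, ∃ W : J G, P W.1 ∧ u ∈ W.1

/-- the index set -/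
structure JP (P : G.U.Opens → Prop) : Type u where
  /-- the invariant affine open -/
  W : J G
  hP : P W.1

noncomputable instance (P : G.U.Opens → Prop) : Preorder (JP (G := G) P) := Preorder.lift JP.W

/-- the cover of `U` -/
noncomputable def covU (P : G.U.Opens → Prop) (hP : CovP (G := G) P) : G.U.OpenCover where
  I₀ := JP (G := G) P
  X i := i.W.1.toScheme
  f i := i.W.1.ι
  mem₀ := by
    rw [Scheme.presieve₀_mem_precoverage_iff]
    refine ⟨fun u ↦ ?_, inferInstance⟩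
    obtain ⟨W, hW, hu⟩ := hP.cov u
    exact ⟨⟨W, hW⟩, ⟨u, hu⟩, rfl⟩

noncomputable instance (P : G.U.Opens → Prop) (hP : CovP (G := G) P) :
    Preorder (covU P hP).I₀ :=
  inferInstanceAs (Preorder (JP (G := G) P))

theorem leW {P : G.U.Opens → Prop} {hP : CovP (G := G) P} {i j : (covU P hP).I₀} (hij : i ⟶ j) :
    Le i.W j.W := leOfHom hij

noncomputable instance instLDU (P : G.U.Opens → Prop) (hP : CovP (G := G) P) :
    Scheme.Cover.LocallyDirected (covU P hP) where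
  trans {i j} hij := G.U.homOfLE (Le.le (leW hij))
  property_trans hij := inferInstanceAs (IsOpenImmersion (G.U.homOfLE _))
  trans_id i := Scheme.homOfLE_rfl _ _
  trans_comp hij hjk := (Scheme.homOfLE_homOfLE _ _ _).symm
  w hij := Scheme.homOfLE_ι _ _
  directed {i j} x := by
    have hx := congr($(pullback.condition (f := (covU P hP).f i) (g := (covU P hP).f j)) x)
    obtain ⟨ui, hui⟩ : ∃ ui : i.W.1.toScheme,
        ui = pullback.fst ((covU P hP).f i) ((covU P hP).f j) x := ⟨_, rfl⟩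
    obtain ⟨uj, huj⟩ : ∃ uj : j.W.1.toScheme,
        uj = pullback.snd ((covU P hP).f i) ((covU P hP).f j) x := ⟨_, rfl⟩
    have hij' : ui.1 = uj.1 := by
      rw [hui, huj]
      exact hx
    obtain ⟨l, hul, hli, hlj⟩ := exists_le_le i.W j.W ui.1 ui.2 (hij' ▸ uj.2)
    refine ⟨⟨l, hP.down _ _ (Le.le hli) i.hP⟩, homOfLE hli, homOfLE hlj, ⟨ui.1, hul⟩, ?_⟩
    apply (pullback.fst ((covU P hP).f i) ((covU P hP).f j) ≫
      (covU P hP).f i).isOpenEmbedding.injective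
    rw [← Scheme.Hom.comp_apply, pullback.lift_fst_assoc,
      Scheme.Hom.comp_apply (pullback.fst _ _), ← hui]
    show (G.U.homOfLE _ ≫ i.W.1.ι) _ = _
    rw [Scheme.homOfLE_ι]
    rfl

/-- the trivial family -/
def PT : G.U.Opens → Prop := fun _ => True

theorem covP_top (hb : Hb G) : CovP (G := G) PT :=
  ⟨fun _ _ _ _ => trivial, fun u => by
    obtain ⟨W, hu, -⟩ := exists_J_mem_le hb u ⊤ inv_top trivial
    exact ⟨W, trivial, hu⟩⟩

theorem p_compat (hb : Hb G) {i j : (covU PT (covP_top hb)).I₀} (hij : i ⟶ j) :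
    (covU PT (covP_top hb)).trans hij ≫ pW j.W ≫ ιY j.W = pW i.W ≫ ιY i.W := by
  show G.U.homOfLE (Le.le (leW hij)) ≫ pW j.W ≫ ιY j.W = pW i.W ≫ ιY i.W
  rw [← Category.assoc, ← pW_trans, Category.assoc, ιY_trans (leW hij)]

/-- the quotient map -/
noncomputable def p (hb : Hb G) : G.U ⟶ Y G :=
  (covU PT (covP_top hb)).glueMorphismsOfLocallyDirected (fun i => pW i.W ≫ ιY i.W)
    (fun {_ _} hij => p_compat hb hij)

@[reassoc]
theorem ι_p (hb : Hb G) (W : J G) : W.1.ι ≫ p hb = pW W ≫ ιY W :=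
  (covU PT (covP_top hb)).map_glueMorphismsOfLocallyDirected (fun i => pW i.W ≫ ιY i.W)
    (fun {_ _} hij => p_compat hb hij) (⟨W, trivial⟩ : JP PT)

theorem p_apply (hb : Hb G) (W : J G) (u : G.U) (hu : u ∈ W.1) :
    p hb u = ιY W (pW W ⟨u, hu⟩) := by
  have h1 := congr($(ι_p hb W) ⟨u, hu⟩)
  rw [Scheme.Hom.comp_apply, Scheme.Hom.comp_apply] at h1
  exact h1

theorem exists_J_mem (hb : Hb G) (u : G.U) : ∃ W : J G, u ∈ W.1 := by
  obtain ⟨W, hu, -⟩ := exists_J_mem_le hb u ⊤ inv_top trivial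
  exact ⟨W, hu⟩

theorem surjective_p (hb : Hb G) : Function.Surjective (p hb) := by
  intro y
  obtain ⟨W, x, rfl⟩ := ιY_jointly_surjective y
  obtain ⟨u, rfl⟩ := surjective_pW W x
  exact ⟨u.1, p_apply hb W u.1 u.2⟩

theorem mem_range_iff (hb : Hb G) (W : J G) (u : G.U) :
    p hb u ∈ Set.range (ιY W) ↔ u ∈ W.1 := by
  constructor
  · rintro ⟨y, hy⟩
    obtain ⟨W', hu'⟩ := exists_J_mem hb u
    rw [p_apply hb W' u hu'] at hy
    obtain ⟨k, hi, hj, x, h1, h2⟩ := (ιY_eq_iff y _).1 hy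
    obtain ⟨u'', rfl⟩ := surjective_pW k x
    rw [trans_pW_apply] at h2
    obtain ⟨r, hr1, hr2⟩ := (pW_eq_iff W' _ _).1 h2
    have h3 : G.t r ∈ k.1 := by
      rw [hr1]
      exact u''.2
    have h4 : G.s r ∈ k.1 := (mem_iff_of_inv G k.3 r).2 h3
    rw [hr2] at h4
    exact Le.le hi h4
  · intro hu
    exact ⟨_, (p_apply hb W u hu).symm⟩

theorem p_eq_iff (hb : Hb G) (u u' : G.U) :
    p hb u = p hb u' ↔ ∃ r : G.R, G.t r = u ∧ G.s r = u' := by
  obtain ⟨W, hu⟩ := exists_J_mem hb u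
  constructor
  · intro h
    have hu' : u' ∈ W.1 := by
      rw [← mem_range_iff hb W, ← h, mem_range_iff hb W]
      exact hu
    rw [p_apply hb W u hu, p_apply hb W u' hu'] at h
    exact (pW_eq_iff W _ _).1 ((ιY W).isOpenEmbedding.injective h)
  · rintro ⟨r, hr1, hr2⟩
    have hu' : u' ∈ W.1 := by
      rw [← hr2]
      exact (mem_iff_of_inv G W.3 r).2 (by rw [hr1]; exact hu)
    rw [p_apply hb W u hu, p_apply hb W u' hu']
    exact congrArg _ ((pW_eq_iff W ⟨u, hu⟩ ⟨u', hu'⟩).2 ⟨r, hr1, hr2⟩)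

theorem w (hb : Hb G) : G.t ≫ p hb = G.s ≫ p hb := by
  apply Scheme.hom_ext_of_forall
  intro r
  obtain ⟨W, hW⟩ := exists_J_mem hb (G.s r)
  refine ⟨G.s ⁻¹ᵁ W.1, hW, ?_⟩
  have h1 : (G.s ⁻¹ᵁ W.1).ι ≫ G.t ≫ p hb = (GW W).t ≫ pW W ≫ ιY W := by
    rw [← ι_p hb W, ← restr_t_ι_assoc G W.1 W.3]
  have h2 : (G.s ⁻¹ᵁ W.1).ι ≫ G.s ≫ p hb = (GW W).s ≫ pW W ≫ ιY W := by
    rw [← ι_p hb W, ← restr_s_ι_assoc G W.1 W.3]
  rw [h1, h2, ← Category.assoc, ← Category.assoc, GrpdFibSch.t_toQuot (GW W)]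

theorem isPullback_p (hb : Hb G) (W : J G) : IsPullback (pW W) W.1.ι (ιY W) (p hb) := by
  apply IsOpenImmersion.isPullback _ _ _ _ (ι_p hb W)
  ext u
  show p hb u ∈ Set.range (ιY W) ↔ u ∈ Set.range W.1.ι
  rw [mem_range_iff, Scheme.Opens.range_ι]
  rfl

/-- properties local on the target can be checked on the local quotients -/
theorem of_local (P : MorphismProperty Scheme.{u}) [IsZariskiLocalAtTarget P] (hb : Hb G)
    (h : ∀ W : J G, P (pW W)) : P (p hb) := by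
  apply IsZariskiLocalAtTarget.of_openCover (Scheme.IsLocallyDirected.openCover (F G))
  intro W
  have hpb := (isPullback_p hb W).flip
  have e : hpb.isoPullback.hom ≫ pullback.snd (p hb) (ιY W) = pW W := hpb.isoPullback_hom_snd
  show P (pullback.snd (p hb) (ιY W))
  rw [← MorphismProperty.cancel_left_of_respectsIso P hpb.isoPullback.hom, e]
  exact h W

theorem isIntegralHom_p (hb : Hb G) : IsIntegralHom (p hb) :=
  of_local @IsIntegralHom hb (fun W => isIntegralHom_toQuot (GW W))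

theorem isOpenMap_p (hb : Hb G) : IsOpenMap (p hb) := by
  intro O hO
  have h : p hb '' O = ⋃ W : J G, ιY W '' (pW W '' (W.1.ι ⁻¹' O)) := by
    ext y
    simp only [Set.mem_image, Set.mem_iUnion, Set.mem_preimage]
    constructor
    · rintro ⟨u, hu, rfl⟩
      obtain ⟨W, hW⟩ := exists_J_mem hb u
      exact ⟨W, _, ⟨⟨u, hW⟩, hu, rfl⟩, (p_apply hb W u hW).symm⟩
    · rintro ⟨W, _, ⟨u, hu, rfl⟩, rfl⟩
      exact ⟨u.1, hu, p_apply hb W u.1 u.2⟩
  rw [h]
  exact isOpen_iUnion fun W => (ιY W).isOpenEmbedding.isOpenMap _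
    (isOpenMap_toQuot (GW W) _ (hO.preimage W.1.ι.continuous))

theorem isAffine_Y (hb : Hb G) [IsAffine G.U] : IsAffine (Y G) := by
  obtain ⟨W, hW⟩ : ∃ W : J G, W.1 = ⊤ := ⟨⟨⊤, isAffineOpen_top G.U, inv_top⟩, rfl⟩
  haveI : IsIso (ιY W) := by
    apply isIso_of_isOpenImmersion_of_opensRange_eq_top
    ext y
    simp only [Scheme.Hom.coe_opensRange, TopologicalSpace.Opens.coe_top, Set.mem_univ, iff_true]
    obtain ⟨u, rfl⟩ := surjective_p hb y
    exact (mem_range_iff hb W u).2 (by rw [hW]; trivial)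
  exact IsAffine.of_isIso (inv (ιY W))

end Groth.Agent.Helper3.GQ5
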