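import Mathlib
import Groth.Prelude.Def_Grpd
import Groth.Agent.Lib.Helper3.GQ5

/-!
# The universal property of the global quotient and surjectivity of `R → U ×_Y U` (helper3)
-/

set_option autoImplicit false
set_option linter.style.haveILetI false
set_option linter.unusedSectionVars false
universe u

open CategoryTheory CategoryTheory.Limits AlgebraicGeometry
open Grpd

namespace Groth.Agent.Helper3.GQ6

open Groth.Agent.Helper3.GQ1 Groth.Agent.Helper3.GQ2 Groth.Agent.Helper3.GQ3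
  Groth.Agent.Helper3.GQ4 Groth.Agent.Helper3.GQ5

variable {S : Scheme.{u}} {G : GroupoidScheme S}
  [IsFinite G.s] [Flat G.s] [LocallyOfFinitePresentation G.s]

/-- the cover of `Y` -/
noncomputable def covY (hb : Hb G) (P : G.U.Opens → Prop) (hP : CovP (G := G) P) :
    (Y G).OpenCover where
  I₀ := JP (G := G) P
  X i := YW i.W
  f i := ιY i.W
  mem₀ := by
    rw [Scheme.presieve₀_mem_precoverage_iff]
    refine ⟨fun y ↦ ?_, inferInstance⟩
    obtain ⟨u, rfl⟩ := surjective_p hb y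
    obtain ⟨W₀, hPW₀, hu₀⟩ := hP.cov u
    exact ⟨⟨W₀, hPW₀⟩, pW W₀ ⟨u, hu₀⟩, (p_apply hb W₀ u hu₀).symm⟩

noncomputable instance (hb : Hb G) (P : G.U.Opens → Prop) (hP : CovP (G := G) P) :
    Preorder (covY hb P hP).I₀ :=
  inferInstanceAs (Preorder (JP (G := G) P))

theorem leWY {hb : Hb G} {P : G.U.Opens → Prop} {hP : CovP (G := G) P}
    {i j : (covY hb P hP).I₀} (hij : i ⟶ j) : Le i.W j.W := leOfHom hij

noncomputable instance instLDY (hb : Hb G) (P : G.U.Opens → Prop) (hP : CovP (G := G) P) :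
    Scheme.Cover.LocallyDirected (covY hb P hP) where
  trans {i j} hij := trans (Le.le (leWY hij))
  property_trans hij := Le.oi (leWY hij)
  trans_id i := trans_id i.W
  trans_comp hij hjk := trans_comp _ _
  w hij := ιY_trans (leWY hij)
  directed {i j} x := by
    have hx := congr($(pullback.condition (f := (covY hb P hP).f i)
      (g := (covY hb P hP).f j)) x)
    obtain ⟨xi, hxi⟩ : ∃ xi : YW i.W,
        xi = pullback.fst ((covY hb P hP).f i) ((covY hb P hP).f j) x := ⟨_, rfl⟩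
    obtain ⟨xj, hxj⟩ : ∃ xj : YW j.W,
        xj = pullback.snd ((covY hb P hP).f i) ((covY hb P hP).f j) x := ⟨_, rfl⟩
    have h1 : ιY i.W xi = ιY j.W xj := by
      rw [hxi, hxj]
      exact hx
    obtain ⟨k, hi, hj, z, h2, h3⟩ := (ιY_eq_iff xi xj).1 h1
    refine ⟨⟨k, hP.down _ _ (Le.le hi) i.hP⟩, homOfLE hi, homOfLE hj, z, ?_⟩
    apply (pullback.fst ((covY hb P hP).f i) ((covY hb P hP).f j) ≫
      (covY hb P hP).f i).isOpenEmbedding.injective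
    rw [← Scheme.Hom.comp_apply, pullback.lift_fst_assoc,
      Scheme.Hom.comp_apply (pullback.fst _ _), ← hxi]
    show (trans _ ≫ ιY i.W) z = ιY i.W xi
    rw [Scheme.Hom.comp_apply]
    exact congrArg _ h2

section UP

variable (hb : Hb G) {Z : Scheme.{u}} (ψ : G.U ⟶ Z) (hψ : G.t ≫ ψ = G.s ≫ ψ)

/-- the opens mapping into an affine open of `Z` -/
def Pψ (ψ : G.U ⟶ Z) : G.U.Opens → Prop :=
  fun W => ∃ Z' : Z.Opens, IsAffineOpen Z' ∧ W ≤ ψ ⁻¹ᵁ Z'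

include hb hψ in
theorem covP_ψ : CovP (G := G) (Pψ ψ) :=
  ⟨fun W W' h ⟨Z', hZ', hW⟩ => ⟨Z', hZ', h.trans hW⟩, fun u => by
    obtain ⟨_, ⟨Z', hZ', rfl⟩, huZ', -⟩ :=
      Z.isBasis_affineOpens.exists_subset_of_mem_open (Set.mem_univ (ψ u)) isOpen_univ
    have hinv : G.s ⁻¹ᵁ (ψ ⁻¹ᵁ Z') = G.t ⁻¹ᵁ (ψ ⁻¹ᵁ Z') := by
      rw [← Scheme.Hom.comp_preimage, ← Scheme.Hom.comp_preimage, hψ]
    obtain ⟨W, huW, hW⟩ := exists_J_mem_le hb u (ψ ⁻¹ᵁ Z') hinv huZ'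
    exact ⟨W, ⟨Z', hZ', hW⟩, huW⟩⟩

include hψ in
theorem exists_gW (W : J G) (hW : Pψ ψ W.1) : ∃ g : YW W ⟶ Z, pW W ≫ g = W.1.ι ≫ ψ := by
  obtain ⟨Z', hZ', hle⟩ := hW
  haveI : IsAffine Z'.toScheme := hZ'
  have hinvψ : (GW W).t ≫ ψ.resLE Z' W.1 hle = (GW W).s ≫ ψ.resLE Z' W.1 hle := by
    apply (cancel_mono Z'.ι).1
    rw [Category.assoc, Category.assoc, Scheme.Hom.resLE_comp_ι, restr_t_ι_assoc G W.1 W.3,
      restr_s_ι_assoc G W.1 W.3, hψ]
  obtain ⟨g, hg⟩ := exists_desc_affine (GW W) (ψ.resLE Z' W.1 hle) hinvψ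
  exact ⟨g ≫ Z'.ι, by rw [← Category.assoc, hg, Scheme.Hom.resLE_comp_ι]⟩

/-- the local descents -/
noncomputable def gW (i : JP (G := G) (Pψ ψ)) : YW i.W ⟶ Z := (exists_gW ψ hψ i.W i.hP).choose

theorem pW_gW (i : JP (G := G) (Pψ ψ)) : pW i.W ≫ gW ψ hψ i = i.W.1.ι ≫ ψ :=
  (exists_gW ψ hψ i.W i.hP).choose_spec

theorem gW_compat {i j : (covY hb (Pψ ψ) (covP_ψ hb ψ hψ)).I₀} (hij : i ⟶ j) :
    (covY hb (Pψ ψ) (covP_ψ hb ψ hψ)).trans hij ≫ gW ψ hψ j = gW ψ hψ i := by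
  show trans (Le.le (leWY hij)) ≫ gW ψ hψ j = gW ψ hψ i
  apply (cancel_epi (pW i.W)).1
  rw [← Category.assoc, pW_trans, Category.assoc, pW_gW, pW_gW, ← Category.assoc,
    Scheme.homOfLE_ι]

/-- the descent of an invariant morphism -/
noncomputable def desc : Y G ⟶ Z :=
  (covY hb (Pψ ψ) (covP_ψ hb ψ hψ)).glueMorphismsOfLocallyDirected (gW ψ hψ)
    (fun {_ _} hij => gW_compat hb ψ hψ hij)

theorem ιY_desc (i : JP (G := G) (Pψ ψ)) : ιY i.W ≫ desc hb ψ hψ = gW ψ hψ i :=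
  (covY hb (Pψ ψ) (covP_ψ hb ψ hψ)).map_glueMorphismsOfLocallyDirected (gW ψ hψ)
    (fun {_ _} hij => gW_compat hb ψ hψ hij) i

theorem p_desc : p hb ≫ desc hb ψ hψ = ψ := by
  apply Scheme.hom_ext_of_forall
  intro u
  obtain ⟨W, hPW, huW⟩ := (covP_ψ hb ψ hψ).cov u
  refine ⟨W.1, huW, ?_⟩
  rw [ι_p_assoc, ιY_desc hb ψ hψ ⟨W, hPW⟩]
  exact pW_gW ψ hψ ⟨W, hPW⟩

end UP

theorem hom_ext_Y (hb : Hb G) {Z : Scheme.{u}} (φ₁ φ₂ : Y G ⟶ Z)
    (h : p hb ≫ φ₁ = p hb ≫ φ₂) : φ₁ = φ₂ := by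
  apply (covY hb PT (covP_top hb)).hom_ext
  intro i
  show ιY i.W ≫ φ₁ = ιY i.W ≫ φ₂
  apply (cancel_epi (pW i.W)).1
  rw [← ι_p_assoc hb, ← ι_p_assoc hb, h]

/-- the quotient is a coequalizer in schemes -/
noncomputable def isColimit (hb : Hb G) : IsColimit (Cofork.ofπ (p hb) (w hb)) :=
  Cofork.IsColimit.mk' _ (fun s => ⟨desc hb s.π s.condition, p_desc hb s.π s.condition,
    fun {m} hm => hom_ext_Y hb _ _ (hm.trans (p_desc hb s.π s.condition).symm)⟩)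

theorem exists_geom_point {X : Scheme.{u}} (z : X) :
    ∃ (k : Type u) (_ : Field k) (_ : IsAlgClosed k) (ζ : Spec (CommRingCat.of k) ⟶ X),
      ∀ x, ζ x = z := by
  refine ⟨AlgebraicClosure (X.residueField z), inferInstance, inferInstance,
    Spec.map (CommRingCat.ofHom (algebraMap (X.residueField z)
      (AlgebraicClosure (X.residueField z)))) ≫ X.fromSpecResidueField z, fun x => ?_⟩
  rw [Scheme.Hom.comp_apply, Scheme.fromSpecResidueField_apply]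

/-- `R → U ×_Y U` is surjective -/
theorem surjective_lift (hb : Hb G) :
    Function.Surjective (pullback.lift G.t G.s (w hb)) := by
  intro z
  obtain ⟨k, _, _, ζ, hζ⟩ := exists_geom_point z
  obtain ⟨pt⟩ : Nonempty (Spec (CommRingCat.of k)) :=
    ⟨(⟨⊥, Ideal.isPrime_bot⟩ : PrimeSpectrum k)⟩
  have hsub : ∀ x : Spec (CommRingCat.of k), x = pt := fun x =>
    Subsingleton.elim (α := PrimeSpectrum k) x pt
  obtain ⟨a, ha⟩ : ∃ a : Spec (CommRingCat.of k) ⟶ G.U,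
      a = ζ ≫ pullback.fst (p hb) (p hb) := ⟨_, rfl⟩
  obtain ⟨b, hb'⟩ : ∃ b : Spec (CommRingCat.of k) ⟶ G.U,
      b = ζ ≫ pullback.snd (p hb) (p hb) := ⟨_, rfl⟩
  have hab : a ≫ p hb = b ≫ p hb := by
    rw [ha, hb', Category.assoc, Category.assoc, pullback.condition]
  obtain ⟨W, hW⟩ := exists_J_mem hb (a pt)
  have hbW : b pt ∈ W.1 := by
    rw [← mem_range_iff hb W]
    have h1 := congr($hab pt)
    rw [Scheme.Hom.comp_apply, Scheme.Hom.comp_apply] at h1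
    rw [← h1, mem_range_iff hb W]
    exact hW
  have hra : Set.range a ⊆ Set.range W.1.ι := by
    rw [Scheme.Opens.range_ι]
    rintro _ ⟨x, rfl⟩
    rw [hsub x]
    exact hW
  have hrb : Set.range b ⊆ Set.range W.1.ι := by
    rw [Scheme.Opens.range_ι]
    rintro _ ⟨x, rfl⟩
    rw [hsub x]
    exact hbW
  obtain ⟨a', ha'⟩ : ∃ a' : Spec (CommRingCat.of k) ⟶ W.1.toScheme,
      a' ≫ W.1.ι = a := ⟨IsOpenImmersion.lift W.1.ι a hra, IsOpenImmersion.lift_fac _ _ _⟩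
  obtain ⟨b', hb''⟩ : ∃ b' : Spec (CommRingCat.of k) ⟶ W.1.toScheme,
      b' ≫ W.1.ι = b := ⟨IsOpenImmersion.lift W.1.ι b hrb, IsOpenImmersion.lift_fac _ _ _⟩
  have hab' : a' ≫ pW W = b' ≫ pW W := by
    apply (cancel_mono (ιY W)).1
    rw [Category.assoc, Category.assoc, ← ι_p hb W, ← Category.assoc, ← Category.assoc, ha', hb'',
      hab]
  obtain ⟨r', hr1, hr2⟩ := exists_geom (GW W) k a' b' hab'
  obtain ⟨ρ, hρ⟩ : ∃ ρ : Spec (CommRingCat.of k) ⟶ G.R,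
      ρ = r' ≫ (RO G W.1).ι := ⟨_, rfl⟩
  have hρt : ρ ≫ G.t = a := by
    rw [hρ, Category.assoc, ← restr_t_ι G W.1 W.3, ← Category.assoc, hr1, ha']
  have hρs : ρ ≫ G.s = b := by
    rw [hρ, Category.assoc, ← restr_s_ι G W.1 W.3, ← Category.assoc, hr2, hb'']
  have hlift : ρ ≫ pullback.lift G.t G.s (w hb) = ζ := by
    apply pullback.hom_ext
    · rw [Category.assoc, pullback.lift_fst, hρt, ha]
    · rw [Category.assoc, pullback.lift_snd, hρs, hb']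
  refine ⟨ρ pt, ?_⟩
  rw [← Scheme.Hom.comp_apply, hlift, hζ]

end Groth.Agent.Helper3.GQ6
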