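import Mathlib
import Groth.Prelude.Def_Grpd
import Groth.Agent.Lib.Helper3.GQ6
import Groth.Agent.Lib.Helper3.GrpdQuotSh

/-!
# The global quotient when `j` is a monomorphism (helper3)
-/

set_option autoImplicit false
set_option linter.style.haveILetI false
set_option linter.unusedSectionVars false
universe u

open CategoryTheory CategoryTheory.Limits AlgebraicGeometry
open Grpd

namespace Groth.Agent.Helper3.GQ7

open Groth.Agent.Helper3.GQ1 Groth.Agent.Helper3.GQ2 Groth.Agent.Helper3.GQ3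
  Groth.Agent.Helper3.GQ4 Groth.Agent.Helper3.GQ5 Groth.Agent.Helper3.GQ6

variable {S : Scheme.{u}} {G : GroupoidScheme S}
  [IsFinite G.s] [Flat G.s] [LocallyOfFinitePresentation G.s] [Mono G.j]

theorem finLocFree_pW (W : J G) :
    IsFinite (pW W) ∧ Flat (pW W) ∧ LocallyOfFinitePresentation (pW W) := by
  haveI := t_isFinite (GW W)
  haveI := t_flat (GW W)
  haveI := t_lfp (GW W)
  exact (GrpdQSch.main S (GW W)).1

theorem isFinite_p (hb : Hb G) : IsFinite (p hb) :=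
  of_local @IsFinite hb (fun W => (finLocFree_pW W).1)

theorem flat_p (hb : Hb G) : Flat (p hb) :=
  of_local @Flat hb (fun W => (finLocFree_pW W).2.1)

theorem lfp_p (hb : Hb G) : LocallyOfFinitePresentation (p hb) :=
  of_local @LocallyOfFinitePresentation hb (fun W => (finLocFree_pW W).2.2)

theorem exists_lift (hb : Hb G) {T : Scheme.{u}} (a b : T ⟶ G.U) (hab : a ≫ p hb = b ≫ p hb) :
    ∃ ρ : T ⟶ G.R, ρ ≫ G.t = a ∧ ρ ≫ G.s = b := by
  have hpre : ∀ W : J G, a ⁻¹ᵁ W.1 = b ⁻¹ᵁ W.1 := by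
    intro W
    ext x
    show a x ∈ W.1 ↔ b x ∈ W.1
    rw [← mem_range_iff hb W, ← mem_range_iff hb W]
    have h1 := congr($hab x)
    rw [Scheme.Hom.comp_apply, Scheme.Hom.comp_apply] at h1
    rw [h1]
  have hloc : ∀ W : J G, ∃ ρ : (a ⁻¹ᵁ W.1).toScheme ⟶ G.R,
      ρ ≫ G.t = (a ⁻¹ᵁ W.1).ι ≫ a ∧ ρ ≫ G.s = (a ⁻¹ᵁ W.1).ι ≫ b := by
    intro W
    haveI := t_isFinite (GW W)
    haveI := t_flat (GW W)
    haveI := t_lfp (GW W)
    have hpb := GrpdQuotSh.isPullback_toQuot S (GW W)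
    obtain ⟨a', ha'⟩ : ∃ a' : (a ⁻¹ᵁ W.1).toScheme ⟶ W.1.toScheme,
        a' ≫ W.1.ι = (a ⁻¹ᵁ W.1).ι ≫ a :=
      ⟨a.resLE W.1 (a ⁻¹ᵁ W.1) le_rfl, Scheme.Hom.resLE_comp_ι _ _⟩
    obtain ⟨b', hb'⟩ : ∃ b' : (a ⁻¹ᵁ W.1).toScheme ⟶ W.1.toScheme,
        b' ≫ W.1.ι = (a ⁻¹ᵁ W.1).ι ≫ b :=
      ⟨b.resLE W.1 (a ⁻¹ᵁ W.1) (le_of_eq (hpre W)), Scheme.Hom.resLE_comp_ι _ _⟩
    have hab' : a' ≫ (GW W).toQuot = b' ≫ (GW W).toQuot := by
      apply (cancel_mono (ιY W)).1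
      rw [Category.assoc, Category.assoc, ← ι_p hb W, ← Category.assoc, ← Category.assoc, ha', hb',
        Category.assoc, Category.assoc, hab]
    refine ⟨hpb.lift a' b' hab' ≫ (RO G W.1).ι, ?_, ?_⟩
    · rw [Category.assoc, ← restr_t_ι G W.1 W.3, ← Category.assoc, hpb.lift_fst, ha']
    · rw [Category.assoc, ← restr_s_ι G W.1 W.3, ← Category.assoc, hpb.lift_snd, hb']
  choose ρ hρt hρs using hloc
  have hcov : TopologicalSpace.IsOpenCover (fun W : J G => a ⁻¹ᵁ W.1) := by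
    show (⨆ W : J G, a ⁻¹ᵁ W.1) = ⊤
    rw [eq_top_iff]
    intro x _
    obtain ⟨W, hW⟩ := exists_J_mem hb (a x)
    exact TopologicalSpace.Opens.mem_iSup.mpr ⟨W, hW⟩
  obtain ⟨𝒰, h𝒰⟩ : ∃ 𝒰 : T.OpenCover, 𝒰 = T.openCoverOfIsOpenCover _ hcov := ⟨_, rfl⟩
  have hcompat : ∀ W W' : J G,
      pullback.fst (a ⁻¹ᵁ W.1).ι (a ⁻¹ᵁ W'.1).ι ≫ ρ W =
        pullback.snd (a ⁻¹ᵁ W.1).ι (a ⁻¹ᵁ W'.1).ι ≫ ρ W' := by
    intro W W'
    apply eq_of_mono_j G
    · rw [Category.assoc, Category.assoc, hρt, hρt, ← Category.assoc, ← Category.assoc,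
        pullback.condition]
    · rw [Category.assoc, Category.assoc, hρs, hρs, ← Category.assoc, ← Category.assoc,
        pullback.condition]
  subst h𝒰
  refine ⟨(T.openCoverOfIsOpenCover _ hcov).glueMorphisms ρ hcompat, ?_, ?_⟩
  · apply (T.openCoverOfIsOpenCover _ hcov).hom_ext
    intro W
    rw [← Category.assoc, Scheme.Cover.ι_glueMorphisms]
    exact hρt W
  · apply (T.openCoverOfIsOpenCover _ hcov).hom_ext
    intro W
    rw [← Category.assoc, Scheme.Cover.ι_glueMorphisms]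
    exact hρs W

theorem isPullback_ts (hb : Hb G) : IsPullback G.t G.s (p hb) (p hb) :=
  ⟨⟨w hb⟩, ⟨PullbackCone.IsLimit.mk _
    (fun c => (exists_lift hb c.fst c.snd c.condition).choose)
    (fun c => (exists_lift hb c.fst c.snd c.condition).choose_spec.1)
    (fun c => (exists_lift hb c.fst c.snd c.condition).choose_spec.2)
    (fun c m h1 h2 => eq_of_mono_j G _ _
      (h1.trans (exists_lift hb c.fst c.snd c.condition).choose_spec.1.symm)
      (h2.trans (exists_lift hb c.fst c.snd c.condition).choose_spec.2.symm))⟩⟩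

theorem isIso_lift (hb : Hb G) : IsIso (pullback.lift G.t G.s (w hb)) := by
  have h := isPullback_ts hb
  have e : pullback.lift G.t G.s (w hb) = h.isoPullback.hom := by
    apply pullback.hom_ext
    · rw [pullback.lift_fst, h.isoPullback_hom_fst]
    · rw [pullback.lift_snd, h.isoPullback_hom_snd]
  rw [e]
  infer_instance

end Groth.Agent.Helper3.GQ7
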