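import Mathlib
import Groth.Prelude.Def_Grpd
import Groth.Prelude.Def_AlgSp
import Groth.Agent.Lib.Helper3.GQ7

/-!
# Global quotient by a finite locally free groupoid: packaging lemmas (helper3)
-/

set_option autoImplicit false
set_option linter.style.haveILetI false
set_option linter.unusedSectionVars false
universe u

open CategoryTheory CategoryTheory.Limits AlgebraicGeometry
open Grpd

namespace Groth.Agent.Helper3.GQ8

open Groth.Agent.Helper3.GQ1 Groth.Agent.Helper3.GQ2 Groth.Agent.Helper3.GQ3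
  Groth.Agent.Helper3.GQ4 Groth.Agent.Helper3.GQ5 Groth.Agent.Helper3.GQ6
  Groth.Agent.Helper3.GQ7

variable {S : Scheme.{u}} {G : GroupoidScheme S}

theorem hb_of_image
    (h : ∀ x : G.U, ∃ V : G.U.Opens, IsAffineOpen V ∧
      G.t.base '' (G.s.base ⁻¹' {x}) ⊆ (V : Set G.U)) : Hb G := fun x => by
  obtain ⟨V, hV, hsub⟩ := h x
  exact ⟨V, hV, fun r hr => hsub ⟨r, hr, rfl⟩⟩

theorem hb_of_closed [IsFinite G.s] [Flat G.s] [LocallyOfFinitePresentation G.s]
    (h3 : ∀ Z : Set G.U, IsClosed Z → Z.Nonempty →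
      ∃ u ∈ Z, ∃ W : G.U.Opens, IsAffineOpen W ∧ ∀ r : G.R, G.s r = u → G.t r ∈ W) : Hb G := by
  by_contra hne
  obtain ⟨M, hM⟩ : ∃ M : Set G.U, M = {x | ∃ V : G.U.Opens, IsAffineOpen V ∧
      ∀ r : G.R, G.s r = x → G.t r ∈ V} := ⟨_, rfl⟩
  have hMopen : IsOpen M := by
    rw [isOpen_iff_forall_mem_open]
    intro x hx
    rw [hM] at hx
    obtain ⟨V, hV, hxV⟩ := hx
    obtain ⟨W, hW, hinv, hxW, -⟩ := exists_inv_affine G x V hV hxV ⊤ inv_top trivial
    refine ⟨W, ?_, W.2, hxW⟩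
    intro y hy
    rw [hM]
    exact ⟨W, hW, fun r hr => (mem_iff_of_inv G hinv r).1 (by rw [hr]; exact hy)⟩
  have hne' : Mᶜ.Nonempty := by
    by_contra hemp
    apply hne
    intro x
    by_contra hx
    apply hemp
    refine ⟨x, ?_⟩
    rw [hM]
    exact hx
  obtain ⟨u, huM, W, hW, hu⟩ := h3 Mᶜ hMopen.isClosed_compl hne'
  apply huM
  rw [hM]
  exact ⟨W, hW, hu⟩

theorem mono_j_of_isEqvRel
    (heq : AlgSp.IsEqvRel (Over.homMk G.s G.s_over : Over.mk G.pR ⟶ Over.mk G.pU)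
      (Over.homMk G.t G.t_over : Over.mk G.pR ⟶ Over.mk G.pU)) : Mono G.j := by
  apply mono_j_of_forall
  intro T a b ht hs
  have hbp : b ≫ G.pR = a ≫ G.pR := by
    rw [← G.t_over, ← Category.assoc, ← ht, Category.assoc]
  have h1 := heq.injective (Over.mk (a ≫ G.pR)) (Over.homMk a rfl) (Over.homMk b hbp)
    (by ext; exact ht) (by ext; exact hs)
  exact congrArg (fun φ => φ.left) h1

section Main

variable [IsFinite G.s] [Flat G.s] [LocallyOfFinitePresentation G.s]

/-- **The quotient** (SGA 3 V 4.1, first part). -/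
theorem main (hb : Hb G) :
    ∃ (Y : Scheme.{u}) (p : G.U ⟶ Y) (w : G.t ≫ p = G.s ≫ p),
      Nonempty (IsColimit (Cofork.ofπ p w)) ∧ IsIntegralHom p ∧ Surjective p ∧
      IsOpenMap p.base ∧
      (∀ x y : G.U, p.base x = p.base y ↔ ∃ r : G.R, G.t.base r = x ∧ G.s.base r = y) ∧
      Function.Surjective (pullback.lift G.t G.s w).base ∧ (IsAffine G.U → IsAffine Y) ∧
      (Mono G.j → IsFinite p ∧ Flat p ∧ LocallyOfFinitePresentation p ∧
        IsPullback G.t G.s p p ∧ IsIso (pullback.lift G.t G.s w)) :=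
  ⟨Y G, p hb, w hb, ⟨isColimit hb⟩, isIntegralHom_p hb, ⟨surjective_p hb⟩, isOpenMap_p hb,
    p_eq_iff hb, surjective_lift hb, fun h => by haveI := h; exact isAffine_Y hb,
    fun h => by
      haveI := h
      exact ⟨isFinite_p hb, flat_p hb, lfp_p hb, isPullback_ts hb, isIso_lift hb⟩⟩

/-- every coequalizer is the good quotient -/
theorem of_isColimit (hb : Hb G) [Mono G.j] {Y' : Scheme.{u}} (p' : G.U ⟶ Y')
    (w' : G.t ≫ p' = G.s ≫ p') (hc : IsColimit (Cofork.ofπ p' w')) :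
    IsPullback G.t G.s p' p' ∧ IsFinite p' ∧ Flat p' ∧ LocallyOfFinitePresentation p' := by
  obtain ⟨e, hpe⟩ : ∃ e : Y G ≅ Y', p hb ≫ e.hom = p' :=
    ⟨(isColimit hb).coconePointUniqueUpToIso hc,
      (isColimit hb).comp_coconePointUniqueUpToIso_hom hc WalkingParallelPair.one⟩
  haveI := isFinite_p hb
  haveI := flat_p hb
  haveI := lfp_p hb
  refine ⟨?_, ?_, ?_, ?_⟩
  · exact IsPullback.of_iso (isPullback_ts hb) (Iso.refl _) (Iso.refl _) (Iso.refl _) e
      (by simp) (by simp) (by simpa using hpe) (by simpa using hpe)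
  · rw [← hpe]
    infer_instance
  · rw [← hpe]
    infer_instance
  · rw [← hpe]
    infer_instance

end Main

end Groth.Agent.Helper3.GQ8
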