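import Mathlib
import Groth.Prelude.Def_Grpd
import Groth.Prelude.Def_SGA1
import Groth.Agent.Lib.Helper3.AG1
import Groth.Agent.Lib.Helper3.GQ8
import Groth.Agent.Lib.Helper21.GQuot2

/-!
# The action groupoid of a finite group and quotients (helper3)
-/

set_option autoImplicit false
set_option linter.style.haveILetI false
set_option linter.unusedSectionVars false
universe u

open CategoryTheory CategoryTheory.Limits AlgebraicGeometry
open Grpd

namespace Groth.Agent.Helper3.AG2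

open Groth.Agent.Helper3.AG1 Groth.Agent.Helper3.GQ1

variable {X : Scheme.{u}} {G : Type u} [Group G] (ρ : G →* Aut X)

/-- free on geometric points implies `(t, s)` is a monomorphism -/
theorem mono_j_of_free
    (hfree : ∀ (K : Type u) [Field K] [IsAlgClosed K] (ξ : Spec (CommRingCat.of K) ⟶ X) (g : G),
      ξ ≫ (ρ g).hom = ξ → g = 1) : Mono (act ρ).j := by
  apply mono_j_of_forall
  intro T a b ht hs
  have ht' : a ≫ t ρ = b ≫ t ρ := ht
  have hs' : a ≫ s = b ≫ s := hs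
  apply Scheme.hom_ext_of_forall
  intro x
  obtain ⟨g, h, O, a', b', hx, ha, hb⟩ := exists_factor₂ a b x
  refine ⟨O, hx, ?_⟩
  have e1 : a' = b' := by
    have h1 : (O.ι ≫ a) ≫ s = (O.ι ≫ b) ≫ s := by
      rw [Category.assoc, Category.assoc, hs']
    rw [ha, hb, Category.assoc, Category.assoc, ι_s, ι_s, Category.comp_id, Category.comp_id] at h1
    exact h1
  have e2 : a' ≫ (ρ g).hom = a' ≫ (ρ h).hom := by
    have h1 : (O.ι ≫ a) ≫ t ρ = (O.ι ≫ b) ≫ t ρ := by
      rw [Category.assoc, Category.assoc, ht']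
    rw [ha, hb, Category.assoc, Category.assoc, ι_t, ι_t, ← e1] at h1
    exact h1
  obtain ⟨K, _, _, ζ, -⟩ := Groth.Agent.Helper3.GQ6.exists_geom_point (X := O.toScheme) ⟨x, hx⟩
  have e3 : (ζ ≫ a') ≫ (ρ (h⁻¹ * g)).hom = ζ ≫ a' := by
    rw [ρ_mul_hom]
    calc (ζ ≫ a') ≫ (ρ g).hom ≫ (ρ h⁻¹).hom
        = ζ ≫ (a' ≫ (ρ g).hom) ≫ (ρ h⁻¹).hom := by simp only [Category.assoc]
      _ = ζ ≫ (a' ≫ (ρ h).hom) ≫ (ρ h⁻¹).hom := by rw [e2]
      _ = ζ ≫ a' := by simp only [Category.assoc, ρ_comp_inv, Category.comp_id]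
  have e4 : h = g := inv_mul_eq_one.mp (hfree K (ζ ≫ a') (h⁻¹ * g) e3)
  rw [ha, hb, e1, e4]

theorem w_of_inv {Y : Scheme.{u}} (p : X ⟶ Y) (hinv : ∀ g : G, (ρ g).hom ≫ p = p) :
    (act ρ).t ≫ p = (act ρ).s ≫ p := by
  apply hom_ext_R
  intro g
  show ι g ≫ t ρ ≫ p = ι g ≫ s ≫ p
  rw [ι_t_assoc, ι_s_assoc, hinv]

theorem inv_of_w {Z : Scheme.{u}} (k : X ⟶ Z) (hk : (act ρ).t ≫ k = (act ρ).s ≫ k) (g : G) :
    (ρ g).hom ≫ k = k := by
  have hk' : t ρ ≫ k = s ≫ k := hk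
  have := congrArg (fun φ => ι g ≫ φ) hk'
  simpa only [ι_t_assoc, ι_s_assoc] using this

section Quot

variable [Finite G] {Y : Scheme.{u}} (p : X ⟶ Y) (hp : SGA1.IsQuot ρ p)

include hp

theorem hb_of_isQuot : Groth.Agent.Helper3.GQ5.Hb (act ρ) := by
  intro x
  haveI := hp.affine
  have hV : IsAffineOpen (Y.affineCover.f (Y.affineCover.idx (p x))).opensRange :=
    isAffineOpen_opensRange _
  have hxV : p x ∈ (Y.affineCover.f (Y.affineCover.idx (p x))).opensRange :=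
    Y.affineCover.covers (p x)
  refine ⟨p ⁻¹ᵁ (Y.affineCover.f (Y.affineCover.idx (p x))).opensRange, hV.preimage p,
    fun r hr => ?_⟩
  obtain ⟨g, y, rfl⟩ := exists_ι_eq r
  have hy : y = x := by
    have h1 : s (ι g y) = x := hr
    rw [← Scheme.Hom.comp_apply, ι_s] at h1
    exact h1
  show p (t ρ (ι g y)) ∈ (Y.affineCover.f (Y.affineCover.idx (p x))).opensRange
  rw [← Scheme.Hom.comp_apply, ← Scheme.Hom.comp_apply, ι_t_assoc, hp.inv g, hy]
  exact hxV

/-- a quotient in the sense of SGA 1 V is a coequalizer of the action groupoid -/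
noncomputable def isColimit_of_isQuot : IsColimit (Cofork.ofπ p (w_of_inv ρ p hp.inv)) :=
  Cofork.IsColimit.ofExistsUnique (fun k =>
    Groth.Agent.Helper21.GQuot2.universal ρ p hp _ k.π (inv_of_w ρ k.π k.condition))

end Quot

end Groth.Agent.Helper3.AG2
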