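import Mathlib
import Groth.Prelude.Def_Grpd
import Groth.Prelude.Def_SGA1
import Groth.Agent.Lib.Helper3.AG2
import Groth.Agent.Lib.Helper21.GQuot7

/-!
# The quotient of a scheme by a finite group with orbits in affine opens (helper3)

The global quotient of the action groupoid (GQ libs) is a quotient in the sense of SGA 1 V.
-/

set_option autoImplicit false
set_option linter.style.haveILetI false
set_option linter.unusedSectionVars false
universe u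

open CategoryTheory CategoryTheory.Limits AlgebraicGeometry TopologicalSpace
open Grpd

namespace Groth.Agent.Helper3.AG3

open Groth.Agent.Helper3.AG1 Groth.Agent.Helper3.AG2
open Groth.Agent.Helper3.GQ1 (restr RO restr_s_ι restr_t_ι mem_iff_of_inv)
open Groth.Agent.Helper3.GQ3 (J GW CW YW pW toQuot_appTop_injective)
open Groth.Agent.Helper3.GQ5 (Hb Y ιY ι_p mem_range_iff isIntegralHom_p ιY_jointly_surjective)

theorem appLE_congr {A B : Scheme.{u}} {f g : A ⟶ B} (h : f = g) {U : B.Opens} {V : A.Opens}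
    (e : V ≤ f ⁻¹ᵁ U) (e' : V ≤ g ⁻¹ᵁ U) : f.appLE U V e = g.appLE U V e' := by
  subst h; rfl

/-- `appLE` of an open immersion onto an open is bijective -/
theorem bijective_appLE {A B : Scheme.{u}} (f : A ⟶ B) [IsOpenImmersion f] (O : B.Opens)
    (hO : O ≤ f.opensRange) (e : (⊤ : A.Opens) ≤ f ⁻¹ᵁ O) :
    Function.Bijective (f.appLE O ⊤ e).hom := by
  haveI : IsIso (f.app O) := f.isIso_app O hO
  haveI : IsIso (homOfLE e) := ⟨⟨homOfLE le_top, Subsingleton.elim _ _, Subsingleton.elim _ _⟩⟩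
  haveI : IsIso (f.appLE O ⊤ e) := by
    unfold Scheme.Hom.appLE
    infer_instance
  exact ConcreteCategory.bijective_of_isIso _

theorem toQuot_appTop {S : Scheme.{u}} (G' : GroupoidScheme S) :
    G'.toQuot.appTop = (Scheme.ΓSpecIso (CommRingCat.of G'.invariants)).hom ≫
      CommRingCat.ofHom G'.invariants.subtype := by
  unfold GroupoidScheme.toQuot
  rw [Scheme.Hom.comp_appTop, Scheme.toSpecΓ_appTop, Scheme.ΓSpecIso_naturality]

variable {X : Scheme.{u}} {G : Type u} [Group G] [Finite G] (ρ : G →* Aut X)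

theorem hb_of_orbits
    (h : ∀ x : X, ∃ U : X.Opens, IsAffineOpen U ∧ ∀ g : G, (ρ g).hom.base x ∈ U) :
    Hb (act ρ) := by
  intro x
  obtain ⟨U, hU, hxU⟩ := h x
  refine ⟨U, hU, fun r hr => ?_⟩
  obtain ⟨g, y, rfl⟩ := exists_ι_eq r
  have hy : y = x := by
    have h1 : s (ι g y) = x := hr
    rw [← Scheme.Hom.comp_apply, ι_s] at h1
    exact h1
  show t ρ (ι g y) ∈ U
  rw [← Scheme.Hom.comp_apply, ι_t, hy]
  exact hxU g

section W

variable (W : J (act ρ))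

theorem le_ρ (g : G) : W.1 ≤ (ρ g).hom ⁻¹ᵁ W.1 := by
  intro u hu
  have h1 : (act ρ).s (ι g u) ∈ W.1 := by
    show s (ι g u) ∈ W.1
    rw [← Scheme.Hom.comp_apply, ι_s]
    exact hu
  have h2 : t ρ (ι g u) ∈ W.1 := (mem_iff_of_inv (act ρ) W.3 (ι g u)).1 h1
  rw [← Scheme.Hom.comp_apply, ι_t] at h2
  exact h2

/-- the restricted action -/
noncomputable def ρW (g : G) : W.1.toScheme ⟶ W.1.toScheme :=
  (ρ g).hom.resLE W.1 W.1 (le_ρ ρ W g)

theorem ρW_ι (g : G) : ρW ρ W g ≫ W.1.ι = W.1.ι ≫ (ρ g).hom := Scheme.Hom.resLE_comp_ι _ _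

theorem κ_range (g : G) :
    Set.range (W.1.ι ≫ ι (X := X) g) ⊆ Set.range (RO (act ρ) W.1).ι := by
  rw [Scheme.Opens.range_ι]
  rintro _ ⟨z, rfl⟩
  show s ((W.1.ι ≫ ι g) z) ∈ W.1
  rw [← Scheme.Hom.comp_apply, Category.assoc, ι_s, Category.comp_id]
  exact z.2

/-- the `g`-th copy of `W` in `R_W` -/
noncomputable def κ (g : G) : W.1.toScheme ⟶ (GW W).R :=
  IsOpenImmersion.lift (RO (act ρ) W.1).ι (W.1.ι ≫ ι g) (κ_range ρ W g)

theorem κ_ι (g : G) : κ ρ W g ≫ (RO (act ρ) W.1).ι = W.1.ι ≫ ι g :=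
  IsOpenImmersion.lift_fac _ _ _

instance κ_isOpenImmersion (g : G) : IsOpenImmersion (κ ρ W g) := by
  haveI : IsOpenImmersion (κ ρ W g ≫ (RO (act ρ) W.1).ι) := by
    rw [κ_ι]; infer_instance
  exact IsOpenImmersion.of_comp (κ ρ W g) (RO (act ρ) W.1).ι

theorem κ_s (g : G) : κ ρ W g ≫ (GW W).s = 𝟙 _ := by
  apply (cancel_mono W.1.ι).1
  rw [Category.assoc, restr_s_ι, ← Category.assoc, κ_ι, Category.assoc, Category.id_comp]
  show W.1.ι ≫ ι g ≫ s = W.1.ι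
  rw [ι_s, Category.comp_id]

theorem κ_t (g : G) : κ ρ W g ≫ (GW W).t = ρW ρ W g := by
  apply (cancel_mono W.1.ι).1
  rw [Category.assoc, restr_t_ι, ← Category.assoc, κ_ι, Category.assoc, ρW_ι]
  show W.1.ι ≫ ι g ≫ t ρ = W.1.ι ≫ (ρ g).hom
  rw [ι_t]

theorem κ_surj (x : (GW W).R) : ∃ g : G, x ∈ Set.range (κ ρ W g) := by
  obtain ⟨g, y, hy⟩ := exists_ι_eq (X := X) (G := G) x.1
  have hyW : y ∈ W.1 := by
    have h1 : s (X := X) (G := G) x.1 ∈ W.1 := x.2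
    rw [← hy, ← Scheme.Hom.comp_apply, ι_s] at h1
    exact h1
  refine ⟨g, ⟨y, hyW⟩, ?_⟩
  apply (RO (act ρ) W.1).ι.isOpenEmbedding.injective
  rw [← Scheme.Hom.comp_apply, κ_ι, Scheme.Hom.comp_apply]
  exact hy

/-- the cover of `R_W` by the copies of `W` -/
noncomputable def covR : (GW W).R.OpenCover where
  I₀ := G
  X _ := W.1.toScheme
  f g := κ ρ W g
  mem₀ := by
    rw [Scheme.presieve₀_mem_precoverage_iff]
    exact ⟨fun x => κ_surj ρ W x, fun g => κ_isOpenImmersion ρ W g⟩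

theorem mem_CW (a : Γ(W.1.toScheme, ⊤)) (ha : ∀ g : G, (ρW ρ W g).appTop.hom a = a) :
    a ∈ CW W := by
  show (GW W).s.appTop.hom a = (GW W).t.appTop.hom a
  refine (covR ρ W).ext_elem _ _ (fun g => ?_)
  show (κ ρ W g).appTop.hom ((GW W).s.appTop.hom a) = (κ ρ W g).appTop.hom ((GW W).t.appTop.hom a)
  have h1 : (κ ρ W g).appTop.hom ((GW W).s.appTop.hom a) = a := by
    have := congrArg (fun φ => φ.appTop.hom a) (κ_s ρ W g)
    simp only [Scheme.Hom.comp_appTop] at this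
    exact this.trans (by simp)
  have h2 : (κ ρ W g).appTop.hom ((GW W).t.appTop.hom a) = (ρW ρ W g).appTop.hom a := by
    have := congrArg (fun φ => φ.appTop.hom a) (κ_t ρ W g)
    simp only [Scheme.Hom.comp_appTop] at this
    exact this
  rw [h1, h2, ha g]

end W

section Q

variable (hb : Hb (act ρ))

theorem hinv (g : G) : (ρ g).hom ≫ GQ5.p hb = GQ5.p hb :=
  inv_of_w ρ _ (GQ5.w hb) g

variable (W : J (act ρ))

/-- the affine open of `Y` attached to `W` -/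
noncomputable def VW : (Y (act ρ)).Opens := (ιY W).opensRange

theorem preimage_VW : (GQ5.p hb) ⁻¹ᵁ (VW ρ W) = W.1 := by
  ext u
  exact mem_range_iff hb W u

theorem e2 : (⊤ : W.1.toScheme.Opens) ≤ W.1.ι ⁻¹ᵁ ((GQ5.p hb) ⁻¹ᵁ VW ρ W) := by
  rw [preimage_VW]
  intro z _
  exact z.2

theorem e3 : (⊤ : (YW W).Opens) ≤ (ιY W) ⁻¹ᵁ VW ρ W := fun z _ => ⟨z, rfl⟩

theorem sq : (GQ5.p hb).app (VW ρ W) ≫
      W.1.ι.appLE ((GQ5.p hb) ⁻¹ᵁ VW ρ W) ⊤ (e2 ρ hb W) =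
    (ιY W).appLE (VW ρ W) ⊤ (e3 ρ W) ≫ (pW W).appTop := by
  have h1 : (GQ5.p hb).app (VW ρ W) =
      (GQ5.p hb).appLE (VW ρ W) ((GQ5.p hb) ⁻¹ᵁ VW ρ W) le_rfl :=
    (Scheme.Hom.appLE_eq_app _).symm
  have h2 : (pW W).appTop = (pW W).appLE ⊤ ⊤ le_top := (Scheme.Hom.appLE_eq_app _).symm
  rw [h1, h2, Scheme.Hom.appLE_comp_appLE, Scheme.Hom.appLE_comp_appLE]
  exact appLE_congr (ι_p hb W) _ _

theorem bij1 : Function.Bijective
    (W.1.ι.appLE ((GQ5.p hb) ⁻¹ᵁ VW ρ W) ⊤ (e2 ρ hb W)).hom := by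
  apply bijective_appLE
  rw [preimage_VW]
  intro u hu
  exact ⟨⟨u, hu⟩, rfl⟩

theorem bij2 : Function.Bijective ((ιY W).appLE (VW ρ W) ⊤ (e3 ρ W)).hom :=
  bijective_appLE _ _ le_rfl _

theorem sq_σ (g : G) :
    CommRingCat.ofHom (Groth.Agent.Helper21.GQuot3.σ ρ (GQ5.p hb) (hinv ρ hb) (VW ρ W) g) ≫
      W.1.ι.appLE ((GQ5.p hb) ⁻¹ᵁ VW ρ W) ⊤ (e2 ρ hb W) =
    W.1.ι.appLE ((GQ5.p hb) ⁻¹ᵁ VW ρ W) ⊤ (e2 ρ hb W) ≫ (ρW ρ W g).appTop := by
  have h2 : (ρW ρ W g).appTop = (ρW ρ W g).appLE ⊤ ⊤ le_top := (Scheme.Hom.appLE_eq_app _).symm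
  unfold Groth.Agent.Helper21.GQuot3.σ
  rw [h2, CommRingCat.ofHom_hom, Scheme.Hom.appLE_comp_appLE, Scheme.Hom.appLE_comp_appLE]
  exact appLE_congr (ρW_ι ρ W g).symm _ _

theorem qprop_VW :
    Groth.Agent.Helper21.GQuot6.QProp ρ (GQ5.p hb) (hinv ρ hb) (VW ρ W) := by
  have hsq : ∀ a, (W.1.ι.appLE ((GQ5.p hb) ⁻¹ᵁ VW ρ W) ⊤ (e2 ρ hb W)).hom
      (((GQ5.p hb).app (VW ρ W)).hom a) =
      (pW W).appTop.hom (((ιY W).appLE (VW ρ W) ⊤ (e3 ρ W)).hom a) := fun a =>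
    congrArg (fun m => m.hom a) (sq ρ hb W)
  haveI : IsAffine (GW W).R := Groth.Agent.Helper3.GQ3.isAffine_GW_R W
  constructor
  · intro a b hab
    apply (bij2 ρ W).1
    apply toQuot_appTop_injective (GW W)
    show (pW W).appTop.hom _ = (pW W).appTop.hom _
    rw [← hsq, ← hsq, hab]
  · intro s hs
    have ha : ∀ g : G, (ρW ρ W g).appTop.hom
        ((W.1.ι.appLE ((GQ5.p hb) ⁻¹ᵁ VW ρ W) ⊤ (e2 ρ hb W)).hom s) =
        (W.1.ι.appLE ((GQ5.p hb) ⁻¹ᵁ VW ρ W) ⊤ (e2 ρ hb W)).hom s := by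
      intro g
      have h1 := congrArg (fun m => m.hom s) (sq_σ ρ hb W g)
      simp only [CommRingCat.hom_comp, RingHom.comp_apply, CommRingCat.hom_ofHom] at h1
      rw [← h1, hs g]
    have hmem := mem_CW ρ W _ ha
    obtain ⟨c', hc'⟩ : ∃ c' : Γ(YW W, ⊤), (pW W).appTop.hom c' =
        (W.1.ι.appLE ((GQ5.p hb) ⁻¹ᵁ VW ρ W) ⊤ (e2 ρ hb W)).hom s := by
      refine ⟨(Scheme.ΓSpecIso (CommRingCat.of (CW W))).inv.hom ⟨_, hmem⟩, ?_⟩
      rw [toQuot_appTop]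
      have h3 := congrArg (fun m => m.hom (⟨_, hmem⟩ : CW W))
        (Scheme.ΓSpecIso (CommRingCat.of (CW W))).inv_hom_id
      simp only [CommRingCat.hom_comp, RingHom.comp_apply, CommRingCat.hom_id,
        RingHom.id_apply] at h3
      simp only [CommRingCat.hom_comp, RingHom.comp_apply, CommRingCat.hom_ofHom]
      rw [h3]
      rfl
    obtain ⟨b, hb'⟩ := (bij2 ρ W).2 c'
    refine ⟨b, ?_⟩
    apply (bij1 ρ hb W).1
    rw [hsq, hb', hc']

theorem isQuot : SGA1.IsQuot ρ (GQ5.p hb) := by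
  have haff : IsAffineHom (GQ5.p hb) := by
    haveI := isIntegralHom_p hb
    infer_instance
  refine Groth.Agent.Helper21.GQuot6.isQuot_of_qprop ρ _ (hinv ρ hb) haff ?_
  have hB : Opens.IsBasis {B : (Y (act ρ)).Opens | ∃ (W : J (act ρ))
      (r : Γ(Y (act ρ), VW ρ W)), B = (Y (act ρ)).basicOpen r} := by
    rw [Opens.isBasis_iff_nbhd]
    intro U y hy
    obtain ⟨W, x, rfl⟩ := ιY_jointly_surjective y
    have hV : IsAffineOpen (VW ρ W) := isAffineOpen_opensRange _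
    obtain ⟨r, hr1, hr2⟩ := hV.exists_basicOpen_le ⟨ιY W x, hy⟩ ⟨x, rfl⟩
    exact ⟨_, ⟨W, r, rfl⟩, hr2, hr1⟩
  apply Groth.Agent.Helper21.GQuot6.qprop_of_basis ρ _ (hinv ρ hb) _ hB
  rintro _ ⟨W, r, rfl⟩
  have hV : IsAffineOpen (VW ρ W) := isAffineOpen_opensRange _
  exact Groth.Agent.Helper21.GQuot6.qprop_basicOpen ρ _ (hinv ρ hb) (VW ρ W) hV
    (hV.preimage _) (qprop_VW ρ hb W) r

end Q

end Groth.Agent.Helper3.AG3
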