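import Mathlib
import Groth.Agent.Lib.Helper3.ExtDet2
import Groth.Agent.Lib.Helper23.ExtKer

/-!
Annihilator of the top exterior power of `P / R v` for a finite projective module `P` of
constant rank `n` (helper3).
-/

set_option autoImplicit false
universe u v

namespace Groth.Agent.Helper3.AnnExt

open Module Groth.Agent.Helper3 Groth.Agent.Helper23

variable {R : Type u} [CommRing R]

section Trace

variable {L : Type v} [AddCommGroup L] [Module R L] [Module.Finite R L] [Module.Projective R L]

/-- the trace ideal of a finite projective module of everywhere positive rank is the unit ideal -/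
theorem trace_eq_top (hL : ∀ p : PrimeSpectrum R, 0 < rankAtStalk (R := R) L p) :
    Ideal.span (Set.range fun x : Module.Dual R L × L => x.1 x.2) = ⊤ := by
  by_contra hT
  obtain ⟨m, hm, hTm⟩ := Ideal.exists_le_maximal _ hT
  obtain ⟨n, f, g, -, -, hfg⟩ := Module.Finite.exists_comp_eq_id_of_projective R L
  have hx : ∀ x : L, x ∈ m • (⊤ : Submodule R L) := by
    intro x
    have h1 : x = f (g x) := by
      have := LinearMap.congr_fun hfg x
      simpa using this.symm
    have h2 : g x = ∑ j, (g x j) • (Pi.single j (1 : R) : Fin n → R) := by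
      funext i
      simp [Finset.sum_apply, Pi.single_apply]
    rw [h1, h2, map_sum]
    refine Submodule.sum_mem _ fun j _ => ?_
    rw [map_smul]
    refine Submodule.smul_mem_smul (hTm (Ideal.subset_span ?_)) trivial
    exact ⟨((LinearMap.proj j : (Fin n → R) →ₗ[R] R) ∘ₗ g, x), rfl⟩
  have hle : (⊤ : Submodule R L) ≤ m • (⊤ : Submodule R L) := fun x _ => hx x
  obtain ⟨r, hr1, hr2⟩ := Submodule.exists_sub_one_mem_and_smul_eq_zero_of_fg_of_le_smul m
    (⊤ : Submodule R L) Module.Finite.fg_top hle
  have hrann : r ∈ Module.annihilator R L := Module.mem_annihilator.mpr fun x => hr2 x trivial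
  haveI := hm.isPrime
  have hsupp : (⟨m, hm.isPrime⟩ : PrimeSpectrum R) ∈ Module.support R L :=
    (rankAtStalk_pos_iff_mem_support _).mp (hL _)
  rw [Module.support_eq_zeroLocus, PrimeSpectrum.mem_zeroLocus] at hsupp
  have hrm : r ∈ m := hsupp hrann
  have h1 : (1 : R) ∈ m := by
    have := m.sub_mem hrm hr1
    simpa using this
  exact hm.ne_top ((Ideal.eq_top_iff_one m).mpr h1)

end Trace

section Main

variable {P : Type v} [AddCommGroup P] [Module R P] [Module.Finite R P] [Module.Projective R P]
  {Q : Type v} [AddCommGroup Q] [Module R Q]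

theorem subsingleton_extPow_succ (n : ℕ)
    (hn : ∀ p : PrimeSpectrum R, rankAtStalk (R := R) P p = n) :
    Subsingleton (⋀[R]^(n + 1) P) := by
  haveI := ExtDet2.projective_extPow (B := R) (Q := P) (n + 1)
  rw [← rankAtStalk_eq_zero_iff_subsingleton (R := R)]
  funext p
  rw [ExtDet2.rankAtStalk_extPow, hn p, Nat.choose_succ_self]
  rfl

theorem smul_ιMulti_eq_zero (n : ℕ)
    (hn : ∀ p : PrimeSpectrum R, rankAtStalk (R := R) P p = n)
    (π : P →ₗ[R] Q) (v : P) (hv : π v = 0) (φ : Module.Dual R P) (m : Fin n → P) :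
    φ v • exteriorPower.ιMulti R n (π ∘ m) = 0 := by
  haveI := subsingleton_extPow_succ n hn
  have hw : exteriorPower.ιMulti R (n + 1) (Fin.cons v m : Fin (n + 1) → P) = 0 :=
    Subsingleton.elim _ _
  have hw' : ExteriorAlgebra.ι R v * ExteriorAlgebra.ιMulti R n m = 0 := by
    have h0 := congrArg Subtype.val hw
    rw [ExtKer.ιMulti_cons] at h0
    simpa [exteriorPower.ιMulti_apply_coe] using h0
  have h1 := ExtDet1.cl_ι_mul φ v (ExteriorAlgebra.ιMulti R n m)
  rw [hw', map_zero] at h1
  have h2 : φ v • ExteriorAlgebra.ιMulti R n m =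
      ExteriorAlgebra.ι R v * ExtDet1.cl φ (ExteriorAlgebra.ιMulti R n m) :=
    sub_eq_zero.mp h1.symm
  have h3 := congrArg (ExteriorAlgebra.map π) h2
  rw [map_smul, ExteriorAlgebra.map_apply_ιMulti, map_mul, ExteriorAlgebra.map_apply_ι, hv,
    map_zero, zero_mul] at h3
  apply Subtype.ext
  simpa [exteriorPower.ιMulti_apply_coe] using h3

theorem span_le_annihilator (n : ℕ)
    (hn : ∀ p : PrimeSpectrum R, rankAtStalk (R := R) P p = n)
    (π : P →ₗ[R] Q) (hπ : Function.Surjective π) (v : P) (hv : π v = 0) :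
    Ideal.span (Set.range fun φ : Module.Dual R P => φ v) ≤
      Module.annihilator R (⋀[R]^n Q) := by
  rw [Ideal.span_le]
  rintro _ ⟨φ, rfl⟩
  rw [SetLike.mem_coe, Module.mem_annihilator]
  intro y
  have hy : y ∈ Submodule.span R (Set.range (exteriorPower.ιMulti R n (M := Q))) := by
    rw [exteriorPower.ιMulti_span R n Q]
    trivial
  induction hy using Submodule.span_induction with
  | mem x hx =>
    obtain ⟨m', rfl⟩ := hx
    obtain ⟨m, rfl⟩ : ∃ m : Fin n → P, π ∘ m = m' :=
      ⟨fun i => (hπ (m' i)).choose, funext fun i => (hπ (m' i)).choose_spec⟩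
    exact smul_ιMulti_eq_zero n hn π v hv φ m
  | zero => simp
  | add x y _ _ hx hy => rw [smul_add, hx, hy, add_zero]
  | smul c x _ hx => rw [smul_comm, hx, smul_zero]

theorem annihilator_le_span (n : ℕ)
    (hn : ∀ p : PrimeSpectrum R, rankAtStalk (R := R) P p = n)
    (π : P →ₗ[R] Q) (hπ : Function.Surjective π) (v : P)
    (hker : LinearMap.ker π = Submodule.span R {v}) :
    Module.annihilator R (⋀[R]^n Q) ≤
      Ideal.span (Set.range fun φ : Module.Dual R P => φ v) := by
  intro r hr
  have key : ∀ (ψ : Module.Dual R (⋀[R]^n P)) (x : ⋀[R]^n P),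
      x ∈ Submodule.span R (ExtKer.Kset π n) →
        ψ x ∈ Ideal.span (Set.range fun φ : Module.Dual R P => φ v) := by
    intro ψ x hx
    induction hx using Submodule.span_induction with
    | mem x hx =>
      obtain ⟨m, ⟨i, hi⟩, rfl⟩ := hx
      rw [hker, Submodule.mem_span_singleton] at hi
      obtain ⟨c, hc⟩ := hi
      let φ : Module.Dual R P :=
        ψ ∘ₗ ((exteriorPower.ιMulti R n (M := P)).toMultilinearMap.toLinearMap m i)
      have h1 : ψ (exteriorPower.ιMulti R n m) = c * φ v := by
        have h2 : m = Function.update m i (c • v) := by rw [hc, Function.update_eq_self]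
        have h3 : φ v = ψ (exteriorPower.ιMulti R n (Function.update m i v)) := rfl
        rw [h3]
        conv_lhs => rw [h2]
        rw [AlternatingMap.map_update_smul, map_smul, smul_eq_mul]
      rw [h1]
      exact Ideal.mul_mem_left _ c (Ideal.subset_span ⟨φ, rfl⟩)
    | zero => simp
    | add a b _ _ ha hb => rw [map_add]; exact Ideal.add_mem _ ha hb
    | smul c a _ ha => rw [map_smul, smul_eq_mul]; exact Ideal.mul_mem_left _ c ha
  haveI := ExtDet2.projective_extPow (B := R) (Q := P) n
  have hL : ∀ p : PrimeSpectrum R, 0 < rankAtStalk (R := R) (⋀[R]^n P) p := by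
    intro p
    rw [ExtDet2.rankAtStalk_extPow, hn p, Nat.choose_self]
    exact one_pos
  have htr := trace_eq_top (L := ⋀[R]^n P) hL
  have h1 : (1 : R) ∈ Ideal.span
      (Set.range fun x : Module.Dual R (⋀[R]^n P) × (⋀[R]^n P) => x.1 x.2) := by
    rw [htr]
    trivial
  have h2 : ∀ t ∈ Ideal.span
      (Set.range fun x : Module.Dual R (⋀[R]^n P) × (⋀[R]^n P) => x.1 x.2),
      r * t ∈ Ideal.span (Set.range fun φ : Module.Dual R P => φ v) := by
    intro t ht
    induction ht using Submodule.span_induction with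
    | mem t ht =>
      obtain ⟨⟨ψ, ω⟩, rfl⟩ := ht
      have h3 : r * ψ ω = ψ (r • ω) := by rw [map_smul, smul_eq_mul]
      show r * ψ ω ∈ _
      rw [h3]
      apply key
      apply ExtKer.ker_map_le π hπ n
      rw [LinearMap.mem_ker, map_smul]
      exact Module.mem_annihilator.mp hr _
    | zero => simp
    | add a b _ _ ha hb => rw [mul_add]; exact Ideal.add_mem _ ha hb
    | smul c a _ ha => rw [smul_eq_mul, mul_left_comm]; exact Ideal.mul_mem_left _ c ha
  simpa using h2 1 h1

/-- **Annihilator of the top exterior power of `P / R v`.** -/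
theorem annihilator_eq (n : ℕ)
    (hn : ∀ p : PrimeSpectrum R, rankAtStalk (R := R) P p = n)
    (π : P →ₗ[R] Q) (hπ : Function.Surjective π) (v : P)
    (hker : LinearMap.ker π = Submodule.span R {v}) :
    Module.annihilator R (⋀[R]^n Q) =
      Ideal.span (Set.range fun φ : Module.Dual R P => φ v) := by
  refine le_antisymm (annihilator_le_span n hn π hπ v hker) ?_
  refine span_le_annihilator n hn π hπ v ?_
  have : v ∈ LinearMap.ker π := by rw [hker]; exact Submodule.mem_span_singleton_self v
  exact this

end Main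

section Kaehler

open TensorProduct KaehlerDifferential

/-- annihilator of the top exterior power of the differentials of a hypersurface in a smooth
algebra -/
theorem kaehler_main (A B R : Type u) [CommRing A] [CommRing B] [CommRing R]
    [Algebra A B] [Algebra B R] [Algebra A R] [IsScalarTower A B R] [Algebra.Smooth A B] (n : ℕ)
    (hn : ∀ p : PrimeSpectrum B, Module.rankAtStalk (Ω[B⁄A]) p = n)
    (g : B) (hsurj : Function.Surjective (algebraMap B R))
    (hker : RingHom.ker (algebraMap B R) = Ideal.span {g}) :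
    (⋀[R]^n (Ω[R⁄A])).annihilator =
      Ideal.span (Set.range fun φ : Ω[B⁄A] →ₗ[B] B =>
        algebraMap B R (φ (KaehlerDifferential.D A B g))) := by
  classical
  let π : R ⊗[B] Ω[B⁄A] →ₗ[R] Ω[R⁄A] := KaehlerDifferential.mapBaseChange A B R
  have hπ : Function.Surjective π := KaehlerDifferential.mapBaseChange_surjective A B R hsurj
  let v : R ⊗[B] Ω[B⁄A] := (1 : R) ⊗ₜ[B] KaehlerDifferential.D A B g
  have hg0 : algebraMap B R g = 0 := by
    have : g ∈ RingHom.ker (algebraMap B R) := by
      rw [hker]; exact Ideal.mem_span_singleton_self g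
    exact this
  have hrank : ∀ p : PrimeSpectrum R,
      Module.rankAtStalk (R := R) (R ⊗[B] Ω[B⁄A]) p = n := by
    intro p
    rw [Module.rankAtStalk_baseChange]
    exact hn _
  have hkerπ : LinearMap.ker π = Submodule.span R {v} := by
    apply le_antisymm
    · intro x hx
      have hx' : x ∈ (LinearMap.ker π).restrictScalars B := hx
      rw [← KaehlerDifferential.range_kerCotangentToTensor A B R hsurj] at hx'
      obtain ⟨c, rfl⟩ := hx'
      obtain ⟨⟨y, hy⟩, rfl⟩ := Ideal.toCotangent_surjective _ c
      rw [KaehlerDifferential.kerCotangentToTensor_toCotangent]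
      have hy' := hy
      rw [hker, Ideal.mem_span_singleton'] at hy'
      obtain ⟨a, rfl⟩ := hy'
      refine Submodule.mem_span_singleton.mpr ⟨algebraMap B R a, ?_⟩
      show algebraMap B R a • ((1 : R) ⊗ₜ[B] KaehlerDifferential.D A B g) =
        (1 : R) ⊗ₜ[B] KaehlerDifferential.D A B (a * g)
      rw [Derivation.leibniz, TensorProduct.tmul_add, ← TensorProduct.smul_tmul,
        ← TensorProduct.smul_tmul, ← Algebra.algebraMap_eq_smul_one,
        ← Algebra.algebraMap_eq_smul_one, hg0, TensorProduct.zero_tmul, add_zero,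
        TensorProduct.smul_tmul', smul_eq_mul, mul_one]
    · rw [Submodule.span_le, Set.singleton_subset_iff]
      show KaehlerDifferential.mapBaseChange A B R
        ((1 : R) ⊗ₜ[B] KaehlerDifferential.D A B g) = 0
      rw [KaehlerDifferential.mapBaseChange_tmul, one_smul, KaehlerDifferential.map_D, hg0,
        map_zero]
  have hmain := annihilator_eq (R := R) n hrank π hπ v hkerπ
  show Module.annihilator R ↥(⋀[R]^n (Ω[R⁄A])) = _
  rw [hmain]
  apply le_antisymm
  · rw [Ideal.span_le]
    rintro _ ⟨φ', rfl⟩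
    let ψ : Ω[B⁄A] →ₗ[B] R :=
      (φ'.restrictScalars B) ∘ₗ (TensorProduct.mk B R (Ω[B⁄A]) 1)
    obtain ⟨h, hh⟩ := Module.projective_lifting_property (Algebra.linearMap B R) ψ hsurj
    have e : φ' v = algebraMap B R (h (KaehlerDifferential.D A B g)) := by
      have := LinearMap.congr_fun hh (KaehlerDifferential.D A B g)
      exact this.symm
    show φ' v ∈ _
    rw [e]
    exact Ideal.subset_span ⟨h, rfl⟩
  · rw [Ideal.span_le]
    rintro _ ⟨φ, rfl⟩
    let φ' : Module.Dual R (R ⊗[B] Ω[B⁄A]) :=
      LinearMap.liftBaseChange R ((Algebra.linearMap B R) ∘ₗ φ)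
    have e : φ' v = algebraMap B R (φ (KaehlerDifferential.D A B g)) := by
      show LinearMap.liftBaseChange R ((Algebra.linearMap B R) ∘ₗ φ)
        ((1 : R) ⊗ₜ[B] KaehlerDifferential.D A B g) = _
      rw [LinearMap.liftBaseChange_tmul, one_smul]
      rfl
    show algebraMap B R (φ (KaehlerDifferential.D A B g)) ∈ _
    rw [← e]
    exact Ideal.subset_span ⟨φ', rfl⟩

end Kaehler

end Groth.Agent.Helper3.AnnExt
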