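import Mathlib

/-!
A finite domain over a complete Noetherian local ring is local (helper3).
-/

set_option autoImplicit false
universe u v

open scoped TensorProduct

namespace Groth.Agent.Helper3.GalLoc2

section Complete
variable {R : Type u} [CommRing R] [IsNoetherianRing R] (I : Ideal R) [IsAdicComplete I R]
  (M : Type v) [AddCommGroup M] [Module R M] [Module.Finite R M]

/-- finite modules over a complete Noetherian ring are complete -/
theorem isAdicComplete_of_finite : IsAdicComplete I M := by
  haveI : IsHausdorff I M := IsHausdorff.of_le_jacobson I M (IsAdicComplete.le_jacobson_bot I)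
  rw [← AdicCompletion.of_bijective_iff]
  refine ⟨AdicCompletion.of_injective_iff.mpr inferInstance, ?_⟩
  intro z
  obtain ⟨t, rfl⟩ := AdicCompletion.ofTensorProduct_surjective_of_finite I M z
  induction t using TensorProduct.induction_on with
  | zero => exact ⟨0, by simp⟩
  | tmul r x =>
    obtain ⟨a, rfl⟩ := AdicCompletion.of_surjective I R r
    refine ⟨a • x, ?_⟩
    rw [AdicCompletion.ofTensorProduct_tmul]
    ext n
    rfl
  | add t₁ t₂ h₁ h₂ =>
    obtain ⟨x₁, hx₁⟩ := h₁
    obtain ⟨x₂, hx₂⟩ := h₂
    exact ⟨x₁ + x₂, by rw [map_add, map_add, hx₁, hx₂]⟩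

end Complete

section Ring
variable {R : Type u} [CommRing R] (I : Ideal R) (S : Type v) [CommRing S] [Algebra R S]

theorem pow_smul_top_eq (n : ℕ) :
    ((I ^ n • ⊤ : Submodule R S) : Set S) =
      (((I.map (algebraMap R S)) ^ n • ⊤ : Submodule S S) : Set S) := by
  rw [Ideal.smul_top_eq_map, Ideal.map_pow, smul_eq_mul, Ideal.mul_top]
  rfl

/-- module-completeness of an algebra gives ring-completeness w.r.t. the extended ideal -/
theorem isAdicComplete_map [h : IsAdicComplete I S] :
    IsAdicComplete (I.map (algebraMap R S)) S := by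
  have hiff : ∀ (n : ℕ) (x y : S), x ≡ y [SMOD (I ^ n • ⊤ : Submodule R S)] ↔
      x ≡ y [SMOD ((I.map (algebraMap R S)) ^ n • ⊤ : Submodule S S)] := by
    intro n x y
    rw [SModEq.sub_mem, SModEq.sub_mem]
    have := pow_smul_top_eq I S n
    exact (Set.ext_iff.mp this (x - y))
  refine { haus' := ?_, prec' := ?_ }
  · intro x hx
    apply h.haus' x
    intro n
    exact (hiff n x 0).mpr (hx n)
  · intro f hf
    obtain ⟨L, hL⟩ := h.prec' f (fun {m n} hmn => (hiff m _ _).mpr (hf hmn))
    exact ⟨L, fun n => (hiff n _ _).mp (hL n)⟩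

end Ring

section Idem
variable {S : Type u} [CommRing S] (J : Ideal S) [IsAdicComplete J S]

/-- idempotents lift along a complete ideal -/
theorem exists_idem_lift (a₀ : S) (h : a₀ ^ 2 - a₀ ∈ J) :
    ∃ e : S, e * e = e ∧ e - a₀ ∈ J := by
  rcases subsingleton_or_nontrivial S with hs | hs
  · exact ⟨0, Subsingleton.elim _ _, by rw [Subsingleton.elim (0 - a₀) 0]; exact J.zero_mem⟩
  have hH : HenselianRing S J := inferInstance
  have hmonic : (Polynomial.X ^ 2 - Polynomial.X : Polynomial S).Monic := by
    apply Polynomial.monic_X_pow_sub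
    rw [Polynomial.degree_X]
    norm_num
  have hder : (Polynomial.X ^ 2 - Polynomial.X : Polynomial S).derivative.eval a₀ = 2 * a₀ - 1 := by
    simp
    ring
  have hunit : IsUnit (Ideal.Quotient.mk J
      ((Polynomial.X ^ 2 - Polynomial.X : Polynomial S).derivative.eval a₀)) := by
    rw [hder]
    apply IsUnit.of_mul_eq_one (Ideal.Quotient.mk J (2 * a₀ - 1))
    have : (2 * a₀ - 1) * (2 * a₀ - 1) = 4 * (a₀ ^ 2 - a₀) + 1 := by ring
    rw [← map_mul, this, map_add, map_mul, (Ideal.Quotient.eq_zero_iff_mem).mpr h,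
      mul_zero, zero_add, map_one]
  obtain ⟨e, he, hea⟩ := hH.is_henselian (Polynomial.X ^ 2 - Polynomial.X) hmonic a₀
    (by simpa using h) hunit
  refine ⟨e, ?_, hea⟩
  have := he
  simp only [Polynomial.IsRoot, Polynomial.eval_sub, Polynomial.eval_pow, Polynomial.eval_X] at this
  rw [← pow_two]
  exact sub_eq_zero.mp this

end Idem

end Groth.Agent.Helper3.GalLoc2
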