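import Mathlib
import Groth.Agent.Lib.Helper1.AdicNoeth

/-!
# Successive approximation for `u v = ψ α` (helper3)

`ψ : Λ → S`, `𝔞 ⊆ Λ` an ideal, `𝔟 = 𝔞 S`; `S` is `𝔟`-adically complete, `Λ` is `𝔞`-adically
complete. If every element of `S` is congruent modulo `𝔟` to `ψ c + u₀ p + v₀ q` and `u₀ v₀ ∈ 𝔟`, then
there are `u ≡ u₀`, `v ≡ v₀` mod `𝔟` and `α ∈ 𝔞` with `u v = ψ α`.
-/

set_option autoImplicit false
universe u v

namespace Groth.Agent.Helper3.NodeCompl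

variable {Λ : Type u} {S : Type v} [CommRing Λ] [CommRing S] (ψ : Λ →+* S) (𝔞 : Ideal Λ)

local notation "𝔟" => Ideal.map ψ 𝔞

/-- decomposition at level `n` -/
theorem exists_decomp (u v : S)
    (hE : ∀ b : S, ∃ (c : Λ) (p q : S), b - ψ c - u * p - v * q ∈ 𝔟) (n : ℕ) :
    ∀ r ∈ 𝔟 ^ n, ∃ a ∈ 𝔞 ^ n, ∃ p ∈ 𝔟 ^ n, ∃ q ∈ 𝔟 ^ n,
      r - ψ a - u * p - v * q ∈ 𝔟 ^ (n + 1) := by
  intro r hr
  have hpow : 𝔟 ^ n = Ideal.map ψ (𝔞 ^ n) := (Ideal.map_pow ψ 𝔞 n).symm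
  rw [hpow, Ideal.map] at hr
  refine Submodule.span_induction ?_ ?_ ?_ ?_ hr
  · rintro _ ⟨x, hx, rfl⟩
    refine ⟨x, hx, 0, Ideal.zero_mem _, 0, Ideal.zero_mem _, ?_⟩
    simp
  · exact ⟨0, Ideal.zero_mem _, 0, Ideal.zero_mem _, 0, Ideal.zero_mem _, by simp⟩
  · rintro x y _ _ ⟨a₁, ha₁, p₁, hp₁, q₁, hq₁, h₁⟩ ⟨a₂, ha₂, p₂, hp₂, q₂, hq₂, h₂⟩
    refine ⟨a₁ + a₂, Ideal.add_mem _ ha₁ ha₂, p₁ + p₂, Ideal.add_mem _ hp₁ hp₂, q₁ + q₂,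
      Ideal.add_mem _ hq₁ hq₂, ?_⟩
    have e : x + y - ψ (a₁ + a₂) - u * (p₁ + p₂) - v * (q₁ + q₂) =
        (x - ψ a₁ - u * p₁ - v * q₁) + (y - ψ a₂ - u * p₂ - v * q₂) := by
      rw [map_add]; ring
    rw [e]; exact Ideal.add_mem _ h₁ h₂
  · rintro b x _ ⟨a, ha, p, hp, q, hq, h⟩
    obtain ⟨c, p', q', hb⟩ := hE b
    have hψa : ψ a ∈ 𝔟 ^ n := by rw [hpow]; exact Ideal.mem_map_of_mem _ ha
    refine ⟨c * a, Ideal.mul_mem_left _ _ ha, p' * ψ a + b * p,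
      Ideal.add_mem _ (Ideal.mul_mem_left _ _ hψa) (Ideal.mul_mem_left _ _ hp),
      q' * ψ a + b * q,
      Ideal.add_mem _ (Ideal.mul_mem_left _ _ hψa) (Ideal.mul_mem_left _ _ hq), ?_⟩
    have e : b • x - ψ (c * a) - u * (p' * ψ a + b * p) - v * (q' * ψ a + b * q) =
        (b - ψ c - u * p' - v * q') * ψ a + b * (x - ψ a - u * p - v * q) := by
      rw [map_mul, smul_eq_mul]; ring
    rw [e]
    apply Ideal.add_mem
    · rw [pow_succ']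
      exact Ideal.mul_mem_mul hb hψa
    · exact Ideal.mul_mem_left _ _ h

/-- one step of the approximation -/
theorem exists_step (u₀ v₀ : S)
    (hE : ∀ b : S, ∃ (c : Λ) (p q : S), b - ψ c - u₀ * p - v₀ * q ∈ 𝔟) (n : ℕ)
    (u v : S) (α : Λ) (hu : u - u₀ ∈ 𝔟) (hv : v - v₀ ∈ 𝔟)
    (h : u * v - ψ α ∈ 𝔟 ^ (n + 1)) :
    ∃ (u' v' : S) (α' : Λ), u' - u ∈ 𝔟 ^ (n + 1) ∧ v' - v ∈ 𝔟 ^ (n + 1) ∧ α' - α ∈ 𝔞 ^ (n + 1) ∧
      u' * v' - ψ α' ∈ 𝔟 ^ (n + 2) := by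
  have hE' : ∀ b : S, ∃ (c : Λ) (p q : S), b - ψ c - u * p - v * q ∈ 𝔟 := by
    intro b
    obtain ⟨c, p, q, hb⟩ := hE b
    refine ⟨c, p, q, ?_⟩
    have e : b - ψ c - u * p - v * q =
        (b - ψ c - u₀ * p - v₀ * q) - (u - u₀) * p - (v - v₀) * q := by ring
    rw [e]
    exact Ideal.sub_mem _ (Ideal.sub_mem _ hb (Ideal.mul_mem_right _ _ hu))
      (Ideal.mul_mem_right _ _ hv)
  obtain ⟨a, ha, p, hp, q, hq, hr⟩ := exists_decomp ψ 𝔞 u v hE' (n + 1) _ h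
  refine ⟨u - q, v - p, α + a, ?_, ?_, ?_, ?_⟩
  · rw [sub_sub_cancel_left]; exact Ideal.neg_mem_iff _ |>.mpr hq
  · rw [sub_sub_cancel_left]; exact Ideal.neg_mem_iff _ |>.mpr hp
  · rw [add_sub_cancel_left]; exact ha
  · have e : (u - q) * (v - p) - ψ (α + a) =
        (u * v - ψ α - ψ a - u * p - v * q) + q * p := by rw [map_add]; ring
    rw [e]
    apply Ideal.add_mem _ hr
    have : 𝔟 ^ (n + 1) * 𝔟 ^ (n + 1) ≤ 𝔟 ^ (n + 2) := by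
      rw [← pow_add]; exact Ideal.pow_le_pow_right (by omega)
    exact this (Ideal.mul_mem_mul hq hp)

/-- limits of sequences with successive differences in increasing powers -/
theorem exists_limit {T : Type*} [CommRing T] (I : Ideal T) [IsPrecomplete I T] (x : ℕ → T)
    (hx : ∀ n, x (n + 1) - x n ∈ I ^ (n + 1)) :
    ∃ L : T, ∀ n, L - x n ∈ I ^ n := by
  obtain ⟨L, hL⟩ := Groth.Agent.Helper1.exists_series_limit_shift I 0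
    (fun k => x (k + 1) - x k) (fun k => by
      rw [Nat.sub_zero, smul_eq_mul, Ideal.mul_top]
      exact Ideal.pow_le_pow_right (Nat.le_succ k) (hx k))
  refine ⟨L + x 0, fun n => ?_⟩
  have := hL n
  rw [Finset.sum_range_sub, Nat.sub_zero, smul_eq_mul, Ideal.mul_top] at this
  have e : L + x 0 - x n = L - (x n - x 0) := by ring
  rw [e]; exact this

theorem main [IsAdicComplete 𝔟 S] [IsPrecomplete 𝔞 Λ] (u₀ v₀ : S)
    (hE : ∀ b : S, ∃ (c : Λ) (p q : S), b - ψ c - u₀ * p - v₀ * q ∈ 𝔟)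
    (h0 : u₀ * v₀ ∈ 𝔟) :
    ∃ (α : Λ) (u v : S), α ∈ 𝔞 ∧ u - u₀ ∈ 𝔟 ∧ v - v₀ ∈ 𝔟 ∧ u * v = ψ α := by
  -- the invariant
  let P : ℕ → S × S × Λ → Prop := fun n t =>
    t.1 - u₀ ∈ 𝔟 ∧ t.2.1 - v₀ ∈ 𝔟 ∧ t.2.2 ∈ 𝔞 ∧ t.1 * t.2.1 - ψ t.2.2 ∈ 𝔟 ^ (n + 1)
  have hstep : ∀ (n : ℕ) (t : {t // P n t}), ∃ t' : {t // P (n + 1) t},
      t'.1.1 - t.1.1 ∈ 𝔟 ^ (n + 1) ∧ t'.1.2.1 - t.1.2.1 ∈ 𝔟 ^ (n + 1) ∧
        t'.1.2.2 - t.1.2.2 ∈ 𝔞 ^ (n + 1) := by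
    rintro n ⟨⟨u, v, α⟩, hu, hv, hα, h⟩
    obtain ⟨u', v', α', hu', hv', hα', h'⟩ := exists_step ψ 𝔞 u₀ v₀ hE n u v α hu hv h
    have hle : 𝔟 ^ (n + 1) ≤ 𝔟 := Ideal.pow_le_self (Nat.succ_ne_zero n)
    have hleA : 𝔞 ^ (n + 1) ≤ 𝔞 := Ideal.pow_le_self (Nat.succ_ne_zero n)
    refine ⟨⟨(u', v', α'), ?_, ?_, ?_, h'⟩, hu', hv', hα'⟩
    · have : u' - u₀ = (u' - u) + (u - u₀) := by ring
      rw [this]; exact Ideal.add_mem _ (hle hu') hu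
    · have : v' - v₀ = (v' - v) + (v - v₀) := by ring
      rw [this]; exact Ideal.add_mem _ (hle hv') hv
    · have : α' = (α' - α) + α := by ring
      rw [this]; exact Ideal.add_mem _ (hleA hα') hα
  choose nxt hnxt using hstep
  let t0 : {t // P 0 t} := ⟨(u₀, v₀, 0), by
    refine ⟨by simp, by simp, Ideal.zero_mem _, ?_⟩
    simpa using h0⟩
  let sq : (n : ℕ) → {t // P n t} := fun n => Nat.rec t0 (fun n t => nxt n t) n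
  have hsq : ∀ n, sq (n + 1) = nxt n (sq n) := fun n => rfl
  let us : ℕ → S := fun n => (sq n).1.1
  let vs : ℕ → S := fun n => (sq n).1.2.1
  let αs : ℕ → Λ := fun n => (sq n).1.2.2
  have hus : ∀ n, us (n + 1) - us n ∈ 𝔟 ^ (n + 1) := fun n => by
    change (sq (n + 1)).1.1 - (sq n).1.1 ∈ _
    rw [hsq]; exact (hnxt n (sq n)).1
  have hvs : ∀ n, vs (n + 1) - vs n ∈ 𝔟 ^ (n + 1) := fun n => by
    change (sq (n + 1)).1.2.1 - (sq n).1.2.1 ∈ _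
    rw [hsq]; exact (hnxt n (sq n)).2.1
  have hαs : ∀ n, αs (n + 1) - αs n ∈ 𝔞 ^ (n + 1) := fun n => by
    change (sq (n + 1)).1.2.2 - (sq n).1.2.2 ∈ _
    rw [hsq]; exact (hnxt n (sq n)).2.2
  obtain ⟨u, hu⟩ := exists_limit 𝔟 us hus
  obtain ⟨v, hv⟩ := exists_limit 𝔟 vs hvs
  obtain ⟨α, hα⟩ := exists_limit 𝔞 αs hαs
  have hP : ∀ n, P n (us n, vs n, αs n) := fun n => (sq n).2
  refine ⟨α, u, v, ?_, ?_, ?_, ?_⟩
  · have h1 := hα 1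
    rw [pow_one] at h1
    have : α = (α - αs 1) + αs 1 := by ring
    rw [this]; exact Ideal.add_mem _ h1 (hP 1).2.2.1
  · have h1 := hu 1
    rw [pow_one] at h1
    have : u - u₀ = (u - us 1) + (us 1 - u₀) := by ring
    rw [this]; exact Ideal.add_mem _ h1 (hP 1).1
  · have h1 := hv 1
    rw [pow_one] at h1
    have : v - v₀ = (v - vs 1) + (vs 1 - v₀) := by ring
    rw [this]; exact Ideal.add_mem _ h1 (hP 1).2.1
  · rw [← sub_eq_zero]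
    have hH : IsHausdorff 𝔟 S := inferInstance
    refine hH.haus' _ fun n => ?_
    rw [SModEq.zero, smul_eq_mul, Ideal.mul_top]
    have e : u * v - ψ α = (u - us n) * v + us n * (v - vs n) +
        (us n * vs n - ψ (αs n)) - ψ (α - αs n) := by rw [map_sub]; ring
    rw [e]
    have h4 : ψ (α - αs n) ∈ 𝔟 ^ n := by
      rw [← Ideal.map_pow]; exact Ideal.mem_map_of_mem _ (hα n)
    have h3 : us n * vs n - ψ (αs n) ∈ 𝔟 ^ n :=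
      Ideal.pow_le_pow_right (Nat.le_succ n) (hP n).2.2.2
    exact Ideal.sub_mem _ (Ideal.add_mem _ (Ideal.add_mem _ (Ideal.mul_mem_right _ _ (hu n))
      (Ideal.mul_mem_left _ _ (hv n))) h3) h4

end Groth.Agent.Helper3.NodeCompl
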