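import Mathlib
import Groth.Prelude
import Groth.Agent.Lib.Helper3.NodeCompl1
import Groth.Agent.Lib.Helper14.ComplMap
import Groth.Agent.Lib.Helper14.PowerSeriesComplete
import Groth.Agent.Lib.Helper6.ComplMapLib
import Groth.Agent.Lib.Helper1.AdicLib

/-!
# Completed local rings of nodes: the surjection `Â[[x,y]]/(xy - α) → B̂` (helper3)
-/

set_option autoImplicit false
set_option linter.style.haveILetI false
universe u

namespace Groth.Agent.Helper3.NodeCompl

open IsLocalRing Groth.Agent.Helper14 Groth.Agent.Lib.Helper6.ComplMapLib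

section

variable (A B : Type u) [CommRing A] [IsLocalRing A] [IsNoetherianRing A] [CommRing B]
  [IsLocalRing B] [IsNoetherianRing B] [Algebra A B] [IsLocalHom (algebraMap A B)]

theorem map_le : (maximalIdeal A).map (algebraMap A B) ≤ maximalIdeal B :=
  ((IsLocalRing.local_hom_TFAE (algebraMap A B)).out 0 2).mp ‹IsLocalHom (algebraMap A B)›

/-- the induced map on completions -/
noncomputable def ψ₀ : AdicCompletion (maximalIdeal A) A →+* AdicCompletion (maximalIdeal B) B :=
  FSch.complMap (maximalIdeal A) (maximalIdeal B) (algebraMap A B) (map_le A B)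

theorem algebraMap_eq_of (R : Type u) [CommRing R] (I : Ideal R) (a : R) :
    algebraMap R (AdicCompletion I R) a = AdicCompletion.of I R a := by
  rw [AdicCompletion.algebraMap_apply, Algebra.algebraMap_self, RingHom.id_apply]

theorem ψ₀_comp : (ψ₀ A B).comp (algebraMap A (AdicCompletion (maximalIdeal A) A)) =
    (algebraMap B (AdicCompletion (maximalIdeal B) B)).comp (algebraMap A B) := by
  ext a
  simp only [RingHom.comp_apply]
  rw [algebraMap_eq_of, algebraMap_eq_of, ψ₀, complMap_of]

theorem node_surj (hres : Function.Bijective (ResidueField.map (algebraMap A B)))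
    (u v : B) (hu : u ∈ maximalIdeal B) (hv : v ∈ maximalIdeal B)
    (huv : u * v ∈ (maximalIdeal A).map (algebraMap A B))
    (hgen : maximalIdeal B = Ideal.span {u, v} ⊔ (maximalIdeal A).map (algebraMap A B)) :
    ∃ (α : AdicCompletion (maximalIdeal A) A)
      (_ : α ∈ (maximalIdeal A).map (algebraMap A (AdicCompletion (maximalIdeal A) A)))
      (ψ : (MvPowerSeries (Fin 2) (AdicCompletion (maximalIdeal A) A) ⧸ Ideal.span
          {(MvPowerSeries.X 0 * MvPowerSeries.X 1 - MvPowerSeries.C α :
              MvPowerSeries (Fin 2) (AdicCompletion (maximalIdeal A) A))}) →ₐ[A]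
        AdicCompletion (maximalIdeal B) B),
      Function.Surjective ψ ∧
        ψ (Ideal.Quotient.mk _ (MvPowerSeries.X 0)) -
            algebraMap B (AdicCompletion (maximalIdeal B) B) u ∈
          (maximalIdeal A).map (algebraMap A (AdicCompletion (maximalIdeal B) B)) ∧
        ψ (Ideal.Quotient.mk _ (MvPowerSeries.X 1)) -
            algebraMap B (AdicCompletion (maximalIdeal B) B) v ∈
          (maximalIdeal A).map (algebraMap A (AdicCompletion (maximalIdeal B) B)) := by
  classical
  set ψ := ψ₀ A B with hψdef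
  have hψ := ψ₀_comp A B
  rw [← hψdef] at hψ
  letI : Algebra (AdicCompletion (maximalIdeal A) A) (AdicCompletion (maximalIdeal B) B) :=
    ψ.toAlgebra
  have halg : ∀ x, algebraMap (AdicCompletion (maximalIdeal A) A)
      (AdicCompletion (maximalIdeal B) B) x = ψ x := fun _ => rfl
  have hψA : ∀ a : A, ψ (algebraMap A (AdicCompletion (maximalIdeal A) A) a) =
      algebraMap A (AdicCompletion (maximalIdeal B) B) a := by
    intro a
    have := congrArg (fun f => f a) hψ
    simp only [RingHom.comp_apply] at this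
    rw [this]; rfl
  haveI : IsScalarTower A (AdicCompletion (maximalIdeal A) A)
      (AdicCompletion (maximalIdeal B) B) :=
    IsScalarTower.of_algebraMap_eq (fun a => by rw [halg, hψA])
  set 𝔟 : Ideal (AdicCompletion (maximalIdeal B) B) :=
    Ideal.map ψ (maximalIdeal (AdicCompletion (maximalIdeal A) A)) with h𝔟
  have h𝔟1 : 𝔟 = ((maximalIdeal A).map (algebraMap A B)).map
      (algebraMap B (AdicCompletion (maximalIdeal B) B)) :=
    ComplMap.map_maximalIdeal_eq A B ψ hψ
  have h𝔟2 : 𝔟 = (maximalIdeal A).map (algebraMap A (AdicCompletion (maximalIdeal B) B)) := by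
    rw [h𝔟1, Ideal.map_map]; rfl
  have h𝔟le : 𝔟 ≤ maximalIdeal (AdicCompletion (maximalIdeal B) B) :=
    ComplMap.map_maximalIdeal_le A B ψ hψ
  set uh := algebraMap B (AdicCompletion (maximalIdeal B) B) u with huh
  set vh := algebraMap B (AdicCompletion (maximalIdeal B) B) v with hvh
  have hmB : maximalIdeal (AdicCompletion (maximalIdeal B) B) = Ideal.span {uh, vh} ⊔ 𝔟 := by
    rw [AdicCompletion.maximalIdeal_eq_map (R := B)]
    have := congrArg (Ideal.map (algebraMap B (AdicCompletion (maximalIdeal B) B))) hgen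
    rw [this, Ideal.map_sup, Ideal.map_span, Set.image_pair, ← h𝔟1]
  have huhm : uh ∈ maximalIdeal (AdicCompletion (maximalIdeal B) B) := by
    rw [AdicCompletion.maximalIdeal_eq_map (R := B)]; exact Ideal.mem_map_of_mem _ hu
  have hvhm : vh ∈ maximalIdeal (AdicCompletion (maximalIdeal B) B) := by
    rw [AdicCompletion.maximalIdeal_eq_map (R := B)]; exact Ideal.mem_map_of_mem _ hv
  -- residue fields
  have hresid : ∀ b : AdicCompletion (maximalIdeal B) B, ∃ a : A,
      b - algebraMap A (AdicCompletion (maximalIdeal B) B) a ∈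
        maximalIdeal (AdicCompletion (maximalIdeal B) B) := by
    intro b
    obtain ⟨y, hy⟩ := (AdicCompletion.residueField_map_bijective B).2
      (residue (AdicCompletion (maximalIdeal B) B) b)
    obtain ⟨x, rfl⟩ := hres.2 y
    obtain ⟨a, rfl⟩ := residue_surjective x
    refine ⟨a, ?_⟩
    rw [← IsLocalRing.residue_eq_zero_iff, map_sub, sub_eq_zero, ← hy, ResidueField.map_residue,
      ResidueField.map_residue]
    rfl
  have hE : ∀ b : AdicCompletion (maximalIdeal B) B,
      ∃ (c : AdicCompletion (maximalIdeal A) A) (p q : AdicCompletion (maximalIdeal B) B),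
        b - ψ c - uh * p - vh * q ∈ 𝔟 := by
    intro b
    obtain ⟨a, ha⟩ := hresid b
    rw [hmB] at ha
    obtain ⟨x, hx, y, hy, hxy⟩ := Submodule.mem_sup.mp ha
    obtain ⟨p, q, rfl⟩ := Ideal.mem_span_pair.mp hx
    refine ⟨algebraMap A _ a, p, q, ?_⟩
    rw [hψA]
    have e : b - algebraMap A (AdicCompletion (maximalIdeal B) B) a - uh * p - vh * q = y := by
      rw [← hxy]; ring
    rw [e]; exact hy
  have h0 : uh * vh ∈ 𝔟 := by
    rw [h𝔟1, huh, hvh, ← map_mul]; exact Ideal.mem_map_of_mem _ huv
  haveI : IsAdicComplete 𝔟 (AdicCompletion (maximalIdeal B) B) :=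
    Groth.Agent.Helper1.isAdicComplete_of_le_of_fg 𝔟
      (maximalIdeal (AdicCompletion (maximalIdeal B) B)) h𝔟le (IsNoetherian.noetherian 𝔟) _
  obtain ⟨α, u', v', hα, hu', hv', huv'⟩ :=
    main ψ (maximalIdeal (AdicCompletion (maximalIdeal A) A)) uh vh hE h0
  have hu'm : u' ∈ maximalIdeal (AdicCompletion (maximalIdeal B) B) := by
    have : u' = (u' - uh) + uh := by ring
    rw [this]; exact Ideal.add_mem _ (h𝔟le hu') huhm
  have hv'm : v' ∈ maximalIdeal (AdicCompletion (maximalIdeal B) B) := by
    have : v' = (v' - vh) + vh := by ring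
    rw [this]; exact Ideal.add_mem _ (h𝔟le hv') hvhm
  let g : Fin 2 → AdicCompletion (maximalIdeal B) B := ![u', v']
  have hg0 : g 0 = u' := rfl
  have hg1 : g 1 = v' := rfl
  have hg : ∀ i, g i ∈ maximalIdeal (AdicCompletion (maximalIdeal B) B) := by
    intro i
    fin_cases i
    · exact hu'm
    · exact hv'm
  obtain ⟨f, hf⟩ := PowerSeriesComplete.exists_algHom_complete
    (Λ := AdicCompletion (maximalIdeal A) A)
    (maximalIdeal (AdicCompletion (maximalIdeal B) B)) g hg
  have hf0 : f (MvPowerSeries.X 0) = u' := hf 0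
  have hf1 : f (MvPowerSeries.X 1) = v' := hf 1
  have hfC : f (MvPowerSeries.C α) = ψ α := by
    have : (MvPowerSeries.C α : MvPowerSeries (Fin 2) (AdicCompletion (maximalIdeal A) A)) =
        algebraMap (AdicCompletion (maximalIdeal A) A) _ α := by
      rw [MvPowerSeries.algebraMap_apply]; simp
    rw [this, f.commutes]
    exact halg α
  have hker : ∀ x ∈ Ideal.span
      {(MvPowerSeries.X 0 * MvPowerSeries.X 1 - MvPowerSeries.C α :
        MvPowerSeries (Fin 2) (AdicCompletion (maximalIdeal A) A))}, f x = 0 := by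
    have hle : Ideal.span
        {(MvPowerSeries.X 0 * MvPowerSeries.X 1 - MvPowerSeries.C α :
          MvPowerSeries (Fin 2) (AdicCompletion (maximalIdeal A) A))} ≤ RingHom.ker f := by
      rw [Ideal.span_le, Set.singleton_subset_iff, SetLike.mem_coe, RingHom.mem_ker, map_sub,
        map_mul, hf0, hf1, hfC, huv', sub_self]
    exact fun x hx => hle hx
  let F := Ideal.Quotient.liftₐ (Ideal.span
      {(MvPowerSeries.X 0 * MvPowerSeries.X 1 - MvPowerSeries.C α :
        MvPowerSeries (Fin 2) (AdicCompletion (maximalIdeal A) A))}) f hker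
  have hFmk : ∀ x, F (Ideal.Quotient.mk _ x) = f x := fun x => rfl
  -- surjectivity
  have hspan : (maximalIdeal (AdicCompletion (maximalIdeal A) A)).map
      (algebraMap (AdicCompletion (maximalIdeal A) A) (AdicCompletion (maximalIdeal B) B)) ⊔
        Ideal.span (Set.range g) = maximalIdeal (AdicCompletion (maximalIdeal B) B) := by
    apply le_antisymm
    · apply sup_le h𝔟le
      rw [Ideal.span_le]
      rintro _ ⟨i, rfl⟩
      exact hg i
    · rw [hmB]
      apply sup_le _ le_sup_left
      rw [Ideal.span_le]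
      rintro x hx
      rcases hx with rfl | rfl
      · have : uh = u' - (u' - uh) := by ring
        rw [this]
        exact Ideal.sub_mem _ (Ideal.mem_sup_right (Ideal.subset_span ⟨0, hg0⟩))
          (Ideal.mem_sup_left hu')
      · have : vh = v' - (v' - vh) := by ring
        rw [this]
        exact Ideal.sub_mem _ (Ideal.mem_sup_right (Ideal.subset_span ⟨1, hg1⟩))
          (Ideal.mem_sup_left hv')
  have hres' : Function.Surjective ((residue (AdicCompletion (maximalIdeal B) B)).comp
      (algebraMap (AdicCompletion (maximalIdeal A) A) (AdicCompletion (maximalIdeal B) B))) := by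
    intro y
    obtain ⟨b, rfl⟩ := residue_surjective y
    obtain ⟨a, ha⟩ := hresid b
    refine ⟨algebraMap A _ a, ?_⟩
    rw [RingHom.comp_apply, halg, hψA]
    symm
    rw [← sub_eq_zero, ← map_sub, IsLocalRing.residue_eq_zero_iff]
    exact ha
  have hfsurj : Function.Surjective f :=
    PowerSeriesComplete.surjective_of_residue' g hspan hres' f hf
  have hα' : α ∈ (maximalIdeal A).map (algebraMap A (AdicCompletion (maximalIdeal A) A)) := by
    rw [← AdicCompletion.maximalIdeal_eq_map (R := A)]; exact hα
  refine ⟨α, hα', F.restrictScalars A, ?_, ?_, ?_⟩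
  · intro y
    obtain ⟨x, rfl⟩ := hfsurj y
    exact ⟨Ideal.Quotient.mk _ x, rfl⟩
  · change F (Ideal.Quotient.mk _ (MvPowerSeries.X 0)) - uh ∈ _
    rw [hFmk, hf0, ← h𝔟2]; exact hu'
  · change F (Ideal.Quotient.mk _ (MvPowerSeries.X 1)) - vh ∈ _
    rw [hFmk, hf1, ← h𝔟2]; exact hv'

end

end Groth.Agent.Helper3.NodeCompl
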