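import Mathlib
import Groth.Prelude
import Groth.Agent.Lib.Helper3.NodeCompl2

/-!
# Completed local rings of nodes: general lemmas for the isomorphism (helper3)
-/

set_option autoImplicit false
set_option linter.style.haveILetI false
universe u

namespace Groth.Agent.Helper3.NodeCompl

open IsLocalRing Groth.Agent.Helper14 Groth.Agent.Lib.Helper6.ComplMapLib

section General

/-- a surjective endomorphism of a Noetherian ring is injective -/
theorem injective_of_surjective_endo {T : Type*} [CommRing T] [IsNoetherianRing T] (φ : T →+* T)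
    (hφ : Function.Surjective φ) : Function.Injective φ := by
  have hmono : Monotone (fun n : ℕ => RingHom.ker (φ ^ n)) := by
    apply monotone_nat_of_le_succ
    intro n x hx
    rw [RingHom.mem_ker, RingHom.coe_pow] at hx ⊢
    rw [Function.iterate_succ_apply', hx, map_zero]
  obtain ⟨n, hn⟩ := monotone_stabilizes_iff_noetherian.mpr
    (inferInstance : IsNoetherian T T) ⟨_, hmono⟩
  rw [injective_iff_map_eq_zero]
  intro x hx
  have hsurj : Function.Surjective (φ^[n]) := hφ.iterate n
  obtain ⟨y, rfl⟩ := hsurj x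
  have h1 : y ∈ RingHom.ker (φ ^ (n + 1)) := by
    rw [RingHom.mem_ker, RingHom.coe_pow, Function.iterate_succ_apply']
    exact hx
  have h2 : y ∈ RingHom.ker (φ ^ n) := by
    have := hn (n + 1) (Nat.le_succ n)
    simp only [OrderHom.coe_mk] at this
    rw [this]; exact h1
  rw [RingHom.mem_ker, RingHom.coe_pow] at h2
  exact h2

/-- If `f : P → S` is surjective with `S` flat over `A`, then `ker f ∩ 𝔪 P = 𝔪 ker f`. -/
theorem mem_mul_ker_of_flat {A P S : Type*} [CommRing A] [CommRing P] [CommRing S] [Algebra A S]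
    [Module.Flat A S] (ι : A →+* P) (f : P →+* S) (hfι : ∀ a, f (ι a) = algebraMap A S a)
    (hf : Function.Surjective f) (𝔪 : Ideal A) (h𝔪 : 𝔪.FG) (z : P) (hz : z ∈ Ideal.map ι 𝔪)
    (hfz : f z = 0) : z ∈ Ideal.map ι 𝔪 * RingHom.ker f := by
  classical
  obtain ⟨r, g, hg⟩ := Submodule.fg_iff_exists_fin_generating_family.mp h𝔪
  have hg' : Ideal.span (Set.range g) = 𝔪 := hg
  have hgm : ∀ i, g i ∈ 𝔪 := fun i => by rw [← hg']; exact Ideal.subset_span ⟨i, rfl⟩
  rw [← hg', Ideal.map_span, ← Set.range_comp] at hz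
  obtain ⟨c, rfl⟩ := Ideal.mem_span_range_iff_exists_fun.mp hz
  have hrel : ∑ i, g i • f (c i) = 0 := by
    rw [← hfz, map_sum]
    apply Finset.sum_congr rfl
    intro i _
    rw [map_mul, Function.comp_apply, hfι, Algebra.smul_def, mul_comm]
  obtain ⟨k, a, y, hy, ha⟩ := Module.Flat.isTrivialRelation_of_sum_smul_eq_zero
    (R := A) (M := S) (f := g) (x := fun i => f (c i)) hrel
  replace hy : ∀ i, f (c i) = ∑ j, a i j • y j := hy
  choose s hs using fun j => hf (y j)
  have hk : ∀ i, c i - ∑ j, ι (a i j) * s j ∈ RingHom.ker f := by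
    intro i
    rw [RingHom.mem_ker, map_sub, map_sum, hy i, sub_eq_zero]
    apply Finset.sum_congr rfl
    intro j _
    rw [map_mul, hfι, hs, Algebra.smul_def]
  have e : ∑ i, c i * (ι ∘ g) i =
      ∑ i, ι (g i) * (c i - ∑ j, ι (a i j) * s j) := by
    have e2 : ∑ i, ι (g i) * ∑ j, ι (a i j) * s j = 0 := by
      simp_rw [Finset.mul_sum]
      rw [Finset.sum_comm]
      apply Finset.sum_eq_zero
      intro j _
      have : ∑ i, ι (g i) * (ι (a i j) * s j) = ι (∑ i, g i * a i j) * s j := by
        rw [map_sum, Finset.sum_mul]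
        apply Finset.sum_congr rfl
        intro i _
        rw [map_mul, mul_assoc]
      rw [this, ha j, map_zero, zero_mul]
    simp_rw [mul_sub]
    rw [Finset.sum_sub_distrib, e2, sub_zero]
    apply Finset.sum_congr rfl
    intro i _
    rw [Function.comp_apply, mul_comm]
  rw [e]
  apply Ideal.sum_mem
  intro i _
  exact Ideal.mul_mem_mul (Ideal.mem_map_of_mem _ (hgm i)) (hk i)

/-- the completion of a surjection is surjective -/
theorem complMap_surjective_of_surjective {B C : Type u} [CommRing B] [CommRing C] (I : Ideal B)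
    (K : Ideal C) (g : B →+* C) (hg : Function.Surjective g) (h : I.map g ≤ K)
    (h' : K ≤ I.map g) : Function.Surjective (FSch.complMap I K g h) := by
  intro y
  obtain ⟨c, rfl⟩ := AdicCompletion.mk_surjective K C y
  have hc : ∀ n, c (n + 1) - c n ∈ K ^ n := by
    intro n
    have h0 := c.2 (Nat.le_succ n)
    rw [SModEq.sub_mem] at h0
    simp only [smul_eq_mul, Ideal.mul_top] at h0
    rw [← neg_sub]
    exact (K ^ n).neg_mem h0
  have hpow : ∀ n, K ^ n ≤ (I ^ n).map g := fun n => by
    rw [Ideal.map_pow]; exact Ideal.pow_right_mono h' n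
  have hd : ∀ n, ∃ d ∈ I ^ n, g d = c (n + 1) - c n := fun n =>
    (Ideal.mem_map_iff_of_surjective g hg).mp (hpow n (hc n))
  choose d hdI hd using hd
  obtain ⟨b0, hb0⟩ := hg (c 0)
  let b : ℕ → B := fun n => b0 + ∑ i ∈ Finset.range n, d i
  have hgb : ∀ n, g (b n) = c n := by
    intro n
    induction n with
    | zero => simp [b, hb0]
    | succ n ih =>
      simp only [b] at ih ⊢
      rw [Finset.sum_range_succ, ← add_assoc, map_add, ih, hd]; ring
  have hcauchy : ∀ n, b n - b (n + 1) ∈ I ^ n := by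
    intro n
    simp only [b]
    rw [Finset.sum_range_succ]
    have : b0 + ∑ i ∈ Finset.range n, d i - (b0 + (∑ i ∈ Finset.range n, d i + d n)) = - d n := by
      ring
    rw [this]; exact (I ^ n).neg_mem (hdI n)
  let a' : AdicCompletion.AdicCauchySequence I B := AdicCompletion.AdicCauchySequence.mk I B b (by
    intro n
    rw [SModEq.sub_mem]
    simp only [smul_eq_mul, Ideal.mul_top]
    exact hcauchy n)
  refine ⟨AdicCompletion.mk I B a', ?_⟩
  apply AdicCompletion.ext_evalₐ
  intro n
  rw [evalₐ_complMap, AdicCompletion.evalₐ_mk, AdicCompletion.evalₐ_mk, Ideal.quotientMap_mk,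
    Ideal.Quotient.eq]
  change g (b n) - c n ∈ K ^ n
  rw [hgb, sub_self]; exact zero_mem _

section PS

variable {σ : Type*} {Λ k : Type*} [CommRing Λ] [CommRing k] (ρ : Λ →+* k)

theorem map_surjective (hρ : Function.Surjective ρ) :
    Function.Surjective (MvPowerSeries.map (σ := σ) ρ) := by
  intro ψ
  choose l hl using hρ
  refine ⟨fun n => l (MvPowerSeries.coeff n ψ), ?_⟩
  ext n
  rw [MvPowerSeries.coeff_map, MvPowerSeries.coeff_apply, hl]

theorem mem_map_C_of_map_eq_zero (𝔫 : Ideal Λ) (h𝔫 : 𝔫.FG) (hker : RingHom.ker ρ ≤ 𝔫)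
    (φ : MvPowerSeries σ Λ) (hφ : MvPowerSeries.map ρ φ = 0) :
    φ ∈ Ideal.map (MvPowerSeries.C (σ := σ) (R := Λ)) 𝔫 := by
  classical
  obtain ⟨r, g, hg⟩ := Submodule.fg_iff_exists_fin_generating_family.mp h𝔫
  have hg' : Ideal.span (Set.range g) = 𝔫 := hg
  have hgm : ∀ i, g i ∈ 𝔫 := fun i => by rw [← hg']; exact Ideal.subset_span ⟨i, rfl⟩
  have hcoef : ∀ n, ∃ c : Fin r → Λ, ∑ i, c i * g i = MvPowerSeries.coeff n φ := by
    intro n
    apply Ideal.mem_span_range_iff_exists_fun.mp
    rw [hg']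
    apply hker
    rw [RingHom.mem_ker, ← MvPowerSeries.coeff_map, hφ, map_zero]
  choose c hc using hcoef
  let φi : Fin r → MvPowerSeries σ Λ := fun i n => c n i
  have e : φ = ∑ i, MvPowerSeries.C (g i) * φi i := by
    ext n
    rw [map_sum, ← hc n]
    apply Finset.sum_congr rfl
    intro i _
    rw [MvPowerSeries.coeff_C_mul, MvPowerSeries.coeff_apply, mul_comm]
  rw [e]
  apply Ideal.sum_mem
  intro i _
  exact Ideal.mul_mem_right _ _ (Ideal.mem_map_of_mem _ (hgm i))

end PS

end General

end Groth.Agent.Helper3.NodeCompl
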