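import Mathlib
import Groth.Agent.Lib.Helper14.PowerSeriesComplete
import Groth.Agent.Lib.Helper14.PowerSeriesAdic
import Groth.Agent.Lib.Helper3.GalLoc2
import Groth.Agent.Lib.Helper3.NodeCompl3

/-!
# Quotients of `k[[x,y]]`: homomorphisms determined by the images of the variables (helper3)
-/

set_option autoImplicit false
set_option linter.style.haveILetI false
universe u

namespace Groth.Agent.Helper3.NodeAut

open IsLocalRing MvPowerSeries Groth.Agent.Helper14

variable {k : Type u} [Field k]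

instance instCompleteField : IsAdicComplete (maximalIdeal k) k := by
  rw [IsLocalRing.maximalIdeal_eq_bot]; infer_instance

/-- the power series ring in two variables -/
abbrev PS (k : Type u) [Field k] : Type u := MvPowerSeries (Fin 2) k

theorem complete_P : IsAdicComplete (maximalIdeal (PS k)) (PS k) :=
  PowerSeriesComplete.isAdicComplete_maximalIdeal (Fin 2) k

theorem maximalIdeal_P : maximalIdeal (PS k) = Ideal.span (Set.range (X : Fin 2 → (PS k))) := by
  rw [PowerSeriesComplete.maximalIdeal_eq, IsLocalRing.maximalIdeal_eq_bot, Ideal.map_bot,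
    bot_sup_eq]

theorem mem_maximalIdeal_P {p : (PS k)} : p ∈ maximalIdeal (PS k) ↔ constantCoeff p = 0 := by
  rw [IsLocalRing.mem_maximalIdeal, mem_nonunits_iff, MvPowerSeries.isUnit_iff_constantCoeff,
    isUnit_iff_ne_zero, not_not]

section Target

variable {T : Type u} [CommRing T] [Algebra k T] [IsLocalRing T]

/-- homomorphisms out of the power series ring are determined by the images of the variables -/
theorem hom_ext_P [IsHausdorff (maximalIdeal T) T] (φ ψ : (PS k) →ₐ[k] T)
    (h : ∀ i, φ (X i) = ψ (X i)) (hm : ∀ i, φ (X i) ∈ maximalIdeal T) : φ = ψ := by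
  have hpoly : φ.comp (MvPolynomial.coeToMvPowerSeries.algHom k) =
      ψ.comp (MvPolynomial.coeToMvPowerSeries.algHom k) := by
    apply MvPolynomial.algHom_ext
    intro i
    simp [h i]
  have hpow : ∀ (χ : (PS k) →ₐ[k] T), (∀ i, χ (X i) ∈ maximalIdeal T) → ∀ n (f : (PS k)),
      f ∈ (Ideal.span (Set.range (X : Fin 2 → (PS k)))) ^ n → χ f ∈ maximalIdeal T ^ n := by
    intro χ hχ n f hf
    have h1 := Ideal.mem_map_of_mem (χ : (PS k) →+* T) hf
    rw [Ideal.map_pow, Ideal.map_span, ← Set.range_comp] at h1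
    refine Ideal.pow_right_mono ?_ n h1
    rw [Ideal.span_le]
    rintro _ ⟨i, rfl⟩
    exact hχ i
  ext f
  rw [← sub_eq_zero]
  apply IsHausdorff.haus' (I := maximalIdeal T)
  intro n
  rw [SModEq.sub_mem, sub_zero, smul_eq_mul, Ideal.mul_top]
  have h1 := hpow φ hm n _ (PowerSeriesAdic.sub_truncTotal_mem_pow n f)
  have h2 := hpow ψ (fun i => by rw [← h i]; exact hm i) n _
    (PowerSeriesAdic.sub_truncTotal_mem_pow n f)
  rw [map_sub] at h1 h2
  have h3 : φ ((truncTotal n f : MvPolynomial (Fin 2) k) : (PS k)) =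
      ψ ((truncTotal n f : MvPolynomial (Fin 2) k) : (PS k)) :=
    DFunLike.congr_fun hpoly (truncTotal n f)
  have e : φ f - ψ f = (φ f - φ ((truncTotal n f : MvPolynomial (Fin 2) k) : (PS k))) -
      (ψ f - ψ ((truncTotal n f : MvPolynomial (Fin 2) k) : (PS k))) := by rw [h3]; ring
  rw [e]
  exact Ideal.sub_mem _ h1 h2

theorem exists_hom_P [IsAdicComplete (maximalIdeal T) T] (a : Fin 2 → T)
    (ha : ∀ i, a i ∈ maximalIdeal T) : ∃ F : (PS k) →ₐ[k] T, ∀ i, F (X i) = a i :=
  PowerSeriesComplete.exists_algHom_complete (maximalIdeal T) a ha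

end Target

section Quot

variable (J : Ideal (PS k))

theorem isLocalRing_quot (hJ : J ≠ ⊤) : IsLocalRing ((PS k) ⧸ J) := by
  haveI : Nontrivial ((PS k) ⧸ J) := Ideal.Quotient.nontrivial_iff.mpr hJ
  exact IsLocalRing.of_surjective' (Ideal.Quotient.mk J) Ideal.Quotient.mk_surjective

variable [IsLocalRing ((PS k) ⧸ J)]

theorem map_maximalIdeal_quot :
    (maximalIdeal (PS k)).map (Ideal.Quotient.mk J) = maximalIdeal ((PS k) ⧸ J) := by
  have hle : J ≤ maximalIdeal (PS k) := IsLocalRing.le_maximalIdeal (by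
    intro h
    have : Nontrivial ((PS k) ⧸ J) := inferInstance
    rw [h] at this
    exact (Ideal.Quotient.nontrivial_iff.mp this) rfl)
  rcases Ideal.map_eq_top_or_isMaximal_of_surjective (Ideal.Quotient.mk J)
    Ideal.Quotient.mk_surjective (inferInstance : (maximalIdeal (PS k)).IsMaximal) with h | h
  · exfalso
    have h1 : (1 : (PS k) ⧸ J) ∈ (maximalIdeal (PS k)).map (Ideal.Quotient.mk J) := by rw [h]; trivial
    rw [Ideal.mem_map_iff_of_surjective _ Ideal.Quotient.mk_surjective] at h1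
    obtain ⟨p, hp, hp1⟩ := h1
    have h2 : p - 1 ∈ J := by
      rw [← Ideal.Quotient.eq_zero_iff_mem, map_sub, hp1, map_one, sub_self]
    have h3 : (1 : (PS k)) ∈ maximalIdeal (PS k) := by
      have : (1 : (PS k)) = p - (p - 1) := by ring
      rw [this]; exact Ideal.sub_mem _ hp (hle h2)
    exact (Ideal.ne_top_iff_one _).mp (Ideal.IsMaximal.ne_top inferInstance) h3
  · exact IsLocalRing.eq_maximalIdeal h

theorem maximalIdeal_quot_eq_span : maximalIdeal ((PS k) ⧸ J) =
    Ideal.span (Set.range (fun i : Fin 2 => Ideal.Quotient.mk J (X i))) := by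
  rw [← map_maximalIdeal_quot J, maximalIdeal_P, Ideal.map_span, ← Set.range_comp]
  rfl

theorem mk_X_mem (i : Fin 2) : Ideal.Quotient.mk J (X i) ∈ maximalIdeal ((PS k) ⧸ J) := by
  rw [maximalIdeal_quot_eq_span]; exact Ideal.subset_span ⟨i, rfl⟩

theorem complete_quot : IsAdicComplete (maximalIdeal ((PS k) ⧸ J)) ((PS k) ⧸ J) := by
  haveI := complete_P (k := k)
  haveI : IsAdicComplete (maximalIdeal (PS k)) ((PS k) ⧸ J) :=
    GalLoc2.isAdicComplete_of_finite (maximalIdeal (PS k)) ((PS k) ⧸ J)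
  have := GalLoc2.isAdicComplete_map (maximalIdeal (PS k)) ((PS k) ⧸ J)
  rw [Ideal.Quotient.algebraMap_eq, map_maximalIdeal_quot] at this
  exact this

theorem exists_sub_mem_quot (q : (PS k) ⧸ J) :
    ∃ c : k, q - algebraMap k ((PS k) ⧸ J) c ∈ maximalIdeal ((PS k) ⧸ J) := by
  obtain ⟨p, rfl⟩ := Ideal.Quotient.mk_surjective q
  refine ⟨constantCoeff p, ?_⟩
  have h1 : p - C (constantCoeff p) ∈ maximalIdeal (PS k) := by
    rw [mem_maximalIdeal_P, map_sub, constantCoeff_C, sub_self]
  have h2 := Ideal.mem_map_of_mem (Ideal.Quotient.mk J) h1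
  rw [map_maximalIdeal_quot, map_sub] at h2
  have h3 : algebraMap k ((PS k) ⧸ J) (constantCoeff p) =
      Ideal.Quotient.mk J (C (constantCoeff p)) := by
    rw [IsScalarTower.algebraMap_apply k (PS k) ((PS k) ⧸ J), Ideal.Quotient.algebraMap_eq]
    rfl
  rw [h3]; exact h2

/-- homomorphisms out of a quotient of `k[[x,y]]` are determined by the images of the variables -/
theorem hom_ext_quot {T : Type u} [CommRing T] [Algebra k T] [IsLocalRing T]
    [IsHausdorff (maximalIdeal T) T] (φ ψ : ((PS k) ⧸ J) →ₐ[k] T)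
    (h : ∀ i, φ (Ideal.Quotient.mk J (X i)) = ψ (Ideal.Quotient.mk J (X i)))
    (hm : ∀ i, φ (Ideal.Quotient.mk J (X i)) ∈ maximalIdeal T) : φ = ψ := by
  have := hom_ext_P (φ.comp (Ideal.Quotient.mkₐ k J)) (ψ.comp (Ideal.Quotient.mkₐ k J)) h hm
  ext q
  obtain ⟨p, rfl⟩ := Ideal.Quotient.mk_surjective q
  exact DFunLike.congr_fun this p

/-- an endomorphism of a quotient of `k[[x,y]]` whose values on the variables generate the maximal
ideal is bijective -/
theorem bijective_of_span (φ : ((PS k) ⧸ J) →ₐ[k] ((PS k) ⧸ J))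
    (h : Ideal.span (Set.range (fun i : Fin 2 => φ (Ideal.Quotient.mk J (X i)))) =
      maximalIdeal ((PS k) ⧸ J)) : Function.Bijective φ := by
  haveI := complete_quot J
  have hres : Function.Surjective ((IsLocalRing.residue ((PS k) ⧸ J)).comp
      (algebraMap k ((PS k) ⧸ J))) := by
    intro y
    obtain ⟨q, rfl⟩ := IsLocalRing.residue_surjective y
    obtain ⟨c, hc⟩ := exists_sub_mem_quot J q
    refine ⟨c, ?_⟩
    rw [RingHom.comp_apply]
    symm
    rw [← sub_eq_zero, ← map_sub, IsLocalRing.residue_eq_zero_iff]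
    exact hc
  have hsurj : Function.Surjective (φ.comp (Ideal.Quotient.mkₐ k J)) := by
    refine PowerSeriesComplete.surjective_of_residue'
      (fun i : Fin 2 => φ (Ideal.Quotient.mk J (X i))) ?_ hres _ (fun i => rfl)
    rw [IsLocalRing.maximalIdeal_eq_bot, Ideal.map_bot, bot_sup_eq]
    exact h
  have hφ : Function.Surjective φ := by
    intro y
    obtain ⟨p, hp⟩ := hsurj y
    exact ⟨Ideal.Quotient.mk J p, hp⟩
  exact ⟨NodeCompl.injective_of_surjective_endo (φ : ((PS k) ⧸ J) →+* ((PS k) ⧸ J)) hφ, hφ⟩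

end Quot

end Groth.Agent.Helper3.NodeAut
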