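import Mathlib
import Groth.Prelude.Def_W4c1arstab1appArSing
import Groth.Prelude.Def_W4c5spincurvestfNode
import Groth.Agent.Lib.Helper3.NodeAut1
import Groth.Agent.Lib.Helper22.NodeAlpha

/-!
# The node algebra `k[[x,y]]/(y^2-x^2)` and its branch form `k[[X,Y]]/(XY)` (helper3)
-/

set_option autoImplicit false
set_option linter.style.haveILetI false
universe u

namespace Groth.Agent.Helper3.NodeAut

open IsLocalRing MvPowerSeries SpinCurv

variable {k : Type u} [Field k]

theorem span_ne_top (g : PS k) (hg : constantCoeff g = 0) : Ideal.span {g} ≠ ⊤ := by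
  intro h
  have h1 : Ideal.span {g} ≤ maximalIdeal (PS k) := by
    rw [Ideal.span_le, Set.singleton_subset_iff]
    exact mem_maximalIdeal_P.mpr hg
  rw [h] at h1
  exact (Ideal.IsMaximal.ne_top (inferInstance : (maximalIdeal (PS k)).IsMaximal))
    (top_le_iff.mp h1)

/-- homomorphisms out of `k[[x,y]]/(g)` with prescribed values on the variables -/
theorem exists_hom_quot (g : PS k) {T : Type u} [CommRing T] [Algebra k T] [IsLocalRing T]
    [IsAdicComplete (maximalIdeal T) T] (a : Fin 2 → T) (ha : ∀ i, a i ∈ maximalIdeal T)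
    (hg : ∀ F : PS k →ₐ[k] T, (∀ i, F (X i) = a i) → F g = 0) :
    ∃ φ : (PS k ⧸ Ideal.span {g}) →ₐ[k] T, ∀ i, φ (Ideal.Quotient.mk _ (X i)) = a i := by
  obtain ⟨F, hF⟩ := exists_hom_P (k := k) a ha
  have hker : ∀ x ∈ Ideal.span {g}, F x = 0 := by
    intro x hx
    obtain ⟨t, rfl⟩ := Ideal.mem_span_singleton'.mp hx
    rw [map_mul, hg F hF, mul_zero]
  refine ⟨Ideal.Quotient.liftₐ _ F hker, fun i => ?_⟩
  change F (X i) = a i
  exact hF i

variable (k)

/-- the node in branch form -/
abbrev NN : Type u := NodeRing k (0 : k)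
/-- the node as `A_1`-singularity -/
abbrev AA : Type u := ArSing.ring k 1

instance instLocalNN : IsLocalRing (NN k) :=
  isLocalRing_quot _ (span_ne_top _ (by simp))

instance instLocalAA : IsLocalRing (AA k) :=
  isLocalRing_quot _ (span_ne_top _ (by simp [ArSing.eqn]))

instance instCompleteNN : IsAdicComplete (maximalIdeal (NN k)) (NN k) := complete_quot _
instance instCompleteAA : IsAdicComplete (maximalIdeal (AA k)) (AA k) := complete_quot _

/-- class of `X` in the branch form -/
noncomputable abbrev XN : NN k := NodeRing.x k 0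
/-- class of `Y` in the branch form -/
noncomputable abbrev YN : NN k := NodeRing.y k 0
/-- class of `x` -/
noncomputable abbrev xA : AA k := ArSing.x k 1
/-- class of `y` -/
noncomputable abbrev yA : AA k := ArSing.y k 1

theorem XN_mul_YN : XN k * YN k = 0 := by
  exact (Groth.Agent.Helper22.NodeAlpha.x_mul_y k (0 : k)).trans (map_zero _)

theorem yA_sq : yA k ^ 2 = xA k ^ 2 := by
  have h : Ideal.Quotient.mk (Ideal.span {ArSing.eqn k 1}) (ArSing.eqn k 1) = 0 :=
    Ideal.Quotient.eq_zero_iff_mem.mpr (Ideal.subset_span (Set.mem_singleton _))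
  rw [ArSing.eqn, map_sub, map_pow, map_pow, sub_eq_zero] at h
  exact h

theorem XN_mem : XN k ∈ maximalIdeal (NN k) := mk_X_mem _ 0
theorem YN_mem : YN k ∈ maximalIdeal (NN k) := mk_X_mem _ 1
theorem xA_mem : xA k ∈ maximalIdeal (AA k) := mk_X_mem _ 0
theorem yA_mem : yA k ∈ maximalIdeal (AA k) := mk_X_mem _ 1

variable {k}

/-- homomorphisms out of the branch form -/
theorem exists_hom_NN {T : Type u} [CommRing T] [Algebra k T] [IsLocalRing T]
    [IsAdicComplete (maximalIdeal T) T] (a b : T) (ha : a ∈ maximalIdeal T)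
    (hb : b ∈ maximalIdeal T) (hab : a * b = 0) :
    ∃ φ : NN k →ₐ[k] T, φ (XN k) = a ∧ φ (YN k) = b := by
  obtain ⟨φ, hφ⟩ := exists_hom_quot (X 0 * X 1 - C (0 : k) : PS k) ![a, b]
    (by intro i; fin_cases i; exacts [ha, hb])
    (by
      intro F hF
      have h0 := hF 0
      have h1 := hF 1
      simp only [Matrix.cons_val_zero, Matrix.cons_val_one] at h0 h1
      rw [map_sub, map_mul, h0, h1, map_zero, map_zero, sub_zero, hab])
  exact ⟨φ, hφ 0, hφ 1⟩

/-- homomorphisms out of the `A_1`-form -/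
theorem exists_hom_AA {T : Type u} [CommRing T] [Algebra k T] [IsLocalRing T]
    [IsAdicComplete (maximalIdeal T) T] (a b : T) (ha : a ∈ maximalIdeal T)
    (hb : b ∈ maximalIdeal T) (hab : b ^ 2 = a ^ 2) :
    ∃ φ : AA k →ₐ[k] T, φ (xA k) = a ∧ φ (yA k) = b := by
  obtain ⟨φ, hφ⟩ := exists_hom_quot (ArSing.eqn k 1) ![a, b]
    (by intro i; fin_cases i; exacts [ha, hb])
    (by
      intro F hF
      have h0 := hF 0
      have h1 := hF 1
      simp only [Matrix.cons_val_zero, Matrix.cons_val_one] at h0 h1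
      rw [ArSing.eqn, map_sub, map_pow, map_pow, h0, h1, hab, sub_self])
  exact ⟨φ, hφ 0, hφ 1⟩

theorem hom_ext_NN {T : Type u} [CommRing T] [Algebra k T] [IsLocalRing T]
    [IsHausdorff (maximalIdeal T) T] (φ ψ : NN k →ₐ[k] T) (hX : φ (XN k) = ψ (XN k))
    (hY : φ (YN k) = ψ (YN k)) (hXm : φ (XN k) ∈ maximalIdeal T)
    (hYm : φ (YN k) ∈ maximalIdeal T) : φ = ψ :=
  hom_ext_quot _ φ ψ (by intro i; fin_cases i; exacts [hX, hY])
    (by intro i; fin_cases i; exacts [hXm, hYm])

theorem hom_ext_AA {T : Type u} [CommRing T] [Algebra k T] [IsLocalRing T]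
    [IsHausdorff (maximalIdeal T) T] (φ ψ : AA k →ₐ[k] T) (hX : φ (xA k) = ψ (xA k))
    (hY : φ (yA k) = ψ (yA k)) (hXm : φ (xA k) ∈ maximalIdeal T)
    (hYm : φ (yA k) ∈ maximalIdeal T) : φ = ψ :=
  hom_ext_quot _ φ ψ (by intro i; fin_cases i; exacts [hX, hY])
    (by intro i; fin_cases i; exacts [hXm, hYm])

theorem maximalIdeal_NN : maximalIdeal (NN k) = Ideal.span {XN k, YN k} := by
  rw [maximalIdeal_quot_eq_span]
  congr 1
  ext z
  simp only [Set.mem_range, Set.mem_insert_iff, Set.mem_singleton_iff]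
  constructor
  · rintro ⟨i, rfl⟩
    fin_cases i
    · left; rfl
    · right; rfl
  · rintro (rfl | rfl)
    · exact ⟨0, rfl⟩
    · exact ⟨1, rfl⟩

/-- an endomorphism of the branch form whose values on `X, Y` generate the maximal ideal is
bijective -/
theorem bijective_NN (φ : NN k →ₐ[k] NN k)
    (hX : XN k ∈ Ideal.span {φ (XN k), φ (YN k)}) (hY : YN k ∈ Ideal.span {φ (XN k), φ (YN k)})
    (hXm : φ (XN k) ∈ maximalIdeal (NN k)) (hYm : φ (YN k) ∈ maximalIdeal (NN k)) :
    Function.Bijective φ := by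
  apply bijective_of_span
  apply le_antisymm
  · rw [Ideal.span_le]
    rintro _ ⟨i, rfl⟩
    fin_cases i
    · exact hXm
    · exact hYm
  · rw [maximalIdeal_NN, Ideal.span_le]
    have hle : Ideal.span {φ (XN k), φ (YN k)} ≤
        Ideal.span (Set.range fun i : Fin 2 => φ (Ideal.Quotient.mk _ (X i))) := by
      rw [Ideal.span_le]
      rintro z (rfl | rfl)
      · exact Ideal.subset_span ⟨0, rfl⟩
      · exact Ideal.subset_span ⟨1, rfl⟩
    rintro z (rfl | rfl)
    · exact hle hX
    · exact hle hY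

end Groth.Agent.Helper3.NodeAut
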