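import Mathlib
import Groth.Agent.Lib.Helper3.NodeAut2

/-!
# Involutions of the node `k[[X,Y]]/(XY)` (helper3)
-/

set_option autoImplicit false
set_option linter.style.haveILetI false
universe u

namespace Groth.Agent.Helper3.NodeAut

open IsLocalRing MvPowerSeries SpinCurv Groth.Agent.Helper22.NodeAlpha

section LocalLemmas

variable {R : Type*} [CommRing R] [IsLocalRing R]

theorem isUnit_of_eq_mul {z a b : R} (hz : z ≠ 0) (h : z = z * a * b) : IsUnit a := by
  by_contra ha
  have ha' : a ∈ maximalIdeal R := (IsLocalRing.mem_maximalIdeal _).mpr ha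
  have hab : a * b ∈ maximalIdeal R := Ideal.mul_mem_right _ _ ha'
  have hu : IsUnit (1 - a * b) :=
    IsLocalRing.isUnit_one_sub_self_of_mem_nonunits _ ((IsLocalRing.mem_maximalIdeal _).mp hab)
  apply hz
  have h0 : z * (1 - a * b) = 0 := by linear_combination h
  exact (hu.mul_left_eq_zero).mp h0

theorem isUnit_of_sub_one_mem {a : R} (h : a - 1 ∈ maximalIdeal R) : IsUnit a := by
  by_contra ha
  have ha' : a ∈ maximalIdeal R := (IsLocalRing.mem_maximalIdeal _).mpr ha
  have h1 : (1 : R) ∈ maximalIdeal R := by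
    have : (1 : R) = a - (a - 1) := by ring
    rw [this]; exact Ideal.sub_mem _ ha' h
  exact (Ideal.ne_top_iff_one _).mp (Ideal.IsMaximal.ne_top inferInstance) h1

end LocalLemmas

variable {k : Type u} [Field k]

/-- series in `X` -/
noncomputable abbrev oXN : PowerSeries k →+* NN k := oX k (0 : k)
/-- series in `Y` -/
noncomputable abbrev oYN : PowerSeries k →+* NN k := oY k (0 : k)

theorem zero_mem_max : (0 : k) ∈ maximalIdeal k := zero_mem _

theorem alg0 : algebraMap k (NN k) 0 = 0 := map_zero _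
theorem oX0 : oXN (0 : PowerSeries k) = 0 := map_zero _
theorem oY0 : oYN (0 : PowerSeries k) = 0 := map_zero _
theorem oX1 : oXN (1 : PowerSeries k) = 1 := map_one _
theorem oY1 : oYN (1 : PowerSeries k) = 1 := map_one _

theorem decomp (a : NN k) : ∃ (c : k) (f g : PowerSeries k),
    a = algebraMap k (NN k) c + XN k * oXN f + YN k * oYN g := by
  obtain ⟨u, v, rfl⟩ := nfA k (0 : k) zero_mem_max a
  refine ⟨PowerSeries.constantCoeff u + PowerSeries.constantCoeff v,
    PowerSeries.mk (fun p => PowerSeries.coeff (p + 1) u),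
    PowerSeries.mk (fun p => PowerSeries.coeff (p + 1) v), ?_⟩
  conv_lhs => rw [PowerSeries.eq_X_mul_shift_add_const u, PowerSeries.eq_X_mul_shift_add_const v]
  rw [map_add, map_add, map_mul, map_mul, oX_X, oY_X, oX_C, oY_C, map_add]
  ring

theorem uniq (c : k) (f g : PowerSeries k)
    (h : algebraMap k (NN k) c + XN k * oXN f + YN k * oYN g = 0) : c = 0 ∧ f = 0 ∧ g = 0 := by
  have h' : oX k (0 : k) (PowerSeries.X * f + PowerSeries.C c) +
      oY k (0 : k) (PowerSeries.X * g) = 0 := by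
    rw [map_add, map_mul, map_mul, oX_X, oY_X, oX_C, ← h]
    ring
  obtain ⟨h1, h2, h3⟩ := nuA k (0 : k) zero_mem_max _ _ h'
  refine ⟨?_, ?_, ?_⟩
  · rw [map_add, PowerSeries.coeff_zero_X_mul, PowerSeries.coeff_zero_C,
      PowerSeries.coeff_zero_X_mul, zero_add, add_zero] at h3
    exact h3
  · ext n
    have := h1 n
    rw [map_add, PowerSeries.coeff_succ_X_mul, PowerSeries.coeff_C, if_neg (Nat.succ_ne_zero n),
      add_zero] at this
    rw [this, map_zero]
  · ext n
    have := h2 n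
    rw [PowerSeries.coeff_succ_X_mul] at this
    rw [this, map_zero]

theorem XN_ne_zero : XN k ≠ 0 := by
  intro h
  have h0 : algebraMap k (NN k) 0 + XN k * oXN 1 + YN k * oYN 0 = 0 := by
    rw [alg0, oX1, oY0, mul_one, mul_zero, zero_add, add_zero]; exact h
  exact one_ne_zero (uniq (0 : k) 1 0 h0).2.1

theorem YN_ne_zero : YN k ≠ 0 := by
  intro h
  have h0 : algebraMap k (NN k) 0 + XN k * oXN 0 + YN k * oYN 1 = 0 := by
    rw [alg0, oY1, oX0, mul_one, mul_zero, zero_add, zero_add]; exact h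
  exact one_ne_zero (uniq (0 : k) 0 1 h0).2.2

theorem exists_decomp_of_mem (a : NN k) (ha : a ∈ maximalIdeal (NN k)) :
    ∃ f g : PowerSeries k, a = XN k * oXN f + YN k * oYN g := by
  obtain ⟨c, f, g, rfl⟩ := decomp a
  refine ⟨f, g, ?_⟩
  have hc : c = 0 := by
    by_contra hc
    have hu : IsUnit (algebraMap k (NN k) c) := (isUnit_iff_ne_zero.mpr hc).map _
    have hm : algebraMap k (NN k) c ∈ maximalIdeal (NN k) := by
      have e : algebraMap k (NN k) c = (algebraMap k (NN k) c + XN k * oXN f + YN k * oYN g) -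
          (XN k * oXN f + YN k * oYN g) := by ring
      rw [e]
      exact Ideal.sub_mem _ ha (Ideal.add_mem _ (Ideal.mul_mem_right _ _ (XN_mem k))
        (Ideal.mul_mem_right _ _ (YN_mem k)))
    exact (IsLocalRing.mem_maximalIdeal _).mp hm hu
  rw [hc, alg0, zero_add]

theorem prod_formula (f₁ g₁ f₂ g₂ : PowerSeries k) :
    (XN k * oXN f₁ + YN k * oYN g₁) * (XN k * oXN f₂ + YN k * oYN g₂) =
      XN k * oXN (PowerSeries.X * (f₁ * f₂)) + YN k * oYN (PowerSeries.X * (g₁ * g₂)) := by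
  rw [map_mul, map_mul, map_mul, map_mul, oX_X, oY_X]
  have hXY := XN_mul_YN k
  linear_combination (oXN f₁ * oYN g₂ + oYN g₁ * oXN f₂) * hXY

theorem sq_eq_one_of_eq_mul {z a b : NN k} (hz : z ≠ 0) (h : z = z * a * b) (ξ : k)
    (ha : a - algebraMap k (NN k) ξ ∈ maximalIdeal (NN k))
    (hb : b - algebraMap k (NN k) ξ ∈ maximalIdeal (NN k)) : ξ ^ 2 = 1 := by
  by_contra hne
  have hne' : (1 - ξ ^ 2 : k) ≠ 0 := fun h0 => hne (by linear_combination -h0)
  have hu : IsUnit (algebraMap k (NN k) (1 - ξ ^ 2)) := (isUnit_iff_ne_zero.mpr hne').map _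
  have hmem : algebraMap k (NN k) (1 - ξ ^ 2) - (1 - a * b) ∈ maximalIdeal (NN k) := by
    have e : algebraMap k (NN k) (1 - ξ ^ 2) - (1 - a * b) =
        (a - algebraMap k (NN k) ξ) * b + algebraMap k (NN k) ξ * (b - algebraMap k (NN k) ξ) := by
      rw [map_sub, map_one, map_pow]; ring
    rw [e]
    exact Ideal.add_mem _ (Ideal.mul_mem_right _ _ ha) (Ideal.mul_mem_left _ _ hb)
  have hu' : IsUnit (1 - a * b) := by
    by_contra hnu
    have h1 : 1 - a * b ∈ maximalIdeal (NN k) := (IsLocalRing.mem_maximalIdeal _).mpr hnu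
    have h2 : algebraMap k (NN k) (1 - ξ ^ 2) ∈ maximalIdeal (NN k) := by
      have e : algebraMap k (NN k) (1 - ξ ^ 2) =
          (algebraMap k (NN k) (1 - ξ ^ 2) - (1 - a * b)) + (1 - a * b) := by ring
      rw [e]; exact Ideal.add_mem _ hmem h1
    exact (IsLocalRing.mem_maximalIdeal _).mp h2 hu
  apply hz
  have h0 : z * (1 - a * b) = 0 := by linear_combination h
  exact (hu'.mul_left_eq_zero).mp h0

/-- classification of involutions of the node in branch form -/
theorem classify_NN (h2 : (2 : k) ≠ 0) (σ : NN k ≃ₐ[k] NN k) (hσ : ∀ a, σ (σ a) = a) :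
    ∃ Φ : NN k ≃ₐ[k] NN k,
      (∃ ξ η : k, ξ ^ 2 = 1 ∧ η ^ 2 = 1 ∧
        Φ.symm (σ (Φ (XN k))) = algebraMap k (NN k) ξ * XN k ∧
        Φ.symm (σ (Φ (YN k))) = algebraMap k (NN k) η * YN k) ∨
      (Φ.symm (σ (Φ (XN k))) = YN k ∧ Φ.symm (σ (Φ (YN k))) = XN k) := by
  have hσm : ∀ a ∈ maximalIdeal (NN k), σ a ∈ maximalIdeal (NN k) := by
    intro a ha
    rw [IsLocalRing.mem_maximalIdeal, mem_nonunits_iff] at ha ⊢
    intro hu
    apply ha
    have := hu.map σ
    rwa [hσ] at this
  have hX := hσm _ (XN_mem k)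
  have hY := hσm _ (YN_mem k)
  obtain ⟨f₁, g₁, e₁⟩ := exists_decomp_of_mem _ hX
  obtain ⟨f₂, g₂, e₂⟩ := exists_decomp_of_mem _ hY
  have hprod : σ (XN k) * σ (YN k) = 0 := by rw [← map_mul, XN_mul_YN, map_zero σ]
  rw [e₁, e₂, prod_formula] at hprod
  obtain ⟨-, hf, hg⟩ := uniq (0 : k) _ _ (by rw [alg0, zero_add]; exact hprod)
  have hf' : f₁ * f₂ = 0 := (mul_eq_zero.mp hf).resolve_left PowerSeries.X_ne_zero
  have hg' : g₁ * g₂ = 0 := (mul_eq_zero.mp hg).resolve_left PowerSeries.X_ne_zero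
  have hσX0 : σ (XN k) ≠ 0 := fun h => XN_ne_zero (σ.injective (h.trans (map_zero σ).symm))
  have hσY0 : σ (YN k) ≠ 0 := fun h => YN_ne_zero (σ.injective (h.trans (map_zero σ).symm))
  have hc2 : algebraMap k (NN k) 2⁻¹ * 2 = 1 := by
    rw [← map_ofNat (algebraMap k (NN k)) 2, ← map_mul, inv_mul_cancel₀ h2, map_one]
  rcases mul_eq_zero.mp hf' with hf1 | hf2
  · -- the swap case
    have hg1 : g₁ ≠ 0 := by
      rintro rfl
      apply hσX0
      rw [e₁, hf1, oX0, oY0, mul_zero, mul_zero, add_zero]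
    have hg2 : g₂ = 0 := (mul_eq_zero.mp hg').resolve_left hg1
    have e₁' : σ (XN k) = YN k * oYN g₁ := by rw [e₁, hf1, oX0, mul_zero, zero_add]
    have e₂' : σ (YN k) = XN k * oXN f₂ := by rw [e₂, hg2, oY0, mul_zero, add_zero]
    have hYeq : YN k = YN k * oYN g₁ * σ (oXN f₂) := by
      conv_lhs => rw [← hσ (YN k), e₂', map_mul, e₁']
    have hu1 : IsUnit (oYN g₁) := isUnit_of_eq_mul YN_ne_zero hYeq
    obtain ⟨w, hw⟩ := hu1.exists_right_inv
    have hXY' : XN k * σ (XN k) = 0 := by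
      rw [e₁', ← mul_assoc, XN_mul_YN, zero_mul]
    obtain ⟨φ, hφX, hφY⟩ := exists_hom_NN (k := k) (XN k) (σ (XN k)) (XN_mem k) hX hXY'
    have hbij : Function.Bijective φ := by
      apply bijective_NN
      · rw [hφX]; exact Ideal.subset_span (Set.mem_insert _ _)
      · rw [hφX, hφY]
        apply Ideal.mem_span_pair.mpr
        refine ⟨0, w, ?_⟩
        rw [e₁', zero_mul, zero_add]
        linear_combination YN k * hw
      · rw [hφX]; exact XN_mem k
      · rw [hφY]; exact hX
    obtain ⟨s, hsX, hsY⟩ := exists_hom_NN (k := k) (YN k) (XN k) (YN_mem k) (XN_mem k)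
      (by rw [mul_comm]; exact XN_mul_YN k)
    have hcomm : (σ : NN k →ₐ[k] NN k).comp φ = φ.comp s := by
      apply hom_ext_NN
      · change σ (φ (XN k)) = φ (s (XN k))
        rw [hφX, hsX, hφY]
      · change σ (φ (YN k)) = φ (s (YN k))
        rw [hφY, hsY, hφX, hσ]
      · change σ (φ (XN k)) ∈ _
        rw [hφX]; exact hX
      · change σ (φ (YN k)) ∈ _
        rw [hφY, hσ]; exact XN_mem k
    refine ⟨AlgEquiv.ofBijective φ hbij, Or.inr ⟨?_, ?_⟩⟩
    · rw [AlgEquiv.symm_apply_eq]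
      change σ (φ (XN k)) = φ (YN k)
      have := DFunLike.congr_fun hcomm (XN k)
      change σ (φ (XN k)) = φ (s (XN k)) at this
      rw [this, hsX]
    · rw [AlgEquiv.symm_apply_eq]
      change σ (φ (YN k)) = φ (XN k)
      have := DFunLike.congr_fun hcomm (YN k)
      change σ (φ (YN k)) = φ (s (YN k)) at this
      rw [this, hsY]
  · -- the diagonal case
    have hf1 : f₁ ≠ 0 := by
      rintro rfl
      -- then σ X = Y * oY g₁ and σ Y = Y * oY g₂; product of g's zero forces one to vanish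
      rcases mul_eq_zero.mp hg' with hg1 | hg2
      · apply hσX0
        rw [e₁, hg1, oX0, oY0, mul_zero, mul_zero, add_zero]
      · apply hσY0
        rw [e₂, hf2, hg2, oX0, oY0, mul_zero, mul_zero, add_zero]
    have hg2 : g₂ ≠ 0 := by
      rintro rfl
      apply hσY0
      rw [e₂, hf2, oX0, oY0, mul_zero, mul_zero, add_zero]
    have hg1 : g₁ = 0 := (mul_eq_zero.mp hg').resolve_right hg2
    have e₁' : σ (XN k) = XN k * oXN f₁ := by rw [e₁, hg1, oY0, mul_zero, add_zero]
    have e₂' : σ (YN k) = YN k * oYN g₂ := by rw [e₂, hf2, oX0, mul_zero, zero_add]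
    have hXeq : XN k = XN k * oXN f₁ * σ (oXN f₁) := by
      conv_lhs => rw [← hσ (XN k), e₁', map_mul, e₁']
    have hYeq : YN k = YN k * oYN g₂ * σ (oYN g₂) := by
      conv_lhs => rw [← hσ (YN k), e₂', map_mul, e₂']
    obtain ⟨ξ, hξ⟩ := exists_sub_mem_quot (k := k) _ (oXN f₁)
    obtain ⟨η, hη⟩ := exists_sub_mem_quot (k := k) _ (oYN g₂)
    have hξ' : σ (oXN f₁) - algebraMap k (NN k) ξ ∈ maximalIdeal (NN k) := by
      have := hσm _ hξ
      rwa [map_sub, AlgEquiv.commutes] at this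
    have hη' : σ (oYN g₂) - algebraMap k (NN k) η ∈ maximalIdeal (NN k) := by
      have := hσm _ hη
      rwa [map_sub, AlgEquiv.commutes] at this
    have hξ2 : ξ ^ 2 = 1 := sq_eq_one_of_eq_mul XN_ne_zero hXeq ξ hξ hξ'
    have hη2 : η ^ 2 = 1 := sq_eq_one_of_eq_mul YN_ne_zero hYeq η hη hη'
    have hξa : algebraMap k (NN k) ξ * algebraMap k (NN k) ξ = 1 := by
      rw [← map_mul, ← pow_two, hξ2, map_one]
    have hηa : algebraMap k (NN k) η * algebraMap k (NN k) η = 1 := by
      rw [← map_mul, ← pow_two, hη2, map_one]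
    -- the eigenvectors
    set c : NN k := algebraMap k (NN k) 2⁻¹ with hc
    set aξ : NN k := algebraMap k (NN k) ξ with haξ
    set aη : NN k := algebraMap k (NN k) η with haη
    have hσc : σ c = c := AlgEquiv.commutes σ _
    have hσξ : σ aξ = aξ := AlgEquiv.commutes σ _
    have hση : σ aη = aη := AlgEquiv.commutes σ _
    set X' : NN k := c * (XN k + aξ * σ (XN k)) with hX'
    set Y' : NN k := c * (YN k + aη * σ (YN k)) with hY'
    have hσX' : σ X' = aξ * X' := by
      rw [hX', map_mul, map_add, map_mul, hσ, hσc, hσξ]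
      linear_combination (-(c * σ (XN k))) * hξa
    have hσY' : σ Y' = aη * Y' := by
      rw [hY', map_mul, map_add, map_mul, hσ, hσc, hση]
      linear_combination (-(c * σ (YN k))) * hηa
    set εX : NN k := c * (1 + aξ * oXN f₁) with hεX
    set εY : NN k := c * (1 + aη * oYN g₂) with hεY
    have hX'ε : X' = XN k * εX := by rw [hX', hεX, e₁']; ring
    have hY'ε : Y' = YN k * εY := by rw [hY', hεY, e₂']; ring
    have huX : IsUnit εX := by
      apply isUnit_of_sub_one_mem
      have e : εX - 1 = c * aξ * (oXN f₁ - aξ) := by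
        rw [hεX]
        linear_combination (c : NN k) * hξa + (1 : NN k) * hc2
      rw [e]; exact Ideal.mul_mem_left _ _ hξ
    have huY : IsUnit εY := by
      apply isUnit_of_sub_one_mem
      have e : εY - 1 = c * aη * (oYN g₂ - aη) := by
        rw [hεY]
        linear_combination (c : NN k) * hηa + (1 : NN k) * hc2
      rw [e]; exact Ideal.mul_mem_left _ _ hη
    obtain ⟨wX, hwX⟩ := huX.exists_right_inv
    obtain ⟨wY, hwY⟩ := huY.exists_right_inv
    have hX'm : X' ∈ maximalIdeal (NN k) := by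
      rw [hX'ε]; exact Ideal.mul_mem_right _ _ (XN_mem k)
    have hY'm : Y' ∈ maximalIdeal (NN k) := by
      rw [hY'ε]; exact Ideal.mul_mem_right _ _ (YN_mem k)
    have hXY' : X' * Y' = 0 := by
      rw [hX'ε, hY'ε]
      linear_combination (εX * εY) * XN_mul_YN k
    obtain ⟨φ, hφX, hφY⟩ := exists_hom_NN (k := k) X' Y' hX'm hY'm hXY'
    have hbij : Function.Bijective φ := by
      apply bijective_NN
      · rw [hφX, hφY]
        apply Ideal.mem_span_pair.mpr
        refine ⟨wX, 0, ?_⟩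
        rw [hX'ε, zero_mul, add_zero]
        linear_combination XN k * hwX
      · rw [hφX, hφY]
        apply Ideal.mem_span_pair.mpr
        refine ⟨0, wY, ?_⟩
        rw [hY'ε, zero_mul, zero_add]
        linear_combination YN k * hwY
      · rw [hφX]; exact hX'm
      · rw [hφY]; exact hY'm
    obtain ⟨δ, hδX, hδY⟩ := exists_hom_NN (k := k) (aξ * XN k) (aη * YN k)
      (Ideal.mul_mem_left _ _ (XN_mem k)) (Ideal.mul_mem_left _ _ (YN_mem k))
      (by linear_combination (aξ * aη) * XN_mul_YN k)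
    have hcomm : (σ : NN k →ₐ[k] NN k).comp φ = φ.comp δ := by
      apply hom_ext_NN
      · change σ (φ (XN k)) = φ (δ (XN k))
        rw [hδX, map_mul φ, hφX, hσX', haξ, AlgHom.commutes]
      · change σ (φ (YN k)) = φ (δ (YN k))
        rw [hδY, map_mul φ, hφY, hσY', haη, AlgHom.commutes]
      · change σ (φ (XN k)) ∈ _
        rw [hφX]; exact hσm _ hX'm
      · change σ (φ (YN k)) ∈ _
        rw [hφY]; exact hσm _ hY'm
    refine ⟨AlgEquiv.ofBijective φ hbij, Or.inl ⟨ξ, η, hξ2, hη2, ?_, ?_⟩⟩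
    · rw [AlgEquiv.symm_apply_eq]
      change σ (φ (XN k)) = φ (aξ * XN k)
      have := DFunLike.congr_fun hcomm (XN k)
      change σ (φ (XN k)) = φ (δ (XN k)) at this
      rw [this, hδX]
    · rw [AlgEquiv.symm_apply_eq]
      change σ (φ (YN k)) = φ (aη * YN k)
      have := DFunLike.congr_fun hcomm (YN k)
      change σ (φ (YN k)) = φ (δ (YN k)) at this
      rw [this, hδY]

end Groth.Agent.Helper3.NodeAut
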