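import Mathlib
import Groth.Agent.Lib.Helper3.NodeAut3

/-!
# Involutions of the node `k[[x,y]]/(y^2-x^2)` (helper3)
-/

set_option autoImplicit false
set_option linter.style.haveILetI false
universe u

namespace Groth.Agent.Helper3.NodeAut

open IsLocalRing MvPowerSeries SpinCurv

variable {k : Type u} [Field k]

theorem algA_half (h2 : (2 : k) ≠ 0) : algebraMap k (AA k) 2⁻¹ * 2 = 1 := by
  rw [← map_ofNat (algebraMap k (AA k)) 2, ← map_mul, inv_mul_cancel₀ h2, map_one]

theorem algN_half (h2 : (2 : k) ≠ 0) : algebraMap k (NN k) 2⁻¹ * 2 = 1 := by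
  rw [← map_ofNat (algebraMap k (NN k)) 2, ← map_mul, inv_mul_cancel₀ h2, map_one]

/-- the isomorphism between the two forms of the node -/
theorem exists_iso (h2 : (2 : k) ≠ 0) : ∃ ι : AA k ≃ₐ[k] NN k,
    ι (xA k) = algebraMap k (NN k) 2⁻¹ * (XN k - YN k) ∧
    ι (yA k) = algebraMap k (NN k) 2⁻¹ * (XN k + YN k) ∧
    ι.symm (XN k) = xA k + yA k ∧ ι.symm (YN k) = yA k - xA k := by
  have hcN := algN_half h2
  have hcA := algA_half h2
  obtain ⟨α, hαx, hαy⟩ := exists_hom_AA (k := k)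
    (algebraMap k (NN k) 2⁻¹ * (XN k - YN k)) (algebraMap k (NN k) 2⁻¹ * (XN k + YN k))
    (Ideal.mul_mem_left _ _ (Ideal.sub_mem _ (XN_mem k) (YN_mem k)))
    (Ideal.mul_mem_left _ _ (Ideal.add_mem _ (XN_mem k) (YN_mem k)))
    (by linear_combination (4 * (algebraMap k (NN k) 2⁻¹) ^ 2) * XN_mul_YN k)
  obtain ⟨β, hβX, hβY⟩ := exists_hom_NN (k := k) (xA k + yA k) (yA k - xA k)
    (Ideal.add_mem _ (xA_mem k) (yA_mem k)) (Ideal.sub_mem _ (yA_mem k) (xA_mem k))
    (by linear_combination yA_sq k)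
  have e1 : (β.comp α) (xA k) = xA k := by
    change β (α (xA k)) = xA k
    rw [hαx, map_mul, map_sub, hβX, hβY, AlgHom.commutes]
    linear_combination (xA k) * hcA
  have e2 : (β.comp α) (yA k) = yA k := by
    change β (α (yA k)) = yA k
    rw [hαy, map_mul, map_add, hβX, hβY, AlgHom.commutes]
    linear_combination (yA k) * hcA
  have e3 : (α.comp β) (XN k) = XN k := by
    change α (β (XN k)) = XN k
    rw [hβX, map_add, hαx, hαy]
    linear_combination (XN k) * hcN
  have e4 : (α.comp β) (YN k) = YN k := by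
    change α (β (YN k)) = YN k
    rw [hβY, map_sub, hαx, hαy]
    linear_combination (YN k) * hcN
  have hβα : β.comp α = AlgHom.id k (AA k) :=
    hom_ext_AA _ _ (by rw [e1]; rfl) (by rw [e2]; rfl) (by rw [e1]; exact xA_mem k)
      (by rw [e2]; exact yA_mem k)
  have hαβ : α.comp β = AlgHom.id k (NN k) :=
    hom_ext_NN _ _ (by rw [e3]; rfl) (by rw [e4]; rfl) (by rw [e3]; exact XN_mem k)
      (by rw [e4]; exact YN_mem k)
  exact ⟨AlgEquiv.ofAlgHom α β hαβ hβα, hαx, hαy, hβX, hβY⟩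

theorem exists_mu : ∃ μ : AA k ≃ₐ[k] AA k, μ (xA k) = -xA k ∧ μ (yA k) = yA k := by
  obtain ⟨μ, hμx, hμy⟩ := exists_hom_AA (k := k) (-xA k) (yA k)
    (Ideal.neg_mem_iff _ |>.mpr (xA_mem k)) (yA_mem k) (by linear_combination yA_sq k)
  have e1 : (μ.comp μ) (xA k) = xA k := by
    change μ (μ (xA k)) = xA k
    rw [hμx, map_neg, hμx, neg_neg]
  have e2 : (μ.comp μ) (yA k) = yA k := by
    change μ (μ (yA k)) = yA k
    rw [hμy, hμy]
  have h : μ.comp μ = AlgHom.id k (AA k) :=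
    hom_ext_AA _ _ (by rw [e1]; rfl) (by rw [e2]; rfl) (by rw [e1]; exact xA_mem k)
      (by rw [e2]; exact yA_mem k)
  exact ⟨AlgEquiv.ofAlgHom μ μ h h, hμx, hμy⟩

theorem exists_tau : ∃ τ : AA k ≃ₐ[k] AA k, τ (xA k) = yA k ∧ τ (yA k) = xA k := by
  obtain ⟨τ, hτx, hτy⟩ := exists_hom_AA (k := k) (yA k) (xA k)
    (yA_mem k) (xA_mem k) (yA_sq k).symm
  have e1 : (τ.comp τ) (xA k) = xA k := by
    change τ (τ (xA k)) = xA k
    rw [hτx, hτy]
  have e2 : (τ.comp τ) (yA k) = yA k := by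
    change τ (τ (yA k)) = yA k
    rw [hτy, hτx]
  have h : τ.comp τ = AlgHom.id k (AA k) :=
    hom_ext_AA _ _ (by rw [e1]; rfl) (by rw [e2]; rfl) (by rw [e1]; exact xA_mem k)
      (by rw [e2]; exact yA_mem k)
  exact ⟨AlgEquiv.ofAlgHom τ τ h h, hτx, hτy⟩

/-- transport formula -/
theorem rho_formula (ι : AA k ≃ₐ[k] NN k)
    (hιx : ι (xA k) = algebraMap k (NN k) 2⁻¹ * (XN k - YN k))
    (hιy : ι (yA k) = algebraMap k (NN k) 2⁻¹ * (XN k + YN k))
    (hιX : ι.symm (XN k) = xA k + yA k) (hιY : ι.symm (YN k) = yA k - xA k)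
    (D : NN k ≃ₐ[k] NN k) (p q r s : k)
    (hDX : D (XN k) = algebraMap k (NN k) p * XN k + algebraMap k (NN k) q * YN k)
    (hDY : D (YN k) = algebraMap k (NN k) r * XN k + algebraMap k (NN k) s * YN k) :
    ι.symm (D (ι (xA k))) = algebraMap k (AA k) 2⁻¹ *
        (algebraMap k (AA k) (p - r) * (xA k + yA k) +
          algebraMap k (AA k) (q - s) * (yA k - xA k)) ∧
    ι.symm (D (ι (yA k))) = algebraMap k (AA k) 2⁻¹ *
        (algebraMap k (AA k) (p + r) * (xA k + yA k) +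
          algebraMap k (AA k) (q + s) * (yA k - xA k)) := by
  constructor
  · rw [hιx, map_mul D, map_sub D, AlgEquiv.commutes, hDX, hDY, map_mul ι.symm, map_sub ι.symm,
      map_add ι.symm, map_add ι.symm, map_mul ι.symm, map_mul ι.symm, map_mul ι.symm,
      map_mul ι.symm, AlgEquiv.commutes, AlgEquiv.commutes, AlgEquiv.commutes, AlgEquiv.commutes,
      AlgEquiv.commutes, hιX, hιY, map_sub (algebraMap k (AA k)), map_sub (algebraMap k (AA k))]
    ring
  · rw [hιy, map_mul D, map_add D, AlgEquiv.commutes, hDX, hDY, map_mul ι.symm, map_add ι.symm,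
      map_add ι.symm, map_add ι.symm, map_mul ι.symm, map_mul ι.symm, map_mul ι.symm,
      map_mul ι.symm, AlgEquiv.commutes, AlgEquiv.commutes, AlgEquiv.commutes, AlgEquiv.commutes,
      AlgEquiv.commutes, hιX, hιY, map_add (algebraMap k (AA k)), map_add (algebraMap k (AA k))]
    ring

/-- classification of involutions of the node `k[[x,y]]/(y^2-x^2)` -/
theorem classify_AA (h2 : (2 : k) ≠ 0) (σ : AA k ≃ₐ[k] AA k) (hσ : ∀ a, σ (σ a) = a)
    (hne : σ ≠ AlgEquiv.refl) :
    ∃ φ : AA k ≃ₐ[k] AA k,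
      (φ.symm (σ (φ (xA k))) = xA k ∧ φ.symm (σ (φ (yA k))) = -yA k) ∨
      (φ.symm (σ (φ (xA k))) = -xA k ∧ φ.symm (σ (φ (yA k))) = -yA k) ∨
      (φ.symm (σ (φ (xA k))) = yA k ∧ φ.symm (σ (φ (yA k))) = xA k) := by
  have hcA := algA_half h2
  obtain ⟨ι, hιx, hιy, hιX, hιY⟩ := exists_iso h2
  let σ' : NN k ≃ₐ[k] NN k := (ι.symm.trans σ).trans ι
  have hσ'app : ∀ a, σ' a = ι (σ (ι.symm a)) := fun a => rfl
  have hσ' : ∀ a, σ' (σ' a) = a := by
    intro a
    rw [hσ'app, hσ'app, ι.symm_apply_apply, hσ, ι.apply_symm_apply]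
  obtain ⟨Φ, hΦ⟩ := classify_NN h2 σ' hσ'
  let Ψ : AA k ≃ₐ[k] AA k := (ι.trans Φ).trans ι.symm
  have hΨapp : ∀ a, Ψ a = ι.symm (Φ (ι a)) := fun a => rfl
  have hΨsymm : ∀ b, Ψ.symm b = ι.symm (Φ.symm (ι b)) := fun b => rfl
  let D : NN k ≃ₐ[k] NN k := (Φ.trans σ').trans Φ.symm
  have hDapp : ∀ a, D a = Φ.symm (σ' (Φ a)) := fun a => rfl
  have hρ : ∀ a, Ψ.symm (σ (Ψ a)) = ι.symm (D (ι a)) := by
    intro a
    rw [hΨsymm, hΨapp, hDapp, hσ'app]
  -- the conjugated involution as a function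
  have hρneg : ∀ a, Ψ.symm (σ (Ψ (-a))) = -Ψ.symm (σ (Ψ a)) := by
    intro a; rw [map_neg, map_neg, map_neg]
  rcases hΦ with ⟨ξ, η, hξ, hη, hDX, hDY⟩ | ⟨hDX, hDY⟩
  · have hDX' : D (XN k) = algebraMap k (NN k) ξ * XN k + algebraMap k (NN k) 0 * YN k := by
      rw [hDapp, hDX, alg0, zero_mul, add_zero]
    have hDY' : D (YN k) = algebraMap k (NN k) 0 * XN k + algebraMap k (NN k) η * YN k := by
      rw [hDapp, hDY, alg0, zero_mul, zero_add]
    obtain ⟨hx, hy⟩ := rho_formula ι hιx hιy hιX hιY D ξ 0 0 η hDX' hDY'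
    rw [← hρ] at hx hy
    have hξ' : ξ = 1 ∨ ξ = -1 := by
      have : (ξ - 1) * (ξ + 1) = 0 := by linear_combination hξ
      rcases mul_eq_zero.mp this with h | h
      · left; linear_combination h
      · right; linear_combination h
    have hη' : η = 1 ∨ η = -1 := by
      have : (η - 1) * (η + 1) = 0 := by linear_combination hη
      rcases mul_eq_zero.mp this with h | h
      · left; linear_combination h
      · right; linear_combination h
    rcases hξ' with rfl | rfl <;> rcases hη' with rfl | rfl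
    · -- identity: contradiction
      exfalso
      apply hne
      have hx' : Ψ.symm (σ (Ψ (xA k))) = xA k := by
        rw [hx, sub_zero, map_one, zero_sub, map_neg, map_one]
        linear_combination (xA k) * hcA
      have hy' : Ψ.symm (σ (Ψ (yA k))) = yA k := by
        rw [hy, add_zero, map_one, zero_add, map_one]
        linear_combination (yA k) * hcA
      let R : AA k ≃ₐ[k] AA k := (Ψ.trans σ).trans Ψ.symm
      have hR : (R : AA k →ₐ[k] AA k) = AlgHom.id k (AA k) :=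
        hom_ext_AA _ _ hx' hy' (by rw [show (R : AA k →ₐ[k] AA k) (xA k) = xA k from hx']
                                   exact xA_mem k)
          (by rw [show (R : AA k →ₐ[k] AA k) (yA k) = yA k from hy']
              exact yA_mem k)
      ext b
      have h1 : Ψ.symm (σ (Ψ (Ψ.symm b))) = Ψ.symm b := DFunLike.congr_fun hR (Ψ.symm b)
      rw [Ψ.apply_symm_apply] at h1
      exact Ψ.symm.injective h1
    · -- (1, -1): swap x y
      refine ⟨Ψ, Or.inr (Or.inr ⟨?_, ?_⟩)⟩
      · rw [hx, sub_zero, map_one, zero_sub, neg_neg, map_one]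
        linear_combination (yA k) * hcA
      · rw [hy, add_zero, map_one, zero_add, map_neg, map_one]
        linear_combination (xA k) * hcA
    · -- (-1, 1): x ↦ -y, y ↦ -x; conjugate by μ
      have hx' : Ψ.symm (σ (Ψ (xA k))) = -yA k := by
        rw [hx, sub_zero, map_neg, map_one, zero_sub, map_neg, map_one]
        linear_combination (-yA k) * hcA
      have hy' : Ψ.symm (σ (Ψ (yA k))) = -xA k := by
        rw [hy, add_zero, map_neg, map_one, zero_add, map_one]
        linear_combination (-xA k) * hcA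
      obtain ⟨μ, hμx, hμy⟩ := exists_mu (k := k)
      have hμsx : μ.symm (xA k) = -xA k := by
        rw [AlgEquiv.symm_apply_eq, map_neg, hμx, neg_neg]
      have hμsy : μ.symm (yA k) = yA k := by
        rw [AlgEquiv.symm_apply_eq, hμy]
      refine ⟨μ.trans Ψ, Or.inr (Or.inr ⟨?_, ?_⟩)⟩
      · change μ.symm (Ψ.symm (σ (Ψ (μ (xA k))))) = yA k
        rw [hμx, hρneg, hx', neg_neg, hμsy]
      · change μ.symm (Ψ.symm (σ (Ψ (μ (yA k))))) = xA k
        rw [hμy, hy', map_neg, hμsx, neg_neg]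
    · -- (-1, -1)
      refine ⟨Ψ, Or.inr (Or.inl ⟨?_, ?_⟩)⟩
      · rw [hx, sub_zero, map_neg, map_one, zero_sub, neg_neg, map_one]
        linear_combination (-xA k) * hcA
      · rw [hy, add_zero, map_neg, map_one, zero_add, map_neg, map_one]
        linear_combination (-yA k) * hcA
  · -- swap of the branches
    have hDX' : D (XN k) = algebraMap k (NN k) 0 * XN k + algebraMap k (NN k) 1 * YN k := by
      rw [hDapp, hDX, alg0, zero_mul, zero_add, map_one, one_mul]
    have hDY' : D (YN k) = algebraMap k (NN k) 1 * XN k + algebraMap k (NN k) 0 * YN k := by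
      rw [hDapp, hDY, alg0, zero_mul, add_zero, map_one, one_mul]
    obtain ⟨hx, hy⟩ := rho_formula ι hιx hιy hιX hιY D 0 1 1 0 hDX' hDY'
    rw [← hρ] at hx hy
    have hx' : Ψ.symm (σ (Ψ (xA k))) = -xA k := by
      rw [hx, zero_sub, map_neg, map_one, sub_zero, map_one]
      linear_combination (-xA k) * hcA
    have hy' : Ψ.symm (σ (Ψ (yA k))) = yA k := by
      rw [hy, zero_add, map_one, add_zero, map_one]
      linear_combination (yA k) * hcA
    obtain ⟨τ, hτx, hτy⟩ := exists_tau (k := k)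
    have hτsx : τ.symm (xA k) = yA k := by
      rw [AlgEquiv.symm_apply_eq, hτy]
    have hτsy : τ.symm (yA k) = xA k := by
      rw [AlgEquiv.symm_apply_eq, hτx]
    refine ⟨τ.trans Ψ, Or.inl ⟨?_, ?_⟩⟩
    · change τ.symm (Ψ.symm (σ (Ψ (τ (xA k))))) = xA k
      rw [hτx, hy', hτsy]
    · change τ.symm (Ψ.symm (σ (Ψ (τ (yA k))))) = -yA k
      rw [hτy, hx', map_neg, hτsx]

end Groth.Agent.Helper3.NodeAut
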