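import Mathlib
import Groth.Agent.Lib.Helper3.NodeAut4

/-!
# The two branch projections of the node (helper3)
-/

set_option autoImplicit false
set_option linter.style.haveILetI false
universe u

namespace Groth.Agent.Helper3.NodeAut

open IsLocalRing MvPowerSeries SpinCurv Groth.Agent.Helper22.NodeAlpha Groth.Agent.Helper14

variable {k : Type u} [Field k]

/-- homomorphisms out of a power series ring in finitely many variables are determined by the
images of the variables -/
theorem hom_ext_PSσ {σ : Type} [Finite σ] {T : Type u} [CommRing T] [Algebra k T] [IsLocalRing T]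
    [IsHausdorff (maximalIdeal T) T] (φ ψ : MvPowerSeries σ k →ₐ[k] T)
    (h : ∀ i, φ (X i) = ψ (X i)) (hm : ∀ i, φ (X i) ∈ maximalIdeal T) : φ = ψ := by
  have hpoly : φ.comp (MvPolynomial.coeToMvPowerSeries.algHom k) =
      ψ.comp (MvPolynomial.coeToMvPowerSeries.algHom k) := by
    apply MvPolynomial.algHom_ext
    intro i
    simp [h i]
  have hpow : ∀ (χ : MvPowerSeries σ k →ₐ[k] T), (∀ i, χ (X i) ∈ maximalIdeal T) →
      ∀ n (f : MvPowerSeries σ k),
      f ∈ (Ideal.span (Set.range (X : σ → MvPowerSeries σ k))) ^ n → χ f ∈ maximalIdeal T ^ n := by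
    intro χ hχ n f hf
    have h1 := Ideal.mem_map_of_mem (χ : MvPowerSeries σ k →+* T) hf
    rw [Ideal.map_pow, Ideal.map_span, ← Set.range_comp] at h1
    refine Ideal.pow_right_mono ?_ n h1
    rw [Ideal.span_le]
    rintro _ ⟨i, rfl⟩
    exact hχ i
  ext f
  rw [← sub_eq_zero]
  apply IsHausdorff.haus' (I := maximalIdeal T)
  intro n
  rw [SModEq.sub_mem, sub_zero, smul_eq_mul, Ideal.mul_top]
  have h1 := hpow φ hm n _ (PowerSeriesAdic.sub_truncTotal_mem_pow n f)
  have h2 := hpow ψ (fun i => by rw [← h i]; exact hm i) n _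
    (PowerSeriesAdic.sub_truncTotal_mem_pow n f)
  rw [map_sub] at h1 h2
  have h3 : φ ((truncTotal n f : MvPolynomial σ k) : MvPowerSeries σ k) =
      ψ ((truncTotal n f : MvPolynomial σ k) : MvPowerSeries σ k) :=
    DFunLike.congr_fun hpoly (truncTotal n f)
  have e : φ f - ψ f = (φ f - φ ((truncTotal n f : MvPolynomial σ k) : MvPowerSeries σ k)) -
      (ψ f - ψ ((truncTotal n f : MvPolynomial σ k) : MvPowerSeries σ k)) := by rw [h3]; ring
  rw [e]
  exact Ideal.sub_mem _ h1 h2

instance instCompletePS1 : IsAdicComplete (maximalIdeal (PowerSeries k)) (PowerSeries k) :=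
  PowerSeriesComplete.isAdicComplete_maximalIdeal Unit k

theorem X_mem_max : (PowerSeries.X : PowerSeries k) ∈ maximalIdeal (PowerSeries k) := by
  rw [PowerSeries.maximalIdeal_eq_span_X]; exact Ideal.subset_span rfl

theorem hom_ext_PS1 {T : Type u} [CommRing T] [Algebra k T] [IsLocalRing T]
    [IsHausdorff (maximalIdeal T) T] (φ ψ : PowerSeries k →ₐ[k] T)
    (h : φ PowerSeries.X = ψ PowerSeries.X) (hm : φ PowerSeries.X ∈ maximalIdeal T) : φ = ψ :=
  hom_ext_PSσ (σ := Unit) φ ψ (fun _ => h) (fun _ => hm)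

/-- `oX` as an algebra hom -/
noncomputable def oXa : PowerSeries k →ₐ[k] NN k :=
  (Ideal.Quotient.mkₐ k _).comp (PowerSeries.toMvPowerSeries (σ := Fin 2) (R := k) 0)

/-- `oY` as an algebra hom -/
noncomputable def oYa : PowerSeries k →ₐ[k] NN k :=
  (Ideal.Quotient.mkₐ k _).comp (PowerSeries.toMvPowerSeries (σ := Fin 2) (R := k) 1)

theorem oXa_apply (f : PowerSeries k) : oXa f = oXN f := rfl
theorem oYa_apply (f : PowerSeries k) : oYa f = oYN f := rfl

theorem oXN_X : oXN (PowerSeries.X : PowerSeries k) = XN k := oX_X k 0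
theorem oYN_X : oYN (PowerSeries.X : PowerSeries k) = YN k := oY_X k 0

theorem exists_pX : ∃ p : NN k →ₐ[k] PowerSeries k, p (XN k) = PowerSeries.X ∧ p (YN k) = 0 ∧
    ∀ f, p (oXN f) = f := by
  obtain ⟨p, hpX, hpY⟩ := exists_hom_NN (k := k) (PowerSeries.X : PowerSeries k) 0 X_mem_max
    (zero_mem _) (mul_zero _)
  refine ⟨p, hpX, hpY, ?_⟩
  have h : p.comp oXa = AlgHom.id k _ := by
    apply hom_ext_PS1
    · change p (oXN PowerSeries.X) = PowerSeries.X
      rw [oXN_X, hpX]
    · change p (oXN PowerSeries.X) ∈ _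
      rw [oXN_X, hpX]; exact X_mem_max
  intro f
  exact DFunLike.congr_fun h f

theorem exists_pY : ∃ p : NN k →ₐ[k] PowerSeries k, p (XN k) = 0 ∧ p (YN k) = PowerSeries.X ∧
    ∀ f, p (oYN f) = f := by
  obtain ⟨p, hpX, hpY⟩ := exists_hom_NN (k := k) 0 (PowerSeries.X : PowerSeries k) (zero_mem _)
    X_mem_max (zero_mul _)
  refine ⟨p, hpX, hpY, ?_⟩
  have h : p.comp oYa = AlgHom.id k _ := by
    apply hom_ext_PS1
    · change p (oYN PowerSeries.X) = PowerSeries.X
      rw [oYN_X, hpY]
    · change p (oYN PowerSeries.X) ∈ _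
      rw [oYN_X, hpY]; exact X_mem_max
  intro f
  exact DFunLike.congr_fun h f

/-- projection to the branch `Y = 0` -/
noncomputable def pX : NN k →ₐ[k] PowerSeries k := (exists_pX (k := k)).choose
/-- projection to the branch `X = 0` -/
noncomputable def pY : NN k →ₐ[k] PowerSeries k := (exists_pY (k := k)).choose

theorem pX_X : pX (XN k) = PowerSeries.X := (exists_pX (k := k)).choose_spec.1
theorem pX_Y : pX (YN k) = 0 := (exists_pX (k := k)).choose_spec.2.1
theorem pX_oX (f : PowerSeries k) : pX (oXN f) = f := (exists_pX (k := k)).choose_spec.2.2 f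
theorem pY_X : pY (XN k) = 0 := (exists_pY (k := k)).choose_spec.1
theorem pY_Y : pY (YN k) = PowerSeries.X := (exists_pY (k := k)).choose_spec.2.1
theorem pY_oY (f : PowerSeries k) : pY (oYN f) = f := (exists_pY (k := k)).choose_spec.2.2 f

theorem pX_nf (c : k) (f g : PowerSeries k) :
    pX (algebraMap k (NN k) c + XN k * oXN f + YN k * oYN g) =
      PowerSeries.C c + PowerSeries.X * f := by
  rw [map_add pX, map_add pX, map_mul pX, map_mul pX, pX_X, pX_Y, pX_oX, zero_mul, add_zero,
    AlgHom.commutes]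
  rfl

theorem pY_nf (c : k) (f g : PowerSeries k) :
    pY (algebraMap k (NN k) c + XN k * oXN f + YN k * oYN g) =
      PowerSeries.C c + PowerSeries.X * g := by
  rw [map_add pY, map_add pY, map_mul pY, map_mul pY, pY_X, pY_Y, pY_oY, zero_mul, add_zero,
    AlgHom.commutes]
  rfl

theorem C_add_X_mul_eq_zero {c : k} {f : PowerSeries k}
    (h : PowerSeries.C c + PowerSeries.X * f = 0) : c = 0 ∧ f = 0 := by
  have hc : c = 0 := by
    have := congrArg PowerSeries.constantCoeff h
    rw [map_add, PowerSeries.constantCoeff_C, map_mul, PowerSeries.constantCoeff_X, zero_mul,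
      add_zero, map_zero] at this
    exact this
  refine ⟨hc, ?_⟩
  rw [hc, map_zero, zero_add] at h
  exact (mul_eq_zero.mp h).resolve_left PowerSeries.X_ne_zero

theorem mem_span_Y_of_pX_eq_zero {a : NN k} (h : pX a = 0) : a ∈ Ideal.span {YN k} := by
  obtain ⟨c, f, g, rfl⟩ := decomp a
  rw [pX_nf] at h
  obtain ⟨hc, hf⟩ := C_add_X_mul_eq_zero h
  rw [hc, hf, alg0, oX0, mul_zero, zero_add, zero_add]
  exact Ideal.mem_span_singleton'.mpr ⟨oYN g, mul_comm _ _⟩

theorem pX_eq_zero_of_mem {a : NN k} (h : a ∈ Ideal.span {YN k}) : pX a = 0 := by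
  obtain ⟨w, rfl⟩ := Ideal.mem_span_singleton'.mp h
  rw [map_mul pX, pX_Y, mul_zero]

theorem eq_zero_of_pX_pY {a : NN k} (h1 : pX a = 0) (h2 : pY a = 0) : a = 0 := by
  obtain ⟨c, f, g, rfl⟩ := decomp a
  rw [pX_nf] at h1
  rw [pY_nf] at h2
  obtain ⟨hc, hf⟩ := C_add_X_mul_eq_zero h1
  obtain ⟨-, hg⟩ := C_add_X_mul_eq_zero h2
  rw [hc, hf, hg, alg0, oX0, oY0, mul_zero, mul_zero, add_zero, add_zero]

theorem constantCoeff_pX_eq (a : NN k) :
    PowerSeries.constantCoeff (pX a) = PowerSeries.constantCoeff (pY a) := by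
  obtain ⟨c, f, g, rfl⟩ := decomp a
  rw [pX_nf, pY_nf, map_add, map_add, map_mul, map_mul, PowerSeries.constantCoeff_X, zero_mul,
    zero_mul]

theorem pX_oY (g : PowerSeries k) :
    pX (oYN g) = PowerSeries.C (PowerSeries.constantCoeff g) := by
  conv_lhs => rw [PowerSeries.eq_X_mul_shift_add_const g]
  rw [map_add oYN, map_mul oYN, oYN_X, oY_C, map_add pX, map_mul pX, pX_Y, zero_mul, zero_add,
    AlgHom.commutes]
  rfl

theorem pY_oX (f : PowerSeries k) :
    pY (oXN f) = PowerSeries.C (PowerSeries.constantCoeff f) := by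
  conv_lhs => rw [PowerSeries.eq_X_mul_shift_add_const f]
  rw [map_add oXN, map_mul oXN, oXN_X, oX_C, map_add pY, map_mul pY, pY_X, zero_mul, zero_add,
    AlgHom.commutes]
  rfl

theorem exists_of_pX_pY (f g : PowerSeries k)
    (h : PowerSeries.constantCoeff f = PowerSeries.constantCoeff g) :
    ∃ a : NN k, pX a = f ∧ pY a = g := by
  refine ⟨oXN f + oYN g - algebraMap k (NN k) (PowerSeries.constantCoeff g), ?_, ?_⟩
  · rw [map_sub pX, map_add pX, pX_oX, pX_oY, AlgHom.commutes]
    change f + PowerSeries.C _ - PowerSeries.C _ = f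
    ring
  · rw [map_sub pY, map_add pY, pY_oY, pY_oX, AlgHom.commutes, h]
    change PowerSeries.C _ + g - PowerSeries.C _ = g
    ring

end Groth.Agent.Helper3.NodeAut
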