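import Mathlib
import Groth.Agent.Lib.Helper3.NodeAut5

/-!
# The swap involution of the node and its invariants (helper3)
-/

set_option autoImplicit false
set_option linter.style.haveILetI false
universe u

namespace Groth.Agent.Helper3.NodeAut

open IsLocalRing MvPowerSeries SpinCurv

/-- a consequence of the equational criterion of flatness -/
theorem exists_of_flat_of_mul_eq_zero {R S : Type*} [CommRing R] [CommRing S] [Algebra R S]
    [Module.Flat R S] (r : R) (x : S) (h : algebraMap R S r * x = 0) :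
    ∃ (n : ℕ) (a : Fin n → R) (y : Fin n → S), (∀ j, r * a j = 0) ∧
      x = ∑ j, algebraMap R S (a j) * y j := by
  have hrel : ∑ i : Fin 1, (fun _ => r) i • (fun _ => x) i = 0 := by
    rw [Fin.sum_univ_one, Algebra.smul_def]; exact h
  obtain ⟨n, a, y, hy, ha⟩ := Module.Flat.isTrivialRelation_of_sum_smul_eq_zero
    (R := R) (M := S) (f := fun _ : Fin 1 => r) (x := fun _ : Fin 1 => x) hrel
  refine ⟨n, a 0, y, fun j => ?_, ?_⟩
  · have := ha j
    rw [Fin.sum_univ_one] at this
    exact this
  · have : x = ∑ j, a 0 j • y j := hy 0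
    rw [this]
    apply Finset.sum_congr rfl
    intro j _
    rw [Algebra.smul_def]

variable {k : Type u} [Field k]

/-- `t ↦ -t` as an algebra hom -/
noncomputable def negA : PowerSeries k →ₐ[k] PowerSeries k :=
  { PowerSeries.evalNegHom with
    commutes' := fun c => by
      change PowerSeries.rescale (-1 : k) (PowerSeries.C c) = PowerSeries.C c
      ext n
      rw [PowerSeries.coeff_rescale, PowerSeries.coeff_C]
      split_ifs with h
      · rw [h, pow_zero, one_mul]
      · rw [mul_zero] }

theorem negA_apply (f : PowerSeries k) : negA f = PowerSeries.rescale (-1 : k) f := rfl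

theorem negA_X : negA (PowerSeries.X : PowerSeries k) = -PowerSeries.X :=
  PowerSeries.evalNegHom_X

theorem coeff_negA (f : PowerSeries k) (n : ℕ) :
    PowerSeries.coeff n (negA f) = (-1) ^ n * PowerSeries.coeff n f :=
  PowerSeries.coeff_rescale f _ n

/-- `t ↦ t^2` -/
noncomputable abbrev sqA : PowerSeries k →ₐ[k] PowerSeries k := PowerSeries.expand 2 two_ne_zero

theorem coeff_sqA (f : PowerSeries k) (n : ℕ) :
    PowerSeries.coeff n (sqA f) = if 2 ∣ n then PowerSeries.coeff (n / 2) f else 0 := by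
  rw [PowerSeries.expand_apply, PowerSeries.coeff_subst_X_pow two_ne_zero]
  rfl

theorem sqA_injective : Function.Injective (sqA (k := k)) := by
  rw [injective_iff_map_eq_zero]
  intro f hf
  ext n
  have := congrArg (PowerSeries.coeff (2 * n)) hf
  rw [coeff_sqA, if_pos (dvd_mul_right 2 n), Nat.mul_div_cancel_left n two_pos] at this
  exact this

theorem exists_sqA_of_negA_eq (h2 : (2 : k) ≠ 0) (g : PowerSeries k) (hg : negA g = g) :
    ∃ h : PowerSeries k, sqA h = g ∧
      PowerSeries.constantCoeff h = PowerSeries.constantCoeff g := by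
  refine ⟨PowerSeries.mk (fun m => PowerSeries.coeff (2 * m) g), ?_, ?_⟩
  · ext n
    rw [coeff_sqA]
    split_ifs with hn
    · rw [PowerSeries.coeff_mk, Nat.mul_div_cancel' hn]
    · have h1 := congrArg (PowerSeries.coeff n) hg
      rw [coeff_negA] at h1
      have hodd : Odd n := Nat.not_even_iff_odd.mp (fun he => hn (even_iff_two_dvd.mp he))
      rw [hodd.neg_one_pow] at h1
      have h3 : (2 : k) * PowerSeries.coeff n g = 0 := by linear_combination -h1
      exact ((mul_eq_zero.mp h3).resolve_left h2).symm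
  · rw [← PowerSeries.coeff_zero_eq_constantCoeff_apply,
      ← PowerSeries.coeff_zero_eq_constantCoeff_apply, PowerSeries.coeff_mk, mul_zero]

/-- the statement about the swap involution of the node -/
theorem swap_main (h2 : (2 : k) ≠ 0)
    (σ : AA k ≃ₐ[k] AA k) (hx : σ (xA k) = yA k) (hy : σ (yA k) = xA k)
    (φ : AA k →ₐ[k] AA k) (hφu : φ (xA k + yA k) = xA k + yA k)
    (hφv : φ (yA k - xA k) = (yA k - xA k) ^ 2) :
    (∀ a : AA k, σ a = a ↔ a ∈ φ.range) ∧ Function.Injective φ ∧
    Ideal.span (Set.range fun a : AA k => σ a - a) = Ideal.span {yA k - xA k} ∧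
    (yA k - xA k) ∉ nonZeroDivisors (AA k) ∧
    Ideal.span {yA k - xA k} ∈ minimalPrimes (AA k) ∧
    ¬ φ.toRingHom.Flat := by
  have hcA := algA_half h2
  obtain ⟨ι, hιx, hιy, hιX, hιY⟩ := exists_iso h2
  set u : AA k := xA k + yA k with hu
  set v : AA k := yA k - xA k with hv
  set cA : AA k := algebraMap k (AA k) 2⁻¹ with hcAdef
  have hιu : ι u = XN k := by rw [← hιX, ι.apply_symm_apply]
  have hιv : ι v = YN k := by rw [← hιY, ι.apply_symm_apply]
  have hxuv : xA k = cA * (u - v) := by rw [hu, hv]; linear_combination (-(xA k)) * hcA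
  have hyuv : yA k = cA * (u + v) := by rw [hu, hv]; linear_combination (-(yA k)) * hcA
  have huv : u * v = 0 := by rw [hu, hv]; linear_combination yA_sq k
  -- the two projections
  let qX : AA k →ₐ[k] PowerSeries k := pX.comp (ι : AA k →ₐ[k] NN k)
  let qY : AA k →ₐ[k] PowerSeries k := pY.comp (ι : AA k →ₐ[k] NN k)
  have hqXapp : ∀ a, qX a = pX (ι a) := fun a => rfl
  have hqYapp : ∀ a, qY a = pY (ι a) := fun a => rfl
  have hqXu : qX u = PowerSeries.X := by rw [hqXapp, hιu, pX_X]
  have hqXv : qX v = 0 := by rw [hqXapp, hιv, pX_Y]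
  have hqYu : qY u = 0 := by rw [hqYapp, hιu, pY_X]
  have hqYv : qY v = PowerSeries.X := by rw [hqYapp, hιv, pY_Y]
  have hqinj : ∀ a, qX a = 0 → qY a = 0 → a = 0 := by
    intro a h1 h2'
    have := eq_zero_of_pX_pY (a := ι a) h1 h2'
    exact ι.injective (this.trans (map_zero ι).symm)
  have hqinj' : ∀ a b, qX a = qX b → qY a = qY b → a = b := by
    intro a b h1 h2'
    rw [← sub_eq_zero]
    apply hqinj
    · rw [map_sub, h1, sub_self]
    · rw [map_sub, h2', sub_self]
  have hkerX : ∀ a, qX a = 0 ↔ a ∈ Ideal.span {v} := by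
    intro a
    constructor
    · intro h
      have := mem_span_Y_of_pX_eq_zero (a := ι a) h
      obtain ⟨w, hw⟩ := Ideal.mem_span_singleton'.mp this
      apply Ideal.mem_span_singleton'.mpr
      refine ⟨ι.symm w, ?_⟩
      apply ι.injective
      rw [map_mul, ι.apply_symm_apply, hιv, hw]
    · intro h
      obtain ⟨w, rfl⟩ := Ideal.mem_span_singleton'.mp h
      rw [map_mul, hqXv, mul_zero]
  have hv0 : v ≠ 0 := by
    intro h
    have := hqYv
    rw [h, map_zero] at this
    exact PowerSeries.X_ne_zero this.symm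
  have hu0 : u ≠ 0 := by
    intro h
    have := hqXu
    rw [h, map_zero] at this
    exact PowerSeries.X_ne_zero this.symm
  have hvm : v ∈ maximalIdeal (AA k) := Ideal.sub_mem _ (yA_mem k) (xA_mem k)
  -- values on x, y
  have hqXx : qX (xA k) = algebraMap k _ 2⁻¹ * PowerSeries.X := by
    rw [hxuv, map_mul, map_sub, hqXu, hqXv, sub_zero, hcAdef, AlgHom.commutes]
  have hqXy : qX (yA k) = algebraMap k _ 2⁻¹ * PowerSeries.X := by
    rw [hyuv, map_mul, map_add, hqXu, hqXv, add_zero, hcAdef, AlgHom.commutes]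
  have hqYx : qY (xA k) = -(algebraMap k _ 2⁻¹ * PowerSeries.X) := by
    rw [hxuv, map_mul, map_sub, hqYu, hqYv, zero_sub, hcAdef, AlgHom.commutes, mul_neg]
  have hqYy : qY (yA k) = algebraMap k _ 2⁻¹ * PowerSeries.X := by
    rw [hyuv, map_mul, map_add, hqYu, hqYv, zero_add, hcAdef, AlgHom.commutes]
  have hXm : algebraMap k (PowerSeries k) 2⁻¹ * PowerSeries.X ∈ maximalIdeal (PowerSeries k) :=
    Ideal.mul_mem_left _ _ X_mem_max
  -- σ u = u, σ v = -v, φ x, φ y
  have hσu : σ u = u := by rw [hu, map_add, hx, hy, add_comm]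
  have hσv : σ v = -v := by rw [hv, map_sub, hx, hy, neg_sub]
  have hφx : φ (xA k) = cA * (u - v ^ 2) := by
    conv_lhs => rw [hxuv]
    rw [map_mul, map_sub, hφu, hφv, hcAdef, AlgHom.commutes]
  have hφy : φ (yA k) = cA * (u + v ^ 2) := by
    conv_lhs => rw [hyuv]
    rw [map_mul, map_add, hφu, hφv, hcAdef, AlgHom.commutes]
  -- compatibilities
  have hXσ : qX.comp (σ : AA k →ₐ[k] AA k) = qX := by
    apply hom_ext_AA
    · change qX (σ (xA k)) = qX (xA k)
      rw [hx, hqXx, hqXy]
    · change qX (σ (yA k)) = qX (yA k)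
      rw [hy, hqXx, hqXy]
    · change qX (σ (xA k)) ∈ _
      rw [hx, hqXy]; exact hXm
    · change qX (σ (yA k)) ∈ _
      rw [hy, hqXx]; exact hXm
  have hYσ : qY.comp (σ : AA k →ₐ[k] AA k) = negA.comp qY := by
    apply hom_ext_AA
    · change qY (σ (xA k)) = negA (qY (xA k))
      rw [hx, hqYx, hqYy, map_neg, map_mul, negA_X, AlgHom.commutes]; ring
    · change qY (σ (yA k)) = negA (qY (yA k))
      rw [hy, hqYx, hqYy, map_mul, negA_X, AlgHom.commutes]; ring
    · change qY (σ (xA k)) ∈ _
      rw [hx, hqYy]; exact hXm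
    · change qY (σ (yA k)) ∈ _
      rw [hy, hqYx]; exact Ideal.neg_mem_iff _ |>.mpr hXm
  have hXφ : qX.comp φ = qX := by
    apply hom_ext_AA
    · change qX (φ (xA k)) = qX (xA k)
      rw [hφx, map_mul, map_sub, map_pow, hqXu, hqXv, hqXx, hcAdef, AlgHom.commutes]; ring
    · change qX (φ (yA k)) = qX (yA k)
      rw [hφy, map_mul, map_add, map_pow, hqXu, hqXv, hqXy, hcAdef, AlgHom.commutes]; ring
    · change qX (φ (xA k)) ∈ _
      rw [hφx, map_mul, map_sub, map_pow, hqXu, hqXv, hcAdef, AlgHom.commutes]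
      exact Ideal.mul_mem_left _ _ (Ideal.sub_mem _ X_mem_max (Ideal.pow_mem_of_mem _
        (zero_mem _) 2 two_pos))
    · change qX (φ (yA k)) ∈ _
      rw [hφy, map_mul, map_add, map_pow, hqXu, hqXv, hcAdef, AlgHom.commutes]
      exact Ideal.mul_mem_left _ _ (Ideal.add_mem _ X_mem_max (Ideal.pow_mem_of_mem _
        (zero_mem _) 2 two_pos))
  have hYφ : qY.comp φ = sqA.comp qY := by
    apply hom_ext_AA
    · change qY (φ (xA k)) = sqA (qY (xA k))
      rw [hφx, map_mul, map_sub, map_pow, hqYu, hqYv, hqYx, hcAdef, AlgHom.commutes, map_neg,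
        map_mul, PowerSeries.expand_X, AlgHom.commutes]; ring
    · change qY (φ (yA k)) = sqA (qY (yA k))
      rw [hφy, map_mul, map_add, map_pow, hqYu, hqYv, hqYy, hcAdef, AlgHom.commutes,
        map_mul, PowerSeries.expand_X, AlgHom.commutes]; ring
    · change qY (φ (xA k)) ∈ _
      rw [hφx, map_mul, map_sub, map_pow, hqYu, hqYv, hcAdef, AlgHom.commutes]
      exact Ideal.mul_mem_left _ _ (Ideal.sub_mem _ (zero_mem _) (Ideal.pow_mem_of_mem _
        X_mem_max 2 two_pos))
    · change qY (φ (yA k)) ∈ _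
      rw [hφy, map_mul, map_add, map_pow, hqYu, hqYv, hcAdef, AlgHom.commutes]
      exact Ideal.mul_mem_left _ _ (Ideal.add_mem _ (zero_mem _) (Ideal.pow_mem_of_mem _
        X_mem_max 2 two_pos))
  have hXσ' : ∀ a, qX (σ a) = qX a := fun a => DFunLike.congr_fun hXσ a
  have hYσ' : ∀ a, qY (σ a) = negA (qY a) := fun a => DFunLike.congr_fun hYσ a
  have hXφ' : ∀ a, qX (φ a) = qX a := fun a => DFunLike.congr_fun hXφ a
  have hYφ' : ∀ a, qY (φ a) = sqA (qY a) := fun a => DFunLike.congr_fun hYφ a
  have hσφ : ∀ b, σ (φ b) = φ b := by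
    intro b
    apply hqinj'
    · rw [hXσ']
    · rw [hYσ', hYφ']
      -- negA (sqA g) = sqA g
      ext n
      rw [coeff_negA, coeff_sqA]
      split_ifs with hn
      · rw [(even_iff_two_dvd.mpr hn).neg_one_pow, one_mul]
      · rw [mul_zero]
  have hφinj : Function.Injective φ := by
    rw [injective_iff_map_eq_zero]
    intro a ha
    apply hqinj
    · rw [← hXφ', ha, map_zero]
    · apply sqA_injective
      rw [← hYφ', ha, map_zero, map_zero]
  refine ⟨?_, hφinj, ?_, ?_, ?_, ?_⟩
  · -- invariants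
    intro a
    constructor
    · intro ha
      have hneg : negA (qY a) = qY a := by rw [← hYσ', ha]
      obtain ⟨h, hh, hh0⟩ := exists_sqA_of_negA_eq h2 _ hneg
      have hconst : PowerSeries.constantCoeff (qX a) = PowerSeries.constantCoeff h := by
        rw [hh0]; exact constantCoeff_pX_eq (ι a)
      obtain ⟨b', hb'X, hb'Y⟩ := exists_of_pX_pY (qX a) h hconst
      refine ⟨ι.symm b', ?_⟩
      apply hqinj'
      · change qX (φ (ι.symm b')) = qX a
        rw [hXφ', hqXapp, ι.apply_symm_apply, hb'X]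
      · change qY (φ (ι.symm b')) = qY a
        rw [hYφ', hqYapp, ι.apply_symm_apply, hb'Y, hh]
    · rintro ⟨b, rfl⟩
      exact hσφ b
  · -- the ideal generated by σ a - a
    apply le_antisymm
    · rw [Ideal.span_le]
      rintro _ ⟨a, rfl⟩
      rw [SetLike.mem_coe, ← hkerX, map_sub, hXσ', sub_self]
    · rw [Ideal.span_le, Set.singleton_subset_iff]
      apply Ideal.subset_span
      exact ⟨xA k, by change σ (xA k) - xA k = v; rw [hx]⟩
  · -- zero divisor
    intro hnz
    exact hu0 ((mem_nonZeroDivisors_iff.mp hnz).2 u huv)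
  · -- minimal prime
    have hker : Ideal.span {v} = RingHom.ker (qX : AA k →+* PowerSeries k) := by
      ext a
      rw [RingHom.mem_ker]
      exact (hkerX a).symm
    have hprime : (Ideal.span {v}).IsPrime := by
      rw [hker]; exact RingHom.ker_isPrime _
    refine ⟨⟨hprime, bot_le⟩, ?_⟩
    rintro q ⟨hq, -⟩ hqle
    rw [Ideal.span_le, Set.singleton_subset_iff]
    have h0 : u * v ∈ q := by rw [huv]; exact zero_mem _
    rcases hq.mem_or_mem h0 with h | h
    · exfalso
      have := (hkerX u).mpr (hqle h)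
      rw [hqXu] at this
      exact PowerSeries.X_ne_zero this
    · exact h
  · -- not flat
    intro hflat
    letI alg : Algebra (AA k) (AA k) := φ.toRingHom.toAlgebra
    haveI : @Module.Flat (AA k) (AA k) _ _ alg.toModule := hflat
    have h0 : @algebraMap (AA k) (AA k) _ _ alg u * v = 0 := by
      change φ u * v = 0
      rw [hφu, huv]
    obtain ⟨n, a, y, ha, hsum⟩ :=
      @exists_of_flat_of_mul_eq_zero (AA k) (AA k) _ _ alg _ u v h0
    have hmem : ∀ j, ∃ b, a j = b * v := by
      intro j
      have h1 : qX (a j) = 0 := by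
        have := congrArg qX (ha j)
        rw [map_mul, hqXu, map_zero] at this
        exact (mul_eq_zero.mp this).resolve_left PowerSeries.X_ne_zero
      obtain ⟨b, hb⟩ := Ideal.mem_span_singleton'.mp ((hkerX _).mp h1)
      exact ⟨b, hb.symm⟩
    choose b hb using hmem
    have hsum' : v = v ^ 2 * ∑ j, φ (b j) * y j := by
      conv_lhs => rw [hsum]
      rw [Finset.mul_sum]
      apply Finset.sum_congr rfl
      intro j _
      change φ (a j) * y j = _
      rw [hb j, map_mul, hφv]; ring
    set w := ∑ j, φ (b j) * y j with hw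
    have hunit : IsUnit (1 - v * w) :=
      IsLocalRing.isUnit_one_sub_self_of_mem_nonunits _
        ((IsLocalRing.mem_maximalIdeal _).mp (Ideal.mul_mem_right _ _ hvm))
    have hz : v * (1 - v * w) = 0 := by linear_combination hsum'
    exact hv0 ((hunit.mul_left_eq_zero).mp hz)

end Groth.Agent.Helper3.NodeAut
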