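import Mathlib
import Groth.Agent.Lib.Helper3.NodeAut6

/-!
# The `A_r`-singularity `k[[x,y]]/(y^2 - x^(r+1))`: generalities and normal form (helper3)
-/

set_option autoImplicit false
set_option linter.style.haveILetI false
universe u

namespace Groth.Agent.Helper3.ArInv

open IsLocalRing MvPowerSeries Groth.Agent.Helper3.NodeAut Groth.Agent.Helper14

variable {k : Type u} [Field k] (r : ℕ)

instance instLocalAr : IsLocalRing (ArSing.ring k r) :=
  isLocalRing_quot _ (span_ne_top _ (by simp [ArSing.eqn]))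

instance instCompleteAr : IsAdicComplete (maximalIdeal (ArSing.ring k r)) (ArSing.ring k r) :=
  complete_quot _

/-- class of `x` -/
noncomputable abbrev xr : ArSing.ring k r := ArSing.x k r
/-- class of `y` -/
noncomputable abbrev yr : ArSing.ring k r := ArSing.y k r

theorem yr_sq : yr (k := k) r ^ 2 = xr r ^ (r + 1) := by
  have h : Ideal.Quotient.mk (Ideal.span {ArSing.eqn k r}) (ArSing.eqn k r) = 0 :=
    Ideal.Quotient.eq_zero_iff_mem.mpr (Ideal.subset_span (Set.mem_singleton _))
  rw [ArSing.eqn, map_sub, map_pow, map_pow, sub_eq_zero] at h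
  exact h

theorem xr_mem : xr (k := k) r ∈ maximalIdeal (ArSing.ring k r) := mk_X_mem _ 0
theorem yr_mem : yr (k := k) r ∈ maximalIdeal (ArSing.ring k r) := mk_X_mem _ 1

variable {r}

theorem exists_hom_Ar {T : Type u} [CommRing T] [Algebra k T] [IsLocalRing T]
    [IsAdicComplete (maximalIdeal T) T] (a b : T) (ha : a ∈ maximalIdeal T)
    (hb : b ∈ maximalIdeal T) (hab : b ^ 2 = a ^ (r + 1)) :
    ∃ φ : ArSing.ring k r →ₐ[k] T, φ (xr r) = a ∧ φ (yr r) = b := by
  have hmem : ∀ i, (![a, b] : Fin 2 → T) i ∈ maximalIdeal T := by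
    intro i; fin_cases i; exacts [ha, hb]
  have hrel : ∀ F : PS k →ₐ[k] T, (∀ i, F (X i) = (![a, b] : Fin 2 → T) i) →
      F (ArSing.eqn k r) = 0 := by
    intro F hF
    have h0 := hF 0
    have h1 := hF 1
    simp only [Matrix.cons_val_zero, Matrix.cons_val_one] at h0 h1
    rw [ArSing.eqn, map_sub, map_pow, map_pow, h0, h1, hab, sub_self]
  obtain ⟨φ, hφ⟩ := exists_hom_quot (ArSing.eqn k r) ![a, b] hmem hrel
  exact ⟨φ, hφ 0, hφ 1⟩

theorem hom_ext_Ar {T : Type u} [CommRing T] [Algebra k T] [IsLocalRing T]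
    [IsHausdorff (maximalIdeal T) T] (φ ψ : ArSing.ring k r →ₐ[k] T) (hX : φ (xr r) = ψ (xr r))
    (hY : φ (yr r) = ψ (yr r)) (hXm : φ (xr r) ∈ maximalIdeal T)
    (hYm : φ (yr r) ∈ maximalIdeal T) : φ = ψ :=
  hom_ext_quot _ φ ψ (by intro i; fin_cases i; exacts [hX, hY])
    (by intro i; fin_cases i; exacts [hXm, hYm])

theorem maximalIdeal_Ar : maximalIdeal (ArSing.ring k r) = Ideal.span {xr r, yr r} := by
  rw [maximalIdeal_quot_eq_span]
  congr 1
  ext z
  simp only [Set.mem_range, Set.mem_insert_iff, Set.mem_singleton_iff]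
  constructor
  · rintro ⟨i, rfl⟩
    fin_cases i
    · left; rfl
    · right; rfl
  · rintro (rfl | rfl)
    · exact ⟨0, rfl⟩
    · exact ⟨1, rfl⟩

theorem range_eq_pair (φ : ArSing.ring k r →ₐ[k] ArSing.ring k r) :
    Set.range (fun i : Fin 2 => φ (Ideal.Quotient.mk (Ideal.span {ArSing.eqn k r}) (X i))) =
      {φ (xr r), φ (yr r)} := by
  ext z
  simp only [Set.mem_range, Set.mem_insert_iff, Set.mem_singleton_iff]
  constructor
  · rintro ⟨i, rfl⟩
    fin_cases i
    · left; rfl
    · right; rfl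
  · rintro (rfl | rfl)
    · exact ⟨0, rfl⟩
    · exact ⟨1, rfl⟩

/-- series in `x` -/
noncomputable def oXr : PowerSeries k →ₐ[k] ArSing.ring k r :=
  (Ideal.Quotient.mkₐ k _).comp (PowerSeries.toMvPowerSeries (σ := Fin 2) (R := k) 0)

theorem oXr_X : oXr (r := r) (PowerSeries.X : PowerSeries k) = xr r := by
  change Ideal.Quotient.mk _ (PowerSeries.toMvPowerSeries (σ := Fin 2) 0 PowerSeries.X) = _
  rw [PowerSeries.toMvPowerSeries_X]

theorem oXr_C (c : k) : oXr (r := r) (PowerSeries.C c) = algebraMap k (ArSing.ring k r) c := by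
  have : (PowerSeries.C c : PowerSeries k) = algebraMap k (PowerSeries k) c := rfl
  rw [this, AlgHom.commutes]

/-- one step of the expansion -/
theorem exists_step (a : ArSing.ring k r) : ∃ (c d : k) (a' : ArSing.ring k r),
    a = algebraMap k _ c + algebraMap k _ d * yr r + xr r * a' := by
  obtain ⟨c, hc⟩ := exists_sub_mem_quot (k := k) _ a
  rw [maximalIdeal_Ar, Ideal.mem_span_pair] at hc
  obtain ⟨p, q, hpq⟩ := hc
  obtain ⟨d, hd⟩ := exists_sub_mem_quot (k := k) _ q
  rw [maximalIdeal_Ar, Ideal.mem_span_pair] at hd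
  obtain ⟨p', q', hpq'⟩ := hd
  refine ⟨c, d, p + p' * yr r + q' * xr r ^ r, ?_⟩
  have hy := yr_sq (k := k) r
  have hq : q = algebraMap k _ d + (p' * xr r + q' * yr r) := by rw [hpq']; ring
  have ha : a = algebraMap k _ c + (p * xr r + q * yr r) := by rw [hpq]; ring
  rw [ha, hq]
  linear_combination q' * hy

theorem mk_shift (f : ℕ → k) : PowerSeries.mk f =
    PowerSeries.C (f 0) + PowerSeries.X * PowerSeries.mk (fun n => f (n + 1)) := by
  ext n
  cases n with
  | zero => simp
  | succ n => simp [PowerSeries.coeff_succ_X_mul, PowerSeries.coeff_C]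

/-- normal form: every element is `α(x) + β(x) y` -/
theorem exists_nf (a : ArSing.ring k r) : ∃ α β : PowerSeries k,
    a = oXr α + oXr β * yr r := by
  choose c d nxt hstep using exists_step (k := k) (r := r)
  have key : ∀ N : ℕ, ∀ a : ArSing.ring k r,
      a - oXr (PowerSeries.mk fun n => c (nxt^[n] a)) -
        oXr (PowerSeries.mk fun n => d (nxt^[n] a)) * yr r ∈ Ideal.span {xr r ^ N} := by
    intro N
    induction N with
    | zero =>
      intro a
      rw [pow_zero, Ideal.span_singleton_one]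
      trivial
    | succ N ih =>
      intro a
      have h1 := ih (nxt a)
      obtain ⟨w, hw⟩ := Ideal.mem_span_singleton'.mp h1
      rw [mk_shift (fun n => c (nxt^[n] a)), mk_shift (fun n => d (nxt^[n] a))]
      simp only [Function.iterate_succ_apply, Function.iterate_zero, id_eq]
      rw [map_add, map_add, map_mul, map_mul, oXr_X, oXr_C, oXr_C]
      refine Ideal.mem_span_singleton'.mpr ⟨w, ?_⟩
      have h2 := hstep a
      rw [pow_succ]
      linear_combination (xr r) * hw - h2
  refine ⟨PowerSeries.mk fun n => c (nxt^[n] a), PowerSeries.mk fun n => d (nxt^[n] a), ?_⟩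
  rw [← sub_eq_zero, ← sub_sub]
  apply IsHausdorff.haus' (I := maximalIdeal (ArSing.ring k r))
  intro n
  rw [SModEq.zero, smul_eq_mul, Ideal.mul_top]
  have h1 := key n a
  have hle : Ideal.span {xr (k := k) r ^ n} ≤ maximalIdeal (ArSing.ring k r) ^ n := by
    rw [Ideal.span_le, Set.singleton_subset_iff]
    exact Ideal.pow_mem_pow (xr_mem r) n
  exact hle h1

end Groth.Agent.Helper3.ArInv
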