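import Mathlib
import Groth.Agent.Lib.Helper3.ArInv1
import Groth.Agent.Lib.Helper25.PSInvol

/-!
# The `A_r`-singularity for even `r`: normalization and extension of automorphisms (helper3)
-/

set_option autoImplicit false
set_option linter.style.haveILetI false
universe u

namespace Groth.Agent.Helper3.ArInv

open IsLocalRing Groth.Agent.Helper3.NodeAut Groth.Agent.Helper14

variable {k : Type u} [Field k]

/-- even part -/
noncomputable def evP (f : PowerSeries k) : PowerSeries k :=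
  PowerSeries.mk fun n => PowerSeries.coeff (2 * n) f
/-- odd part -/
noncomputable def odP (f : PowerSeries k) : PowerSeries k :=
  PowerSeries.mk fun n => PowerSeries.coeff (2 * n + 1) f

theorem sqA_X : sqA (PowerSeries.X : PowerSeries k) = PowerSeries.X ^ 2 :=
  PowerSeries.expand_X _ _

theorem sqA_C (c : k) : sqA (PowerSeries.C c : PowerSeries k) = PowerSeries.C c :=
  PowerSeries.expand_C _ _ _

theorem coeff_even (a b : PowerSeries k) (j : ℕ) :
    PowerSeries.coeff (2 * j) (sqA a + PowerSeries.X * sqA b) = PowerSeries.coeff j a := by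
  rw [map_add, coeff_sqA, if_pos (dvd_mul_right 2 j), Nat.mul_div_cancel_left j two_pos]
  cases j with
  | zero => rw [Nat.mul_zero, PowerSeries.coeff_zero_X_mul, add_zero]
  | succ j =>
    have : 2 * (j + 1) = (2 * j + 1) + 1 := by ring
    rw [this, PowerSeries.coeff_succ_X_mul, coeff_sqA, if_neg (by omega), add_zero]

theorem coeff_odd (a b : PowerSeries k) (j : ℕ) :
    PowerSeries.coeff (2 * j + 1) (sqA a + PowerSeries.X * sqA b) = PowerSeries.coeff j b := by
  rw [map_add, coeff_sqA, if_neg (by omega), zero_add, PowerSeries.coeff_succ_X_mul, coeff_sqA,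
    if_pos (dvd_mul_right 2 j), Nat.mul_div_cancel_left j two_pos]

theorem ev_od (f : PowerSeries k) : f = sqA (evP f) + PowerSeries.X * sqA (odP f) := by
  ext n
  rcases Nat.even_or_odd' n with ⟨j, rfl | rfl⟩
  · rw [coeff_even, evP, PowerSeries.coeff_mk]
  · rw [coeff_odd, odP, PowerSeries.coeff_mk]

theorem ev_od_uniq {a b a' b' : PowerSeries k}
    (h : sqA a + PowerSeries.X * sqA b = sqA a' + PowerSeries.X * sqA b') : a = a' ∧ b = b' := by
  constructor
  · ext j
    have := congrArg (PowerSeries.coeff (2 * j)) h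
    rwa [coeff_even, coeff_even] at this
  · ext j
    have := congrArg (PowerSeries.coeff (2 * j + 1)) h
    rwa [coeff_odd, coeff_odd] at this

theorem ev_od_zero {a b : PowerSeries k}
    (h : sqA a + PowerSeries.X * sqA b = 0) : a = 0 ∧ b = 0 := by
  apply ev_od_uniq
  rw [h, map_zero, mul_zero, add_zero]

theorem mem_max_PS1 {f : PowerSeries k} :
    f ∈ maximalIdeal (PowerSeries k) ↔ PowerSeries.constantCoeff f = 0 := by
  rw [IsLocalRing.mem_maximalIdeal, mem_nonunits_iff, PowerSeries.isUnit_iff_constantCoeff,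
    isUnit_iff_ne_zero, not_not]

theorem exists_hom_PS1 {T : Type u} [CommRing T] [Algebra k T] [IsLocalRing T]
    [IsAdicComplete (maximalIdeal T) T] (a : T) (ha : a ∈ maximalIdeal T) :
    ∃ φ : PowerSeries k →ₐ[k] T, φ PowerSeries.X = a := by
  obtain ⟨F, hF⟩ := PowerSeriesComplete.exists_algHom_complete (σ := Unit) (Λ := k)
    (maximalIdeal T) (fun _ => a) (fun _ => ha)
  exact ⟨F, hF ()⟩

section Even

variable (m : ℕ)

theorem exists_nu : ∃ ν : ArSing.ring k (2 * m) →ₐ[k] PowerSeries k,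
    ν (xr _) = PowerSeries.X ^ 2 ∧ ν (yr _) = PowerSeries.X ^ (2 * m + 1) :=
  exists_hom_Ar (PowerSeries.X ^ 2) (PowerSeries.X ^ (2 * m + 1))
    (Ideal.pow_mem_of_mem _ X_mem_max 2 (by norm_num))
    (Ideal.pow_mem_of_mem _ X_mem_max _ (by omega)) (by ring)

/-- the normalization map -/
noncomputable def nu : ArSing.ring k (2 * m) →ₐ[k] PowerSeries k := (exists_nu m).choose

theorem nu_x : nu (k := k) m (xr _) = PowerSeries.X ^ 2 := (exists_nu m).choose_spec.1
theorem nu_y : nu (k := k) m (yr _) = PowerSeries.X ^ (2 * m + 1) := (exists_nu m).choose_spec.2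

theorem nu_oXr (α : PowerSeries k) : nu m (oXr α) = sqA α := by
  have h : (nu (k := k) m).comp oXr = sqA := by
    apply hom_ext_PS1
    · change nu m (oXr PowerSeries.X) = sqA PowerSeries.X
      rw [oXr_X, nu_x, sqA_X]
    · change nu m (oXr PowerSeries.X) ∈ _
      rw [oXr_X, nu_x]
      exact Ideal.pow_mem_of_mem _ X_mem_max 2 (by norm_num)
  exact DFunLike.congr_fun h α

theorem nu_nf (α β : PowerSeries k) : nu m (oXr α + oXr β * yr _) =
    sqA α + PowerSeries.X * sqA (PowerSeries.X ^ m * β) := by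
  rw [map_add, map_mul, nu_oXr, nu_oXr, nu_y, map_mul sqA, map_pow, sqA_X]
  ring

theorem nu_injective : Function.Injective (nu (k := k) m) := by
  rw [injective_iff_map_eq_zero]
  intro a ha
  obtain ⟨α, β, rfl⟩ := exists_nf a
  rw [nu_nf] at ha
  obtain ⟨h1, h2⟩ := ev_od_zero ha
  have h3 : β = 0 := by
    rcases mul_eq_zero.mp h2 with h | h
    · exact absurd h (pow_ne_zero _ PowerSeries.X_ne_zero)
    · exact h
  rw [h1, h3, map_zero, zero_mul, add_zero]

theorem constantCoeff_nu_of_mem {a : ArSing.ring k (2 * m)}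
    (ha : a ∈ maximalIdeal (ArSing.ring k (2 * m))) :
    PowerSeries.constantCoeff (nu m a) = 0 := by
  rw [maximalIdeal_Ar, Ideal.mem_span_pair] at ha
  obtain ⟨p, q, rfl⟩ := ha
  rw [map_add, map_mul, map_mul, nu_x, nu_y, map_add, map_mul, map_mul, map_pow, map_pow,
    PowerSeries.constantCoeff_X, zero_pow (by norm_num), zero_pow (by omega), mul_zero, mul_zero,
    add_zero]

theorem mem_of_constantCoeff_nu {a : ArSing.ring k (2 * m)}
    (ha : PowerSeries.constantCoeff (nu m a) = 0) : a ∈ maximalIdeal (ArSing.ring k (2 * m)) := by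
  rw [IsLocalRing.mem_maximalIdeal, mem_nonunits_iff]
  intro hu
  have h1 := hu.map (nu (k := k) m)
  rw [PowerSeries.isUnit_iff_constantCoeff, ha] at h1
  exact not_isUnit_zero h1

theorem xr_ne_zero : xr (k := k) (2 * m) ≠ 0 := by
  intro h
  have := congrArg (nu (k := k) m) h
  rw [nu_x, map_zero] at this
  exact pow_ne_zero _ PowerSeries.X_ne_zero this

/-- automorphisms of `A_{2m}` extend to the normalization -/
theorem exists_ext (h2 : (2 : k) ≠ 0) (σ : ArSing.ring k (2 * m) ≃ₐ[k] ArSing.ring k (2 * m))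
    (hσ : ∀ a, σ (σ a) = a) :
    ∃ τ : PowerSeries k ≃ₐ[k] PowerSeries k, (∀ f, τ (τ f) = f) ∧
      ∀ a, τ (nu m a) = nu m (σ a) := by
  have hσm : ∀ a ∈ maximalIdeal (ArSing.ring k (2 * m)),
      σ a ∈ maximalIdeal (ArSing.ring k (2 * m)) := by
    intro a ha
    rw [IsLocalRing.mem_maximalIdeal, mem_nonunits_iff] at ha ⊢
    intro hu
    apply ha
    have := hu.map σ
    rwa [hσ] at this
  obtain ⟨X', hX'def⟩ : ∃ z, z = nu m (σ (xr _)) := ⟨_, rfl⟩
  obtain ⟨Y', hY'def⟩ : ∃ z, z = nu m (σ (yr _)) := ⟨_, rfl⟩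
  have hrel : Y' ^ 2 = X' ^ (2 * m + 1) := by
    have := congrArg (fun z => nu m (σ z)) (yr_sq (k := k) (2 * m))
    simp only [map_pow] at this
    rw [hX'def, hY'def]
    exact this
  have hX'0 : PowerSeries.constantCoeff X' = 0 := by
    rw [hX'def]
    exact constantCoeff_nu_of_mem m (hσm _ (xr_mem _))
  have hX'ne : X' ≠ 0 := by
    rw [hX'def]
    intro h
    have h1 := nu_injective m (h.trans (map_zero _).symm)
    have h3 : xr (k := k) (2 * m) = 0 := σ.injective (h1.trans (map_zero σ).symm)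
    exact xr_ne_zero m h3
  have hdvd : X' ^ m ∣ Y' := by
    apply (IsIntegrallyClosed.pow_dvd_pow_iff (n := 2) two_ne_zero).mp
    exact ⟨X', by rw [hrel]; ring⟩
  obtain ⟨T', hT'⟩ := hdvd
  have hT2 : T' ^ 2 = X' := by
    apply mul_left_cancel₀ (pow_ne_zero (2 * m) hX'ne)
    calc X' ^ (2 * m) * T' ^ 2 = (X' ^ m * T') ^ 2 := by ring
      _ = Y' ^ 2 := by rw [hT']
      _ = X' ^ (2 * m) * X' := by rw [hrel]; ring
  have hT0 : PowerSeries.constantCoeff T' = 0 := by
    have := congrArg PowerSeries.constantCoeff hT2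
    rw [map_pow, hX'0] at this
    exact (pow_eq_zero_iff two_ne_zero).mp this
  have hTm : T' ∈ maximalIdeal (PowerSeries k) := mem_max_PS1.mpr hT0
  obtain ⟨τ₀, hτ₀⟩ := exists_hom_PS1 (k := k) T' hTm
  have hτx : τ₀ (nu m (xr _)) = nu m (σ (xr _)) := by
    rw [nu_x, map_pow, hτ₀, hT2, hX'def]
  have hτy : τ₀ (nu m (yr _)) = nu m (σ (yr _)) := by
    rw [nu_y, map_pow, hτ₀, ← hY'def, hT', ← hT2]
    ring
  have hcomp : τ₀.comp (nu m) = (nu m).comp (σ : ArSing.ring k (2 * m) →ₐ[k] _) := by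
    apply hom_ext_Ar
    · exact hτx
    · exact hτy
    · change τ₀ (nu m (xr _)) ∈ _
      rw [hτx]
      exact mem_max_PS1.mpr (constantCoeff_nu_of_mem m (hσm _ (xr_mem _)))
    · change τ₀ (nu m (yr _)) ∈ _
      rw [hτy]
      exact mem_max_PS1.mpr (constantCoeff_nu_of_mem m (hσm _ (yr_mem _)))
  have hcomp' : ∀ a, τ₀ (nu m a) = nu m (σ a) := fun a => DFunLike.congr_fun hcomp a
  -- `τ₀` is an involution
  obtain ⟨τ, hτdef⟩ : ∃ z, z = τ₀ (τ₀ PowerSeries.X) := ⟨_, rfl⟩
  have hsq : τ ^ 2 = PowerSeries.X ^ 2 := by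
    rw [hτdef, ← map_pow, ← map_pow, ← nu_x (k := k) m, hcomp', hcomp', hσ]
  have hpw : τ ^ (2 * m + 1) = PowerSeries.X ^ (2 * m + 1) := by
    rw [hτdef, ← map_pow, ← map_pow, ← nu_y (k := k) m, hcomp', hcomp', hσ]
  have hτX : τ = PowerSeries.X := by
    have h0 : (τ - PowerSeries.X) * (τ + PowerSeries.X) = 0 := by linear_combination hsq
    rcases mul_eq_zero.mp h0 with h | h
    · exact sub_eq_zero.mp h
    · exfalso
      have hτ' : τ = -PowerSeries.X := eq_neg_of_add_eq_zero_left h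
      rw [hτ', Odd.neg_pow ⟨m, rfl⟩] at hpw
      have := congrArg (PowerSeries.coeff (2 * m + 1)) hpw
      rw [map_neg, PowerSeries.coeff_X_pow_self] at this
      apply h2
      linear_combination -this
  have hid : τ₀.comp τ₀ = AlgHom.id k (PowerSeries k) := by
    apply hom_ext_PS1
    · change τ₀ (τ₀ PowerSeries.X) = PowerSeries.X
      rw [← hτdef, hτX]
    · change τ₀ (τ₀ PowerSeries.X) ∈ _
      rw [← hτdef, hτX]
      exact X_mem_max
  refine ⟨AlgEquiv.ofAlgHom τ₀ τ₀ hid hid, fun f => DFunLike.congr_fun hid f, hcomp'⟩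

end Even

end Groth.Agent.Helper3.ArInv
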