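import Mathlib
import Groth.Agent.Lib.Helper3.ArInv2

/-!
# Involutions of the `A_r`-singularity for even `r` (helper3)
-/

set_option autoImplicit false
set_option linter.style.haveILetI false
universe u

namespace Groth.Agent.Helper3.ArInv

open IsLocalRing Groth.Agent.Helper3.NodeAut Groth.Agent.Helper14

variable {k : Type u} [Field k]

theorem sq_decomp (a b : PowerSeries k) :
    (sqA a + PowerSeries.X * sqA b) ^ 2 =
      sqA (a ^ 2 + PowerSeries.X * b ^ 2) + PowerSeries.X * sqA (a * b + a * b) := by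
  rw [map_add, map_add, map_mul, map_mul, map_pow, map_pow, sqA_X]
  ring

theorem xr_pow_mem (m : ℕ) : xr (k := k) (2 * m) ^ (m + 1) ∈
    maximalIdeal (ArSing.ring k (2 * m)) * maximalIdeal (ArSing.ring k (2 * m)) := by
  cases m with
  | zero =>
    have h := yr_sq (k := k) (2 * 0)
    have h' : xr (k := k) (2 * 0) ^ (0 + 1) = yr (2 * 0) * yr (2 * 0) := by
      rw [← sq, h]
    rw [h']
    exact Ideal.mul_mem_mul (yr_mem _) (yr_mem _)
  | succ m =>
    have h' : xr (k := k) (2 * (m + 1)) ^ (m + 1 + 1) =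
        xr (2 * (m + 1)) * xr (2 * (m + 1)) ^ (m + 1) := by ring
    rw [h']
    exact Ideal.mul_mem_mul (xr_mem _) (Ideal.pow_mem_of_mem _ (xr_mem _) _ (by omega))

theorem main_even (h2 : (2 : k) ≠ 0) (m : ℕ)
    (σ : ArSing.ring k (2 * m) ≃ₐ[k] ArSing.ring k (2 * m)) (hσ : ∀ a, σ (σ a) = a)
    (hne : σ ≠ AlgEquiv.refl) :
    ∃ φ : ArSing.ring k (2 * m) ≃ₐ[k] ArSing.ring k (2 * m),
      φ.symm (σ (φ (xr _))) = xr _ ∧ φ.symm (σ (φ (yr _))) = -yr _ := by
  obtain ⟨τ, hτ2, hτν⟩ := exists_ext m h2 σ hσ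
  obtain ⟨hξ2, φB, -, hφ⟩ := Groth.Agent.Helper25.PSInvol.main h2 τ hτ2
  obtain ⟨T', hT'def⟩ : ∃ z, z = τ PowerSeries.X := ⟨_, rfl⟩
  rw [← hT'def] at hξ2 hφ
  have hτT : τ T' = PowerSeries.X := by rw [hT'def, hτ2]
  -- the linear coefficient is `-1`
  have hξ : PowerSeries.coeff 1 T' = -1 := by
    have h1 : (PowerSeries.coeff 1 T' - 1) * (PowerSeries.coeff 1 T' + 1) = 0 := by
      linear_combination hξ2
    rcases mul_eq_zero.mp h1 with h | h
    · exfalso
      have hξ1 : PowerSeries.coeff 1 T' = 1 := sub_eq_zero.mp h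
      rw [hξ1, PowerSeries.rescale_one] at hφ
      have hτid : ∀ f, τ f = f := by
        intro f
        obtain ⟨g, rfl⟩ := φB.surjective f
        have h' := congrArg φB (hφ g)
        rw [AlgEquiv.apply_symm_apply] at h'
        exact h'
      apply hne
      ext a
      apply nu_injective m
      rw [← hτν, hτid]
      rfl
    · exact eq_neg_of_add_eq_zero_left h
  have hT0 : PowerSeries.constantCoeff T' = 0 := by
    rw [← mem_max_PS1, IsLocalRing.mem_maximalIdeal, mem_nonunits_iff]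
    intro hu
    have h1 := hu.map τ
    rw [hτT] at h1
    exact (mem_nonunits_iff.mp ((IsLocalRing.mem_maximalIdeal _).mp X_mem_max)) h1
  -- even and odd parts of `T'`
  obtain ⟨T₀, hT₀def⟩ : ∃ z, z = evP T' := ⟨_, rfl⟩
  obtain ⟨T₁, hT₁def⟩ : ∃ z, z = odP T' := ⟨_, rfl⟩
  have hTdec : T' = sqA T₀ + PowerSeries.X * sqA T₁ := by
    rw [hT₀def, hT₁def]; exact ev_od T'
  have hT₁0 : PowerSeries.constantCoeff T₁ = -1 := by
    rw [← PowerSeries.coeff_zero_eq_constantCoeff_apply, hT₁def, odP, PowerSeries.coeff_mk,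
      mul_zero, zero_add, hξ]
  have hT₀0 : PowerSeries.constantCoeff T₀ = 0 := by
    rw [← PowerSeries.coeff_zero_eq_constantCoeff_apply, hT₀def, evP, PowerSeries.coeff_mk,
      mul_zero, PowerSeries.coeff_zero_eq_constantCoeff_apply, hT0]
  have hT₁u : IsUnit T₁ := by
    rw [PowerSeries.isUnit_iff_constantCoeff, hT₁0]
    exact isUnit_iff_ne_zero.mpr (neg_ne_zero.mpr one_ne_zero)
  obtain ⟨T₁i, hT₁i⟩ := hT₁u.exists_right_inv
  -- `T'^2` lies in the image of `ν`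
  obtain ⟨α, β, hαβ⟩ := exists_nf (σ (xr (k := k) (2 * m)))
  have hTsq : T' ^ 2 = nu m (σ (xr _)) := by
    rw [← hτν, nu_x, map_pow, ← hT'def]
  have hU : T₀ * T₁ + T₀ * T₁ = PowerSeries.X ^ m * β := by
    have h1 : sqA (T₀ ^ 2 + PowerSeries.X * T₁ ^ 2) + PowerSeries.X * sqA (T₀ * T₁ + T₀ * T₁) =
        sqA α + PowerSeries.X * sqA (PowerSeries.X ^ m * β) := by
      rw [← sq_decomp, ← hTdec, hTsq, hαβ, nu_nf]
    exact (ev_od_uniq h1).2
  obtain ⟨c, hcdef⟩ : ∃ z, z = PowerSeries.C (2⁻¹ : k) := ⟨_, rfl⟩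
  have hC : c + c = 1 := by
    rw [hcdef, ← map_add, ← two_mul, mul_inv_cancel₀ h2, map_one]
  have hsqc : sqA c = c := by rw [hcdef, sqA_C]
  have hτc : τ c = c := by rw [hcdef]; exact τ.commutes _
  have hT₀m : T₀ = PowerSeries.X ^ m * (β * T₁i * c) := by
    linear_combination (T₁i * c) * hU - T₀ * hT₁i - (T₀ * T₁ * T₁i) * hC
  -- the anti-invariant uniformizer
  obtain ⟨s, hsdef⟩ : ∃ z, z = c * (PowerSeries.X - T') := ⟨_, rfl⟩
  have hτs : τ s = -s := by
    rw [hsdef, map_mul, map_sub, hτc, ← hT'def, hτT]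
    ring
  obtain ⟨s₀', hs₀'def⟩ : ∃ z, z = -(c * (β * T₁i * c)) := ⟨_, rfl⟩
  obtain ⟨s₀, hs₀def⟩ : ∃ z, z = -(c * T₀) := ⟨_, rfl⟩
  obtain ⟨s₁, hs₁def⟩ : ∃ z, z = c * (1 - T₁) := ⟨_, rfl⟩
  have hs₀m : s₀ = PowerSeries.X ^ m * s₀' := by
    rw [hs₀def, hs₀'def]
    linear_combination (-c) * hT₀m
  have hsdec : s = sqA s₀ + PowerSeries.X * sqA s₁ := by
    rw [hsdef, hs₀def, hs₁def, map_neg, map_mul, map_mul, map_sub, map_one, hsqc]
    conv_lhs => rw [hTdec]
    ring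
  have hs₁0 : PowerSeries.constantCoeff s₁ = 1 := by
    rw [hs₁def, hcdef, map_mul, map_sub, map_one, hT₁0, PowerSeries.constantCoeff_C]
    have : (2⁻¹ : k) * (1 - -1) = 2⁻¹ * 2 := by ring
    rw [this, inv_mul_cancel₀ h2]
  have hs₀0 : PowerSeries.constantCoeff s₀ = 0 := by
    rw [hs₀def, map_neg, map_mul, hT₀0, mul_zero, neg_zero]
  have hs0 : PowerSeries.constantCoeff s = 0 := by
    rw [hsdef, map_mul, map_sub, PowerSeries.constantCoeff_X, hT0, sub_zero, mul_zero]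
  have hs1 : PowerSeries.coeff 1 s = 1 := by
    rw [hsdef, hcdef, PowerSeries.coeff_C_mul, map_sub, PowerSeries.coeff_one_X, hξ]
    have : (2⁻¹ : k) * (1 - -1) = 2⁻¹ * 2 := by ring
    rw [this, inv_mul_cancel₀ h2]
  obtain ⟨s₀'', hs₀''⟩ := PowerSeries.X_dvd_iff.mpr hs₀0
  obtain ⟨w, hw⟩ := PowerSeries.X_dvd_iff.mpr hs0
  have hw0 : PowerSeries.constantCoeff w = 1 := by
    rw [← hs1, hw, ← PowerSeries.coeff_zero_eq_constantCoeff_apply,
      show (1 : ℕ) = 0 + 1 from rfl, PowerSeries.coeff_succ_X_mul]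
  obtain ⟨g, hgdef⟩ : ∃ z, z = w ^ (2 * m + 1) := ⟨_, rfl⟩
  obtain ⟨g₀, hg₀def⟩ : ∃ z, z = evP g := ⟨_, rfl⟩
  obtain ⟨g₁, hg₁def⟩ : ∃ z, z = odP g := ⟨_, rfl⟩
  have hgdec : g = sqA g₀ + PowerSeries.X * sqA g₁ := by
    rw [hg₀def, hg₁def]; exact ev_od g
  have hg₀0 : PowerSeries.constantCoeff g₀ = 1 := by
    rw [← PowerSeries.coeff_zero_eq_constantCoeff_apply, hg₀def, evP, PowerSeries.coeff_mk,
      mul_zero, PowerSeries.coeff_zero_eq_constantCoeff_apply, hgdef, map_pow, hw0, one_pow]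
  -- the new coordinates
  obtain ⟨x', hx'def⟩ : ∃ z : ArSing.ring k (2 * m),
      z = oXr (s₀ ^ 2 + PowerSeries.X * s₁ ^ 2) + oXr (s₀' * s₁ + s₀' * s₁) * yr _ := ⟨_, rfl⟩
  obtain ⟨y', hy'def⟩ : ∃ z : ArSing.ring k (2 * m),
      z = oXr (PowerSeries.X ^ (m + 1) * g₁) + oXr g₀ * yr _ := ⟨_, rfl⟩
  have hνx' : nu m x' = s ^ 2 := by
    rw [hx'def, nu_nf, hsdec, sq_decomp, hs₀m]
    congr 3
    ring
  have hνy' : nu m y' = s ^ (2 * m + 1) := by
    rw [hy'def, nu_nf, hw, mul_pow, ← hgdef, hgdec, map_mul, map_mul, map_pow, map_pow, sqA_X]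
    ring
  have hx'm : x' ∈ maximalIdeal (ArSing.ring k (2 * m)) := by
    apply mem_of_constantCoeff_nu
    rw [hνx', map_pow, hs0, zero_pow two_ne_zero]
  have hy'm : y' ∈ maximalIdeal (ArSing.ring k (2 * m)) := by
    apply mem_of_constantCoeff_nu
    rw [hνy', map_pow, hs0, zero_pow (by omega)]
  have hrel : y' ^ 2 = x' ^ (2 * m + 1) := by
    apply nu_injective m
    rw [map_pow, map_pow, hνx', hνy']
    ring
  have hσx' : σ x' = x' := by
    apply nu_injective m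
    rw [← hτν, hνx', map_pow, hτs]
    ring
  have hσy' : σ y' = -y' := by
    apply nu_injective m
    rw [← hτν, map_neg, hνy', map_pow, hτs, Odd.neg_pow ⟨m, rfl⟩]
  obtain ⟨φA, hφx, hφy⟩ := exists_hom_Ar (k := k) (r := 2 * m) x' y' hx'm hy'm hrel
  -- generation of the maximal ideal
  have hu : IsUnit (oXr (r := 2 * m) g₀) := by
    apply IsUnit.map
    rw [PowerSeries.isUnit_iff_constantCoeff, hg₀0]
    exact isUnit_one
  have hv : IsUnit (oXr (r := 2 * m) (s₁ ^ 2)) := by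
    apply IsUnit.map
    rw [PowerSeries.isUnit_iff_constantCoeff, map_pow, hs₁0, one_pow]
    exact isUnit_one
  obtain ⟨ui, hui⟩ := hu.exists_right_inv
  obtain ⟨vi, hvi⟩ := hv.exists_right_inv
  have hxx := xr_pow_mem (k := k) m
  have hyN : yr (k := k) (2 * m) ∈ Ideal.span {x', y'} ⊔
      maximalIdeal (ArSing.ring k (2 * m)) * maximalIdeal (ArSing.ring k (2 * m)) := by
    have e : yr (k := k) (2 * m) = ui * y' + (-(ui * oXr g₁)) * xr _ ^ (m + 1) := by
      rw [hy'def, map_mul, map_pow, oXr_X]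
      linear_combination (-(yr (k := k) (2 * m))) * hui
    rw [e]
    exact Ideal.add_mem _
      (Ideal.mem_sup_left (Ideal.mul_mem_left _ _ (Ideal.subset_span (by simp))))
      (Ideal.mem_sup_right (Ideal.mul_mem_left _ _ hxx))
  have hs₀sq : oXr (r := 2 * m) (s₀ ^ 2) ∈
      maximalIdeal (ArSing.ring k (2 * m)) * maximalIdeal (ArSing.ring k (2 * m)) := by
    have e : oXr (r := 2 * m) (s₀ ^ 2) = oXr (s₀'' ^ 2) * (xr _ * xr _) := by
      rw [hs₀'', mul_pow, map_mul, map_pow, oXr_X]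
      ring
    rw [e]
    exact Ideal.mul_mem_left _ _ (Ideal.mul_mem_mul (xr_mem _) (xr_mem _))
  have hxN : xr (k := k) (2 * m) ∈ Ideal.span {x', y'} ⊔
      maximalIdeal (ArSing.ring k (2 * m)) * maximalIdeal (ArSing.ring k (2 * m)) := by
    have e : xr (k := k) (2 * m) = vi * x' + (-(vi * oXr (s₀' * s₁ + s₀' * s₁))) * yr _ +
        (-vi) * oXr (s₀ ^ 2) := by
      rw [hx'def, map_add, map_mul oXr PowerSeries.X, oXr_X]
      linear_combination (-(xr (k := k) (2 * m))) * hvi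
    rw [e]
    refine Ideal.add_mem _ (Ideal.add_mem _ ?_ ?_) ?_
    · exact Ideal.mem_sup_left (Ideal.mul_mem_left _ _ (Ideal.subset_span (by simp)))
    · exact Ideal.mul_mem_left _ _ hyN
    · exact Ideal.mem_sup_right (Ideal.mul_mem_left _ _ hs₀sq)
  have hle : maximalIdeal (ArSing.ring k (2 * m)) ≤ Ideal.span {x', y'} := by
    haveI : IsNoetherianRing (ArSing.ring k (2 * m)) := inferInstance
    apply Submodule.le_of_le_smul_of_le_jacobson_bot (IsNoetherian.noetherian _)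
      (IsLocalRing.maximalIdeal_le_jacobson ⊥)
    rw [Ideal.smul_eq_mul]
    conv_lhs => rw [maximalIdeal_Ar]
    rw [Ideal.span_le]
    intro z hz
    rcases hz with rfl | rfl
    · exact hxN
    · exact hyN
  have hspan : Ideal.span (Set.range (fun i : Fin 2 =>
      φA (Ideal.Quotient.mk (Ideal.span {ArSing.eqn k (2 * m)}) (MvPowerSeries.X i)))) =
      maximalIdeal (ArSing.ring k (2 * m)) := by
    rw [range_eq_pair, hφx, hφy]
    apply le_antisymm
    · rw [Ideal.span_le]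
      intro z hz
      rcases hz with rfl | rfl
      · exact hx'm
      · exact hy'm
    · exact hle
  have hbij := bijective_of_span _ φA hspan
  refine ⟨AlgEquiv.ofBijective φA hbij, ?_, ?_⟩
  · have h1 : (AlgEquiv.ofBijective φA hbij) (xr _) = x' := hφx
    rw [h1, hσx', ← h1, AlgEquiv.symm_apply_apply]
  · have h1 : (AlgEquiv.ofBijective φA hbij) (yr _) = y' := hφy
    rw [h1, hσy', map_neg, ← h1, AlgEquiv.symm_apply_apply]

end Groth.Agent.Helper3.ArInv
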