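import Mathlib
import Groth.Agent.Lib.Helper3.ArInv2
import Groth.Agent.Lib.Helper5.MorseA
import Groth.Agent.Lib.Helper5.MorseB

/-!
# Double points of plane curves I: orders, powers of the maximal ideal, Taylor coefficients (helper3)
-/

set_option autoImplicit false
set_option linter.style.haveILetI false
universe u

namespace Groth.Agent.Helper3.DP

open IsLocalRing MvPowerSeries Groth.Agent.Helper3.NodeAut Groth.Agent.Helper14
  Groth.Agent.Helper5.Morse

variable {k : Type u} [Field k]

theorem mem_pow_of_le_order (n : ℕ) (p : PS k) (h : (n : ℕ∞) ≤ p.order) :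
    p ∈ maximalIdeal (PS k) ^ n := by
  rw [maximalIdeal_P]
  apply PowerSeriesAdic.mem_pow_of_truncTotal_eq_zero
  ext d
  rw [coeff_truncTotal_eq_ite]
  split_ifs with hd
  · rw [MvPolynomial.coeff_zero]
    exact coeff_of_lt_order (lt_of_lt_of_le (by exact_mod_cast hd) h)
  · simp

theorem le_order_of_mem_pow (n : ℕ) :
    ∀ p : PS k, p ∈ maximalIdeal (PS k) ^ n → (n : ℕ∞) ≤ p.order := by
  induction n with
  | zero => intro p _; simp
  | succ n ih =>
    intro p hp
    rw [pow_succ] at hp
    refine Submodule.mul_induction_on hp ?_ ?_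
    · intro a ha b hb
      have h1 := ih a ha
      have h2 : (1 : ℕ∞) ≤ b.order := by
        rw [one_le_order_iff_constCoeff_eq_zero]; exact mem_maximalIdeal_P.mp hb
      have h3 := le_order_mul' h1 h2
      have e : ((n + 1 : ℕ) : ℕ∞) = (n : ℕ∞) + 1 := by push_cast; rfl
      rw [e]; exact h3
    · intro x y hx hy
      exact le_order_add' hx hy

theorem mem_pow_iff (n : ℕ) (p : PS k) :
    p ∈ maximalIdeal (PS k) ^ n ↔ (n : ℕ∞) ≤ p.order :=
  ⟨le_order_of_mem_pow n p, mem_pow_of_le_order n p⟩

theorem mem_max_iff_order (p : PS k) : p ∈ maximalIdeal (PS k) ↔ (1 : ℕ∞) ≤ p.order := by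
  rw [one_le_order_iff_constCoeff_eq_zero, mem_maximalIdeal_P]

theorem two_le_or (x y : ℕ∞) (h : 3 ≤ x + y) : 2 ≤ x ∨ 2 ≤ y := by
  by_contra hcon
  push_neg at hcon
  obtain ⟨h1, h2⟩ := hcon
  lift x to ℕ using ne_top_of_lt h1
  lift y to ℕ using ne_top_of_lt h2
  norm_cast at *
  omega

/-- if a product lies in `𝔪³` one factor lies in `𝔪²` (for factors in `𝔪` this is the content) -/
theorem two_le_order_or_of_mul (p q : PS k) (h : (3 : ℕ∞) ≤ (p * q).order) :
    (2 : ℕ∞) ≤ p.order ∨ (2 : ℕ∞) ≤ q.order := by
  rw [order_mul] at h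
  exact two_le_or _ _ h

/-- the linear coefficients -/
theorem lin_mul (i : Fin 2) (c p : PS k) (hp : (1 : ℕ∞) ≤ p.order) :
    coeff (Finsupp.single i 1) (c * p) = constantCoeff c * coeff (Finsupp.single i 1) p := by
  have hc' : (1 : ℕ∞) ≤ (c - C (constantCoeff c)).order := by
    rw [one_le_order_iff_constCoeff_eq_zero, map_sub, constantCoeff_C, sub_self]
  have h2 : ((2 : ℕ) : ℕ∞) ≤ ((c - C (constantCoeff c)) * p).order := by
    have := le_order_mul' hc' hp
    refine le_trans ?_ this
    norm_num
  have h3 := coeff_eq_zero_of_le_order h2 (Finsupp.single i 1) (by simp)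
  have e : c * p = C (constantCoeff c) * p + (c - C (constantCoeff c)) * p := by ring
  rw [e, map_add, h3, add_zero, coeff_C_mul]

theorem lin_eq_zero (i : Fin 2) (q : PS k) (hq : (2 : ℕ∞) ≤ q.order) :
    coeff (Finsupp.single i 1) q = 0 := by
  have h2 : ((2 : ℕ) : ℕ∞) ≤ q.order := by exact_mod_cast hq
  exact coeff_eq_zero_of_le_order h2 (Finsupp.single i 1) (by simp)

/-- the maximal ideal is not principal modulo its square -/
theorem not_principal (w : PS k) (hw : (1 : ℕ∞) ≤ w.order)
    (h : ∀ p : PS k, (1 : ℕ∞) ≤ p.order → ∃ c : PS k, (2 : ℕ∞) ≤ (p - c * w).order) : False := by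
  obtain ⟨c, hc⟩ := h (X 0) (one_le_order_X 0)
  obtain ⟨d, hd⟩ := h (X 1) (one_le_order_X 1)
  have c0 := lin_eq_zero 0 _ hc
  have c1 := lin_eq_zero 1 _ hc
  have d0 := lin_eq_zero 0 _ hd
  have d1 := lin_eq_zero 1 _ hd
  rw [map_sub, lin_mul _ _ _ hw, coeff_index_single_X] at c0 c1 d0 d1
  simp only [Fin.isValue, if_true] at c0 d1
  rw [if_neg (by decide)] at c1 d0
  have e1 : constantCoeff c * coeff (Finsupp.single 0 1) w = 1 := by linear_combination -c0
  have e2 : constantCoeff c * coeff (Finsupp.single 1 1) w = 0 := by linear_combination -c1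
  have e3 : constantCoeff d * coeff (Finsupp.single 0 1) w = 0 := by linear_combination -d0
  have e4 : constantCoeff d * coeff (Finsupp.single 1 1) w = 1 := by linear_combination -d1
  have hc0 : constantCoeff c ≠ 0 := by
    intro h0; rw [h0, zero_mul] at e1; exact zero_ne_one e1
  have hw1 : coeff (Finsupp.single 1 1) w = 0 := by
    rcases mul_eq_zero.mp e2 with h | h
    · exact absurd h hc0
    · exact h
  rw [hw1, mul_zero] at e4
  exact zero_ne_one e4

section Taylor

open MvPolynomial

/-- recentring at `a` -/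
noncomputable def shift (a : Fin 2 → k) : MvPolynomial (Fin 2) k →ₐ[k] MvPolynomial (Fin 2) k :=
  MvPolynomial.aeval (fun i : Fin 2 => MvPolynomial.X i + MvPolynomial.C (a i))

theorem eval_eq (a : Fin 2 → k) (g : MvPolynomial (Fin 2) k) :
    MvPolynomial.eval a g = MvPolynomial.constantCoeff (shift a g) := by
  induction g using MvPolynomial.induction_on with
  | C c => simp [shift]
  | add p q hp hq => rw [map_add, map_add, map_add, hp, hq]
  | mul_X p i hp =>
    rw [map_mul, map_mul, map_mul, hp]
    simp [shift]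

theorem pderiv_shift (a : Fin 2 → k) (i : Fin 2) (g : MvPolynomial (Fin 2) k) :
    pderiv i (shift a g) = shift a (pderiv i g) := by
  induction g using MvPolynomial.induction_on with
  | C c => simp [shift]
  | add p q hp hq => rw [map_add, map_add, map_add, map_add, hp, hq]
  | mul_X p j hp =>
    have hX : pderiv i (shift a (MvPolynomial.X j)) = shift a (pderiv i (MvPolynomial.X j)) := by
      simp only [shift, aeval_X, map_add, MvPolynomial.pderiv_C, add_zero, MvPolynomial.pderiv_X]
      by_cases hij : j = i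
      · subst hij; simp
      · rw [Pi.single_eq_of_ne hij]; simp
    calc pderiv i (shift a (p * MvPolynomial.X j))
        = pderiv i (shift a p * shift a (MvPolynomial.X j)) := by rw [map_mul]
      _ = shift a p * pderiv i (shift a (MvPolynomial.X j))
          + shift a (MvPolynomial.X j) * pderiv i (shift a p) := by
          rw [Derivation.leibniz]; simp only [smul_eq_mul]
      _ = shift a p * shift a (pderiv i (MvPolynomial.X j))
          + shift a (MvPolynomial.X j) * shift a (pderiv i p) := by rw [hX, hp]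
      _ = shift a (p * pderiv i (MvPolynomial.X j) + MvPolynomial.X j * pderiv i p) := by
          simp only [map_add, map_mul]
      _ = shift a (pderiv i (p * MvPolynomial.X j)) := by
          rw [Derivation.leibniz]; simp only [smul_eq_mul]

theorem taylor_iff (h2 : (2 : k) ≠ 0) (f : MvPolynomial (Fin 2) k) (a : Fin 2 → k)
    (hfa : MvPolynomial.eval a f = 0) :
    ((∀ i : Fin 2, MvPolynomial.eval a (MvPolynomial.pderiv i f) = 0) ∧
      ∀ i j : Fin 2, MvPolynomial.eval a (MvPolynomial.pderiv i (MvPolynomial.pderiv j f)) = 0) ↔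
    ((3 : ℕ) : ℕ∞) ≤ ((shift a f : MvPolynomial (Fin 2) k) : PS k).order := by
  set g := shift a f with hg
  have e0 : MvPolynomial.coeff 0 g = 0 := by
    rw [← MvPolynomial.constantCoeff_eq, ← eval_eq, hfa]
  have e1 : ∀ i, MvPolynomial.eval a (pderiv i f) = MvPolynomial.coeff (Finsupp.single i 1) g := by
    intro i
    rw [eval_eq, ← pderiv_shift, MvPolynomial.constantCoeff_eq, MvPolynomial.coeff_pderiv]
    simp [hg]
  have e2 : ∀ i j, ∃ c : k, c ≠ 0 ∧ MvPolynomial.eval a (pderiv i (pderiv j f)) =
      MvPolynomial.coeff (Finsupp.single i 1 + Finsupp.single j 1) g * c := by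
    intro i j
    refine ⟨(((Finsupp.single i 1 : Fin 2 →₀ ℕ) j : ℕ) : k) + 1, ?_, ?_⟩
    · by_cases hij : i = j
      · subst hij
        rw [Finsupp.single_eq_same]
        norm_num
        exact h2
      · simp [Finsupp.single_apply, hij]
    · rw [eval_eq, ← pderiv_shift, ← pderiv_shift, MvPolynomial.constantCoeff_eq, MvPolynomial.coeff_pderiv,
        MvPolynomial.coeff_pderiv]
      simp [hg]
  constructor
  · rintro ⟨hgrad, hhess⟩
    apply nat_le_order
    intro d hd
    rw [MvPolynomial.coeff_coe]
    have hd3 : d.degree < 3 := by exact_mod_cast hd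
    have hcases : d.degree = 0 ∨ d.degree = 1 ∨ d.degree = 2 := by omega
    rcases hcases with h | h | h
    · rw [Finsupp.degree_eq_zero_iff] at h
      subst h
      exact e0
    · obtain ⟨i, m', rfl, hm'⟩ := exists_add_single_of_degree_succ d 0 h
      rw [Finsupp.degree_eq_zero_iff] at hm'
      subst hm'
      rw [zero_add, ← e1]
      exact hgrad i
    · obtain ⟨i, j, rfl⟩ := exists_of_degree_two d h
      obtain ⟨c, hc, hc'⟩ := e2 i j
      rw [hhess i j] at hc'
      rcases mul_eq_zero.mp hc'.symm with h' | h'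
      · exact h'
      · exact absurd h' hc
  · intro h3
    have hco : ∀ d : Fin 2 →₀ ℕ, d.degree < 3 → MvPolynomial.coeff d g = 0 := by
      intro d hd
      rw [← MvPolynomial.coeff_coe]
      exact coeff_eq_zero_of_le_order h3 d hd
    constructor
    · intro i
      rw [e1]
      exact hco _ (by simp)
    · intro i j
      obtain ⟨c, _, hc'⟩ := e2 i j
      rw [hc', hco _ (by simp), zero_mul]

end Taylor

end Groth.Agent.Helper3.DP
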