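import Mathlib
import Groth.Agent.Lib.Helper3.DP1

/-!
# Double points of plane curves II: coordinate changes of `k[[x,y]]` and decompositions (helper3)
-/

set_option autoImplicit false
set_option linter.style.haveILetI false
universe u

namespace Groth.Agent.Helper3.DP

open IsLocalRing MvPowerSeries Groth.Agent.Helper3.NodeAut Groth.Agent.Helper14
  Groth.Agent.Helper5.Morse Groth.Agent.Helper3.ArInv

variable {k : Type u} [Field k]

theorem range_X_eq : Set.range (X : Fin 2 → PS k) = {X 0, X 1} := by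
  ext z
  simp only [Set.mem_range, Set.mem_insert_iff, Set.mem_singleton_iff]
  constructor
  · rintro ⟨i, rfl⟩
    fin_cases i
    · left; rfl
    · right; rfl
  · rintro (rfl | rfl)
    · exact ⟨0, rfl⟩
    · exact ⟨1, rfl⟩

theorem maximalIdeal_P_pair : maximalIdeal (PS k) = Ideal.span {X 0, X 1} := by
  rw [maximalIdeal_P, range_X_eq]

theorem maximalIdeal_quot_pair (J : Ideal (PS k)) [IsLocalRing (PS k ⧸ J)] :
    maximalIdeal (PS k ⧸ J) =
      Ideal.span {Ideal.Quotient.mk J (X 0), Ideal.Quotient.mk J (X 1)} := by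
  rw [maximalIdeal_quot_eq_span]
  congr 1
  ext z
  simp only [Set.mem_range, Set.mem_insert_iff, Set.mem_singleton_iff]
  constructor
  · rintro ⟨i, rfl⟩
    fin_cases i
    · left; rfl
    · right; rfl
  · rintro (rfl | rfl)
    · exact ⟨0, rfl⟩
    · exact ⟨1, rfl⟩

theorem C_eq_algebraMap (a : k) : (C a : PS k) = algebraMap k (PS k) a := by
  rw [MvPowerSeries.algebraMap_apply]; rfl

theorem algHom_C {T : Type u} [CommRing T] [Algebra k T] (χ : PS k →ₐ[k] T) (a : k) :
    χ (C a) = algebraMap k T a := by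
  rw [C_eq_algebraMap, AlgHom.commutes]

theorem map_mem_pow {T : Type u} [CommRing T] [Algebra k T] [IsLocalRing T] (χ : PS k →ₐ[k] T)
    (hχ : ∀ i, χ (X i) ∈ maximalIdeal T) (n : ℕ) (p : PS k)
    (hp : p ∈ maximalIdeal (PS k) ^ n) : χ p ∈ maximalIdeal T ^ n := by
  rw [maximalIdeal_P] at hp
  have h1 := Ideal.mem_map_of_mem (χ : PS k →+* T) hp
  rw [Ideal.map_pow, Ideal.map_span, ← Set.range_comp] at h1
  refine Ideal.pow_right_mono ?_ n h1
  rw [Ideal.span_le]
  rintro _ ⟨i, rfl⟩
  exact hχ i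

theorem X_pow_dvd_of_mem {g : PowerSeries k} {n : ℕ}
    (h : g ∈ maximalIdeal (PowerSeries k) ^ n) : (PowerSeries.X : PowerSeries k) ^ n ∣ g := by
  rw [PowerSeries.maximalIdeal_eq_span_X, Ideal.span_singleton_pow, Ideal.mem_span_singleton] at h
  exact h

/-- series in the variable `i` -/
noncomputable abbrev io (i : Fin 2) : PowerSeries k →ₐ[k] PS k :=
  PowerSeries.toMvPowerSeries (σ := Fin 2) (R := k) i

theorem io_X (i : Fin 2) : io (k := k) i PowerSeries.X = X i := PowerSeries.toMvPowerSeries_X i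

theorem io_C (i : Fin 2) (c : k) : io (k := k) i (PowerSeries.C c) = C c :=
  PowerSeries.toMvPowerSeries_C i c

theorem io_mem (i : Fin 2) (b : PowerSeries k) (hb : PowerSeries.constantCoeff b = 0) :
    ∃ b' : PowerSeries k, io i b = X i * io i b' := by
  refine ⟨PowerSeries.mk fun p => PowerSeries.coeff (p + 1) b, ?_⟩
  have h := PowerSeries.eq_X_mul_shift_add_const b
  rw [hb, map_zero, add_zero] at h
  conv_lhs => rw [h]
  rw [map_mul, io_X]

theorem exists_eps : ∃ ε : PS k →ₐ[k] PowerSeries k, ε (X 0) = 0 ∧ ε (X 1) = PowerSeries.X := by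
  obtain ⟨F, hF⟩ := exists_hom_P (k := k) (T := PowerSeries k) ![0, PowerSeries.X]
    (by intro i; fin_cases i; exacts [zero_mem _, X_mem_max])
  exact ⟨F, by simpa using hF 0, by simpa using hF 1⟩

/-- the substitution `x ↦ 0`, `y ↦ t` -/
noncomputable def eps : PS k →ₐ[k] PowerSeries k := (exists_eps (k := k)).choose

theorem eps_X0 : eps (k := k) (X 0) = 0 := (exists_eps (k := k)).choose_spec.1
theorem eps_X1 : eps (k := k) (X 1) = PowerSeries.X := (exists_eps (k := k)).choose_spec.2

theorem eps_X_mem (i : Fin 2) : eps (k := k) (X i) ∈ maximalIdeal (PowerSeries k) := by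
  fin_cases i
  · change eps (X 0) ∈ _
    rw [eps_X0]; exact zero_mem _
  · change eps (X 1) ∈ _
    rw [eps_X1]; exact X_mem_max

theorem constantCoeff_hom (χ : PS k →ₐ[k] PowerSeries k)
    (hχ : ∀ i, χ (X i) ∈ maximalIdeal (PowerSeries k)) (p : PS k) :
    PowerSeries.constantCoeff (χ p) = constantCoeff p := by
  have h1 : p - C (constantCoeff p) ∈ maximalIdeal (PS k) ^ 1 := by
    rw [pow_one, mem_maximalIdeal_P, map_sub, constantCoeff_C, sub_self]
  have h2 := map_mem_pow χ hχ 1 _ h1
  rw [pow_one, mem_max_PS1, map_sub, map_sub, algHom_C] at h2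
  have h3 : PowerSeries.constantCoeff (algebraMap k (PowerSeries k) (constantCoeff p)) =
      constantCoeff p := by
    change PowerSeries.constantCoeff (PowerSeries.C (constantCoeff p)) = _
    rw [PowerSeries.constantCoeff_C]
  rw [h3] at h2
  exact sub_eq_zero.mp h2

theorem eps_io0 (α : PowerSeries k) :
    eps (io 0 α) = PowerSeries.C (PowerSeries.constantCoeff α) := by
  have h := PowerSeries.eq_X_mul_shift_add_const α
  conv_lhs => rw [h]
  rw [map_add, map_mul, io_X, io_C, map_add, map_mul, eps_X0, zero_mul, zero_add, algHom_C]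
  rfl

theorem io_comp (Φ : PS k →ₐ[k] PS k) (i : Fin 2) (h : Φ (X i) = X i) (α : PowerSeries k) :
    Φ (io i α) = io i α := by
  haveI := complete_P (k := k)
  have := hom_ext_PS1 (Φ.comp (io i)) (io i) (by
    rw [AlgHom.comp_apply, io_X, h]) (by
    rw [AlgHom.comp_apply, io_X, h, mem_maximalIdeal_P, constantCoeff_X])
  exact DFunLike.congr_fun this α

/-- `p - p(0,y)` is divisible by `x` -/
theorem sub_io_eps_mem (p : PS k) : p - io 1 (eps p) ∈ Ideal.span {(X 0 : PS k)} := by
  set J : Ideal (PS k) := Ideal.span {(X 0 : PS k)} with hJ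
  haveI : IsLocalRing (PS k ⧸ J) := isLocalRing_quot J (span_ne_top (X 0) (by simp))
  haveI := complete_quot J
  have h0 : Ideal.Quotient.mk J (X 0) = 0 :=
    Ideal.Quotient.eq_zero_iff_mem.mpr (Ideal.subset_span (Set.mem_singleton _))
  have key := hom_ext_P (Ideal.Quotient.mkₐ k J)
    ((Ideal.Quotient.mkₐ k J).comp ((io 1).comp eps)) (by
      intro i
      fin_cases i
      · change Ideal.Quotient.mk J (X 0) = Ideal.Quotient.mk J (io 1 (eps (X 0)))
        rw [eps_X0, map_zero, map_zero, h0]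
      · change Ideal.Quotient.mk J (X 1) = Ideal.Quotient.mk J (io 1 (eps (X 1)))
        rw [eps_X1, io_X]) (fun i => mk_X_mem J i)
  have h1 := DFunLike.congr_fun key p
  change Ideal.Quotient.mk J p = Ideal.Quotient.mk J (io 1 (eps p)) at h1
  exact Ideal.Quotient.eq.mp h1

/-- an endomorphism of `k[[x,y]]` which is invertible on the cotangent space is bijective -/
theorem bijective_P (Φ : PS k →ₐ[k] PS k) (hm : ∀ i, Φ (X i) ∈ maximalIdeal (PS k))
    (h : maximalIdeal (PS k) ≤ Ideal.span {Φ (X 0), Φ (X 1)} ⊔ maximalIdeal (PS k) ^ 2) :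
    Function.Bijective Φ := by
  haveI := complete_P (k := k)
  have hspan : Ideal.span {Φ (X 0), Φ (X 1)} = maximalIdeal (PS k) := by
    apply le_antisymm
    · rw [Ideal.span_le]
      rintro z (rfl | rfl)
      · exact hm 0
      · exact hm 1
    · have hfg : (maximalIdeal (PS k)).FG := by
        rw [maximalIdeal_P]
        exact Submodule.fg_span (Set.finite_range _)
      refine Submodule.le_of_le_smul_of_le_jacobson_bot hfg
        (IsLocalRing.maximalIdeal_le_jacobson _) ?_
      rw [smul_eq_mul, ← pow_two]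
      exact h
  have hrange : Set.range (fun i : Fin 2 => Φ (X i)) = {Φ (X 0), Φ (X 1)} := by
    ext z
    simp only [Set.mem_range, Set.mem_insert_iff, Set.mem_singleton_iff]
    constructor
    · rintro ⟨i, rfl⟩
      fin_cases i
      · left; rfl
      · right; rfl
    · rintro (rfl | rfl)
      · exact ⟨0, rfl⟩
      · exact ⟨1, rfl⟩
  have hres : Function.Surjective ((IsLocalRing.residue (PS k)).comp
      (algebraMap k (PS k))) := by
    intro y
    obtain ⟨q, rfl⟩ := IsLocalRing.residue_surjective y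
    refine ⟨constantCoeff q, ?_⟩
    rw [RingHom.comp_apply]
    symm
    rw [← sub_eq_zero, ← map_sub, IsLocalRing.residue_eq_zero_iff, mem_maximalIdeal_P, map_sub,
      ← C_eq_algebraMap, constantCoeff_C, sub_self]
  have hsurj : Function.Surjective Φ := by
    refine PowerSeriesComplete.surjective_of_residue'
      (fun i : Fin 2 => Φ (X i)) ?_ hres Φ (fun i => rfl)
    rw [IsLocalRing.maximalIdeal_eq_bot, Ideal.map_bot, bot_sup_eq, hrange]
    exact hspan
  exact ⟨NodeCompl.injective_of_surjective_endo (Φ : PS k →+* PS k) hsurj, hsurj⟩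

/-- a coordinate change carrying `F` to a unit multiple of `G` identifies the quotients -/
theorem quot_equiv_of_hom (Φ : PS k →ₐ[k] PS k) (hΦ : Function.Bijective Φ) (F G u : PS k)
    (hu : IsUnit u) (h : Φ F = u * G) :
    Nonempty ((PS k ⧸ Ideal.span {F}) ≃ₐ[k] (PS k ⧸ Ideal.span {G})) := by
  refine ⟨Ideal.quotientEquivAlg _ _ (AlgEquiv.ofBijective Φ hΦ) ?_⟩
  rw [Ideal.map_span, Set.image_singleton]
  have : ((AlgEquiv.ofBijective Φ hΦ : PS k ≃ₐ[k] PS k) : PS k →+* PS k) F = Φ F := rfl
  rw [this, h, Ideal.span_singleton_mul_left_unit hu]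

theorem decomp1 (p : PS k) (hp : (1 : ℕ∞) ≤ p.order) : ∃ (α β : k) (p₂ : PS k),
    (2 : ℕ∞) ≤ p₂.order ∧ p = C α * X 0 + C β * X 1 + p₂ := by
  have hm : p ∈ maximalIdeal (PS k) := (mem_max_iff_order p).mpr hp
  rw [maximalIdeal_P_pair, Ideal.mem_span_pair] at hm
  obtain ⟨A, B, hAB⟩ := hm
  refine ⟨constantCoeff A, constantCoeff B,
    (A - C (constantCoeff A)) * X 0 + (B - C (constantCoeff B)) * X 1, ?_, ?_⟩
  · have hA : (1 : ℕ∞) ≤ (A - C (constantCoeff A)).order := by
      rw [one_le_order_iff_constCoeff_eq_zero, map_sub, constantCoeff_C, sub_self]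
    have hB : (1 : ℕ∞) ≤ (B - C (constantCoeff B)).order := by
      rw [one_le_order_iff_constCoeff_eq_zero, map_sub, constantCoeff_C, sub_self]
    have h11 : (2 : ℕ∞) = 1 + 1 := by norm_num
    rw [h11]
    exact le_order_add' (le_order_mul' hA (one_le_order_X 0)) (le_order_mul' hB (one_le_order_X 1))
  · rw [← hAB]; ring

theorem decomp2 (p : PS k) (hp : (2 : ℕ∞) ≤ p.order) : ∃ (a b c : k) (p₃ : PS k),
    (3 : ℕ∞) ≤ p₃.order ∧ p = C a * X 0 ^ 2 + C b * (X 0 * X 1) + C c * X 1 ^ 2 + p₃ := by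
  have hm : p ∈ maximalIdeal (PS k) ^ 2 := mem_pow_of_le_order 2 p (by exact_mod_cast hp)
  rw [pow_two] at hm
  refine Submodule.mul_induction_on hm ?_ ?_
  · intro s hs t ht
    have hs1 := (mem_max_iff_order s).mp hs
    have ht1 := (mem_max_iff_order t).mp ht
    obtain ⟨α, β, s₂, hs₂, hs_eq⟩ := decomp1 s hs1
    obtain ⟨γ, δ, t₂, ht₂, ht_eq⟩ := decomp1 t ht1
    have hlin : (1 : ℕ∞) ≤ (C α * X 0 + C β * X 1 : PS k).order :=
      le_order_add' (le_order_mul_left' (one_le_order_X 0)) (le_order_mul_left' (one_le_order_X 1))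
    refine ⟨α * γ, α * δ + β * γ, β * δ, s₂ * t + (C α * X 0 + C β * X 1) * t₂, ?_, ?_⟩
    · have h21 : (3 : ℕ∞) = 2 + 1 := by norm_num
      have h12 : (3 : ℕ∞) = 1 + 2 := by norm_num
      refine le_order_add' ?_ ?_
      · rw [h21]; exact le_order_mul' hs₂ ht1
      · rw [h12]; exact le_order_mul' hlin ht₂
    · have e : s * t = (C α * X 0 + C β * X 1) * (C γ * X 0 + C δ * X 1) +
          (s₂ * t + (C α * X 0 + C β * X 1) * t₂) := by
        linear_combination t * hs_eq + (C α * X 0 + C β * X 1) * ht_eq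
      rw [e]
      simp only [map_add, map_mul]
      ring
  · rintro x y ⟨a, b, c, x₃, hx₃, rfl⟩ ⟨a', b', c', y₃, hy₃, rfl⟩
    exact ⟨a + a', b + b', c + c', x₃ + y₃, le_order_add' hx₃ hy₃, by
      simp only [map_add]; ring⟩

theorem henselian_PS1 : HenselianLocalRing (PowerSeries k) where
  is_henselian f hf a₀ h₁ h₂ :=
    HenselianRing.is_henselian (I := maximalIdeal (PowerSeries k)) f hf a₀ h₁ (h₂.map _)

theorem exists_sqrt [IsAlgClosed k] (h2 : (2 : k) ≠ 0) (v : PowerSeries k)
    (hv : PowerSeries.constantCoeff v ≠ 0) : ∃ w : PowerSeries k, w ^ 2 = v := by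
  haveI : HenselianLocalRing (PowerSeries k) := henselian_PS1
  obtain ⟨c, hc⟩ := IsAlgClosed.exists_pow_nat_eq (PowerSeries.constantCoeff v) (n := 2)
    (by norm_num)
  have hc0 : c ≠ 0 := by
    rintro rfl
    apply hv
    rw [← hc]
    ring
  obtain ⟨w, hw, _⟩ := HenselianLocalRing.is_henselian
    (Polynomial.X ^ 2 - Polynomial.C v : Polynomial (PowerSeries k))
    (Polynomial.monic_X_pow_sub_C v (by norm_num)) (PowerSeries.C c) (by
      rw [mem_max_PS1]
      simp [hc]) (by
      rw [Polynomial.derivative_sub, Polynomial.derivative_X_pow, Polynomial.derivative_C]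
      simp only [Nat.cast_ofNat, Nat.add_one_sub_one, pow_one, sub_zero, Polynomial.eval_mul,
        Polynomial.eval_C, Polynomial.eval_X]
      rw [PowerSeries.isUnit_iff_constantCoeff, map_mul, PowerSeries.constantCoeff_C,
        isUnit_iff_ne_zero]
      have : PowerSeries.constantCoeff (2 : PowerSeries k) = (2 : k) := by
        rw [show (2 : PowerSeries k) = PowerSeries.C (2 : k) by simp [map_ofNat]]
        exact PowerSeries.constantCoeff_C _
      rw [this]
      exact mul_ne_zero h2 hc0)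
  refine ⟨w, ?_⟩
  rw [Polynomial.IsRoot, Polynomial.eval_sub, Polynomial.eval_pow, Polynomial.eval_X,
    Polynomial.eval_C, sub_eq_zero] at hw
  exact hw

end Groth.Agent.Helper3.DP
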