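import Mathlib
import Groth.Agent.Lib.Helper3.DP2

/-!
# Double points of plane curves III: Weierstrass form of a `y`-regular series of order two (helper3)
-/

set_option autoImplicit false
set_option linter.style.haveILetI false
universe u

namespace Groth.Agent.Helper3.DP

open IsLocalRing MvPowerSeries Groth.Agent.Helper3.NodeAut Groth.Agent.Helper14
  Groth.Agent.Helper5.Morse Groth.Agent.Helper3.ArInv

variable {k : Type u} [Field k]

theorem ps_decomp1 (g : PowerSeries k) : ∃ (c : k) (g₁ : PowerSeries k),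
    g = PowerSeries.C c + PowerSeries.X * g₁ :=
  ⟨PowerSeries.constantCoeff g, PowerSeries.mk fun p => PowerSeries.coeff (p + 1) g, by
    rw [add_comm]; exact PowerSeries.eq_X_mul_shift_add_const g⟩

theorem ps_decomp2 (g : PowerSeries k) : ∃ (c d : k) (g₂ : PowerSeries k),
    g = PowerSeries.C c + PowerSeries.C d * PowerSeries.X + PowerSeries.X ^ 2 * g₂ := by
  obtain ⟨c, g₁, rfl⟩ := ps_decomp1 g
  obtain ⟨d, g₂, rfl⟩ := ps_decomp1 g₁
  exact ⟨c, d, g₂, by ring⟩

section Reg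

variable (F : PS k)

/-- series in the class of `x` -/
noncomputable def oX : PowerSeries k →ₐ[k] (PS k ⧸ Ideal.span {F}) :=
  (Ideal.Quotient.mkₐ k _).comp (io 0)

theorem oX_apply (α : PowerSeries k) : oX F α = Ideal.Quotient.mk _ (io 0 α) := rfl

theorem oX_X : oX F PowerSeries.X = Ideal.Quotient.mk _ (X 0) := by
  rw [oX_apply, io_X]

theorem oX_C (c : k) : oX F (PowerSeries.C c) = algebraMap k _ c := by
  have : (PowerSeries.C c : PowerSeries k) = algebraMap k (PowerSeries k) c := rfl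
  rw [this, AlgHom.commutes]

theorem mk_C (c : k) : Ideal.Quotient.mk (Ideal.span {F}) (C c) = algebraMap k _ c := by
  rw [C_eq_algebraMap, Ideal.Quotient.mk_algebraMap]

theorem exists_step (u : PowerSeries k) (hu : IsUnit u) (hreg : eps F = PowerSeries.X ^ 2 * u)
    (a : PS k ⧸ Ideal.span {F}) : ∃ (c d : k) (a' : PS k ⧸ Ideal.span {F}),
    a = algebraMap k _ c + algebraMap k _ d * Ideal.Quotient.mk _ (X 1) +
      Ideal.Quotient.mk _ (X 0) * a' := by
  obtain ⟨p, rfl⟩ := Ideal.Quotient.mk_surjective a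
  obtain ⟨p', hp'⟩ := Ideal.mem_span_singleton'.mp (sub_io_eps_mem p)
  obtain ⟨F', hF'⟩ := Ideal.mem_span_singleton'.mp (sub_io_eps_mem F)
  obtain ⟨v, hv⟩ := hu.exists_right_inv
  obtain ⟨c, d, g₂, hg⟩ := ps_decomp2 (eps p)
  obtain ⟨H, hH⟩ : ∃ H : PS k, H = io 1 (v * g₂) := ⟨_, rfl⟩
  refine ⟨c, d, Ideal.Quotient.mk _ (p' - F' * H), ?_⟩
  rw [← mk_C, ← mk_C, ← map_mul, ← map_mul, ← map_add, ← map_add, Ideal.Quotient.eq]
  refine Ideal.mem_span_singleton'.mpr ⟨H, ?_⟩
  have e3 : io 1 (eps p) = C c + C d * X 1 + X 1 ^ 2 * io 1 g₂ := by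
    rw [hg, map_add, map_add, map_mul, map_mul, map_pow, io_C, io_C, io_X]
  have e4 : io 1 (eps F) = X 1 ^ 2 * io 1 u := by rw [hreg, map_mul, map_pow, io_X]
  have e5 : io 1 u * io 1 v = (1 : PS k) := by rw [← map_mul, hv, map_one]
  have e6 : H = io 1 v * io 1 g₂ := by rw [hH, map_mul]
  linear_combination hp' - e3 - H * hF' + H * e4 + X 1 ^ 2 * io 1 u * e6 + X 1 ^ 2 * io 1 g₂ * e5

/-- normal form: every element is `α(x) + β(x) y` -/
theorem exists_nf (u : PowerSeries k) (hu : IsUnit u) (hreg : eps F = PowerSeries.X ^ 2 * u)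
    [IsLocalRing (PS k ⧸ Ideal.span {F})]
    [IsHausdorff (maximalIdeal (PS k ⧸ Ideal.span {F})) (PS k ⧸ Ideal.span {F})]
    (a : PS k ⧸ Ideal.span {F}) : ∃ α β : PowerSeries k,
    a = oX F α + oX F β * Ideal.Quotient.mk _ (X 1) := by
  choose c d nxt hstep using exists_step F u hu hreg
  have key : ∀ N : ℕ, ∀ a : PS k ⧸ Ideal.span {F},
      a - oX F (PowerSeries.mk fun n => c (nxt^[n] a)) -
        oX F (PowerSeries.mk fun n => d (nxt^[n] a)) * Ideal.Quotient.mk _ (X 1) ∈
          Ideal.span {Ideal.Quotient.mk (Ideal.span {F}) (X 0) ^ N} := by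
    intro N
    induction N with
    | zero =>
      intro a
      rw [pow_zero, Ideal.span_singleton_one]
      trivial
    | succ N ih =>
      intro a
      have h1 := ih (nxt a)
      obtain ⟨w, hw⟩ := Ideal.mem_span_singleton'.mp h1
      rw [mk_shift (fun n => c (nxt^[n] a)), mk_shift (fun n => d (nxt^[n] a))]
      simp only [Function.iterate_succ_apply, Function.iterate_zero, id_eq]
      rw [map_add, map_add, map_mul, map_mul, oX_X, oX_C, oX_C]
      refine Ideal.mem_span_singleton'.mpr ⟨w, ?_⟩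
      have h2 := hstep a
      rw [pow_succ]
      linear_combination (Ideal.Quotient.mk (Ideal.span {F}) (X 0)) * hw - h2
  refine ⟨PowerSeries.mk fun n => c (nxt^[n] a), PowerSeries.mk fun n => d (nxt^[n] a), ?_⟩
  rw [← sub_eq_zero, ← sub_sub]
  apply IsHausdorff.haus' (I := maximalIdeal (PS k ⧸ Ideal.span {F}))
  intro n
  rw [SModEq.zero, smul_eq_mul, Ideal.mul_top]
  have h1 := key n a
  have hle : Ideal.span {Ideal.Quotient.mk (Ideal.span {F}) (X 0) ^ n} ≤
      maximalIdeal (PS k ⧸ Ideal.span {F}) ^ n := by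
    rw [Ideal.span_le, Set.singleton_subset_iff]
    exact Ideal.pow_mem_pow (mk_X_mem _ 0) n
  exact hle h1

theorem constantCoeff_of_reg (u : PowerSeries k) (hreg : eps F = PowerSeries.X ^ 2 * u) :
    constantCoeff F = 0 := by
  rw [← constantCoeff_hom eps eps_X_mem, hreg]
  simp

/-- Weierstrass form -/
theorem exists_weier (u : PowerSeries k) (hu : IsUnit u) (hreg : eps F = PowerSeries.X ^ 2 * u) :
    ∃ (α β : PowerSeries k) (H : PS k), IsUnit H ∧ PowerSeries.constantCoeff α = 0 ∧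
      PowerSeries.constantCoeff β = 0 ∧ X 1 ^ 2 - io 0 α - io 0 β * X 1 = H * F := by
  have hF0 := constantCoeff_of_reg F u hreg
  haveI : IsLocalRing (PS k ⧸ Ideal.span {F}) := isLocalRing_quot _ (span_ne_top F hF0)
  haveI := complete_quot (Ideal.span {F})
  obtain ⟨α, β, hαβ⟩ := exists_nf F u hu hreg (Ideal.Quotient.mk _ (X 1) ^ 2)
  have hmem : X 1 ^ 2 - io 0 α - io 0 β * X 1 ∈ Ideal.span {F} := by
    rw [← Ideal.Quotient.eq_zero_iff_mem, map_sub, map_sub, map_mul, map_pow, hαβ, ← oX_apply,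
      ← oX_apply]
    ring
  obtain ⟨H, hH⟩ := Ideal.mem_span_singleton'.mp hmem
  have hE := congrArg eps hH
  rw [map_mul, hreg, map_sub, map_sub, map_mul, map_pow, eps_X1, eps_io0, eps_io0] at hE
  have hE' : PowerSeries.X ^ 2 * (eps H * u) = PowerSeries.X ^ 2 -
      PowerSeries.C (PowerSeries.constantCoeff α) -
      PowerSeries.C (PowerSeries.constantCoeff β) * PowerSeries.X := by
    rw [← hE]; ring
  have hα0 : PowerSeries.constantCoeff α = 0 := by
    have := congrArg (PowerSeries.coeff 0) hE'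
    rw [PowerSeries.coeff_X_pow_mul'] at this
    simp [PowerSeries.coeff_X_pow, PowerSeries.coeff_C] at this
    exact this
  have hβ0 : PowerSeries.constantCoeff β = 0 := by
    have := congrArg (PowerSeries.coeff 1) hE'
    rw [PowerSeries.coeff_X_pow_mul'] at this
    simp [PowerSeries.coeff_X_pow, PowerSeries.coeff_C, PowerSeries.coeff_C_mul,
      PowerSeries.coeff_X] at this
    exact this
  simp only [hα0, hβ0, map_zero, zero_mul, sub_zero] at hE'
  have hone : eps H * u = 1 := by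
    have hX2 : (PowerSeries.X ^ 2 : PowerSeries k) ≠ 0 := pow_ne_zero 2 PowerSeries.X_ne_zero
    apply mul_left_cancel₀ hX2
    rw [hE', mul_one]
  have hH0 : constantCoeff H ≠ 0 := by
    have := congrArg PowerSeries.constantCoeff hone
    rw [map_mul, map_one, constantCoeff_hom eps eps_X_mem] at this
    exact left_ne_zero_of_mul_eq_one this
  exact ⟨α, β, H, MvPowerSeries.isUnit_iff_constantCoeff.mpr (isUnit_iff_ne_zero.mpr hH0),
    hα0, hβ0, hH.symm⟩

end Reg

theorem two_inv_PS (h2 : (2 : k) ≠ 0) :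
    (2 : PowerSeries k) * PowerSeries.C (2⁻¹ : k) = 1 := by
  rw [show (2 : PowerSeries k) = PowerSeries.C (2 : k) by simp [map_ofNat], ← map_mul,
    mul_inv_cancel₀ h2, map_one]

theorem span_pair_le_of (a b : PS k) (ha : X 0 ∈ Ideal.span {a, b}) (hb : X 1 ∈ Ideal.span {a, b}) :
    maximalIdeal (PS k) ≤ Ideal.span {a, b} ⊔ maximalIdeal (PS k) ^ 2 := by
  refine le_trans ?_ le_sup_left
  rw [maximalIdeal_P_pair, Ideal.span_le]
  rintro z (rfl | rfl)
  · exact ha
  · exact hb

/-- classification of `y`-regular series of order two -/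
theorem reg_main [IsAlgClosed k] (h2 : (2 : k) ≠ 0) (F : PS k) (u : PowerSeries k) (hu : IsUnit u)
    (hreg : eps F = PowerSeries.X ^ 2 * u) :
    (∃ n : ℕ, Nonempty ((PS k ⧸ Ideal.span {F}) ≃ₐ[k] ArSing.ring k n)) ∨
      Nonempty ((PS k ⧸ Ideal.span {F}) ≃ₐ[k] (PS k ⧸ Ideal.span {(X 1 : PS k) ^ 2})) := by
  haveI := complete_P (k := k)
  obtain ⟨α, β, H, hH, hα0, hβ0, hG⟩ := exists_weier F u hu hreg
  -- step 1
  obtain ⟨H', hH'⟩ := hH.exists_left_inv
  obtain ⟨s1⟩ := quot_equiv_of_hom (AlgHom.id k (PS k)) Function.bijective_id F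
    (X 1 ^ 2 - io 0 α - io 0 β * X 1) H' (IsUnit.of_mul_eq_one H hH') (by
      rw [hG, ← mul_assoc, hH', one_mul]; rfl)
  -- step 2 : complete the square
  obtain ⟨b, hb⟩ : ∃ b : PowerSeries k, b = PowerSeries.C (2⁻¹ : k) * β := ⟨_, rfl⟩
  have hb2 : β = 2 * b := by
    rw [hb, ← mul_assoc, two_inv_PS h2, one_mul]
  have hb0 : PowerSeries.constantCoeff b = 0 := by
    rw [hb, map_mul, hβ0, mul_zero]
  obtain ⟨b', hb'⟩ := io_mem 0 b hb0
  obtain ⟨Φ1, hΦ1⟩ := exists_hom_P (k := k) (T := PS k) ![X 0, X 1 + io 0 b] (by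
    intro i
    fin_cases i
    · change X 0 ∈ _
      rw [mem_maximalIdeal_P, constantCoeff_X]
    · change X 1 + io 0 b ∈ _
      rw [mem_maximalIdeal_P, map_add, constantCoeff_X, hb', map_mul, constantCoeff_X, zero_mul,
        add_zero])
  have hΦ10 : Φ1 (X 0) = X 0 := by simpa using hΦ1 0
  have hΦ11 : Φ1 (X 1) = X 1 + io 0 b := by simpa using hΦ1 1
  have hΦ1bij : Function.Bijective Φ1 := by
    refine bijective_P Φ1 ?_ ?_
    · intro i
      fin_cases i
      · change Φ1 (X 0) ∈ _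
        rw [hΦ10, mem_maximalIdeal_P, constantCoeff_X]
      · change Φ1 (X 1) ∈ _
        rw [hΦ11, mem_maximalIdeal_P, map_add, constantCoeff_X, hb', map_mul, constantCoeff_X,
          zero_mul, add_zero]
    · rw [hΦ10, hΦ11]
      refine span_pair_le_of _ _ ?_ ?_
      · exact Ideal.subset_span (Set.mem_insert _ _)
      · rw [Ideal.mem_span_pair]
        exact ⟨-io 0 b', 1, by rw [hb']; ring⟩
  obtain ⟨γ, hγ⟩ : ∃ γ : PowerSeries k, γ = α + β * b - b ^ 2 := ⟨_, rfl⟩
  have hγ0 : PowerSeries.constantCoeff γ = 0 := by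
    rw [hγ, map_sub, map_add, map_mul, map_pow, hα0, hβ0, hb0]; ring
  obtain ⟨s2⟩ := quot_equiv_of_hom Φ1 hΦ1bij (X 1 ^ 2 - io 0 α - io 0 β * X 1)
    (X 1 ^ 2 - io 0 γ) 1 isUnit_one (by
      rw [map_sub, map_sub, map_mul, map_pow, hΦ11, io_comp Φ1 0 hΦ10, io_comp Φ1 0 hΦ10, hγ,
        map_sub, map_add, map_mul, map_pow]
      have hBt : io 0 β = 2 * io 0 b := by
        rw [hb2, map_mul, map_ofNat]
      linear_combination (-(X 1 : PS k)) * hBt)
  by_cases hγz : γ = 0
  · right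
    have e : (X 1 : PS k) ^ 2 - io 0 γ = X 1 ^ 2 := by rw [hγz, map_zero, sub_zero]
    rw [e] at s2
    exact ⟨s1.trans s2⟩
  · left
    have hdecomp := PowerSeries.X_pow_order_mul_divXPowOrder (f := γ)
    obtain ⟨v, hv⟩ : ∃ v : PowerSeries k, v = PowerSeries.divXPowOrder γ := ⟨_, rfl⟩
    rw [← hv] at hdecomp
    have hv0 : PowerSeries.constantCoeff v ≠ 0 := by
      rw [hv]
      exact fun h => hγz (PowerSeries.constantCoeff_divXPowOrder_eq_zero_iff.mp h)
    have hm : γ.order.toNat ≠ 0 := by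
      intro hm
      rw [hm, pow_zero, one_mul] at hdecomp
      rw [← hdecomp] at hγ0
      exact hv0 hγ0
    obtain ⟨n, hn⟩ := Nat.exists_eq_succ_of_ne_zero hm
    rw [hn] at hdecomp
    obtain ⟨w, hw⟩ := exists_sqrt h2 v hv0
    have hw0 : PowerSeries.constantCoeff w ≠ 0 := by
      intro h
      apply hv0
      rw [← hw, map_pow, h]; ring
    have hwu : IsUnit w := PowerSeries.isUnit_iff_constantCoeff.mpr (isUnit_iff_ne_zero.mpr hw0)
    obtain ⟨w', hw'⟩ := hwu.exists_right_inv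
    have hw'u : IsUnit w' := IsUnit.of_mul_eq_one_right w hw'
    obtain ⟨Θ, hΘ⟩ := exists_hom_P (k := k) (T := PS k) ![X 0, io 0 w' * X 1] (by
      intro i
      fin_cases i
      · change X 0 ∈ _
        rw [mem_maximalIdeal_P, constantCoeff_X]
      · change io 0 w' * X 1 ∈ _
        rw [mem_maximalIdeal_P, map_mul, constantCoeff_X, mul_zero])
    have hΘ0 : Θ (X 0) = X 0 := by simpa using hΘ 0
    have hΘ1 : Θ (X 1) = io 0 w' * X 1 := by simpa using hΘ 1
    have hWW : io 0 w * io 0 w' = (1 : PS k) := by rw [← map_mul, hw', map_one]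
    have hΘbij : Function.Bijective Θ := by
      refine bijective_P Θ ?_ ?_
      · intro i
        fin_cases i
        · change Θ (X 0) ∈ _
          rw [hΘ0, mem_maximalIdeal_P, constantCoeff_X]
        · change Θ (X 1) ∈ _
          rw [hΘ1, mem_maximalIdeal_P, map_mul, constantCoeff_X, mul_zero]
      · rw [hΘ0, hΘ1]
        refine span_pair_le_of _ _ ?_ ?_
        · exact Ideal.subset_span (Set.mem_insert _ _)
        · rw [Ideal.mem_span_pair]
          exact ⟨0, io 0 w, by linear_combination (X 1 : PS k) * hWW⟩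
    obtain ⟨s3⟩ := quot_equiv_of_hom Θ hΘbij (ArSing.eqn k n) (X 1 ^ 2 - io 0 γ)
      (io 0 (w' ^ 2)) ((hw'u.pow 2).map (io 0)) (by
        have hV : io 0 γ = X 0 ^ (n + 1) * io 0 w ^ 2 := by
          rw [← hdecomp, map_mul, map_pow, io_X, ← hw, map_pow]
        rw [ArSing.eqn, map_sub, map_pow, map_pow, hΘ0, hΘ1, map_pow, hV]
        linear_combination ((X 0 : PS k) ^ (n + 1) * (io 0 w * io 0 w' + 1)) * hWW)
    exact ⟨n, ⟨(s1.trans s2).trans s3.symm⟩⟩

end Groth.Agent.Helper3.DP
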