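import Mathlib
import Groth.Agent.Lib.Helper3.DP3
import Groth.Agent.Lib.Helper3.ArInv3

/-!
# `A_r`-singularities: uniqueness of the normal form, nonzerodivisors, lengths (helper3)
-/

set_option autoImplicit false
set_option linter.style.haveILetI false
universe u

namespace Groth.Agent.Helper3.ArFix

open IsLocalRing MvPowerSeries Groth.Agent.Helper3.NodeAut Groth.Agent.Helper14
  Groth.Agent.Helper3.ArInv Groth.Agent.Helper3.DP

variable {k : Type u} [Field k] (r : ℕ)

theorem exists_nuS (s : k) (hs : s ^ 2 = 1) : ∃ ν : ArSing.ring k r →ₐ[k] PowerSeries k,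
    ν (xr r) = PowerSeries.X ^ 2 ∧ ν (yr r) = PowerSeries.C s * PowerSeries.X ^ (r + 1) :=
  exists_hom_Ar (PowerSeries.X ^ 2) (PowerSeries.C s * PowerSeries.X ^ (r + 1))
    (Ideal.pow_mem_of_mem _ X_mem_max 2 (by norm_num))
    (Ideal.mul_mem_left _ _ (Ideal.pow_mem_of_mem _ X_mem_max _ (by omega)))
    (by rw [mul_pow, ← map_pow, hs, map_one, one_mul]; ring)

theorem two_ne_zero_PS (h2 : (2 : k) ≠ 0) : (2 : PowerSeries k) ≠ 0 := by
  intro h
  have := two_inv_PS h2
  rw [h, zero_mul] at this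
  exact zero_ne_one this

theorem nu_oXr_gen (ν : ArSing.ring k r →ₐ[k] PowerSeries k) (hx : ν (xr r) = PowerSeries.X ^ 2)
    (γ : PowerSeries k) : ν (oXr γ) = sqA γ := by
  have h : ν.comp oXr = sqA := by
    apply hom_ext_PS1
    · change ν (oXr PowerSeries.X) = sqA PowerSeries.X
      rw [oXr_X, hx, sqA_X]
    · change ν (oXr PowerSeries.X) ∈ _
      rw [oXr_X, hx]
      exact Ideal.pow_mem_of_mem _ X_mem_max 2 (by norm_num)
  exact DFunLike.congr_fun h γ

/-- uniqueness of the normal form -/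
theorem nf_uniq (h2 : (2 : k) ≠ 0) {α β : PowerSeries k}
    (h : oXr (r := r) α + oXr β * yr r = 0) : α = 0 ∧ β = 0 := by
  obtain ⟨νP, hPx, hPy⟩ := exists_nuS (k := k) r 1 (by ring)
  obtain ⟨νM, hMx, hMy⟩ := exists_nuS (k := k) r (-1) (by ring)
  have eP : sqA α + sqA β * PowerSeries.X ^ (r + 1) = 0 := by
    have := congrArg νP h
    simp only [map_add, map_mul, nu_oXr_gen r νP hPx, hPy, map_zero, map_one, one_mul] at this
    linear_combination this
  have eM : sqA α - sqA β * PowerSeries.X ^ (r + 1) = 0 := by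
    have := congrArg νM h
    simp only [map_add, map_mul, nu_oXr_gen r νM hMx, hMy, map_zero, map_neg, map_one] at this
    linear_combination this
  have hα2 : sqA α * 2 = 0 := by linear_combination eP + eM
  have hα : sqA α = 0 := by
    rcases mul_eq_zero.mp hα2 with h' | h'
    · exact h'
    · exact absurd h' (two_ne_zero_PS h2)
  have hβ' : sqA β * PowerSeries.X ^ (r + 1) = 0 := by linear_combination eP - hα
  have hβ : sqA β = 0 := by
    rcases mul_eq_zero.mp hβ' with h' | h'
    · exact h'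
    · exact absurd h' (pow_ne_zero _ PowerSeries.X_ne_zero)
  constructor
  · apply sqA_injective
    rw [hα, map_zero]
  · apply sqA_injective
    rw [hβ, map_zero]

theorem nf_ext (h2 : (2 : k) ≠ 0) {α β α' β' : PowerSeries k}
    (h : oXr (r := r) α + oXr β * yr r = oXr α' + oXr β' * yr r) : α = α' ∧ β = β' := by
  have h' : oXr (r := r) (α - α') + oXr (β - β') * yr r = 0 := by
    rw [map_sub, map_sub]; linear_combination h
  obtain ⟨h1, h2'⟩ := nf_uniq r h2 h'
  exact ⟨sub_eq_zero.mp h1, sub_eq_zero.mp h2'⟩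

theorem xMap_eq : ArSing.xMap k r = oXr := by
  apply hom_ext_PS1
  · rw [ArSing.xMap, AlgHom.comp_apply, PowerSeries.substAlgHom_X, oXr_X]
    rfl
  · rw [ArSing.xMap, AlgHom.comp_apply, PowerSeries.substAlgHom_X]
    exact xr_mem r

theorem fix_oXr (σ : ArSing.ring k r ≃ₐ[k] ArSing.ring k r) (hx : σ (xr r) = xr r)
    (γ : PowerSeries k) : σ (oXr γ) = oXr γ := by
  have h : (σ : ArSing.ring k r →ₐ[k] ArSing.ring k r).comp oXr = oXr := by
    apply hom_ext_PS1
    · change σ (oXr PowerSeries.X) = oXr PowerSeries.X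
      rw [oXr_X, hx]
    · change σ (oXr PowerSeries.X) ∈ _
      rw [oXr_X, hx]
      exact xr_mem r
  exact DFunLike.congr_fun h γ

theorem yr_mul_nf (α β : PowerSeries k) : (oXr (r := r) α + oXr β * yr r) * yr r =
    oXr (β * PowerSeries.X ^ (r + 1)) + oXr α * yr r := by
  rw [map_mul, map_pow, oXr_X]
  linear_combination oXr β * yr_sq (k := k) r

theorem xr_mul_nf (α β : PowerSeries k) : (oXr (r := r) α + oXr β * yr r) * xr r =
    oXr (α * PowerSeries.X) + oXr (β * PowerSeries.X) * yr r := by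
  rw [map_mul, map_mul, oXr_X]
  ring

theorem yr_mem_nzd (h2 : (2 : k) ≠ 0) : yr r ∈ nonZeroDivisors (ArSing.ring k r) := by
  rw [mem_nonZeroDivisors_iff_right]
  intro z hz
  obtain ⟨α, β, rfl⟩ := exists_nf z
  rw [yr_mul_nf] at hz
  obtain ⟨h1, h2'⟩ := nf_uniq r h2 hz
  have hβ : β = 0 := by
    rcases mul_eq_zero.mp h1 with h' | h'
    · exact h'
    · exact absurd h' (pow_ne_zero _ PowerSeries.X_ne_zero)
  rw [h2', hβ, map_zero, zero_mul, add_zero]

theorem xr_mem_nzd (h2 : (2 : k) ≠ 0) : xr r ∈ nonZeroDivisors (ArSing.ring k r) := by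
  rw [mem_nonZeroDivisors_iff_right]
  intro z hz
  obtain ⟨α, β, rfl⟩ := exists_nf z
  rw [xr_mul_nf] at hz
  obtain ⟨h1, h2'⟩ := nf_uniq r h2 hz
  have hα : α = 0 := by
    rcases mul_eq_zero.mp h1 with h' | h'
    · exact h'
    · exact absurd h' PowerSeries.X_ne_zero
  have hβ : β = 0 := by
    rcases mul_eq_zero.mp h2' with h' | h'
    · exact h'
    · exact absurd h' PowerSeries.X_ne_zero
  rw [hα, hβ, map_zero, zero_mul, add_zero]

/-- length of a quotient of a ring which is a quotient of `k[[t]]` by `t^n` -/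
theorem length_eq_of_surj {A : Type u} [CommRing A] (I : Ideal A)
    (ι : PowerSeries k →+* A) (n : ℕ)
    (hsurj : ∀ a, ∃ γ, a - ι γ ∈ I)
    (hker : ∀ γ, ι γ ∈ I ↔ (PowerSeries.X : PowerSeries k) ^ n ∣ γ) :
    Module.length A (A ⧸ I) = n := by
  letI : Algebra (PowerSeries k) (A ⧸ I) :=
    RingHom.toAlgebra (R := PowerSeries k) (S := A ⧸ I) ((Ideal.Quotient.mk I).comp ι)
  have halg : ∀ γ : PowerSeries k, algebraMap (PowerSeries k) (A ⧸ I) γ =
      Ideal.Quotient.mk I (ι γ) := by
    intro γ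
    rfl
  have hs1 : Function.Surjective (algebraMap A (A ⧸ I)) :=
    Ideal.Quotient.mk_surjective
  have hs2 : Function.Surjective (algebraMap (PowerSeries k) (A ⧸ I)) := by
    intro b
    obtain ⟨a, rfl⟩ := Ideal.Quotient.mk_surjective b
    obtain ⟨γ, hγ⟩ := hsurj a
    exact ⟨γ, by rw [halg]; exact (Ideal.Quotient.eq.mpr hγ).symm⟩
  rw [Module.length_eq_of_surjective (R := A ⧸ I) (M := A ⧸ I) hs1,
    ← Module.length_eq_of_surjective (S := PowerSeries k) (R := A ⧸ I)
      (M := A ⧸ I) hs2]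
  let f : PowerSeries k →ₗ[PowerSeries k] (A ⧸ I) := Algebra.linearMap _ _
  have hf : Function.Surjective f := hs2
  have hk : LinearMap.ker f = (maximalIdeal (PowerSeries k) ^ n : Ideal (PowerSeries k)) := by
    ext γ
    rw [LinearMap.mem_ker]
    change algebraMap _ (A ⧸ I) γ = 0 ↔ _
    rw [halg, Ideal.Quotient.eq_zero_iff_mem, hker, PowerSeries.maximalIdeal_eq_span_X,
      Ideal.span_singleton_pow, Ideal.mem_span_singleton]
  rw [← (f.quotKerEquivOfSurjective hf).length_eq, hk]
  exact IsDiscreteValuationRing.length_quotient_pow_maximalIdeal (PowerSeries k) n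

end Groth.Agent.Helper3.ArFix
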