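import Mathlib
import Groth.Agent.Lib.Helper3.ArFix1

/-!
# `A_r`-singularities: the involution `y ↦ -y` (helper3)
-/

set_option autoImplicit false
set_option linter.style.haveILetI false
universe u

namespace Groth.Agent.Helper3.ArFix

open IsLocalRing MvPowerSeries Groth.Agent.Helper3.NodeAut Groth.Agent.Helper14
  Groth.Agent.Helper3.ArInv Groth.Agent.Helper3.DP

/-- a ring map making the target free on `1, y` is flat -/
theorem flat_of_basis2 {R A : Type u} [CommRing R] [CommRing A] (f : R →+* A) (y : A)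
    (hsurj : ∀ a, ∃ α β, a = f α + f β * y)
    (hinj : ∀ α β, f α + f β * y = 0 → α = 0 ∧ β = 0) : f.Flat := by
  letI := f.toAlgebra
  have hsm : ∀ (α : R) (z : A), α • z = f α * z := by
    intro α z
    rw [Algebra.smul_def]
    rfl
  let g : (R × R) →ₗ[R] A :=
    (LinearMap.toSpanSingleton R A 1).coprod (LinearMap.toSpanSingleton R A y)
  have hg : ∀ p : R × R, g p = f p.1 + f p.2 * y := by
    intro p
    simp only [g, LinearMap.coprod_apply, LinearMap.toSpanSingleton_apply, hsm, mul_one]
  have hbij : Function.Bijective g := by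
    constructor
    · rw [← LinearMap.ker_eq_bot, LinearMap.ker_eq_bot']
      intro p hp
      rw [hg] at hp
      obtain ⟨h1, h2⟩ := hinj _ _ hp
      exact Prod.ext h1 h2
    · intro a
      obtain ⟨α, β, rfl⟩ := hsurj a
      exact ⟨(α, β), hg _⟩
  have : Module.Flat R A := Module.Flat.of_linearEquiv (LinearEquiv.ofBijective g hbij).symm
  exact this

variable {k : Type u} [Field k] (r : ℕ)

theorem alg_half (h2 : (2 : k) ≠ 0) : algebraMap k (ArSing.ring k r) 2⁻¹ * 2 = 1 := by
  rw [← map_ofNat (algebraMap k (ArSing.ring k r)) 2, ← map_mul, inv_mul_cancel₀ h2, map_one]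

theorem oXr_mem_max (γ : PowerSeries k) (hγ : γ ∈ maximalIdeal (PowerSeries k)) :
    oXr (r := r) γ ∈ maximalIdeal (ArSing.ring k r) := by
  rw [mem_max_PS1] at hγ
  obtain ⟨c, γ₁, rfl⟩ := ps_decomp1 γ
  have hc : c = 0 := by simpa using hγ
  rw [hc, map_zero, zero_add, map_mul, oXr_X]
  exact Ideal.mul_mem_right _ _ (xr_mem r)

theorem main_negY (h2 : (2 : k) ≠ 0) (σ : ArSing.ring k r ≃ₐ[k] ArSing.ring k r)
    (hx : σ (xr r) = xr r) (hy : σ (yr r) = -yr r) :
    (∀ a : ArSing.ring k r, σ a = a ↔ a ∈ (ArSing.xMap k r).range) ∧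
    ((ArSing.xMap k r).toRingHom.Flat ∧
      Ideal.map (ArSing.xMap k r) (IsLocalRing.maximalIdeal (PowerSeries k)) ≠ ⊤) ∧
    (∃ g : ArSing.ring k r, g ∈ nonZeroDivisors (ArSing.ring k r) ∧
      Ideal.span (Set.range fun a : ArSing.ring k r => σ a - a) = Ideal.span {g}) ∧
    Module.length (ArSing.ring k r)
      (ArSing.ring k r ⧸ Ideal.span (Set.range fun a : ArSing.ring k r => σ a - a)) = r + 1 := by
  have hσnf : ∀ α β : PowerSeries k,
      σ (oXr α + oXr β * yr r) = oXr α - oXr β * yr r := by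
    intro α β
    rw [map_add, map_mul, fix_oXr r σ hx, fix_oXr r σ hx, hy]
    ring
  have hspan : Ideal.span (Set.range fun a : ArSing.ring k r => σ a - a) =
      Ideal.span {yr r} := by
    apply le_antisymm
    · rw [Ideal.span_le]
      rintro _ ⟨a, rfl⟩
      obtain ⟨α, β, rfl⟩ := exists_nf a
      change σ (oXr α + oXr β * yr r) - (oXr α + oXr β * yr r) ∈ _
      rw [hσnf, SetLike.mem_coe, Ideal.mem_span_singleton']
      exact ⟨-(2 * oXr β), by ring⟩
    · rw [Ideal.span_le, Set.singleton_subset_iff, SetLike.mem_coe]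
      have h1 : σ (yr r) - yr r ∈ Ideal.span (Set.range fun a : ArSing.ring k r => σ a - a) :=
        Ideal.subset_span ⟨yr r, rfl⟩
      have h2' : yr r = algebraMap k _ (-(2⁻¹ : k)) * (σ (yr r) - yr r) := by
        rw [hy, map_neg]
        linear_combination (-(yr r)) * alg_half r h2
      rw [h2']
      exact Ideal.mul_mem_left _ _ h1
  refine ⟨?_, ⟨?_, ?_⟩, ⟨yr r, yr_mem_nzd r h2, hspan⟩, ?_⟩
  · intro a
    obtain ⟨α, β, rfl⟩ := exists_nf a
    rw [hσnf, xMap_eq, AlgHom.mem_range]
    constructor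
    · intro h
      have h' : oXr (r := r) 0 + oXr (2 * β) * yr r = 0 := by
        rw [map_zero, map_mul, map_ofNat]
        linear_combination -h
      obtain ⟨_, hβ2⟩ := nf_uniq r h2 h'
      have hβ : β = 0 := (mul_eq_zero.mp hβ2).resolve_left (two_ne_zero_PS h2)
      rw [hβ, map_zero, zero_mul, add_zero]
      exact ⟨α, rfl⟩
    · rintro ⟨γ, hγ⟩
      have := nf_ext r h2 (α := γ) (β := 0) (α' := α) (β' := β) (by
        rw [map_zero, zero_mul, add_zero]; exact hγ)
      obtain ⟨_, hβ⟩ := this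
      rw [← hβ, map_zero, zero_mul, add_zero, sub_zero]
  · rw [xMap_eq]
    refine flat_of_basis2 (oXr (r := r) : PowerSeries k →ₐ[k] ArSing.ring k r).toRingHom (yr r) ?_ ?_
    · intro a
      obtain ⟨α, β, rfl⟩ := exists_nf a
      exact ⟨α, β, rfl⟩
    · intro α β h
      exact nf_uniq r h2 h
  · intro htop
    have hle : Ideal.map (ArSing.xMap k r) (maximalIdeal (PowerSeries k)) ≤
        maximalIdeal (ArSing.ring k r) := by
      rw [Ideal.map_le_iff_le_comap]
      intro γ hγ
      rw [Ideal.mem_comap, xMap_eq]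
      exact oXr_mem_max r γ hγ
    rw [htop] at hle
    exact (Ideal.IsMaximal.ne_top (inferInstance : (maximalIdeal (ArSing.ring k r)).IsMaximal))
      (top_le_iff.mp hle)
  · rw [hspan]
    have := length_eq_of_surj (k := k) (Ideal.span {yr r})
      (oXr (r := r) : PowerSeries k →ₐ[k] ArSing.ring k r).toRingHom (r + 1) ?_ ?_
    · rw [this]
      push_cast
      rfl
    · intro a
      obtain ⟨α, β, rfl⟩ := exists_nf a
      refine ⟨α, ?_⟩
      rw [Ideal.mem_span_singleton']
      exact ⟨oXr β, by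
        change oXr β * yr r = oXr α + oXr β * yr r - oXr α
        ring⟩
    · intro γ
      change oXr γ ∈ Ideal.span {yr r} ↔ _
      constructor
      · intro h
        obtain ⟨z, hz⟩ := Ideal.mem_span_singleton'.mp h
        obtain ⟨α, β, rfl⟩ := exists_nf z
        rw [yr_mul_nf] at hz
        have := nf_ext r h2 (α := β * PowerSeries.X ^ (r + 1)) (β := α) (α' := γ) (β' := 0) (by
          rw [map_zero, zero_mul, add_zero]; exact hz)
        obtain ⟨h1, _⟩ := this
        exact Dvd.intro_left β h1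
      · rintro ⟨δ, rfl⟩
        rw [Ideal.mem_span_singleton', map_mul, map_pow, oXr_X, ← yr_sq]
        exact ⟨yr r * oXr δ, by ring⟩

end Groth.Agent.Helper3.ArFix
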