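import Mathlib
import Groth.Agent.Lib.Helper3.ArFix2

/-!
# `A_r`-singularities: the involution `x ↦ -x`, `y ↦ y` (helper3)
-/

set_option autoImplicit false
set_option linter.style.haveILetI false
universe u

namespace Groth.Agent.Helper3.ArFix

open IsLocalRing MvPowerSeries Groth.Agent.Helper3.NodeAut Groth.Agent.Helper14
  Groth.Agent.Helper3.ArInv Groth.Agent.Helper3.DP

variable {k : Type u} [Field k] (r' r : ℕ)

theorem negA_sqA (g : PowerSeries k) : negA (sqA g) = sqA g := by
  ext n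
  rw [coeff_negA, coeff_sqA]
  split_ifs with hn
  · obtain ⟨j, rfl⟩ := hn
    rw [pow_mul]
    norm_num
  · rw [mul_zero]

theorem neg_oXr (σ : ArSing.ring k r ≃ₐ[k] ArSing.ring k r) (hx : σ (xr r) = -xr r)
    (γ : PowerSeries k) : σ (oXr γ) = oXr (negA γ) := by
  have h : (σ : ArSing.ring k r →ₐ[k] ArSing.ring k r).comp oXr = oXr.comp negA := by
    apply hom_ext_PS1
    · change σ (oXr PowerSeries.X) = oXr (negA PowerSeries.X)
      rw [oXr_X, hx, negA_X, map_neg, oXr_X]
    · change σ (oXr PowerSeries.X) ∈ _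
      rw [oXr_X, hx]
      exact neg_mem (xr_mem r)
  exact DFunLike.congr_fun h γ

theorem phi_oXr (φ : ArSing.ring k r' →ₐ[k] ArSing.ring k r) (hφx : φ (xr r') = xr r ^ 2)
    (γ : PowerSeries k) : φ (oXr γ) = oXr (sqA γ) := by
  have h : φ.comp oXr = oXr.comp sqA := by
    apply hom_ext_PS1
    · change φ (oXr PowerSeries.X) = oXr (sqA PowerSeries.X)
      rw [oXr_X, hφx, sqA_X, map_pow, oXr_X]
    · change φ (oXr PowerSeries.X) ∈ _
      rw [oXr_X, hφx]
      exact Ideal.pow_mem_of_mem _ (xr_mem r) 2 (by norm_num)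
  exact DFunLike.congr_fun h γ

theorem constantCoeff_negA (γ : PowerSeries k) :
    PowerSeries.constantCoeff (negA γ) = PowerSeries.constantCoeff γ := by
  rw [← PowerSeries.coeff_zero_eq_constantCoeff_apply, coeff_negA, pow_zero, one_mul,
    PowerSeries.coeff_zero_eq_constantCoeff_apply]

theorem negA_sub_dvd (γ : PowerSeries k) : ∃ δ, negA γ - γ = PowerSeries.X * δ := by
  obtain ⟨c, δ, h⟩ := ps_decomp1 (negA γ - γ)
  have hc : c = 0 := by
    have := congrArg PowerSeries.constantCoeff h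
    rw [map_sub, map_add, map_mul, PowerSeries.constantCoeff_X, zero_mul, add_zero,
      PowerSeries.constantCoeff_C, constantCoeff_negA, sub_self] at this
    exact this.symm
  exact ⟨δ, by rw [h, hc, map_zero, zero_add]⟩

theorem hom_C (ι : PowerSeries k →ₐ[k] ArSing.ring k r) (c : k) :
    ι (PowerSeries.C c) = algebraMap k _ c := by
  have : (PowerSeries.C c : PowerSeries k) = algebraMap k (PowerSeries k) c := rfl
  rw [this, AlgHom.commutes]

theorem C_eq_X_mul {c : k} {δ : PowerSeries k} (h : PowerSeries.C c = δ * PowerSeries.X) :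
    c = 0 := by
  have := congrArg PowerSeries.constantCoeff h
  rw [PowerSeries.constantCoeff_C, map_mul, PowerSeries.constantCoeff_X, mul_zero] at this
  exact this

theorem main_negX (h2 : (2 : k) ≠ 0) (σ : ArSing.ring k r ≃ₐ[k] ArSing.ring k r)
    (hx : σ (xr r) = -xr r) (hy : σ (yr r) = yr r)
    (φ : ArSing.ring k r' →ₐ[k] ArSing.ring k r) (hφx : φ (xr r') = xr r ^ 2)
    (hφy : φ (yr r') = yr r) :
    (∀ a : ArSing.ring k r, σ a = a ↔ a ∈ φ.range) ∧
    (φ.toRingHom.Flat ∧ ∀ I : Ideal (ArSing.ring k r'), I.IsMaximal → Ideal.map φ I ≠ ⊤) ∧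
    (∃ g : ArSing.ring k r, g ∈ nonZeroDivisors (ArSing.ring k r) ∧
      Ideal.span (Set.range fun a : ArSing.ring k r => σ a - a) = Ideal.span {g}) ∧
    Module.length (ArSing.ring k r)
      (ArSing.ring k r ⧸ Ideal.span (Set.range fun a : ArSing.ring k r => σ a - a)) = 2 := by
  have hσnf : ∀ α β : PowerSeries k,
      σ (oXr α + oXr β * yr r) = oXr (negA α) + oXr (negA β) * yr r := by
    intro α β
    rw [map_add, map_mul, neg_oXr r σ hx, neg_oXr r σ hx, hy]
  have hφnf : ∀ α β : PowerSeries k,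
      φ (oXr α + oXr β * yr r') = oXr (sqA α) + oXr (sqA β) * yr r := by
    intro α β
    rw [map_add, map_mul, phi_oXr r' r φ hφx, phi_oXr r' r φ hφx, hφy]
  have hspan : Ideal.span (Set.range fun a : ArSing.ring k r => σ a - a) =
      Ideal.span {xr r} := by
    apply le_antisymm
    · rw [Ideal.span_le]
      rintro _ ⟨a, rfl⟩
      obtain ⟨α, β, rfl⟩ := exists_nf a
      change σ (oXr α + oXr β * yr r) - (oXr α + oXr β * yr r) ∈ _
      obtain ⟨δ₁, hδ₁⟩ := negA_sub_dvd α
      obtain ⟨δ₂, hδ₂⟩ := negA_sub_dvd β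
      rw [hσnf, SetLike.mem_coe, Ideal.mem_span_singleton']
      refine ⟨oXr δ₁ + oXr δ₂ * yr r, ?_⟩
      have e1 : oXr (r := r) (negA α) - oXr α = xr r * oXr δ₁ := by
        rw [← map_sub, hδ₁, map_mul, oXr_X]
      have e2 : oXr (r := r) (negA β) - oXr β = xr r * oXr δ₂ := by
        rw [← map_sub, hδ₂, map_mul, oXr_X]
      linear_combination -e1 - yr r * e2
    · rw [Ideal.span_le, Set.singleton_subset_iff, SetLike.mem_coe]
      have h1 : σ (xr r) - xr r ∈ Ideal.span (Set.range fun a : ArSing.ring k r => σ a - a) :=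
        Ideal.subset_span ⟨xr r, rfl⟩
      have h2' : xr r = algebraMap k _ (-(2⁻¹ : k)) * (σ (xr r) - xr r) := by
        rw [hx, map_neg]
        linear_combination (-(xr r)) * alg_half r h2
      rw [h2']
      exact Ideal.mul_mem_left _ _ h1
  refine ⟨?_, ⟨?_, ?_⟩, ⟨xr r, xr_mem_nzd r h2, hspan⟩, ?_⟩
  · intro a
    obtain ⟨α, β, rfl⟩ := exists_nf a
    rw [hσnf, AlgHom.mem_range]
    constructor
    · intro h
      obtain ⟨h1, h2'⟩ := nf_ext r h2 h
      obtain ⟨α', hα', _⟩ := exists_sqA_of_negA_eq h2 α h1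
      obtain ⟨β', hβ', _⟩ := exists_sqA_of_negA_eq h2 β h2'
      exact ⟨oXr α' + oXr β' * yr r', by rw [hφnf, hα', hβ']⟩
    · rintro ⟨b, hb⟩
      obtain ⟨α', β', rfl⟩ := exists_nf b
      rw [hφnf] at hb
      obtain ⟨h1, h2'⟩ := nf_ext r h2 hb
      rw [← h1, ← h2', negA_sqA, negA_sqA]
  · refine flat_of_basis2 φ.toRingHom (xr r) ?_ ?_
    · intro a
      obtain ⟨α, β, rfl⟩ := exists_nf a
      refine ⟨oXr (evP α) + oXr (evP β) * yr r', oXr (odP α) + oXr (odP β) * yr r', ?_⟩
      change _ = φ (oXr (evP α) + oXr (evP β) * yr r') +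
        φ (oXr (odP α) + oXr (odP β) * yr r') * xr r
      rw [hφnf, hφnf]
      conv_lhs => rw [ev_od α, ev_od β]
      rw [map_add, map_add, map_mul, map_mul, oXr_X]
      ring
    · intro b c h
      change φ b + φ c * xr r = 0 at h
      obtain ⟨α₁, β₁, rfl⟩ := exists_nf b
      obtain ⟨α₂, β₂, rfl⟩ := exists_nf c
      rw [hφnf, hφnf] at h
      have h' : oXr (r := r) (sqA α₁ + PowerSeries.X * sqA α₂) +
          oXr (sqA β₁ + PowerSeries.X * sqA β₂) * yr r = 0 := by
        rw [map_add, map_add, map_mul, map_mul, oXr_X]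
        linear_combination h
      obtain ⟨e1, e2⟩ := nf_uniq r h2 h'
      obtain ⟨a1, a2⟩ := ev_od_zero e1
      obtain ⟨b1, b2⟩ := ev_od_zero e2
      rw [a1, a2, b1, b2]
      simp
  · intro I hI htop
    rw [IsLocalRing.eq_maximalIdeal hI] at htop
    have hle : Ideal.map φ (maximalIdeal (ArSing.ring k r')) ≤ maximalIdeal (ArSing.ring k r) := by
      rw [maximalIdeal_Ar, Ideal.map_span, Ideal.span_le, Set.image_pair]
      rintro z (rfl | rfl)
      · rw [hφx]
        exact Ideal.pow_mem_of_mem _ (xr_mem r) 2 (by norm_num)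
      · rw [hφy]
        exact yr_mem r
    rw [htop] at hle
    exact (Ideal.IsMaximal.ne_top (inferInstance : (maximalIdeal (ArSing.ring k r)).IsMaximal))
      (top_le_iff.mp hle)
  · rw [hspan]
    obtain ⟨ι, hι⟩ := exists_hom_PS1 (k := k) (T := ArSing.ring k r) (yr r) (yr_mem r)
    have := length_eq_of_surj (k := k) (Ideal.span {xr r}) ι.toRingHom 2 ?_ ?_
    · rw [this]
      rfl
    · intro a
      obtain ⟨α, β, rfl⟩ := exists_nf a
      obtain ⟨c, α₁, rfl⟩ := ps_decomp1 α
      obtain ⟨d, β₁, rfl⟩ := ps_decomp1 β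
      refine ⟨PowerSeries.C c + PowerSeries.C d * PowerSeries.X, ?_⟩
      rw [Ideal.mem_span_singleton']
      refine ⟨oXr α₁ + oXr β₁ * yr r, ?_⟩
      change _ = _ - ι (PowerSeries.C c + PowerSeries.C d * PowerSeries.X)
      simp only [map_add, map_mul, hι, hom_C r ι, oXr_X, oXr_C]
      ring
    · intro γ
      change ι γ ∈ Ideal.span {xr r} ↔ _
      constructor
      · intro h
        obtain ⟨c, d, γ₂, rfl⟩ := ps_decomp2 γ
        have hy2 : yr r ^ 2 ∈ Ideal.span {xr (k := k) r} := by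
          rw [yr_sq, pow_succ]
          exact Ideal.mul_mem_left _ _ (Ideal.subset_span (Set.mem_singleton _))
        have h3 : algebraMap k (ArSing.ring k r) c + algebraMap k _ d * yr r ∈
            Ideal.span {xr (k := k) r} := by
          have e : algebraMap k (ArSing.ring k r) c + algebraMap k _ d * yr r =
              ι (PowerSeries.C c + PowerSeries.C d * PowerSeries.X + PowerSeries.X ^ 2 * γ₂) -
                yr r ^ 2 * ι γ₂ := by
            simp only [map_add, map_mul, map_pow, hι, hom_C r ι]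
            ring
          rw [e]
          exact Ideal.sub_mem _ h (Ideal.mul_mem_right _ _ hy2)
        obtain ⟨z, hz⟩ := Ideal.mem_span_singleton'.mp h3
        obtain ⟨α, β, rfl⟩ := exists_nf z
        rw [xr_mul_nf, ← oXr_C, ← oXr_C] at hz
        obtain ⟨e1, e2⟩ := nf_ext r h2 hz
        have hc : c = 0 := C_eq_X_mul e1.symm
        have hd : d = 0 := C_eq_X_mul e2.symm
        rw [hc, hd, map_zero, zero_mul, zero_add, zero_add]
        exact Dvd.intro _ rfl
      · rintro ⟨δ, rfl⟩
        rw [Ideal.mem_span_singleton', map_mul, map_pow, hι, yr_sq, pow_succ]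
        exact ⟨xr r ^ r * ι δ, by ring⟩

end Groth.Agent.Helper3.ArFix
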