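import Mathlib
import Groth.Agent.Lib.Helper3.ArFix3

/-!
# `A_r`-singularities: the involution `x ↦ -x`, `y ↦ -y` (helper3)
-/

set_option autoImplicit false
set_option linter.style.haveILetI false
universe u

namespace Groth.Agent.Helper3.ArFix

open IsLocalRing MvPowerSeries Groth.Agent.Helper3.NodeAut Groth.Agent.Helper14
  Groth.Agent.Helper3.ArInv Groth.Agent.Helper3.DP

/-- a non-trivial relation obstructs flatness -/
theorem not_flat_aux {R A : Type u} [CommRing R] [CommRing A] [IsLocalRing R] (f : R →+* A)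
    (q p : R) (u v : A) (hrel : f q * u = f p * v)
    (hq : ∀ a b : R, q * a = p * b → a ∈ maximalIdeal R) (J : Ideal A)
    (hJ : Ideal.map f (maximalIdeal R) ≤ J) (hu : u ∉ J) : ¬ f.Flat := by
  intro hflat
  letI := f.toAlgebra
  haveI : Module.Flat R A := hflat
  have hsm : ∀ (α : R) (z : A), α • z = f α * z := by
    intro α z
    rw [Algebra.smul_def]
    rfl
  have h : ∑ i : Fin 2, (![q, -p] i) • (![u, v] i) = 0 := by
    rw [Fin.sum_univ_two]
    simp only [Matrix.cons_val_zero, Matrix.cons_val_one, hsm, map_neg]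
    linear_combination hrel
  obtain ⟨κ, a, z, hz, ha⟩ := Module.Flat.isTrivialRelation_of_sum_smul_eq_zero (R := R) (M := A)
    (f := ![q, -p]) (x := ![u, v]) h
  have ha0 : ∀ j, a 0 j ∈ maximalIdeal R := by
    intro j
    have := ha j
    rw [Fin.sum_univ_two] at this
    simp only [Matrix.cons_val_zero, Matrix.cons_val_one] at this
    exact hq (a 0 j) (a 1 j) (by linear_combination this)
  apply hu
  have h0 := hz 0
  simp only [Matrix.cons_val_zero] at h0
  rw [h0]
  refine Ideal.sum_mem _ (fun j _ => ?_)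
  rw [hsm]
  exact Ideal.mul_mem_right _ _ (hJ (Ideal.mem_map_of_mem f (ha0 j)))

variable {k : Type u} [Field k] (r' r : ℕ)

theorem yr_notMem_span_xr (h2 : (2 : k) ≠ 0) : yr r ∉ Ideal.span {xr (k := k) r} := by
  intro h
  obtain ⟨z, hz⟩ := Ideal.mem_span_singleton'.mp h
  obtain ⟨α, β, rfl⟩ := exists_nf z
  rw [xr_mul_nf] at hz
  have hz' : oXr (r := r) (α * PowerSeries.X) + oXr (β * PowerSeries.X) * yr r =
      oXr 0 + oXr 1 * yr r := by rw [hz, map_zero, map_one, zero_add, one_mul]
  obtain ⟨_, e2⟩ := nf_ext r h2 hz'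
  have := congrArg PowerSeries.constantCoeff e2
  rw [map_mul, PowerSeries.constantCoeff_X, mul_zero, map_one] at this
  exact zero_ne_one this

theorem xr_notMem_span_yr (h2 : (2 : k) ≠ 0) (hr : 1 ≤ r) : xr r ∉ Ideal.span {yr (k := k) r} := by
  intro h
  obtain ⟨z, hz⟩ := Ideal.mem_span_singleton'.mp h
  obtain ⟨α, β, rfl⟩ := exists_nf z
  rw [yr_mul_nf] at hz
  have hz' : oXr (r := r) (β * PowerSeries.X ^ (r + 1)) + oXr α * yr r =
      oXr PowerSeries.X + oXr 0 * yr r := by rw [hz, map_zero, zero_mul, add_zero, oXr_X]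
  obtain ⟨e1, _⟩ := nf_ext r h2 hz'
  have := congrArg (PowerSeries.coeff 1) e1
  rw [PowerSeries.coeff_one_X, PowerSeries.coeff_mul_X_pow', if_neg (by omega)] at this
  exact zero_ne_one this

theorem one_notMem_max : (1 : ArSing.ring k r) ∉ maximalIdeal (ArSing.ring k r) := by
  rw [IsLocalRing.mem_maximalIdeal, mem_nonunits_iff, not_not]
  exact isUnit_one

theorem xr_notMem_span_sq (h2 : (2 : k) ≠ 0) :
    xr r ∉ Ideal.span {xr (k := k) r ^ 2, xr r * yr r} := by
  intro h
  obtain ⟨c, d, hcd⟩ := Ideal.mem_span_pair.mp h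
  have h0 : (1 - (c * xr r + d * yr r)) * xr r = 0 := by linear_combination -hcd
  have hx := xr_mem_nzd (k := k) r h2
  rw [mem_nonZeroDivisors_iff_right] at hx
  have h1 := hx _ h0
  have h3 : (1 : ArSing.ring k r) ∈ maximalIdeal (ArSing.ring k r) := by
    have e : c * xr r + d * yr r = (1 : ArSing.ring k r) := (sub_eq_zero.mp h1).symm
    have hm : c * xr r + d * yr r ∈ maximalIdeal (ArSing.ring k r) :=
      Ideal.add_mem _ (Ideal.mul_mem_left _ _ (xr_mem r)) (Ideal.mul_mem_left _ _ (yr_mem r))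
    rw [e] at hm
    exact hm
  exact one_notMem_max r h3

theorem exists_odd_of_negA_eq_neg (h2 : (2 : k) ≠ 0) (g : PowerSeries k) (hg : negA g = -g) :
    ∃ h : PowerSeries k, g = PowerSeries.X * sqA h := by
  obtain ⟨c, g₁, rfl⟩ := ps_decomp1 g
  have hc : c = 0 := by
    have := congrArg PowerSeries.constantCoeff hg
    rw [constantCoeff_negA, map_neg, map_add, map_mul, PowerSeries.constantCoeff_X, zero_mul,
      add_zero, PowerSeries.constantCoeff_C] at this
    have h3 : (2 : k) * c = 0 := by linear_combination this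
    exact (mul_eq_zero.mp h3).resolve_left h2
  rw [hc, map_zero, zero_add] at hg ⊢
  rw [map_mul, negA_X] at hg
  have h4 : PowerSeries.X * (negA g₁ - g₁) = 0 := by linear_combination -hg
  have h5 : negA g₁ = g₁ :=
    sub_eq_zero.mp ((mul_eq_zero.mp h4).resolve_left PowerSeries.X_ne_zero)
  obtain ⟨h, hh, _⟩ := exists_sqA_of_negA_eq h2 g₁ h5
  exact ⟨h, by rw [hh]⟩

theorem main_negXY (h2 : (2 : k) ≠ 0) (hr : 1 ≤ r) (σ : ArSing.ring k r ≃ₐ[k] ArSing.ring k r)
    (hx : σ (xr r) = -xr r) (hy : σ (yr r) = -yr r)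
    (φ : ArSing.ring k r' →ₐ[k] ArSing.ring k r) (hφx : φ (xr r') = xr r ^ 2)
    (hφy : φ (yr r') = xr r * yr r) :
    (∀ a : ArSing.ring k r, σ a = a ↔ a ∈ φ.range) ∧ Function.Injective φ ∧
    ¬ φ.toRingHom.Flat ∧
    Module.length (ArSing.ring k r)
      (ArSing.ring k r ⧸ Ideal.span (Set.range fun a : ArSing.ring k r => σ a - a)) = 1 ∧
    ¬ (∃ g : ArSing.ring k r, g ∈ nonZeroDivisors (ArSing.ring k r) ∧
      Ideal.span (Set.range fun a : ArSing.ring k r => σ a - a) = Ideal.span {g}) := by
  have hσnf : ∀ α β : PowerSeries k,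
      σ (oXr α + oXr β * yr r) = oXr (negA α) + oXr (-negA β) * yr r := by
    intro α β
    rw [map_add, map_mul, neg_oXr r σ hx, neg_oXr r σ hx, hy, map_neg]
    ring
  have hφnf : ∀ α β : PowerSeries k,
      φ (oXr α + oXr β * yr r') = oXr (sqA α) + oXr (PowerSeries.X * sqA β) * yr r := by
    intro α β
    rw [map_add, map_mul, phi_oXr r' r φ hφx, phi_oXr r' r φ hφx, hφy, map_mul, oXr_X]
    ring
  have hspan : Ideal.span (Set.range fun a : ArSing.ring k r => σ a - a) =
      maximalIdeal (ArSing.ring k r) := by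
    apply le_antisymm
    · rw [Ideal.span_le]
      rintro _ ⟨a, rfl⟩
      obtain ⟨α, β, rfl⟩ := exists_nf a
      change σ (oXr α + oXr β * yr r) - (oXr α + oXr β * yr r) ∈ _
      obtain ⟨δ₁, hδ₁⟩ := negA_sub_dvd α
      rw [hσnf]
      have e1 : oXr (r := r) (negA α) - oXr α = xr r * oXr δ₁ := by
        rw [← map_sub, hδ₁, map_mul, oXr_X]
      have e : oXr (r := r) (negA α) + oXr (-negA β) * yr r - (oXr α + oXr β * yr r) =
          oXr δ₁ * xr r + (oXr (-negA β) - oXr β) * yr r := by linear_combination e1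
      rw [e]
      exact Ideal.add_mem _ (Ideal.mul_mem_left _ _ (xr_mem r)) (Ideal.mul_mem_left _ _ (yr_mem r))
    · rw [maximalIdeal_Ar, Ideal.span_le]
      have hgen : ∀ z : ArSing.ring k r, σ z = -z →
          z ∈ Ideal.span (Set.range fun a : ArSing.ring k r => σ a - a) := by
        intro z hz
        have h1 : σ z - z ∈ Ideal.span (Set.range fun a : ArSing.ring k r => σ a - a) :=
          Ideal.subset_span ⟨z, rfl⟩
        have h2' : z = algebraMap k _ (-(2⁻¹ : k)) * (σ z - z) := by
          rw [hz, map_neg]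
          linear_combination (-z) * alg_half r h2
        rw [h2']
        exact Ideal.mul_mem_left _ _ h1
      rintro z (rfl | rfl)
      · exact hgen _ hx
      · exact hgen _ hy
  have hr'unit : ∀ a b : ArSing.ring k r', yr r' * a = xr r' * b →
      a ∈ maximalIdeal (ArSing.ring k r') := by
    intro a b hab
    by_contra ha
    rw [IsLocalRing.notMem_maximalIdeal] at ha
    obtain ⟨a', ha'⟩ := ha.exists_right_inv
    apply yr_notMem_span_xr r' h2
    rw [Ideal.mem_span_singleton']
    exact ⟨b * a', by linear_combination (-a') * hab + yr r' * ha'⟩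
  refine ⟨?_, ?_, ?_, ?_, ?_⟩
  · intro a
    obtain ⟨α, β, rfl⟩ := exists_nf a
    rw [hσnf, AlgHom.mem_range]
    constructor
    · intro h
      obtain ⟨h1, h2'⟩ := nf_ext r h2 h
      obtain ⟨α', hα', _⟩ := exists_sqA_of_negA_eq h2 α h1
      obtain ⟨β', hβ'⟩ := exists_odd_of_negA_eq_neg h2 β (by
        linear_combination (-1 : PowerSeries k) * h2')
      exact ⟨oXr α' + oXr β' * yr r', by rw [hφnf, hα', ← hβ']⟩
    · rintro ⟨b, hb⟩
      obtain ⟨α', β', rfl⟩ := exists_nf b
      rw [hφnf] at hb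
      obtain ⟨h1, h2'⟩ := nf_ext r h2 hb
      rw [← h1, ← h2', negA_sqA, map_mul negA, negA_X, negA_sqA]
      congr 2
      ring
  · rw [injective_iff_map_eq_zero]
    intro b hb
    obtain ⟨α', β', rfl⟩ := exists_nf b
    rw [hφnf] at hb
    obtain ⟨e1, e2⟩ := nf_uniq r h2 hb
    have hα : α' = 0 := sqA_injective (by rw [e1, map_zero])
    have hβ : β' = 0 :=
      sqA_injective (by
        rw [(mul_eq_zero.mp e2).resolve_left PowerSeries.X_ne_zero, map_zero])
    rw [hα, hβ, map_zero, zero_mul, add_zero]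
  · refine not_flat_aux φ.toRingHom (yr r') (xr r') (xr r) (yr r) ?_ hr'unit
      (Ideal.span {xr (k := k) r ^ 2, xr r * yr r}) ?_ (xr_notMem_span_sq r h2)
    · change φ (yr r') * xr r = φ (xr r') * yr r
      rw [hφx, hφy]
      ring
    · rw [maximalIdeal_Ar, Ideal.map_span, Ideal.span_le, Set.image_pair]
      rintro z (rfl | rfl)
      · change φ (xr r') ∈ _
        rw [hφx]
        exact Ideal.subset_span (Set.mem_insert _ _)
      · change φ (yr r') ∈ _
        rw [hφy]
        exact Ideal.subset_span (Set.mem_insert_of_mem _ (Set.mem_singleton _))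
  · rw [hspan, Module.length_eq_one_iff, isSimpleModule_iff_quot_maximal]
    exact ⟨maximalIdeal (ArSing.ring k r), inferInstance, ⟨LinearEquiv.refl _ _⟩⟩
  · rintro ⟨g, hg, hgs⟩
    rw [hspan] at hgs
    have hxg : xr r ∈ Ideal.span {g} := by rw [← hgs]; exact xr_mem r
    have hyg : yr r ∈ Ideal.span {g} := by rw [← hgs]; exact yr_mem r
    obtain ⟨a, ha⟩ := Ideal.mem_span_singleton'.mp hxg
    obtain ⟨b, hb⟩ := Ideal.mem_span_singleton'.mp hyg
    have hgm : g ∈ maximalIdeal (ArSing.ring k r) := by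
      rw [hgs]; exact Ideal.subset_span (Set.mem_singleton _)
    rw [maximalIdeal_Ar, Ideal.mem_span_pair] at hgm
    obtain ⟨c, d, hcd⟩ := hgm
    have h0 : (a * c + b * d - 1) * g = 0 := by
      rw [← ha, ← hb] at hcd
      linear_combination hcd
    rw [mem_nonZeroDivisors_iff_right] at hg
    have h1 := hg _ h0
    have hab : IsUnit a ∨ IsUnit b := by
      by_contra hcon
      push Not at hcon
      have ham : a ∈ maximalIdeal (ArSing.ring k r) := by
        rw [mem_maximalIdeal, mem_nonunits_iff]; exact hcon.1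
      have hbm : b ∈ maximalIdeal (ArSing.ring k r) := by
        rw [mem_maximalIdeal, mem_nonunits_iff]; exact hcon.2
      have h3 : (1 : ArSing.ring k r) ∈ maximalIdeal (ArSing.ring k r) := by
        have e : a * c + b * d = (1 : ArSing.ring k r) := sub_eq_zero.mp h1
        have hm : a * c + b * d ∈ maximalIdeal (ArSing.ring k r) :=
          Ideal.add_mem _ (Ideal.mul_mem_right _ _ ham) (Ideal.mul_mem_right _ _ hbm)
        rw [e] at hm
        exact hm
      exact one_notMem_max r h3
    rcases hab with hau | hbu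
    · obtain ⟨a', ha'⟩ := hau.exists_left_inv
      apply yr_notMem_span_xr r h2
      rw [Ideal.mem_span_singleton']
      exact ⟨b * a', by
        rw [← ha, ← hb]
        linear_combination (b * g) * ha'⟩
    · obtain ⟨b', hb'⟩ := hbu.exists_left_inv
      apply xr_notMem_span_yr r h2 hr
      rw [Ideal.mem_span_singleton']
      exact ⟨a * b', by
        rw [← ha, ← hb]
        linear_combination (a * g) * hb'⟩

end Groth.Agent.Helper3.ArFix
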