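import Mathlib
import Groth.Agent.Lib.Helper3.ArInv2

/-!
# The `A_r`-singularity for odd `r`: the two branches (helper3)
-/

set_option autoImplicit false
set_option linter.style.haveILetI false
universe u

namespace Groth.Agent.Helper3.ArInv

open IsLocalRing Groth.Agent.Helper3.NodeAut Groth.Agent.Helper14

variable {k : Type u} [Field k]

section Odd

variable (j : ℕ)

theorem exists_nuP : ∃ ν : ArSing.ring k (2 * j + 1) →ₐ[k] PowerSeries k,
    ν (xr _) = PowerSeries.X ∧ ν (yr _) = PowerSeries.X ^ (j + 1) :=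
  exists_hom_Ar PowerSeries.X (PowerSeries.X ^ (j + 1)) X_mem_max
    (Ideal.pow_mem_of_mem _ X_mem_max _ (by omega)) (by ring)

theorem exists_nuM : ∃ ν : ArSing.ring k (2 * j + 1) →ₐ[k] PowerSeries k,
    ν (xr _) = PowerSeries.X ∧ ν (yr _) = -PowerSeries.X ^ (j + 1) :=
  exists_hom_Ar PowerSeries.X (-PowerSeries.X ^ (j + 1)) X_mem_max
    (Ideal.neg_mem_iff _ |>.mpr (Ideal.pow_mem_of_mem _ X_mem_max _ (by omega))) (by ring)

/-- the branch `y = x^(j+1)` -/
noncomputable def nuP : ArSing.ring k (2 * j + 1) →ₐ[k] PowerSeries k := (exists_nuP j).choose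
/-- the branch `y = -x^(j+1)` -/
noncomputable def nuM : ArSing.ring k (2 * j + 1) →ₐ[k] PowerSeries k := (exists_nuM j).choose

theorem nuP_x : nuP (k := k) j (xr _) = PowerSeries.X := (exists_nuP j).choose_spec.1
theorem nuP_y : nuP (k := k) j (yr _) = PowerSeries.X ^ (j + 1) := (exists_nuP j).choose_spec.2
theorem nuM_x : nuM (k := k) j (xr _) = PowerSeries.X := (exists_nuM j).choose_spec.1
theorem nuM_y : nuM (k := k) j (yr _) = -PowerSeries.X ^ (j + 1) := (exists_nuM j).choose_spec.2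

theorem nuP_oXr (α : PowerSeries k) : nuP j (oXr α) = α := by
  have h : (nuP (k := k) j).comp oXr = AlgHom.id k _ := by
    apply hom_ext_PS1
    · change nuP j (oXr PowerSeries.X) = PowerSeries.X
      rw [oXr_X, nuP_x]
    · change nuP j (oXr PowerSeries.X) ∈ _
      rw [oXr_X, nuP_x]
      exact X_mem_max
  exact DFunLike.congr_fun h α

theorem nuM_oXr (α : PowerSeries k) : nuM j (oXr α) = α := by
  have h : (nuM (k := k) j).comp oXr = AlgHom.id k _ := by
    apply hom_ext_PS1
    · change nuM j (oXr PowerSeries.X) = PowerSeries.X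
      rw [oXr_X, nuM_x]
    · change nuM j (oXr PowerSeries.X) ∈ _
      rw [oXr_X, nuM_x]
      exact X_mem_max
  exact DFunLike.congr_fun h α

theorem nuP_nf (α β : PowerSeries k) : nuP j (oXr α + oXr β * yr _) =
    α + β * PowerSeries.X ^ (j + 1) := by
  rw [map_add, map_mul, nuP_oXr, nuP_oXr, nuP_y]

theorem nuM_nf (α β : PowerSeries k) : nuM j (oXr α + oXr β * yr _) =
    α - β * PowerSeries.X ^ (j + 1) := by
  rw [map_add, map_mul, nuM_oXr, nuM_oXr, nuM_y]
  ring

theorem half_add (h2 : (2 : k) ≠ 0) :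
    PowerSeries.C (2⁻¹ : k) + PowerSeries.C (2⁻¹ : k) = 1 := by
  rw [← map_add, ← two_mul, mul_inv_cancel₀ h2, map_one]

theorem nu_inj (h2 : (2 : k) ≠ 0) {a : ArSing.ring k (2 * j + 1)} (hP : nuP j a = 0)
    (hM : nuM j a = 0) : a = 0 := by
  obtain ⟨α, β, rfl⟩ := exists_nf a
  rw [nuP_nf] at hP
  rw [nuM_nf] at hM
  have hc := half_add h2
  have h1 : α = 0 := by
    linear_combination (PowerSeries.C (2⁻¹ : k)) * hP + (PowerSeries.C (2⁻¹ : k)) * hM - α * hc
  have h3 : β * PowerSeries.X ^ (j + 1) = 0 := by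
    linear_combination (PowerSeries.C (2⁻¹ : k)) * hP - (PowerSeries.C (2⁻¹ : k)) * hM -
      (β * PowerSeries.X ^ (j + 1)) * hc
  have h4 : β = 0 := by
    rcases mul_eq_zero.mp h3 with h | h
    · exact h
    · exact absurd h (pow_ne_zero _ PowerSeries.X_ne_zero)
  rw [h1, h4, map_zero, zero_mul, add_zero]

theorem nu_ext (h2 : (2 : k) ≠ 0) {a b : ArSing.ring k (2 * j + 1)} (hP : nuP j a = nuP j b)
    (hM : nuM j a = nuM j b) : a = b := by
  rw [← sub_eq_zero]
  apply nu_inj j h2
  · rw [map_sub, hP, sub_self]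
  · rw [map_sub, hM, sub_self]

theorem constantCoeff_nuP_of_mem {a : ArSing.ring k (2 * j + 1)}
    (ha : a ∈ maximalIdeal (ArSing.ring k (2 * j + 1))) :
    PowerSeries.constantCoeff (nuP j a) = 0 := by
  rw [maximalIdeal_Ar, Ideal.mem_span_pair] at ha
  obtain ⟨p, q, rfl⟩ := ha
  rw [map_add, map_mul, map_mul, nuP_x, nuP_y, map_add, map_mul, map_mul, map_pow,
    PowerSeries.constantCoeff_X, zero_pow (by omega), mul_zero, mul_zero, add_zero]

theorem mem_of_constantCoeff_nuP {a : ArSing.ring k (2 * j + 1)}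
    (ha : PowerSeries.constantCoeff (nuP j a) = 0) :
    a ∈ maximalIdeal (ArSing.ring k (2 * j + 1)) := by
  rw [IsLocalRing.mem_maximalIdeal, mem_nonunits_iff]
  intro hu
  have h1 := hu.map (nuP (k := k) j)
  rw [PowerSeries.isUnit_iff_constantCoeff, ha] at h1
  exact not_isUnit_zero h1

theorem constantCoeff_nuM_of_mem {a : ArSing.ring k (2 * j + 1)}
    (ha : a ∈ maximalIdeal (ArSing.ring k (2 * j + 1))) :
    PowerSeries.constantCoeff (nuM j a) = 0 := by
  rw [maximalIdeal_Ar, Ideal.mem_span_pair] at ha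
  obtain ⟨p, q, rfl⟩ := ha
  rw [map_add, map_mul, map_mul, nuM_x, nuM_y, map_add, map_mul, map_mul, map_neg, map_pow,
    PowerSeries.constantCoeff_X, zero_pow (by omega), neg_zero, mul_zero, mul_zero, add_zero]

/-- the linear coefficients on the two branches agree (`j ≥ 1`) -/
theorem coeff_one_nuM (hj : 1 ≤ j) (a : ArSing.ring k (2 * j + 1)) :
    PowerSeries.coeff 1 (nuM j a) = PowerSeries.coeff 1 (nuP j a) := by
  obtain ⟨α, β, rfl⟩ := exists_nf a
  rw [nuP_nf, nuM_nf, map_sub, map_add, PowerSeries.coeff_mul_X_pow', if_neg (by omega), sub_zero,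
    add_zero]

theorem sub_alg_mem (a : ArSing.ring k (2 * j + 1)) :
    a - algebraMap k _ (PowerSeries.constantCoeff (nuP j a)) ∈
      maximalIdeal (ArSing.ring k (2 * j + 1)) := by
  apply mem_of_constantCoeff_nuP
  rw [map_sub, AlgHom.commutes, map_sub]
  have : PowerSeries.constantCoeff (algebraMap k (PowerSeries k)
      (PowerSeries.constantCoeff (nuP j a))) = PowerSeries.constantCoeff (nuP j a) :=
    PowerSeries.constantCoeff_C _
  rw [this, sub_self]

end Odd

end Groth.Agent.Helper3.ArInv
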