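import Mathlib
import Groth.Agent.Lib.Helper3.ArOdd1

/-!
# Involutions of the `A_r`-singularity for odd `r ≥ 3` (helper3)
-/

set_option autoImplicit false
set_option linter.style.haveILetI false
universe u

namespace Groth.Agent.Helper3.ArInv

open IsLocalRing Groth.Agent.Helper3.NodeAut Groth.Agent.Helper14

variable {k : Type u} [Field k]

theorem coeff_one_X_mul (p : PowerSeries k) :
    PowerSeries.coeff 1 (PowerSeries.X * p) = PowerSeries.constantCoeff p := by
  rw [show (1 : ℕ) = 0 + 1 from rfl, PowerSeries.coeff_succ_X_mul,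
    PowerSeries.coeff_zero_eq_constantCoeff_apply]

theorem eq_or_eq_neg_of_sq {Z s : PowerSeries k} (h : Z ^ 2 = s ^ 2) : Z = s ∨ Z = -s := by
  have h0 : (Z - s) * (Z + s) = 0 := by linear_combination h
  rcases mul_eq_zero.mp h0 with h | h
  · exact Or.inl (sub_eq_zero.mp h)
  · exact Or.inr (eq_neg_of_add_eq_zero_left h)

theorem xr_mul_pow_mem (j : ℕ) : xr (k := k) (2 * j + 1) ^ (j + 1) * xr (2 * j + 1) ∈
    maximalIdeal (ArSing.ring k (2 * j + 1)) * maximalIdeal (ArSing.ring k (2 * j + 1)) :=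
  Ideal.mul_mem_mul (Ideal.pow_mem_of_mem _ (xr_mem _) _ (by omega)) (xr_mem _)

theorem main_odd (h2 : (2 : k) ≠ 0) (j : ℕ) (hj : 1 ≤ j)
    (σ : ArSing.ring k (2 * j + 1) ≃ₐ[k] ArSing.ring k (2 * j + 1)) (hσ : ∀ a, σ (σ a) = a)
    (hne : σ ≠ AlgEquiv.refl) :
    ∃ φ : ArSing.ring k (2 * j + 1) ≃ₐ[k] ArSing.ring k (2 * j + 1),
      (φ.symm (σ (φ (xr _))) = xr _ ∧ φ.symm (σ (φ (yr _))) = -yr _) ∨
      (φ.symm (σ (φ (xr _))) = -xr _ ∧ φ.symm (σ (φ (yr _))) = yr _) ∨
      (φ.symm (σ (φ (xr _))) = -xr _ ∧ φ.symm (σ (φ (yr _))) = -yr _) := by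
  have hσm : ∀ a ∈ maximalIdeal (ArSing.ring k (2 * j + 1)),
      σ a ∈ maximalIdeal (ArSing.ring k (2 * j + 1)) := by
    intro a ha
    rw [IsLocalRing.mem_maximalIdeal, mem_nonunits_iff] at ha ⊢
    intro hu
    apply ha
    have := hu.map σ
    rwa [hσ] at this
  have hccσ : ∀ b, PowerSeries.constantCoeff (nuP j (σ b)) =
      PowerSeries.constantCoeff (nuP j b) := by
    intro b
    have h1 := hσm _ (sub_alg_mem j b)
    have h3 := constantCoeff_nuP_of_mem j h1
    rw [map_sub σ, AlgEquiv.commutes, map_sub (nuP j), AlgHom.commutes, map_sub] at h3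
    have : PowerSeries.constantCoeff (algebraMap k (PowerSeries k)
        (PowerSeries.constantCoeff (nuP j b))) = PowerSeries.constantCoeff (nuP j b) :=
      PowerSeries.constantCoeff_C _
    rw [this, sub_eq_zero] at h3
    exact h3
  -- the images of the coordinates on the first branch
  obtain ⟨XP, hXPdef⟩ : ∃ z, z = nuP j (σ (xr _)) := ⟨_, rfl⟩
  obtain ⟨YP, hYPdef⟩ : ∃ z, z = nuP j (σ (yr _)) := ⟨_, rfl⟩
  have hXP0 : PowerSeries.constantCoeff XP = 0 := by
    rw [hXPdef]; exact constantCoeff_nuP_of_mem j (hσm _ (xr_mem _))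
  have hYP0 : PowerSeries.constantCoeff YP = 0 := by
    rw [hYPdef]; exact constantCoeff_nuP_of_mem j (hσm _ (yr_mem _))
  have hrelP : YP ^ 2 = XP ^ (2 * j + 1 + 1) := by
    have := congrArg (fun z => nuP j (σ z)) (yr_sq (k := k) (2 * j + 1))
    simp only [map_pow] at this
    rw [hXPdef, hYPdef]
    exact this
  obtain ⟨U, hU⟩ := PowerSeries.X_dvd_iff.mpr hXP0
  obtain ⟨V, hV⟩ := PowerSeries.X_dvd_iff.mpr hYP0
  have hV0 : PowerSeries.constantCoeff V = 0 := by
    have h := congrArg (PowerSeries.coeff 2) hrelP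
    rw [hV, hU, mul_pow, mul_pow, PowerSeries.coeff_X_pow_mul', PowerSeries.coeff_X_pow_mul',
      if_pos le_rfl, if_neg (by omega), Nat.sub_self,
      PowerSeries.coeff_zero_eq_constantCoeff_apply, map_pow] at h
    exact (pow_eq_zero_iff two_ne_zero).mp h
  obtain ⟨ξ, hξdef⟩ : ∃ z, z = PowerSeries.constantCoeff U := ⟨_, rfl⟩
  have e3 : ∀ F G : PowerSeries k, PowerSeries.X * U * F + G * (PowerSeries.X * V) =
      PowerSeries.X * (U * F + G * V) := by intro F G; ring
  have hL : ∀ a ∈ maximalIdeal (ArSing.ring k (2 * j + 1)),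
      PowerSeries.coeff 1 (nuP j (σ a)) = ξ * PowerSeries.coeff 1 (nuP j a) := by
    intro a ha
    obtain ⟨α, β, rfl⟩ := exists_nf a
    have hα0 : PowerSeries.constantCoeff α = 0 := by
      have := constantCoeff_nuP_of_mem j ha
      rw [nuP_nf, map_add, map_mul, map_pow, PowerSeries.constantCoeff_X, zero_pow (by omega),
        mul_zero, add_zero] at this
      exact this
    obtain ⟨α₁, hα₁⟩ := PowerSeries.X_dvd_iff.mpr hα0
    have e1 : PowerSeries.coeff 1 (nuP j (oXr α + oXr β * yr _)) =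
        PowerSeries.constantCoeff α₁ := by
      rw [nuP_nf, hα₁, map_add, PowerSeries.coeff_mul_X_pow', if_neg (by omega), add_zero,
        coeff_one_X_mul]
    rw [e1]
    have e2 : σ (oXr α + oXr β * yr _) =
        σ (xr _) * σ (oXr α₁) + σ (oXr β) * σ (yr _) := by
      rw [hα₁, map_mul oXr, oXr_X, map_add σ, map_mul σ, map_mul σ]
    rw [e2, map_add, map_mul, map_mul, ← hXPdef, ← hYPdef, hU, hV, e3, coeff_one_X_mul, map_add,
      map_mul, map_mul, hV0, mul_zero, add_zero, hccσ, nuP_oXr, hξdef]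
  have hξ : ξ * ξ = 1 := by
    have h := hL (σ (xr _)) (hσm _ (xr_mem _))
    rw [hσ, nuP_x, PowerSeries.coeff_one_X, ← hXPdef, hU, coeff_one_X_mul, ← hξdef] at h
    exact h.symm
  -- constants
  obtain ⟨c, hcdef⟩ : ∃ z, z = PowerSeries.C (2⁻¹ : k) := ⟨_, rfl⟩
  have hc : c + c = 1 := by rw [hcdef]; exact half_add h2
  have hc0 : PowerSeries.constantCoeff c = 2⁻¹ := by
    rw [hcdef, PowerSeries.constantCoeff_C]
  obtain ⟨cA, hcAdef⟩ : ∃ z : ArSing.ring k (2 * j + 1), z = algebraMap k _ (2⁻¹ : k) := ⟨_, rfl⟩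
  obtain ⟨ξA, hξAdef⟩ : ∃ z : ArSing.ring k (2 * j + 1), z = algebraMap k _ ξ := ⟨_, rfl⟩
  have hσcA : σ cA = cA := by rw [hcAdef]; exact σ.commutes _
  have hσξA : σ ξA = ξA := by rw [hξAdef]; exact σ.commutes _
  have hξA : ξA * ξA = 1 := by rw [hξAdef, ← map_mul, hξ, map_one]
  have hPcA : nuP j cA = c := by rw [hcAdef, hcdef, AlgHom.commutes]; rfl
  have hMcA : nuM j cA = c := by rw [hcAdef, hcdef, AlgHom.commutes]; rfl
  have hPξA : nuP j ξA = PowerSeries.C ξ := by rw [hξAdef, AlgHom.commutes]; rfl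
  have hMξA : nuM j ξA = PowerSeries.C ξ := by rw [hξAdef, AlgHom.commutes]; rfl
  have hξApow : ξA ^ (2 * j + 1 + 1) = 1 := by
    have : 2 * j + 1 + 1 = 2 * (j + 1) := by ring
    rw [this, pow_mul, sq, hξA, one_pow]
  -- the new first coordinate
  obtain ⟨x', hx'def⟩ : ∃ z : ArSing.ring k (2 * j + 1), z = cA * (xr _ + ξA * σ (xr _)) :=
    ⟨_, rfl⟩
  have hσx' : σ x' = ξA * x' := by
    rw [hx'def, map_mul σ, map_add σ, map_mul σ, hσ, hσcA, hσξA]
    linear_combination (-(cA * σ (xr (k := k) (2 * j + 1)))) * hξA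
  obtain ⟨sP, hsPdef⟩ : ∃ z, z = nuP j x' := ⟨_, rfl⟩
  obtain ⟨sM, hsMdef⟩ : ∃ z, z = nuM j x' := ⟨_, rfl⟩
  have hsP : sP = c * (PowerSeries.X + PowerSeries.C ξ * XP) := by
    rw [hsPdef, hx'def, map_mul, map_add, map_mul, hPcA, hPξA, nuP_x, ← hXPdef]
  have hsP0 : PowerSeries.constantCoeff sP = 0 := by
    rw [hsP, map_mul, map_add, map_mul, PowerSeries.constantCoeff_X, hXP0, mul_zero, add_zero,
      mul_zero]
  have hsP1 : PowerSeries.coeff 1 sP = 1 := by
    rw [hsP, hcdef, PowerSeries.coeff_C_mul, map_add, PowerSeries.coeff_C_mul,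
      PowerSeries.coeff_one_X, hU, coeff_one_X_mul, ← hξdef, hξ]
    have : (2⁻¹ : k) * (1 + 1) = 2⁻¹ * 2 := by ring
    rw [this, inv_mul_cancel₀ h2]
  have hx'm : x' ∈ maximalIdeal (ArSing.ring k (2 * j + 1)) := by
    apply mem_of_constantCoeff_nuP
    rw [← hsPdef, hsP0]
  have hsM0 : PowerSeries.constantCoeff sM = 0 := by
    rw [hsMdef]; exact constantCoeff_nuM_of_mem j hx'm
  have hsM1 : PowerSeries.coeff 1 sM = 1 := by
    rw [hsMdef, coeff_one_nuM j hj, ← hsPdef, hsP1]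
  obtain ⟨wP, hwP⟩ := PowerSeries.X_dvd_iff.mpr hsP0
  obtain ⟨wM, hwM⟩ := PowerSeries.X_dvd_iff.mpr hsM0
  have hwP0 : PowerSeries.constantCoeff wP = 1 := by
    rw [← hsP1, hwP, coeff_one_X_mul]
  have hwM0 : PowerSeries.constantCoeff wM = 1 := by
    rw [← hsM1, hwM, coeff_one_X_mul]
  have hsPne : sP ^ (j + 1) ≠ 0 := by
    apply pow_ne_zero
    intro h
    rw [h, map_zero] at hsP1
    exact zero_ne_one hsP1
  have hsMne : sM ^ (j + 1) ≠ 0 := by
    apply pow_ne_zero
    intro h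
    rw [h, map_zero] at hsM1
    exact zero_ne_one hsM1
  -- the new second coordinate
  obtain ⟨D, hDdef⟩ : ∃ z, z = wP ^ (j + 1) - wM ^ (j + 1) := ⟨_, rfl⟩
  obtain ⟨E, hEdef⟩ : ∃ z, z = c * (wP ^ (j + 1) + wM ^ (j + 1)) := ⟨_, rfl⟩
  have hD0 : PowerSeries.constantCoeff D = 0 := by
    rw [hDdef, map_sub, map_pow, map_pow, hwP0, hwM0, sub_self]
  have hE0 : PowerSeries.constantCoeff E = 1 := by
    rw [hEdef, map_mul, map_add, map_pow, map_pow, hwP0, hwM0, hc0, one_pow]
    have : (2⁻¹ : k) * (1 + 1) = 2⁻¹ * 2 := by ring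
    rw [this, inv_mul_cancel₀ h2]
  obtain ⟨D₁, hD₁⟩ := PowerSeries.X_dvd_iff.mpr hD0
  obtain ⟨y', hy'def⟩ : ∃ z : ArSing.ring k (2 * j + 1),
      z = oXr (c * PowerSeries.X ^ (j + 1) * D) + oXr E * yr _ := ⟨_, rfl⟩
  have hPy' : nuP j y' = sP ^ (j + 1) := by
    rw [hy'def, nuP_nf, hwP, mul_pow, hDdef, hEdef]
    linear_combination (PowerSeries.X ^ (j + 1) * wP ^ (j + 1)) * hc
  have hMy' : nuM j y' = -sM ^ (j + 1) := by
    rw [hy'def, nuM_nf, hwM, mul_pow, hDdef, hEdef]
    linear_combination (-(PowerSeries.X ^ (j + 1) * wM ^ (j + 1))) * hc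
  have hy'm : y' ∈ maximalIdeal (ArSing.ring k (2 * j + 1)) := by
    apply mem_of_constantCoeff_nuP
    rw [hPy', map_pow, hsP0, zero_pow (by omega)]
  have hrel : y' ^ 2 = x' ^ (2 * j + 1 + 1) := by
    apply nu_ext j h2
    · rw [map_pow, map_pow, hPy', ← hsPdef]; ring
    · rw [map_pow, map_pow, hMy', ← hsMdef]; ring
  -- `σ y' = ± y'`
  have hσy'sq : σ y' ^ 2 = x' ^ (2 * j + 1 + 1) := by
    rw [← map_pow, hrel, map_pow, hσx', mul_pow, hξApow, one_mul]
  have hnomix : ∀ ε : ArSing.ring k (2 * j + 1), (∃ e : k, ε = algebraMap k _ e) →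
      σ y' = ε * x' ^ (j + 1) → False := by
    rintro ε ⟨e, rfl⟩ h
    have h1 : y' = algebraMap k _ e * (ξA * x') ^ (j + 1) := by
      have := congrArg σ h
      rw [hσ, map_mul σ, map_pow σ, hσx', AlgEquiv.commutes] at this
      exact this
    have hP := congrArg (nuP j) h1
    have hM := congrArg (nuM j) h1
    rw [hPy', map_mul, map_pow, map_mul, hPξA, ← hsPdef, AlgHom.commutes] at hP
    rw [hMy', map_mul, map_pow, map_mul, hMξA, ← hsMdef, AlgHom.commutes] at hM
    obtain ⟨q, hqdef⟩ : ∃ z, z = algebraMap k (PowerSeries k) e * PowerSeries.C ξ ^ (j + 1) :=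
      ⟨_, rfl⟩
    have hP' : (q - 1) * sP ^ (j + 1) = 0 := by rw [hqdef]; linear_combination -hP
    have hM' : (q + 1) * sM ^ (j + 1) = 0 := by rw [hqdef]; linear_combination -hM
    have hq1 : q = 1 := sub_eq_zero.mp ((mul_eq_zero.mp hP').resolve_right hsPne)
    have hq2 : q = -1 := eq_neg_of_add_eq_zero_left ((mul_eq_zero.mp hM').resolve_right hsMne)
    have h11 : (1 : PowerSeries k) = -1 := hq1.symm.trans hq2
    have h12 := congrArg PowerSeries.constantCoeff h11
    rw [map_neg, map_one] at h12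
    apply h2
    linear_combination h12
  have hσy' : σ y' = y' ∨ σ y' = -y' := by
    have hZP : nuP j (σ y') ^ 2 = (sP ^ (j + 1)) ^ 2 := by
      rw [← map_pow, hσy'sq, map_pow, ← hsPdef]; ring
    have hZM : nuM j (σ y') ^ 2 = (sM ^ (j + 1)) ^ 2 := by
      rw [← map_pow, hσy'sq, map_pow, ← hsMdef]; ring
    rcases eq_or_eq_neg_of_sq hZP with hP | hP <;> rcases eq_or_eq_neg_of_sq hZM with hM | hM
    · exfalso
      apply hnomix 1 ⟨1, (map_one _).symm⟩
      apply nu_ext j h2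
      · rw [hP, one_mul, map_pow, ← hsPdef]
      · rw [hM, one_mul, map_pow, ← hsMdef]
    · left
      apply nu_ext j h2
      · rw [hP, hPy']
      · rw [hM, hMy']
    · right
      apply nu_ext j h2
      · rw [hP, map_neg, hPy']
      · rw [hM, map_neg, hMy', neg_neg]
    · exfalso
      apply hnomix (-1) ⟨-1, by rw [map_neg, map_one]⟩
      apply nu_ext j h2
      · rw [hP, map_mul, map_neg, map_one, map_pow, ← hsPdef]; ring
      · rw [hM, map_mul, map_neg, map_one, map_pow, ← hsMdef]; ring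
  obtain ⟨φA, hφx, hφy⟩ := exists_hom_Ar (k := k) (r := 2 * j + 1) x' y' hx'm hy'm hrel
  -- generation of the maximal ideal
  obtain ⟨α, β, hαβ⟩ := exists_nf x'
  have hα0 : PowerSeries.constantCoeff α = 0 := by
    have := hsP0
    rw [hsPdef, hαβ, nuP_nf, map_add, map_mul, map_pow, PowerSeries.constantCoeff_X,
      zero_pow (by omega), mul_zero, add_zero] at this
    exact this
  obtain ⟨α₁, hα₁⟩ := PowerSeries.X_dvd_iff.mpr hα0
  have hα₁0 : PowerSeries.constantCoeff α₁ = 1 := by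
    have := hsP1
    rw [hsPdef, hαβ, nuP_nf, hα₁, map_add, PowerSeries.coeff_mul_X_pow', if_neg (by omega),
      add_zero, coeff_one_X_mul] at this
    exact this
  have hv : IsUnit (oXr (r := 2 * j + 1) α₁) := by
    apply IsUnit.map
    rw [PowerSeries.isUnit_iff_constantCoeff, hα₁0]
    exact isUnit_one
  have hu : IsUnit (oXr (r := 2 * j + 1) E) := by
    apply IsUnit.map
    rw [PowerSeries.isUnit_iff_constantCoeff, hE0]
    exact isUnit_one
  obtain ⟨ui, hui⟩ := hu.exists_right_inv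
  obtain ⟨vi, hvi⟩ := hv.exists_right_inv
  have hyN : yr (k := k) (2 * j + 1) ∈ Ideal.span {x', y'} ⊔
      maximalIdeal (ArSing.ring k (2 * j + 1)) * maximalIdeal (ArSing.ring k (2 * j + 1)) := by
    have e : yr (k := k) (2 * j + 1) = ui * y' +
        (-(ui * oXr (c * D₁))) * (xr _ ^ (j + 1) * xr _) := by
      rw [hy'def, hD₁, map_mul oXr, map_mul oXr, map_mul oXr, map_mul oXr, map_pow oXr, oXr_X]
      linear_combination (-(yr (k := k) (2 * j + 1))) * hui
    rw [e]
    exact Ideal.add_mem _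
      (Ideal.mem_sup_left (Ideal.mul_mem_left _ _ (Ideal.subset_span (by simp))))
      (Ideal.mem_sup_right (Ideal.mul_mem_left _ _ (xr_mul_pow_mem j)))
  have hxN : xr (k := k) (2 * j + 1) ∈ Ideal.span {x', y'} ⊔
      maximalIdeal (ArSing.ring k (2 * j + 1)) * maximalIdeal (ArSing.ring k (2 * j + 1)) := by
    have e : xr (k := k) (2 * j + 1) = vi * x' + (-(vi * oXr β)) * yr _ := by
      rw [hαβ, hα₁, map_mul oXr, oXr_X]
      linear_combination (-(xr (k := k) (2 * j + 1))) * hvi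
    rw [e]
    refine Ideal.add_mem _ ?_ ?_
    · exact Ideal.mem_sup_left (Ideal.mul_mem_left _ _ (Ideal.subset_span (by simp)))
    · exact Ideal.mul_mem_left _ _ hyN
  have hle : maximalIdeal (ArSing.ring k (2 * j + 1)) ≤ Ideal.span {x', y'} := by
    haveI : IsNoetherianRing (ArSing.ring k (2 * j + 1)) := inferInstance
    apply Submodule.le_of_le_smul_of_le_jacobson_bot (IsNoetherian.noetherian _)
      (IsLocalRing.maximalIdeal_le_jacobson ⊥)
    rw [Ideal.smul_eq_mul]
    conv_lhs => rw [maximalIdeal_Ar]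
    rw [Ideal.span_le]
    intro z hz
    rcases hz with rfl | rfl
    · exact hxN
    · exact hyN
  have hspan : Ideal.span (Set.range (fun i : Fin 2 =>
      φA (Ideal.Quotient.mk (Ideal.span {ArSing.eqn k (2 * j + 1)}) (MvPowerSeries.X i)))) =
      maximalIdeal (ArSing.ring k (2 * j + 1)) := by
    rw [range_eq_pair, hφx, hφy]
    apply le_antisymm
    · rw [Ideal.span_le]
      intro z hz
      rcases hz with rfl | rfl
      · exact hx'm
      · exact hy'm
    · exact hle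
  have hbij := bijective_of_span _ φA hspan
  have h1x : (AlgEquiv.ofBijective φA hbij) (xr _) = x' := hφx
  have h1y : (AlgEquiv.ofBijective φA hbij) (yr _) = y' := hφy
  refine ⟨AlgEquiv.ofBijective φA hbij, ?_⟩
  have hξcases : ξ = 1 ∨ ξ = -1 := by
    have h0 : (ξ - 1) * (ξ + 1) = 0 := by linear_combination hξ
    rcases mul_eq_zero.mp h0 with h | h
    · exact Or.inl (sub_eq_zero.mp h)
    · exact Or.inr (eq_neg_of_add_eq_zero_left h)
  rcases hξcases with hξ1 | hξ1
  · have hσx'' : σ x' = x' := by rw [hσx', hξAdef, hξ1, map_one, one_mul]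
    rcases hσy' with hy | hy
    · exfalso
      apply hne
      have hcomp : (σ : ArSing.ring k (2 * j + 1) →ₐ[k] _).comp φA = φA := by
        apply hom_ext_Ar
        · change σ (φA (xr _)) = φA (xr _)
          rw [hφx, hσx'']
        · change σ (φA (yr _)) = φA (yr _)
          rw [hφy, hy]
        · change σ (φA (xr _)) ∈ _
          rw [hφx, hσx'']; exact hx'm
        · change σ (φA (yr _)) ∈ _
          rw [hφy, hy]; exact hy'm
      ext a
      obtain ⟨b, rfl⟩ := hbij.2 a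
      exact DFunLike.congr_fun hcomp b
    · left
      constructor
      · rw [h1x, hσx'', ← h1x, AlgEquiv.symm_apply_apply]
      · rw [h1y, hy, map_neg, ← h1y, AlgEquiv.symm_apply_apply]
  · have hσx'' : σ x' = -x' := by rw [hσx', hξAdef, hξ1, map_neg, map_one]; ring
    right
    rcases hσy' with hy | hy
    · left
      constructor
      · rw [h1x, hσx'', map_neg, ← h1x, AlgEquiv.symm_apply_apply]
      · rw [h1y, hy, ← h1y, AlgEquiv.symm_apply_apply]
    · right
      constructor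
      · rw [h1x, hσx'', map_neg, ← h1x, AlgEquiv.symm_apply_apply]
      · rw [h1y, hy, map_neg, ← h1y, AlgEquiv.symm_apply_apply]

end Groth.Agent.Helper3.ArInv
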