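import Mathlib

/-!
# Graded sections of `B₊ → B₊/B₊²` and generation of a graded algebra
-/

set_option autoImplicit false

namespace Groth.Agent.Helper3.GradedSection

open DirectSum

variable {A B : Type*} [CommRing A] [CommRing B] [Algebra A B] (𝒜 : ℕ → Submodule A B)
  [GradedAlgebra 𝒜]

/-- the irrelevant ideal -/
abbrev Bp : Ideal B := (HomogeneousIdeal.irrelevant 𝒜).toIdeal

lemma proj_mem (d : ℕ) (b : B) : GradedAlgebra.proj 𝒜 d b ∈ 𝒜 d := by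
  rw [GradedAlgebra.proj_apply]; exact SetLike.coe_mem _

lemma proj_proj (d e : ℕ) (b : B) :
    GradedAlgebra.proj 𝒜 d (GradedAlgebra.proj 𝒜 e b) =
      if d = e then GradedAlgebra.proj 𝒜 e b else 0 := by
  rw [GradedAlgebra.proj_apply 𝒜 d, GradedAlgebra.proj_apply 𝒜 e]
  split_ifs with h
  · subst h; exact decompose_of_mem_same 𝒜 (SetLike.coe_mem _)
  · exact decompose_of_mem_ne 𝒜 (SetLike.coe_mem _) (Ne.symm h)

lemma proj_of_mem {d : ℕ} {b : B} (hb : b ∈ 𝒜 d) : GradedAlgebra.proj 𝒜 d b = b := by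
  rw [GradedAlgebra.proj_apply]; exact decompose_of_mem_same 𝒜 hb

lemma proj_mem_irrelevant (d : ℕ) {b : B} (hb : b ∈ Bp 𝒜) : GradedAlgebra.proj 𝒜 d b ∈ Bp 𝒜 := by
  rw [GradedAlgebra.proj_apply]
  exact (HomogeneousIdeal.irrelevant 𝒜).isHomogeneous d hb

lemma proj_mem_sq (d : ℕ) {z : B} (hz : z ∈ Bp 𝒜 ^ 2) : GradedAlgebra.proj 𝒜 d z ∈ Bp 𝒜 ^ 2 := by
  rw [pow_two] at hz ⊢
  rw [GradedAlgebra.proj_apply]
  exact ((HomogeneousIdeal.irrelevant 𝒜).isHomogeneous.mul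
    (HomogeneousIdeal.irrelevant 𝒜).isHomogeneous) d hz

lemma proj_mul (d : ℕ) (u v : B) :
    GradedAlgebra.proj 𝒜 d (u * v) =
      ∑ ij ∈ Finset.HasAntidiagonal.antidiagonal d,
        GradedAlgebra.proj 𝒜 ij.1 u * GradedAlgebra.proj 𝒜 ij.2 v := by
  rw [GradedAlgebra.proj_apply, decompose_mul, DirectSum.coe_mul_apply_eq_sum_antidiagonal]
  rfl

lemma mem_irrelevant_iff (b : B) : b ∈ Bp 𝒜 ↔ GradedAlgebra.proj 𝒜 0 b = 0 :=
  HomogeneousIdeal.mem_irrelevant_iff 𝒜 b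

lemma mem_irrelevant_of_mem {d : ℕ} (hd : 0 < d) {b : B} (hb : b ∈ 𝒜 d) : b ∈ Bp 𝒜 :=
  HomogeneousIdeal.mem_irrelevant_of_mem 𝒜 hd hb

open Classical in
lemma sum_proj (b : B) (D : Finset ℕ) (hD : (decompose 𝒜 b).support ⊆ D) :
    ∑ d ∈ D, GradedAlgebra.proj 𝒜 d b = b := by
  classical
  conv_rhs => rw [← sum_support_decompose 𝒜 b]
  simp only [GradedAlgebra.proj_apply]
  symm
  apply Finset.sum_subset hD
  intro d _ hd
  rw [DFinsupp.notMem_support_iff] at hd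
  rw [hd]; rfl

/-- restricted projection on the irrelevant ideal -/
noncomputable def πB (d : ℕ) : ↥(Bp 𝒜) →ₗ[A] ↥(Bp 𝒜) where
  toFun x := ⟨GradedAlgebra.proj 𝒜 d x.1, proj_mem_irrelevant 𝒜 d x.2⟩
  map_add' x y := Subtype.ext (by
    show GradedAlgebra.proj 𝒜 d ((x : B) + (y : B)) = _
    rw [map_add]; rfl)
  map_smul' a x := Subtype.ext (by
    show GradedAlgebra.proj 𝒜 d (a • (x : B)) = _
    rw [map_smul]; rfl)

lemma πB_coe (d : ℕ) (x : ↥(Bp 𝒜)) : ((πB 𝒜 d x : ↥(Bp 𝒜)) : B) = GradedAlgebra.proj 𝒜 d x.1 := rfl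

lemma πB_πB (d e : ℕ) (x : ↥(Bp 𝒜)) : πB 𝒜 d (πB 𝒜 e x) = if d = e then πB 𝒜 e x else 0 := by
  apply Subtype.ext
  rw [πB_coe, πB_coe, proj_proj]
  split_ifs <;> rfl

/-- `toCotangent` as an `A`-linear map -/
noncomputable def toCot : ↥(Bp 𝒜) →ₗ[A] (Bp 𝒜).Cotangent :=
  (Bp 𝒜).toCotangent.restrictScalars A

lemma toCot_apply (x : ↥(Bp 𝒜)) : toCot 𝒜 x = (Bp 𝒜).toCotangent x := rfl

lemma toCot_surjective : Function.Surjective (toCot 𝒜) := Ideal.toCotangent_surjective _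

lemma toCot_eq_zero (x : ↥(Bp 𝒜)) : toCot 𝒜 x = 0 ↔ (x : B) ∈ Bp 𝒜 ^ 2 :=
  Ideal.toCotangent_eq_zero _ x

lemma toCot_πB_eq_zero (d : ℕ) (x : ↥(Bp 𝒜)) (hx : toCot 𝒜 x = 0) : toCot 𝒜 (πB 𝒜 d x) = 0 := by
  rw [toCot_eq_zero] at hx ⊢
  exact proj_mem_sq 𝒜 d hx

section sect

variable {ι : Type*} [Fintype ι] (n : Module.Basis ι A (Bp 𝒜).Cotangent)

/-- chosen lifts of the basis -/
noncomputable def β (i : ι) : ↥(Bp 𝒜) := Classical.choose (toCot_surjective 𝒜 (n i))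

lemma toCot_β (i : ι) : toCot 𝒜 (β 𝒜 n i) = n i := Classical.choose_spec (toCot_surjective 𝒜 (n i))

/-- the induced projections on the conormal module -/
noncomputable def ρ (d : ℕ) : (Bp 𝒜).Cotangent →ₗ[A] (Bp 𝒜).Cotangent :=
  n.constr A (fun i => toCot 𝒜 (πB 𝒜 d (β 𝒜 n i)))

lemma ρ_basis (d : ℕ) (i : ι) : ρ 𝒜 n d (n i) = toCot 𝒜 (πB 𝒜 d (β 𝒜 n i)) :=
  n.constr_basis A _ i

/-- first lift -/
noncomputable def s₀ : (Bp 𝒜).Cotangent →ₗ[A] ↥(Bp 𝒜) := n.constr A (β 𝒜 n)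

lemma toCot_s₀ (m : (Bp 𝒜).Cotangent) : toCot 𝒜 (s₀ 𝒜 n m) = m := by
  have : (toCot 𝒜) ∘ₗ (s₀ 𝒜 n) = LinearMap.id := by
    apply n.ext
    intro i
    rw [LinearMap.comp_apply, s₀, n.constr_basis, toCot_β, LinearMap.id_apply]
  exact LinearMap.congr_fun this m

lemma ρ_toCot (d : ℕ) (x : ↥(Bp 𝒜)) : ρ 𝒜 n d (toCot 𝒜 x) = toCot 𝒜 (πB 𝒜 d x) := by
  have h1 : toCot 𝒜 (x - s₀ 𝒜 n (toCot 𝒜 x)) = 0 := by
    rw [map_sub, toCot_s₀, sub_self]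
  have h2 := toCot_πB_eq_zero 𝒜 d _ h1
  rw [map_sub, map_sub, sub_eq_zero] at h2
  rw [h2]
  have h3 : (ρ 𝒜 n d) = (toCot 𝒜) ∘ₗ (πB 𝒜 d) ∘ₗ (s₀ 𝒜 n) := by
    apply n.ext
    intro i
    rw [ρ_basis, LinearMap.comp_apply, LinearMap.comp_apply, s₀, n.constr_basis]
  rw [h3]
  rfl

lemma ρ_ρ (d e : ℕ) (m : (Bp 𝒜).Cotangent) :
    ρ 𝒜 n d (ρ 𝒜 n e m) = if d = e then ρ 𝒜 n e m else 0 := by
  obtain ⟨x, rfl⟩ := toCot_surjective 𝒜 m
  rw [ρ_toCot, ρ_toCot, πB_πB]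
  split_ifs
  · rfl
  · rw [map_zero]

open Classical in
/-- the set of degrees occurring in the lifts -/
noncomputable def Dset : Finset ℕ :=
  Finset.univ.biUnion (fun i : ι => (decompose 𝒜 ((β 𝒜 n i : ↥(Bp 𝒜)) : B)).support)

lemma sum_πB (i : ι) : ∑ d ∈ Dset 𝒜 n, πB 𝒜 d (β 𝒜 n i) = β 𝒜 n i := by
  classical
  apply Subtype.ext
  rw [AddSubmonoidClass.coe_finsetSum]
  simp only [πB_coe]
  apply sum_proj
  intro d hd
  exact Finset.mem_biUnion.mpr ⟨i, Finset.mem_univ i, hd⟩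

lemma sum_ρ (m : (Bp 𝒜).Cotangent) : ∑ d ∈ Dset 𝒜 n, ρ 𝒜 n d m = m := by
  have : ∑ d ∈ Dset 𝒜 n, ρ 𝒜 n d = LinearMap.id := by
    apply n.ext
    intro i
    rw [LinearMap.sum_apply, LinearMap.id_apply]
    simp only [ρ_basis]
    rw [← map_sum, sum_πB, toCot_β]
  have h := LinearMap.congr_fun this m
  rwa [LinearMap.sum_apply] at h

/-- the graded section -/
noncomputable def sB : (Bp 𝒜).Cotangent →ₗ[A] ↥(Bp 𝒜) :=
  ∑ d ∈ Dset 𝒜 n, (πB 𝒜 d) ∘ₗ (s₀ 𝒜 n) ∘ₗ (ρ 𝒜 n d)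

lemma sB_apply (m : (Bp 𝒜).Cotangent) :
    sB 𝒜 n m = ∑ d ∈ Dset 𝒜 n, πB 𝒜 d (s₀ 𝒜 n (ρ 𝒜 n d m)) := by
  rw [sB, LinearMap.sum_apply]
  rfl

lemma toCot_sB (m : (Bp 𝒜).Cotangent) : toCot 𝒜 (sB 𝒜 n m) = m := by
  rw [sB_apply, map_sum]
  have : ∀ d ∈ Dset 𝒜 n, toCot 𝒜 (πB 𝒜 d (s₀ 𝒜 n (ρ 𝒜 n d m))) = ρ 𝒜 n d m := by
    intro d _
    rw [← ρ_toCot 𝒜 n, toCot_s₀, ρ_ρ, if_pos rfl]
  rw [Finset.sum_congr rfl this, sum_ρ 𝒜 n m]

lemma πB_sB (e : ℕ) (m : (Bp 𝒜).Cotangent) : πB 𝒜 e (sB 𝒜 n m) = sB 𝒜 n (ρ 𝒜 n e m) := by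
  classical
  rw [sB_apply, sB_apply, map_sum]
  apply Finset.sum_congr rfl
  intro d _
  rw [πB_πB, ρ_ρ]
  by_cases h : e = d
  · subst h
    rw [if_pos rfl, if_pos rfl]
  · rw [if_neg h, if_neg (Ne.symm h), map_zero, map_zero]

/-- the subalgebra generated by the images of the basis under the graded section -/
noncomputable def C : Subalgebra A B :=
  Algebra.adjoin A (Set.range (fun i : ι => ((sB 𝒜 n (n i) : ↥(Bp 𝒜)) : B)))

lemma sB_mem_C (m : (Bp 𝒜).Cotangent) : ((sB 𝒜 n m : ↥(Bp 𝒜)) : B) ∈ C 𝒜 n := by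
  rw [← n.sum_repr m, map_sum, AddSubmonoidClass.coe_finsetSum]
  apply Subalgebra.sum_mem
  intro i _
  rw [map_smul]
  show (n.repr m i) • ((sB 𝒜 n (n i) : ↥(Bp 𝒜)) : B) ∈ C 𝒜 n
  exact Subalgebra.smul_mem _ (Algebra.subset_adjoin (Set.mem_range_self i)) _

lemma le_C (h0 : ∀ b ∈ 𝒜 0, b ∈ Set.range (algebraMap A B)) :
    ∀ d : ℕ, 𝒜 d ≤ Subalgebra.toSubmodule (C 𝒜 n) := by
  intro d
  induction d using Nat.strong_induction_on with
  | _ d ih =>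
    intro b hb
    rcases Nat.eq_zero_or_pos d with rfl | hd
    · obtain ⟨a, rfl⟩ := h0 b hb
      exact Subalgebra.algebraMap_mem _ a
    · have hbp : b ∈ Bp 𝒜 := mem_irrelevant_of_mem 𝒜 hd hb
      -- product claim
      have hprod : ∀ z ∈ Bp 𝒜 * Bp 𝒜, GradedAlgebra.proj 𝒜 d z ∈ C 𝒜 n := by
        intro z hz
        refine Submodule.mul_induction_on hz ?_ ?_
        · intro u hu v hv
          rw [proj_mul]
          apply Subalgebra.sum_mem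
          rintro ⟨i, j⟩ hij
          rw [Finset.HasAntidiagonal.mem_antidiagonal] at hij
          dsimp only at hij ⊢
          rcases Nat.eq_zero_or_pos i with rfl | hi
          · rw [(mem_irrelevant_iff 𝒜 u).mp hu, zero_mul]
            exact Subalgebra.zero_mem _
          rcases Nat.eq_zero_or_pos j with rfl | hj
          · rw [(mem_irrelevant_iff 𝒜 v).mp hv, mul_zero]
            exact Subalgebra.zero_mem _
          exact Subalgebra.mul_mem _ (ih i (by omega) (proj_mem 𝒜 i u))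
            (ih j (by omega) (proj_mem 𝒜 j v))
        · intro x y hx hy
          rw [map_add]
          exact Subalgebra.add_mem _ hx hy
      set c := sB 𝒜 n (toCot 𝒜 ⟨b, hbp⟩) with hc
      have hz : b - (c : B) ∈ Bp 𝒜 ^ 2 := by
        have : toCot 𝒜 (⟨b, hbp⟩ - c) = 0 := by rw [map_sub, hc, toCot_sB, sub_self]
        exact (toCot_eq_zero 𝒜 _).mp this
      rw [pow_two] at hz
      have h1 := hprod _ hz
      rw [map_sub, proj_of_mem 𝒜 hb] at h1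
      have h2 : GradedAlgebra.proj 𝒜 d (c : B) ∈ C 𝒜 n := by
        have := πB_sB 𝒜 n d (toCot 𝒜 ⟨b, hbp⟩)
        rw [← hc] at this
        rw [← πB_coe, this]
        exact sB_mem_C 𝒜 n _
      have : b = (b - GradedAlgebra.proj 𝒜 d (c : B)) + GradedAlgebra.proj 𝒜 d (c : B) := by ring
      rw [this]
      exact Subalgebra.add_mem _ h1 h2

theorem C_eq_top (h0 : ∀ b ∈ 𝒜 0, b ∈ Set.range (algebraMap A B)) : C 𝒜 n = ⊤ := by
  classical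
  rw [eq_top_iff]
  rintro b -
  rw [← sum_support_decompose 𝒜 b]
  apply Subalgebra.sum_mem
  intro d _
  exact le_C 𝒜 n h0 d (SetLike.coe_mem _)

end sect

end Groth.Agent.Helper3.GradedSection
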