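import Mathlib
import Groth.Agent.Lib.Helper3.GradedSection
import Groth.Agent.Lib.Helper3.EtaleSection
import Groth.Agent.S18962

/-!
# A graded algebra smooth along its zero section with free conormal module is a polynomial ring
-/

set_option autoImplicit false
universe u

open TensorProduct KaehlerDifferential IsLocalRing

namespace Groth.Agent.Helper3.BBPoly

open Groth.Agent.Helper3.GradedSection Groth.Agent.Helper3.SectionCot

section G7

/-- a surjection which is étale at a prime is a local isomorphism there -/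
lemma exists_notMem_mul_eq_zero {R B : Type u} [CommRing R] [CommRing B] [IsNoetherianRing R]
    [Algebra R B] (hsurj : Function.Surjective (algebraMap R B)) (P : Ideal B) [P.IsPrime]
    (het : Algebra.IsEtaleAt R P) (p : R) (hp : algebraMap R B p = 0) :
    ∃ u : R, algebraMap R B u ∉ P ∧ u * p = 0 := by
  let Q : Ideal R := P.comap (algebraMap R B)
  let f : Localization.AtPrime Q →+* Localization.AtPrime P :=
    Localization.localRingHom Q P (algebraMap R B) rfl
  have hf : Function.Surjective f := RingHom.surjective_localRingHom_of_surjective _ hsurj P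
  letI : Algebra (Localization.AtPrime Q) (Localization.AtPrime P) := f.toAlgebra
  haveI : IsScalarTower R (Localization.AtPrime Q) (Localization.AtPrime P) :=
    IsScalarTower.of_algebraMap_eq (fun x => by
      show _ = f (algebraMap R (Localization.AtPrime Q) x)
      rw [Localization.localRingHom_to_map, ← IsScalarTower.algebraMap_apply])
  haveI : Algebra.FormallyEtale R (Localization.AtPrime P) := het
  haveI : Algebra.FormallyEtale (Localization.AtPrime Q) (Localization.AtPrime P) :=
    Algebra.FormallyEtale.localization_base Q.primeCompl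
  have hidem : IsIdempotentElem (RingHom.ker (algebraMap (Localization.AtPrime Q)
      (Localization.AtPrime P))) :=
    (Algebra.FormallyEtale.iff_of_surjective hf).mp inferInstance
  have hle : RingHom.ker (algebraMap (Localization.AtPrime Q) (Localization.AtPrime P)) ≤
      maximalIdeal (Localization.AtPrime Q) := by
    intro x hx
    rw [mem_maximalIdeal, mem_nonunits_iff]
    intro hu
    have := hu.map (algebraMap (Localization.AtPrime Q) (Localization.AtPrime P))
    rw [RingHom.mem_ker.mp hx] at this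
    exact not_isUnit_zero this
  haveI : IsNoetherianRing (Localization.AtPrime Q) :=
    IsLocalization.isNoetherianRing Q.primeCompl _ ‹_›
  have hbot : RingHom.ker (algebraMap (Localization.AtPrime Q) (Localization.AtPrime P)) = ⊥ := by
    apply Submodule.eq_bot_of_le_smul_of_le_jacobson_bot
      (RingHom.ker (algebraMap (Localization.AtPrime Q) (Localization.AtPrime P))) _
      (IsNoetherian.noetherian _)
    · rw [smul_eq_mul, hidem.eq]
    · exact hle.trans (IsLocalRing.maximalIdeal_le_jacobson ⊥)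
  have h0 : algebraMap R (Localization.AtPrime Q) p = 0 := by
    have : algebraMap R (Localization.AtPrime Q) p ∈
        RingHom.ker (algebraMap (Localization.AtPrime Q) (Localization.AtPrime P)) := by
      rw [RingHom.mem_ker, ← IsScalarTower.algebraMap_apply,
        IsScalarTower.algebraMap_apply R B (Localization.AtPrime P), hp, map_zero]
    rw [hbot] at this
    exact this
  obtain ⟨u, hu⟩ := (IsLocalization.map_eq_zero_iff Q.primeCompl _ _).mp h0
  exact ⟨u, u.2, hu⟩

end G7

section G8

variable {A : Type u} [CommRing A] {ι : Type*}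

/-- an element of a polynomial ring killed, near every point of the zero section, is zero -/
lemma eq_zero_of_forall_prime (p : MvPolynomial ι A)
    (h : ∀ (q : Ideal A) [q.IsPrime], ∃ u : MvPolynomial ι A,
      MvPolynomial.constantCoeff u ∉ q ∧ u * p = 0) : p = 0 := by
  let I : Ideal (MvPolynomial ι A) := (Submodule.span (MvPolynomial ι A) {p}).annihilator
  have hI : ∀ u, u ∈ I ↔ u * p = 0 := fun u => by
    show u ∈ (Submodule.span (MvPolynomial ι A) {p}).annihilator ↔ _
    rw [Submodule.mem_annihilator_span_singleton, smul_eq_mul]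
  have htop : Ideal.map (MvPolynomial.constantCoeff (R := A) (σ := ι)) I = ⊤ := by
    by_contra hne
    obtain ⟨q, hq, hle⟩ := Ideal.exists_le_maximal _ hne
    haveI := hq.isPrime
    obtain ⟨u, hu, hup⟩ := h q
    exact hu (hle (Ideal.mem_map_of_mem _ ((hI u).mpr hup)))
  have hsurj : Function.Surjective (MvPolynomial.constantCoeff (R := A) (σ := ι)) := fun a =>
    ⟨MvPolynomial.C a, MvPolynomial.constantCoeff_C _ a⟩
  have h1 : (1 : A) ∈ Ideal.map (MvPolynomial.constantCoeff (R := A) (σ := ι)) I := by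
    rw [htop]; trivial
  obtain ⟨u, hu, hu1⟩ := (Ideal.mem_map_iff_of_surjective _ hsurj).mp h1
  have hup : u * p = 0 := (hI u).mp hu
  -- pass to power series
  have hunit : IsUnit ((u : MvPolynomial ι A) : MvPowerSeries ι A) := by
    rw [MvPowerSeries.isUnit_iff_constantCoeff, ← MvPowerSeries.coeff_zero_eq_constantCoeff_apply,
      MvPolynomial.coeff_coe, ← MvPolynomial.constantCoeff_eq, hu1]
    exact isUnit_one
  have : ((u * p : MvPolynomial ι A) : MvPowerSeries ι A) = 0 := by rw [hup]; rfl
  rw [MvPolynomial.coe_mul, hunit.mul_right_eq_zero] at this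
  exact MvPolynomial.coe_eq_zero_iff.mp this

end G8

section main

variable {A B : Type u} [CommRing A] [CommRing B] [Algebra A B] (𝒜 : ℕ → Submodule A B)
  [GradedAlgebra 𝒜]
  (h0 : ∀ b : B, b ∈ 𝒜 0 ↔ b ∈ Set.range (algebraMap A B))
  (hinj : Function.Injective (algebraMap A B))

include h0 in
lemma exists_proj_zero (b : B) : ∃ a : A, algebraMap A B a = GradedAlgebra.proj 𝒜 0 b :=
  (h0 _).mp (proj_mem 𝒜 0 b)

/-- the value of the zero section -/
noncomputable def σfun (b : B) : A := Classical.choose (exists_proj_zero 𝒜 h0 b)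

lemma σfun_spec (b : B) : algebraMap A B (σfun 𝒜 h0 b) = GradedAlgebra.proj 𝒜 0 b :=
  Classical.choose_spec (exists_proj_zero 𝒜 h0 b)

lemma proj_zero_mul {A B : Type u} [CommRing A] [CommRing B] [Algebra A B]
    (𝒜 : ℕ → Submodule A B) [GradedAlgebra 𝒜] (b c : B) :
    GradedAlgebra.proj 𝒜 0 (b * c) = GradedAlgebra.proj 𝒜 0 b * GradedAlgebra.proj 𝒜 0 c := by
  have := map_mul (GradedRing.projZeroRingHom 𝒜) b c
  simpa [GradedRing.projZeroRingHom_apply, GradedAlgebra.proj_apply] using this

/-- the zero section -/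
noncomputable def σ₁ : B →ₐ[A] A where
  toFun := σfun 𝒜 h0
  map_one' := hinj (by
    rw [σfun_spec, (algebraMap A B).map_one]
    exact proj_of_mem 𝒜 (SetLike.GradedOne.one_mem))
  map_mul' b c := hinj (by rw [map_mul, σfun_spec, σfun_spec, σfun_spec, proj_zero_mul])
  map_zero' := hinj (by rw [σfun_spec, map_zero, map_zero])
  map_add' b c := hinj (by rw [map_add, σfun_spec, σfun_spec, σfun_spec, map_add])
  commutes' a := hinj (by
    show algebraMap A B (σfun 𝒜 h0 (algebraMap A B a)) = algebraMap A B a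
    rw [σfun_spec]; exact proj_of_mem 𝒜 ((h0 _).mpr ⟨a, rfl⟩))

lemma σ₁_spec (b : B) : algebraMap A B (σ₁ 𝒜 h0 hinj b) = GradedAlgebra.proj 𝒜 0 b :=
  σfun_spec 𝒜 h0 b

lemma ker_σ₁ : RingHom.ker (σ₁ 𝒜 h0 hinj) = Bp 𝒜 := by
  ext b
  rw [RingHom.mem_ker, mem_irrelevant_iff, ← σ₁_spec 𝒜 h0 hinj b]
  constructor
  · intro h; rw [h, map_zero]
  · intro h; exact hinj (by rw [h, map_zero])

variable {ι : Type} [Fintype ι] (n : Module.Basis ι A (Bp 𝒜).Cotangent)

/-- the chosen homogeneous lifts of the basis -/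
noncomputable def xs (i : ι) : B := ((sB 𝒜 n (n i) : ↥(Bp 𝒜)) : B)

lemma xs_mem (i : ι) : xs 𝒜 n i ∈ Bp 𝒜 := (sB 𝒜 n (n i)).2

/-- the comparison map -/
noncomputable def φ : MvPolynomial ι A →ₐ[A] B := MvPolynomial.aeval (xs 𝒜 n)

lemma φ_surjective (h0' : ∀ b ∈ 𝒜 0, b ∈ Set.range (algebraMap A B)) :
    Function.Surjective (φ 𝒜 n) := by
  rw [← AlgHom.range_eq_top]
  have h := C_eq_top 𝒜 n h0'
  rw [← h]
  exact (Algebra.adjoin_range_eq_range_aeval A (xs 𝒜 n)).symm

lemma mem_ker_aeval_zero (p : MvPolynomial ι A)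
    (hp : MvPolynomial.constantCoeff p = 0) :
    ∃ c : ι → MvPolynomial ι A, ∑ i, c i * MvPolynomial.X i = p := by
  have h1 : p ∈ MvPolynomial.idealOfVars ι A ^ 1 := by
    rw [MvPolynomial.mem_pow_idealOfVars_iff']
    intro x hx
    have hx0 : x = 0 := by
      have : x.degree = 0 := by omega
      exact (Finsupp.degree_eq_zero_iff x).mp this
    rw [hx0, ← MvPolynomial.constantCoeff_eq]
    exact hp
  rw [pow_one] at h1
  exact Ideal.mem_span_range_iff_exists_fun.mp h1


include h0 hinj n in
theorem main (k : Type u) [Field k] [Algebra k A] [Algebra.FiniteType k A] [Algebra.FiniteType A B]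
    (hsm : ∀ (P : Ideal B) [P.IsPrime], Bp 𝒜 ≤ P → Algebra.IsSmoothAt A P) :
    Nonempty (B ≃ₐ[A] MvPolynomial ι A) := by
  haveI : IsNoetherianRing A := Algebra.FiniteType.isNoetherianRing k A
  haveI : Algebra.FinitePresentation A B := Algebra.FinitePresentation.of_finiteType.mp inferInstance
  have hker := ker_σ₁ 𝒜 h0 hinj
  set s₁ : B →ₐ[A] A := σ₁ 𝒜 h0 hinj with hs₁
  letI : Algebra (MvPolynomial ι A) B := (φ 𝒜 n).toRingHom.toAlgebra
  haveI : IsScalarTower A (MvPolynomial ι A) B :=
    IsScalarTower.of_algebraMap_eq (fun a => ((φ 𝒜 n).commutes a).symm)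
  have halg : ∀ p : MvPolynomial ι A, algebraMap (MvPolynomial ι A) B p = φ 𝒜 n p := fun p => rfl
  have hX : ∀ i, algebraMap (MvPolynomial ι A) B (MvPolynomial.X i) = xs 𝒜 n i := fun i => by
    rw [halg]; exact MvPolynomial.aeval_X _ i
  let s₂ : MvPolynomial ι A →ₐ[A] A := MvPolynomial.aeval (fun _ => (0 : A))
  have hs₂ : ∀ p, s₂ p = MvPolynomial.constantCoeff p := fun p => MvPolynomial.aeval_zero' p
  have hσ : s₁.comp (IsScalarTower.toAlgHom A (MvPolynomial ι A) B) = s₂ := by
    apply MvPolynomial.algHom_ext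
    intro i
    show s₁ (algebraMap (MvPolynomial ι A) B (MvPolynomial.X i)) = s₂ (MvPolynomial.X i)
    rw [hX, hs₂, MvPolynomial.constantCoeff_X]
    have : xs 𝒜 n i ∈ RingHom.ker s₁ := by rw [hker]; exact xs_mem 𝒜 n i
    exact this
  have hσ' : ∀ p : MvPolynomial ι A, s₁ (algebraMap (MvPolynomial ι A) B p) = s₂ p := fun p =>
    AlgHom.congr_fun hσ p
  have hle : RingHom.ker s₂ ≤
      (RingHom.ker s₁).comap (IsScalarTower.toAlgHom A (MvPolynomial ι A) B) := by
    intro p hp
    show s₁ (algebraMap (MvPolynomial ι A) B p) = 0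
    rw [hσ']; exact hp
  have hxs : ∀ i, xs 𝒜 n i ∈ RingHom.ker s₁ := fun i => by rw [hker]; exact xs_mem 𝒜 n i
  have hXker : ∀ i, (MvPolynomial.X i : MvPolynomial ι A) ∈ RingHom.ker s₂ := fun i => by
    rw [RingHom.mem_ker, hs₂, MvPolynomial.constantCoeff_X]
  have hcot : Function.Bijective
      (Ideal.mapCotangent (RingHom.ker s₂) (RingHom.ker s₁)
        (IsScalarTower.toAlgHom A (MvPolynomial ι A) B) hle) := by
    constructor
    · rw [injective_iff_map_eq_zero]
      intro c hc
      obtain ⟨⟨p, hp⟩, rfl⟩ := Ideal.toCotangent_surjective _ c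
      obtain ⟨c, hcp⟩ := mem_ker_aeval_zero p (by rw [← hs₂]; exact hp)
      have hpc : (RingHom.ker s₂).toCotangent ⟨p, hp⟩ =
          ∑ i, (s₂ (c i)) • (RingHom.ker s₂).toCotangent ⟨MvPolynomial.X i, hXker i⟩ := by
        have : (⟨p, hp⟩ : ↥(RingHom.ker s₂)) = ∑ i, c i • ⟨MvPolynomial.X i, hXker i⟩ := by
          subst hcp
          apply Subtype.ext
          simp [smul_eq_mul]
        rw [this, map_sum]
        refine Finset.sum_congr rfl (fun i _ => ?_)
        rw [map_smul, SectionCot.smul_cotangent s₂]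
      rw [hpc] at hc ⊢
      rw [map_sum] at hc
      have hc2 : ∑ i, (s₂ (c i)) • n i = 0 := by
        have e1 : ∀ i, (Ideal.mapCotangent (RingHom.ker s₂) (RingHom.ker s₁)
            (IsScalarTower.toAlgHom A (MvPolynomial ι A) B) hle)
            (s₂ (c i) • (RingHom.ker s₂).toCotangent ⟨MvPolynomial.X i, hXker i⟩) =
            (RingHom.ker s₁).toCotangent (s₂ (c i) • ⟨xs 𝒜 n i, hxs i⟩) := fun i => by
          rw [map_smul, Ideal.mapCotangent_toCotangent, LinearMap.map_smul_of_tower]
          congr 2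
          apply Subtype.ext
          exact hX i
        rw [Finset.sum_congr rfl (fun i _ => e1 i), ← map_sum, Ideal.toCotangent_eq_zero] at hc
        replace hc := Ideal.pow_right_mono hker.le 2 hc
        have e2 : toCot 𝒜 (∑ i, s₂ (c i) • sB 𝒜 n (n i)) = 0 := by
          rw [toCot_eq_zero]
          have e3 : ((∑ i, s₂ (c i) • sB 𝒜 n (n i) : ↥(Bp 𝒜)) : B) =
              ((∑ i, s₂ (c i) • (⟨xs 𝒜 n i, hxs i⟩ : ↥(RingHom.ker s₁)) :
                ↥(RingHom.ker s₁)) : B) := by
            rw [AddSubmonoidClass.coe_finsetSum, AddSubmonoidClass.coe_finsetSum]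
            rfl
          rw [e3]; exact hc
        rw [map_sum] at e2
        rw [← e2]
        refine Finset.sum_congr rfl (fun i _ => ?_)
        rw [map_smul, toCot_sB]
      have hc3 : ∀ i, s₂ (c i) = 0 := fun i =>
        (Fintype.linearIndependent_iff.mp n.linearIndependent _ hc2) i
      refine Finset.sum_eq_zero (fun i _ => ?_)
      rw [hc3 i, zero_smul]
    · intro c
      obtain ⟨⟨b, hb⟩, rfl⟩ := Ideal.toCotangent_surjective _ c
      have hb' : b ∈ Bp 𝒜 := by rw [← hker]; exact hb
      let a := n.repr (toCot 𝒜 ⟨b, hb'⟩)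
      have h1 : ∑ i, a i • n i = toCot 𝒜 ⟨b, hb'⟩ := n.sum_repr _
      let p : MvPolynomial ι A := ∑ i, MvPolynomial.C (a i) * MvPolynomial.X i
      have hp : p ∈ RingHom.ker s₂ := by
        rw [RingHom.mem_ker, hs₂, map_sum]
        refine Finset.sum_eq_zero (fun i _ => ?_)
        rw [map_mul, MvPolynomial.constantCoeff_X, mul_zero]
      refine ⟨(RingHom.ker s₂).toCotangent ⟨p, hp⟩, ?_⟩
      rw [Ideal.mapCotangent_toCotangent, Ideal.toCotangent_eq]
      apply Ideal.pow_right_mono hker.ge 2
      show algebraMap (MvPolynomial ι A) B p - b ∈ Bp 𝒜 ^ 2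
      have e2 : toCot 𝒜 (∑ i, a i • sB 𝒜 n (n i) - ⟨b, hb'⟩) = 0 := by
        rw [map_sub, map_sum, ← h1, sub_eq_zero]
        refine Finset.sum_congr rfl (fun i _ => ?_)
        rw [map_smul, toCot_sB]
      rw [toCot_eq_zero] at e2
      convert e2 using 1
      simp only [p, map_sum, map_mul, hX, xs]
      rw [AddSubgroupClass.coe_sub, AddSubmonoidClass.coe_finsetSum]
      congr 1
      refine Finset.sum_congr rfl (fun i _ => ?_)
      show _ = a i • ((sB 𝒜 n (n i) : ↥(Bp 𝒜)) : B)
      rw [Algebra.smul_def, IsScalarTower.algebraMap_apply A (MvPolynomial ι A) B,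
        MvPolynomial.algebraMap_eq]
  -- étaleness along the zero section
  have het : ∀ (P : Ideal B) [P.IsPrime], RingHom.ker s₁ ≤ P →
      Algebra.IsEtaleAt (MvPolynomial ι A) P := fun P _ hP =>
    Groth.Agent.S18962.result A B (MvPolynomial ι A) s₁ s₂ hσ hle hcot
      (fun Q _ hQ => hsm Q (by rw [← hker]; exact hQ)) P hP
  have hsurj : Function.Surjective (φ 𝒜 n) := φ_surjective 𝒜 n (fun b hb => (h0 b).mp hb)
  have hinjφ : Function.Injective (φ 𝒜 n) := by
    rw [injective_iff_map_eq_zero]
    intro p hp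
    apply eq_zero_of_forall_prime p
    intro q _
    have hPker : RingHom.ker s₁ ≤ q.comap s₁.toRingHom := by
      intro b hb
      show s₁ b ∈ q
      rw [RingHom.mem_ker.mp hb]; exact q.zero_mem
    obtain ⟨u, hu, hup⟩ := exists_notMem_mul_eq_zero (R := MvPolynomial ι A) (B := B) hsurj
      (q.comap s₁.toRingHom) (het _ hPker) p hp
    refine ⟨u, ?_, hup⟩
    intro hmem
    apply hu
    show s₁ (algebraMap (MvPolynomial ι A) B u) ∈ q
    rw [hσ', hs₂]
    exact hmem
  exact ⟨(AlgEquiv.ofBijective (φ 𝒜 n) ⟨hinjφ, hsurj⟩).symm⟩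

end main

end Groth.Agent.Helper3.BBPoly
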