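import Groth.Agent.Lib.Helper3.KF5
import Groth.Prelude.Def_DTen5

/-!
# Chain-level change of rings for Hom complexes (helper3)

For `φ : R → R'`, `P` a complex of `R`-modules and `N` a complex of `R'`-modules:
`κ φ P N : res Hom_{R'}(ext P, N) ⟶ Hom_R(P, res N)`, an isomorphism of complexes.
-/

set_option autoImplicit false

open CategoryTheory CategoryTheory.Limits MonoidalCategory CochainComplex HomComplex
open scoped TensorProduct

universe u

attribute [local instance] HasDerivedCategory.standard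

namespace Groth.Agent.Helper3.BC

open Groth.Agent.Helper3.HT Groth.Agent.Helper3.DT Groth.Agent.Helper3.RH

variable {R R' : Type u} [CommRing R] [CommRing R'] (φ : R →+* R')

/-- the uncurried form of `κ`: `res Hom'(ext P, N) ⊗_R P ⟶ res N`, `f ⊗ p ↦ f (1 ⊗ p)` -/
noncomputable def κt (P : DRing.Cx R) (N : DRing.Cx R') :
    (DTen.resCx φ).obj (DRing.homCx ((DTen.extCx φ).obj P) N) ⊗ P ⟶ (DTen.resCx φ).obj N :=
  ((DTen.resCx φ).obj (DRing.homCx ((DTen.extCx φ).obj P) N) ◁ (DTen.unitCx φ).app P) ≫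
    DTen.resTenCx φ (DRing.homCx ((DTen.extCx φ).obj P) N) ((DTen.extCx φ).obj P) ≫
      (DTen.resCx φ).map (evH ((DTen.extCx φ).obj P) N)

/-- `res Hom_{R'}(ext P, N) ⟶ Hom_R(P, res N)` -/
noncomputable def κ (P : DRing.Cx R) (N : DRing.Cx R') :
    (DTen.resCx φ).obj (DRing.homCx ((DTen.extCx φ).obj P) N) ⟶
      DRing.homCx P ((DTen.resCx φ).obj N) :=
  curH (κt φ P N)

theorem uncH_κ (P : DRing.Cx R) (N : DRing.Cx R') : uncH (κ φ P N) = κt φ P N := uncH_curH _

/-- the unit `P^q ⟶ res (R' ⊗ P^q)` on elements -/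
noncomputable abbrev uElt (P : DRing.Cx R) (q : ℤ) (y : P.X q) : ((DTen.extCx φ).obj P).X q :=
  ((ModuleCat.extendRestrictScalarsAdj.{u, u, u} φ).unit.app (P.X q)).hom y

theorem resTenCx_ι_tmul (Y Y' : DRing.Cx R') (p q n : ℤ) (h : p + q = n) (x : Y.X p) (y : Y'.X q) :
    ((DTen.resTenCx φ Y Y').f n).hom
      ((HomologicalComplex.ιTensorObj ((DTen.resCx φ).obj Y) ((DTen.resCx φ).obj Y') p q n h).hom
        ((show ((DTen.resCx φ).obj Y).X p from x) ⊗ₜ[R] (show ((DTen.resCx φ).obj Y').X q from y))) =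
      (HomologicalComplex.ιTensorObj Y Y' p q n h).hom (x ⊗ₜ[R'] y) := by
  have h1 := congrArg (fun f => f.hom ((show ((DTen.resCx φ).obj Y).X p from x) ⊗ₜ[R]
    (show ((DTen.resCx φ).obj Y').X q from y))) (DTen.ι_resTenCx φ Y Y' p q n h)
  exact h1

theorem κ_apply (P : DRing.Cx R) (N : DRing.Cx R') (i q m : ℤ) (h : i + q = m)
    (z : ((DTen.resCx φ).obj (DRing.homCx ((DTen.extCx φ).obj P) N)).X i) (y : P.X q) :
    ((toC (((κ φ P N).f i).hom z)).v q m (by omega)).hom y =
      ((toC (show (DRing.homCx ((DTen.extCx φ).obj P) N).X i from z)).v q m (by omega)).hom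
        (uElt φ P q y) := by
  rw [κ, curH_f_apply (κt φ P N) i q m h z y, κt]
  rw [HomologicalComplex.comp_f, HomologicalComplex.comp_f, ModuleCat.hom_comp, ModuleCat.hom_comp,
    LinearMap.comp_apply, LinearMap.comp_apply, whiskerLeft_ι_tmul]
  erw [resTenCx_ι_tmul φ (DRing.homCx ((DTen.extCx φ).obj P) N) ((DTen.extCx φ).obj P) i q m h z
    (uElt φ P q y)]
  exact evH_f_tmul ((DTen.extCx φ).obj P) N i q m h z (uElt φ P q y)

theorem κ_f_injective (P : DRing.Cx R) (N : DRing.Cx R') (i : ℤ) :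
    Function.Injective ((κ φ P N).f i).hom := by
  intro z z' hzz
  change Cochain ((DTen.extCx φ).obj P) N i at z z'
  apply Cochain.ext
  intro q m hqm
  apply ((ModuleCat.extendRestrictScalarsAdj.{u, u, u} φ).homEquiv _ _).injective
  rw [Adjunction.homEquiv_unit, Adjunction.homEquiv_unit]
  apply ModuleCat.hom_ext
  apply LinearMap.ext
  intro y
  have h1 := κ_apply φ P N i q m (by omega) z y
  have h2 := κ_apply φ P N i q m (by omega) z' y
  rw [hzz] at h1
  exact h1.symm.trans h2

/-- a component of a cochain into a restricted complex -/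
noncomputable def cvr {P : DRing.Cx R} {N : DRing.Cx R'} {i : ℤ} (c : Cochain P ((DTen.resCx φ).obj N) i)
    (q m : ℤ) (h : q + i = m) : P.X q ⟶ (ModuleCat.restrictScalars.{u} φ).obj (N.X m) :=
  c.v q m h

theorem κ_f_surjective (P : DRing.Cx R) (N : DRing.Cx R') (i : ℤ) :
    Function.Surjective ((κ φ P N).f i).hom := by
  intro c
  change Cochain P ((DTen.resCx φ).obj N) i at c
  let z : Cochain ((DTen.extCx φ).obj P) N i :=
    Cochain.mk (fun q m hqm =>
      ((ModuleCat.extendRestrictScalarsAdj.{u, u, u} φ).homEquiv (P.X q) (N.X m)).symm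
        (cvr φ c q m hqm))
  refine ⟨z, ?_⟩
  apply toC_injective
  apply Cochain.ext
  intro q m hqm
  apply ModuleCat.hom_ext
  apply LinearMap.ext
  intro y
  have h1 := κ_apply φ P N i q m (by omega) z y
  refine h1.trans ?_
  have h2 : (ModuleCat.extendRestrictScalarsAdj.{u, u, u} φ).unit.app (P.X q) ≫
      (ModuleCat.restrictScalars.{u} φ).map
        (((ModuleCat.extendRestrictScalarsAdj.{u, u, u} φ).homEquiv (P.X q) (N.X m)).symm
          (cvr φ c q m hqm)) = cvr φ c q m hqm := by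
    have h4 := ((ModuleCat.extendRestrictScalarsAdj.{u, u, u} φ).homEquiv (P.X q)
      (N.X m)).apply_symm_apply (cvr φ c q m hqm)
    rw [Adjunction.homEquiv_unit] at h4
    exact h4
  have h3 := congrArg (fun f => f.hom y) h2
  exact h3

instance isIso_κ (P : DRing.Cx R) (N : DRing.Cx R') : IsIso (κ φ P N) := by
  haveI : ∀ i, IsIso ((κ φ P N).f i) := fun i =>
    (ConcreteCategory.isIso_iff_bijective _).mpr ⟨κ_f_injective φ P N i, κ_f_surjective φ P N i⟩
  exact HomologicalComplex.Hom.isIso_of_components _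

end Groth.Agent.Helper3.BC
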