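import Groth.Agent.Lib.Helper3.TH6
import Groth.Agent.Lib.Helper3.TH4

/-!
# S13891: `K ⊗^L RHom(M, L) ⟶ RHom(M, K ⊗^L L)` is an isomorphism for perfect `M`
-/

set_option autoImplicit false

open CategoryTheory CategoryTheory.Limits MonoidalCategory

universe u

attribute [local instance] HasDerivedCategory.standard

namespace Groth.Agent.Helper3.TH

open Groth.Agent.Helper11.LDer Groth.Agent.Helper11.DC Groth.Agent.Helper11.Tel
open Groth.Agent.Helper3.HT Groth.Agent.Helper3.DT Groth.Agent.Helper3.RH Groth.Agent.Helper3.DS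

variable {A : Type u} [CommRing A] [DTen.HasLTen A] [DTen.HasLTen₃ A] [DTen.IsSymMonoidal A]
  [DTen.HasRHom A]

theorem isIso_evalTen_of_isPerfect_right (K L M : Dual.D A) (hM : DRing.IsPerfect A M) :
    IsIso (DTen.evalTen K L M) := by
  obtain ⟨E, a, b, hE, hfp, ⟨eM⟩⟩ := hM
  haveI := isKProjective_of_bounded E a b hE hfp
  obtain ⟨W, hW, -, ⟨eL⟩⟩ := exists_kprojective_rep L
  obtain ⟨K', hK', -, ⟨eK⟩⟩ := exists_kprojective_rep K
  haveI := isKProjective_homCx_of_perfect E a b hE hfp W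
  have hθ : QuasiIso ((K' ◁ 𝟙 (DRing.homCx E W)) ≫ θ K' E W) := by
    rw [MonoidalCategory.whiskerLeft_id, Category.id_comp]
    exact quasiIso_θ_of_perfect_mid E a b hE hfp K' W
  have h := isIso_evalTen_of_quasiIso K' E W (DRing.homCx E W) (𝟙 _) hθ
  exact isIso_evalTen_of_iso eK.symm eL.symm eM.symm h

end Groth.Agent.Helper3.TH
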