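import Groth.Agent.Lib.Helper3.TH8
import Groth.Agent.Lib.Helper3.TH7

/-!
# S13889: `RHom(L, M) ⊗^L K ⟶ RHom(RHom(K, L), M)` is an isomorphism for perfect `K`
-/

set_option autoImplicit false

open CategoryTheory CategoryTheory.Limits MonoidalCategory

universe u

attribute [local instance] HasDerivedCategory.standard

namespace Groth.Agent.Helper3.TH

open Groth.Agent.Helper11.LDer Groth.Agent.Helper11.DC Groth.Agent.Helper11.Tel
open Groth.Agent.Helper3.HT Groth.Agent.Helper3.DT Groth.Agent.Helper3.RH Groth.Agent.Helper3.DS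

variable {A : Type u} [CommRing A]

/-- tensoring on the right with a bounded complex of finite projectives preserves quasi-isos -/
theorem quasiIso_whiskerRight_of_perfect (E : DRing.Cx A) (a b : ℤ)
    (hE : DRing.VanishesOutside E a b) (hfp : DRing.TermwiseFiniteProjective E)
    {Y Y' : DRing.Cx A} (s : Y ⟶ Y') (hs : QuasiIso s) : QuasiIso (s ▷ E) := by
  haveI := quasiIso_whiskerLeft_of_perfect E a b hE hfp s hs
  have h1 := DTen.braidCx_naturality s (𝟙 E)
  rw [MonoidalCategory.tensorHom_id, MonoidalCategory.id_tensorHom] at h1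
  have h2 : s ▷ E = (DTen.braidCx Y E).hom ≫ (E ◁ s) ≫ (DTen.braidCx Y' E).inv := by
    rw [← Category.assoc, ← h1, Category.assoc, Iso.hom_inv_id, Category.comp_id]
  rw [h2]
  infer_instance

variable [DTen.HasLTen A] [DTen.HasLTen₃ A] [DTen.IsSymMonoidal A] [DTen.HasRHom A]

omit [DTen.HasLTen₃ A] [DTen.IsSymMonoidal A] [DTen.HasRHom A] in
@[reassoc]
theorem symm_nat_left {K K' : Dual.D A} (f : K ⟶ K') (L : Dual.D A) :
    tL(L, f) ≫ (DTen.symm A).app (K', L) = (DTen.symm A).app (K, L) ≫ tR(f, L) :=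
  (DTen.symm A).naturality (Prod.mkHom f (𝟙 L) : (K, L) ⟶ (K', L))

omit [DTen.HasLTen₃ A] [DTen.IsSymMonoidal A] [DTen.HasRHom A] in
@[reassoc]
theorem symm_nat_right (K : Dual.D A) {L L' : Dual.D A} (g : L ⟶ L') :
    tR(g, K) ≫ (DTen.symm A).app (K, L') = (DTen.symm A).app (K, L) ≫ tL(K, g) :=
  (DTen.symm A).naturality (Prod.mkHom (𝟙 K) g : (K, L) ⟶ (K, L'))

@[reassoc]
theorem evalHom_fac' (K L M : Dual.D A) :
    tR(DTen.evalHom K L M, (DTen.RHomR A K).obj L) ≫ DTen.ev ((DTen.RHomR A K).obj L) M =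
      DTen.evalHomAux K L M :=
  DTen.evalHom_fac K L M

omit [DTen.HasLTen₃ A] [DTen.IsSymMonoidal A] in
@[reassoc]
theorem RHomMap_ev' {L L' : Dual.D A} (g : L' ⟶ L) (M : Dual.D A) :
    tR(DTen.RHomMap g M, L') ≫ DTen.ev L' M = tL((DTen.RHomR A L).obj M, g) ≫ DTen.ev L M :=
  DTen.RHom_map_ev g M

omit [DTen.HasLTen₃ A] [DTen.IsSymMonoidal A] in
theorem isIso_RHomMap {L L' : Dual.D A} (g : L' ⟶ L) [IsIso g] (M : Dual.D A) :
    IsIso (DTen.RHomMap g M) := by
  haveI : IsIso ((DTen.RHom A).map g.op) := inferInstance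
  exact NatIso.isIso_app_of_isIso ((DTen.RHom A).map g.op) M

/-- translation: `evalHom` on images of K-projective complexes is an isomorphism as soon as the
chain-level map is a quasi-isomorphism -/
theorem isIso_evalHom_of_quasiIso (E P W R' : DRing.Cx A) [E.IsKProjective] [P.IsKProjective]
    [(DRing.homCx E P).IsKProjective] [R'.IsKProjective] (s : R' ⟶ DRing.homCx P W) [QuasiIso s]
    (hψ : QuasiIso ((s ▷ E) ≫ ψ E P W)) :
    IsIso (DTen.evalHom (DerivedCategory.Q.obj E) (DerivedCategory.Q.obj P)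
      (DerivedCategory.Q.obj W)) := by
  haveI := isIso_ε R' E
  haveI : IsIso (DerivedCategory.Q.map s) := (DerivedCategory.isIso_Q_map_iff_quasiIso (φ := s)).mpr
    inferInstance
  haveI : IsIso (DerivedCategory.Q.map ((s ▷ E) ≫ ψ E P W)) :=
    (DerivedCategory.isIso_Q_map_iff_quasiIso (φ := (s ▷ E) ≫ ψ E P W)).mpr hψ
  haveI : IsIso (rhoHom P W) := (inferInstance : IsIso (rho P W).hom)
  haveI : IsIso (rhoHom E P) := (inferInstance : IsIso (rho E P).hom)
  haveI : IsIso (rhoInv (DRing.homCx E P) W) :=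
    (inferInstance : IsIso (rho (DRing.homCx E P) W).inv)
  obtain ⟨ρ', hρ'iso, hρ⟩ : ∃ ρ' : (DTen.RHomR A (DerivedCategory.Q.obj P)).obj
      (DerivedCategory.Q.obj W) ⟶ DerivedCategory.Q.obj R', IsIso ρ' ∧
      rhoHom P W = ρ' ≫ DerivedCategory.Q.map s :=
    ⟨rhoHom P W ≫ inv (DerivedCategory.Q.map s), inferInstance, by
      rw [Category.assoc, IsIso.inv_hom_id, Category.comp_id]⟩
  haveI := isIso_tR ρ' (DerivedCategory.Q.obj E)
  obtain ⟨ρ₁, hρ₁iso, hρ₁⟩ : ∃ ρ₁ : (DTen.RHomR A (DerivedCategory.Q.obj E)).obj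
      (DerivedCategory.Q.obj P) ⟶ DerivedCategory.Q.obj (DRing.homCx E P), IsIso ρ₁ ∧
      ρ₁ = rhoHom E P := ⟨rhoHom E P, inferInstance, rfl⟩
  haveI := isIso_RHomMap ρ₁ (DerivedCategory.Q.obj W)
  have key : DTen.evalHom (DerivedCategory.Q.obj E) (DerivedCategory.Q.obj P)
      (DerivedCategory.Q.obj W) = tR(ρ', DerivedCategory.Q.obj E) ≫ (DTen.ε A).app (R', E) ≫
    DerivedCategory.Q.map ((s ▷ E) ≫ ψ E P W) ≫ rhoInv (DRing.homCx E P) W ≫
    DTen.RHomMap ρ₁ (DerivedCategory.Q.obj W) := by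
    apply adj_ext
    rw [DTen.evalHom_fac]
    -- the two evaluations
    have hev : DTen.ev (DerivedCategory.Q.obj P) (DerivedCategory.Q.obj W) =
        tR(ρ', DerivedCategory.Q.obj P) ≫ (DTen.ε A).app (R', P) ≫
          DerivedCategory.Q.map ((s ▷ P) ≫ evH P W) := by
      rw [← rhoHom_spec, hρ, tR_comp, Category.assoc, evD, ε_nat_left_assoc, ← Functor.map_comp]
    have hsf := DTen.symm_fac A (DRing.homCx E P) E
    have hev1 : (DTen.symm A).app ((DTen.RHomR A (DerivedCategory.Q.obj E)).obj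
        (DerivedCategory.Q.obj P), DerivedCategory.Q.obj E) ≫
        DTen.ev (DerivedCategory.Q.obj E) (DerivedCategory.Q.obj P) =
        tL(DerivedCategory.Q.obj E, ρ₁) ≫ (DTen.ε A).app (E, DRing.homCx E P) ≫
          DerivedCategory.Q.map ((DTen.braidCx E (DRing.homCx E P)).hom ≫ evH E P) := by
      rw [← rhoHom_spec E P, ← hρ₁, ← symm_nat_left_assoc, evD, reassoc_of% hsf,
        ← Functor.map_comp]
    have hL : DTen.evalHomAux (DerivedCategory.Q.obj E) (DerivedCategory.Q.obj P)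
        (DerivedCategory.Q.obj W) =
        tL((DTen.LTen₂ A).obj ((DTen.RHomR A (DerivedCategory.Q.obj P)).obj
          (DerivedCategory.Q.obj W), DerivedCategory.Q.obj E), ρ₁) ≫
        tR(tR(ρ', DerivedCategory.Q.obj E), DerivedCategory.Q.obj (DRing.homCx E P)) ≫
        tR((DTen.ε A).app (R', E), DerivedCategory.Q.obj (DRing.homCx E P)) ≫
        (DTen.ε A).app (R' ⊗ E, DRing.homCx E P) ≫
        DerivedCategory.Q.map ((α_ R' E (DRing.homCx E P)).hom ≫
          R' ◁ ((DTen.braidCx E (DRing.homCx E P)).hom ≫ evH E P) ≫ (s ▷ P) ≫ evH P W) := by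
      rw [DTen.evalHomAux, hev1, hev, tL_comp, tL_comp]
      simp only [Category.assoc]
      rw [← associator_nat_right_assoc]
      rw [← tR_tL_assoc ρ' (DerivedCategory.Q.map
        ((DTen.braidCx E (DRing.homCx E P)).hom ≫ evH E P))]
      erw [← tR_tL_assoc ρ' ((DTen.ε A).app (E, DRing.homCx E P))]
      erw [← associator_nat_left_assoc]
      rw [ε_nat_right_assoc]
      erw [associator_ε_assoc]
      rw [← Functor.map_comp, ← Functor.map_comp]
    rw [hL, tR_comp, tR_comp, tR_comp, tR_comp]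
    simp only [Category.assoc]
    rw [RHomMap_ev', tR_tL_assoc, rhoInv_spec, tR_tL_assoc, tR_Q_evD]
    have hchain : uncH (s ▷ E ≫ ψ E P W) = (α_ R' E (DRing.homCx E P)).hom ≫
        R' ◁ ((DTen.braidCx E (DRing.homCx E P)).hom ≫ evH E P) ≫ s ▷ P ≫ evH P W := by
      rw [uncH_comp_left, uncH_ψ, χ, ← Category.assoc,
        MonoidalCategory.associator_naturality_left, Category.assoc,
        ← MonoidalCategory.whisker_exchange_assoc]
    rw [hchain]
    erw [tR_tL_assoc, tR_tL_assoc]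
    rfl
  rw [key]
  infer_instance

theorem evalHom_nat_M (K L : Dual.D A) {M M' : Dual.D A} (m : M ⟶ M') :
    tR((DTen.RHomR A L).map m, K) ≫ DTen.evalHom K L M' =
      DTen.evalHom K L M ≫ (DTen.RHomR A ((DTen.RHomR A K).obj L)).map m := by
  apply adj_ext
  rw [tR_comp, tR_comp, Category.assoc, Category.assoc, DTen.evalHom_fac, tR_map_ev,
    evalHom_fac'_assoc, DTen.evalHomAux, DTen.evalHomAux, associator_nat_left_assoc,
    tR_tL_assoc, tR_map_ev]
  simp only [Category.assoc]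

theorem evalHom_nat_L (K : Dual.D A) {L L' : Dual.D A} (l : L ⟶ L') (M : Dual.D A) :
    tR(DTen.RHomMap l M, K) ≫ DTen.evalHom K L M =
      DTen.evalHom K L' M ≫ DTen.RHomMap ((DTen.RHomR A K).map l) M := by
  apply adj_ext
  rw [tR_comp, tR_comp, Category.assoc, Category.assoc, DTen.evalHom_fac, RHomMap_ev',
    tR_tL_assoc, DTen.evalHom_fac, DTen.evalHomAux, DTen.evalHomAux, associator_nat_left_assoc,
    tR_tL_assoc, RHomMap_ev', associator_nat_right_assoc, ← tL_comp_assoc, ← tL_comp_assoc]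
  congr 2
  rw [symm_nat_left_assoc, tR_map_ev, Category.assoc]

theorem evalHom_nat_K {K K' : Dual.D A} (k : K ⟶ K') (L M : Dual.D A) :
    tL((DTen.RHomR A L).obj M, k) ≫ DTen.evalHom K' L M =
      DTen.evalHom K L M ≫ DTen.RHomMap (DTen.RHomMap k L) M := by
  apply adj_ext
  rw [tR_comp, tR_comp, Category.assoc, Category.assoc, DTen.evalHom_fac, RHomMap_ev',
    tR_tL_assoc, DTen.evalHom_fac, DTen.evalHomAux, DTen.evalHomAux, associator_nat_mid_assoc,
    associator_nat_right_assoc, ← tL_comp_assoc, ← tL_comp_assoc]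
  congr 2
  rw [symm_nat_right_assoc, symm_nat_left_assoc, RHomMap_ev']

theorem isIso_evalHom_of_iso {K K' L L' M M' : Dual.D A} (eK : K ≅ K') (eL : L ≅ L')
    (eM : M ≅ M') (h : IsIso (DTen.evalHom K' L' M')) : IsIso (DTen.evalHom K L M) := by
  have h1 : IsIso (DTen.evalHom K L' M') := by
    haveI := isIso_tL ((DTen.RHomR A L').obj M') eK.hom
    haveI := isIso_RHomMap eK.hom L'
    haveI := isIso_RHomMap (DTen.RHomMap eK.hom L') M'
    exact isIso_of_square (evalHom_nat_K eK.hom L' M')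
  have h2 : IsIso (DTen.evalHom K L M') := by
    haveI := isIso_RHomMap eL.inv M'
    haveI := isIso_tR (DTen.RHomMap eL.inv M') K
    haveI := isIso_RHomMap ((DTen.RHomR A K).map eL.inv) M'
    exact isIso_of_square (evalHom_nat_L K eL.inv M')
  haveI := isIso_tR ((DTen.RHomR A L).map eM.hom) K
  exact isIso_of_square (evalHom_nat_M K L eM.hom)

theorem isIso_evalHom_of_isPerfect (K L M : Dual.D A) (hK : DRing.IsPerfect A K) :
    IsIso (DTen.evalHom K L M) := by
  obtain ⟨E, a, b, hE, hfp, ⟨eK⟩⟩ := hK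
  haveI := isKProjective_of_bounded E a b hE hfp
  obtain ⟨P, hP, -, ⟨eL⟩⟩ := exists_kprojective_rep L
  obtain ⟨W, hW, -, ⟨eM⟩⟩ := exists_kprojective_rep M
  haveI := isKProjective_homCx_of_perfect E a b hE hfp P
  obtain ⟨R', s, hR', -, hs⟩ := exists_kprojective_resolution (DRing.homCx P W)
  haveI := quasiIso_whiskerRight_of_perfect E a b hE hfp s hs
  haveI := quasiIso_ψ_of_perfect E a b hE hfp P W
  have h := isIso_evalHom_of_quasiIso E P W R' s inferInstance
  exact isIso_evalHom_of_iso eK.symm eL.symm eM.symm h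

end Groth.Agent.Helper3.TH
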