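import Groth.Agent.Lib.Helper3.BC1
import Groth.Agent.Lib.Helper3.TH9

/-!
# Chain-level description of `DTen.rhomBC` (helper3)
-/

set_option autoImplicit false

open CategoryTheory CategoryTheory.Limits MonoidalCategory CochainComplex HomComplex
open scoped TensorProduct

universe u

attribute [local instance] HasDerivedCategory.standard

namespace Groth.Agent.Helper3.BC

open Groth.Agent.Helper11.LDer Groth.Agent.Helper11.DC Groth.Agent.Helper11.Tel
open Groth.Agent.Helper3.HT Groth.Agent.Helper3.DT Groth.Agent.Helper3.RH Groth.Agent.Helper3.TH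

variable {R R' : Type u} [CommRing R] [CommRing R'] (φ : R →+* R')

instance isKProjective_ext (P : DRing.Cx R) [P.IsKProjective] :
    ((DTen.extCx φ).obj P).IsKProjective := Groth.Agent.Helper11.Dev.isKProjective_esC φ P

section

variable [DTen.HasLTen R] [DTen.HasLTen R'] [DTen.HasLBase φ] [DTen.HasResTen φ] [DTen.ResLegIso φ]

/-- `resPF` at images of complexes, in terms of the counits -/
theorem resPF_app_Q (Y Y' : DRing.Cx R') :
    (DTen.resPF φ).app (DerivedCategory.Q.obj Y, DerivedCategory.Q.obj Y') ≫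
        (DRing.restrictD φ).map ((DTen.ε R').app (Y, Y')) =
      (DTen.LTen₂ R).map (Prod.mkHom ((DTen.resFactors φ).hom.app Y)
          ((DTen.resFactors φ).hom.app Y')) ≫
        (DTen.ε R).app ((DTen.resCx φ).obj Y, (DTen.resCx φ).obj Y') ≫
          DerivedCategory.Q.map (DTen.resTenCx φ Y Y') ≫
            (DTen.resFactors φ).inv.app ((DTen.tensorT R').obj (Y, Y')) := by
  have h := DTen.resPF_fac φ (Y, Y')
  dsimp only [DTen.resβB, DTen.resβA] at h
  have h2 := (DTen.resFactors φ).hom_inv_id_app ((DTen.tensorT R').obj (Y, Y'))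
  have h3 := congrArg (fun t => t ≫ (DTen.resFactors φ).inv.app ((DTen.tensorT R').obj (Y, Y'))) h
  simp only [Category.assoc] at h3
  dsimp only [Functor.comp_obj] at h2 h3
  rw [h2, Category.comp_id] at h3
  exact h3

/-- the unit of base change at the image of a complex -/
theorem unit_baseCmp (P : DRing.Cx R) :
    (DTen.baseAdj φ).unit.app (DerivedCategory.Q.obj P) ≫
        (DRing.restrictD φ).map ((DTen.baseCmp φ).app P) ≫
          (DTen.resFactors φ).hom.app ((DTen.extCx φ).obj P) =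
      DerivedCategory.Q.map ((DTen.unitCx φ).app P) := by
  rw [← Category.assoc, DTen.baseCmp_fac]
  dsimp only [DTen.baseγ]
  rw [Category.assoc]
  have h2 := (DTen.resFactors φ).inv_hom_id_app ((DTen.extCx φ).obj P)
  dsimp only [Functor.comp_obj] at h2
  rw [h2]
  exact Category.comp_id _

omit [DTen.HasLBase φ] in
@[reassoc]
theorem resPF_nat_left {A₁ B₁ : Dual.D R'} (f : A₁ ⟶ B₁) (X : Dual.D R') :
    tR((DRing.restrictD φ).map f, (DRing.restrictD φ).obj X) ≫ (DTen.resPF φ).app (B₁, X) =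
      (DTen.resPF φ).app (A₁, X) ≫ (DRing.restrictD φ).map tR(f, X) := by
  have h := (DTen.resPF φ).naturality (Prod.mkHom f (𝟙 X) : (A₁, X) ⟶ (B₁, X))
  dsimp only [Functor.comp_map, Functor.prod_map, Prod.mkHom] at h
  rw [CategoryTheory.Functor.map_id] at h
  exact h

omit [DTen.HasLBase φ] in
@[reassoc]
theorem resPF_nat_right (X : Dual.D R') {A₂ B₂ : Dual.D R'} (f : A₂ ⟶ B₂) :
    tL((DRing.restrictD φ).obj X, (DRing.restrictD φ).map f) ≫ (DTen.resPF φ).app (X, B₂) =
      (DTen.resPF φ).app (X, A₂) ≫ (DRing.restrictD φ).map tL(X, f) := by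
  have h := (DTen.resPF φ).naturality (Prod.mkHom (𝟙 X) f : (X, A₂) ⟶ (X, B₂))
  dsimp only [Functor.comp_map, Functor.prod_map, Prod.mkHom] at h
  rw [CategoryTheory.Functor.map_id] at h
  exact h

end

section Star

variable [DTen.HasLTen R] [DTen.HasLTen R'] [DTen.HasRHom R] [DTen.HasRHom R'] [DTen.HasLBase φ]
  [DTen.HasResTen φ] [DTen.ResLegIso φ]

theorem tR_rhomBC (K : Dual.D R) (M : Dual.D R') :
    tR(DTen.rhomBC φ K M, K) ≫ DTen.ev K ((DRing.restrictD φ).obj M) = DTen.rhomBCCore φ K M :=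
  DTen.rhomBC_fac φ K M

/-- the comparison on the source of `rhomBC` -/
noncomputable def uS (P : DRing.Cx R) (N : DRing.Cx R') :
    (DerivedCategory.Q.obj ((DTen.resCx φ).obj (DRing.homCx ((DTen.extCx φ).obj P) N)) : Dual.D R) ⟶
      (DRing.restrictD φ).obj ((DTen.RHomR R' ((DTen.LBase φ).obj (DerivedCategory.Q.obj P))).obj
        (DerivedCategory.Q.obj N)) :=
  (DTen.resFactors φ).inv.app (DRing.homCx ((DTen.extCx φ).obj P) N) ≫
    (DRing.restrictD φ).map (rhoInv ((DTen.extCx φ).obj P) N ≫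
      DTen.RHomMap ((DTen.baseCmp φ).app P) (DerivedCategory.Q.obj N))

/-- the comparison on the target of `rhomBC` -/
noncomputable def vT (P : DRing.Cx R) (N : DRing.Cx R') :
    (DerivedCategory.Q.obj (DRing.homCx P ((DTen.resCx φ).obj N)) : Dual.D R) ⟶
      (DTen.RHomR R (DerivedCategory.Q.obj P)).obj
        ((DRing.restrictD φ).obj (DerivedCategory.Q.obj N)) :=
  rhoInv P ((DTen.resCx φ).obj N) ≫
    (DTen.RHomR R (DerivedCategory.Q.obj P)).map ((DTen.resFactors φ).inv.app N)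

theorem tR_vT (P : DRing.Cx R) (N : DRing.Cx R') {S : DRing.Cx R}
    (ψ : S ⟶ DRing.homCx P ((DTen.resCx φ).obj N)) :
    tR(DerivedCategory.Q.map ψ ≫ vT φ P N, DerivedCategory.Q.obj P) ≫
        DTen.ev (DerivedCategory.Q.obj P) ((DRing.restrictD φ).obj (DerivedCategory.Q.obj N)) =
      (DTen.ε R).app (S, P) ≫ DerivedCategory.Q.map (uncH ψ) ≫ (DTen.resFactors φ).inv.app N := by
  rw [vT, tR_comp, tR_comp, Category.assoc, Category.assoc, tR_map_ev, rhoInv_spec_assoc,
    ← Category.assoc, tR_Q_evD, Category.assoc]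

theorem resFactors_inv_nat {X Y : DRing.Cx R'} (f : X ⟶ Y) :
    (DTen.resFactors φ).inv.app X ≫ (DRing.restrictD φ).map (DerivedCategory.Q.map f) =
      DerivedCategory.Q.map ((DTen.resCx φ).map f) ≫ (DTen.resFactors φ).inv.app Y :=
  ((DTen.resFactors φ).inv.naturality f).symm

omit [DTen.HasLTen R'] [DTen.HasRHom R] [DTen.HasRHom R'] [DTen.HasLBase φ] [DTen.HasResTen φ]
  [DTen.ResLegIso φ] in
@[reassoc]
theorem map4 {K₀ K₁ K₂ L₀ L₁ L₂ L₃ : Dual.D R} (h₁ : L₀ ⟶ L₁) (g : K₀ ⟶ K₁) (h₂ : L₁ ⟶ L₂)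
    (g' : K₁ ⟶ K₂) (h₃ : L₂ ⟶ L₃) :
    tL(K₀, h₁) ≫ tR(g, L₁) ≫ tL(K₁, h₂) ≫ (DTen.LTen₂ R).map (Prod.mkHom g' h₃) =
      (DTen.LTen₂ R).map (Prod.mkHom (g ≫ g') (h₁ ≫ h₂ ≫ h₃)) := by
  rw [← Functor.map_comp, ← Functor.map_comp, ← Functor.map_comp]
  congr 1
  ext <;> simp

theorem tR_uS_core (P : DRing.Cx R) (N : DRing.Cx R') :
    tR(uS φ P N, DerivedCategory.Q.obj P) ≫
        DTen.rhomBCCore φ (DerivedCategory.Q.obj P) (DerivedCategory.Q.obj N) =
      (DTen.ε R).app ((DTen.resCx φ).obj (DRing.homCx ((DTen.extCx φ).obj P) N), P) ≫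
        DerivedCategory.Q.map (κt φ P N) ≫ (DTen.resFactors φ).inv.app N := by
  rw [DTen.rhomBCCore, tR_tL_assoc, uS, tR_comp, Category.assoc]
  simp only [Functor.comp_obj]
  rw [resPF_nat_left_assoc,
    ← Functor.map_comp, tR_comp, Category.assoc, RHomMap_ev', tR_tL_assoc, rhoInv_spec,
    Functor.map_comp, ← resPF_nat_right_assoc, evD, Functor.map_comp, ← Category.assoc
      ((DTen.resPF φ).app _), resPF_app_Q]
  simp only [Category.assoc]
  rw [resFactors_inv_nat, map4_assoc, unit_baseCmp]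
  have h2 := (DTen.resFactors φ).inv_hom_id_app (DRing.homCx ((DTen.extCx φ).obj P) N)
  dsimp only [Functor.comp_obj] at h2
  rw [h2]
  have h3 := ε_nat_right (A := R) ((DTen.resCx φ).obj (DRing.homCx ((DTen.extCx φ).obj P) N))
    ((DTen.unitCx φ).app P)
  dsimp only [Functor.comp_obj, Functor.id_obj] at h3
  rw [reassoc_of% h3, ← Functor.map_comp_assoc, ← Functor.map_comp_assoc, κt]
  simp only [Category.assoc]

/-- the chain-level description of `rhomBC` -/
theorem star (P : DRing.Cx R) (N : DRing.Cx R') :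
    uS φ P N ≫ DTen.rhomBC φ (DerivedCategory.Q.obj P) (DerivedCategory.Q.obj N) =
      DerivedCategory.Q.map (κ φ P N) ≫ vT φ P N := by
  apply adj_ext
  rw [tR_comp, Category.assoc, tR_rhomBC, tR_uS_core, tR_vT, uncH_κ]

instance isIso_uS (P : DRing.Cx R) [P.IsKProjective] (N : DRing.Cx R') : IsIso (uS φ P N) := by
  haveI : IsIso (rhoInv ((DTen.extCx φ).obj P) N) :=
    (inferInstance : IsIso (rho ((DTen.extCx φ).obj P) N).inv)
  haveI := isIso_baseCmp φ P
  haveI := isIso_RHomMap ((DTen.baseCmp φ).app P) (DerivedCategory.Q.obj N)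
  rw [uS]
  infer_instance

instance isIso_vT (P : DRing.Cx R) [P.IsKProjective] (N : DRing.Cx R') : IsIso (vT φ P N) := by
  haveI : IsIso (rhoInv P ((DTen.resCx φ).obj N)) :=
    (inferInstance : IsIso (rho P ((DTen.resCx φ).obj N)).inv)
  rw [vT]
  infer_instance

theorem isIso_rhomBC_Q (P : DRing.Cx R) [P.IsKProjective] (N : DRing.Cx R') :
    IsIso (DTen.rhomBC φ (DerivedCategory.Q.obj P) (DerivedCategory.Q.obj N)) := by
  have h := star φ P N
  have h2 : DTen.rhomBC φ (DerivedCategory.Q.obj P) (DerivedCategory.Q.obj N) =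
      inv (uS φ P N) ≫ DerivedCategory.Q.map (κ φ P N) ≫ vT φ P N := by
    rw [← h, IsIso.inv_hom_id_assoc]
  rw [h2]
  infer_instance

end Star

end Groth.Agent.Helper3.BC
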