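import Groth.Agent.Lib.Helper3.BC2

/-!
# `DTen.rhomBC` is an isomorphism (helper3)
-/

set_option autoImplicit false

open CategoryTheory CategoryTheory.Limits MonoidalCategory CochainComplex HomComplex
open scoped TensorProduct

universe u

attribute [local instance] HasDerivedCategory.standard

namespace Groth.Agent.Helper3.BC

open Groth.Agent.Helper11.LDer Groth.Agent.Helper11.DC Groth.Agent.Helper11.Tel
open Groth.Agent.Helper3.HT Groth.Agent.Helper3.DT Groth.Agent.Helper3.RH Groth.Agent.Helper3.TH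

variable {R R' : Type u} [CommRing R] [CommRing R'] (φ : R →+* R')
  [DTen.HasLTen R] [DTen.HasLTen R'] [DTen.HasRHom R] [DTen.HasRHom R'] [DTen.HasLBase φ]
  [DTen.HasResTen φ] [DTen.ResLegIso φ]

/-- naturality of `rhomBCCore` in `M` -/
theorem rhomBCCore_nat_M (K : Dual.D R) {M M' : Dual.D R'} (f : M ⟶ M') :
    tR((DRing.restrictD φ).map ((DTen.RHomR R' ((DTen.LBase φ).obj K)).map f), K) ≫
        DTen.rhomBCCore φ K M' =
      DTen.rhomBCCore φ K M ≫ (DRing.restrictD φ).map f := by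
  rw [DTen.rhomBCCore, DTen.rhomBCCore, tR_tL_assoc]
  simp only [Functor.comp_obj, Category.assoc]
  rw [resPF_nat_left_assoc, ← Functor.map_comp, ← Functor.map_comp, tR_map_ev]

/-- naturality of `rhomBC` in `M` -/
theorem rhomBC_nat_M (K : Dual.D R) {M M' : Dual.D R'} (f : M ⟶ M') :
    (DRing.restrictD φ).map ((DTen.RHomR R' ((DTen.LBase φ).obj K)).map f) ≫ DTen.rhomBC φ K M' =
      DTen.rhomBC φ K M ≫ (DTen.RHomR R K).map ((DRing.restrictD φ).map f) := by
  apply adj_ext
  rw [tR_comp, tR_comp, Category.assoc, Category.assoc, tR_rhomBC, tR_map_ev,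
    ← Category.assoc, tR_rhomBC, rhomBCCore_nat_M]

/-- naturality of `rhomBCCore` in `K` -/
theorem rhomBCCore_nat_K {K K' : Dual.D R} (k : K ⟶ K') (M : Dual.D R') :
    tR((DRing.restrictD φ).map (DTen.RHomMap ((DTen.LBase φ).map k) M), K) ≫
        DTen.rhomBCCore φ K M =
      tL((DRing.restrictD φ).obj ((DTen.RHomR R' ((DTen.LBase φ).obj K')).obj M), k) ≫
        DTen.rhomBCCore φ K' M := by
  rw [DTen.rhomBCCore, DTen.rhomBCCore, tR_tL_assoc]
  simp only [Functor.comp_obj, Category.assoc]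
  rw [resPF_nat_left_assoc, ← Functor.map_comp, RHomMap_ev', Functor.map_comp,
    ← resPF_nat_right_assoc, ← tL_comp_assoc, ← tL_comp_assoc]
  have h := (DTen.baseAdj φ).unit.naturality k
  dsimp only [Functor.id_map, Functor.comp_map] at h
  rw [h]

/-- naturality of `rhomBC` in `K` -/
theorem rhomBC_nat_K {K K' : Dual.D R} (k : K ⟶ K') (M : Dual.D R') :
    (DRing.restrictD φ).map (DTen.RHomMap ((DTen.LBase φ).map k) M) ≫ DTen.rhomBC φ K M =
      DTen.rhomBC φ K' M ≫ DTen.RHomMap k ((DRing.restrictD φ).obj M) := by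
  apply adj_ext
  rw [tR_comp, tR_comp, Category.assoc, Category.assoc, tR_rhomBC, RHomMap_ev', tR_tL_assoc,
    tR_rhomBC, rhomBCCore_nat_K]

/-- `rhomBC` is always an isomorphism -/
theorem isIso_rhomBC (K : Dual.D R) (M : Dual.D R') : IsIso (DTen.rhomBC φ K M) := by
  obtain ⟨P, hP, -, ⟨e⟩⟩ := exists_kprojective_rep K
  haveI := hP
  let N : DRing.Cx R' := (DerivedCategory.Q : DRing.Cx R' ⥤ Dual.D R').objPreimage M
  let e' : (DerivedCategory.Q.obj N : Dual.D R') ≅ M :=
    (DerivedCategory.Q : DRing.Cx R' ⥤ Dual.D R').objObjPreimageIso M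
  haveI h0 := isIso_rhomBC_Q φ P N
  -- step 1 : change `K`
  have h1 : IsIso (DTen.rhomBC φ K (DerivedCategory.Q.obj N)) := by
    have hn := rhomBC_nat_K φ e.hom (DerivedCategory.Q.obj N)
    haveI := isIso_RHomMap ((DTen.LBase φ).map e.hom) (DerivedCategory.Q.obj N)
    haveI := isIso_RHomMap e.hom ((DRing.restrictD φ).obj (DerivedCategory.Q.obj N))
    have h2 : DTen.rhomBC φ K (DerivedCategory.Q.obj N) =
        ((DRing.restrictD φ).map (DTen.RHomMap ((DTen.LBase φ).map e.hom)
          (DerivedCategory.Q.obj N)) ≫ DTen.rhomBC φ (DerivedCategory.Q.obj P)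
            (DerivedCategory.Q.obj N)) ≫
          inv (DTen.RHomMap e.hom ((DRing.restrictD φ).obj (DerivedCategory.Q.obj N))) := by
      rw [hn, Category.assoc, IsIso.hom_inv_id, Category.comp_id]
    rw [h2]
    infer_instance
  -- step 2 : change `M`
  haveI := h1
  have hn := rhomBC_nat_M φ K e'.hom
  have h2 : DTen.rhomBC φ K M =
      inv ((DRing.restrictD φ).map ((DTen.RHomR R' ((DTen.LBase φ).obj K)).map e'.hom)) ≫
        DTen.rhomBC φ K (DerivedCategory.Q.obj N) ≫
          (DTen.RHomR R K).map ((DRing.restrictD φ).map e'.hom) := by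
    rw [← hn, IsIso.inv_hom_id_assoc]
  rw [h2]
  infer_instance

end Groth.Agent.Helper3.BC
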