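import Groth.Agent.Lib.Helper3.BC3

/-!
# Chain-level description of `DTen.bcRHom` (helper3)
-/

set_option autoImplicit false

open CategoryTheory CategoryTheory.Limits MonoidalCategory CochainComplex HomComplex
open scoped TensorProduct

universe u

attribute [local instance] HasDerivedCategory.standard

namespace Groth.Agent.Helper3.BC

open Groth.Agent.Helper11.LDer Groth.Agent.Helper11.DC Groth.Agent.Helper11.Tel
  Groth.Agent.Helper11.Dev
open Groth.Agent.Helper3.HT Groth.Agent.Helper3.DT Groth.Agent.Helper3.RH Groth.Agent.Helper3.TH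

section RhoNat

variable {A : Type u} [CommRing A]

theorem uncH_homCxMap (P : DRing.Cx A) {W W' : DRing.Cx A} (g : W ⟶ W') :
    uncH (DRing.homCxMap P g) = evH P W ≫ g := by
  have h := uncH_comp_right (𝟙 (DRing.homCx P W)) g
  rw [Category.id_comp] at h
  exact h

variable [DTen.HasLTen A] [DTen.HasRHom A]

@[reassoc]
theorem rhoInv_nat (P : DRing.Cx A) {W W' : DRing.Cx A} (g : W ⟶ W') :
    rhoInv P W ≫ (DTen.RHomR A (DerivedCategory.Q.obj P)).map (DerivedCategory.Q.map g) =
      DerivedCategory.Q.map (DRing.homCxMap P g) ≫ rhoInv P W' := by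
  apply adj_ext
  rw [tR_comp, tR_comp, Category.assoc, Category.assoc, tR_map_ev, rhoInv_spec_assoc, rhoInv_spec,
    tR_Q_evD, uncH_homCxMap, evD, Functor.map_comp, Category.assoc]

end RhoNat

variable {R R' : Type u} [CommRing R] [CommRing R'] (φ : R →+* R')

/-- the chain-level base change map for Hom complexes, in adjoint form -/
noncomputable def βf (P F : DRing.Cx R) {H : DRing.Cx R} (h : H ⟶ DRing.homCx P F) :
    H ⟶ (DTen.resCx φ).obj (DRing.homCx ((DTen.extCx φ).obj P) ((DTen.extCx φ).obj F)) :=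
  h ≫ DRing.homCxMap P ((DTen.unitCx φ).app F) ≫ inv (κ φ P ((DTen.extCx φ).obj F))

/-- the chain-level base change map for Hom complexes -/
noncomputable def β (P F : DRing.Cx R) {H : DRing.Cx R} (h : H ⟶ DRing.homCx P F) :
    (DTen.extCx φ).obj H ⟶ DRing.homCx ((DTen.extCx φ).obj P) ((DTen.extCx φ).obj F) :=
  (DTen.extCx φ).map (βf φ P F h) ≫ counitC φ _

theorem unit_res_β (P F : DRing.Cx R) {H : DRing.Cx R} (h : H ⟶ DRing.homCx P F) :
    (DTen.unitCx φ).app H ≫ (DTen.resCx φ).map (β φ P F h) = βf φ P F h := by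
  rw [← adjHom_eq]
  exact adjHom_es_counit φ H _ (βf φ P F h)

section Star

variable [DTen.HasLTen R] [DTen.HasLTen R'] [DTen.HasRHom R] [DTen.HasRHom R'] [DTen.HasLBase φ]
  [DTen.HasResTen φ] [DTen.ResLegIso φ]

instance instIsIsoRhomBC (K : Dual.D R) (M : Dual.D R') : IsIso (DTen.rhomBC φ K M) :=
  isIso_rhomBC φ K M

/-- the unit of the base change adjunction, with its type in normal form -/
noncomputable def uB (X : Dual.D R) : X ⟶ (DRing.restrictD φ).obj ((DTen.LBase φ).obj X) :=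
  (DTen.baseAdj φ).unit.app X

omit [DTen.HasLTen R] [DTen.HasLTen R'] [DTen.HasRHom R] [DTen.HasRHom R'] [DTen.HasResTen φ]
  [DTen.ResLegIso φ] in
theorem baseAdj_ext {X : Dual.D R} {Y : Dual.D R'} {f g : (DTen.LBase φ).obj X ⟶ Y}
    (h : uB φ X ≫ (DRing.restrictD φ).map f = uB φ X ≫ (DRing.restrictD φ).map g) : f = g := by
  apply ((DTen.baseAdj φ).homEquiv X Y).injective
  rw [Adjunction.homEquiv_unit, Adjunction.homEquiv_unit]
  exact h

omit [DTen.HasLTen R] [DTen.HasLTen R'] [DTen.HasRHom R] [DTen.HasRHom R'] [DTen.HasResTen φ]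
  [DTen.ResLegIso φ] in
@[reassoc]
theorem uB_nat {X Y : Dual.D R} (f : X ⟶ Y) :
    uB φ X ≫ (DRing.restrictD φ).map ((DTen.LBase φ).map f) = f ≫ uB φ Y :=
  ((DTen.baseAdj φ).unit.naturality f).symm

omit [DTen.HasLTen R] [DTen.HasLTen R'] [DTen.HasRHom R] [DTen.HasRHom R'] [DTen.HasResTen φ]
  [DTen.ResLegIso φ] in
@[reassoc]
theorem uB_baseCmp (X : DRing.Cx R) :
    uB φ (DerivedCategory.Q.obj X) ≫ (DRing.restrictD φ).map ((DTen.baseCmp φ).app X) =
      DerivedCategory.Q.map ((DTen.unitCx φ).app X) ≫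
        (DTen.resFactors φ).inv.app ((DTen.extCx φ).obj X) :=
  DTen.baseCmp_fac φ X

@[reassoc]
theorem uB_bcRHom (K M : Dual.D R) :
    uB φ ((DTen.RHomR R K).obj M) ≫ (DRing.restrictD φ).map (DTen.bcRHom φ K M) =
      (DTen.RHomR R K).map (uB φ M) ≫ inv (DTen.rhomBC φ K ((DTen.LBase φ).obj M)) :=
  DTen.bcRHom_fac φ K M

@[reassoc]
theorem inv_rhomBC_nat_M (K : Dual.D R) {M M' : Dual.D R'} (f : M ⟶ M') :
    inv (DTen.rhomBC φ K M) ≫
        (DRing.restrictD φ).map ((DTen.RHomR R' ((DTen.LBase φ).obj K)).map f) =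
      (DTen.RHomR R K).map ((DRing.restrictD φ).map f) ≫ inv (DTen.rhomBC φ K M') := by
  rw [IsIso.inv_comp_eq, ← Category.assoc, IsIso.eq_comp_inv]
  exact rhomBC_nat_M φ K f

@[reassoc]
theorem inv_rhomBC_nat_K {K K' : Dual.D R} (k : K ⟶ K') (M : Dual.D R') :
    inv (DTen.rhomBC φ K' M) ≫
        (DRing.restrictD φ).map (DTen.RHomMap ((DTen.LBase φ).map k) M) =
      DTen.RHomMap k ((DRing.restrictD φ).obj M) ≫ inv (DTen.rhomBC φ K M) := by
  rw [IsIso.inv_comp_eq, ← Category.assoc, IsIso.eq_comp_inv]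
  exact rhomBC_nat_K φ k M

@[reassoc]
theorem vT_inv_rhomBC (P : DRing.Cx R) (N : DRing.Cx R') :
    vT φ P N ≫ inv (DTen.rhomBC φ (DerivedCategory.Q.obj P) (DerivedCategory.Q.obj N)) =
      DerivedCategory.Q.map (inv (κ φ P N)) ≫ uS φ P N := by
  rw [IsIso.comp_inv_eq, Category.assoc, star, ← Functor.map_comp_assoc, IsIso.inv_hom_id,
    CategoryTheory.Functor.map_id, Category.id_comp]

/-- the chain-level description of `bcRHom` -/
theorem bcStar (P F H : DRing.Cx R) (h : H ⟶ DRing.homCx P F) :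
    (DTen.LBase φ).map (DerivedCategory.Q.map h ≫ rhoInv P F) ≫
        DTen.bcRHom φ (DerivedCategory.Q.obj P) (DerivedCategory.Q.obj F) ≫
          (DTen.RHomR R' ((DTen.LBase φ).obj (DerivedCategory.Q.obj P))).map
            ((DTen.baseCmp φ).app F) =
      (DTen.baseCmp φ).app H ≫ DerivedCategory.Q.map (β φ P F h) ≫
        rhoInv ((DTen.extCx φ).obj P) ((DTen.extCx φ).obj F) ≫
          DTen.RHomMap ((DTen.baseCmp φ).app P) (DerivedCategory.Q.obj ((DTen.extCx φ).obj F)) := by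
  apply baseAdj_ext
  have hL : uB φ (DerivedCategory.Q.obj H) ≫ (DRing.restrictD φ).map
      ((DTen.LBase φ).map (DerivedCategory.Q.map h ≫ rhoInv P F) ≫
        DTen.bcRHom φ (DerivedCategory.Q.obj P) (DerivedCategory.Q.obj F) ≫
          (DTen.RHomR R' ((DTen.LBase φ).obj (DerivedCategory.Q.obj P))).map
            ((DTen.baseCmp φ).app F)) =
      DerivedCategory.Q.map (βf φ P F h) ≫ uS φ P ((DTen.extCx φ).obj F) := by
    rw [(DRing.restrictD φ).map_comp, (DRing.restrictD φ).map_comp, uB_nat_assoc, Category.assoc,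
      uB_bcRHom_assoc, inv_rhomBC_nat_M, ← Functor.map_comp_assoc, uB_baseCmp, Functor.map_comp,
      Category.assoc, rhoInv_nat_assoc]
    have h1 : rhoInv P ((DTen.resCx φ).obj ((DTen.extCx φ).obj F)) ≫
        (DTen.RHomR R (DerivedCategory.Q.obj P)).map
          ((DTen.resFactors φ).inv.app ((DTen.extCx φ).obj F)) = vT φ P ((DTen.extCx φ).obj F) := rfl
    dsimp only [Functor.comp_obj, Functor.id_obj]
    rw [reassoc_of% h1, vT_inv_rhomBC, βf, Functor.map_comp, Functor.map_comp]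
    simp only [Category.assoc]
  have hR : uB φ (DerivedCategory.Q.obj H) ≫ (DRing.restrictD φ).map
      ((DTen.baseCmp φ).app H ≫ DerivedCategory.Q.map (β φ P F h) ≫
        rhoInv ((DTen.extCx φ).obj P) ((DTen.extCx φ).obj F) ≫
          DTen.RHomMap ((DTen.baseCmp φ).app P) (DerivedCategory.Q.obj ((DTen.extCx φ).obj F))) =
      DerivedCategory.Q.map (βf φ P F h) ≫ uS φ P ((DTen.extCx φ).obj F) := by
    rw [(DRing.restrictD φ).map_comp, (DRing.restrictD φ).map_comp, uB_baseCmp_assoc,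
      ← Category.assoc ((DTen.resFactors φ).inv.app _), resFactors_inv_nat, Category.assoc,
      ← Functor.map_comp_assoc, unit_res_β, uS]
  rw [hL, hR]

/-- criterion: `bcRHom` is an isomorphism when the chain-level map `β` is a quasi-isomorphism -/
theorem isIso_bcRHom_of_quasiIso_β (P F H : DRing.Cx R) [P.IsKProjective] [H.IsKProjective]
    (hF : IsIso ((DTen.baseCmp φ).app F)) (h : H ⟶ DRing.homCx P F) [QuasiIso h]
    (hβ : QuasiIso (β φ P F h)) :
    IsIso (DTen.bcRHom φ (DerivedCategory.Q.obj P) (DerivedCategory.Q.obj F)) := by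
  have hs := bcStar φ P F H h
  haveI := hF
  haveI := hβ
  haveI : IsIso (rhoInv P F) := (inferInstance : IsIso (rho P F).inv)
  haveI : IsIso (rhoInv ((DTen.extCx φ).obj P) ((DTen.extCx φ).obj F)) :=
    (inferInstance : IsIso (rho ((DTen.extCx φ).obj P) ((DTen.extCx φ).obj F)).inv)
  haveI := isIso_baseCmp φ P
  haveI := isIso_baseCmp φ H
  haveI := isIso_RHomMap ((DTen.baseCmp φ).app P) (DerivedCategory.Q.obj ((DTen.extCx φ).obj F))
  haveI : IsIso (DerivedCategory.Q.map h) := by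
    rw [DerivedCategory.isIso_Q_map_iff_quasiIso]
    infer_instance
  haveI : IsIso (DerivedCategory.Q.map (β φ P F h)) := by
    rw [DerivedCategory.isIso_Q_map_iff_quasiIso]
    infer_instance
  have h2 : DTen.bcRHom φ (DerivedCategory.Q.obj P) (DerivedCategory.Q.obj F) =
      inv ((DTen.LBase φ).map (DerivedCategory.Q.map h ≫ rhoInv P F)) ≫
        ((DTen.baseCmp φ).app H ≫ DerivedCategory.Q.map (β φ P F h) ≫
          rhoInv ((DTen.extCx φ).obj P) ((DTen.extCx φ).obj F) ≫
            DTen.RHomMap ((DTen.baseCmp φ).app P)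
              (DerivedCategory.Q.obj ((DTen.extCx φ).obj F))) ≫
          inv ((DTen.RHomR R' ((DTen.LBase φ).obj (DerivedCategory.Q.obj P))).map
            ((DTen.baseCmp φ).app F)) := by
    rw [← hs]
    simp only [Category.assoc, IsIso.hom_inv_id, Category.comp_id, IsIso.inv_hom_id_assoc]
  rw [h2]
  infer_instance

/-- naturality of `bcRHom` in `M` -/
theorem bcRHom_nat_M (K : Dual.D R) {M M' : Dual.D R} (m : M ⟶ M') :
    (DTen.LBase φ).map ((DTen.RHomR R K).map m) ≫ DTen.bcRHom φ K M' =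
      DTen.bcRHom φ K M ≫
        (DTen.RHomR R' ((DTen.LBase φ).obj K)).map ((DTen.LBase φ).map m) := by
  apply baseAdj_ext
  rw [(DRing.restrictD φ).map_comp, (DRing.restrictD φ).map_comp, uB_nat_assoc, uB_bcRHom,
    uB_bcRHom_assoc, inv_rhomBC_nat_M, ← Functor.map_comp_assoc, ← Functor.map_comp_assoc, uB_nat]

/-- naturality of `bcRHom` in `K` -/
theorem bcRHom_nat_K {K K' : Dual.D R} (k : K ⟶ K') (M : Dual.D R) :
    (DTen.LBase φ).map (DTen.RHomMap k M) ≫ DTen.bcRHom φ K M =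
      DTen.bcRHom φ K' M ≫ DTen.RHomMap ((DTen.LBase φ).map k) ((DTen.LBase φ).obj M) := by
  apply baseAdj_ext
  rw [(DRing.restrictD φ).map_comp, (DRing.restrictD φ).map_comp, uB_nat_assoc, uB_bcRHom,
    uB_bcRHom_assoc, inv_rhomBC_nat_K]
  have h := ((DTen.RHom R).map k.op).naturality (uB φ M)
  rw [← Category.assoc, ← Category.assoc]
  congr 1
  exact h.symm

/-- transfer of invertibility of `bcRHom` along isomorphisms -/
theorem isIso_bcRHom_of_iso {K K' M M' : Dual.D R} (eK : K ≅ K') (eM : M ≅ M')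
    (h : IsIso (DTen.bcRHom φ K' M')) : IsIso (DTen.bcRHom φ K M) := by
  haveI := h
  -- change `M`
  have h1 : IsIso (DTen.bcRHom φ K' M) := by
    have hn := bcRHom_nat_M φ K' eM.hom
    have h2 : DTen.bcRHom φ K' M =
        ((DTen.LBase φ).map ((DTen.RHomR R K').map eM.hom) ≫ DTen.bcRHom φ K' M') ≫
          inv ((DTen.RHomR R' ((DTen.LBase φ).obj K')).map ((DTen.LBase φ).map eM.hom)) := by
      rw [hn, Category.assoc, IsIso.hom_inv_id, Category.comp_id]
    rw [h2]
    infer_instance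
  haveI := h1
  haveI := isIso_RHomMap eK.hom M
  haveI := isIso_RHomMap ((DTen.LBase φ).map eK.hom) ((DTen.LBase φ).obj M)
  have hn := bcRHom_nat_K φ eK.hom M
  have h2 : DTen.bcRHom φ K M =
      inv ((DTen.LBase φ).map (DTen.RHomMap eK.hom M)) ≫ DTen.bcRHom φ K' M ≫
        DTen.RHomMap ((DTen.LBase φ).map eK.hom) ((DTen.LBase φ).obj M) := by
    rw [← hn, IsIso.inv_hom_id_assoc]
  rw [h2]
  infer_instance

end Star

end Groth.Agent.Helper3.BC
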