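import Groth.Agent.Lib.Helper3.BC4
import Groth.Agent.Lib.Helper11.LDer4

/-!
# Extension of scalars as tensoring with `R'[0]`, and the chain-level base change map (helper3)
-/

set_option autoImplicit false

open CategoryTheory CategoryTheory.Limits MonoidalCategory CochainComplex HomComplex
open scoped TensorProduct
open ChangeOfRings

universe u

attribute [local instance] HasDerivedCategory.standard

namespace Groth.Agent.Helper3.BC

open Groth.Agent.Helper11.LDer Groth.Agent.Helper11.DC Groth.Agent.Helper11.Tel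
  Groth.Agent.Helper11.Dev
open Groth.Agent.Helper3.HT Groth.Agent.Helper3.DT Groth.Agent.Helper3.RH Groth.Agent.Helper3.TH

variable {R R' : Type u} [CommRing R] [CommRing R'] (φ : R →+* R')

/-- `R'` as a complex of `R`-modules in degree `0` -/
noncomputable def SB : DRing.Cx R :=
  (HomologicalComplex.single (ModuleCat.{u} R) (ComplexShape.up ℤ) 0).obj (Bm φ)

/-- the degree `0` term of `SB` -/
noncomputable def σB : Bm φ ≅ (SB φ).X 0 :=
  (HomologicalComplex.singleObjXSelf (ComplexShape.up ℤ) 0 (Bm φ)).symm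

theorem isZero_SB (p : ℤ) (hp : p ≠ 0) : IsZero ((SB φ).X p) :=
  HomologicalComplex.isZero_single_obj_X _ _ _ _ hp

theorem SB_d (p q : ℤ) : (SB φ).d p q = 0 :=
  HomologicalComplex.single_obj_d _ _ _ _ _

/-- the components of `tX` -/
noncomputable def tXf (X : DRing.Cx R) (n : ℤ) :
    ((DTen.resCx φ).obj ((DTen.extCx φ).obj X)).X n ⟶ (SB φ ⊗ X).X n :=
  (esResApp φ (X.X n)).hom ≫ ((σB φ).hom ▷ X.X n) ≫
    HomologicalComplex.ιTensorObj (SB φ) X 0 n n (zero_add n)

/-- `res (ext X) ⟶ R'[0] ⊗ X` -/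
noncomputable def tX (X : DRing.Cx R) :
    (DTen.resCx φ).obj ((DTen.extCx φ).obj X) ⟶ SB φ ⊗ X where
  f n := tXf φ X n
  comm' n n' hnn' := by
    change n + 1 = n' at hnn'
    subst hnn'
    dsimp only [tXf]
    simp only [Category.assoc]
    rw [ι_d (K := SB φ) (P := X) 0 n n (n + 1) 1 (n + 1) (zero_add n) rfl rfl rfl, SB_d,
      MonoidalPreadditive.zero_whiskerRight, zero_comp, zero_add, Int.negOnePow_zero, one_smul,
      ← MonoidalCategory.whisker_exchange_assoc]
    have h := (esRes φ).hom.naturality (X.d n (n + 1))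
    exact (congrArg (fun t => t ≫ ((σB φ).hom ▷ X.X (n + 1)) ≫
      HomologicalComplex.ιTensorObj (SB φ) X 0 (n + 1) (n + 1) (zero_add (n + 1))) h).symm.trans
        (Category.assoc _ _ _)

instance isIso_tX (X : DRing.Cx R) : IsIso (tX φ X) := by
  haveI : ∀ n, IsIso ((tX φ X).f n) := fun n => by
    haveI := isIso_ι_left (SB φ) X 0 (isZero_SB φ) n n (zero_add n)
    haveI : IsIso ((σB φ).hom ▷ X.X n) :=
      (inferInstance : IsIso ((tensorRight (X.X n)).map (σB φ).hom))
    change IsIso (tXf φ X n)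
    dsimp only [tXf]
    infer_instance
  exact HomologicalComplex.Hom.isIso_of_components _

theorem tX_nat {X X' : DRing.Cx R} (u : X ⟶ X') :
    tX φ X ≫ (SB φ ◁ u) = (DTen.resCx φ).map ((DTen.extCx φ).map u) ≫ tX φ X' := by
  refine HomologicalComplex.hom_ext _ _ (fun n => ?_)
  rw [HomologicalComplex.comp_f, HomologicalComplex.comp_f]
  change tXf φ X n ≫ _ = _ ≫ tXf φ X' n
  dsimp only [tXf]
  simp only [Category.assoc]
  rw [ι_whiskerLeft, ← MonoidalCategory.whisker_exchange_assoc]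
  have h := (esRes φ).hom.naturality (u.f n)
  exact (congrArg (fun t => t ≫ ((σB φ).hom ▷ X'.X n) ≫
    HomologicalComplex.ιTensorObj (SB φ) X' 0 n n (zero_add n)) h).symm.trans
      (Category.assoc _ _ _)

/-- maps out of `res (ext M)` are determined on pure tensors -/
theorem resExt_hom_ext {M N : ModuleCat.{u} R}
    {f g : (ModuleCat.restrictScalars.{u} φ).obj ((ModuleCat.extendScalars.{u, u, u} φ).obj M) ⟶ N}
    (h : ∀ (b : R') (m : M), f.hom (b ⊗ₜ[R,φ] m) = g.hom (b ⊗ₜ[R,φ] m)) : f = g := by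
  apply ModuleCat.hom_ext
  apply LinearMap.ext
  intro x
  refine TensorProduct.induction_on x ?_ ?_ ?_
  · exact (map_zero _).trans (map_zero _).symm
  · intro b m
    exact h b m
  · intro x y hx hy
    exact (map_add _ x y).trans ((congrArg₂ (· + ·) hx hy).trans (map_add _ x y).symm)

theorem tX_tmul (X : DRing.Cx R) (n : ℤ) (b : R') (x : X.X n) :
    ((tX φ X).f n).hom (b ⊗ₜ[R,φ] x) =
      (HomologicalComplex.ιTensorObj (SB φ) X 0 n n (zero_add n)).hom
        ((σB φ).hom.hom b ⊗ₜ[R] x) := rfl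

theorem β_tmul (P F : DRing.Cx R) {H : DRing.Cx R} (h : H ⟶ DRing.homCx P F) (n : ℤ) (b : R')
    (x : H.X n) :
    ((β φ P F h).f n).hom (b ⊗ₜ[R,φ] x) =
      b • (show (DRing.homCx ((DTen.extCx φ).obj P) ((DTen.extCx φ).obj F)).X n from
        ((βf φ P F h).f n).hom x) := rfl

section
variable {A : Type u} [CommRing A]

theorem toC_homCxMap_v (P : DRing.Cx A) {W W' : DRing.Cx A} (g : W ⟶ W') (i : ℤ)
    (z : (DRing.homCx P W).X i) (j k : ℤ) (hjk : j + i = k) (y : P.X j) :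
    ((toC (((DRing.homCxMap P g).f i).hom z)).v j k hjk).hom y =
      (g.f k).hom (((toC z).v j k hjk).hom y) := by
  rw [toC_homCxMap, Cochain.comp_zero_cochain_v, Cochain.ofHom_v]
  rfl

theorem toC_smul_v (P W : DRing.Cx A) (i : ℤ) (a : A) (z : (DRing.homCx P W).X i) (j k : ℤ)
    (hjk : j + i = k) (y : P.X j) :
    ((toC (a • z)).v j k hjk).hom y = a • ((toC z).v j k hjk).hom y := rfl

end

theorem κ_inv_apply (P : DRing.Cx R) (N : DRing.Cx R') (i : ℤ)
    (c : (DRing.homCx P ((DTen.resCx φ).obj N)).X i) :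
    ((κ φ P N).f i).hom (((inv (κ φ P N)).f i).hom c) = c := by
  have h : (inv (κ φ P N)).f i ≫ (κ φ P N).f i = 𝟙 _ := by
    rw [← HomologicalComplex.comp_f, IsIso.inv_hom_id, HomologicalComplex.id_f]
  exact congrArg (fun t => t.hom c) h

set_option backward.isDefEq.respectTransparency false in
theorem tX_smul_unit (X : DRing.Cx R) (k : ℤ) (b : R') (w : X.X k) :
    ((tX φ X).f k).hom (b • (show ((DTen.extCx φ).obj X).X k from
      (((DTen.unitCx φ).app X).f k).hom w)) =
      (HomologicalComplex.ιTensorObj (SB φ) X 0 k k (zero_add k)).hom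
        ((σB φ).hom.hom b ⊗ₜ[R] w) := by
  refine Eq.trans (congrArg (fun t => ((tX φ X).f k).hom t) ?_) (tX_tmul φ X k b w)
  change b • ((1 : R') ⊗ₜ[R,φ] w : (ModuleCat.extendScalars.{u, u, u} φ).obj (X.X k)) = b ⊗ₜ[R,φ] w
  rw [ModuleCat.ExtendScalars.smul_tmul, mul_one]

/-- the chain-level base change map `β` corresponds to `θ (R'[0]) P F` -/
theorem tX_θ (P F : DRing.Cx R) {H : DRing.Cx R} (h : H ⟶ DRing.homCx P F) :
    tX φ H ≫ (SB φ ◁ h) ≫ θ (SB φ) P F =
      (DTen.resCx φ).map (β φ P F h) ≫ κ φ P ((DTen.extCx φ).obj F) ≫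
        DRing.homCxMap P (tX φ F) := by
  refine HomologicalComplex.hom_ext _ _ (fun n => ?_)
  refine resExt_hom_ext φ (M := H.X n) (fun b x => ?_)
  apply toC_injective
  ext j k hjk y
  -- the left hand side
  have hL : ((tX φ H ≫ (SB φ ◁ h) ≫ θ (SB φ) P F).f n).hom (b ⊗ₜ[R,φ] x) =
      ((θ (SB φ) P F).f n).hom
        ((HomologicalComplex.ιTensorObj (SB φ) (DRing.homCx P F) 0 n n (zero_add n)).hom
          ((σB φ).hom.hom b ⊗ₜ[R] (h.f n).hom x)) := by
    have h1 : ((tX φ H ≫ (SB φ ◁ h) ≫ θ (SB φ) P F).f n).hom (b ⊗ₜ[R,φ] x) =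
      ((θ (SB φ) P F).f n).hom (((SB φ ◁ h).f n).hom (((tX φ H).f n).hom (b ⊗ₜ[R,φ] x))) := rfl
    rw [h1, tX_tmul, whiskerLeft_ι_tmul]
  -- the right hand side
  have hR : (((DTen.resCx φ).map (β φ P F h) ≫ κ φ P ((DTen.extCx φ).obj F) ≫
        DRing.homCxMap P (tX φ F)).f n).hom (b ⊗ₜ[R,φ] x) =
      ((DRing.homCxMap P (tX φ F)).f n).hom (((κ φ P ((DTen.extCx φ).obj F)).f n).hom
        (((β φ P F h).f n).hom (b ⊗ₜ[R,φ] x))) := rfl
  refine (congrArg (fun t => ((toC t).v j k hjk).hom y) hL).trans ?_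
  refine Eq.trans ?_ (congrArg (fun t => ((toC t).v j k hjk).hom y) hR).symm
  refine (θ_apply (SB φ) P F 0 n n (zero_add n) ((σB φ).hom.hom b) ((h.f n).hom x) j k k hjk hjk
    y).trans ?_
  refine Eq.trans ?_ (toC_homCxMap_v P (tX φ F) n _ j k hjk y).symm
  rw [κ_apply φ P ((DTen.extCx φ).obj F) n j k (by omega) _ y, β_tmul]
  refine Eq.trans ?_ (congrArg (fun t => ((tX φ F).f k).hom t)
    (toC_smul_v ((DTen.extCx φ).obj P) ((DTen.extCx φ).obj F) n b _ j k hjk
      (uElt φ P j y)).symm)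
  have h3 := κ_apply φ P ((DTen.extCx φ).obj F) n j k (by omega)
    (((βf φ P F h).f n).hom x) y
  have h4 : ((κ φ P ((DTen.extCx φ).obj F)).f n).hom (((βf φ P F h).f n).hom x) =
      ((DRing.homCxMap P ((DTen.unitCx φ).app F)).f n).hom ((h.f n).hom x) :=
    κ_inv_apply φ P ((DTen.extCx φ).obj F) n _
  rw [h4, toC_homCxMap_v] at h3
  exact (tX_smul_unit φ F k b _).symm.trans
    (congrArg (fun t : ((DTen.extCx φ).obj F).X k => ((tX φ F).f k).hom (b • t)) h3)

end Groth.Agent.Helper3.BC
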