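import Groth.Agent.Lib.Helper3.BC5
import Groth.Agent.Lib.Helper11.RHomK1

/-!
# Criteria for `DTen.bcRHom` to be an isomorphism (helper3)
-/

set_option autoImplicit false

open CategoryTheory CategoryTheory.Limits MonoidalCategory CochainComplex HomComplex
open scoped TensorProduct

universe u

attribute [local instance] HasDerivedCategory.standard

namespace Groth.Agent.Helper3.BC

open Groth.Agent.Helper11.LDer Groth.Agent.Helper11.DC Groth.Agent.Helper11.Tel
  Groth.Agent.Helper11.Dev
open Groth.Agent.Helper3.HT Groth.Agent.Helper3.DT Groth.Agent.Helper3.RH Groth.Agent.Helper3.TH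
open Groth.Agent.Helper3.DS Groth.Agent.Helper3.KF

section Theta

variable {A : Type u} [CommRing A]

@[reassoc]
theorem θ_nat_W (K P : DRing.Cx A) {W W' : DRing.Cx A} (g : W ⟶ W') :
    (K ◁ DRing.homCxMap P g) ≫ θ K P W' = θ K P W ≫ DRing.homCxMap P (K ◁ g) := by
  apply uncH_injective
  rw [uncH_comp_left, uncH_comp_right, uncH_θ, uncH_θ, ← Category.assoc,
    MonoidalCategory.associator_naturality_middle, Category.assoc, Category.assoc,
    ← MonoidalCategory.whiskerLeft_comp, ← MonoidalCategory.whiskerLeft_comp, ← uncH_eq,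
    uncH_homCxMap]

/-- `θ K E W` is an isomorphism in each degree for `E` a bounded complex of finite projective
modules -/
theorem isIso_θ_f_of_perfect_mid (E : DRing.Cx A) (a b : ℤ)
    (hE : DRing.VanishesOutside E a b) (hfp : DRing.TermwiseFiniteProjective E)
    (K W : DRing.Cx A) (m : ℤ) : IsIso ((θ K E W).f m) := by
  refine devissage (A := A)
    (fun E : DRing.Cx A => ∀ (K W : DRing.Cx A) (m : ℤ), IsIso ((θ K E W).f m))
    ?_ ?_ ?_ E a b hE hfp K W m
  · intro E E' e h K W m
    haveI := h K W m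
    haveI := isIso_homCxPre e.hom W
    haveI := isIso_homCxPre e.inv (K ⊗ W)
    haveI : IsIso (K ◁ homCxPre e.hom W) :=
      (inferInstance : IsIso ((tensorLeft K).map (homCxPre e.hom W)))
    have h2 : θ K E' W = (K ◁ homCxPre e.hom W) ≫ θ K E W ≫ homCxPre e.inv (K ⊗ W) := by
      rw [θ_nat_P_assoc, ← homCxPre_comp, e.inv_hom_id, homCxPre_id, Category.comp_id]
    rw [h2, HomologicalComplex.comp_f, HomologicalComplex.comp_f]
    infer_instance
  · intro S hS h1 h3 K W m
    let φ : scWhiskerLeft K (scHomLeft S W) ⟶ scHomLeft S (K ⊗ W) :=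
      { τ₁ := θ K S.X₃ W
        τ₂ := θ K S.X₂ W
        τ₃ := θ K S.X₁ W
        comm₁₂ := (θ_nat_P K S.g W).symm
        comm₂₃ := (θ_nat_P K S.f W).symm }
    have e1 := (HomologicalComplex.shortExact_iff_degreewise_shortExact _).mp
      ((hS.homLeft W).whiskerLeft K).shortExact m
    have e2 := (HomologicalComplex.shortExact_iff_degreewise_shortExact _).mp
      (hS.homLeft (K ⊗ W)).shortExact m
    exact ShortComplex.isIso₂_of_shortExact_of_isIso₁₃'
      ((HomologicalComplex.eval (ModuleCat.{u} A) (ComplexShape.up ℤ) m).mapShortComplex.map φ)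
      e1 e2 (h3 K W m) (h1 K W m)
  · intro N b hN1 hN2 K W m
    obtain ⟨hz, h1, h2⟩ := single_props N b
    exact isIso_θ_f_of_single_mid _ b hz W K m

theorem isZero_tensor_X_of_bounds (G W : DRing.Cx A) (c n k : ℤ)
    (hG : ∀ p : ℤ, p < c → IsZero (G.X p)) (hW : ∀ r : ℤ, r < n → IsZero (W.X r))
    (hk : k < c + n) : IsZero ((G ⊗ W).X k) := by
  rw [IsZero.iff_id_eq_zero]
  apply HomologicalComplex.mapBifunctor.hom_ext
  intro p r hpr
  change p + r = k at hpr
  by_cases hp : p < c
  · exact (isZero_tensor_left (hG p hp) (W.X r)).eq_of_src _ _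
  · exact (isZero_tensor_right (G.X p) (hW r (by omega))).eq_of_src _ _

/-- `θ G P W` is an isomorphism of complexes for `G` bounded, `P` bounded above with finite
projective terms and `W` bounded below -/
theorem isIso_θ_of_bounds (G P W : DRing.Cx A) (c d b n : ℤ) (hG : DRing.VanishesOutside G c d)
    (hP : DRing.VanishesAbove P b)
    (hPfp : ∀ i : ℤ, Module.Finite A (P.X i) ∧ Module.Projective A (P.X i))
    (hW : ∀ r : ℤ, r < n → IsZero (W.X r)) : IsIso (θ G P W) := by
  haveI : ∀ m, IsIso ((θ G P W).f m) := by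
    intro m
    obtain ⟨a, ha⟩ : ∃ a : ℤ, a = n - m + c := ⟨_, rfl⟩
    haveI := isIso_θ_f_of_perfect_mid (sigmaGE P a) a b (sigmaGE_vanishesOutside P a b hP)
      (sigmaGE_termwiseFiniteProjective P a hPfp) G W m
    have hnat := congrArg (fun φ => φ.f m) (θ_nat_P G (sigmaGEι P a) W)
    simp only [HomologicalComplex.comp_f] at hnat
    haveI : IsIso ((G ◁ homCxPre (sigmaGEι P a) W).f m) := by
      apply isIso_whiskerLeft_f
      intro q p hqp
      by_cases hq : q < c
      · exact Or.inl (hG q (Or.inl hq))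
      · refine Or.inr ?_
        apply isIso_homCxPre_f
        intro j
        by_cases hj : a ≤ j
        · exact Or.inl (isIso_sigmaGEι_f P a j hj)
        · exact Or.inr (hW _ (by omega))
    haveI : IsIso ((homCxPre (sigmaGEι P a) (G ⊗ W)).f m) := by
      apply isIso_homCxPre_f
      intro j
      by_cases hj : a ≤ j
      · exact Or.inl (isIso_sigmaGEι_f P a j hj)
      · exact Or.inr (isZero_tensor_X_of_bounds G W c n _ (fun p hp => hG p (Or.inl hp)) hW
          (by omega))
    exact isIso_of_square hnat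
  exact HomologicalComplex.Hom.isIso_of_components _

end Theta

variable {R R' : Type u} [CommRing R] [CommRing R'] (φ : R →+* R')

theorem quasiIso_of_resCx {X Y : DRing.Cx R'} (f : X ⟶ Y) (h : QuasiIso ((DTen.resCx φ).map f)) :
    QuasiIso f := by
  exact (HomologicalComplex.quasiIso_map_iff_of_preservesHomology f
    (ModuleCat.restrictScalars.{u} φ)).mp h

/-- the row `G ⊗ H ⟶ G ⊗ Hom(P, F) ⟶ Hom(P, G ⊗ F)` -/
noncomputable def row (G P F : DRing.Cx R) {H : DRing.Cx R} (h : H ⟶ DRing.homCx P F) :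
    G ⊗ H ⟶ DRing.homCx P (G ⊗ F) :=
  (G ◁ h) ≫ θ G P F

theorem quasiIso_β_of_row (P F : DRing.Cx R) {H : DRing.Cx R} (h : H ⟶ DRing.homCx P F)
    (hr : QuasiIso (row (SB φ) P F h)) : QuasiIso (β φ P F h) := by
  apply quasiIso_of_resCx φ
  haveI := hr
  haveI := isIso_homCxMap P (tX φ F)
  have h1 := tX_θ φ P F h
  have h2 : (DTen.resCx φ).map (β φ P F h) =
      tX φ H ≫ row (SB φ) P F h ≫ inv (DRing.homCxMap P (tX φ F)) ≫
        inv (κ φ P ((DTen.extCx φ).obj F)) := by
    rw [row, Category.assoc, reassoc_of% h1]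
    simp only [IsIso.hom_inv_id_assoc, IsIso.hom_inv_id, Category.comp_id]
  rw [h2]
  infer_instance

theorem row_nat {G G' : DRing.Cx R} (u : G ⟶ G') (P F : DRing.Cx R) {H : DRing.Cx R}
    (h : H ⟶ DRing.homCx P F) :
    (u ▷ H) ≫ row G' P F h = row G P F h ≫ DRing.homCxMap P (u ▷ F) := by
  rw [row, row, ← Category.assoc, ← MonoidalCategory.whisker_exchange, Category.assoc,
    θ_nat_K, Category.assoc]

/-- transfer of the quasi-isomorphism property of a row along a quasi-isomorphism `G ⟶ G'` -/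
theorem quasiIso_row_iff {G G' : DRing.Cx R} (u : G ⟶ G') [QuasiIso u] (P F : DRing.Cx R)
    [P.IsKProjective] [F.IsKProjective] {H : DRing.Cx R} [H.IsKProjective]
    (h : H ⟶ DRing.homCx P F) :
    QuasiIso (row G P F h) ↔ QuasiIso (row G' P F h) := by
  haveI := quasiIso_whiskerRight_of_isKProjective H u
  haveI := quasiIso_whiskerRight_of_isKProjective F u
  haveI := Groth.Agent.Helper11.RHomK.quasiIso_homCxMap P (u ▷ F)
  have hn := row_nat u P F h
  constructor
  · intro h1
    haveI := h1
    haveI : QuasiIso ((u ▷ H) ≫ row G' P F h) := by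
      rw [hn]
      infer_instance
    exact quasiIso_of_comp_left (u ▷ H) (row G' P F h)
  · intro h1
    haveI := h1
    haveI : QuasiIso (row G P F h ≫ DRing.homCxMap P (u ▷ F)) := by
      rw [← hn]
      infer_instance
    exact quasiIso_of_comp_right (row G P F h) (DRing.homCxMap P (u ▷ F))

/-- transfer along an isomorphism in the derived category -/
theorem quasiIso_row_of_iso {G G' : DRing.Cx R}
    (e : (DerivedCategory.Q.obj G : Dual.D R) ≅ DerivedCategory.Q.obj G') (P F : DRing.Cx R)
    [P.IsKProjective] [F.IsKProjective] {H : DRing.Cx R} [H.IsKProjective]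
    (h : H ⟶ DRing.homCx P F) (hr : QuasiIso (row G P F h)) : QuasiIso (row G' P F h) := by
  obtain ⟨T, hT, -, ⟨eT⟩⟩ := exists_kprojective_rep (DerivedCategory.Q.obj G : Dual.D R)
  haveI := hT
  obtain ⟨a, ha⟩ := exists_lift_of_isKProjective T G eT.hom
  obtain ⟨b, hb⟩ := exists_lift_of_isKProjective T G' (eT.hom ≫ e.hom)
  haveI : QuasiIso a := by
    rw [← DerivedCategory.isIso_Q_map_iff_quasiIso, ha]
    infer_instance
  haveI : QuasiIso b := by
    rw [← DerivedCategory.isIso_Q_map_iff_quasiIso, hb]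
    infer_instance
  exact (quasiIso_row_iff b P F h).mp ((quasiIso_row_iff a P F h).mpr hr)

section Crit

variable [DTen.HasLTen R] [DTen.HasLTen R'] [DTen.HasRHom R] [DTen.HasRHom R'] [DTen.HasLBase φ]
  [DTen.HasResTen φ] [DTen.ResLegIso φ]

/-- criterion in terms of a complex `G` representing `R'[0]` -/
theorem isIso_bcRHom_of_row (G : DRing.Cx R)
    (e : (DerivedCategory.Q.obj G : Dual.D R) ≅ DerivedCategory.Q.obj (SB φ)) (P F : DRing.Cx R)
    [P.IsKProjective] [F.IsKProjective] {H : DRing.Cx R} [H.IsKProjective]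
    (h : H ⟶ DRing.homCx P F) [QuasiIso h] (hr : QuasiIso (row G P F h)) :
    IsIso (DTen.bcRHom φ (DerivedCategory.Q.obj P) (DerivedCategory.Q.obj F)) :=
  isIso_bcRHom_of_quasiIso_β φ P F H (isIso_baseCmp φ F) h
    (quasiIso_β_of_row φ P F h (quasiIso_row_of_iso e P F h hr))

end Crit

end Groth.Agent.Helper3.BC
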