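import Groth.Agent.Lib.Helper3.BC6
import Groth.Agent.Lib.Helper11.LTen1

/-!
# The base change map for `RHom` is an isomorphism: the cases (helper3)
-/

set_option autoImplicit false

open CategoryTheory CategoryTheory.Limits MonoidalCategory CochainComplex HomComplex
open scoped TensorProduct

universe u

attribute [local instance] HasDerivedCategory.standard

namespace Groth.Agent.Helper3.BC

open Groth.Agent.Helper11.LDer Groth.Agent.Helper11.DC Groth.Agent.Helper11.Tel
  Groth.Agent.Helper11.Dev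
open Groth.Agent.Helper3.HT Groth.Agent.Helper3.DT Groth.Agent.Helper3.RH Groth.Agent.Helper3.TH
open Groth.Agent.Helper3.DS Groth.Agent.Helper3.KF

variable {R R' : Type u} [CommRing R] [CommRing R'] (φ : R →+* R')

section Cases

variable [DTen.HasLTen R] [DTen.HasLTen R'] [DTen.HasRHom R] [DTen.HasRHom R'] [DTen.HasLBase φ]
  [DTen.HasResTen φ] [DTen.ResLegIso φ]

/-- case (i): `K` perfect -/
theorem isIso_bcRHom_of_isPerfect (K M : Dual.D R) (hK : DRing.IsPerfect R K) :
    IsIso (DTen.bcRHom φ K M) := by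
  obtain ⟨E, a, b, hE, hfp, ⟨eK⟩⟩ := hK
  obtain ⟨F, hF, -, ⟨eM⟩⟩ := exists_kprojective_rep M
  haveI := hF
  haveI := isKProjective_of_bounded E a b hE hfp
  haveI := isKProjective_homCx_of_perfect E a b hE hfp F
  refine isIso_bcRHom_of_iso φ eK.symm eM.symm ?_
  haveI : QuasiIso (𝟙 (DRing.homCx E F)) := inferInstance
  refine isIso_bcRHom_of_quasiIso_β φ E F (DRing.homCx E F) (isIso_baseCmp φ F)
    (𝟙 (DRing.homCx E F)) (quasiIso_β_of_row φ E F _ ?_)
  rw [row, MonoidalCategory.whiskerLeft_id, Category.id_comp]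
  exact quasiIso_θ_of_perfect_mid E a b hE hfp (SB φ) F

/-- case (ii): `R'[0]` is represented by a bounded complex of finite projective modules -/
theorem isIso_bcRHom_of_perfect_rep (K M : Dual.D R) (G : DRing.Cx R) (a b : ℤ)
    (hG : DRing.VanishesOutside G a b) (hfp : DRing.TermwiseFiniteProjective G)
    (e : (DerivedCategory.Q.obj G : Dual.D R) ≅ DerivedCategory.Q.obj (SB φ)) :
    IsIso (DTen.bcRHom φ K M) := by
  obtain ⟨P, hP, -, ⟨eK⟩⟩ := exists_kprojective_rep K
  obtain ⟨F, hF, -, ⟨eM⟩⟩ := exists_kprojective_rep M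
  haveI := hP
  haveI := hF
  obtain ⟨H, h, hH, -, hh⟩ := exists_kprojective_resolution (DRing.homCx P F)
  haveI := hH
  haveI := hh
  refine isIso_bcRHom_of_iso φ eK.symm eM.symm ?_
  refine isIso_bcRHom_of_row φ G e P F h ?_
  haveI := quasiIso_whiskerLeft_of_perfect G a b hG hfp h hh
  haveI := quasiIso_θ_of_perfect G a b hG hfp P F
  rw [row]
  infer_instance

/-- cases (iii), (iv): `R'[0]` is represented by a bounded complex of flat modules, `K` is
pseudo-coherent and `M` is bounded below -/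
theorem isIso_bcRHom_of_flat_rep (K M : Dual.D R) (G : DRing.Cx R) (c d : ℤ)
    (hG : DRing.VanishesOutside G c d) (hfl : DRing.TermwiseFlat G)
    (e : (DerivedCategory.Q.obj G : Dual.D R) ≅ DerivedCategory.Q.obj (SB φ))
    (hK : DRing.IsPseudoCoherent' R K) (n : ℤ) (hM : DerivedCategory.IsGE M n) :
    IsIso (DTen.bcRHom φ K M) := by
  obtain ⟨P, b, hPb, hPf, ⟨eK⟩⟩ := hK
  obtain ⟨W, hW, ⟨eW⟩⟩ := exists_strictlyGE_rep M n hM
  have hPp : ∀ i, Module.Projective R (P.X i) := fun i => by
    haveI := (hPf i).2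
    infer_instance
  haveI : P.IsKProjective := isKProjective_of_vanishesAbove P b hPb hPp
  obtain ⟨F, f, hF, -, hf⟩ := exists_kprojective_resolution W
  haveI := hF
  haveI := hf
  obtain ⟨H, h, hH, -, hh⟩ := exists_kprojective_resolution (DRing.homCx P F)
  haveI := hH
  haveI := hh
  haveI : IsIso (DerivedCategory.Q.map f) := by
    rw [DerivedCategory.isIso_Q_map_iff_quasiIso]
    infer_instance
  refine isIso_bcRHom_of_iso φ eK.symm (eW.symm ≪≫ (asIso (DerivedCategory.Q.map f)).symm) ?_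
  refine isIso_bcRHom_of_row φ G e P F h ?_
  -- the row for `G` is a quasi-isomorphism
  have hGb : ∀ i : ℤ, d < i → IsZero (G.X i) := fun i hi => hG i (Or.inr hi)
  have hid : row G P F h ≫ DRing.homCxMap P (G ◁ f) =
      (G ◁ (h ≫ DRing.homCxMap P f)) ≫ θ G P W := by
    rw [row, Category.assoc, ← θ_nat_W, ← Category.assoc, ← MonoidalCategory.whiskerLeft_comp]
  haveI := Groth.Agent.Helper11.RHomK.quasiIso_homCxMap P f
  haveI : QuasiIso (G ◁ (h ≫ DRing.homCxMap P f)) :=
    Groth.Agent.Helper11.LTen.quasiIso_whiskerLeft_of_flat_bddAbove G d hGb hfl _ inferInstance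
  haveI : IsIso (θ G P W) := isIso_θ_of_bounds G P W c d b n hG hPb
    (fun i => ⟨(hPf i).1, hPp i⟩) hW
  haveI : QuasiIso (G ◁ f) :=
    Groth.Agent.Helper11.LTen.quasiIso_whiskerLeft_of_flat_bddAbove G d hGb hfl f hf
  haveI := Groth.Agent.Helper11.RHomK.quasiIso_homCxMap P (G ◁ f)
  haveI : QuasiIso (row G P F h ≫ DRing.homCxMap P (G ◁ f)) := by
    rw [hid]
    infer_instance
  exact quasiIso_of_comp_right (row G P F h) (DRing.homCxMap P (G ◁ f))

end Cases

end Groth.Agent.Helper3.BC
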