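import Groth.Agent.Lib.Helper3.BC7
import Groth.Agent.Lib.Helper11.PerfHom

/-!
# The base change map for `RHom`: the four cases for an algebra `R → R'` (helper3)
-/

set_option autoImplicit false

open CategoryTheory CategoryTheory.Limits MonoidalCategory CochainComplex HomComplex
open scoped TensorProduct

universe u

attribute [local instance] HasDerivedCategory.standard

namespace Groth.Agent.Helper3.BC

open Groth.Agent.Helper11.LDer Groth.Agent.Helper11.DC Groth.Agent.Helper11.Tel
  Groth.Agent.Helper11.Dev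
open Groth.Agent.Helper3.HT Groth.Agent.Helper3.DT Groth.Agent.Helper3.RH Groth.Agent.Helper3.TH
open Groth.Agent.Helper3.DS Groth.Agent.Helper3.KF

variable (R R' : Type u) [CommRing R] [CommRing R'] [Algebra R R']

/-- `R'` restricted along the structure map is the `R`-module `R'` -/
noncomputable def BmIso : Bm (algebraMap R R') ≅ ModuleCat.of R R' :=
  Groth.Agent.Helper11.PerfHom.rsIso (A := R) (P := R') (B := R')

/-- `R'[0]` in the derived category -/
noncomputable def eSB :
    (DerivedCategory.Q.obj (SB (algebraMap R R')) : Dual.D R) ≅ Dual.inD R R' :=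
  ((DerivedCategory.singleFunctorIsoCompQ (ModuleCat.{u} R) 0).app (Bm (algebraMap R R'))).symm ≪≫
    (DerivedCategory.singleFunctor (ModuleCat.{u} R) 0).mapIso (BmIso R R')

theorem termwiseFlat_SB [Module.Flat R R'] : DRing.TermwiseFlat (SB (algebraMap R R')) := by
  intro i
  by_cases hi : i = 0
  · subst hi
    let e : (SB (algebraMap R R')).X 0 ≃ₗ[R] R' :=
      ((σB (algebraMap R R')).symm ≪≫ BmIso R R').toLinearEquiv
    exact Module.Flat.of_linearEquiv e
  · haveI : Subsingleton ((SB (algebraMap R R')).X i) :=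
      ModuleCat.subsingleton_of_isZero (isZero_SB (algebraMap R R') i hi)
    infer_instance

theorem vanishesOutside_SB : DRing.VanishesOutside (SB (algebraMap R R')) 0 0 := by
  intro i hi
  exact isZero_SB (algebraMap R R') i (by omega)

theorem exists_flat_rep_of_hasFiniteTorDim (h : DRing.HasFiniteTorDim R R') :
    ∃ (G : DRing.Cx R) (c d : ℤ), DRing.VanishesOutside G c d ∧ DRing.TermwiseFlat G ∧
      Nonempty ((DerivedCategory.Q.obj G : Dual.D R) ≅
        DerivedCategory.Q.obj (SB (algebraMap R R'))) := by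
  obtain ⟨d, hd⟩ := Groth.Agent.Helper11.PerfHom.hasFiniteTorDim_iff.mp h
  obtain ⟨G, hG, hfl, ⟨e⟩⟩ := Groth.Agent.Helper11.TA.hasTorAmplitudeIn_of_torVan hd
  exact ⟨G, _, _, hG, hfl, ⟨e ≪≫ (eSB R R').symm⟩⟩

section Final

variable [DTen.HasLTen R] [DTen.HasLTen R'] [DTen.HasRHom R] [DTen.HasRHom R']
  [DTen.HasLBase (algebraMap R R')] [DTen.HasResTen (algebraMap R R')]
  [DTen.ResLegIso (algebraMap R R')]

theorem isIso_bcRHom_of_isPerfectModule (K M : Dual.D R) (hR' : DRing.IsPerfectModule R R') :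
    IsIso (DTen.bcRHom (algebraMap R R') K M) := by
  obtain ⟨G, a, b, hG, hfp, ⟨e⟩⟩ := hR'
  exact isIso_bcRHom_of_perfect_rep (algebraMap R R') K M G a b hG hfp (e ≪≫ (eSB R R').symm)

theorem isIso_bcRHom_of_flat [Module.Flat R R'] (K M : Dual.D R)
    (hK : DRing.IsPseudoCoherent' R K) (n : ℤ) (hM : DerivedCategory.IsGE M n) :
    IsIso (DTen.bcRHom (algebraMap R R') K M) :=
  isIso_bcRHom_of_flat_rep (algebraMap R R') K M (SB (algebraMap R R')) 0 0
    (vanishesOutside_SB R R') (termwiseFlat_SB R R') (Iso.refl _) hK n hM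

theorem isIso_bcRHom_of_hasFiniteTorDim (K M : Dual.D R) (hR' : DRing.HasFiniteTorDim R R')
    (hK : DRing.IsPseudoCoherent' R K) (n : ℤ) (hM : DerivedCategory.IsGE M n) :
    IsIso (DTen.bcRHom (algebraMap R R') K M) := by
  obtain ⟨G, c, d, hG, hfl, ⟨e⟩⟩ := exists_flat_rep_of_hasFiniteTorDim R R' hR'
  exact isIso_bcRHom_of_flat_rep (algebraMap R R') K M G c d hG hfl e hK n hM

end Final

end Groth.Agent.Helper3.BC
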