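import Mathlib
import Groth.Prelude.Def_CurvBase
import Groth.Prelude.Def_Flat
import Groth.Agent.Lib.Helper14.FieldBC
import Groth.Agent.Lib.Helper14.LocalDimSch

/-!
# `dim O_{X_K,y} + trdeg_K κ(y) = dim O_{X,x} + trdeg_k κ(x)` (helper3, S7589)
-/

set_option autoImplicit false
universe u

open CategoryTheory CategoryTheory.Limits AlgebraicGeometry IsLocalRing

attribute [local instance] Curv2.resAlgebra

namespace Groth.Agent.Helper3.BCDimTrdeg

open Groth.Agent.Helper14

/-- ring-level: for a flat local homomorphism of Noetherian local rings, the dimension of the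
closed fibre is determined by a relation `dim S + a' = dim R + a`. -/
theorem fibre_dim_of_eq {R S : Type*} [CommRing R] [CommRing S] [IsLocalRing R]
    [IsLocalRing S] [IsNoetherianRing R] [IsNoetherianRing S] [Algebra R S]
    [IsLocalHom (algebraMap R S)] [Module.Flat R S] (a a' : ℕ)
    (hA : ringKrullDim S + (a' : WithBot ℕ∞) = ringKrullDim R + (a : WithBot ℕ∞)) :
    ringKrullDim (S ⧸ (maximalIdeal R).map (algebraMap R S)) + (a' : WithBot ℕ∞) =
      (a : WithBot ℕ∞) := by
  have hIle : (maximalIdeal R).map (algebraMap R S) ≤ maximalIdeal S :=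
    IsLocalRing.map_maximalIdeal_le (algebraMap R S)
  have hI_ne : (maximalIdeal R).map (algebraMap R S) ≠ ⊤ := fun h =>
    (maximalIdeal.isMaximal S).ne_top (top_le_iff.mp (h ▸ hIle))
  haveI : Nontrivial (S ⧸ (maximalIdeal R).map (algebraMap R S)) :=
    Ideal.Quotient.nontrivial_iff.mpr hI_ne
  haveI : IsLocalRing (S ⧸ (maximalIdeal R).map (algebraMap R S)) :=
    IsLocalRing.of_surjective' (Ideal.Quotient.mk _) Ideal.Quotient.mk_surjective
  haveI : (maximalIdeal S).LiesOver (maximalIdeal R) :=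
    ⟨(IsLocalRing.maximalIdeal_comap (algebraMap R S)).symm⟩
  have h := Ideal.height_eq_height_add_of_liesOver_of_hasGoingDown (maximalIdeal R)
    (maximalIdeal S)
  rw [IsLocalRing.map_maximalIdeal_of_surjective
    (Ideal.Quotient.mk ((maximalIdeal R).map (algebraMap R S))) Ideal.Quotient.mk_surjective] at h
  have hfin : (maximalIdeal R).height ≠ ⊤ :=
    Ideal.height_ne_top (maximalIdeal.isMaximal R).ne_top
  rw [← IsLocalRing.maximalIdeal_height_eq_ringKrullDim (R := S),
    ← IsLocalRing.maximalIdeal_height_eq_ringKrullDim (R := R)] at hA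
  rw [← IsLocalRing.maximalIdeal_height_eq_ringKrullDim
    (R := S ⧸ (maximalIdeal R).map (algebraMap R S))]
  have hA' : (maximalIdeal S).height + (a' : ℕ∞) = (maximalIdeal R).height + (a : ℕ∞) := by
    exact_mod_cast hA
  rw [h, add_assoc] at hA'
  have h3 := ENat.add_right_injective_of_ne_top hfin hA'
  exact_mod_cast h3

/-- S7589. -/
theorem main (k : Type u) [Field k] (X : Scheme.{u}) [X.Over (Spec (CommRingCat.of k))]
    [LocallyOfFiniteType (X ↘ Spec (CommRingCat.of k))]
    (K : Type u) [Field K] [Algebra k K] (y : ↥(Curv2.bc k X K)) (a a' : ℕ)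
    (ha : Algebra.trdeg k (X.residueField (Curv2.bcFst k X K y)) = a)
    (ha' : letI : (Curv2.bc k X K).Over (Spec (CommRingCat.of K)) := ⟨Curv2.bcSnd k X K⟩
      Algebra.trdeg K ((Curv2.bc k X K).residueField y) = a') :
    ringKrullDim ((Curv2.bc k X K).presheaf.stalk y) + (a' : WithBot ℕ∞) =
        ringKrullDim (X.presheaf.stalk (Curv2.bcFst k X K y)) + (a : WithBot ℕ∞) ∧
      ringKrullDim (↥((Curv2.bc k X K).presheaf.stalk y) ⧸
          Ideal.map ((Curv2.bcFst k X K).stalkMap y).hom
            (maximalIdeal ↥(X.presheaf.stalk (Curv2.bcFst k X K y)))) + (a' : WithBot ℕ∞) =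
        (a : WithBot ℕ∞) := by
  letI ov : (Curv2.bc k X K).Over (Spec (CommRingCat.of K)) := ⟨Curv2.bcSnd k X K⟩
  haveI : LocallyOfFiniteType ((Curv2.bc k X K) ↘ Spec (CommRingCat.of K)) :=
    inferInstanceAs (LocallyOfFiniteType (Curv2.bcSnd k X K))
  have e1 := LocalDimSch.localDim_eq K (Curv2.bc k X K) y a' ha'
  have e2 := LocalDimSch.localDim_eq k X (Curv2.bcFst k X K y) a ha
  haveI : Subsingleton ↥(Spec (CommRingCat.of k)) :=
    inferInstanceAs (Subsingleton (PrimeSpectrum k))
  haveI : Subsingleton ↥(Spec (CommRingCat.of K)) :=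
    inferInstanceAs (Subsingleton (PrimeSpectrum K))
  have h := FibreDimBC.fibreDimAt_eq (IsPullback.of_hasPullback (X ↘ Spec (CommRingCat.of k))
    (Spec.map (CommRingCat.ofHom (algebraMap k K)))) y
  rw [FieldBC.fibreDimAt_eq_localDim, FieldBC.fibreDimAt_eq_localDim] at h
  have hA : ringKrullDim ((Curv2.bc k X K).presheaf.stalk y) + (a' : WithBot ℕ∞) =
      ringKrullDim (X.presheaf.stalk (Curv2.bcFst k X K y)) + (a : WithBot ℕ∞) := by
    rw [← e1, ← e2]
    exact h
  refine ⟨hA, ?_⟩
  haveI : IsLocallyNoetherian X :=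
    LocallyOfFiniteType.isLocallyNoetherian (X ↘ Spec (CommRingCat.of k))
  haveI : IsLocallyNoetherian (Curv2.bc k X K) :=
    LocallyOfFiniteType.isLocallyNoetherian (Curv2.bcSnd k X K)
  haveI : Flat (Spec.map (CommRingCat.ofHom (algebraMap k K))) :=
    Flat.SpecMap_iff.2 (RingHom.flat_algebraMap_iff.mpr inferInstance)
  have hflat := Flat.stalkMap (Curv2.bcFst k X K) y
  letI : Algebra (X.presheaf.stalk (Curv2.bcFst k X K y)) ((Curv2.bc k X K).presheaf.stalk y) :=
    ((Curv2.bcFst k X K).stalkMap y).hom.toAlgebra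
  haveI : Module.Flat (X.presheaf.stalk (Curv2.bcFst k X K y))
      ((Curv2.bc k X K).presheaf.stalk y) := RingHom.flat_algebraMap_iff.mp hflat
  haveI : IsLocalHom (algebraMap (X.presheaf.stalk (Curv2.bcFst k X K y))
      ((Curv2.bc k X K).presheaf.stalk y)) := by
    show IsLocalHom ((Curv2.bcFst k X K).stalkMap y).hom
    infer_instance
  exact fibre_dim_of_eq a a' hA

end Groth.Agent.Helper3.BCDimTrdeg
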