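import Mathlib
import Groth.Prelude.Def_CAlgX

/-!
# Buchsbaum–Eisenbud, part 1: minors (helper3)
-/

set_option autoImplicit false

universe u

namespace Groth.Agent.Helper3.BE1

open Matrix CAlgX

section Basic

variable {R : Type u} [CommRing R] {m n : Type} [Fintype m] [Fintype n]

lemma det_mem_minorIdeal (A : Matrix m n R) (r : ℕ) (f : Fin r → m) (g : Fin r → n) :
    (A.submatrix f g).det ∈ minorIdeal A r :=
  Ideal.subset_span ⟨(f, g), rfl⟩

lemma minorIdeal_zero (A : Matrix m n R) : minorIdeal A 0 = ⊤ := by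
  rw [Ideal.eq_top_iff_one]
  have := det_mem_minorIdeal A 0 (Fin.elim0) (Fin.elim0)
  rwa [Matrix.det_isEmpty] at this

lemma minorIdeal_map {S : Type u} [CommRing S] (f : R →+* S) (A : Matrix m n R) (r : ℕ) :
    minorIdeal (A.map f) r = (minorIdeal A r).map f := by
  unfold minorIdeal
  rw [Ideal.map_span, ← Set.range_comp]
  congr 1
  ext x
  simp only [Set.mem_range, Function.comp_apply]
  constructor
  · rintro ⟨fg, rfl⟩
    refine ⟨fg, ?_⟩
    rw [RingHom.map_det]
    rfl
  · rintro ⟨fg, rfl⟩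
    refine ⟨fg, ?_⟩
    rw [RingHom.map_det]
    rfl

lemma minorIdeal_zero_matrix (r : ℕ) (hr : 0 < r) :
    minorIdeal (0 : Matrix m n R) r = ⊥ := by
  unfold minorIdeal
  rw [Ideal.span_eq_bot]
  rintro x ⟨fg, rfl⟩
  haveI : Nonempty (Fin r) := ⟨⟨0, hr⟩⟩
  simp only [Matrix.submatrix_zero]
  exact Matrix.det_zero

lemma minorIdeal_eq_bot_iff (A : Matrix m n R) (r : ℕ) :
    minorIdeal A r = ⊥ ↔ ∀ (f : Fin r → m) (g : Fin r → n), (A.submatrix f g).det = 0 := by
  unfold minorIdeal
  rw [Ideal.span_eq_bot]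
  constructor
  · intro h f g
    exact h _ ⟨(f, g), rfl⟩
  · rintro h x ⟨fg, rfl⟩
    exact h _ _

lemma exists_isUnit_minor [IsLocalRing R] (A : Matrix m n R) (r : ℕ) (h : minorIdeal A r = ⊤) :
    ∃ (f : Fin r → m) (g : Fin r → n), IsUnit (A.submatrix f g).det := by
  by_contra hne
  push Not at hne
  have : minorIdeal A r ≤ IsLocalRing.maximalIdeal R := by
    unfold minorIdeal
    rw [Ideal.span_le]
    rintro x ⟨fg, rfl⟩
    exact (IsLocalRing.mem_maximalIdeal _).mpr (hne _ _)
  rw [h] at this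
  exact (IsLocalRing.maximalIdeal.isMaximal R).ne_top (top_le_iff.mp this)

end Basic

section Cols

variable {R : Type u} [CommRing R] {m n : ℕ}

/-- If `A` has a unit `r × r` minor at `(σ, τ)` and all `(r+1)`-minors vanish, every column is a
combination of the columns `τ`. -/
lemma exists_col_comb (A : Matrix (Fin m) (Fin n) R) (r : ℕ) (σ : Fin r → Fin m)
    (τ : Fin r → Fin n) (hu : IsUnit (A.submatrix σ τ).det) (h0 : minorIdeal A (r + 1) = ⊥)
    (l : Fin n) : ∃ c : Fin r → R, ∀ i : Fin m, A i l = ∑ t, A i (τ t) * c t := by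
  rw [minorIdeal_eq_bot_iff] at h0
  obtain ⟨u, hu⟩ := hu
  set D : Fin (r + 1) → R := fun j =>
    (A.submatrix σ ((Fin.cons l τ : Fin (r + 1) → Fin n) ∘ j.succAbove)).det with hD
  have hD0 : D 0 = (u : R) := by
    rw [hu, hD]
    simp only [Fin.succAbove_zero]
    congr 1
  refine ⟨fun t => -(↑u⁻¹ : R) * ((-1) ^ ((t : ℕ) + 1) * D t.succ), fun i => ?_⟩
  have h1 := h0 (Fin.cons i σ) (Fin.cons l τ)
  rw [Matrix.det_succ_row_zero, Fin.sum_univ_succ] at h1
  have h2 : ∀ j : Fin (r + 1),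
      ((A.submatrix (Fin.cons i σ : Fin (r + 1) → Fin m)
        (Fin.cons l τ : Fin (r + 1) → Fin n)).submatrix Fin.succ j.succAbove).det = D j := by
    intro j
    rw [hD]
    congr 1
  simp only [h2] at h1
  simp only [Matrix.submatrix_apply, Fin.cons_zero, Fin.cons_succ, Fin.val_zero, pow_zero,
    one_mul, Fin.val_succ] at h1
  rw [hD0] at h1
  have h3 : A i l = -(↑u⁻¹ : R) * ∑ x : Fin r, (-1) ^ ((x : ℕ) + 1) * A i (τ x) * D x.succ := by
    have : A i l * (u : R) = -∑ x : Fin r, (-1) ^ ((x : ℕ) + 1) * A i (τ x) * D x.succ := by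
      linear_combination h1
    calc A i l = A i l * (u : R) * (↑u⁻¹ : R) := by
          rw [mul_assoc, Units.mul_inv, mul_one]
      _ = _ := by rw [this]; ring
  rw [h3, Finset.mul_sum]
  refine Finset.sum_congr rfl fun t _ => ?_
  ring

/-- matrix form: `A = A_τ * C` -/
lemma exists_factor (A : Matrix (Fin m) (Fin n) R) (r : ℕ) (σ : Fin r → Fin m)
    (τ : Fin r → Fin n) (hu : IsUnit (A.submatrix σ τ).det) (h0 : minorIdeal A (r + 1) = ⊥) :
    ∃ C : Matrix (Fin r) (Fin n) R, A = A.submatrix id τ * C := by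
  choose c hc using exists_col_comb A r σ τ hu h0
  refine ⟨Matrix.of fun t l => c l t, ?_⟩
  ext i l
  rw [hc l i, Matrix.mul_apply]
  rfl

end Cols

section Split

variable {R : Type u} [CommRing R] {m n : ℕ}

lemma submatrix_id_eq_mul {r : ℕ} (A : Matrix (Fin m) (Fin n) R) (τ : Fin r → Fin n) :
    A.submatrix id τ = A * (1 : Matrix (Fin n) (Fin n) R).submatrix id τ := by
  have := Matrix.submatrix_mul A (1 : Matrix (Fin n) (Fin n) R) (id : Fin m → Fin m)
    (id : Fin n → Fin n) τ Function.bijective_id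
  rw [Matrix.mul_one] at this
  rw [this, Matrix.submatrix_id_id]

lemma submatrix_mulVec_mem_range {r : ℕ} (A : Matrix (Fin m) (Fin n) R) (τ : Fin r → Fin n)
    (w : Fin r → R) : (A.submatrix id τ).mulVec w ∈ LinearMap.range A.mulVecLin := by
  rw [submatrix_id_eq_mul, ← Matrix.mulVec_mulVec]
  exact ⟨_, rfl⟩

lemma submatrix_row_mulVec {r k : ℕ} (A : Matrix (Fin m) (Fin k) R) (σ : Fin r → Fin m)
    (w : Fin k → R) : (A.submatrix σ id).mulVec w = A.mulVec w ∘ σ := rfl

/-- If `A` has a unit `r`-minor and vanishing `(r+1)`-minors, its cokernel is projective. -/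
theorem projective_coker (A : Matrix (Fin m) (Fin n) R) (r : ℕ) (σ : Fin r → Fin m)
    (τ : Fin r → Fin n) (hu : IsUnit (A.submatrix σ τ).det) (h0 : minorIdeal A (r + 1) = ⊥) :
    Module.Projective R ((Fin m → R) ⧸ LinearMap.range A.mulVecLin) := by
  obtain ⟨C, hC⟩ := exists_factor A r σ τ hu h0
  set U := A.submatrix σ τ with hU
  set Aτ := A.submatrix id τ with hAτ
  let ρ : (Fin m → R) →ₗ[R] (Fin m → R) :=
    Aτ.mulVecLin ∘ₗ U⁻¹.mulVecLin ∘ₗ (LinearMap.funLeft R R σ)
  have hρ : ∀ v, ρ v = Aτ.mulVec (U⁻¹.mulVec (v ∘ σ)) := fun v => rfl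
  have ha : ∀ v, ρ v ∈ LinearMap.range A.mulVecLin := by
    intro v
    rw [hρ]
    exact submatrix_mulVec_mem_range A τ _
  have hb : ∀ v ∈ LinearMap.range A.mulVecLin, ρ v = v := by
    rintro _ ⟨x, rfl⟩
    rw [Matrix.mulVecLin_apply, hρ]
    have h1 : A.mulVec x = Aτ.mulVec (C.mulVec x) := by
      conv_lhs => rw [hC]
      rw [Matrix.mulVec_mulVec]
    have h2 : (A.mulVec x) ∘ σ = U.mulVec (C.mulVec x) := by
      rw [h1, ← submatrix_row_mulVec]
      rfl
    rw [h2, Matrix.mulVec_mulVec _ U⁻¹ U, Matrix.nonsing_inv_mul _ hu, Matrix.one_mulVec, ← h1]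
  let s : ((Fin m → R) ⧸ LinearMap.range A.mulVecLin) →ₗ[R] (Fin m → R) :=
    (LinearMap.range A.mulVecLin).liftQ (LinearMap.id - ρ) (by
      intro v hv
      rw [LinearMap.mem_ker, LinearMap.sub_apply, LinearMap.id_apply, hb v hv, sub_self])
  refine Module.Projective.of_split s (LinearMap.range A.mulVecLin).mkQ ?_
  ext v
  simp only [LinearMap.comp_apply, Submodule.mkQ_apply, LinearMap.id_apply, s,
    Submodule.liftQ_apply, LinearMap.sub_apply]
  rw [Submodule.Quotient.mk_sub, sub_eq_self, Submodule.Quotient.mk_eq_zero]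
  exact ha _

/-- Two composable matrices with `C * D = 0` and unit minors of complementary sizes are exact in
the middle. -/
theorem ker_le_range {a b c : ℕ} (C : Matrix (Fin a) (Fin b) R) (D : Matrix (Fin b) (Fin c) R)
    (hCD : C * D = 0) (r s : ℕ) (hrs : r + s = b) (ρ : Fin r → Fin a) (κ : Fin r → Fin b)
    (hC : IsUnit (C.submatrix ρ κ).det) (σ : Fin s → Fin b) (τ : Fin s → Fin c)
    (hD : IsUnit (D.submatrix σ τ).det) :
    LinearMap.ker C.mulVecLin ≤ LinearMap.range D.mulVecLin := by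
  classical
  set E : Matrix (Fin s) (Fin b) R := (1 : Matrix (Fin b) (Fin b) R).submatrix σ id with hE
  set W : Matrix (Fin r ⊕ Fin s) (Fin b) R := Matrix.fromRows (C.submatrix ρ id) E with hW
  set V : Matrix (Fin b) (Fin r ⊕ Fin s) R :=
    Matrix.fromCols ((1 : Matrix (Fin b) (Fin b) R).submatrix id κ) (D.submatrix id τ) with hV
  have hWV : W * V = Matrix.fromBlocks (C.submatrix ρ κ) 0
      (E * (1 : Matrix (Fin b) (Fin b) R).submatrix id κ) (D.submatrix σ τ) := by
    rw [hW, hV, Matrix.fromRows_mul_fromCols]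
    congr 1
    · rw [← Matrix.submatrix_mul _ _ _ _ _ Function.bijective_id, Matrix.mul_one]
    · rw [← Matrix.submatrix_mul _ _ _ _ _ Function.bijective_id, hCD]
      rfl
    · rw [hE, ← Matrix.submatrix_mul _ _ _ _ _ Function.bijective_id, Matrix.one_mul]
  have hdet : IsUnit (W * V).det := by
    rw [hWV, Matrix.det_fromBlocks_zero₁₂]
    exact hC.mul hD
  have h1 : W * (V * (W * V)⁻¹) = 1 := by
    rw [← Matrix.mul_assoc, Matrix.mul_nonsing_inv _ hdet]
  have hcard : Fintype.card (Fin r ⊕ Fin s) = Fintype.card (Fin b) := by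
    simp [hrs]
  have h2 : (V * (W * V)⁻¹) * W = 1 := (Matrix.mul_eq_one_comm_of_card_eq _ _ R hcard).mp h1
  have hinj : ∀ v : Fin b → R, W.mulVec v = 0 → v = 0 := by
    intro v hv
    have := congrArg (fun M => Matrix.mulVec M v) h2
    simp only [Matrix.one_mulVec] at this
    rw [← this, ← Matrix.mulVec_mulVec, hv, Matrix.mulVec_zero]
  intro v hv
  rw [LinearMap.mem_ker, Matrix.mulVecLin_apply] at hv
  set U := D.submatrix σ τ with hU
  set y := U⁻¹.mulVec (v ∘ σ) with hy
  have hv' : v - (D.submatrix id τ).mulVec y = 0 := by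
    apply hinj
    rw [hW, Matrix.fromRows_mulVec]
    have e1 : (C.submatrix ρ id).mulVec (v - (D.submatrix id τ).mulVec y) = 0 := by
      rw [submatrix_row_mulVec, Matrix.mulVec_sub, hv, submatrix_id_eq_mul, Matrix.mulVec_mulVec,
        ← Matrix.mul_assoc, hCD, Matrix.zero_mul, Matrix.zero_mulVec, sub_zero]
      rfl
    have e2 : E.mulVec (v - (D.submatrix id τ).mulVec y) = 0 := by
      rw [hE, submatrix_row_mulVec, Matrix.one_mulVec]
      have : ((D.submatrix id τ).mulVec y) ∘ σ = U.mulVec y := by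
        rw [← submatrix_row_mulVec]
        rfl
      ext i
      have h3 := congrFun this i
      simp only [Function.comp_apply, Pi.sub_apply, Pi.zero_apply] at h3 ⊢
      rw [h3, hy, Matrix.mulVec_mulVec, Matrix.mul_nonsing_inv _ hD, Matrix.one_mulVec]
      simp
    rw [e1, e2]
    ext i
    cases i <;> rfl
  rw [sub_eq_zero] at hv'
  rw [hv']
  exact submatrix_mulVec_mem_range D τ y

end Split

end Groth.Agent.Helper3.BE1
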