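import Mathlib
import Groth.Agent.Lib.Helper3.BE1
import Groth.Agent.Lib.Lead.Depth17

/-!
# Buchsbaum–Eisenbud, part 2: the local statement (helper3)
-/

set_option autoImplicit false

universe u

namespace Groth.Agent.Helper3.BE2

open Matrix CAlgX LocCoh IsLocalRing Groth.Agent.Lead.Depth Groth.Agent.Helper3.BE1

variable {S : Type u} [CommRing S] [IsLocalRing S] [IsNoetherianRing S]

/-- cokernel of a matrix -/
abbrev Cq {a b : ℕ} (M : Matrix (Fin a) (Fin b) S) : Type u :=
  (Fin a → S) ⧸ LinearMap.range M.mulVecLin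

/-- a free finite module has depth at least `depth S`. -/
lemma depth_le_of_projective (M : Type u) [AddCommGroup M] [Module S M] [Module.Finite S M]
    [Module.Projective S M] : LocCoh.depth S S ≤ LocCoh.depth S M := by
  haveI : Module.Free S M := Module.free_of_flat_of_isLocalRing
  rcases subsingleton_or_nontrivial M with h | h
  · rw [depth_eq_top_of_subsingleton M]; exact le_top
  · rw [depth_free M]

/-- the depth-lemma step -/
lemma depth_coker_step {a b c : ℕ} (M : Matrix (Fin a) (Fin b) S) (N : Matrix (Fin b) (Fin c) S)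
    (hMN : M * N = 0) (hex : LinearMap.ker M.mulVecLin ≤ LinearMap.range N.mulVecLin) :
    min (LocCoh.depth S S) (LocCoh.depth S (Cq N) - 1) ≤ LocCoh.depth S (Cq M) := by
  have hle : LinearMap.range N.mulVecLin ≤ LinearMap.ker M.mulVecLin := by
    rintro _ ⟨x, rfl⟩
    rw [LinearMap.mem_ker, Matrix.mulVecLin_apply, Matrix.mulVecLin_apply, Matrix.mulVec_mulVec,
      hMN, Matrix.zero_mulVec]
  let f : Cq N →ₗ[S] (Fin a → S) := (LinearMap.range N.mulVecLin).liftQ M.mulVecLin hle
  have hf : Function.Injective f := by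
    rw [← LinearMap.ker_eq_bot, Submodule.ker_liftQ_eq_bot _ _ _ hex]
  have hfg : Function.Exact f (LinearMap.range M.mulVecLin).mkQ := by
    rw [LinearMap.exact_iff, Submodule.ker_mkQ, Submodule.range_liftQ]
  have h := (idealDepth_shortExact (maximalIdeal S) (Cq N) (Fin a → S) (Cq M) f
    (LinearMap.range M.mulVecLin).mkQ hf (Submodule.mkQ_surjective _) hfg).2.1
  refine le_trans (min_le_min ?_ le_rfl) h
  exact depth_le_of_projective (Fin a → S)

variable (n : ℕ → ℕ) (B : ∀ i, Matrix (Fin (n i)) (Fin (n (i + 1))) S)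

/-- the depth chain -/
lemma depth_chain (e : ℕ) (hzero : ∀ i, e ≤ i → B i = 0) (hB : ∀ i, B i * B (i + 1) = 0)
    (hex : ∀ i, 1 ≤ i → i + 1 ≤ e →
      LinearMap.ker (B i).mulVecLin ≤ LinearMap.range (B (i + 1)).mulVecLin)
    (r : ℕ → ℕ) (d : ℕ) (hd : LocCoh.depth S S = d)
    (hunit : ∀ i, d ≤ i → minorIdeal (B i) (r i) = ⊤)
    (hvan : ∀ i, minorIdeal (B i) (r i + 1) = ⊥) :
    ∀ k j, 1 ≤ j → j + k = d → (j : ℕ∞) ≤ LocCoh.depth S (Cq (B j)) := by
  intro k
  induction k with
  | zero =>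
    intro j hj hjd
    have hjd' : j = d := by omega
    obtain ⟨σ, τ, hu⟩ := exists_isUnit_minor (B j) (r j) (hunit j (by omega))
    haveI := projective_coker (B j) (r j) σ τ hu (hvan j)
    refine le_trans ?_ (depth_le_of_projective (Cq (B j)))
    rw [hd, hjd']
  | succ k ih =>
    intro j hj hjd
    by_cases hje : j + 1 ≤ e
    · have h1 := depth_coker_step (B j) (B (j + 1)) (hB j) (hex j hj hje)
      have h2 := ih (j + 1) (by omega) (by omega)
      refine le_trans (le_min ?_ ?_) h1
      · rw [hd]; exact_mod_cast (by omega : j ≤ d)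
      · have : ((j : ℕ) : ℕ∞) = ((j + 1 : ℕ) : ℕ∞) - 1 := by
          have := ENat.natCast_sub (j + 1) 1
          simpa using this
        rw [this]
        exact tsub_le_tsub_right h2 1
    · have hz : B j = 0 := hzero j (by omega)
      have hr : LinearMap.range (B j).mulVecLin = ⊥ := by
        rw [hz]
        ext v
        simp
      haveI : Module.Projective S (Cq (B j)) :=
        Module.Projective.of_equiv (Submodule.quotEquivOfEqBot _ hr).symm
      refine le_trans ?_ (depth_le_of_projective (Cq (B j)))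
      rw [hd]; exact_mod_cast (by omega : j ≤ d)

/-- The local statement. -/
theorem local_main (e : ℕ) (hzero : ∀ i, e ≤ i → B i = 0) (hB : ∀ i, B i * B (i + 1) = 0)
    (hex : ∀ i, 1 ≤ i → i + 1 ≤ e →
      LinearMap.ker (B i).mulVecLin ≤ LinearMap.range (B (i + 1)).mulVecLin)
    (r : ℕ → ℕ) (h12 : r 0 + r 1 = n 1) (d : ℕ) (hd : LocCoh.depth S S = d)
    (hunit : ∀ i, d ≤ i → minorIdeal (B i) (r i) = ⊤)
    (hvan : ∀ i, minorIdeal (B i) (r i + 1) = ⊥)
    (z : Fin (n 1) → S) (hz : z ∈ LinearMap.ker (B 0).mulVecLin)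
    (hmz : ∀ a ∈ maximalIdeal S, a • z ∈ LinearMap.range (B 1).mulVecLin) :
    z ∈ LinearMap.range (B 1).mulVecLin := by
  rcases Nat.eq_zero_or_pos d with hd0 | hdpos
  · -- depth zero: everything splits
    obtain ⟨ρ, κ, hC⟩ := exists_isUnit_minor (B 0) (r 0) (hunit 0 (by omega))
    obtain ⟨σ, τ, hD⟩ := exists_isUnit_minor (B 1) (r 1) (hunit 1 (by omega))
    exact ker_le_range (B 0) (B 1) (hB 0) (r 0) (r 1) h12 ρ κ hC σ τ hD hz
  · -- positive depth
    have h1 := depth_chain n B e hzero hB hex r d hd hunit hvan (d - 1) 1 le_rfl (by omega)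
    by_contra hzr
    have hne : (Submodule.Quotient.mk z : Cq (B 1)) ≠ 0 := by
      rwa [Ne, Submodule.Quotient.mk_eq_zero]
    haveI : Nontrivial (Cq (B 1)) := ⟨⟨_, _, hne⟩⟩
    obtain ⟨rs, hlen, hreg, hmem⟩ := exists_of_le_idealDepth (maximalIdeal S) (Cq (B 1))
      (maximalIdeal_smul_top_ne_top _) 1 h1
    obtain ⟨x, rfl⟩ := List.length_eq_one_iff.mp hlen
    have hx : x ∈ maximalIdeal S := hmem x (by simp)
    have hxreg : IsSMulRegular (Cq (B 1)) x :=
      ((RingTheory.Sequence.isWeaklyRegular_cons_iff (Cq (B 1)) x []).mp hreg).1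
    apply hne
    refine hxreg ?_
    show x • (Submodule.Quotient.mk z : Cq (B 1)) = x • 0
    rw [smul_zero, ← Submodule.Quotient.mk_smul, Submodule.Quotient.mk_eq_zero]
    exact hmz x hx

end Groth.Agent.Helper3.BE2
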