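import Mathlib
import Groth.Prelude.Def_CAlg
import Groth.Prelude.Def_CAlgX

/-!
# Hilbert–Burch: exactness from depth two (helper3)
-/

set_option autoImplicit false

universe u

namespace Groth.Agent.Helper3.HilbertBurch

open Matrix

variable {R : Type u} [CommRing R]

/-- The ideal of maximal minors of a `(t+1) × t` matrix is generated by the `t+1` minors obtained
by deleting one row. -/
theorem minorIdeal_eq (t : ℕ) (Ψ : Matrix (Fin (t + 1)) (Fin t) R) :
    CAlgX.minorIdeal Ψ t =
      Ideal.span (Set.range fun i : Fin (t + 1) => (Ψ.submatrix i.succAbove id).det) := by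
  apply le_antisymm
  · unfold CAlgX.minorIdeal
    rw [Ideal.span_le]
    rintro _ ⟨⟨f, g⟩, rfl⟩
    simp only
    by_cases hg : Function.Injective g
    · by_cases hf : Function.Injective f
      · -- f misses some i
        have hns : ¬ Function.Surjective f := by
          intro hs
          have := Fintype.card_le_of_surjective f hs
          simp at this
        have : ∃ i, ∀ k, f k ≠ i := by
          by_contra hc
          push Not at hc
          exact hns hc
        obtain ⟨i, hi⟩ := this
        have hτ : ∀ k, ∃ z, i.succAbove z = f k := fun k => Fin.exists_succAbove_eq (hi k)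
        choose τ hτ' using hτ
        have hτinj : Function.Injective τ := by
          intro k l hkl
          apply hf
          rw [← hτ' k, ← hτ' l, hkl]
        have hτbij : Function.Bijective τ := Finite.injective_iff_bijective.mp hτinj
        have hgbij : Function.Bijective g := Finite.injective_iff_bijective.mp hg
        let eτ : Equiv.Perm (Fin t) := Equiv.ofBijective τ hτbij
        let eg : Equiv.Perm (Fin t) := Equiv.ofBijective g hgbij
        have h1 : Ψ.submatrix f g =
            ((Ψ.submatrix i.succAbove id).submatrix eτ id).submatrix id eg := by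
          ext k l
          simp only [submatrix_apply, id_eq]
          rw [show (eτ k) = τ k from rfl, hτ' k]
          rfl
        rw [h1, Matrix.det_permute', Matrix.det_permute]
        apply Ideal.mul_mem_left
        apply Ideal.mul_mem_left
        exact Ideal.subset_span ⟨i, rfl⟩
      · -- two equal rows
        rw [Function.Injective] at hf
        push Not at hf
        obtain ⟨k, l, hkl, hne⟩ := hf
        rw [Matrix.det_zero_of_row_eq hne]
        · exact zero_mem _
        · ext c
          simp [submatrix_apply, hkl]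
    · rw [Function.Injective] at hg
      push Not at hg
      obtain ⟨k, l, hkl, hne⟩ := hg
      rw [Matrix.det_zero_of_column_eq hne]
      · exact zero_mem _
      · intro c
        simp [submatrix_apply, hkl]
  · rw [Ideal.span_le]
    rintro _ ⟨i, rfl⟩
    exact Ideal.subset_span ⟨(i.succAbove, id), rfl⟩

/-- extract a regular pair from `2 ≤ idealDepth I R` -/
theorem exists_regular_pair (I : Ideal R) (h : 2 ≤ LocCoh.idealDepth I R) :
    ∃ x ∈ I, ∃ y ∈ I, IsSMulRegular R x ∧ IsSMulRegular (QuotSMulTop x R) y := by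
  unfold LocCoh.idealDepth at h
  split_ifs at h with htop
  · have hI : I = ⊤ := by
      have : (I • (⊤ : Submodule R R) : Submodule R R) = I := by
        rw [Ideal.smul_eq_mul, Ideal.mul_top]
      rw [this] at htop
      exact htop
    refine ⟨1, hI ▸ Submodule.mem_top, 1, hI ▸ Submodule.mem_top, ?_, ?_⟩
    · exact IsSMulRegular.one _
    · exact IsSMulRegular.one _
  · -- some list has length ≥ 2
    have : ∃ rs : List R, (RingTheory.Sequence.IsWeaklyRegular R rs ∧ ∀ r ∈ rs, r ∈ I) ∧
        2 ≤ rs.length := by
      by_contra hc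
      push Not at hc
      have hle : (⨆ (rs : List R) (_ : RingTheory.Sequence.IsWeaklyRegular R rs ∧ ∀ r ∈ rs, r ∈ I),
          (rs.length : ℕ∞)) ≤ 1 := by
        apply iSup_le
        intro rs
        apply iSup_le
        intro hrs
        have := hc rs hrs
        exact_mod_cast Nat.lt_succ_iff.mp this
      have : (2 : ℕ∞) ≤ 1 := h.trans hle
      exact absurd this (by norm_num)
    obtain ⟨rs, ⟨hreg, hmem⟩, hlen⟩ := this
    match rs, hreg, hmem, hlen with
    | x :: y :: rest, hreg, hmem, _ =>
      rw [RingTheory.Sequence.isWeaklyRegular_cons_iff] at hreg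
      obtain ⟨hx, hrest⟩ := hreg
      rw [RingTheory.Sequence.isWeaklyRegular_cons_iff] at hrest
      exact ⟨x, hmem x (by simp), y, hmem y (by simp), hx, hrest.1⟩

section Bord

variable (t : ℕ) (Ψ : Matrix (Fin (t + 1)) (Fin t) R)

/-- the matrix `Ψ` bordered by a first column `w` -/
def bord (w : Fin (t + 1) → R) : Matrix (Fin (t + 1)) (Fin (t + 1)) R :=
  Matrix.of fun j k => (Fin.cons (w j) (Ψ j) : Fin (t + 1) → R) k

omit [CommRing R] in
@[simp] lemma bord_zero (w : Fin (t + 1) → R) (j : Fin (t + 1)) : bord t Ψ w j 0 = w j := by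
  simp [bord]

omit [CommRing R] in
@[simp] lemma bord_succ (w : Fin (t + 1) → R) (j : Fin (t + 1)) (c : Fin t) :
    bord t Ψ w j c.succ = Ψ j c := by
  simp [bord]

omit [CommRing R] in
lemma bord_submatrix (w : Fin (t + 1) → R) (i : Fin (t + 1)) :
    (bord t Ψ w).submatrix i.succAbove Fin.succ = Ψ.submatrix i.succAbove id := by
  ext r c
  simp

lemma det_bord (w : Fin (t + 1) → R) :
    (bord t Ψ w).det =
      ∑ i : Fin (t + 1), (-1) ^ (i : ℕ) * w i * (Ψ.submatrix i.succAbove id).det := by
  rw [Matrix.det_succ_column_zero]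
  refine Finset.sum_congr rfl fun i _ => ?_
  rw [bord_zero, bord_submatrix]

lemma det_bord_col (c : Fin t) : (bord t Ψ (fun i => Ψ i c)).det = 0 := by
  apply Matrix.det_zero_of_column_eq (i := 0) (j := c.succ) (Fin.succ_ne_zero c).symm
  intro k
  simp

lemma det_bord_mulVec (v : Fin t → R) : (bord t Ψ (Ψ.mulVec v)).det = 0 := by
  rw [det_bord]
  have : ∀ i : Fin (t + 1), (-1 : R) ^ (i : ℕ) * Ψ.mulVec v i * (Ψ.submatrix i.succAbove id).det =
      ∑ c, v c * ((-1) ^ (i : ℕ) * Ψ i c * (Ψ.submatrix i.succAbove id).det) := by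
    intro i
    simp only [Matrix.mulVec, dotProduct, Finset.mul_sum, Finset.sum_mul]
    refine Finset.sum_congr rfl fun c _ => ?_
    ring
  simp_rw [this]
  rw [Finset.sum_comm]
  refine Finset.sum_eq_zero fun c _ => ?_
  rw [← Finset.mul_sum]
  have := det_bord t Ψ (fun i => Ψ i c)
  rw [det_bord_col] at this
  rw [← this, mul_zero]

lemma smul_mem_range (w : Fin (t + 1) → R) (h : (bord t Ψ w).det = 0) (l : Fin (t + 1)) :
    ((-1 : R) ^ (l : ℕ) * (Ψ.submatrix l.succAbove id).det) • w ∈
      LinearMap.range Ψ.mulVecLin := by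
  refine ⟨fun c => - Matrix.adjugate (bord t Ψ w) c.succ l, ?_⟩
  ext j
  have h1 := congrFun (congrFun (Matrix.mul_adjugate (bord t Ψ w)) j) l
  rw [h, zero_smul, Matrix.mul_apply, Fin.sum_univ_succ] at h1
  simp only [bord_zero, bord_succ, Matrix.zero_apply] at h1
  rw [Matrix.adjugate_fin_succ_eq_det_submatrix, Fin.succAbove_zero, bord_submatrix] at h1
  simp only [Matrix.mulVecLin_apply, Matrix.mulVec, dotProduct, Pi.smul_apply, smul_eq_mul,
    mul_neg, Finset.sum_neg_distrib]
  have h2 : ((l : ℕ) + ((0 : Fin (t + 1)) : ℕ)) = (l : ℕ) := by simp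
  rw [h2] at h1
  linear_combination -h1

end Bord

section Main

variable (t : ℕ) (Ψ : Matrix (Fin (t + 1)) (Fin t) R)

lemma smul_eq_zero_of_mulVec_eq_zero (v : Fin t → R) (hv : Ψ.mulVec v = 0) (z : R)
    (hz : z ∈ CAlgX.minorIdeal Ψ t) : z • v = 0 := by
  rw [minorIdeal_eq] at hz
  induction hz using Submodule.span_induction with
  | zero => simp
  | mem z h =>
    obtain ⟨i, rfl⟩ := h
    simp only
    have h1 : (Ψ.submatrix i.succAbove id).mulVec v = 0 := by
      ext r
      have := congrFun hv (i.succAbove r)
      simpa [Matrix.mulVec, dotProduct] using this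
    have h2 := congrArg (Matrix.mulVec (Matrix.adjugate (Ψ.submatrix i.succAbove id))) h1
    rw [Matrix.mulVec_mulVec, Matrix.adjugate_mul, Matrix.mulVec_zero, Matrix.smul_mulVec,
      Matrix.one_mulVec] at h2
    exact h2
  | add x y _ _ hx hy => rw [add_smul, hx, hy, add_zero]
  | smul a x _ hx => rw [smul_eq_mul, mul_smul, hx, smul_zero]

lemma smul_mem_range_of_mem (w : Fin (t + 1) → R) (h : (bord t Ψ w).det = 0) (z : R)
    (hz : z ∈ CAlgX.minorIdeal Ψ t) : z • w ∈ LinearMap.range Ψ.mulVecLin := by
  rw [minorIdeal_eq] at hz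
  induction hz using Submodule.span_induction with
  | zero => rw [zero_smul]; exact zero_mem _
  | mem z h' =>
    obtain ⟨i, rfl⟩ := h'
    simp only
    have := smul_mem_range t Ψ w h i
    have h2 := (LinearMap.range Ψ.mulVecLin).smul_mem ((-1 : R) ^ (i : ℕ)) this
    rw [smul_smul, ← mul_assoc, ← pow_add, ← two_mul, pow_mul] at h2
    simpa using h2
  | add x y _ _ hx hy => rw [add_smul]; exact add_mem hx hy
  | smul a x _ hx => rw [smul_eq_mul, mul_smul]; exact Submodule.smul_mem _ a hx

theorem main (hdepth : 2 ≤ LocCoh.idealDepth (CAlgX.minorIdeal Ψ t) R)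
    (a : R) (ha : a ∈ nonZeroDivisors R) :
    LinearMap.ker Ψ.mulVecLin = ⊥ ∧
      LinearMap.ker (Fintype.linearCombination R
          (fun i : Fin (t + 1) => a * ((-1 : R) ^ (i : ℕ) * (Ψ.submatrix i.succAbove id).det))) =
        LinearMap.range Ψ.mulVecLin ∧
      LinearMap.range (Fintype.linearCombination R
          (fun i : Fin (t + 1) => a * ((-1 : R) ^ (i : ℕ) * (Ψ.submatrix i.succAbove id).det))) =
        Ideal.span {a} * CAlgX.minorIdeal Ψ t := by
  obtain ⟨x, hxI, y, hyI, hxreg, hyreg⟩ := exists_regular_pair _ hdepth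
  have hinj : ∀ v : Fin t → R, Ψ.mulVec v = 0 → v = 0 := by
    intro v hv
    have := smul_eq_zero_of_mulVec_eq_zero t Ψ v hv x hxI
    ext c
    have hc := congrFun this c
    simp only [Pi.smul_apply, smul_eq_mul, Pi.zero_apply] at hc
    exact hxreg (by simpa using hc)
  have hlc : ∀ w : Fin (t + 1) → R, Fintype.linearCombination R
      (fun i : Fin (t + 1) => a * ((-1 : R) ^ (i : ℕ) * (Ψ.submatrix i.succAbove id).det)) w =
      a * (bord t Ψ w).det := by
    intro w
    rw [Fintype.linearCombination_apply, det_bord, Finset.mul_sum]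
    refine Finset.sum_congr rfl fun i _ => ?_
    simp only [smul_eq_mul]
    ring
  refine ⟨?_, ?_, ?_⟩
  · rw [LinearMap.ker_eq_bot']
    intro v hv
    exact hinj v hv
  · apply le_antisymm
    · intro w hw
      rw [LinearMap.mem_ker, hlc] at hw
      have hdet : (bord t Ψ w).det = 0 := by
        have := (mem_nonZeroDivisors_iff.mp ha).1 (bord t Ψ w).det
        apply this
        exact hw
      obtain ⟨vx, hvx⟩ := smul_mem_range_of_mem t Ψ w hdet x hxI
      obtain ⟨vy, hvy⟩ := smul_mem_range_of_mem t Ψ w hdet y hyI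
      rw [Matrix.mulVecLin_apply] at hvx hvy
      have h1 : Ψ.mulVec (y • vx - x • vy) = 0 := by
        rw [Matrix.mulVec_sub, Matrix.mulVec_smul, Matrix.mulVec_smul, hvx, hvy, smul_comm, sub_self]
      have h2 : y • vx = x • vy := sub_eq_zero.mp (hinj _ h1)
      -- divide vx by x
      have h3 : ∀ c, ∃ u : R, vx c = x * u := by
        intro c
        have hc : y * vx c = x * vy c := by
          have := congrFun h2 c
          simpa using this
        have h4 : y • (Submodule.Quotient.mk (vx c) : QuotSMulTop x R) = y • 0 := by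
          rw [smul_zero, ← Submodule.Quotient.mk_smul, Submodule.Quotient.mk_eq_zero, smul_eq_mul, hc]
          exact Submodule.smul_mem_pointwise_smul _ x ⊤ Submodule.mem_top
        have h5 := hyreg h4
        rw [Submodule.Quotient.mk_eq_zero] at h5
        obtain ⟨u, -, hu⟩ := (Submodule.mem_smul_pointwise_iff_exists _ _ _).mp h5
        exact ⟨u, by rw [← hu, smul_eq_mul]⟩
      choose u hu using h3
      refine ⟨u, ?_⟩
      rw [Matrix.mulVecLin_apply]
      have h6 : x • Ψ.mulVec u = x • w := by
        rw [← Matrix.mulVec_smul, ← hvx]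
        congr 1
        ext c
        simp [hu c]
      ext j
      have := congrFun h6 j
      simp only [Pi.smul_apply, smul_eq_mul] at this
      exact hxreg (by simpa using this)
    · rintro w ⟨v, rfl⟩
      rw [LinearMap.mem_ker, hlc, Matrix.mulVecLin_apply, det_bord_mulVec, mul_zero]
  · rw [Fintype.range_linearCombination, minorIdeal_eq, Ideal.span_mul_span]
    change Ideal.span _ = _
    apply le_antisymm
    · rw [Ideal.span_le]
      rintro _ ⟨i, rfl⟩
      simp only
      have : a * ((-1 : R) ^ (i : ℕ) * (Ψ.submatrix i.succAbove id).det) =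
          (-1 : R) ^ (i : ℕ) * (a * (Ψ.submatrix i.succAbove id).det) := by ring
      rw [this]
      apply Ideal.mul_mem_left
      apply Ideal.subset_span
      exact Set.mul_mem_mul (Set.mem_singleton a) ⟨i, rfl⟩
    · rw [Ideal.span_le]
      intro z hz
      obtain ⟨a', ha', _, ⟨i, rfl⟩, rfl⟩ := Set.mem_mul.mp hz
      rw [Set.mem_singleton_iff] at ha'
      subst ha'
      simp only
      have : a' * (Ψ.submatrix i.succAbove id).det =
          (-1 : R) ^ (i : ℕ) * (a' * ((-1 : R) ^ (i : ℕ) * (Ψ.submatrix i.succAbove id).det)) := by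
        have h1 : ((-1 : R) ^ (i : ℕ)) * ((-1 : R) ^ (i : ℕ)) = 1 := by
          rw [← pow_add, ← two_mul, pow_mul]; simp
        linear_combination (-(a' * (Ψ.submatrix i.succAbove id).det)) * h1
      rw [this]
      apply Ideal.mul_mem_left
      exact Ideal.subset_span ⟨i, rfl⟩

end Main

end Groth.Agent.Helper3.HilbertBurch
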