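import Mathlib
import Groth.Agent.Lib.Helper3.HilbertBurch

/-!
# Hilbert–Burch, forward direction: algebraic core (helper3)

Given an exact sequence `0 → R^r --φ--> R^{r+1} --f--> R` and a regular pair in the ideal `I = (f)`,
the signed maximal minors `m_i` of `φ` satisfy `m_i = b f_i` with `b` a unit.
-/

set_option autoImplicit false

universe u

namespace Groth.Agent.Helper3.HB2

open Matrix Groth.Agent.Helper3.HilbertBurch
open scoped Pointwise

variable {R : Type u} [CommRing R]

/-- signed maximal minors -/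
def sm (r : ℕ) (φ : Matrix (Fin (r + 1)) (Fin r) R) (i : Fin (r + 1)) : R :=
  (-1 : R) ^ (i : ℕ) * (φ.submatrix i.succAbove id).det

lemma lc_sm (r : ℕ) (φ : Matrix (Fin (r + 1)) (Fin r) R) (w : Fin (r + 1) → R) :
    Fintype.linearCombination R (sm r φ) w = (bord r φ w).det := by
  rw [Fintype.linearCombination_apply, det_bord]
  refine Finset.sum_congr rfl fun i _ => ?_
  simp only [sm, smul_eq_mul]
  ring

lemma lc_sm_mulVec (r : ℕ) (φ : Matrix (Fin (r + 1)) (Fin r) R) (v : Fin r → R) :
    Fintype.linearCombination R (sm r φ) (φ.mulVec v) = 0 := by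
  rw [lc_sm, det_bord_mulVec]

/-- `y` regular mod `x` implies `y` regular mod `x^n`. -/
lemma dvd_of_pow_dvd_mul {x y : R} (hx : IsSMulRegular R x)
    (hy : ∀ t : R, x ∣ y * t → x ∣ t) (n : ℕ) : ∀ t : R, x ^ n ∣ y * t → x ^ n ∣ t := by
  induction n with
  | zero => intro t _; simp
  | succ n ih =>
    intro t ht
    have h1 : x ∣ y * t := Dvd.dvd.trans (dvd_pow_self x (Nat.succ_ne_zero n)) ht
    obtain ⟨t', rfl⟩ := hy t h1
    obtain ⟨s, hs⟩ := ht
    have h2 : x ^ n ∣ y * t' := by
      refine ⟨s, ?_⟩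
      apply hx
      simp only [smul_eq_mul]
      rw [pow_succ] at hs
      linear_combination hs
    obtain ⟨u, hu⟩ := ih t' h2
    refine ⟨u, ?_⟩
    rw [hu, pow_succ]
    ring

lemma dvd_of_pow_dvd_pow_mul {x y : R} (hx : IsSMulRegular R x)
    (hy : ∀ t : R, x ∣ y * t → x ∣ t) (n k : ℕ) : ∀ t : R, x ^ n ∣ y ^ k * t → x ^ n ∣ t := by
  induction k with
  | zero => intro t ht; simpa using ht
  | succ k ih =>
    intro t ht
    apply ih
    apply dvd_of_pow_dvd_mul hx hy n
    rw [← mul_assoc, ← pow_succ']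
    exact ht

lemma dvd_of_quotSMulTop_regular {x y : R} (hy : IsSMulRegular (QuotSMulTop x R) y) (t : R)
    (h : x ∣ y * t) : x ∣ t := by
  have h0 : ∀ s : R, Submodule.Quotient.mk (p := x • (⊤ : Submodule R R)) s = 0 ↔ x ∣ s := by
    intro s
    rw [Submodule.Quotient.mk_eq_zero, Submodule.mem_smul_pointwise_iff_exists]
    constructor
    · rintro ⟨a, _, rfl⟩
      exact ⟨a, rfl⟩
    · rintro ⟨a, rfl⟩
      exact ⟨a, Submodule.mem_top, rfl⟩
  rw [← h0]
  apply hy
  simp only [smul_zero]
  have : y • (Submodule.Quotient.mk (p := x • (⊤ : Submodule R R)) t) =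
      Submodule.Quotient.mk (p := x • (⊤ : Submodule R R)) (y * t) := rfl
  rw [this, h0]
  exact h

section Core

variable (r : ℕ) (φ : Matrix (Fin (r + 1)) (Fin r) R) (f : Fin (r + 1) → R)
  (hex : LinearMap.range φ.mulVecLin = LinearMap.ker (Fintype.linearCombination R f))

include hex

lemma ker_le : ∀ w : Fin (r + 1) → R, Fintype.linearCombination R f w = 0 →
    Fintype.linearCombination R (sm r φ) w = 0 := by
  intro w hw
  have : w ∈ LinearMap.range φ.mulVecLin := by rw [hex]; exact hw
  obtain ⟨v, rfl⟩ := this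
  exact lc_sm_mulVec r φ v

lemma cross (w w' : Fin (r + 1) → R) :
    Fintype.linearCombination R f w * Fintype.linearCombination R (sm r φ) w' =
      Fintype.linearCombination R f w' * Fintype.linearCombination R (sm r φ) w := by
  have h := ker_le r φ f hex (Fintype.linearCombination R f w • w' -
    Fintype.linearCombination R f w' • w) (by
      rw [map_sub, map_smul, map_smul, smul_eq_mul, smul_eq_mul]; ring)
  rw [map_sub, map_smul, map_smul, smul_eq_mul, smul_eq_mul] at h
  linear_combination h

/-- the minors are a multiple of `f` -/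
lemma exists_mul (x y : R) (hxI : x ∈ Ideal.span (Set.range f)) (hyI : y ∈ Ideal.span (Set.range f))
    (hx : IsSMulRegular R x) (hy : ∀ t : R, x ∣ y * t → x ∣ t) :
    ∃ b : R, ∀ w, Fintype.linearCombination R (sm r φ) w = b * Fintype.linearCombination R f w := by
  have hrange : LinearMap.range (Fintype.linearCombination R f) = Ideal.span (Set.range f) :=
    Fintype.range_linearCombination R f
  obtain ⟨wx, hwx⟩ : x ∈ LinearMap.range (Fintype.linearCombination R f) := by rw [hrange]; exact hxI
  obtain ⟨wy, hwy⟩ : y ∈ LinearMap.range (Fintype.linearCombination R f) := by rw [hrange]; exact hyI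
  have h1 := cross r φ f hex wx wy
  rw [hwx, hwy] at h1
  obtain ⟨b, hb⟩ := hy (Fintype.linearCombination R (sm r φ) wx) ⟨_, h1.symm⟩
  refine ⟨b, fun w => ?_⟩
  have h2 := cross r φ f hex wx w
  rw [hwx, hb] at h2
  apply hx
  simp only [smul_eq_mul]
  linear_combination h2

/-- for `z ∈ I` regular, `b ∣ z^r` -/
lemma dvd_pow (b : R)
    (hb : ∀ w, Fintype.linearCombination R (sm r φ) w = b * Fintype.linearCombination R f w)
    (z : R) (hzI : z ∈ Ideal.span (Set.range f)) (hz : IsSMulRegular R z) : b ∣ z ^ r := by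
  classical
  have hrange : LinearMap.range (Fintype.linearCombination R f) = Ideal.span (Set.range f) :=
    Fintype.range_linearCombination R f
  obtain ⟨wz, hwz⟩ : z ∈ LinearMap.range (Fintype.linearCombination R f) := by rw [hrange]; exact hzI
  have hv : ∀ j : Fin (r + 1), ∃ v : Fin r → R, φ.mulVec v = z • (Pi.single j (1 : R)) - f j • wz := by
    intro j
    have : z • (Pi.single j (1 : R) : Fin (r + 1) → R) - f j • wz ∈ LinearMap.range φ.mulVecLin := by
      rw [hex, LinearMap.mem_ker, map_sub, map_smul, map_smul, hwz,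
        Fintype.linearCombination_apply_single]
      simp only [smul_eq_mul]
      ring
    obtain ⟨v, hv⟩ := this
    exact ⟨v, hv⟩
  choose v hv using hv
  let C : Matrix (Fin (r + 1)) (Fin (r + 1)) R :=
    Matrix.of fun k j => (Fin.cons (f j) (v j) : Fin (r + 1) → R) k
  have hC : bord r φ wz * C = z • (1 : Matrix (Fin (r + 1)) (Fin (r + 1)) R) := by
    ext i j
    rw [Matrix.mul_apply, Fin.sum_univ_succ]
    simp only [bord_zero, bord_succ, C, Matrix.of_apply, Fin.cons_zero, Fin.cons_succ]
    have h1 := congrFun (hv j) i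
    simp only [Matrix.mulVec, dotProduct, Pi.sub_apply, Pi.smul_apply, smul_eq_mul] at h1
    rw [h1, Matrix.smul_apply, Matrix.one_apply, Pi.single_apply]
    simp only [smul_eq_mul]
    by_cases hij : i = j
    · subst hij
      simp
      ring
    · simp [hij]
      ring
  have hdet := congrArg Matrix.det hC
  rw [Matrix.det_mul, Matrix.det_smul, Matrix.det_one, mul_one, Fintype.card_fin,
    ← lc_sm, hb, hwz] at hdet
  refine ⟨C.det, ?_⟩
  apply hz
  simp only [smul_eq_mul]
  rw [pow_succ] at hdet
  linear_combination -hdet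

/-- **Core**: `m = b f` with `b` a unit. -/
theorem exists_unit (x y : R) (hxI : x ∈ Ideal.span (Set.range f))
    (hyI : y ∈ Ideal.span (Set.range f))
    (hx : IsSMulRegular R x) (hy' : IsSMulRegular R y) (hy : ∀ t : R, x ∣ y * t → x ∣ t) :
    ∃ b : R, IsUnit b ∧ ∀ i, sm r φ i = b * f i := by
  classical
  obtain ⟨b, hb⟩ := exists_mul r φ f hex x y hxI hyI hx hy
  obtain ⟨c, hc⟩ := dvd_pow r φ f hex b hb x hxI hx
  obtain ⟨d, hd⟩ := dvd_pow r φ f hex b hb y hyI hy'
  have h1 : x ^ r ∣ y ^ r * c := ⟨d, by rw [hd, hc]; ring⟩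
  obtain ⟨c', hc'⟩ := dvd_of_pow_dvd_pow_mul hx hy r r c h1
  have hxr : IsSMulRegular R (x ^ r) := hx.pow r
  have h2 : b * c' = 1 := by
    apply hxr
    simp only [smul_eq_mul]
    rw [hc'] at hc
    linear_combination -hc
  refine ⟨b, IsUnit.of_mul_eq_one _ h2, fun i => ?_⟩
  have := hb (Pi.single i 1)
  rwa [Fintype.linearCombination_apply_single, Fintype.linearCombination_apply_single,
    one_smul, one_smul] at this

end Core

end Groth.Agent.Helper3.HB2
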