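import Mathlib
import Groth.Agent.Lib.Helper3.HB2

/-!
# Spreading out a Hilbert–Burch presentation from a localization at a prime (helper3)
-/

set_option autoImplicit false

universe u

namespace Groth.Agent.Helper3.SP1

open Matrix Groth.Agent.Helper3.HB2

section Gen

variable {A : Type*} [CommRing A]

theorem exists_smul_mem_of_fg {M : Type*} [AddCommGroup M] [Module A M] (p : Ideal A) [p.IsPrime]
    (N N' : Submodule A M) (hN : N.FG) (h : ∀ v ∈ N, ∃ t ∉ p, t • v ∈ N') :
    ∃ t ∉ p, ∀ v ∈ N, t • v ∈ N' := by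
  classical
  obtain ⟨s, rfl⟩ := hN
  choose! t ht1 ht2 using h
  refine ⟨∏ j ∈ s, t j, ?_, ?_⟩
  · intro hmem
    obtain ⟨j, hj, hjp⟩ := (Ideal.IsPrime.prod_mem_iff).mp hmem
    exact ht1 j (Submodule.subset_span hj) hjp
  · intro v hv
    induction hv using Submodule.span_induction with
    | mem x hx =>
      obtain ⟨c, hc⟩ := Finset.dvd_prod_of_mem t hx
      rw [hc, mul_comm, mul_smul]
      exact N'.smul_mem _ (ht2 x (Submodule.subset_span hx))
    | zero => rw [smul_zero]; exact N'.zero_mem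
    | add x y _ _ hx hy => rw [smul_add]; exact N'.add_mem hx hy
    | smul a x _ hx => rw [smul_comm]; exact N'.smul_mem _ hx

end Gen

section Hom

variable {R : Type u} {S : Type u} [CommRing R] [CommRing S] (f : R →+* S)

lemma sm_map (r : ℕ) (φ : Matrix (Fin (r + 1)) (Fin r) R) (i : Fin (r + 1)) :
    sm r (φ.map f) i = f (sm r φ i) := by
  simp only [sm, map_mul, map_pow, map_neg, map_one]
  congr 1
  rw [RingHom.map_det]
  rfl

lemma sm_map' (r : ℕ) (φ : Matrix (Fin (r + 1)) (Fin r) R) :
    sm r (φ.map f) = f ∘ sm r φ := funext fun i => sm_map f r φ i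

lemma map_mulVec' {m n : Type*} [Fintype n] (M : Matrix m n R) (v : n → R) :
    (M.map f).mulVec (f ∘ v) = f ∘ (M.mulVec v) := by
  ext i; exact (RingHom.map_mulVec f M v i).symm

lemma lc_map {n : Type*} [Fintype n] (c w : n → R) :
    Fintype.linearCombination S (f ∘ c) (f ∘ w) = f (Fintype.linearCombination R c w) := by
  simp [Fintype.linearCombination_apply, map_sum, map_mul]

end Hom

section Loc

variable {A : Type u} [CommRing A] (M : Submonoid A) (S : Type u) [CommRing S] [Algebra A S]
  [IsLocalization M S]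

lemma exists_vec {n : ℕ} (w : Fin n → S) :
    ∃ (b : M) (v : Fin n → A), algebraMap A S ∘ v = (algebraMap A S b) • w := by
  obtain ⟨b, hb⟩ := IsLocalization.exist_integer_multiples_of_finite M w
  choose v hv using hb
  refine ⟨b, v, ?_⟩
  ext i
  simp only [Function.comp_apply, Pi.smul_apply, smul_eq_mul]
  rw [hv i, Algebra.smul_def]

lemma vec_eq_zero {n : ℕ} (v : Fin n → A) (h : algebraMap A S ∘ v = 0) :
    ∃ b : M, (b : A) • v = 0 := by
  classical
  have h1 : ∀ i, ∃ m : M, (m : A) * v i = 0 := by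
    intro i
    have := congrFun h i
    simp only [Function.comp_apply, Pi.zero_apply] at this
    exact (IsLocalization.map_eq_zero_iff M S _).mp this
  choose m hm using h1
  refine ⟨∏ i, m i, ?_⟩
  ext i
  simp only [Pi.smul_apply, smul_eq_mul, Pi.zero_apply, Submonoid.coe_finsetProd]
  obtain ⟨c, hc⟩ := Finset.dvd_prod_of_mem (fun i => (m i : A)) (Finset.mem_univ i)
  rw [hc, mul_comm _ c, mul_assoc, hm i, mul_zero]

end Loc

section Spread

variable {A : Type u} [CommRing A] [IsNoetherianRing A] (p : Ideal A) [p.IsPrime]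
  (S : Type u) [CommRing S] [Algebra A S] [IsLocalization.AtPrime S p]
  (r : ℕ) (φ₀ : Matrix (Fin (r + 1)) (Fin r) A)

omit [IsNoetherianRing A] in
lemma comp_smul {B : Type u} [CommRing B] (f : A →+* B) {n : ℕ} (a : A) (v : Fin n → A) :
    f ∘ (a • v) = f a • (f ∘ v) := by
  ext i; simp

omit [IsNoetherianRing A] in
lemma isUnit_left {S' : Type u} [CommRing S'] [Algebra A S'] (g h' : A)
    [IsLocalization.Away (g * h') S'] : IsUnit (algebraMap A S' g) := by
  have h := IsLocalization.Away.algebraMap_isUnit (S := S') (g * h')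
  rw [map_mul] at h
  exact isUnit_of_mul_isUnit_left h

theorem spread_inj (hinj : Function.Injective (φ₀.map (algebraMap A S)).mulVecLin) :
    ∃ g ∉ p, ∀ (h' : A) (S' : Type u) [CommRing S'] [Algebra A S']
      [IsLocalization.Away (g * h') S'],
      Function.Injective (φ₀.map (algebraMap A S')).mulVecLin := by
  have h1 : ∀ v ∈ LinearMap.ker φ₀.mulVecLin,
      ∃ t ∉ p, t • v ∈ (⊥ : Submodule A (Fin r → A)) := by
    intro v hv
    rw [LinearMap.mem_ker, Matrix.mulVecLin_apply] at hv
    have h2 : (φ₀.map (algebraMap A S)).mulVecLin (algebraMap A S ∘ v) = 0 := by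
      rw [Matrix.mulVecLin_apply, map_mulVec', hv]
      ext i; simp
    have h3 : algebraMap A S ∘ v = 0 := hinj (h2.trans (map_zero _).symm)
    obtain ⟨b, hb⟩ := vec_eq_zero p.primeCompl S v h3
    exact ⟨b, b.2, by rw [hb]; exact Submodule.zero_mem _⟩
  obtain ⟨g, hg, hgK⟩ := exists_smul_mem_of_fg p _ _ (IsNoetherian.noetherian _) h1
  refine ⟨g, hg, ?_⟩
  intro h' S' _ _ _
  rw [injective_iff_map_eq_zero]
  intro w hw
  rw [Matrix.mulVecLin_apply] at hw
  obtain ⟨b, v, hv⟩ := exists_vec (Submonoid.powers (g * h')) S' w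
  have hub : IsUnit (algebraMap A S' b) := IsLocalization.map_units S' b
  have h4 : algebraMap A S' ∘ (φ₀.mulVec v) = 0 := by
    rw [← map_mulVec', hv, Matrix.mulVec_smul, hw, smul_zero]
  obtain ⟨b', hb'⟩ := vec_eq_zero (Submonoid.powers (g * h')) S' _ h4
  have hub' : IsUnit (algebraMap A S' b') := IsLocalization.map_units S' b'
  have h5 : (b' : A) • v ∈ LinearMap.ker φ₀.mulVecLin := by
    rw [LinearMap.mem_ker, map_smul, Matrix.mulVecLin_apply]; exact hb'
  have h6 := hgK _ h5
  rw [Submodule.mem_bot] at h6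
  have h7 := congrArg (fun x => algebraMap A S' ∘ x) h6
  simp only [comp_smul] at h7
  rw [hv] at h7
  have hug : IsUnit (algebraMap A S' g) := isUnit_left g h'
  have h8 : algebraMap A S' ∘ (0 : Fin r → A) = 0 := by ext i; simp
  rw [h8] at h7
  exact (hub.smul_eq_zero).mp ((hub'.smul_eq_zero).mp ((hug.smul_eq_zero).mp h7))

theorem spread_ex
    (hex : LinearMap.range (φ₀.map (algebraMap A S)).mulVecLin =
      LinearMap.ker (Fintype.linearCombination S (sm r (φ₀.map (algebraMap A S))))) :
    ∃ g ∉ p, ∀ (h' : A) (S' : Type u) [CommRing S'] [Algebra A S']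
      [IsLocalization.Away (g * h') S'],
      LinearMap.range (φ₀.map (algebraMap A S')).mulVecLin =
        LinearMap.ker (Fintype.linearCombination S' (sm r (φ₀.map (algebraMap A S')))) := by
  have h1 : ∀ z ∈ LinearMap.ker (Fintype.linearCombination A (sm r φ₀)),
      ∃ t ∉ p, t • z ∈ LinearMap.range φ₀.mulVecLin := by
    intro z hz
    rw [LinearMap.mem_ker] at hz
    have h2 : algebraMap A S ∘ z ∈ LinearMap.ker
        (Fintype.linearCombination S (sm r (φ₀.map (algebraMap A S)))) := by
      rw [LinearMap.mem_ker, sm_map', lc_map, hz, map_zero]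
    rw [← hex] at h2
    obtain ⟨wS, hwS⟩ := h2
    rw [Matrix.mulVecLin_apply] at hwS
    obtain ⟨b, v, hv⟩ := exists_vec p.primeCompl S wS
    have h3 : algebraMap A S ∘ (φ₀.mulVec v - (b : A) • z) = 0 := by
      have h4 : algebraMap A S ∘ (φ₀.mulVec v) = algebraMap A S b • (algebraMap A S ∘ z) := by
        rw [← map_mulVec', hv, Matrix.mulVec_smul, hwS]
      ext i
      have h5 := congrFun h4 i
      simp only [Function.comp_apply, Pi.sub_apply, Pi.smul_apply, smul_eq_mul, map_sub,
        map_mul, Pi.zero_apply] at h5 ⊢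
      rw [h5, sub_self]
    obtain ⟨b', hb'⟩ := vec_eq_zero p.primeCompl S _ h3
    refine ⟨(b' * b : p.primeCompl), (b' * b).2, (b' : A) • v, ?_⟩
    rw [Matrix.mulVecLin_apply, Matrix.mulVec_smul, Submonoid.coe_mul, mul_smul]
    rw [smul_sub, sub_eq_zero] at hb'
    exact hb'
  obtain ⟨g, hg, hgZ⟩ := exists_smul_mem_of_fg p _ _ (IsNoetherian.noetherian _) h1
  refine ⟨g, hg, ?_⟩
  intro h' S' _ _ _
  apply le_antisymm
  · rintro _ ⟨v, rfl⟩
    rw [LinearMap.mem_ker, Matrix.mulVecLin_apply, lc_sm_mulVec]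
  · intro w hw
    rw [LinearMap.mem_ker] at hw
    obtain ⟨b, z, hz⟩ := exists_vec (Submonoid.powers (g * h')) S' w
    have hub : IsUnit (algebraMap A S' b) := IsLocalization.map_units S' b
    have h2 : algebraMap A S' (Fintype.linearCombination A (sm r φ₀) z) = 0 := by
      rw [← lc_map, ← sm_map', hz, map_smul, hw, smul_zero]
    obtain ⟨b', hb'⟩ := (IsLocalization.map_eq_zero_iff (Submonoid.powers (g * h')) S' _).mp h2
    have hub' : IsUnit (algebraMap A S' b') := IsLocalization.map_units S' b'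
    have h3 : (b' : A) • z ∈ LinearMap.ker (Fintype.linearCombination A (sm r φ₀)) := by
      rw [LinearMap.mem_ker, map_smul, smul_eq_mul]; exact hb'
    obtain ⟨v, hv⟩ := hgZ _ h3
    rw [Matrix.mulVecLin_apply] at hv
    have h4 := congrArg (fun x => algebraMap A S' ∘ x) hv
    simp only [comp_smul, ← map_mulVec'] at h4
    rw [hz] at h4
    have hug : IsUnit (algebraMap A S' g) := isUnit_left g h'
    obtain ⟨u, hu⟩ := hug.mul (hub'.mul hub)
    refine ⟨(↑u⁻¹ : S') • (algebraMap A S' ∘ v), ?_⟩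
    rw [Matrix.mulVecLin_apply, Matrix.mulVec_smul, h4, smul_smul, smul_smul, smul_smul]
    have h5 : (↑u⁻¹ : S') * algebraMap A S' g * algebraMap A S' b' * algebraMap A S' b = 1 := by
      rw [mul_assoc, mul_assoc, ← hu]; exact u.inv_mul
    rw [h5, one_smul]

end Spread

end Groth.Agent.Helper3.SP1
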