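import Mathlib
import Groth.Agent.Lib.Helper3.BE2
import Groth.Agent.Lib.Helper3.SP1
import Groth.Agent.Lib.Lead.Depth17

/-!
# Buchsbaum–Eisenbud, part 3: the global statement (⇐) (helper3)
-/

set_option autoImplicit false

universe u

namespace Groth.Agent.Helper3.BE3

open Matrix CAlgX LocCoh IsLocalRing Groth.Agent.Lead.Depth Groth.Agent.Helper3.BE1
  Groth.Agent.Helper3.BE2 Groth.Agent.Helper3.SP1

section Loc

variable {R : Type u} [CommRing R] (P : Ideal R) [P.IsPrime]

local notation "S" => Localization.AtPrime P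
local notation "f" => algebraMap R (Localization.AtPrime P)

lemma comp_smul' {b : ℕ} (a : R) (v : Fin b → R) : f ∘ (a • v) = f a • (f ∘ v) := by
  ext i; simp

/-- descending membership in a range along the localization -/
lemma exists_smul_mem_range {b c : ℕ} (A' : Matrix (Fin b) (Fin c) R) (z : Fin b → R)
    (h : f ∘ z ∈ LinearMap.range (A'.map f).mulVecLin) :
    ∃ t : P.primeCompl, (t : R) • z ∈ LinearMap.range A'.mulVecLin := by
  obtain ⟨v, hv⟩ := h
  rw [Matrix.mulVecLin_apply] at hv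
  obtain ⟨b₀, v₀, hv₀⟩ := exists_vec P.primeCompl S v
  have h1 : f ∘ (A'.mulVec v₀ - (b₀ : R) • z) = 0 := by
    have : f ∘ (A'.mulVec v₀) = f b₀ • (f ∘ z) := by
      rw [← map_mulVec', hv₀, Matrix.mulVec_smul, hv]
    ext i
    have h2 := congrFun this i
    simp only [Function.comp_apply, Pi.smul_apply, smul_eq_mul, Pi.sub_apply, map_sub, map_mul,
      Pi.zero_apply] at h2 ⊢
    rw [h2, sub_self]
  obtain ⟨t, ht⟩ := vec_eq_zero P.primeCompl S _ h1
  refine ⟨t * b₀, ?_⟩
  rw [smul_sub, sub_eq_zero] at ht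
  refine ⟨(t : R) • v₀, ?_⟩
  rw [Matrix.mulVecLin_apply, Matrix.mulVec_smul, ht, Submonoid.coe_mul, mul_smul]

lemma isUnit_map (t : P.primeCompl) : IsUnit (f (t : R)) :=
  IsLocalization.map_units S t

/-- ascending: membership in range maps to membership -/
lemma map_mem_range {b c : ℕ} (A' : Matrix (Fin b) (Fin c) R) (z : Fin b → R)
    (h : z ∈ LinearMap.range A'.mulVecLin) :
    f ∘ z ∈ LinearMap.range (A'.map f).mulVecLin := by
  obtain ⟨w, rfl⟩ := h
  exact ⟨f ∘ w, by rw [Matrix.mulVecLin_apply, Matrix.mulVecLin_apply, map_mulVec']⟩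

/-- exactness transfers to the localization -/
lemma ker_le_range_map {a b c : ℕ} (A : Matrix (Fin a) (Fin b) R) (A' : Matrix (Fin b) (Fin c) R)
    (h : LinearMap.ker A.mulVecLin ≤ LinearMap.range A'.mulVecLin) :
    LinearMap.ker (A.map f).mulVecLin ≤ LinearMap.range (A'.map f).mulVecLin := by
  intro v hv
  rw [LinearMap.mem_ker, Matrix.mulVecLin_apply] at hv
  obtain ⟨b₀, v₀, hv₀⟩ := exists_vec P.primeCompl S v
  have h1 : f ∘ (A.mulVec v₀) = 0 := by
    rw [← map_mulVec', hv₀, Matrix.mulVec_smul, hv, smul_zero]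
  obtain ⟨t, ht⟩ := vec_eq_zero P.primeCompl S _ h1
  have h2 : (t : R) • v₀ ∈ LinearMap.ker A.mulVecLin := by
    rw [LinearMap.mem_ker, Matrix.mulVecLin_apply, Matrix.mulVec_smul, ht]
  have h3 := map_mem_range P A' _ (h h2)
  rw [comp_smul', hv₀, smul_smul] at h3
  obtain ⟨u, hu⟩ := (isUnit_map P t).mul (isUnit_map P b₀)
  rw [← hu] at h3
  have := (LinearMap.range (A'.map f).mulVecLin).smul_mem (↑u⁻¹ : S) h3
  rwa [smul_smul, Units.inv_mul, one_smul] at this

end Loc

section Global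

variable {R : Type u} [CommRing R] [IsNoetherianRing R]
  (n : ℕ → ℕ) (A : ∀ i, Matrix (Fin (n i)) (Fin (n (i + 1))) R)

/-- exactness at the first spot -/
theorem spot1 (e : ℕ) (hzero : ∀ i, e ≤ i → A i = 0) (hA : ∀ i, A i * A (i + 1) = 0)
    (hex : ∀ i, 1 ≤ i → i + 1 ≤ e →
      LinearMap.ker (A i).mulVecLin ≤ LinearMap.range (A (i + 1)).mulVecLin)
    (r : ℕ → ℕ) (h12 : r 0 + r 1 = n 1)
    (hvan : ∀ i, minorIdeal (A i) (r i + 1) = ⊥)
    (hdep : ∀ i, minorIdeal (A i) (r i) = ⊤ ∨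
      ((i + 1 : ℕ) : ℕ∞) ≤ idealDepth (minorIdeal (A i) (r i)) R) :
    LinearMap.ker (A 0).mulVecLin ≤ LinearMap.range (A 1).mulVecLin := by
  by_contra hcon
  obtain ⟨z₀, hz₀, hz₀'⟩ := SetLike.not_le_iff_exists.mp hcon
  -- the module K
  set N := LinearMap.range (A 1).mulVecLin with hN
  set K : Submodule R ((Fin (n 1) → R) ⧸ N) := (LinearMap.ker (A 0).mulVecLin).map N.mkQ with hK
  haveI : Nontrivial K := by
    refine ⟨⟨⟨N.mkQ z₀, Submodule.mem_map_of_mem hz₀⟩, 0, ?_⟩⟩
    intro h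
    have := congrArg Subtype.val h
    simp only [Submodule.mkQ_apply, ZeroMemClass.coe_zero, Submodule.Quotient.mk_eq_zero] at this
    exact hz₀' this
  obtain ⟨P, hP⟩ := associatedPrimes.nonempty R K
  obtain ⟨hPprime, ⟨y, hy⟩, hPy⟩ := (isAssociatedPrime_iff (R := R) (M := K)).mp hP
  obtain ⟨z, hz, rfl⟩ := (Submodule.mem_map).mp hy
  have hPz : ∀ a : R, a ∈ P ↔ a • z ∈ N := by
    intro a
    rw [hPy, Submodule.mem_colon_singleton, Submodule.mem_bot]
    rw [← Subtype.coe_inj]
    simp only [SetLike.val_smul, Submodule.mkQ_apply, ZeroMemClass.coe_zero]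
    rw [← Submodule.Quotient.mk_smul, Submodule.Quotient.mk_eq_zero]
  haveI := hPprime
  -- localize
  set f := algebraMap R (Localization.AtPrime P) with hf
  set B : ∀ i, Matrix (Fin (n i)) (Fin (n (i + 1))) (Localization.AtPrime P) :=
    fun i => (A i).map f with hBdef
  have hdne : LocCoh.depth (Localization.AtPrime P) (Localization.AtPrime P) ≠ ⊤ :=
    depth_ne_top (Localization.AtPrime P)
  obtain ⟨d, hd⟩ := ENat.ne_top_iff_exists.mp hdne
  have hunit : ∀ i, d ≤ i → minorIdeal (B i) (r i) = ⊤ := by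
    intro i hi
    rw [hBdef]
    simp only
    rw [minorIdeal_map]
    rcases hdep i with h | h
    · rw [h, Ideal.map_top]
    · have hnot : ¬ minorIdeal (A i) (r i) ≤ P := by
        intro hle
        have h1 := idealDepth_self_le_depth_localization (minorIdeal (A i) (r i)) P hle
        rw [← hd] at h1
        have h2 := h.trans h1
        have : i + 1 ≤ d := by exact_mod_cast h2
        omega
      obtain ⟨x, hx, hxP⟩ := SetLike.not_le_iff_exists.mp hnot
      exact Ideal.eq_top_of_isUnit_mem _ (Ideal.mem_map_of_mem _ hx)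
        (IsLocalization.map_units (Localization.AtPrime P) (⟨x, hxP⟩ : P.primeCompl))
  have hvanB : ∀ i, minorIdeal (B i) (r i + 1) = ⊥ := by
    intro i
    rw [hBdef]
    simp only
    rw [minorIdeal_map, hvan i, Ideal.map_bot]
  have hzB : ∀ i, e ≤ i → B i = 0 := by
    intro i hi
    rw [hBdef]
    simp only
    rw [hzero i hi, Matrix.map_zero _ (map_zero f)]
  have hBB : ∀ i, B i * B (i + 1) = 0 := by
    intro i
    rw [hBdef]
    simp only
    rw [← Matrix.map_mul, hA i, Matrix.map_zero _ (map_zero f)]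
  have hexB : ∀ i, 1 ≤ i → i + 1 ≤ e →
      LinearMap.ker (B i).mulVecLin ≤ LinearMap.range (B (i + 1)).mulVecLin :=
    fun i hi hie => ker_le_range_map P (A i) (A (i + 1)) (hex i hi hie)
  have hzker : f ∘ z ∈ LinearMap.ker (B 0).mulVecLin := by
    rw [LinearMap.mem_ker, Matrix.mulVecLin_apply, hBdef]
    simp only
    rw [map_mulVec']
    rw [LinearMap.mem_ker, Matrix.mulVecLin_apply] at hz
    rw [hz]
    ext i
    simp
  have hmz : ∀ a ∈ maximalIdeal (Localization.AtPrime P),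
      a • (f ∘ z) ∈ LinearMap.range (B 1).mulVecLin := by
    intro a' ha'
    obtain ⟨a, s, rfl⟩ := IsLocalization.exists_mk'_eq P.primeCompl a'
    rw [IsLocalization.AtPrime.mk'_mem_maximal_iff (Localization.AtPrime P) P] at ha'
    have h1 := map_mem_range P (A 1) _ ((hPz a).mp ha')
    rw [comp_smul'] at h1
    obtain ⟨u, hu⟩ := isUnit_map P s
    have h2 : IsLocalization.mk' (Localization.AtPrime P) a s = (↑u⁻¹ : Localization.AtPrime P) * f a := by
      rw [IsLocalization.mk'_eq_iff_eq_mul, mul_assoc, mul_comm (f a), ← mul_assoc, ← hu,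
        Units.inv_mul, one_mul]
    rw [h2, mul_smul]
    exact (LinearMap.range (B 1).mulVecLin).smul_mem _ h1
  have hfin := local_main n B e hzB hBB hexB r h12 d hd.symm hunit hvanB (f ∘ z) hzker hmz
  obtain ⟨t, ht⟩ := exists_smul_mem_range P (A 1) z hfin
  exact t.2 ((hPz t).mpr ht)

/-- **Buchsbaum–Eisenbud (⇐)**, internal form. -/
theorem main_aux : ∀ (e : ℕ) (n : ℕ → ℕ) (A : ∀ i, Matrix (Fin (n i)) (Fin (n (i + 1))) R)
    (r : ℕ → ℕ), (∀ i, e ≤ i → A i = 0) → (∀ i, A i * A (i + 1) = 0) →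
    (∀ i, i + 1 ≤ e → r i + r (i + 1) = n (i + 1)) →
    (∀ i, minorIdeal (A i) (r i + 1) = ⊥) →
    (∀ i, minorIdeal (A i) (r i) = ⊤ ∨
      ((i + 1 : ℕ) : ℕ∞) ≤ idealDepth (minorIdeal (A i) (r i)) R) →
    ∀ i, i + 1 ≤ e → LinearMap.ker (A i).mulVecLin ≤ LinearMap.range (A (i + 1)).mulVecLin := by
  intro e
  induction e with
  | zero => intro n A r _ _ _ _ _ i hi; omega
  | succ e ih =>
    intro n A r hzero hA hrk hvan hdep
    have hsh := ih (fun t => n (t + 1)) (fun i => A (i + 1)) (fun i => r (i + 1))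
      (fun i hi => hzero (i + 1) (by omega)) (fun i => hA (i + 1))
      (fun i hi => hrk (i + 1) (by omega)) (fun i => hvan (i + 1))
      (fun i => by
        rcases hdep (i + 1) with h | h
        · exact Or.inl h
        · refine Or.inr (le_trans ?_ h)
          exact_mod_cast (by omega : i + 1 ≤ i + 1 + 1))
    intro i hi
    rcases Nat.eq_zero_or_pos i with rfl | hipos
    · refine spot1 n A (e + 1) hzero hA ?_ r (hrk 0 (by omega)) hvan hdep
      intro i hi1 hie
      obtain ⟨i', rfl⟩ : ∃ i', i = i' + 1 := ⟨i - 1, by omega⟩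
      exact hsh i' (by omega)
    · obtain ⟨i', rfl⟩ : ∃ i', i = i' + 1 := ⟨i - 1, by omega⟩
      exact hsh i' (by omega)

end Global

end Groth.Agent.Helper3.BE3
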