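import Mathlib
import Groth.Agent.Lib.Helper3.BE3

/-!
# Buchsbaum–Eisenbud, part 4: statement form (⇐) (helper3)
-/

set_option autoImplicit false

universe u

namespace Groth.Agent.Helper3.BE4

open Matrix CAlgX LocCoh Groth.Agent.Lead.Depth Groth.Agent.Helper3.BE1
  Groth.Agent.Helper3.BE3

section Rank

variable {R : Type u} [CommRing R] {m n : ℕ}

lemma minorIdeal_eq_bot_of_card_lt (A : Matrix (Fin m) (Fin n) R) (r : ℕ) (hr : m < r) :
    minorIdeal A r = ⊥ := by
  rw [minorIdeal_eq_bot_iff]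
  intro f g
  obtain ⟨i, j, hij, hfij⟩ := Fintype.exists_ne_map_eq_of_card_lt f (by simpa using hr)
  exact Matrix.det_zero_of_row_eq hij (by ext c; simp [Matrix.submatrix_apply, hfij])

lemma bddAbove_minor (A : Matrix (Fin m) (Fin n) R) : BddAbove {r : ℕ | minorIdeal A r ≠ ⊥} := by
  refine ⟨m, fun r hr => ?_⟩
  by_contra h
  exact hr (minorIdeal_eq_bot_of_card_lt A r (by omega))

lemma minorIdeal_rank_succ (A : Matrix (Fin m) (Fin n) R) :
    minorIdeal A (matrixRank A + 1) = ⊥ := by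
  by_contra h
  have := le_csSup (bddAbove_minor A) (show matrixRank A + 1 ∈ {r : ℕ | minorIdeal A r ≠ ⊥} from h)
  unfold matrixRank at this h
  omega

end Rank

section Main

variable {R : Type u} [CommRing R] [IsNoetherianRing R]

lemma alt_sum (e : ℕ) (n : ℕ → ℕ) (j : ℕ) (hj : j + 1 ≤ e) :
    ∑ t ∈ Finset.Icc j e, (-1 : ℤ) ^ (t - j) * (n t : ℤ) =
      (n j : ℤ) - ∑ t ∈ Finset.Icc (j + 1) e, (-1 : ℤ) ^ (t - (j + 1)) * (n t : ℤ) := by
  have h1 : Finset.Icc j e = insert j (Finset.Icc (j + 1) e) := by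
    ext t
    simp only [Finset.mem_Icc, Finset.mem_insert]
    omega
  rw [h1, Finset.sum_insert (by simp)]
  simp only [Nat.sub_self, pow_zero, one_mul]
  rw [sub_eq_add_neg, ← Finset.sum_neg_distrib]
  congr 1
  refine Finset.sum_congr rfl fun t ht => ?_
  rw [Finset.mem_Icc] at ht
  have : t - j = (t - (j + 1)) + 1 := by omega
  rw [this, pow_succ]
  ring

theorem main19962 (e : ℕ) (he : 1 ≤ e) (n : ℕ → ℕ)
    (A : (i : ℕ) → Matrix (Fin (n i)) (Fin (n (i + 1))) R)
    (hA : ∀ i, i + 2 ≤ e → A i * A (i + 1) = 0)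
    (hrank : ∀ j, 1 ≤ j → j ≤ e →
      (CAlgX.matrixRank (A (j - 1)) : ℤ) = ∑ t ∈ Finset.Icc j e, (-1 : ℤ) ^ (t - j) * (n t : ℤ))
    (hdet : ∀ j, 1 ≤ j → j ≤ e →
      CAlgX.detIdeal (A (j - 1)) = ⊤ ∨
        ∃ rs : List R, rs.length = j ∧ (∀ r ∈ rs, r ∈ CAlgX.detIdeal (A (j - 1))) ∧
          RingTheory.Sequence.IsRegular R rs) :
    LinearMap.ker (A (e - 1)).mulVecLin = ⊥ ∧
      ∀ i, i + 2 ≤ e → LinearMap.ker (A i).mulVecLin = LinearMap.range (A (i + 1)).mulVecLin := by
  obtain ⟨e', rfl⟩ : ∃ e', e = e' + 1 := ⟨e - 1, by omega⟩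
  show LinearMap.ker (A e').mulVecLin = ⊥ ∧ _
  set e := e' + 1 with he'
  set A' : (i : ℕ) → Matrix (Fin (n i)) (Fin (n (i + 1))) R :=
    fun i => if i < e then A i else 0 with hA'
  set ρ : ℕ → ℕ := fun i => if i < e then matrixRank (A i) else 0 with hρ
  have hA'pos : ∀ i, i < e → A' i = A i := fun i hi => by rw [hA']; simp only [if_pos hi]
  have hA'neg : ∀ i, e ≤ i → A' i = 0 := fun i hi => by
    rw [hA']; simp only [if_neg (not_lt.mpr hi)]
  have hρpos : ∀ i, i < e → ρ i = matrixRank (A i) := fun i hi => by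
    rw [hρ]; simp only [if_pos hi]
  have hρneg : ∀ i, e ≤ i → ρ i = 0 := fun i hi => by rw [hρ]; simp only [if_neg (not_lt.mpr hi)]
  have hC : ∀ i, A' i * A' (i + 1) = 0 := by
    intro i
    by_cases hi : i + 2 ≤ e
    · rw [hA'pos i (by omega), hA'pos (i + 1) (by omega), hA i hi]
    · rw [hA'neg (i + 1) (by omega), Matrix.mul_zero]
  have hrk : ∀ i, i + 1 ≤ e → ρ i + ρ (i + 1) = n (i + 1) := by
    intro i hi
    have h1 : (matrixRank (A i) : ℤ) = _ := hrank (i + 1) (by omega) hi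
    rw [hρpos i (by omega)]
    by_cases hi2 : i + 2 ≤ e
    · have h2 : (matrixRank (A (i + 1)) : ℤ) = _ := hrank (i + 2) (by omega) hi2
      rw [hρpos (i + 1) (by omega)]
      rw [alt_sum e n (i + 1) (by omega)] at h1
      have : ((matrixRank (A i) + matrixRank (A (i + 1)) : ℕ) : ℤ) = (n (i + 1) : ℤ) := by
        push_cast
        rw [h1, h2]
        ring
      exact_mod_cast this
    · have hie : i + 1 = e := by omega
      rw [hρneg (i + 1) (by omega), add_zero]
      have : Finset.Icc (i + 1) e = {i + 1} := by rw [hie]; simp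
      rw [this, Finset.sum_singleton] at h1
      simp only [Nat.sub_self, pow_zero, one_mul] at h1
      exact_mod_cast h1
  have hvan : ∀ i, minorIdeal (A' i) (ρ i + 1) = ⊥ := by
    intro i
    by_cases hi : i < e
    · rw [hA'pos i hi, hρpos i hi]
      exact minorIdeal_rank_succ (A i)
    · rw [hA'neg i (by omega)]
      exact minorIdeal_zero_matrix _ (by omega)
  have hdep : ∀ i, minorIdeal (A' i) (ρ i) = ⊤ ∨
      ((i + 1 : ℕ) : ℕ∞) ≤ idealDepth (minorIdeal (A' i) (ρ i)) R := by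
    intro i
    by_cases hi : i < e
    · rw [hA'pos i hi, hρpos i hi]
      have h1 : detIdeal (A i) = ⊤ ∨ ∃ rs : List R, rs.length = i + 1 ∧
          (∀ r ∈ rs, r ∈ detIdeal (A i)) ∧ RingTheory.Sequence.IsRegular R rs :=
        hdet (i + 1) (by omega) (by omega)
      rcases h1 with h | ⟨rs, hlen, hmem, hreg⟩
      · exact Or.inl h
      · refine Or.inr ?_
        have h2 := le_idealDepth_of_isWeaklyRegular (minorIdeal (A i) (matrixRank (A i))) R rs
          hreg.toIsWeaklyRegular hmem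
        rw [hlen] at h2
        exact h2
    · rw [hρneg i (by omega)]
      exact Or.inl (minorIdeal_zero _)
  have hmain := main_aux e n A' ρ hA'neg hC hrk hvan hdep
  refine ⟨?_, ?_⟩
  · have h1 := hmain e' (by omega)
    rw [hA'pos e' (by omega), hA'neg (e' + 1) le_rfl] at h1
    rw [eq_bot_iff]
    refine h1.trans ?_
    rintro _ ⟨x, rfl⟩
    simp
  · intro i hi
    apply le_antisymm
    · have h1 := hmain i (by omega)
      rwa [hA'pos i (by omega), hA'pos (i + 1) (by omega)] at h1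
    · rintro _ ⟨x, rfl⟩
      rw [LinearMap.mem_ker, Matrix.mulVecLin_apply, Matrix.mulVecLin_apply, Matrix.mulVec_mulVec,
        hA i hi, Matrix.zero_mulVec]

end Main

end Groth.Agent.Helper3.BE4
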