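import Mathlib
import Groth.Agent.Lib.Helper3.BE1

/-!
# Buchsbaum–Eisenbud, part 5: weak Cauchy–Binet (helper3)
-/

set_option autoImplicit false

universe u

namespace Groth.Agent.Helper3.BE5

open Matrix CAlgX Groth.Agent.Helper3.BE1

variable {R : Type u} [CommRing R]

/-- expansion of a minor of a product along rows -/
lemma det_mul_submatrix {l m n : Type} [Fintype m] [DecidableEq m]
    (X : Matrix l m R) (Y : Matrix m n R) (r : ℕ) (f : Fin r → l) (g : Fin r → n) :
    ((X * Y).submatrix f g).det =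
      ∑ h : Fin r → m, (∏ i, X (f i) (h i)) * (Y.submatrix h g).det := by
  have key : ((X * Y).submatrix f g) =
      (fun i => ∑ k, X (f i) k • (fun j => Y k (g j)) : Fin r → Fin r → R) := by
    ext i j
    simp [Matrix.mul_apply, Matrix.submatrix_apply]
  rw [key]
  change (Matrix.detRowAlternating : (Fin r → R) [⋀^Fin r]→ₗ[R] R).toMultilinearMap
    (fun i => ∑ k, X (f i) k • (fun j => Y k (g j))) = _
  rw [MultilinearMap.map_sum]
  refine Finset.sum_congr rfl fun h _ => ?_
  rw [MultilinearMap.map_smul_univ, smul_eq_mul]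
  rfl

lemma minorIdeal_mul_le_right {l m n : Type} [Fintype l] [Fintype m] [Fintype n] [DecidableEq m]
    (X : Matrix l m R) (Y : Matrix m n R) (r : ℕ) :
    minorIdeal (X * Y) r ≤ minorIdeal Y r := by
  unfold minorIdeal
  rw [Ideal.span_le]
  rintro _ ⟨fg, rfl⟩
  simp only
  rw [det_mul_submatrix]
  refine Ideal.sum_mem _ fun h _ => Ideal.mul_mem_left _ _ ?_
  exact det_mem_minorIdeal Y r h fg.2

lemma minorIdeal_transpose {m n : Type} [Fintype m] [Fintype n] (X : Matrix m n R) (r : ℕ) :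
    minorIdeal Xᵀ r = minorIdeal X r := by
  unfold minorIdeal
  apply le_antisymm
  · rw [Ideal.span_le]
    rintro _ ⟨fg, rfl⟩
    have : (Xᵀ.submatrix fg.1 fg.2) = (X.submatrix fg.2 fg.1)ᵀ := rfl
    simp only [this, Matrix.det_transpose]
    exact Ideal.subset_span ⟨(fg.2, fg.1), rfl⟩
  · rw [Ideal.span_le]
    rintro _ ⟨fg, rfl⟩
    have : (X.submatrix fg.1 fg.2) = (Xᵀ.submatrix fg.2 fg.1)ᵀ := rfl
    simp only [this, Matrix.det_transpose]
    exact Ideal.subset_span ⟨(fg.2, fg.1), rfl⟩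

lemma minorIdeal_mul_le_left {l m n : Type} [Fintype l] [Fintype m] [Fintype n] [DecidableEq m]
    (X : Matrix l m R) (Y : Matrix m n R) (r : ℕ) :
    minorIdeal (X * Y) r ≤ minorIdeal X r := by
  rw [← minorIdeal_transpose (X * Y), Matrix.transpose_mul, ← minorIdeal_transpose X]
  exact minorIdeal_mul_le_right _ _ r

/-- minors of size exceeding the inner dimension vanish -/
lemma minorIdeal_mul_eq_bot {l n : Type} [Fintype l] [Fintype n] (ρ : ℕ)
    (X : Matrix l (Fin ρ) R) (Y : Matrix (Fin ρ) n R) (r : ℕ) (hr : ρ < r) :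
    minorIdeal (X * Y) r = ⊥ := by
  rw [minorIdeal_eq_bot_iff]
  intro f g
  rw [det_mul_submatrix]
  refine Finset.sum_eq_zero fun h _ => ?_
  obtain ⟨i, j, hij, hh⟩ := Fintype.exists_ne_map_eq_of_card_lt h (by simpa using hr)
  rw [Matrix.det_zero_of_row_eq hij (by ext c; simp [Matrix.submatrix_apply, hh]), mul_zero]

/-- one-sided inverses force the unit ideal -/
lemma minorIdeal_eq_top_of_factor {a b ρ : ℕ} (B : Matrix (Fin a) (Fin b) R)
    (W' : Matrix (Fin ρ) (Fin a) R) (T' : Matrix (Fin b) (Fin ρ) R) (h : W' * B * T' = 1) :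
    minorIdeal B ρ = ⊤ := by
  rw [Ideal.eq_top_iff_one]
  have h1 : (1 : R) ∈ minorIdeal (W' * B * T') ρ := by
    have := det_mem_minorIdeal (W' * B * T') ρ id id
    rw [Matrix.submatrix_id_id] at this
    have h3 : (W' * B * T').det = 1 := by rw [h, Matrix.det_one]
    rwa [h3] at this
  have h2 := minorIdeal_mul_le_left (W' * B) T' ρ h1
  exact minorIdeal_mul_le_right W' B ρ h2

/-- minors increase: `I_{t+1} ≤ I_t` -/
lemma minorIdeal_succ_le {m n : Type} [Fintype m] [Fintype n] (X : Matrix m n R) (t : ℕ) :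
    minorIdeal X (t + 1) ≤ minorIdeal X t := by
  unfold minorIdeal
  rw [Ideal.span_le]
  rintro _ ⟨fg, rfl⟩
  simp only
  rw [Matrix.det_succ_row_zero]
  refine Ideal.sum_mem _ fun j _ => Ideal.mul_mem_left _ _ ?_
  exact det_mem_minorIdeal X t (fg.1 ∘ Fin.succ) (fg.2 ∘ j.succAbove)

lemma minorIdeal_antitone {m n : Type} [Fintype m] [Fintype n] (X : Matrix m n R) {s t : ℕ}
    (h : s ≤ t) : minorIdeal X t ≤ minorIdeal X s := by
  induction h with
  | refl => exact le_rfl
  | step _ ih => exact (minorIdeal_succ_le X _).trans ih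

end Groth.Agent.Helper3.BE5
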