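import Mathlib
import Groth.Agent.Lib.Helper3.BE5
import Groth.Agent.Lib.Helper3.BE2

/-!
# Buchsbaum–Eisenbud, part 6: minors of a matrix with projective cokernel (helper3)
-/

set_option autoImplicit false

universe u

namespace Groth.Agent.Helper3.BE6

open Matrix CAlgX Groth.Agent.Helper3.BE1 Groth.Agent.Helper3.BE5 Groth.Agent.Helper3.BE2

variable {S : Type u} [CommRing S] [IsLocalRing S] [IsNoetherianRing S]

section One

variable {a b : ℕ} (B : Matrix (Fin a) (Fin b) S)

local notation "N" => LinearMap.range (Matrix.mulVecLin B)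

/-- retraction onto the range when the cokernel is projective -/
lemma exists_retraction [Module.Projective S (Cq B)] :
    ∃ π : (Fin a → S) →ₗ[S] LinearMap.range B.mulVecLin,
      π ∘ₗ (LinearMap.range B.mulVecLin).subtype = LinearMap.id ∧
      ∃ s : Cq B →ₗ[S] (Fin a → S), (LinearMap.range B.mulVecLin).mkQ ∘ₗ s = LinearMap.id := by
  obtain ⟨s, hs⟩ := Module.projective_lifting_property (Submodule.mkQ N) LinearMap.id
    (Submodule.mkQ_surjective N)
  let q : (Fin a → S) →ₗ[S] (Fin a → S) := LinearMap.id - s ∘ₗ (Submodule.mkQ N)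
  have hqv : ∀ v, q v = v - s ((Submodule.mkQ N) v) := fun v => rfl
  have hmem : ∀ v, q v ∈ N := by
    intro v
    rw [← Submodule.Quotient.mk_eq_zero N, ← Submodule.mkQ_apply, hqv, map_sub]
    have := LinearMap.congr_fun hs ((Submodule.mkQ N) v)
    simp only [LinearMap.comp_apply, LinearMap.id_apply] at this
    rw [this, sub_self]
  refine ⟨q.codRestrict N hmem, ?_, s, hs⟩
  refine LinearMap.ext fun v => ?_
  apply Subtype.ext
  simp only [LinearMap.comp_apply, Submodule.subtype_apply, LinearMap.codRestrict_apply,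
    LinearMap.id_apply, hqv]
  have : (Submodule.mkQ N) (v : Fin a → S) = 0 := by
    rw [Submodule.mkQ_apply, Submodule.Quotient.mk_eq_zero]; exact v.2
  rw [this, map_zero, sub_zero]

instance range_projective [Module.Projective S (Cq B)] :
    Module.Projective S (LinearMap.range B.mulVecLin) := by
  obtain ⟨π, hπ, -⟩ := exists_retraction B
  exact Module.Projective.of_split _ π hπ

instance range_free [Module.Projective S (Cq B)] :
    Module.Free S (LinearMap.range B.mulVecLin) :=
  Module.free_of_flat_of_isLocalRing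

instance coker_free [Module.Projective S (Cq B)] : Module.Free S (Cq B) :=
  Module.free_of_flat_of_isLocalRing

/-- rank additivity -/
lemma finrank_add [Module.Projective S (Cq B)] :
    Module.finrank S (LinearMap.range B.mulVecLin) + Module.finrank S (Cq B) = a := by
  obtain ⟨π, hπ, s, hs⟩ := exists_retraction B
  have hex : Function.Exact (Submodule.subtype N) (Submodule.mkQ N) := by
    rw [LinearMap.exact_iff, Submodule.ker_mkQ, Submodule.range_subtype]
  have e := (hex.splitSurjectiveEquiv (Submodule.injective_subtype N) ⟨s, hs⟩).1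
  have h1 := e.finrank_eq
  rw [Module.finrank_prod] at h1
  rw [← h1]
  simp

/-- the minors of a matrix with projective cokernel -/
theorem minors_of_projective [Module.Projective S (Cq B)] :
    minorIdeal B (Module.finrank S (LinearMap.range B.mulVecLin)) = ⊤ ∧
      minorIdeal B (Module.finrank S (LinearMap.range B.mulVecLin) + 1) = ⊥ := by
  classical
  obtain ⟨π, hπ, -⟩ := exists_retraction B
  set ρ := Module.finrank S N with hρ
  let β : Module.Basis (Fin ρ) S N := Module.finBasis S N
  let w : (Fin ρ → S) →ₗ[S] (Fin a → S) := (Submodule.subtype N) ∘ₗ β.equivFun.symm.toLinearMap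
  let t : (Fin b → S) →ₗ[S] (Fin ρ → S) := β.equivFun.toLinearMap ∘ₗ B.mulVecLin.rangeRestrict
  let w' : (Fin a → S) →ₗ[S] (Fin ρ → S) := β.equivFun.toLinearMap ∘ₗ π
  have hwt : w ∘ₗ t = B.mulVecLin := by
    refine LinearMap.ext fun v => ?_
    simp [w, t]
  have hw'w : w' ∘ₗ w = LinearMap.id := by
    refine LinearMap.ext fun v => ?_
    have := LinearMap.congr_fun hπ (β.equivFun.symm v)
    simp only [LinearMap.comp_apply, Submodule.subtype_apply, LinearMap.id_apply] at this
    simp only [w, w', LinearMap.comp_apply, LinearEquiv.coe_coe, Submodule.subtype_apply,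
      LinearMap.id_apply]
    rw [this, LinearEquiv.apply_symm_apply]
  have htsurj : Function.Surjective t := by
    intro x
    obtain ⟨v, hv⟩ := B.mulVecLin.surjective_rangeRestrict (β.equivFun.symm x)
    refine ⟨v, ?_⟩
    show β.equivFun (B.mulVecLin.rangeRestrict v) = x
    rw [hv, LinearEquiv.apply_symm_apply]
  obtain ⟨t', ht'⟩ := Module.projective_lifting_property t LinearMap.id htsurj
  have hB : B = LinearMap.toMatrix' w * LinearMap.toMatrix' t := by
    rw [← LinearMap.toMatrix'_comp, hwt, ← Matrix.toLin'_apply', LinearMap.toMatrix'_toLin']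
  have h1 : LinearMap.toMatrix' w' * B * LinearMap.toMatrix' t' = 1 := by
    rw [hB, ← Matrix.mul_assoc, ← LinearMap.toMatrix'_comp, hw'w, LinearMap.toMatrix'_id,
      Matrix.one_mul, ← LinearMap.toMatrix'_comp, ht', LinearMap.toMatrix'_id]
  refine ⟨minorIdeal_eq_top_of_factor B _ _ h1, ?_⟩
  rw [hB]
  exact minorIdeal_mul_eq_bot ρ _ _ (ρ + 1) (Nat.lt_succ_self ρ)

end One

section Chain

variable (n : ℕ → ℕ) (B : ∀ i, Matrix (Fin (n i)) (Fin (n (i + 1))) S)

lemma alt_sum' (e : ℕ) (n : ℕ → ℕ) (j : ℕ) (hj : j ≤ e) :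
    ∑ t ∈ Finset.Icc j e, (-1 : ℤ) ^ (t - j) * (n t : ℤ) =
      (n j : ℤ) - ∑ t ∈ Finset.Icc (j + 1) e, (-1 : ℤ) ^ (t - (j + 1)) * (n t : ℤ) := by
  have h1 : Finset.Icc j e = insert j (Finset.Icc (j + 1) e) := by
    ext t
    simp only [Finset.mem_Icc, Finset.mem_insert]
    omega
  rw [h1, Finset.sum_insert (by simp)]
  simp only [Nat.sub_self, pow_zero, one_mul]
  rw [sub_eq_add_neg, ← Finset.sum_neg_distrib]
  congr 1
  refine Finset.sum_congr rfl fun t ht => ?_
  rw [Finset.mem_Icc] at ht
  have : t - j = (t - (j + 1)) + 1 := by omega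
  rw [this, pow_succ]
  ring

/-- rank recursion from exactness -/
lemma finrank_range_add (i : ℕ) (hB : B i * B (i + 1) = 0)
    (hex : LinearMap.ker (B i).mulVecLin ≤ LinearMap.range (B (i + 1)).mulVecLin)
    [Module.Projective S (Cq (B (i + 1)))] :
    Module.finrank S (LinearMap.range (B i).mulVecLin) +
      Module.finrank S (LinearMap.range (B (i + 1)).mulVecLin) = n (i + 1) := by
  have h1 := finrank_add (B (i + 1))
  have hker : LinearMap.ker (B i).mulVecLin = LinearMap.range (B (i + 1)).mulVecLin := by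
    apply le_antisymm hex
    rintro _ ⟨x, rfl⟩
    rw [LinearMap.mem_ker, Matrix.mulVecLin_apply, Matrix.mulVecLin_apply, Matrix.mulVec_mulVec,
      hB, Matrix.zero_mulVec]
  have e : Cq (B (i + 1)) ≃ₗ[S] LinearMap.range (B i).mulVecLin :=
    (Submodule.quotEquivOfEq _ _ hker.symm).trans (B i).mulVecLin.quotKerEquivRange
  rw [e.finrank_eq] at h1
  omega

theorem rank_formula (e : ℕ) (hzero : ∀ i, e ≤ i → B i = 0) (hB : ∀ i, B i * B (i + 1) = 0)
    (hex : ∀ i, i + 1 ≤ e →
      LinearMap.ker (B i).mulVecLin ≤ LinearMap.range (B (i + 1)).mulVecLin)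
    (i₀ : ℕ) (hproj : ∀ i, i₀ ≤ i → Module.Projective S (Cq (B i))) :
    ∀ k i, i₀ ≤ i → e ≤ i + k →
      (Module.finrank S (LinearMap.range (B i).mulVecLin) : ℤ) =
        ∑ t ∈ Finset.Icc (i + 1) e, (-1 : ℤ) ^ (t - (i + 1)) * (n t : ℤ) := by
  have hbase : ∀ i, e ≤ i →
      (Module.finrank S (LinearMap.range (B i).mulVecLin) : ℤ) =
        ∑ t ∈ Finset.Icc (i + 1) e, (-1 : ℤ) ^ (t - (i + 1)) * (n t : ℤ) := by
    intro i hi
    rw [Finset.Icc_eq_empty (by omega), Finset.sum_empty]
    have : LinearMap.range (B i).mulVecLin = ⊥ := by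
      rw [hzero i hi]
      ext v
      simp
    rw [this]
    simp
  intro k
  induction k with
  | zero => intro i _ hi; exact hbase i (by omega)
  | succ k ih =>
    intro i hi₀ hi
    by_cases hie : e ≤ i
    · exact hbase i hie
    · haveI := hproj (i + 1) (by omega)
      have h1 := finrank_range_add n B i (hB i) (hex i (by omega))
      have h2 := ih (i + 1) (by omega) (by omega)
      rw [alt_sum' e n (i + 1) (by omega), ← h2]
      have : ((Module.finrank S (LinearMap.range (B i).mulVecLin) +
        Module.finrank S (LinearMap.range (B (i + 1)).mulVecLin) : ℕ) : ℤ) = (n (i + 1) : ℤ) := by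
        rw [h1]
      push_cast at this
      linarith

end Chain

end Groth.Agent.Helper3.BE6
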