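import Mathlib
import Groth.Agent.Lib.Helper3.BE6
import Groth.Agent.Lib.Lead.Depth8

/-!
# Buchsbaum–Eisenbud, part 7: cokernels in an exact complex over a local ring of depth `d`
are projective from spot `d` on (helper3)
-/

set_option autoImplicit false
set_option linter.style.haveILetI false

universe u

namespace Groth.Agent.Helper3.BE7

open CategoryTheory Matrix CAlgX LocCoh IsLocalRing Groth.Agent.Lead.Depth
  Groth.Agent.Helper3.BE1 Groth.Agent.Helper3.BE2

variable {S : Type u} [CommRing S] [IsLocalRing S] [IsNoetherianRing S]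

/-- the short exact sequence `0 → coker N → F → coker M → 0` -/
lemma exists_shortExact {a b c : ℕ} (M : Matrix (Fin a) (Fin b) S) (N : Matrix (Fin b) (Fin c) S)
    (hMN : M * N = 0) (hex : LinearMap.ker M.mulVecLin ≤ LinearMap.range N.mulVecLin) :
    ∃ T : ShortComplex (ModuleCat.{u} S), T.ShortExact ∧
      T.X₁ = ModuleCat.of S (Cq N) ∧ T.X₂ = ModuleCat.of S (Fin a → S) ∧
      T.X₃ = ModuleCat.of S (Cq M) := by
  have hle : LinearMap.range N.mulVecLin ≤ LinearMap.ker M.mulVecLin := by
    rintro _ ⟨x, rfl⟩
    rw [LinearMap.mem_ker, Matrix.mulVecLin_apply, Matrix.mulVecLin_apply, Matrix.mulVec_mulVec,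
      hMN, Matrix.zero_mulVec]
  let f : Cq N →ₗ[S] (Fin a → S) := (LinearMap.range N.mulVecLin).liftQ M.mulVecLin hle
  have hf : Function.Injective f := by
    rw [← LinearMap.ker_eq_bot, Submodule.ker_liftQ_eq_bot _ _ _ hex]
  have hfg : Function.Exact f (LinearMap.range M.mulVecLin).mkQ := by
    rw [LinearMap.exact_iff, Submodule.ker_mkQ, Submodule.range_liftQ]
  refine ⟨ModuleCat.shortComplexOfCompEqZero f (LinearMap.range M.mulVecLin).mkQ
    hfg.linearMap_comp_eq_zero, ?_, rfl, rfl, rfl⟩
  exact ModuleCat.shortComplex_shortExact _ hfg hf (Submodule.mkQ_surjective _)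

lemma projective_of_module (M : Type u) [AddCommGroup M] [Module S M] [Module.Projective S M] :
    Projective (ModuleCat.of S M) :=
  (IsProjective.iff_projective _).mp inferInstance

lemma lt_of_projective (M : Type u) [AddCommGroup M] [Module S M] [Module.Projective S M]
    (k : ℕ) : HasProjectiveDimensionLT (ModuleCat.of S M) (k + 1) := by
  haveI := projective_of_module (S := S) M
  exact hasProjectiveDimensionLT_of_ge _ 1 (k + 1) (by omega)

variable (n : ℕ → ℕ) (B : ∀ i, Matrix (Fin (n i)) (Fin (n (i + 1))) S)

lemma projective_coker_zero (i : ℕ) (hz : B i = 0) : Module.Projective S (Cq (B i)) := by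
  have hr : LinearMap.range (B i).mulVecLin = ⊥ := by
    rw [hz]
    ext v
    simp
  exact Module.Projective.of_equiv (Submodule.quotEquivOfEqBot _ hr).symm

theorem projective_coker_of_exact (e : ℕ) (hzero : ∀ i, e ≤ i → B i = 0)
    (hB : ∀ i, B i * B (i + 1) = 0)
    (hex : ∀ i, i + 1 ≤ e →
      LinearMap.ker (B i).mulVecLin ≤ LinearMap.range (B (i + 1)).mulVecLin)
    (d : ℕ) (hd : LocCoh.depth S S = d) :
    ∀ i, d ≤ i → Module.Projective S (Cq (B i)) := by
  -- the short exact sequences
  have hses : ∀ i, i + 1 ≤ e → ∃ T : ShortComplex (ModuleCat.{u} S), T.ShortExact ∧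
      T.X₁ = ModuleCat.of S (Cq (B (i + 1))) ∧ T.X₂ = ModuleCat.of S (Fin (n i) → S) ∧
      T.X₃ = ModuleCat.of S (Cq (B i)) :=
    fun i hi => exists_shortExact (B i) (B (i + 1)) (hB i) (hex i hi)
  -- step 1: finite projective dimension
  have step1 : ∀ k i, i + k = e →
      HasProjectiveDimensionLT (ModuleCat.of S (Cq (B i))) (k + 1) := by
    intro k
    induction k with
    | zero =>
      intro i hi
      haveI := projective_coker_zero n B i (hzero i (by omega))
      exact lt_of_projective _ 0
    | succ k ih =>
      intro i hi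
      obtain ⟨T, hT, h1, h2, h3⟩ := hses i (by omega)
      have hX1 : HasProjectiveDimensionLT T.X₁ (k + 1) := by rw [h1]; exact ih (i + 1) (by omega)
      have hX2 : HasProjectiveDimensionLT T.X₂ (k + 1 + 1) := by
        rw [h2]; exact lt_of_projective _ (k + 1)
      have := hT.hasProjectiveDimensionLT_X₃ (k + 1) hX1 hX2
      rwa [h3] at this
  -- step 2: Auslander–Buchsbaum
  have step2 : HasProjectiveDimensionLT (ModuleCat.of S (Cq (B 0))) (d + 1) := by
    rcases subsingleton_or_nontrivial (Cq (B 0)) with hs | hnt
    · have hz : Limits.IsZero (ModuleCat.of S (Cq (B 0))) := ModuleCat.isZero_of_subsingleton _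
      haveI := hz.hasProjectiveDimensionLT_zero
      exact hasProjectiveDimensionLT_of_ge _ 0 (d + 1) (by omega)
    · have hne : ¬ Limits.IsZero (ModuleCat.of S (Cq (B 0))) := by
        intro hz
        have := ModuleCat.subsingleton_of_isZero hz
        exact not_subsingleton (Cq (B 0)) this
      obtain ⟨p, hp, -⟩ := exists_nat_projectiveDimension_eq (step1 e 0 (by omega)) hne
      have hAB := auslander_buchsbaum (Cq (B 0)) p hp
      rw [hd] at hAB
      have hpd : p ≤ d := by
        have : (p : ℕ∞) ≤ d := by rw [hAB]; exact le_self_add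
        exact_mod_cast this
      rw [← projectiveDimension_lt_iff, hp]
      exact_mod_cast Nat.lt_succ_of_le hpd
  -- step 3
  have step3 : ∀ i, i ≤ d → i ≤ e →
      HasProjectiveDimensionLT (ModuleCat.of S (Cq (B i))) (d - i + 1) := by
    intro i
    induction i with
    | zero => intro _ _; simpa using step2
    | succ i ih =>
      intro hid hie
      obtain ⟨T, hT, h1, h2, h3⟩ := hses i (by omega)
      have hX3 : HasProjectiveDimensionLT T.X₃ (d - (i + 1) + 1 + 1) := by
        rw [h3, show d - (i + 1) + 1 + 1 = d - i + 1 by omega]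
        exact ih (by omega) (by omega)
      have hX2 : HasProjectiveDimensionLT T.X₂ (d - (i + 1) + 1) := by
        rw [h2]; exact lt_of_projective _ _
      have := hT.hasProjectiveDimensionLT_X₁ (d - (i + 1) + 1) hX2 hX3
      rwa [h1] at this
  -- step 4
  have step4 : ∀ k i, d + k = i → Module.Projective S (Cq (B i)) := by
    intro k
    induction k with
    | zero =>
      intro i hi
      by_cases hie : e ≤ i
      · exact projective_coker_zero n B i (hzero i hie)
      · have h := step3 i (by omega) (by omega)
        rw [show d - i + 1 = 1 by omega] at h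
        haveI := h
        have : Projective (ModuleCat.of S (Cq (B i))) := inferInstance
        exact (IsProjective.iff_projective _).mpr this
    | succ k ih =>
      intro i hi
      by_cases hie : e ≤ i
      · exact projective_coker_zero n B i (hzero i hie)
      · obtain ⟨i', rfl⟩ : ∃ i', i = i' + 1 := ⟨i - 1, by omega⟩
        obtain ⟨T, hT, h1, h2, h3⟩ := hses i' (by omega)
        haveI := ih i' (by omega)
        have hX3 : HasProjectiveDimensionLT T.X₃ (1 + 1) := by
          rw [h3]; exact lt_of_projective _ 1
        have hX2 : HasProjectiveDimensionLT T.X₂ 1 := by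
          rw [h2]; exact lt_of_projective _ 0
        have := hT.hasProjectiveDimensionLT_X₁ 1 hX2 hX3
        rw [h1] at this
        haveI := this
        have : Projective (ModuleCat.of S (Cq (B (i' + 1)))) := inferInstance
        exact (IsProjective.iff_projective _).mpr this
  intro i hi
  exact step4 (i - d) i (by omega)

end Groth.Agent.Helper3.BE7
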