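import Mathlib
import Groth.Agent.Lib.Helper3.BE7
import Groth.Agent.Lib.Helper3.BE4

/-!
# Buchsbaum–Eisenbud, part 8: necessity, and the local statement (helper3)
-/

set_option autoImplicit false
set_option linter.style.haveILetI false

universe u

namespace Groth.Agent.Helper3.BE8

open Matrix CAlgX LocCoh IsLocalRing Groth.Agent.Lead.Depth
  Groth.Agent.Helper3.BE1 Groth.Agent.Helper3.BE2 Groth.Agent.Helper3.BE3
  Groth.Agent.Helper3.BE5 Groth.Agent.Helper3.BE6 Groth.Agent.Helper3.BE7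

variable {R : Type u} [CommRing R] [IsNoetherianRing R]

/-- a prime of depth zero at which a given nonzero element survives -/
lemma exists_prime_depth_zero (a : R) (ha : a ≠ 0) :
    ∃ (Q : Ideal R) (_ : Q.IsPrime),
      LocCoh.depth (Localization.AtPrime Q) (Localization.AtPrime Q) = 0 ∧
      algebraMap R (Localization.AtPrime Q) a ≠ 0 := by
  obtain ⟨P, hP, hle⟩ := exists_le_isAssociatedPrime_of_isNoetherianRing R a ha
  haveI := hP.isPrime
  have hPtop : P • (⊤ : Submodule R R) ≠ ⊤ := by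
    rw [smul_eq_mul, Ideal.mul_top]; exact hP.isPrime.ne_top
  have h0 := idealDepth_eq_zero_of_mem_associatedPrimes R P hP hPtop
  obtain ⟨Q, hPQ, hQ⟩ := exists_prime_depth_localizedModule_le P R hPtop
  refine ⟨Q.asIdeal, Q.2, ?_, ?_⟩
  · rw [← depth_localizedModule_self, hQ, h0]
  · intro hz
    obtain ⟨s, hs⟩ := (IsLocalization.map_eq_zero_iff Q.asIdeal.primeCompl
      (Localization.AtPrime Q.asIdeal) a).mp hz
    have : (s : R) ∈ (⊥ : Submodule R R).colon {a} := by
      rw [Submodule.mem_colon_singleton, Submodule.mem_bot, smul_eq_mul]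
      exact hs
    exact s.2 (hPQ (hle this))

variable (n : ℕ → ℕ) (A : ∀ i, Matrix (Fin (n i)) (Fin (n (i + 1))) R)

/-- the local information at a prime -/
lemma local_info (e : ℕ) (hzero : ∀ i, e ≤ i → A i = 0) (hA : ∀ i, A i * A (i + 1) = 0)
    (hex : ∀ i, i + 1 ≤ e →
      LinearMap.ker (A i).mulVecLin ≤ LinearMap.range (A (i + 1)).mulVecLin)
    (Q : Ideal R) [Q.IsPrime] (d : ℕ)
    (hd : LocCoh.depth (Localization.AtPrime Q) (Localization.AtPrime Q) = d) (i : ℕ)
    (hi : d ≤ i) :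
    ∃ ρ : ℕ, (ρ : ℤ) = ∑ t ∈ Finset.Icc (i + 1) e, (-1 : ℤ) ^ (t - (i + 1)) * (n t : ℤ) ∧
      (minorIdeal (A i) ρ).map (algebraMap R (Localization.AtPrime Q)) = ⊤ ∧
      (minorIdeal (A i) (ρ + 1)).map (algebraMap R (Localization.AtPrime Q)) = ⊥ := by
  set f := algebraMap R (Localization.AtPrime Q) with hf
  set B : ∀ i, Matrix (Fin (n i)) (Fin (n (i + 1))) (Localization.AtPrime Q) :=
    fun i => (A i).map f with hBdef
  have hzB : ∀ i, e ≤ i → B i = 0 := by
    intro i hi
    rw [hBdef]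
    simp only
    rw [hzero i hi, Matrix.map_zero _ (map_zero f)]
  have hBB : ∀ i, B i * B (i + 1) = 0 := by
    intro i
    rw [hBdef]
    simp only
    rw [← Matrix.map_mul, hA i, Matrix.map_zero _ (map_zero f)]
  have hexB : ∀ i, i + 1 ≤ e →
      LinearMap.ker (B i).mulVecLin ≤ LinearMap.range (B (i + 1)).mulVecLin :=
    fun i hie => ker_le_range_map Q (A i) (A (i + 1)) (hex i hie)
  have hproj := projective_coker_of_exact n B e hzB hBB hexB d hd
  haveI := hproj i hi
  have hm := minors_of_projective (B i)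
  have hr := rank_formula n B e hzB hBB hexB d hproj (e - i) i hi (by omega)
  refine ⟨_, hr, ?_, ?_⟩
  · rw [← minorIdeal_map]; exact hm.1
  · rw [← minorIdeal_map]; exact hm.2

/-- **Buchsbaum–Eisenbud (⇒)**, internal form. -/
theorem necessity [Nontrivial R] (e : ℕ) (hzero : ∀ i, e ≤ i → A i = 0)
    (hA : ∀ i, A i * A (i + 1) = 0)
    (hex : ∀ i, i + 1 ≤ e →
      LinearMap.ker (A i).mulVecLin ≤ LinearMap.range (A (i + 1)).mulVecLin) (i : ℕ) :
    ∃ r : ℕ, (r : ℤ) = ∑ t ∈ Finset.Icc (i + 1) e, (-1 : ℤ) ^ (t - (i + 1)) * (n t : ℤ) ∧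
      matrixRank (A i) = r ∧
      (minorIdeal (A i) r = ⊤ ∨ ∃ rs : List R, rs.length = i + 1 ∧
        (∀ x ∈ rs, x ∈ minorIdeal (A i) r) ∧ RingTheory.Sequence.IsRegular R rs) := by
  -- a prime of depth 0
  obtain ⟨Q₀, hQ₀, hdQ₀, -⟩ := exists_prime_depth_zero (1 : R) one_ne_zero
  obtain ⟨r, hr, -, -⟩ := local_info n A e hzero hA hex Q₀ 0 (by simpa using hdQ₀) i (Nat.zero_le i)
  refine ⟨r, hr, ?_⟩
  -- vanishing of the bigger minors
  have hvan : minorIdeal (A i) (r + 1) = ⊥ := by
    rw [minorIdeal_eq_bot_iff]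
    intro f g
    by_contra hne
    obtain ⟨Q, hQ, hdQ, hQa⟩ := exists_prime_depth_zero _ hne
    obtain ⟨r', hr', -, h2⟩ := local_info n A e hzero hA hex Q 0 (by simpa using hdQ) i
      (Nat.zero_le i)
    have hrr : r' = r := by
      have : (r' : ℤ) = (r : ℤ) := by rw [hr', hr]
      exact_mod_cast this
    rw [hrr] at h2
    apply hQa
    have := Ideal.mem_map_of_mem (algebraMap R (Localization.AtPrime Q))
      (det_mem_minorIdeal (A i) (r + 1) f g)
    rw [h2] at this
    exact this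
  -- primes containing the minor ideal have large depth
  have hprime : ∀ (Q : Ideal R) [Q.IsPrime], minorIdeal (A i) r ≤ Q →
      ((i + 1 : ℕ) : ℕ∞) ≤ LocCoh.depth (Localization.AtPrime Q) (Localization.AtPrime Q) := by
    intro Q _ hle
    by_contra hlt
    rw [not_le] at hlt
    obtain ⟨d, hd⟩ := ENat.ne_top_iff_exists.mp (ne_top_of_lt hlt)
    rw [← hd] at hlt
    have hdi : d ≤ i := by
      have : d < i + 1 := by exact_mod_cast hlt
      omega
    obtain ⟨r', hr', h1, -⟩ := local_info n A e hzero hA hex Q d hd.symm i hdi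
    have hrr : r' = r := by
      have : (r' : ℤ) = (r : ℤ) := by rw [hr', hr]
      exact_mod_cast this
    rw [hrr] at h1
    have h3 : (minorIdeal (A i) r).map (algebraMap R (Localization.AtPrime Q)) ≤
        maximalIdeal (Localization.AtPrime Q) := by
      rw [← IsLocalization.AtPrime.map_eq_maximalIdeal Q (Localization.AtPrime Q)]
      exact Ideal.map_mono hle
    rw [h1] at h3
    exact (IsLocalRing.maximalIdeal.isMaximal _).ne_top (top_le_iff.mp h3)
  have hne : minorIdeal (A i) r ≠ ⊥ := by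
    intro hbot
    have := hprime Q₀ (by rw [hbot]; exact bot_le)
    rw [hdQ₀] at this
    have h0 : ((i + 1 : ℕ) : ℕ∞) ≠ 0 := by exact_mod_cast Nat.succ_ne_zero i
    exact h0 (le_antisymm this zero_le)
  refine ⟨?_, ?_⟩
  · -- the rank
    unfold matrixRank
    apply IsGreatest.csSup_eq
    refine ⟨hne, ?_⟩
    intro t ht
    by_contra hlt
    exact ht (le_bot_iff.mp (hvan ▸ minorIdeal_antitone (A i) (by omega : r + 1 ≤ t)))
  · by_cases htop : minorIdeal (A i) r = ⊤
    · exact Or.inl htop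
    · refine Or.inr ?_
      have hItop : minorIdeal (A i) r • (⊤ : Submodule R R) ≠ ⊤ := by
        rw [smul_eq_mul, Ideal.mul_top]; exact htop
      have hdep : ((i + 1 : ℕ) : ℕ∞) ≤ idealDepth (minorIdeal (A i) r) R := by
        rw [idealDepth_eq_iInf_depth_localizedModule]
        refine le_iInf₂ fun p hp => ?_
        rw [depth_localizedModule_self]
        exact hprime p.asIdeal hp
      obtain ⟨rs, hlen, hreg, hmem⟩ := exists_of_le_idealDepth _ R hItop (i + 1) hdep
      exact ⟨rs, hlen, hmem, isRegular_of_isWeaklyRegular_of_mem hItop hreg hmem⟩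

end Groth.Agent.Helper3.BE8
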