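import Mathlib
import Groth.Agent.Lib.Helper3.BE8

/-!
# Buchsbaum–Eisenbud, part 9: the local iff (helper3)
-/

set_option autoImplicit false

universe u

namespace Groth.Agent.Helper3.BE9

open Matrix CAlgX LocCoh Groth.Agent.Helper3.BE4 Groth.Agent.Helper3.BE8

theorem main2065 {R : Type u} [CommRing R] [IsLocalRing R] [IsNoetherianRing R]
    (e : ℕ) (he : 1 ≤ e) (n : ℕ → ℕ) (A : (i : ℕ) → Matrix (Fin (n i)) (Fin (n (i + 1))) R)
    (hA : ∀ i, i + 2 ≤ e → A i * A (i + 1) = 0) :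
    (LinearMap.ker (A (e - 1)).mulVecLin = ⊥ ∧
        ∀ i, i + 2 ≤ e → LinearMap.ker (A i).mulVecLin = LinearMap.range (A (i + 1)).mulVecLin) ↔
      ∀ j, 1 ≤ j → j ≤ e →
        (CAlgX.matrixRank (A (j - 1)) : ℤ) = ∑ t ∈ Finset.Icc j e, (-1 : ℤ) ^ (t - j) * (n t : ℤ) ∧
          (CAlgX.detIdeal (A (j - 1)) = ⊤ ∨
            ∃ rs : List R, rs.length = j ∧ (∀ r ∈ rs, r ∈ CAlgX.detIdeal (A (j - 1))) ∧
              RingTheory.Sequence.IsRegular R rs) := by
  constructor
  · rintro ⟨hker, hmid⟩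
    obtain ⟨e', rfl⟩ : ∃ e', e = e' + 1 := ⟨e - 1, by omega⟩
    have hker' : LinearMap.ker (A e').mulVecLin = ⊥ := hker
    set e := e' + 1 with he'
    set A' : (i : ℕ) → Matrix (Fin (n i)) (Fin (n (i + 1))) R :=
      fun i => if i < e then A i else 0 with hA'
    have hA'pos : ∀ i, i < e → A' i = A i := fun i hi => by rw [hA']; simp only [if_pos hi]
    have hA'neg : ∀ i, e ≤ i → A' i = 0 := fun i hi => by
      rw [hA']; simp only [if_neg (not_lt.mpr hi)]
    have hC : ∀ i, A' i * A' (i + 1) = 0 := by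
      intro i
      by_cases hi : i + 2 ≤ e
      · rw [hA'pos i (by omega), hA'pos (i + 1) (by omega), hA i hi]
      · rw [hA'neg (i + 1) (by omega), Matrix.mul_zero]
    have hex : ∀ i, i + 1 ≤ e →
        LinearMap.ker (A' i).mulVecLin ≤ LinearMap.range (A' (i + 1)).mulVecLin := by
      intro i hi
      by_cases hi2 : i + 2 ≤ e
      · rw [hA'pos i (by omega), hA'pos (i + 1) (by omega), hmid i hi2]
      · have hie : i = e' := by omega
        subst hie
        rw [hA'pos i (by omega), hker']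
        exact bot_le
    intro j hj1 hje
    obtain ⟨i, rfl⟩ : ∃ i, j = i + 1 := ⟨j - 1, by omega⟩
    show (CAlgX.matrixRank (A i) : ℤ) = _ ∧ (CAlgX.detIdeal (A i) = ⊤ ∨
      ∃ rs : List R, rs.length = i + 1 ∧ (∀ r ∈ rs, r ∈ CAlgX.detIdeal (A i)) ∧
        RingTheory.Sequence.IsRegular R rs)
    obtain ⟨r, hr, hrank, hdet⟩ := necessity n A' e hA'neg hC hex i
    rw [hA'pos i (by omega)] at hrank hdet
    refine ⟨by rw [hrank, hr], ?_⟩
    unfold detIdeal
    rw [hrank]
    exact hdet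
  · intro h
    exact main19962 e he n A hA (fun j h1 h2 => (h j h1 h2).1) (fun j h1 h2 => (h j h1 h2).2)

end Groth.Agent.Helper3.BE9
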