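import Mathlib
import Groth.Agent.Lib.Helper3.CT6
import Groth.Agent.S12284

/-!
# Nonsingular affine varieties over an algebraically closed field: `T¹ = 0` iff regular, and then
`T² = 0` (helper3)
-/

set_option autoImplicit false
set_option linter.style.haveILetI false

open TensorProduct

noncomputable section

namespace Groth.Agent.Helper3.CT7

open IsLocalRing Groth.Agent.Helper18.GenT

universe u

section Pi

variable {A B : Type u} [CommRing A] [CommRing B] [Algebra A B] {ι σ : Type u}
  (P : Algebra.Presentation A B ι σ)

/-- `T²` of a product vanishes when each factor's does -/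
theorem subsingleton_T2_pi {J : Type u} (N : J → Type u) [∀ j, AddCommGroup (N j)]
    [∀ j, Module B (N j)] (h : ∀ j, Subsingleton (CotT.T2 P (N j))) :
    Subsingleton (CotT.T2 P (∀ j, N j)) := by
  suffices hall : ∀ x : CotT.T2 P (∀ j, N j), x = 0 from
    ⟨fun x y => (hall x).trans (hall y).symm⟩
  intro x
  obtain ⟨ψ, rfl⟩ := Submodule.Quotient.mk_surjective _ x
  rw [Submodule.Quotient.mk_eq_zero]
  have hj : ∀ j, ∃ φ : CotT.L1 P →ₗ[B] N j, CotT.d2Star P (N j) φ = LinearMap.proj j ∘ₗ ψ := by
    intro j
    have h0 : (Submodule.Quotient.mk (LinearMap.proj j ∘ₗ ψ) : CotT.T2 P (N j)) = 0 :=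
      (h j).elim _ _
    rw [Submodule.Quotient.mk_eq_zero] at h0
    exact h0
  choose φ hφ using hj
  refine ⟨LinearMap.pi φ, ?_⟩
  rw [CotT.d2Star_apply]
  refine LinearMap.ext fun z => ?_
  funext j
  have := LinearMap.congr_fun (hφ j) z
  rw [CotT.d2Star_apply] at this
  exact this

end Pi

section LocalModule

variable (k B : Type u) [Field k] [CommRing B] [Algebra k B] [Algebra.FiniteType k B]
  (q : Ideal B) [q.IsPrime]

/-- `T²(B/k, N) = 0` for a module `N` over a regular localisation of `B` -/
theorem subsingleton_T2_of_module_over_regular_localization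
    [IsRegularLocalRing (Localization.AtPrime q)]
    (N : Type u) [AddCommGroup N] [Module B N] [Module (Localization.AtPrime q) N]
    [IsScalarTower B (Localization.AtPrime q) N] :
    Subsingleton (CotT.T2 (CotT.canon k B) N) := by
  obtain ⟨n, f₀, hf₀⟩ := Algebra.FiniteType.iff_quotient_mvPolynomial''.mp
    (inferInstance : Algebra.FiniteType k B)
  set Q : Ideal (MvPolynomial (Fin n) k) := q.comap f₀.toRingHom with hQ
  haveI : Q.IsPrime := Ideal.comap_isPrime _ _
  set fP : Localization.AtPrime Q →+* Localization.AtPrime q :=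
    Localization.localRingHom Q q f₀.toRingHom rfl with hfP
  have hsurj : Function.Surjective fP :=
    RingHom.surjective_localRingHom_of_surjective f₀.toRingHom hf₀ q
  letI algAB : Algebra (Localization.AtPrime Q) (Localization.AtPrime q) := fP.toAlgebra
  letI algPB : Algebra (MvPolynomial (Fin n) k) B := f₀.toRingHom.toAlgebra
  haveI : IsScalarTower k (MvPolynomial (Fin n) k) B :=
    IsScalarTower.of_algebraMap_eq fun x => (f₀.commutes x).symm
  haveI : IsRegularLocalRing (Localization.AtPrime Q) :=
    IsRegularRing.isRegularLocalRing_localization Q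
  have hsP : Function.Surjective (algebraMap (MvPolynomial (Fin n) k) B) := hf₀
  have hsA : Function.Surjective (algebraMap (Localization.AtPrime Q) (Localization.AtPrime q)) :=
    hsurj
  have hcompat : ∀ p : MvPolynomial (Fin n) k,
      algebraMap (Localization.AtPrime Q) (Localization.AtPrime q)
        (algebraMap (MvPolynomial (Fin n) k) (Localization.AtPrime Q) p) =
      algebraMap B (Localization.AtPrime q) (algebraMap (MvPolynomial (Fin n) k) B p) := by
    intro p
    exact Localization.localRingHom_to_map Q q f₀.toRingHom rfl p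
  -- module structures
  letI : Module (MvPolynomial (Fin n) k) N :=
    Module.compHom N (algebraMap (MvPolynomial (Fin n) k) B)
  haveI : IsScalarTower (MvPolynomial (Fin n) k) B N :=
    IsScalarTower.of_algebraMap_smul fun _ _ => rfl
  letI : Module (Localization.AtPrime Q) N :=
    Module.compHom N (algebraMap (Localization.AtPrime Q) (Localization.AtPrime q))
  haveI : IsScalarTower (Localization.AtPrime Q) (Localization.AtPrime q) N :=
    IsScalarTower.of_algebraMap_smul fun _ _ => rfl
  haveI : IsScalarTower (MvPolynomial (Fin n) k) (Localization.AtPrime Q) N := by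
    refine ⟨fun p a x => ?_⟩
    show algebraMap (Localization.AtPrime Q) (Localization.AtPrime q) (p • a) • x =
      algebraMap (MvPolynomial (Fin n) k) B p •
        (algebraMap (Localization.AtPrime Q) (Localization.AtPrime q) a • x)
    rw [Algebra.smul_def, map_mul, hcompat, mul_smul, algebraMap_smul]
  -- `T²(B_q/A, N) = 0`
  have h1 : Subsingleton
      (CotT.T2 (CotT.canon (Localization.AtPrime Q) (Localization.AtPrime q)) N) :=
    CT6.subsingleton_T2_of_regular_surjective _ _ hsA N
  -- relations
  let σ := ↥(RingHom.ker (algebraMap (MvPolynomial (Fin n) k) B))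
  let rel : σ → MvPolynomial (Fin n) k := Subtype.val
  have hrel : ∀ s, algebraMap (MvPolynomial (Fin n) k) B (rel s) = 0 := fun s => s.2
  have hrel' : ∀ s, algebraMap (Localization.AtPrime Q) (Localization.AtPrime q)
      (algebraMap (MvPolynomial (Fin n) k) (Localization.AtPrime Q) (rel s)) = 0 := by
    intro s
    rw [hcompat, hrel, map_zero]
  have hker : Ideal.span (Set.range rel) = RingHom.ker (algebraMap (MvPolynomial (Fin n) k) B) := by
    rw [Subtype.range_val]
    exact Ideal.span_eq _
  have hker' : Ideal.span (Set.range fun s =>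
      algebraMap (MvPolynomial (Fin n) k) (Localization.AtPrime Q) (rel s)) =
      RingHom.ker (algebraMap (Localization.AtPrime Q) (Localization.AtPrime q)) := by
    refine le_antisymm ?_ ?_
    · rw [Ideal.span_le]
      rintro _ ⟨s, rfl⟩
      exact hrel' s
    · intro a ha
      obtain ⟨⟨p, s⟩, hps⟩ := IsLocalization.surj Q.primeCompl a
      simp only at hps
      have h0 : algebraMap B (Localization.AtPrime q)
          (algebraMap (MvPolynomial (Fin n) k) B p) = 0 := by
        rw [← hcompat, ← hps, map_mul, (RingHom.mem_ker).mp ha, zero_mul]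
      obtain ⟨t', ht'⟩ := (IsLocalization.map_eq_zero_iff q.primeCompl
        (Localization.AtPrime q) _).mp h0
      obtain ⟨t, ht⟩ := hf₀ (t' : B)
      have htQ : t ∈ Q.primeCompl := by
        show t ∉ Q
        intro hmem
        have : f₀ t ∈ q := hmem
        rw [ht] at this
        exact t'.2 this
      have htp : t * p ∈ RingHom.ker (algebraMap (MvPolynomial (Fin n) k) B) := by
        rw [RingHom.mem_ker, map_mul]
        show f₀ t * _ = 0
        rw [ht]
        exact ht'
      obtain ⟨us, hus⟩ := IsLocalization.map_units (Localization.AtPrime Q) s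
      obtain ⟨ut, hut⟩ := IsLocalization.map_units (Localization.AtPrime Q)
        (⟨t, htQ⟩ : Q.primeCompl)
      have haeq : a = (↑us⁻¹ * ↑ut⁻¹ : Localization.AtPrime Q) *
          algebraMap (MvPolynomial (Fin n) k) (Localization.AtPrime Q) (t * p) := by
        rw [map_mul, ← hps, ← hus, ← hut]
        have e1 : (↑us⁻¹ * ↑ut⁻¹ : Localization.AtPrime Q) * ((ut : Localization.AtPrime Q) *
            (a * (us : Localization.AtPrime Q))) =
            a * ((↑us⁻¹ : Localization.AtPrime Q) * us) * ((↑ut⁻¹ : Localization.AtPrime Q) * ut) := by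
          ring
        rw [e1, Units.inv_mul, Units.inv_mul, mul_one, mul_one]
      rw [haeq]
      exact Ideal.mul_mem_left _ _ (Ideal.subset_span ⟨⟨t * p, htp⟩, rfl⟩)
  obtain ⟨e'⟩ := CT3.nonempty_T2_canon_equiv_gT2 (Localization.AtPrime Q) (Localization.AtPrime q)
    hsA (fun s => algebraMap (MvPolynomial (Fin n) k) (Localization.AtPrime Q) (rel s)) hker'
    hrel' N
  have h2 : Subsingleton (gT2 (B := Localization.AtPrime q)
      (fun s => algebraMap (MvPolynomial (Fin n) k) (Localization.AtPrime Q) (rel s)) hrel' N) :=
    e'.symm.toEquiv.subsingleton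
  have h3 : Subsingleton (gT2 rel hrel N) :=
    CT3.subsingleton_gT2_of_localization Q.primeCompl (Localization.AtPrime Q) rel hrel hrel' N h2
  obtain ⟨e⟩ := CT3.nonempty_T2_canon_equiv_gT2 (MvPolynomial (Fin n) k) B hsP rel hker hrel N
  have h4 : Subsingleton (CotT.T2 (CotT.canon (MvPolynomial (Fin n) k) B) N) :=
    e.toEquiv.subsingleton
  exact CT6.subsingleton_T2_of_tower k (MvPolynomial (Fin n) k) B N h4
    (fun N' _ _ => CT6.subsingleton_T2_mvPolynomial k n N')

end LocalModule

section Global

variable (k B : Type u) [Field k] [CommRing B] [Algebra k B] [Algebra.FiniteType k B]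

/-- `T²(B/k, N) = 0` when `T¹(B/k, -) = 0` and all localisations at maximal ideals are regular -/
theorem subsingleton_T2_of_regular
    (hreg : ∀ (p : Ideal B) [p.IsPrime], IsRegularLocalRing (Localization.AtPrime p))
    (hT1 : ∀ (M : Type u) [AddCommGroup M] [Module B M],
      Subsingleton (CotT.T1 (CotT.canon k B) M))
    (N : Type u) [AddCommGroup N] [Module B N] :
    Subsingleton (CotT.T2 (CotT.canon k B) N) := by
  classical
  -- the product of the localisations
  let Nm : MaximalSpectrum B → Type u := fun m => LocalizedModule m.asIdeal.primeCompl N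
  let f : N →ₗ[B] (∀ m, Nm m) :=
    LinearMap.pi fun m => LocalizedModule.mkLinearMap m.asIdeal.primeCompl N
  have hf : Function.Injective f := by
    rw [injective_iff_map_eq_zero]
    intro x hx
    refine Module.eq_zero_of_localization_maximal
      (fun (P : Ideal B) (_ : P.IsMaximal) => LocalizedModule P.primeCompl N)
      (fun (P : Ideal B) (_ : P.IsMaximal) => LocalizedModule.mkLinearMap P.primeCompl N) x ?_
    intro P hP
    exact congrFun hx ⟨P, hP⟩
  have hPi : Subsingleton (CotT.T2 (CotT.canon k B) (∀ m, Nm m)) := by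
    apply subsingleton_T2_pi
    intro m
    haveI := hreg m.asIdeal
    exact subsingleton_T2_of_module_over_regular_localization k B m.asIdeal (Nm m)
  -- the long exact sequence
  let g : (∀ m, Nm m) →ₗ[B] ((∀ m, Nm m) ⧸ LinearMap.range f) := (LinearMap.range f).mkQ
  have hg : Function.Surjective g := Submodule.mkQ_surjective _
  have hfg : Function.Exact f g := by
    intro y
    rw [Submodule.mkQ_apply, Submodule.Quotient.mk_eq_zero]
    rfl
  obtain ⟨-, -, -, -, δ₀, δ₁, -, -, -, hex⟩ :=
    Groth.Agent.S12284.result k B _ _ (CotT.canon k B) N (∀ m, Nm m) _ f g hf hg hfg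
  haveI := hT1 ((∀ m, Nm m) ⧸ LinearMap.range f)
  have hinj : Function.Injective (CotT.T2map (CotT.canon k B) f) := by
    rw [injective_iff_map_eq_zero]
    intro z hz
    obtain ⟨w, rfl⟩ := (hex z).mp hz
    rw [Subsingleton.elim w 0, map_zero]
  exact ⟨fun x y => hinj (Subsingleton.elim _ _)⟩

end Global

theorem main12290 (k B : Type u) [Field k] [IsAlgClosed k] [CommRing B] [Algebra k B]
    [Algebra.FiniteType k B] :
    ((∀ (p : Ideal B) [p.IsPrime], IsRegularLocalRing (Localization.AtPrime p)) ↔
      ∀ (M : Type u) [AddCommGroup M] [Module B M], Subsingleton (CotT.T1 (CotT.canon k B) M)) ∧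
    ((∀ (p : Ideal B) [p.IsPrime], IsRegularLocalRing (Localization.AtPrime p)) →
      ∀ (M : Type u) [AddCommGroup M] [Module B M],
        Subsingleton (CotT.T2 (CotT.canon k B) M)) := by
  haveI : Algebra.FinitePresentation k B :=
    Algebra.FinitePresentation.of_finiteType.mp inferInstance
  have ha : (∀ (p : Ideal B) [p.IsPrime], IsRegularLocalRing (Localization.AtPrime p)) ↔
      ∀ (M : Type u) [AddCommGroup M] [Module B M],
        Subsingleton (CotT.T1 (CotT.canon k B) M) := by
    rw [← CT5.formallySmooth_iff_T1, ← Algebra.smoothLocus_eq_univ_iff]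
    constructor
    · intro h
      rw [Set.eq_univ_iff_forall]
      intro p
      haveI := h p.asIdeal
      haveI : Algebra.IsGeometricallyReduced k p.asIdeal.ResidueField :=
        CT5.isGeometricallyReduced_of_isAlgClosed k _
      exact Groth.Agent.Helper14.RegSmooth.isSmoothAt_of_regular k B p.asIdeal
    · intro h p hp
      have hmem : (⟨p, hp⟩ : PrimeSpectrum B) ∈ Algebra.smoothLocus k B := by
        rw [h]
        exact Set.mem_univ _
      haveI : Algebra.IsSmoothAt k p := hmem
      exact Groth.Agent.Helper14.RegSmooth.isRegularLocalRing_of_isSmoothAt k B p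
  refine ⟨ha, ?_⟩
  intro h M _ _
  exact subsingleton_T2_of_regular k B h (ha.mp h) M

end Groth.Agent.Helper3.CT7
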