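import Mathlib
import Groth.Agent.Lib.Helper3.CT4
import Groth.Agent.Lib.Helper3.CT5
import Groth.Agent.Lib.Helper18.CotT.T1

/-!
# `T¹(B/A, -)` is killed by a power of `t` iff `B[1/t]` is smooth over `A` (helper3)
-/

set_option autoImplicit false
set_option linter.style.haveILetI false

open TensorProduct

noncomputable section

namespace Groth.Agent.Helper3.CT8

open CotT Groth.Agent.Helper18.CotTLib

universe u v w t m

section General

variable {A : Type u} {B : Type v} [CommRing A] [CommRing B] [Algebra A B] {ι : Type w} {σ : Type t}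
  (P : Algebra.Presentation A B ι σ)

lemma smul_T1_eq_zero_of_retraction (c : B)
    (ψ : P.toExtension.CotangentSpace →ₗ[B] P.toExtension.Cotangent)
    (hψ : ψ ∘ₗ P.toExtension.cotangentComplex = c • LinearMap.id)
    (M : Type m) [AddCommGroup M] [Module B M] (x : T1 P M) : c • x = 0 := by
  obtain ⟨φ, rfl⟩ := homToT1_surjective P M x
  rw [← map_smul, ← LinearMap.mem_ker, ker_homToT1]
  refine ⟨φ ∘ₗ ψ, ?_⟩
  rw [LinearMap.lcomp_apply', LinearMap.comp_assoc, hψ]
  ext y
  simp

lemma exists_retraction_of_smul_T1_eq_zero (c : B)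
    (h : ∀ x : T1 P P.toExtension.Cotangent, c • x = 0) :
    ∃ ψ : P.toExtension.CotangentSpace →ₗ[B] P.toExtension.Cotangent,
      ψ ∘ₗ P.toExtension.cotangentComplex = c • LinearMap.id := by
  have h0 : c • (LinearMap.id : P.toExtension.Cotangent →ₗ[B] P.toExtension.Cotangent) ∈
      LinearMap.ker (homToT1 P P.toExtension.Cotangent) := by
    rw [LinearMap.mem_ker, map_smul]
    exact h _
  rw [ker_homToT1] at h0
  obtain ⟨ψ, hψ⟩ := h0
  exact ⟨ψ, hψ⟩

lemma subsingleton_T1_of_smul_bijective (c : B) (M : Type m) [AddCommGroup M] [Module B M]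
    (hc : Function.Bijective (fun y : M => c • y)) :
    ∀ n : ℕ, (∀ x : T1 P M, c ^ n • x = 0) → Subsingleton (T1 P M) := by
  intro n
  induction n with
  | zero =>
    intro h
    refine ⟨fun x y => ?_⟩
    have hx := h x
    have hy := h y
    rw [pow_zero, one_smul] at hx hy
    rw [hx, hy]
  | succ n ih =>
    intro h
    apply ih
    intro x
    obtain ⟨φ, rfl⟩ := homToT1_surjective P M x
    let u : M ≃ₗ[B] M := LinearEquiv.ofBijective (LinearMap.lsmul B M c) hc
    have hφ : φ = c • (u.symm.toLinearMap ∘ₗ φ) := by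
      ext y
      simp only [LinearMap.smul_apply, LinearMap.comp_apply, LinearEquiv.coe_coe]
      have : c • u.symm (φ y) = u (u.symm (φ y)) := rfl
      rw [this, LinearEquiv.apply_symm_apply]
    rw [hφ, map_smul, smul_smul, ← pow_succ]
    exact h _

lemma exists_pow_retraction [Finite ι] (hN : Module.Finite B P.toExtension.Cotangent) (c : B)
    (h0 : Subsingleton
      (T1 P (LocalizedModule (Submonoid.powers c) P.toExtension.Cotangent))) :
    ∃ (n : ℕ) (ψ : P.toExtension.CotangentSpace →ₗ[B] P.toExtension.Cotangent),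
      ψ ∘ₗ P.toExtension.cotangentComplex = c ^ n • LinearMap.id := by
  classical
  cases nonempty_fintype ι
  let S := Submonoid.powers c
  let ℓ : P.toExtension.Cotangent →ₗ[B] LocalizedModule S P.toExtension.Cotangent :=
    LocalizedModule.mkLinearMap S P.toExtension.Cotangent
  have hℓ : ℓ ∈ LinearMap.ker (homToT1 P (LocalizedModule S P.toExtension.Cotangent)) := by
    rw [LinearMap.mem_ker]
    exact Subsingleton.elim _ _
  rw [ker_homToT1] at hℓ
  obtain ⟨χ, hχ⟩ := hℓ
  have hχ' : ∀ y, χ (P.toExtension.cotangentComplex y) = ℓ y := fun y =>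
    LinearMap.congr_fun hχ y
  let b : Module.Basis ι B P.toExtension.CotangentSpace := P.toGenerators.cotangentSpaceBasis
  have hsurj : ∀ i, ∃ x : P.toExtension.Cotangent × S, x.2 • χ (b i) = ℓ x.1 := fun i =>
    IsLocalizedModule.surj S ℓ (χ (b i))
  choose x hx using hsurj
  have hx' : ∀ i, ((x i).2 : B) • χ (b i) = ℓ (x i).1 := fun i => hx i
  let s : B := ∏ i, ((x i).2 : B)
  have hsS : s ∈ S := prod_mem fun i _ => (x i).2.2
  let n' : ι → P.toExtension.Cotangent := fun i =>
    (∏ j ∈ Finset.univ.erase i, ((x j).2 : B)) • (x i).1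
  let ψ : P.toExtension.CotangentSpace →ₗ[B] P.toExtension.Cotangent := b.constr B n'
  have h1 : ℓ ∘ₗ ψ = s • χ := by
    refine b.ext fun i => ?_
    have hs : ((x i).2 : B) * ∏ j ∈ Finset.univ.erase i, ((x j).2 : B) = s :=
      Finset.mul_prod_erase Finset.univ (fun j => ((x j).2 : B)) (Finset.mem_univ i)
    rw [LinearMap.comp_apply, Module.Basis.constr_basis, LinearMap.smul_apply, map_smul, ← hx' i,
      smul_smul, mul_comm, hs]
  have h2 : ∀ y : P.toExtension.Cotangent,
      ℓ (ψ (P.toExtension.cotangentComplex y) - s • y) = 0 := by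
    intro y
    have := LinearMap.congr_fun h1 (P.toExtension.cotangentComplex y)
    rw [LinearMap.comp_apply, LinearMap.smul_apply, hχ'] at this
    rw [map_sub, this, map_smul, sub_self]
  obtain ⟨G, hG⟩ := hN.fg_top
  have h3 : ∀ g : P.toExtension.Cotangent, ∃ s' : S,
      s' • (ψ (P.toExtension.cotangentComplex g) - s • g) = 0 := fun g =>
    (IsLocalizedModule.eq_zero_iff S ℓ).mp (h2 g)
  choose s' hs' using h3
  have hs'' : ∀ g, ((s' g : S) : B) • (ψ (P.toExtension.cotangentComplex g) - s • g) = 0 :=
    fun g => hs' g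
  let S' : B := ∏ g ∈ G, ((s' g : S) : B)
  have hS'S : S' ∈ S := prod_mem fun g _ => (s' g).2
  have h4 : ∀ g ∈ G, S' • (ψ (P.toExtension.cotangentComplex g) - s • g) = 0 := by
    intro g hg
    have : S' = (∏ g' ∈ G.erase g, ((s' g' : S) : B)) * ((s' g : S) : B) := by
      rw [mul_comm]
      exact (Finset.mul_prod_erase G (fun g' => ((s' g' : S) : B)) hg).symm
    rw [this, mul_smul, hs'', smul_zero]
  have h5 : (S' • ψ) ∘ₗ P.toExtension.cotangentComplex = (S' * s) • LinearMap.id := by
    refine LinearMap.ext_on hG ?_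
    intro g hg
    have := h4 g hg
    rw [smul_sub, sub_eq_zero] at this
    simp only [LinearMap.comp_apply, LinearMap.smul_apply, LinearMap.id_apply]
    rw [this, smul_smul]
  obtain ⟨n, hn⟩ := S.mul_mem hS'S hsS
  refine ⟨n, S' • ψ, ?_⟩
  rw [h5]
  congr 1
  exact hn.symm

end General

section Loc

variable (A B : Type u) [CommRing A] [CommRing B] [Algebra A B] (c : B)

/-- for modules over `B[1/c]`, `T¹(B[1/c]/A, M) = 0 ↔ T¹(B/A, M) = 0` -/
theorem subsingleton_T1_away_iff (M : Type u) [AddCommGroup M] [Module (Localization.Away c) M]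
    [Module B M] [IsScalarTower B (Localization.Away c) M] :
    Subsingleton (CotT.T1 (CotT.canon A (Localization.Away c)) M) ↔
      Subsingleton (CotT.T1 (CotT.canon A B) M) := by
  obtain ⟨-, -, hex1, -, δ₀, δ₁, -, -, hexδ, -⟩ :=
    Groth.Agent.S12285.result A B (Localization.Away c) M
  constructor
  · intro h
    haveI := CT4.subsingleton_T2_localization B (Localization.Away c) (Submonoid.powers c) M
    exact CT4.subsingleton_of_exact _ _ hexδ
  · intro h
    haveI : Algebra.FormallyEtale B (Localization.Away c) :=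
      Algebra.FormallyEtale.of_isLocalization (Submonoid.powers c)
    haveI : Subsingleton (CotT.T1 (CotT.canon B (Localization.Away c)) M) :=
      (CT5.formallySmooth_iff_T1 B (Localization.Away c)).mp inferInstance M
    exact CT4.subsingleton_of_exact _ _ hex1

end Loc

theorem main12305 (A B : Type u) [CommRing A] [CommRing B] [IsNoetherianRing A]
    [Algebra A B] [Algebra.FiniteType A B] (c : B) :
    (∀ q : PrimeSpectrum B, c ∉ q.asIdeal → q ∈ Algebra.smoothLocus A B) ↔
    ∃ n₀ : ℕ, ∀ (M : Type u) [AddCommGroup M] [Module B M] [Module.Finite B M],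
      ∀ x : CotT.T1 (CotT.canon A B) M, c ^ n₀ • x = 0 := by
  classical
  haveI : Algebra.FinitePresentation A B := Algebra.FinitePresentation.of_finiteType.mp inferInstance
  have hiff : (∀ q : PrimeSpectrum B, c ∉ q.asIdeal → q ∈ Algebra.smoothLocus A B) ↔
      Algebra.FormallySmooth A (Localization.Away c) := by
    rw [← Algebra.basicOpen_subset_smoothLocus_iff]
    constructor
    · intro h q hq
      exact h q hq
    · intro h q hq
      exact h hq
  rw [hiff, CT5.formallySmooth_iff_T1]
  -- a finite presentation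
  let P₀ := Algebra.Presentation.ofFinitePresentation A B
  have hN : Module.Finite B P₀.toExtension.Cotangent := by
    apply Algebra.Extension.Cotangent.finite
    have : P₀.toExtension.ker = P₀.ker := rfl
    rw [this, ← P₀.span_range_relation_eq_ker]
    exact Submodule.fg_span (Set.finite_range _)
  have hbij : ∀ (M : Type u) [AddCommGroup M] [Module (Localization.Away c) M] [Module B M]
      [IsScalarTower B (Localization.Away c) M], Function.Bijective (fun y : M => c • y) := by
    intro M _ _ _ _
    have hu := CT3.isUnit_algebraMap_end (Submonoid.powers c) (Localization.Away c) M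
      ⟨c, Submonoid.mem_powers c⟩
    exact (Module.End.isUnit_iff _).mp hu
  constructor
  · intro h
    -- `T¹(B/A, M') = 0` for modules over the localisation
    have h1 : Subsingleton (CotT.T1 P₀
        (LocalizedModule (Submonoid.powers c) P₀.toExtension.Cotangent)) := by
      have h2 := (subsingleton_T1_away_iff A B c
        (LocalizedModule (Submonoid.powers c) P₀.toExtension.Cotangent)).mp (h _)
      exact (T1equiv P₀ (CotT.canon A B) _).toEquiv.subsingleton
    obtain ⟨n, ψ, hψ⟩ := exists_pow_retraction P₀ hN c h1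
    refine ⟨n, ?_⟩
    intro M _ _ _ x
    have := smul_T1_eq_zero_of_retraction P₀ (c ^ n) ψ hψ M (T1equiv (CotT.canon A B) P₀ M x)
    rw [← map_smul] at this
    exact (T1equiv (CotT.canon A B) P₀ M).injective (this.trans (map_zero _).symm)
  · rintro ⟨n₀, h⟩ M _ _
    letI : Module B M := Module.compHom M (algebraMap B (Localization.Away c))
    haveI : IsScalarTower B (Localization.Away c) M :=
      IsScalarTower.of_algebraMap_smul fun _ _ => rfl
    rw [subsingleton_T1_away_iff A B c M]
    -- a retraction up to `c ^ n₀`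
    have h1 : ∀ x : CotT.T1 P₀ P₀.toExtension.Cotangent, c ^ n₀ • x = 0 := by
      intro x
      have := h P₀.toExtension.Cotangent (T1equiv P₀ (CotT.canon A B) _ x)
      rw [← map_smul] at this
      exact (T1equiv P₀ (CotT.canon A B) _).injective (this.trans (map_zero _).symm)
    obtain ⟨ψ, hψ⟩ := exists_retraction_of_smul_T1_eq_zero P₀ (c ^ n₀) h1
    have h2 : Subsingleton (CotT.T1 P₀ M) :=
      subsingleton_T1_of_smul_bijective P₀ c M (hbij M) n₀
        (fun x => smul_T1_eq_zero_of_retraction P₀ (c ^ n₀) ψ hψ M x)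
    exact (T1equiv (CotT.canon A B) P₀ M).toEquiv.subsingleton

end Groth.Agent.Helper3.CT8
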