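import Mathlib
import Groth.Agent.Lib.Helper3.CT6
import Groth.Agent.Lib.Helper18.CotT.Exact
import Groth.Agent.Lib.Helper8.Canon9

/-!
# `T²(B/k, B) ≅ Ext¹(I/I², B)` for reduced `B` (helper3)

For a surjection `R → B` from a regular ring onto a reduced ring with kernel generated by `rel`, the
kernel of `d₂ : L₂ → L₁` vanishes at every minimal prime of `B` (there `B_p` is a field, so a
complete intersection in `R_q`, and `T² = 0`).  Hence every map `L₂ → B` kills `ker d₂`, and
`T²(B) = Hom(L₂,B)/Hom(L₁,B) = Hom(K,B)/Hom(L₁,B) = Ext¹(L₁/K, B)` for `K = im d₂`.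
-/

set_option autoImplicit false
set_option linter.style.haveILetI false

open TensorProduct

noncomputable section

namespace Groth.Agent.Helper3.CT9

open Groth.Agent.Helper18.GenT CategoryTheory

universe u

section Local

variable {R B : Type u} [CommRing R] [CommRing B] [Algebra R B] {σ : Type u} (rel : σ → R)
  (hrel : ∀ s, algebraMap R B (rel s) = 0)

/-- every element of `B ⊗ Q` is of the form `1 ⊗ q` when `R → B` is surjective -/
lemma exists_one_tmul (hs : Function.Surjective (algebraMap R B)) (z : B ⊗[R] gQ rel) :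
    ∃ q : gQ rel, z = (1 : B) ⊗ₜ[R] q := by
  induction z using TensorProduct.induction_on with
  | zero => exact ⟨0, by simp⟩
  | tmul b q =>
    obtain ⟨r, rfl⟩ := hs b
    refine ⟨r • q, ?_⟩
    rw [TensorProduct.tmul_smul, TensorProduct.smul_tmul', Algebra.smul_def, mul_one]
  | add x y hx hy =>
    obtain ⟨q, rfl⟩ := hx
    obtain ⟨q', rfl⟩ := hy
    exact ⟨q + q', by rw [TensorProduct.tmul_add]⟩

/-- coordinates of an element `f` with `1 ⊗ f = 0` in `B ⊗ F` lie in the kernel -/
lemma algebraMap_apply_eq_zero_of_one_tmul_eq_zero (f : σ →₀ R)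
    (hf : (1 : B) ⊗ₜ[R] f = (0 : gL1 (R := R) B (σ := σ))) (s : σ) :
    algebraMap R B (f s) = 0 := by
  let ev : gL1 (R := R) B (σ := σ) →ₗ[B] B :=
    LinearMap.liftBaseChange B ((Algebra.linearMap R B) ∘ₗ (Finsupp.lapply s))
  have h := congrArg ev hf
  simpa [ev] using h

theorem exists_smul_eq_zero_of_mem_ker_gd2 [IsRegularRing R] [IsReduced B]
    (hs : Function.Surjective (algebraMap R B))
    (hker : Ideal.span (Set.range rel) = RingHom.ker (algebraMap R B))
    (x : gL2 B rel) (hx : gd2 rel hrel x = 0) (p : Ideal B) (hp : p ∈ minimalPrimes B) :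
    ∃ t ∉ p, t • x = 0 := by
  classical
  haveI : p.IsPrime := hp.1.1
  let q : Ideal R := p.comap (algebraMap R B)
  haveI : q.IsPrime := Ideal.comap_isPrime _ _
  let R' := Localization.AtPrime q
  let B' := Localization.AtPrime p
  let fP : R' →+* B' := Localization.localRingHom q p (algebraMap R B) rfl
  have hsurj : Function.Surjective fP :=
    RingHom.surjective_localRingHom_of_surjective (algebraMap R B) hs p
  letI algRB' : Algebra R' B' := fP.toAlgebra
  have hfP : ∀ r : R, fP (algebraMap R R' r) = algebraMap B B' (algebraMap R B r) := fun r =>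
    Localization.localRingHom_to_map q p (algebraMap R B) rfl r
  -- `B'` is a field
  haveI : Ring.KrullDimLE 0 B' := .of_isLocalization _ hp _
  have hfield : IsField B' := Ring.KrullDimLE.isField_of_isReduced
  have hmaxB : IsLocalRing.maximalIdeal B' = ⊥ := by
    letI := hfield.toField
    exact IsLocalRing.maximalIdeal_eq_bot
  haveI : IsRegularLocalRing B' := by
    letI := hfield.toField
    infer_instance
  haveI : IsRegularLocalRing R' := IsRegularRing.isRegularLocalRing_localization q
  -- the module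
  let M := LocalizedModule p.primeCompl (gL2 B rel)
  letI modR' : Module R' M := Module.compHom M fP
  haveI : IsScalarTower R' B' M := IsScalarTower.of_algebraMap_smul fun _ _ => rfl
  have hRsmul : ∀ (r : R) (m : M), r • m = (algebraMap R B r) • m := fun r m =>
    (algebraMap_smul B r m).symm
  haveI : IsScalarTower R R' M := IsScalarTower.of_algebraMap_smul fun r m => by
    change fP (algebraMap R R' r) • m = _
    rw [hfP, algebraMap_smul, algebraMap_smul]
  let rel' : σ → R' := fun s => algebraMap R R' (rel s)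
  have hrel' : ∀ s, algebraMap R' B' (rel' s) = 0 := by
    intro s
    change fP (algebraMap R R' (rel s)) = 0
    rw [hfP, hrel, map_zero]
  -- kernel
  have hkerq : RingHom.ker (algebraMap R B) ≤ q := by
    intro x hx
    change algebraMap R B x ∈ p
    rw [RingHom.mem_ker.mp hx]
    exact zero_mem _
  have hmapq : q.map (algebraMap R R') ≤ (RingHom.ker (algebraMap R B)).map (algebraMap R R') := by
    rw [Ideal.map_le_iff_le_comap]
    intro x hx
    rw [Ideal.mem_comap]
    have h1 : algebraMap B B' (algebraMap R B x) = 0 := by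
      rw [← Ideal.mem_bot, ← hmaxB, ← Localization.AtPrime.map_eq_maximalIdeal]
      exact Ideal.mem_map_of_mem _ hx
    obtain ⟨⟨m, hmp⟩, hm⟩ := (IsLocalization.map_eq_zero_iff p.primeCompl B' _).mp h1
    obtain ⟨r, rfl⟩ := hs m
    have hrq : r ∈ q.primeCompl := hmp
    have hrx : r * x ∈ RingHom.ker (algebraMap R B) := by
      rw [RingHom.mem_ker, map_mul]
      exact hm
    obtain ⟨u, hu⟩ := IsLocalization.map_units R' (⟨r, hrq⟩ : q.primeCompl)
    have h2 : algebraMap R R' x = (↑u⁻¹ : R') * algebraMap R R' (r * x) := by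
      rw [map_mul, ← mul_assoc]
      change _ = (↑u⁻¹ : R') * algebraMap R R' ((⟨r, hrq⟩ : q.primeCompl) : R) * _
      rw [← hu, Units.inv_mul, one_mul]
    rw [h2]
    exact Ideal.mul_mem_left _ _ (Ideal.mem_map_of_mem _ hrx)
  have hker' : Ideal.span (Set.range rel') = RingHom.ker (algebraMap R' B') := by
    have h1 : Ideal.span (Set.range rel') = (RingHom.ker (algebraMap R B)).map (algebraMap R R') := by
      rw [← hker, Ideal.map_span, ← Set.range_comp]
      rfl
    have h2 : (RingHom.ker (algebraMap R B)).map (algebraMap R R') = IsLocalRing.maximalIdeal R' := by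
      apply le_antisymm
      · rw [← Localization.AtPrime.map_eq_maximalIdeal]
        exact Ideal.map_mono hkerq
      · rw [← Localization.AtPrime.map_eq_maximalIdeal]
        exact hmapq
    have h3 : RingHom.ker (algebraMap R' B') = IsLocalRing.maximalIdeal R' := by
      letI := hfield.toField
      haveI : (RingHom.ker fP).IsMaximal := RingHom.ker_isMaximal_of_surjective fP hsurj
      exact IsLocalRing.eq_maximalIdeal ‹_›
    rw [h1, h2, h3]
  -- vanishing of `T²`
  have hT2 : Subsingleton (CotT.T2 (CotT.canon R' B') M) :=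
    CT6.subsingleton_T2_of_regular_surjective R' B' hsurj M
  obtain ⟨e⟩ := CT3.nonempty_T2_canon_equiv_gT2 R' B' hsurj rel' hker' hrel' M
  haveI : Subsingleton (gT2 rel' hrel' M) := e.symm.injective.subsingleton
  have hExt' : CT3.ExtProp rel' M := (CT3.subsingleton_gT2_iff rel' hrel' M).mp inferInstance
  have hExt : CT3.ExtProp rel M := CT3.extProp_of_localization q.primeCompl R' rel M hExt'
  -- the canonical map
  let ψ₀ : gQ rel →ₗ[R] M :=
    { toFun := fun a => LocalizedModule.mkLinearMap p.primeCompl (gL2 B rel)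
        (Submodule.Quotient.mk ((1 : B) ⊗ₜ[R] a))
      map_add' := fun a b => by
        rw [TensorProduct.tmul_add, Submodule.Quotient.mk_add, map_add]
      map_smul' := fun r a => by
        rw [RingHom.id_apply, hRsmul, TensorProduct.tmul_smul, TensorProduct.smul_tmul',
          Algebra.smul_def, mul_one]
        have : ((algebraMap R B r) ⊗ₜ[R] a : B ⊗[R] gQ rel) = (algebraMap R B r) • ((1 : B) ⊗ₜ[R] a) := by
          rw [TensorProduct.smul_tmul', smul_eq_mul, mul_one]
        rw [this, Submodule.Quotient.mk_smul, map_smul] }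
  have hψ₀ : ∀ a : gQ rel, (a : σ →₀ R) ∈ gF0 rel → ψ₀ a = 0 := by
    intro a ha
    have h1 : (Submodule.Quotient.mk ((1 : B) ⊗ₜ[R] a) : gL2 B rel) = 0 := by
      rw [Submodule.Quotient.mk_eq_zero]
      exact ⟨(1 : B) ⊗ₜ[R] (⟨a, ha⟩ : gF0Q rel), by simp⟩
    change LocalizedModule.mkLinearMap p.primeCompl (gL2 B rel) _ = 0
    rw [h1, map_zero]
  obtain ⟨φ₀, hφ₀⟩ := hExt ψ₀ hψ₀
  -- the element
  obtain ⟨z, rfl⟩ := Submodule.Quotient.mk_surjective _ x
  obtain ⟨a, rfl⟩ := exists_one_tmul rel hs z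
  have hx' : (1 : B) ⊗ₜ[R] (a : σ →₀ R) = (0 : gL1 (R := R) B (σ := σ)) := by
    rw [← hx]
    exact (gd2_mk_tmul rel hrel 1 a).symm
  have hcoord := algebraMap_apply_eq_zero_of_one_tmul_eq_zero (a : σ →₀ R) hx'
  have hφa : φ₀ (a : σ →₀ R) = 0 := by
    conv_lhs => rw [← Finsupp.sum_single (a : σ →₀ R)]
    rw [Finsupp.sum, map_sum]
    refine Finset.sum_eq_zero fun s _ => ?_
    rw [← Finsupp.smul_single_one, map_smul, hRsmul, hcoord, zero_smul]
  have h0 : ψ₀ a = 0 := by rw [← hφ₀, hφa]
  change LocalizedModule.mkLinearMap p.primeCompl (gL2 B rel) _ = 0 at h0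
  obtain ⟨c, hc⟩ := (IsLocalizedModule.eq_zero_iff p.primeCompl
    (LocalizedModule.mkLinearMap p.primeCompl (gL2 B rel))).mp h0
  exact ⟨c.1, c.2, hc⟩

/-- every `B`-linear map `L₂ → B` kills the kernel of `d₂` when `B` is reduced -/
theorem apply_eq_zero_of_mem_ker_gd2 [IsRegularRing R] [IsReduced B]
    (hs : Function.Surjective (algebraMap R B))
    (hker : Ideal.span (Set.range rel) = RingHom.ker (algebraMap R B))
    (φ : gL2 B rel →ₗ[B] B) (x : gL2 B rel) (hx : gd2 rel hrel x = 0) : φ x = 0 := by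
  have h1 : φ x ∈ sInf (minimalPrimes B) := by
    rw [Ideal.mem_sInf]
    intro p hp
    haveI : p.IsPrime := hp.1.1
    obtain ⟨t, htp, htx⟩ := exists_smul_eq_zero_of_mem_ker_gd2 rel hrel hs hker x hx p hp
    have h2 : t * φ x = 0 := by rw [← smul_eq_mul, ← map_smul, htx, map_zero]
    exact (Ideal.IsPrime.mem_or_mem_of_mul_eq_zero ‹_› h2).resolve_left htp
  have h2 : sInf (minimalPrimes B) = ⊥ := by
    have : minimalPrimes B = (⊥ : Ideal B).minimalPrimes := rfl
    rw [this, Ideal.sInf_minimalPrimes]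
    exact nilradical_eq_zero B
  rw [h2] at h1
  exact h1

end Local

section Main

open Groth.Agent.Helper8.Canon Groth.Agent.Helper8.LC

theorem nonempty_coker_equiv_ext {B : Type u} [CommRing B] {L2 L1 C : Type u}
    [AddCommGroup L2] [Module B L2] [AddCommGroup L1] [Module B L1] [AddCommGroup C] [Module B C]
    [Module.Projective B L1] (d : L2 →ₗ[B] L1) (π : L1 →ₗ[B] C)
    (hπ : Function.Surjective π) (hex : LinearMap.range d = LinearMap.ker π)
    (hkill : ∀ (φ : L2 →ₗ[B] B) (x : L2), d x = 0 → φ x = 0) :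
    Nonempty (((L2 →ₗ[B] B) ⧸ LinearMap.range (LinearMap.lcomp B B d)) ≃ₗ[B]
      Abelian.Ext (ModuleCat.of B C) (ModuleCat.of B B) 1) := by
  classical
  let K : Submodule B L1 := LinearMap.ker π
  have hS : IsSES (R := B) K.subtype π := by
    refine ⟨K.injective_subtype, ?_, hπ⟩
    intro y
    change π y = 0 ↔ y ∈ LinearMap.range K.subtype
    rw [Submodule.range_subtype]
    exact Iff.rfl
  haveI : Projective (ModuleCat.of B L1) :=
    (IsProjective.iff_projective _).mp inferInstance
  let δ := homδ hS B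
  have hδs : Function.Surjective δ := homδ_surjective hS B
  have hδe : Function.Exact (LinearMap.lcomp B B K.subtype) δ := homδ_exact hS B
  -- `d₂` with values in `K`
  let d2' : L2 →ₗ[B] K := LinearMap.codRestrict K d (fun x => by
    change d x ∈ LinearMap.ker π
    rw [← hex]
    exact LinearMap.mem_range_self _ x)
  have hd2's : Function.Surjective d2' := by
    rintro ⟨y, hy⟩
    have hy' : y ∈ LinearMap.range d := by rw [hex]; exact hy
    obtain ⟨x, rfl⟩ := hy'
    exact ⟨x, Subtype.ext rfl⟩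
  have hd2'k : ∀ x, d2' x = 0 → d x = 0 := fun x hx => congrArg Subtype.val hx
  let Ψ : (K →ₗ[B] B) →ₗ[B] ((L2 →ₗ[B] B) ⧸ LinearMap.range (LinearMap.lcomp B B d)) :=
    (LinearMap.range (LinearMap.lcomp B B d)).mkQ ∘ₗ LinearMap.lcomp B B d2'
  have hΨs : Function.Surjective Ψ := by
    intro y
    obtain ⟨φ, rfl⟩ := Submodule.Quotient.mk_surjective _ y
    have hφ : LinearMap.ker d2' ≤ LinearMap.ker φ := fun x hx =>
      hkill φ x (hd2'k x hx)
    let eq := LinearMap.quotKerEquivOfSurjective d2' hd2's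
    let ψ : K →ₗ[B] B := (LinearMap.ker d2').liftQ φ hφ ∘ₗ eq.symm.toLinearMap
    refine ⟨ψ, ?_⟩
    change Submodule.Quotient.mk (ψ ∘ₗ d2') = _
    congr 1
    ext x
    change (LinearMap.ker d2').liftQ φ hφ (eq.symm (d2' x)) = φ x
    have : eq.symm (d2' x) = Submodule.Quotient.mk x := by
      rw [LinearEquiv.symm_apply_eq]
      rfl
    rw [this]
    rfl
  have hΨk : LinearMap.ker Ψ = LinearMap.ker δ := by
    ext ψ
    rw [LinearMap.mem_ker, LinearMap.mem_ker, hδe ψ]
    change Submodule.Quotient.mk (ψ ∘ₗ d2') = 0 ↔ _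
    rw [Submodule.Quotient.mk_eq_zero]
    constructor
    · rintro ⟨χ, hχ⟩
      refine ⟨χ, ?_⟩
      ext y
      obtain ⟨x, rfl⟩ := hd2's y
      have := LinearMap.congr_fun hχ x
      exact this
    · rintro ⟨χ, rfl⟩
      exact ⟨χ, rfl⟩
  exact ⟨(Ψ.quotKerEquivOfSurjective hΨs).symm ≪≫ₗ Submodule.quotEquivOfEq _ _ hΨk ≪≫ₗ
    δ.quotKerEquivOfSurjective hδs⟩

variable {R B : Type u} [CommRing R] [CommRing B] [Algebra R B] {σ : Type u} (rel : σ → R)
  (hrel : ∀ s, algebraMap R B (rel s) = 0)

theorem nonempty_gT2_equiv_ext [IsRegularRing R] [IsReduced B]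
    (hs : Function.Surjective (algebraMap R B))
    (hker : Ideal.span (Set.range rel) = RingHom.ker (algebraMap R B))
    {C : Type u} [AddCommGroup C] [Module B C] (π : gL1 (R := R) B (σ := σ) →ₗ[B] C)
    (hπ : Function.Surjective π)
    (hex : LinearMap.range (gd2 rel hrel) = LinearMap.ker π) :
    Nonempty (gT2 rel hrel B ≃ₗ[B] Abelian.Ext (ModuleCat.of B C) (ModuleCat.of B B) 1) :=
  nonempty_coker_equiv_ext (gd2 rel hrel) π hπ hex
    (apply_eq_zero_of_mem_ker_gd2 rel hrel hs hker)

end Main

section Pres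

theorem main12269 {k : Type u} [Field k] (B₀ : Type u) [CommRing B₀] [Algebra k B₀] {ι σ : Type u}
    [Finite ι] (P : Algebra.Presentation k B₀ ι σ) [IsReduced B₀] :
    Nonempty (CotT.T2 P B₀ ≃ₗ[B₀]
      Abelian.Ext (ModuleCat.of B₀ P.toExtension.Cotangent) (ModuleCat.of B₀ B₀) 1) := by
  haveI : IsRegularRing P.toExtension.Ring := inferInstanceAs (IsRegularRing (MvPolynomial ι k))
  exact nonempty_gT2_equiv_ext (R := P.toExtension.Ring) (CotT.rel P) (CotT.algebraMap_rel P)
    P.algebraMap_surjective P.span_range_relation_eq_ker (CotT.toCot P)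
    (Groth.Agent.Helper18.CotTLib.toCot_surjective P)
    (Groth.Agent.Helper18.CotTLib.range_d2_eq_ker_toCot P)

end Pres

end Groth.Agent.Helper3.CT9
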