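import Mathlib
import Groth.Prelude.Def_BlowUp2

set_option autoImplicit false
universe u
open CategoryTheory CategoryTheory.Limits AlgebraicGeometry

namespace Groth.Agent.Helper3.Cartier2

/-- On an affine open where the ideal is principal, the complement of the support is the basic
open set. -/
theorem compl_support_inf {S : Scheme.{u}} (D : S.IdealSheafData) (U : S.affineOpens)
    (f : Γ(S, U.1)) (hf : D.ideal U = Ideal.span {f}) :
    D.support.compl ⊓ U.1 = S.basicOpen f := by
  ext x
  have h1 := D.coe_support_inter U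
  rw [hf, Scheme.zeroLocus_span, Scheme.zeroLocus_singleton] at h1
  constructor
  · rintro ⟨hx1, hx2⟩
    by_contra hx3
    have : x ∈ (D.support : Set S) ∩ U := h1.ge ⟨hx3, hx2⟩
    exact hx1 this.1
  · intro hx
    have hxU : x ∈ U.1 := S.basicOpen_le f hx
    refine ⟨fun hx1 => ?_, hxU⟩
    have : x ∈ ((S.basicOpen f : S.Opens) : Set S)ᶜ ∩ U := h1.le ⟨hx1, hxU⟩
    exact this.1 hx

theorem restrict_injective {S : Scheme.{u}} {U : S.Opens} (hU : IsAffineOpen U)
    (f : Γ(S, U)) (hf : f ∈ nonZeroDivisors Γ(S, U)) (V : S.Opens) (hV : V = S.basicOpen f)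
    (hle : V ≤ U) : Function.Injective (S.presheaf.map (homOfLE hle).op).hom := by
  subst hV
  have := hU.isLocalization_basicOpen f
  have := IsLocalization.injective (M := Submonoid.powers f) Γ(S, S.basicOpen f)
    (Submonoid.powers_le.mpr hf)
  exact this

end Groth.Agent.Helper3.Cartier2

namespace Groth.Agent.Helper3.Cartier2

theorem preimage_affine {S : Scheme.{u}} (D : S.IdealSheafData) (U : S.affineOpens)
    (f : Γ(S, U.1)) (hf : D.ideal U = Ideal.span {f}) :
    IsAffineOpen ((Scheme.Opens.ι (X := S) D.support.compl) ⁻¹ᵁ U.1) := by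
  rw [← Scheme.Hom.isAffineOpen_iff_of_isOpenImmersion (Scheme.Opens.ι (X := S) D.support.compl),
    Scheme.Hom.image_preimage_eq_opensRange_inf, Scheme.Opens.opensRange_ι,
    compl_support_inf D U f hf]
  exact U.2.basicOpen f

theorem complement_effCartier (S : Scheme.{u}) (D : S.IdealSheafData)
    (hD : BlowUp.IsEffCartierIdeal D) :
    IsAffineHom (Scheme.Opens.ι (X := S) D.support.compl) ∧
      IsSchemeTheoreticallyDominant (Scheme.Opens.ι (X := S) D.support.compl) := by
  choose U hxU f hfnzd hf using hD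
  have haff : IsAffineHom (Scheme.Opens.ι (X := S) D.support.compl) := by
    refine isAffineHom_of_forall_exists_isAffineOpen _ fun x => ⟨(U x).1, hxU x, (U x).2, ?_⟩
    exact preimage_affine D (U x) (f x) (hf x)
  refine ⟨haff, ?_⟩
  rw [isSchemeTheoreticallyDominant_iff]
  refine Scheme.IdealSheafData.ext_of_iSup_eq_top U ?_ fun x => ?_
  · exact top_le_iff.mp (fun x _ ↦ by simpa using ⟨x, hxU x⟩)
  · rw [Scheme.Hom.ker_apply, Scheme.IdealSheafData.ideal_bot, Pi.bot_apply,
      ← RingHom.injective_iff_ker_eq_bot, Scheme.Opens.ι_app]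
    refine restrict_injective (U x).2 (f x) (hfnzd x) _ ?_ _
    rw [Scheme.Hom.image_preimage_eq_opensRange_inf, Scheme.Opens.opensRange_ι,
      compl_support_inf D (U x) (f x) (hf x)]

end Groth.Agent.Helper3.Cartier2
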