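import Mathlib
import Groth.Agent.Lib.Helper9.Cartier6
import Groth.Agent.Lib.Helper14.PerfectSmooth

/-!
# Cartier's equality in terms of `H¹` of the naive cotangent complex
-/

set_option autoImplicit false
universe u v

open TensorProduct KaehlerDifferential

namespace Groth.Agent.Helper3.CartierH1

open Groth.Agent.Helper9.Cartier Groth.Agent.Helper9.Imperf

section generic

variable (k₀ : Type v) (K L : Type u) [CommRing k₀] [Field K] [Field L]
  [Algebra K L] [Algebra k₀ K] [Algebra k₀ L] [IsScalarTower k₀ K L]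

/-- If `L` is formally smooth over `k₀`, then `H¹(L/K)` is the imperfection module `Υ_{L/K/k₀}`. -/
noncomputable def h1Equiv [Algebra.FormallySmooth k₀ L] :
    Algebra.H1Cotangent K L ≃ₗ[L] EGA41.imperfection k₀ K L := by
  have hsub : Subsingleton (Algebra.H1Cotangent k₀ L) :=
    Algebra.FormallySmooth.subsingleton_h1Cotangent
  have hδ : Function.Injective (Algebra.H1Cotangent.δ k₀ K L) := by
    rw [injective_iff_map_eq_zero]
    intro x hx
    obtain ⟨y, rfl⟩ := (Algebra.H1Cotangent.exact_map_δ k₀ K L x).mp hx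
    rw [Subsingleton.elim y 0, map_zero]
  have hr : LinearMap.range (Algebra.H1Cotangent.δ k₀ K L) = EGA41.imperfection k₀ K L :=
    (Algebra.H1Cotangent.exact_δ_mapBaseChange k₀ K L).linearMap_ker_eq.symm
  exact (LinearEquiv.ofInjective _ hδ).trans (LinearEquiv.ofEq _ _ hr)

variable {k₀ K L} in
theorem cartier_generic [Algebra.FormallySmooth k₀ L] [Algebra.EssFiniteType K L]
    (hK : ∀ c : k₀, D ℤ K (algebraMap k₀ K c) = 0)
    (hL : ∀ c : k₀, D ℤ L (algebraMap k₀ L c) = 0) :
    Module.Finite L (Ω[L⁄K]) ∧ Module.Finite L (Algebra.H1Cotangent K L) ∧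
      (Module.finrank L (Ω[L⁄K]) : ℤ) - Module.finrank L (Algebra.H1Cotangent K L) =
        Cardinal.toNat (Algebra.trdeg K L) := by
  obtain ⟨h1, h2, -, h4⟩ := P.of_essFiniteType K L
  have e1 := h1Equiv k₀ K L
  have e2 := imperfEquiv (a := ℤ) (b := k₀) (K := K) (L := L)
    (map_injective_of_D_eq_zero hK) (map_injective_of_D_eq_zero hL)
  have e := e1.trans e2.symm
  refine ⟨h1, Module.Finite.equiv e.symm, ?_⟩
  rw [e.finrank_eq]
  exact h4

end generic

/-- Cartier's equality: for a finitely generated field extension `L/K`,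
`dim Ω_{L/K} - dim H¹(L/K) = trdeg_K L`. -/
theorem cartier (K L : Type u) [Field K] [Field L] [Algebra K L] [Algebra.EssFiniteType K L] :
    Module.Finite L (Ω[L⁄K]) ∧ Module.Finite L (Algebra.H1Cotangent K L) ∧
      (Module.finrank L (Ω[L⁄K]) : ℤ) - Module.finrank L (Algebra.H1Cotangent K L) =
        Cardinal.toNat (Algebra.trdeg K L) := by
  obtain ⟨p, hp⟩ := CharP.exists K
  rcases CharP.char_is_prime_or_zero K p with hpp | rfl
  · haveI : Fact p.Prime := ⟨hpp⟩
    letI : Algebra (ZMod p) K := ZMod.algebra K p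
    haveI : CharP L p := charP_of_injective_algebraMap (algebraMap K L).injective p
    letI : Algebra (ZMod p) L := ZMod.algebra L p
    haveI : IsScalarTower (ZMod p) K L := IsScalarTower.of_algebraMap_eq' (Subsingleton.elim _ _)
    haveI := Groth.Agent.Helper14.PerfectSmooth.formallySmooth_zmod p L
    refine cartier_generic (k₀ := ZMod p) ?_ ?_
    · intro c
      rw [← ZMod.natCast_zmod_val c, map_natCast]
      exact Derivation.map_natCast _ _
    · intro c
      rw [← ZMod.natCast_zmod_val c, map_natCast]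
      exact Derivation.map_natCast _ _
  · haveI : CharZero K := CharP.charP_to_charZero K
    haveI : CharZero L := charZero_of_injective_algebraMap (algebraMap K L).injective
    haveI : IsScalarTower ℚ K L := IsScalarTower.of_algebraMap_eq' (Subsingleton.elim _ _)
    haveI := Groth.Agent.Helper14.PerfectSmooth.formallySmooth_of_charZero ℚ L
    refine cartier_generic (k₀ := ℚ) ?_ ?_
    · intro c
      apply D_eq_zero_of_mem_bot ℤ K
      rw [Subfield.bot_eq_of_charZero]
      exact ⟨c, rfl⟩
    · intro c
      apply D_eq_zero_of_mem_bot ℤ L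
      rw [Subfield.bot_eq_of_charZero]
      exact ⟨c, rfl⟩

end Groth.Agent.Helper3.CartierH1
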