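import Mathlib

/-!
# Naturality of the Jacobi–Zariski connecting homomorphism in the top ring
-/

set_option autoImplicit false
universe u₁ u₂ u₃ u₄

namespace Groth.Agent.Helper3.DeltaNat

open TensorProduct Algebra MvPolynomial KaehlerDifferential

variable (R : Type u₁) (S : Type u₂) (T : Type u₃) (T' : Type u₄)
  [CommRing R] [CommRing S] [CommRing T] [CommRing T']
  [Algebra R S] [Algebra S T] [Algebra S T'] [Algebra T T'] [IsScalarTower S T T']
  [Algebra R T] [IsScalarTower R S T] [Algebra R T'] [IsScalarTower R S T']

/-- The map `T ⊗[S] Ω[S⁄R] → T' ⊗[S] Ω[S⁄R]`. -/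
noncomputable def tmap : T ⊗[S] Ω[S⁄R] →ₗ[S] T' ⊗[S] Ω[S⁄R] :=
  LinearMap.rTensor _ (IsScalarTower.toAlgHom S T T').toLinearMap

@[simp] lemma tmap_tmul (t : T) (w : Ω[S⁄R]) :
    tmap R S T T' (t ⊗ₜ w) = algebraMap T T' t ⊗ₜ w := rfl

lemma δAux_rename (x : MvPolynomial T S) :
    Generators.H1Cotangent.δAux R (Generators.self S T')
      (MvPolynomial.rename (algebraMap T T') x) =
    tmap R S T T' (Generators.H1Cotangent.δAux R (Generators.self S T) x) := by
  induction x using MvPolynomial.induction_on' with
  | monomial n r =>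
    rw [MvPolynomial.rename_monomial, Generators.H1Cotangent.δAux_monomial,
      Generators.H1Cotangent.δAux_monomial, tmap_tmul]
    congr 1
    rw [Finsupp.prod_mapDomain_index (by simp) (by simp [pow_add]), map_finsuppProd]
    simp [Generators.self]
  | add p q hp hq => simp only [map_add, hp, hq]

end Groth.Agent.Helper3.DeltaNat

namespace Groth.Agent.Helper3.DeltaNat

open TensorProduct Algebra MvPolynomial KaehlerDifferential

variable (R : Type u₁) (S : Type u₂) (T : Type u₃) (T' : Type u₄)
  [CommRing R] [CommRing S] [CommRing T] [CommRing T']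
  [Algebra R S] [Algebra S T] [Algebra S T'] [Algebra T T'] [IsScalarTower S T T']
  [Algebra R T] [IsScalarTower R S T] [Algebra R T'] [IsScalarTower R S T']

set_option backward.isDefEq.respectTransparency false in
/-- Naturality of the Jacobi–Zariski connecting homomorphism in the top ring. -/
theorem δ_natural (x : Algebra.H1Cotangent S T) :
    Algebra.H1Cotangent.δ R S T' (Algebra.H1Cotangent.map S S T T' x) =
      tmap R S T T' (Algebra.H1Cotangent.δ R S T x) := by
  obtain ⟨x, hx⟩ := x
  obtain ⟨⟨y, hy⟩, rfl⟩ := Extension.Cotangent.mk_surjective x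
  unfold Algebra.H1Cotangent.δ Algebra.H1Cotangent.map
  change Generators.H1Cotangent.δ _ _ ⟨_, _⟩ = tmap R S T T' (Generators.H1Cotangent.δ _ _ _)
  simp only [LinearMap.domRestrict_apply, Extension.Cotangent.map_mk,
    Generators.H1Cotangent.δ_eq_δAux]
  rw [← δAux_rename]
  congr 1
  have key : ((Generators.self S T).defaultHom (Generators.self S T')).toAlgHom =
      MvPolynomial.rename (algebraMap T T') := by
    apply MvPolynomial.algHom_ext
    intro i
    simp [Generators.Hom.toAlgHom, Generators.defaultHom, Generators.self]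
    rfl
  exact congrArg (fun g => g y) key

end Groth.Agent.Helper3.DeltaNat
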