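import Mathlib
import Groth.Agent.Lib.Helper3.CartierH1
import Groth.Agent.S9319

/-!
# The index equality for a commutative square of fields (`Ω` and `H¹` of the cotangent complex)
-/

set_option autoImplicit false
universe u

open TensorProduct KaehlerDifferential Module

namespace Groth.Agent.Helper3.CartierSq

section LinAlg

variable {F : Type*} [Field F] {M N P : Type*} [AddCommGroup M] [Module F M]
  [AddCommGroup N] [Module F N] [AddCommGroup P] [Module F P]

/-- for an exact pair, the cokernel of the first map is the range of the second. -/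
noncomputable def cokerEquivRange {f : M →ₗ[F] N} {g : N →ₗ[F] P} (h : Function.Exact f g) :
    (N ⧸ LinearMap.range f) ≃ₗ[F] LinearMap.range g :=
  (Submodule.quotEquivOfEq _ _ h.linearMap_ker_eq.symm).trans g.quotKerEquivRange

/-- for an exact pair, the kernel of the second map is the range of the first. -/
noncomputable def kerEquivRange {f : M →ₗ[F] N} {g : N →ₗ[F] P} (h : Function.Exact f g) :
    LinearMap.ker g ≃ₗ[F] LinearMap.range f :=
  LinearEquiv.ofEq _ _ h.linearMap_ker_eq

end LinAlg

section Funct

variable (k k' K K' : Type u) [Field k] [Field k'] [Field K] [Field K']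
  [Algebra k k'] [Algebra k K] [Algebra k K'] [Algebra k' K'] [Algebra K K']
  [IsScalarTower k k' K'] [IsScalarTower k K K']

lemma alpha_eq : (KaehlerDifferential.map k k' K K').liftBaseChange K' =
    (KaehlerDifferential.map k k' K' K') ∘ₗ (mapBaseChange k K K') := by
  have h : ((KaehlerDifferential.map k k' K K').liftBaseChange K').toAddMonoidHom =
      ((KaehlerDifferential.map k k' K' K') ∘ₗ (mapBaseChange k K K')).toAddMonoidHom := by
    apply Groth.Agent.Helper9.Imperf.addHom_ext_tmul_D'
    intro c x
    change (KaehlerDifferential.map k k' K K').liftBaseChange K' (c ⊗ₜ[K] D k K x) =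
      KaehlerDifferential.map k k' K' K' (mapBaseChange k K K' (c ⊗ₜ[K] D k K x))
    rw [LinearMap.liftBaseChange_tmul, mapBaseChange_tmul, map_smul, KaehlerDifferential.map_D,
      KaehlerDifferential.map_D, KaehlerDifferential.map_D]
    rfl
  apply LinearMap.ext
  intro z
  exact DFunLike.congr_fun h z

lemma h1map_comp (x : Algebra.H1Cotangent k K) :
    Algebra.H1Cotangent.map k k' K K' x =
      Algebra.H1Cotangent.map k k' K' K' (Algebra.H1Cotangent.map k k K K' x) := by
  unfold Algebra.H1Cotangent.map
  rw [← Algebra.Extension.H1Cotangent.map_comp_apply]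
  exact DFunLike.congr_fun (Algebra.Extension.H1Cotangent.map_eq _ _) x

lemma beta_eq : (Algebra.H1Cotangent.map k k' K K').liftBaseChange K' =
    (Algebra.H1Cotangent.map k k' K' K') ∘ₗ
      ((Algebra.H1Cotangent.map k k K K').liftBaseChange K') := by
  apply TensorProduct.AlgebraTensorModule.ext
  intro c x
  rw [LinearMap.liftBaseChange_tmul, LinearMap.comp_apply, LinearMap.liftBaseChange_tmul,
    map_smul, h1map_comp]

end Funct

section Main

open Groth.Agent.Helper9

variable (k k' K K' : Type u) [Field k] [Field k'] [Field K] [Field K']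
  [Algebra k k'] [Algebra k K] [Algebra k K'] [Algebra k' K'] [Algebra K K']
  [IsScalarTower k k' K'] [IsScalarTower k K K']
  [Algebra.EssFiniteType k k'] [Algebra.EssFiniteType K K']

set_option maxHeartbeats 1000000 in
theorem main :
    Module.Finite K' (LinearMap.ker ((KaehlerDifferential.map k k' K K').liftBaseChange K')) ∧
      Module.Finite K' (Ω[K'⁄k'] ⧸ LinearMap.range ((KaehlerDifferential.map k k' K K').liftBaseChange K')) ∧
      Module.Finite K' (LinearMap.ker ((Algebra.H1Cotangent.map k k' K K').liftBaseChange K')) ∧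
      Module.Finite K' (Algebra.H1Cotangent k' K' ⧸ LinearMap.range ((Algebra.H1Cotangent.map k k' K K').liftBaseChange K')) ∧
      ((Module.finrank K' (LinearMap.ker ((KaehlerDifferential.map k k' K K').liftBaseChange K')) : ℤ)
          - Module.finrank K' (Ω[K'⁄k'] ⧸ LinearMap.range ((KaehlerDifferential.map k k' K K').liftBaseChange K'))
          - Module.finrank K' (LinearMap.ker ((Algebra.H1Cotangent.map k k' K K').liftBaseChange K'))
          + Module.finrank K' (Algebra.H1Cotangent k' K' ⧸ LinearMap.range ((Algebra.H1Cotangent.map k k' K K').liftBaseChange K'))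
        = (Cardinal.toNat (Algebra.trdeg k k') : ℤ) - Cardinal.toNat (Algebra.trdeg K K')) := by
  rw [alpha_eq, beta_eq]
  obtain ⟨hΩK', hHK', hcK'⟩ := CartierH1.cartier K K'
  obtain ⟨hΩk', hHk', hck'⟩ := CartierH1.cartier k k'
  -- exact sequences for `k → K → K'`
  have E1a := Algebra.H1Cotangent.exact_liftBaseChange_map_of_flat k K K'
  have E2a := Algebra.H1Cotangent.exact_map_δ k K K'
  have E3a := Algebra.H1Cotangent.exact_δ_mapBaseChange k K K'
  have E4a := KaehlerDifferential.exact_mapBaseChange_map k K K'
  have E5a := KaehlerDifferential.map_surjective k K K'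
  have E0a : Function.Injective ((Algebra.H1Cotangent.map k k K K').liftBaseChange K') :=
    Groth.Agent.S9319.result
  -- exact sequences for `k → k' → K'`
  have E1b := Algebra.H1Cotangent.exact_liftBaseChange_map_of_flat k k' K'
  have E2b := Algebra.H1Cotangent.exact_map_δ k k' K'
  have E3b := Algebra.H1Cotangent.exact_δ_mapBaseChange k k' K'
  have E4b := KaehlerDifferential.exact_mapBaseChange_map k k' K'
  have E5b := KaehlerDifferential.map_surjective k k' K'
  have E0b : Function.Injective ((Algebra.H1Cotangent.map k k k' K').liftBaseChange K') :=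
    Groth.Agent.S9319.result
  -- finiteness
  haveI Fku : Module.Finite K' (LinearMap.ker (mapBaseChange k K K')) :=
    Module.Finite.equiv (kerEquivRange E3a).symm
  haveI Fcu : Module.Finite K' (Ω[K'⁄k] ⧸ LinearMap.range (mapBaseChange k K K')) :=
    Module.Finite.equiv (cokerEquivRange E4a).symm
  haveI Fku' : Module.Finite K'
      (LinearMap.ker ((Algebra.H1Cotangent.map k k K K').liftBaseChange K')) := by
    rw [LinearMap.ker_eq_bot.mpr E0a]; infer_instance
  haveI Fcu' : Module.Finite K' (Algebra.H1Cotangent k K' ⧸
      LinearMap.range ((Algebra.H1Cotangent.map k k K K').liftBaseChange K')) :=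
    Module.Finite.equiv (cokerEquivRange E1a).symm
  haveI Fkv : Module.Finite K' (LinearMap.ker (KaehlerDifferential.map k k' K' K')) :=
    Module.Finite.equiv (kerEquivRange E4b).symm
  have hvtop : LinearMap.range (KaehlerDifferential.map k k' K' K') = ⊤ :=
    LinearMap.range_eq_top.mpr E5b
  haveI Scv : Subsingleton (Ω[K'⁄k'] ⧸ LinearMap.range (KaehlerDifferential.map k k' K' K')) := by
    rw [hvtop]; infer_instance
  haveI Fcv : Module.Finite K'
      (Ω[K'⁄k'] ⧸ LinearMap.range (KaehlerDifferential.map k k' K' K')) := inferInstance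
  haveI Fkv' : Module.Finite K' (LinearMap.ker (Algebra.H1Cotangent.map k k' K' K')) :=
    Module.Finite.equiv (kerEquivRange E1b).symm
  haveI Fcv' : Module.Finite K' (Algebra.H1Cotangent k' K' ⧸
      LinearMap.range (Algebra.H1Cotangent.map k k' K' K')) :=
    Module.Finite.equiv (cokerEquivRange E2b).symm
  refine ⟨Fredholm.finite_ker_comp _ _, Fredholm.finite_coker_comp _ _,
    Fredholm.finite_ker_comp _ _, Fredholm.finite_coker_comp _ _, ?_⟩
  have I1 := Fredholm.index_comp (mapBaseChange k K K') (KaehlerDifferential.map k k' K' K')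
  have I2 := Fredholm.index_comp ((Algebra.H1Cotangent.map k k K K').liftBaseChange K')
    (Algebra.H1Cotangent.map k k' K' K')
  -- the numbers
  have n1 : finrank K' (LinearMap.ker (mapBaseChange k K K')) =
      finrank K' (LinearMap.range (Algebra.H1Cotangent.δ k K K')) :=
    (kerEquivRange E3a).finrank_eq
  have n2 : finrank K' (Ω[K'⁄k] ⧸ LinearMap.range (mapBaseChange k K K')) =
      finrank K' (Ω[K'⁄K]) := by
    rw [(cokerEquivRange E4a).finrank_eq, LinearMap.range_eq_top.mpr E5a, finrank_top]
  have n3 : finrank K' (LinearMap.ker ((Algebra.H1Cotangent.map k k K K').liftBaseChange K')) = 0 := by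
    rw [LinearMap.ker_eq_bot.mpr E0a, finrank_bot]
  have n4 : finrank K' (Algebra.H1Cotangent k K' ⧸
      LinearMap.range ((Algebra.H1Cotangent.map k k K K').liftBaseChange K')) =
      finrank K' (LinearMap.ker (Algebra.H1Cotangent.δ k K K')) := by
    rw [(cokerEquivRange E1a).finrank_eq, (kerEquivRange E2a).finrank_eq]
  have n5 := LinearMap.finrank_range_add_finrank_ker (Algebra.H1Cotangent.δ k K K')
  have n6 : finrank K' (LinearMap.ker (KaehlerDifferential.map k k' K' K')) =
      finrank K' (LinearMap.range (mapBaseChange k k' K')) :=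
    (kerEquivRange E4b).finrank_eq
  have n7 : finrank K' (Ω[K'⁄k'] ⧸ LinearMap.range (KaehlerDifferential.map k k' K' K')) = 0 :=
    Module.finrank_zero_of_subsingleton
  have n8 : finrank K' (LinearMap.ker (Algebra.H1Cotangent.map k k' K' K')) =
      finrank k' (Algebra.H1Cotangent k k') := by
    rw [(kerEquivRange E1b).finrank_eq, ← (LinearEquiv.ofInjective _ E0b).finrank_eq,
      Module.finrank_baseChange]
  have n9 : finrank K' (Algebra.H1Cotangent k' K' ⧸
      LinearMap.range (Algebra.H1Cotangent.map k k' K' K')) =
      finrank K' (LinearMap.ker (mapBaseChange k k' K')) := by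
    rw [(cokerEquivRange E2b).finrank_eq, (kerEquivRange E3b).finrank_eq]
  have n10 := LinearMap.finrank_range_add_finrank_ker (mapBaseChange k k' K')
  rw [Module.finrank_baseChange] at n10
  omega

end Main

end Groth.Agent.Helper3.CartierSq
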