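import Mathlib

set_option autoImplicit false
universe u
open CategoryTheory CategoryTheory.Limits AlgebraicGeometry

namespace Groth.Agent.Helper3.ClImmLift

/-- The lifting property against injective ring maps. -/
def LiftProp {X Y : Scheme.{u}} (f : X ⟶ Y) : Prop :=
  ∀ (A B : Type u) [CommRing A] [CommRing B] (φ : A →+* B), Function.Injective φ →
    ∀ (a : Spec (CommRingCat.of B) ⟶ X) (b : Spec (CommRingCat.of A) ⟶ Y),
      Spec.map (CommRingCat.ofHom φ) ≫ b = a ≫ f →
        ∃ l : Spec (CommRingCat.of A) ⟶ X, Spec.map (CommRingCat.ofHom φ) ≫ l = a ∧ l ≫ f = b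

theorem liftProp_pullback_snd {X Y Y' : Scheme.{u}} (f : X ⟶ Y) (g : Y' ⟶ Y) (h : LiftProp f) :
    LiftProp (pullback.snd f g) := by
  intro A B _ _ φ hφ a b w
  obtain ⟨l', h1, h2⟩ := h A B φ hφ (a ≫ pullback.fst f g) (b ≫ g) (by
    rw [← Category.assoc, w, Category.assoc, Category.assoc, pullback.condition])
  refine ⟨pullback.lift l' b h2, ?_, pullback.lift_snd _ _ _⟩
  apply pullback.hom_ext
  · rw [Category.assoc, pullback.lift_fst, h1]
  · rw [Category.assoc, pullback.lift_snd, w]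

theorem ker_specMap_of_injective {R S : CommRingCat.{u}} (φ : R ⟶ S)
    (hφ : Function.Injective φ.hom) : (Spec.map φ).ker = ⊥ := by
  apply Scheme.IdealSheafData.ext_of_isAffine
  rw [Scheme.Hom.ker_apply, Scheme.IdealSheafData.ideal_bot, Pi.bot_apply, ← le_bot_iff]
  intro y hy
  rw [RingHom.mem_ker] at hy
  obtain ⟨x, rfl⟩ := (ConcreteCategory.bijective_of_isIso (Scheme.ΓSpecIso R).inv).2 y
  have h1 := Scheme.ΓSpecIso_inv_naturality φ
  have h2 := congr($h1 x)
  have h3 : (Scheme.ΓSpecIso S).inv.hom (φ.hom x) = 0 := h2.trans hy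
  have hinj : Function.Injective (Scheme.ΓSpecIso S).inv.hom :=
    (ConcreteCategory.bijective_of_isIso (Scheme.ΓSpecIso S).inv).1
  have h4 : φ.hom x = 0 := hinj (by rw [h3, map_zero])
  have h5 : x = 0 := hφ (by rw [h4, map_zero])
  rw [h5]
  simp

theorem liftProp_of_isClosedImmersion {X Y : Scheme.{u}} (f : X ⟶ Y) [IsClosedImmersion f] :
    LiftProp f := by
  intro A B _ _ φ hφ a b w
  have hker : (Spec.map (CommRingCat.ofHom φ)).ker = ⊥ := ker_specMap_of_injective _ hφ
  have hle : f.ker ≤ b.ker := by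
    have h1 : f.ker ≤ (a ≫ f).ker := Scheme.Hom.le_ker_comp a f
    rw [← w, Scheme.Hom.ker_comp, hker, Scheme.IdealSheafData.map_bot] at h1
    exact h1
  refine ⟨IsClosedImmersion.lift f b hle, ?_, IsClosedImmersion.lift_fac f b hle⟩
  rw [← cancel_mono f, Category.assoc, IsClosedImmersion.lift_fac, w]


theorem isClosedImmersion_of_liftProp_affine {X : Scheme.{u}} {R : CommRingCat.{u}}
    (f : X ⟶ Spec R) [CompactSpace X] (h : LiftProp f) : IsClosedImmersion f := by
  let 𝒰 := X.affineCover.finiteSubcover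
  have hfin : Finite 𝒰.I₀ := Finite.of_fintype _
  have haff : ∀ i, IsAffine (𝒰.X i) := fun i => by
    dsimp [𝒰, Scheme.OpenCover.finiteSubcover]; infer_instance
  let Z : Scheme.{u} := ∐ 𝒰.X
  have : IsAffine Z := inferInstance
  let π : Z ⟶ X := Sigma.desc 𝒰.f
  let B : CommRingCat.{u} := Γ(Z, ⊤)
  let πB : Spec B ⟶ X := Z.isoSpec.inv ≫ π
  obtain ⟨ψ, hψ⟩ := Spec.map_surjective (πB ≫ f)
  let K : Ideal R := RingHom.ker ψ.hom
  let ψ' : R ⧸ K →+* B := RingHom.kerLift ψ.hom
  have hψ'inj : Function.Injective ψ' := RingHom.kerLift_injective ψ.hom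
  have hψ' : CommRingCat.ofHom (Ideal.Quotient.mk K) ≫ CommRingCat.ofHom ψ' = ψ := by
    ext x
    exact RingHom.kerLift_mk ψ.hom x
  obtain ⟨l, hl1, hl2⟩ := h (R ⧸ K) B ψ' hψ'inj πB
    (Spec.map (CommRingCat.ofHom (Ideal.Quotient.mk K))) (by
      rw [← Spec.map_comp, hψ', hψ])
  have hmono : Mono l := by
    have : Mono (l ≫ f) := by
      rw [hl2]
      have : IsClosedImmersion (Spec.map (CommRingCat.ofHom (Ideal.Quotient.mk K))) :=
        IsClosedImmersion.spec_of_surjective _ Ideal.Quotient.mk_surjective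
      infer_instance
    exact mono_of_mono l f
  have hiso : IsIso l := by
    change MorphismProperty.isomorphisms Scheme l
    refine IsZariskiLocalAtTarget.of_openCover (P := MorphismProperty.isomorphisms Scheme) 𝒰 ?_
    intro i
    change IsIso (pullback.snd l (𝒰.f i))
    let σ : 𝒰.X i ⟶ Spec (CommRingCat.of (R ⧸ K)) :=
      Sigma.ι 𝒰.X i ≫ Z.isoSpec.hom ≫ Spec.map (CommRingCat.ofHom ψ')
    have hσ : σ ≫ l = 𝒰.f i := by
      simp only [σ, Category.assoc, hl1, πB, Iso.hom_inv_id_assoc, π, colimit.ι_desc,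
        Cofan.mk_ι_app]
    let sec : 𝒰.X i ⟶ pullback l (𝒰.f i) := pullback.lift σ (𝟙 _) (by rw [hσ, Category.id_comp])
    have hsec : sec ≫ pullback.snd l (𝒰.f i) = 𝟙 _ := pullback.lift_snd _ _ _
    have : IsSplitEpi (pullback.snd l (𝒰.f i)) := ⟨⟨sec, hsec⟩⟩
    exact isIso_of_mono_of_isSplitEpi _
  have : IsClosedImmersion (Spec.map (CommRingCat.ofHom (Ideal.Quotient.mk K))) :=
    IsClosedImmersion.spec_of_surjective _ Ideal.Quotient.mk_surjective
  have hf : f = inv l ≫ Spec.map (CommRingCat.ofHom (Ideal.Quotient.mk K)) := by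
    rw [IsIso.eq_inv_comp, hl2]
  rw [hf]
  infer_instance


theorem isClosedImmersion_of_liftProp {X Y : Scheme.{u}} (f : X ⟶ Y) [QuasiCompact f]
    (h : LiftProp f) : IsClosedImmersion f := by
  refine IsZariskiLocalAtTarget.of_openCover (P := @IsClosedImmersion) Y.affineCover ?_
  intro i
  change IsClosedImmersion (pullback.snd f (Y.affineCover.f i))
  have hqc : QuasiCompact (pullback.snd f (Y.affineCover.f i)) := inferInstance
  have : CompactSpace ↥(pullback f (Y.affineCover.f i)) :=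
    (HasAffineProperty.iff_of_isAffine (P := @QuasiCompact)).mp hqc
  exact isClosedImmersion_of_liftProp_affine (X := pullback f (Y.affineCover.f i)) (pullback.snd f (Y.affineCover.f i))
    (liftProp_pullback_snd f _ h)

theorem isClosedImmersion_iff_liftProp {X Y : Scheme.{u}} (f : X ⟶ Y) [QuasiCompact f] :
    IsClosedImmersion f ↔ LiftProp f :=
  ⟨fun _ => liftProp_of_isClosedImmersion f, isClosedImmersion_of_liftProp f⟩

end Groth.Agent.Helper3.ClImmLift
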