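import Mathlib
import Groth.Agent.Lib.Helper3.ComplIso
import Groth.Agent.Lib.Helper14.AdicComplQuot

/-!
Helper3: for a local homomorphism `A → B` of Noetherian local rings and a prime `n'` of
`B ⊗[A] Â` over the maximal ideal of `B`, the completions of `B` and of `(B ⊗[A] Â)_{n'}` are
isomorphic (S4739).
-/

namespace Groth.Agent.Helper3.ComplIso2

open Groth.Agent.Helper17 TensorProduct IsLocalRing

universe u

variable (A B : Type u) [CommRing A] [CommRing B] [IsNoetherianRing A]
  [IsLocalRing A] [IsLocalRing B] [Algebra A B] [IsLocalHom (algebraMap A B)]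

local notation "Â" => AdicCompletion (maximalIdeal A) A
local notation "B'" => B ⊗[A] AdicCompletion (maximalIdeal A) A
local notation "iL" => (Algebra.TensorProduct.includeLeft : B →ₐ[A] B ⊗[A] AdicCompletion (maximalIdeal A) A)

theorem map_maximalIdeal_pow_le (k : ℕ) :
    (maximalIdeal A ^ k).map (algebraMap A B) ≤ maximalIdeal B ^ k := by
  rw [Ideal.map_pow]
  have h : (maximalIdeal A).map (algebraMap A B) ≤ maximalIdeal B :=
    ((IsLocalRing.local_hom_TFAE (algebraMap A B)).out 0 2).mp ‹IsLocalHom (algebraMap A B)›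
  exact Ideal.pow_right_mono h k

/-- the auxiliary map `B ⊗ Â → B / m_B ^ k` -/
noncomputable def θ (k : ℕ) : B' →ₐ[A] B ⧸ (maximalIdeal B ^ k) :=
  Algebra.TensorProduct.lift (Ideal.Quotient.mkₐ A (maximalIdeal B ^ k))
    ((Ideal.Quotient.liftₐ (maximalIdeal A ^ k)
        ((Ideal.Quotient.mkₐ A (maximalIdeal B ^ k)).comp (Algebra.ofId A B))
        (fun a ha => by
          show Ideal.Quotient.mk _ (algebraMap A B a) = 0
          rw [Ideal.Quotient.eq_zero_iff_mem]
          exact map_maximalIdeal_pow_le A B k (Ideal.mem_map_of_mem _ ha))).comp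
      (AdicCompletion.evalₐ (maximalIdeal A) k))
    (fun _ _ => Commute.all _ _)

theorem θ_iL (k : ℕ) (b : B) : θ A B k (iL b) = Ideal.Quotient.mk _ b := by
  simp [θ]

theorem mem_of_iL_mem (k : ℕ) (b : B) (hb : iL b ∈ (maximalIdeal B ^ k).map iL) :
    b ∈ maximalIdeal B ^ k := by
  have hle : (maximalIdeal B ^ k).map iL ≤ RingHom.ker (θ A B k) := by
    rw [Ideal.map_le_iff_le_comap]
    intro x hx
    rw [Ideal.mem_comap, RingHom.mem_ker, θ_iL]
    exact Ideal.Quotient.eq_zero_iff_mem.mpr hx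
  have h1 := hle hb
  rw [RingHom.mem_ker, θ_iL] at h1
  exact Ideal.Quotient.eq_zero_iff_mem.mp h1

theorem includeRight_mem (k : ℕ) (y : Â)
    (hy : y ∈ (maximalIdeal A ^ k).map (algebraMap A Â)) :
    (1 : B) ⊗ₜ[A] y ∈ (maximalIdeal B ^ k).map iL := by
  have hle : (maximalIdeal A ^ k).map (algebraMap A Â) ≤
      ((maximalIdeal B ^ k).map iL).comap
        (Algebra.TensorProduct.includeRight : Â →ₐ[A] B') := by
    rw [Ideal.map_le_iff_le_comap]
    intro a ha
    rw [Ideal.mem_comap, Ideal.mem_comap]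
    have : (Algebra.TensorProduct.includeRight : Â →ₐ[A] B') (algebraMap A Â a) =
        iL (algebraMap A B a) := by
      rw [AlgHom.commutes, AlgHom.commutes]
    rw [this]
    exact Ideal.mem_map_of_mem _ (map_maximalIdeal_pow_le A B k (Ideal.mem_map_of_mem _ ha))
  exact hle hy

theorem exists_sub_mem (k : ℕ) (z : B') : ∃ b : B, z - iL b ∈ (maximalIdeal B ^ k).map iL := by
  induction z using TensorProduct.induction_on with
  | zero => exact ⟨0, by simp⟩
  | add x y hx hy =>
    obtain ⟨b1, h1⟩ := hx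
    obtain ⟨b2, h2⟩ := hy
    refine ⟨b1 + b2, ?_⟩
    have : x + y - iL (b1 + b2) = (x - iL b1) + (y - iL b2) := by rw [map_add]; ring
    rw [this]; exact Ideal.add_mem _ h1 h2
  | tmul b y =>
    obtain ⟨a, ha⟩ := Ideal.Quotient.mk_surjective (AdicCompletion.evalₐ (maximalIdeal A) k y)
    have hfg : (maximalIdeal A).FG := IsNoetherian.noetherian _
    have h1 := Groth.Agent.Helper14.AdicComplQuot.algebraMap_sub_mem (maximalIdeal A) hfg k y a ha
    rw [← Ideal.map_pow] at h1
    refine ⟨a • b, ?_⟩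
    have h2 : b ⊗ₜ[A] y - iL (a • b) = iL b * ((1 : B) ⊗ₜ[A] (y - algebraMap A Â a)) := by
      rw [Algebra.TensorProduct.includeLeft_apply, Algebra.TensorProduct.includeLeft_apply,
        Algebra.TensorProduct.tmul_mul_tmul, mul_one, one_mul, TensorProduct.tmul_sub,
        TensorProduct.smul_tmul, Algebra.smul_def, mul_one]
    rw [h2]
    exact Ideal.mul_mem_left _ _ (includeRight_mem A B k _ h1)

section Main

variable [IsNoetherianRing B] (n' : Ideal (B ⊗[A] AdicCompletion (maximalIdeal A) A)) [n'.IsPrime]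
  (h1 : n'.comap (algebraMap B (B ⊗[A] AdicCompletion (maximalIdeal A) A)) = maximalIdeal B)

theorem algebraMap_eq_iL (b : B) : algebraMap B B' b = iL b := by
  rw [Algebra.TensorProduct.algebraMap_apply, Algebra.TensorProduct.includeLeft_apply]
  rfl

include h1 in
theorem n'_eq : n' = (maximalIdeal B).map iL := by
  have hle : (maximalIdeal B).map iL ≤ n' := by
    rw [Ideal.map_le_iff_le_comap]
    intro b hb
    rw [← h1] at hb
    rw [Ideal.mem_comap] at hb ⊢
    rwa [algebraMap_eq_iL] at hb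
  refine le_antisymm ?_ hle
  intro z hz
  obtain ⟨b, hb⟩ := exists_sub_mem A B 1 z
  rw [pow_one] at hb
  have h2 : iL b ∈ n' := by
    have : iL b = z - (z - iL b) := by ring
    rw [this]; exact Ideal.sub_mem _ hz (hle hb)
  have h3 : b ∈ maximalIdeal B := by
    rw [← h1, Ideal.mem_comap, algebraMap_eq_iL]; exact h2
  have : z = (z - iL b) + iL b := by ring
  rw [this]
  exact Ideal.add_mem _ hb (Ideal.mem_map_of_mem _ h3)

include h1 in
theorem n'_isMaximal : n'.IsMaximal := by
  have heq := n'_eq A B n' h1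
  rw [Ideal.isMaximal_iff]
  refine ⟨fun h => (inferInstance : n'.IsPrime).ne_top ((Ideal.eq_top_iff_one _).mpr h), ?_⟩
  intro M z hle hz hzM
  obtain ⟨b, hb⟩ := exists_sub_mem A B 1 z
  rw [pow_one, ← heq] at hb
  have hbu : IsUnit b := by
    by_contra hnu
    have hbm : b ∈ maximalIdeal B := (IsLocalRing.mem_maximalIdeal b).mpr hnu
    apply hz
    have : z = (z - iL b) + iL b := by ring
    rw [this]
    refine Ideal.add_mem _ hb ?_
    rw [heq]; exact Ideal.mem_map_of_mem _ hbm
  have h2 : iL b ∈ M := by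
    have : iL b = z - (z - iL b) := by ring
    rw [this]; exact Ideal.sub_mem _ hzM (hle hb)
  have h3 : IsUnit (iL b) := hbu.map iL
  exact (Ideal.eq_top_iff_one M).mp (Ideal.eq_top_of_isUnit_mem _ h2 h3)

include h1 in
theorem core4739 (C : Type u) [CommRing C] [Algebra (B ⊗[A] AdicCompletion (maximalIdeal A) A) C]
    [IsLocalization.AtPrime C n'] [IsLocalRing C] :
    Nonempty (AdicCompletion (maximalIdeal B) B ≃+* AdicCompletion (maximalIdeal C) C) := by
  have heq := n'_eq A B n' h1
  haveI hmax : n'.IsMaximal := n'_isMaximal A B n' h1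
  let g : B →+* C := (algebraMap B' C).comp (algebraMap B B')
  have hgb : ∀ b, g b = algebraMap B' C (iL b) := fun b => by
    show algebraMap B' C (algebraMap B B' b) = _
    rw [algebraMap_eq_iL]
  have hg : (maximalIdeal B).map g ≤ maximalIdeal C := by
    rw [Ideal.map_le_iff_le_comap]
    intro b hb
    rw [Ideal.mem_comap, hgb, ← IsLocalization.AtPrime.map_eq_maximalIdeal n' C]
    refine Ideal.mem_map_of_mem _ ?_
    rw [heq]; exact Ideal.mem_map_of_mem _ hb
  have hpow : ∀ k, n' ^ k = (maximalIdeal B ^ k).map iL := fun k => by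
    rw [heq, Ideal.map_pow]
  refine ComplIso.nonempty_ringEquiv (maximalIdeal B) (maximalIdeal C) g hg ?_
  intro k
  let e := IsLocalization.AtPrime.equivQuotMaximalIdealPow n' C k
  have he : ∀ x : B', e (Ideal.Quotient.mk _ x) = Ideal.Quotient.mk _ (algebraMap B' C x) :=
    fun x => rfl
  constructor
  · rw [injective_iff_map_eq_zero]
    intro x hx
    obtain ⟨b, rfl⟩ := Ideal.Quotient.mk_surjective x
    rw [Ideal.quotientMap_mk, hgb, ← he] at hx
    have h2 : (Ideal.Quotient.mk (n' ^ k)) (iL b) = 0 := by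
      apply e.injective
      rw [hx, map_zero]
    rw [Ideal.Quotient.eq_zero_iff_mem, hpow] at h2
    rw [Ideal.Quotient.eq_zero_iff_mem]
    exact mem_of_iL_mem A B k b h2
  · intro y
    obtain ⟨w, rfl⟩ := e.surjective y
    obtain ⟨z, rfl⟩ := Ideal.Quotient.mk_surjective w
    obtain ⟨b, hb⟩ := exists_sub_mem A B k z
    refine ⟨Ideal.Quotient.mk _ b, ?_⟩
    rw [Ideal.quotientMap_mk, hgb, ← he]
    congr 1
    rw [eq_comm, Ideal.Quotient.eq, hpow]
    exact hb

end Main

end Groth.Agent.Helper3.ComplIso2
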