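import Mathlib

/-!
# The closed fibre of `A → Â` is trivial (helper3)

For a Noetherian local ring `A` with completion `Â` and an `A`-algebra `L` which is a field and
in which `m_A` maps to zero, `L → L ⊗[A] Â` is bijective; so `L ⊗[A] Â` is a field, and so are its
localizations at primes.
-/

set_option autoImplicit false
universe u

open IsLocalRing TensorProduct

namespace Groth.Agent.Helper3.CplFibre

theorem eq_zero_of_mem_of_isField {L : Type u} [CommRing L] (hL : IsField L) {P : Ideal L}
    (hP : P ≠ ⊤) {a : L} (ha : a ∈ P) : a = 0 := by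
  by_contra h0
  obtain ⟨b, hb⟩ := hL.mul_inv_cancel h0
  apply hP
  rw [Ideal.eq_top_iff_one, ← hb]
  exact P.mul_mem_right b ha

theorem isRegularLocalRing_of_isField (Q : Type u) [CommRing Q] (h : IsField Q) :
    IsRegularLocalRing Q := by
  letI := h.toField
  exact inferInstance

theorem nonempty_equiv_of_isField (T : Type u) [CommRing T] (hT : IsField T) (P : Ideal T)
    [P.IsPrime] : Nonempty (Localization.AtPrime P ≃+* T) := by
  have H : P.primeCompl ≤ IsUnit.submonoid T := by
    intro x hx
    have hx0 : x ≠ 0 := by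
      rintro rfl
      exact hx (zero_mem P)
    obtain ⟨b, hb⟩ := hT.mul_inv_cancel hx0
    exact IsUnit.of_mul_eq_one b hb
  exact ⟨(IsLocalization.atUnits T P.primeCompl (S := Localization.AtPrime P) H).symm.toRingEquiv⟩

section

variable (A : Type u) [CommRing A] [IsLocalRing A] [IsNoetherianRing A]
  (L : Type u) [CommRing L] [Algebra A L]

theorem tmul_eq_zero (h : ∀ a ∈ maximalIdeal A, algebraMap A L a = 0) (l : L)
    (c : AdicCompletion (maximalIdeal A) A)
    (hc : c ∈ maximalIdeal (AdicCompletion (maximalIdeal A) A)) :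
    l ⊗ₜ[A] c = 0 := by
  rw [AdicCompletion.maximalIdeal_eq_map, ← Submodule.restrictScalars_mem A,
    ← Ideal.smul_top_eq_map] at hc
  refine Submodule.smul_induction_on hc (fun r hr n _ => ?_) (fun x y hx hy => ?_)
  · rw [← TensorProduct.smul_tmul, Algebra.smul_def, h r hr, zero_mul, TensorProduct.zero_tmul]
  · rw [TensorProduct.tmul_add, hx, hy, add_zero]

theorem includeLeft_surjective (h : ∀ a ∈ maximalIdeal A, algebraMap A L a = 0) :
    Function.Surjective
      (Algebra.TensorProduct.includeLeft :
        L →ₐ[A] L ⊗[A] AdicCompletion (maximalIdeal A) A) := by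
  intro t
  induction t using TensorProduct.induction_on with
  | zero => exact ⟨0, map_zero _⟩
  | tmul l b =>
    obtain ⟨z, hz⟩ := (AdicCompletion.residueField_map_bijective A).2
      (residue (AdicCompletion (maximalIdeal A) A) b)
    obtain ⟨r, rfl⟩ := residue_surjective z
    rw [ResidueField.map_residue] at hz
    have hmem : b - algebraMap A (AdicCompletion (maximalIdeal A) A) r ∈
        maximalIdeal (AdicCompletion (maximalIdeal A) A) := by
      rw [← residue_eq_zero_iff, map_sub, hz, sub_self]
    have h0 := tmul_eq_zero A L h l _ hmem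
    rw [TensorProduct.tmul_sub, sub_eq_zero] at h0
    refine ⟨r • l, ?_⟩
    rw [h0, Algebra.TensorProduct.includeLeft_apply, TensorProduct.smul_tmul,
      Algebra.algebraMap_eq_smul_one]
  | add x y hx hy =>
    obtain ⟨a, rfl⟩ := hx
    obtain ⟨b, rfl⟩ := hy
    exact ⟨a + b, map_add _ _ _⟩

/-- The retraction `L ⊗[A] Â → L`. -/
noncomputable def retr (h : ∀ a ∈ maximalIdeal A, algebraMap A L a = 0) :
    L ⊗[A] AdicCompletion (maximalIdeal A) A →ₐ[A] L :=
  Algebra.TensorProduct.lift (AlgHom.id A L)
    ((Ideal.Quotient.liftₐ (maximalIdeal A ^ 1) (Algebra.ofId A L)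
      (fun a ha => by
        rw [pow_one] at ha
        exact h a ha)).comp (AdicCompletion.evalₐ (maximalIdeal A) 1))
    (fun _ _ => Commute.all _ _)

theorem includeLeft_bijective (h : ∀ a ∈ maximalIdeal A, algebraMap A L a = 0) :
    Function.Bijective
      (Algebra.TensorProduct.includeLeft :
        L →ₐ[A] L ⊗[A] AdicCompletion (maximalIdeal A) A) := by
  refine ⟨?_, includeLeft_surjective A L h⟩
  have hl : Function.LeftInverse (retr A L h)
      (Algebra.TensorProduct.includeLeft :
        L →ₐ[A] L ⊗[A] AdicCompletion (maximalIdeal A) A) := by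
    intro l
    simp [retr]
  exact hl.injective

theorem isField_tensor (hL : IsField L) (h : ∀ a ∈ maximalIdeal A, algebraMap A L a = 0) :
    IsField (L ⊗[A] AdicCompletion (maximalIdeal A) A) :=
  (AlgEquiv.ofBijective _ (includeLeft_bijective A L h)).symm.toRingEquiv.toMulEquiv.isField hL

/-- Every local ring of `L ⊗[A] Â` is a field. -/
theorem isField_of_equiv (hL : IsField L) (h : ∀ a ∈ maximalIdeal A, algebraMap A L a = 0)
    (P : Ideal (L ⊗[A] AdicCompletion (maximalIdeal A) A)) [P.IsPrime]
    (Q : Type u) [CommRing Q] (e : Q ≃+* Localization.AtPrime P) : IsField Q := by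
  obtain ⟨e'⟩ := nonempty_equiv_of_isField _ (isField_tensor A L hL h) P
  exact (e.trans e').toMulEquiv.isField (isField_tensor A L hL h)

end

end Groth.Agent.Helper3.CplFibre
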