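import Mathlib
import Groth.Prelude.Def_Curv2
import Groth.Agent.Lib.Helper16.Sch.FibStalk
import Groth.Agent.Lib.Helper14.RegAscent
import Groth.Agent.Lib.Helper28.ClosedSpec
import Groth.Agent.S0565
import Groth.Agent.S0543
import Groth.Agent.Lib.Helper3.CplFibre

/-!
# Base change to the completion: fibre rings over the closed point, regularity (helper3)

For a Noetherian local ring `A`, `f : X ⟶ Spec A`, `Y = X ×_A Spec Â` and `y ∈ Y` over the closed
point of `Spec Â` with image `x ∈ X`:

* `fibre_isField`: `O_{Y,y} / m_x O_{Y,y}` is a field;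
* `main1598` (S1598): `O_{Y,y}` is regular iff `O_{X,x}` is;
* `main1597` (S1597): for `f` proper, `X` is regular iff `Y` is.
-/

set_option autoImplicit false
universe u

open CategoryTheory CategoryTheory.Limits AlgebraicGeometry TensorProduct IsLocalRing

namespace Groth.Agent.Helper3.CplFibreSch

open Groth.Agent.Helper16

/-- The stalk of `Spec B` at a prime is the localization. -/
theorem stalkSpec_equiv (B : Type u) [CommRing B] (y : PrimeSpectrum B) :
    Nonempty ((Spec (CommRingCat.of B)).presheaf.stalk y ≃+* Localization.AtPrime y.asIdeal) := by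
  letI : Algebra B ((Spec (CommRingCat.of B)).presheaf.stalk y) :=
    StructureSheaf.stalkAlgebra B y
  haveI : IsLocalization.AtPrime ((Spec (CommRingCat.of B)).presheaf.stalk y) y.asIdeal :=
    StructureSheaf.IsLocalization.to_stalk B y
  let e : Localization.AtPrime y.asIdeal ≃ₐ[B] (Spec (CommRingCat.of B)).presheaf.stalk y :=
    IsLocalization.algEquiv y.asIdeal.primeCompl _ _
  exact ⟨e.symm.toRingEquiv⟩

section Generic

variable {R : Type u} [CommRing R] {X : Scheme.{u}} (f : X ⟶ Spec (CommRingCat.of R))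
  (T : Type u) [CommRing T] [Algebra R T]
  {L : Type u} [CommRing L] [Algebra R L] (j : Spec (CommRingCat.of L) ⟶ X)
  (hj : j ≫ f = Spec.map (CommRingCat.ofHom (algebraMap R L)))

include hj in
lemma isPullback_W :
    IsPullback (pullback.fst j (pullback.fst f (Spec.map (CommRingCat.ofHom (algebraMap R T)))))
      (pullback.snd j (pullback.fst f (Spec.map (CommRingCat.ofHom (algebraMap R T)))) ≫
        pullback.snd f (Spec.map (CommRingCat.ofHom (algebraMap R T))))
      (Spec.map (CommRingCat.ofHom (algebraMap R L)))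
      (Spec.map (CommRingCat.ofHom (algebraMap R T))) := by
  have h := (IsPullback.of_hasPullback j
    (pullback.fst f (Spec.map (CommRingCat.ofHom (algebraMap R T))))).paste_vert
    (IsPullback.of_hasPullback f (Spec.map (CommRingCat.ofHom (algebraMap R T))))
  rw [hj] at h
  exact h

/-- `Spec L ×_X X_T ≅ Spec (L ⊗_R T)`. -/
noncomputable def isoW :
    pullback j (pullback.fst f (Spec.map (CommRingCat.ofHom (algebraMap R T)))) ≅
      Spec (CommRingCat.of (L ⊗[R] T)) :=
  (isPullback_W f T j hj).isoPullback ≪≫ pullbackSpecIso R L T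

end Generic

section Main

variable (A : Type u) [CommRing A] [IsLocalRing A] [IsNoetherianRing A]
  {X : Scheme.{u}} (f : X ⟶ Spec (CommRingCat.of A))

instance flat_fst : Flat (Curv2.bcCplFst A f) := by
  haveI : Flat (Spec.map (CommRingCat.ofHom (algebraMap A (Curv2.cpl A)))) := by
    rw [Flat.SpecMap_iff]
    show (algebraMap A (Curv2.cpl A)).Flat
    rw [RingHom.flat_algebraMap_iff]
    exact AdicCompletion.flat_of_isNoetherian (maximalIdeal A)
  exact inferInstance

theorem apply_closedPoint (y : ↥(Curv2.bcCpl A f))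
    (hy : (Curv2.bcCplSnd A f).base y = closedPoint (Curv2.cpl A)) :
    f.base ((Curv2.bcCplFst A f).base y) = closedPoint A := by
  have h1 := congrArg (fun φ : Curv2.bcCpl A f ⟶ Spec (CommRingCat.of A) => φ.base y)
    (pullback.condition (f := f)
      (g := Spec.map (CommRingCat.ofHom (algebraMap A (Curv2.cpl A)))))
  change f.base ((Curv2.bcCplFst A f).base y) =
    (Spec.map (CommRingCat.ofHom (algebraMap A (Curv2.cpl A)))).base
      ((Curv2.bcCplSnd A f).base y) at h1
  rw [hy] at h1
  exact h1.trans (IsLocalRing.comap_closedPoint (algebraMap A (Curv2.cpl A)))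

/-- For a field-valued point `j` of `X` over the closed point of `Spec A`, the local rings of
`X_Â ×_X Spec κ` are fields. -/
theorem aux {κ : Type u} [Field κ] (j : Spec (CommRingCat.of κ) ⟶ X)
    (z : ↥(pullback (Curv2.bcCplFst A f) j))
    (hz : f.base (j.base ((pullback.snd (Curv2.bcCplFst A f) j).base z)) = closedPoint A) :
    IsField ((pullback (Curv2.bcCplFst A f) j).presheaf.stalk z) := by
  let ψ : CommRingCat.of A ⟶ CommRingCat.of κ := Spec.preimage (j ≫ f)
  letI alg : Algebra A κ := ψ.hom.toAlgebra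
  have hj : j ≫ f = Spec.map (CommRingCat.ofHom (algebraMap A κ)) :=
    (Spec.map_preimage _).symm
  have hL : IsField κ := Field.toIsField κ
  have hker : ∀ a ∈ maximalIdeal A, algebraMap A κ a = 0 := by
    intro a ha
    let pt : ↥(Spec (CommRingCat.of κ)) := (pullback.snd (Curv2.bcCplFst A f) j).base z
    have e2 : (Spec.map ψ).base pt = f.base (j.base pt) := by
      rw [Spec.map_preimage]
      rfl
    have h2 : (Spec.map ψ).base pt = closedPoint A := by
      rw [e2]
      exact hz
    have h3 : a ∈ ((Spec.map ψ).base pt).asIdeal := by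
      rw [h2]
      exact ha
    have h4 : ψ.hom a ∈ pt.asIdeal := h3
    exact CplFibre.eq_zero_of_mem_of_isField hL pt.isPrime.ne_top h4
  let E : pullback (Curv2.bcCplFst A f) j ≅ Spec (CommRingCat.of (κ ⊗[A] Curv2.cpl A)) :=
    pullbackSymmetry _ _ ≪≫ isoW f (Curv2.cpl A) j hj
  let e2 := (asIso (E.hom.stalkMap z)).commRingCatIsoToRingEquiv
  obtain ⟨e3⟩ := stalkSpec_equiv (κ ⊗[A] Curv2.cpl A) (E.hom z)
  exact CplFibre.isField_of_equiv A κ hL hker (E.hom z).asIdeal _ (e2.symm.trans e3)

/-- The fibre ring of `X_Â → X` at a point over the closed point is a field. -/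
theorem fibre_isField (y : ↥(Curv2.bcCpl A f))
    (hy : (Curv2.bcCplSnd A f).base y = closedPoint (Curv2.cpl A)) :
    IsField ((Curv2.bcCpl A f).presheaf.stalk y ⧸
      FibStalk.fibIdeal (Curv2.bcCplFst A f) y) := by
  have hz : f.base ((X.fromSpecResidueField ((Curv2.bcCplFst A f).base y)).base
      ((pullback.snd (Curv2.bcCplFst A f)
        (X.fromSpecResidueField ((Curv2.bcCplFst A f).base y))).base
          ((Curv2.bcCplFst A f).asFiber y))) = closedPoint A := by
    have e1 : (X.fromSpecResidueField ((Curv2.bcCplFst A f).base y)).base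
        ((pullback.snd (Curv2.bcCplFst A f)
          (X.fromSpecResidueField ((Curv2.bcCplFst A f).base y))).base
            ((Curv2.bcCplFst A f).asFiber y)) = (Curv2.bcCplFst A f).base y :=
      X.fromSpecResidueField_apply _ _
    rw [e1]
    exact apply_closedPoint A f y hy
  have h := aux A f (κ := X.residueField ((Curv2.bcCplFst A f).base y))
    (X.fromSpecResidueField ((Curv2.bcCplFst A f).base y))
    ((Curv2.bcCplFst A f).asFiber y) hz
  exact (FibStalk.fibStalkEquiv (Curv2.bcCplFst A f) y).toMulEquiv.isField h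

/-- Descent of regularity along `X_Â → X`. -/
theorem descent [IsLocallyNoetherian X] (y : ↥(Curv2.bcCpl A f))
    (h : IsRegularLocalRing ((Curv2.bcCpl A f).presheaf.stalk y)) :
    IsRegularLocalRing (X.presheaf.stalk ((Curv2.bcCplFst A f).base y)) := by
  letI : Algebra (X.presheaf.stalk ((Curv2.bcCplFst A f).base y))
      ((Curv2.bcCpl A f).presheaf.stalk y) := ((Curv2.bcCplFst A f).stalkMap y).hom.toAlgebra
  haveI : IsLocalHom (algebraMap (X.presheaf.stalk ((Curv2.bcCplFst A f).base y))
      ((Curv2.bcCpl A f).presheaf.stalk y)) :=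
    inferInstanceAs (IsLocalHom ((Curv2.bcCplFst A f).stalkMap y).hom)
  haveI : Module.Flat (X.presheaf.stalk ((Curv2.bcCplFst A f).base y))
      ((Curv2.bcCpl A f).presheaf.stalk y) := Flat.stalkMap (Curv2.bcCplFst A f) y
  exact Groth.Agent.S0565.result (X.presheaf.stalk ((Curv2.bcCplFst A f).base y))
    ((Curv2.bcCpl A f).presheaf.stalk y)

/-- S1598. -/
theorem main1598 [LocallyOfFiniteType f] (y : ↥(Curv2.bcCpl A f))
    (hy : (Curv2.bcCplSnd A f).base y = closedPoint (Curv2.cpl A)) :
    IsRegularLocalRing ((Curv2.bcCpl A f).presheaf.stalk y) ↔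
      IsRegularLocalRing (X.presheaf.stalk ((Curv2.bcCplFst A f).base y)) := by
  haveI : IsNoetherianRing (Curv2.cpl A) := Groth.Agent.S0543.result A (maximalIdeal A)
  haveI : IsLocallyNoetherian X := LocallyOfFiniteType.isLocallyNoetherian f
  haveI : IsLocallyNoetherian (Curv2.bcCpl A f) :=
    LocallyOfFiniteType.isLocallyNoetherian (Curv2.bcCplSnd A f)
  constructor
  · intro hS
    exact descent A f y hS
  · intro hR
    letI : Algebra (X.presheaf.stalk ((Curv2.bcCplFst A f).base y))
        ((Curv2.bcCpl A f).presheaf.stalk y) := ((Curv2.bcCplFst A f).stalkMap y).hom.toAlgebra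
    haveI : IsLocalHom (algebraMap (X.presheaf.stalk ((Curv2.bcCplFst A f).base y))
        ((Curv2.bcCpl A f).presheaf.stalk y)) :=
      inferInstanceAs (IsLocalHom ((Curv2.bcCplFst A f).stalkMap y).hom)
    haveI : Module.Flat (X.presheaf.stalk ((Curv2.bcCplFst A f).base y))
        ((Curv2.bcCpl A f).presheaf.stalk y) := Flat.stalkMap (Curv2.bcCplFst A f) y
    exact Groth.Agent.Helper14.RegAscent.isRegularLocalRing_of_flat_of_fibre
      (X.presheaf.stalk ((Curv2.bcCplFst A f).base y)) ((Curv2.bcCpl A f).presheaf.stalk y)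
      (CplFibre.isRegularLocalRing_of_isField _ (fibre_isField A f y hy))

/-- S1597. -/
theorem main1597 [IsProper f] :
    (∀ x : X, IsRegularLocalRing (X.presheaf.stalk x)) ↔
      ∀ y : ↥(Curv2.bcCpl A f), IsRegularLocalRing ((Curv2.bcCpl A f).presheaf.stalk y) := by
  haveI : IsNoetherianRing (Curv2.cpl A) := Groth.Agent.S0543.result A (maximalIdeal A)
  haveI : IsLocallyNoetherian X := LocallyOfFiniteType.isLocallyNoetherian f
  constructor
  · intro hX y
    haveI : CompactSpace ↥(Curv2.bcCpl A f) :=
      QuasiCompact.compactSpace_of_compactSpace (Curv2.bcCplSnd A f)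
    obtain ⟨y0, hy0, hcl⟩ := IsClosed.exists_closed_singleton
      (isClosed_closure (s := ({y} : Set ↥(Curv2.bcCpl A f)))) ⟨y, subset_closure rfl⟩
    have hsp : y ⤳ y0 := specializes_iff_mem_closure.mpr hy0
    have hcl' : IsClosed ({(Curv2.bcCplSnd A f).base y0} :
        Set ↥(Spec (CommRingCat.of (Curv2.cpl A)))) := by
      have := (Curv2.bcCplSnd A f).isClosedMap _ hcl
      rwa [Set.image_singleton] at this
    have hmax : (Curv2.bcCplSnd A f).base y0 = closedPoint (Curv2.cpl A) := by
      have h1 := (PrimeSpectrum.isClosed_singleton_iff_isMaximal _).mp hcl'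
      exact PrimeSpectrum.ext (IsLocalRing.eq_maximalIdeal h1)
    haveI : IsRegularLocalRing ((Curv2.bcCpl A f).presheaf.stalk y0) :=
      (main1598 A f y0 hmax).mpr (hX _)
    exact Groth.Agent.Helper28.ClosedSpec.isRegularLocalRing_of_specializes _ hsp
  · intro hY x
    haveI : Module.Flat A (Curv2.cpl A) := AdicCompletion.flat_of_isNoetherian (maximalIdeal A)
    haveI : Module.FaithfullyFlat A (Curv2.cpl A) := Module.FaithfullyFlat.of_flat_of_isLocalHom
    haveI : Surjective (Spec.map (CommRingCat.ofHom (algebraMap A (Curv2.cpl A)))) :=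
      ⟨PrimeSpectrum.comap_surjective_of_faithfullyFlat⟩
    obtain ⟨y, rfl⟩ := (Curv2.bcCplFst A f).surjective x
    exact descent A f y (hY y)

end Main

end Groth.Agent.Helper3.CplFibreSch
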