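import Mathlib
import Groth.Agent.Lib.Helper14.AdicComplQuot

/-!
# Local rings of a base change to the completion (helper3, for S7305)

`A` local with finitely generated maximal ideal, `B` an `A`-algebra, `P` a prime of `B` over the
maximal ideal of `A`, `Q` a prime of `C ≅ B ⊗[A] Â` over `P`.  Then `B_P / P^n → C_Q / Q^n` is
bijective.
-/

set_option autoImplicit false
universe u

namespace Groth.Agent.Helper3.CplStalk

open TensorProduct IsLocalRing

section Tensor

variable (A B : Type u) [CommRing A] [CommRing B] [IsLocalRing A] [Algebra A B]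

local notation "Â" => AdicCompletion (maximalIdeal A) A
local notation "B'" => B ⊗[A] AdicCompletion (maximalIdeal A) A
local notation "iL" => (Algebra.TensorProduct.includeLeft : B →ₐ[A] B ⊗[A] AdicCompletion (maximalIdeal A) A)

/-- `b ↦ b ⊗ 1` as a ring homomorphism. -/
noncomputable abbrev iLr : B →+* B ⊗[A] AdicCompletion (maximalIdeal A) A :=
  (Algebra.TensorProduct.includeLeft : B →ₐ[A] B ⊗[A] AdicCompletion (maximalIdeal A) A).toRingHom

variable (I : Ideal B) (k : ℕ) (hI : (maximalIdeal A ^ k).map (algebraMap A B) ≤ I)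

/-- the auxiliary map `B ⊗ Â → B / I` -/
noncomputable def θ : B' →ₐ[A] B ⧸ I :=
  Algebra.TensorProduct.lift (Ideal.Quotient.mkₐ A I)
    ((Ideal.Quotient.liftₐ (maximalIdeal A ^ k)
        ((Ideal.Quotient.mkₐ A I).comp (Algebra.ofId A B))
        (fun a ha => by
          show Ideal.Quotient.mk _ (algebraMap A B a) = 0
          rw [Ideal.Quotient.eq_zero_iff_mem]
          exact hI (Ideal.mem_map_of_mem _ ha))).comp
      (AdicCompletion.evalₐ (maximalIdeal A) k))
    (fun _ _ => Commute.all _ _)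

theorem θ_iL (b : B) : θ A B I k hI (iLr A B b) = Ideal.Quotient.mk _ b := by
  simp [θ, iLr]

include hI in
theorem mem_of_iL_mem (b : B) (hb : iLr A B b ∈ I.map (iLr A B)) : b ∈ I := by
  have hle : I.map (iLr A B) ≤ RingHom.ker (θ A B I k hI) := by
    rw [Ideal.map_le_iff_le_comap]
    intro x hx
    rw [Ideal.mem_comap, RingHom.mem_ker, θ_iL]
    exact Ideal.Quotient.eq_zero_iff_mem.mpr hx
  have h1 := hle hb
  rw [RingHom.mem_ker, θ_iL] at h1
  exact Ideal.Quotient.eq_zero_iff_mem.mp h1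

include hI in
theorem includeRight_mem (y : Â)
    (hy : y ∈ (maximalIdeal A ^ k).map (algebraMap A Â)) :
    (1 : B) ⊗ₜ[A] y ∈ I.map (iLr A B) := by
  have hle : (maximalIdeal A ^ k).map (algebraMap A Â) ≤
      (I.map (iLr A B)).comap
        (Algebra.TensorProduct.includeRight : Â →ₐ[A] B') := by
    rw [Ideal.map_le_iff_le_comap]
    intro a ha
    rw [Ideal.mem_comap, Ideal.mem_comap]
    have : (Algebra.TensorProduct.includeRight : Â →ₐ[A] B') (algebraMap A Â a) =
        iLr A B (algebraMap A B a) := by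
      show (Algebra.TensorProduct.includeRight : Â →ₐ[A] B') (algebraMap A Â a) =
        iL (algebraMap A B a)
      rw [AlgHom.commutes, AlgHom.commutes]
    rw [this]
    exact Ideal.mem_map_of_mem _ (hI (Ideal.mem_map_of_mem _ ha))
  exact hle hy

include hI in
theorem exists_sub_mem (hfg : (maximalIdeal A).FG) (z : B') :
    ∃ b : B, z - iLr A B b ∈ I.map (iLr A B) := by
  induction z using TensorProduct.induction_on with
  | zero => exact ⟨0, by simp⟩
  | add x y hx hy =>
    obtain ⟨b1, h1⟩ := hx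
    obtain ⟨b2, h2⟩ := hy
    refine ⟨b1 + b2, ?_⟩
    have : x + y - iLr A B (b1 + b2) = (x - iLr A B b1) + (y - iLr A B b2) := by
      rw [map_add]; ring
    rw [this]; exact Ideal.add_mem _ h1 h2
  | tmul b y =>
    obtain ⟨a, ha⟩ := Ideal.Quotient.mk_surjective (AdicCompletion.evalₐ (maximalIdeal A) k y)
    have h1 := Groth.Agent.Helper14.AdicComplQuot.algebraMap_sub_mem (maximalIdeal A) hfg k y a ha
    rw [← Ideal.map_pow] at h1
    refine ⟨a • b, ?_⟩
    have h2 : b ⊗ₜ[A] y - iLr A B (a • b) =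
        iLr A B b * ((1 : B) ⊗ₜ[A] (y - algebraMap A Â a)) := by
      show b ⊗ₜ[A] y - iL (a • b) = iL b * ((1 : B) ⊗ₜ[A] (y - algebraMap A Â a))
      rw [Algebra.TensorProduct.includeLeft_apply, Algebra.TensorProduct.includeLeft_apply,
        Algebra.TensorProduct.tmul_mul_tmul, mul_one, one_mul, TensorProduct.tmul_sub,
        TensorProduct.smul_tmul, Algebra.smul_def, mul_one]
    rw [h2]
    exact Ideal.mul_mem_left _ _ (includeRight_mem A B I k hI _ h1)

variable {C : Type u} [CommRing C] (iB : B →+* C)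
  (e : B ⊗[A] AdicCompletion (maximalIdeal A) A ≃+* C) (he : ∀ b, e (iLr A B b) = iB b)

include he in
theorem map_map_e : (I.map (iLr A B)).map (e : B' →+* C) = I.map iB := by
  rw [Ideal.map_map]
  congr 1
  ext b
  exact he b

include hI he in
theorem F1_of_equiv (hfg : (maximalIdeal A).FG) (z : C) : ∃ b : B, z - iB b ∈ I.map iB := by
  obtain ⟨b, hb⟩ := exists_sub_mem A B I k hI hfg (e.symm z)
  refine ⟨b, ?_⟩
  have h1 : (e : B' →+* C) (e.symm z - iLr A B b) ∈ (I.map (iLr A B)).map (e : B' →+* C) :=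
    Ideal.mem_map_of_mem _ hb
  rw [map_sub] at h1
  have h3 : (e : B' →+* C) (e.symm z) = z := e.apply_symm_apply z
  have h4 : (e : B' →+* C) (iLr A B b) = iB b := he b
  rw [h3, h4, map_map_e A B I iB e he] at h1
  exact h1

include hI he in
theorem F2_of_equiv (b : B) (hb : iB b ∈ I.map iB) : b ∈ I := by
  rw [← map_map_e A B I iB e he] at hb
  obtain ⟨x, hx, hxe⟩ := (Ideal.mem_map_iff_of_surjective (e : B' →+* C) e.surjective).mp hb
  have h4 : (e : B' →+* C) (iLr A B b) = iB b := he b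
  have : x = iLr A B b := e.injective (hxe.trans h4.symm)
  rw [this] at hx
  exact mem_of_iL_mem A B I k hI b hx

end Tensor

section Abstract

variable {B C : Type u} [CommRing B] [CommRing C] (iB : B →+* C) (P : Ideal B) [P.IsPrime]
  (Q : Ideal C) [Q.IsPrime] (hQ : Q.comap iB = P) (n : ℕ) (hn : 1 ≤ n)
  (F1 : ∀ z : C, ∃ b : B, z - iB b ∈ (P ^ n).map iB)
  (F2 : ∀ b : B, iB b ∈ (P ^ n).map iB → b ∈ P ^ n)

include hQ in
theorem map_le : P.map iB ≤ Q := by
  rw [Ideal.map_le_iff_le_comap, hQ]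

include hn in
theorem pow_map_le : (P ^ n).map iB ≤ P.map iB :=
  Ideal.map_mono (Ideal.pow_le_self (by omega))

include hQ hn F1 in
theorem Q_eq : Q = P.map iB := by
  have hle := map_le iB P Q hQ
  refine le_antisymm ?_ hle
  intro z hz
  obtain ⟨b, hb⟩ := F1 z
  have hb' : z - iB b ∈ P.map iB := pow_map_le iB P n hn hb
  have h2 : iB b ∈ Q := by
    have : iB b = z - (z - iB b) := by ring
    rw [this]; exact Ideal.sub_mem _ hz (hle hb')
  have h3 : b ∈ P := by rw [← hQ]; exact h2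
  have : z = (z - iB b) + iB b := by ring
  rw [this]
  exact Ideal.add_mem _ hb' (Ideal.mem_map_of_mem _ h3)

include hQ hn F1 in
theorem exists_approx_unit (w : C) (hw : w ∉ Q) :
    ∃ t : B, t ∉ P ∧ w - iB t ∈ (P ^ n).map iB := by
  obtain ⟨t, ht⟩ := F1 w
  refine ⟨t, ?_, ht⟩
  intro htP
  apply hw
  have hle := map_le iB P Q hQ
  have h1 : w - iB t ∈ Q := hle (pow_map_le iB P n hn ht)
  have h2 : iB t ∈ Q := hle (Ideal.mem_map_of_mem _ htP)
  have : w = (w - iB t) + iB t := by ring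
  rw [this]; exact Ideal.add_mem _ h1 h2

variable (Bp : Type u) [CommRing Bp] [Algebra B Bp] [IsLocalization.AtPrime Bp P] [IsLocalRing Bp]
  (Cq : Type u) [CommRing Cq] [Algebra C Cq] [IsLocalization.AtPrime Cq Q] [IsLocalRing Cq]
  (φ : Bp →+* Cq) (hφ : ∀ b : B, φ (algebraMap B Bp b) = algebraMap C Cq (iB b))

theorem max_pow_Bp : maximalIdeal Bp ^ n = (P ^ n).map (algebraMap B Bp) := by
  rw [Ideal.map_pow, IsLocalization.AtPrime.map_eq_maximalIdeal P Bp]

include hQ hn F1 in
theorem max_pow_Cq : maximalIdeal Cq ^ n = ((P ^ n).map iB).map (algebraMap C Cq) := by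
  rw [Ideal.map_pow, ← Q_eq iB P Q hQ n hn F1, Ideal.map_pow,
    IsLocalization.AtPrime.map_eq_maximalIdeal Q Cq]

include hQ hn F1 F2 hφ in
theorem inj_part (x : Bp) (hx : φ x ∈ maximalIdeal Cq ^ n) : x ∈ maximalIdeal Bp ^ n := by
  obtain ⟨b, s, rfl⟩ := IsLocalization.exists_mk'_eq P.primeCompl x
  have h1 : φ (IsLocalization.mk' Bp b s) * algebraMap C Cq (iB s) = algebraMap C Cq (iB b) := by
    rw [← hφ, ← hφ, ← map_mul, IsLocalization.mk'_spec]
  have h2 : algebraMap C Cq (iB b) ∈ maximalIdeal Cq ^ n := by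
    rw [← h1]; exact Ideal.mul_mem_right _ _ hx
  rw [max_pow_Cq iB P Q hQ n hn F1 Cq, IsLocalization.mem_map_algebraMap_iff Q.primeCompl] at h2
  obtain ⟨⟨⟨c, hc⟩, w⟩, hcw⟩ := h2
  rw [← map_mul, IsLocalization.eq_iff_exists Q.primeCompl] at hcw
  obtain ⟨w', hw'⟩ := hcw
  have hwQ : (w' : C) * (w : C) ∉ Q := Q.primeCompl.mul_mem w'.2 w.2
  have hmem : ((w' : C) * (w : C)) * iB b ∈ (P ^ n).map iB := by
    have : ((w' : C) * (w : C)) * iB b = (w' : C) * c := by
      have := hw'
      simp only at this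
      rw [← this]; ring
    rw [this]; exact Ideal.mul_mem_left _ _ hc
  obtain ⟨t, htP, ht⟩ := exists_approx_unit iB P Q hQ n hn F1 _ hwQ
  have h3 : iB (t * b) ∈ (P ^ n).map iB := by
    have : iB (t * b) = ((w' : C) * (w : C)) * iB b - ((w' : C) * (w : C) - iB t) * iB b := by
      rw [map_mul]; ring
    rw [this]; exact Ideal.sub_mem _ hmem (Ideal.mul_mem_right _ _ ht)
  have h4 := F2 _ h3
  rw [max_pow_Bp P n Bp]
  have h5 : algebraMap B Bp (t * b) ∈ (P ^ n).map (algebraMap B Bp) := Ideal.mem_map_of_mem _ h4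
  have hu : IsUnit (algebraMap B Bp t * algebraMap B Bp s) :=
    (IsLocalization.map_units Bp (⟨t, htP⟩ : P.primeCompl)).mul (IsLocalization.map_units Bp s)
  rw [← Ideal.mul_unit_mem_iff_mem _ hu]
  have : IsLocalization.mk' Bp b s * (algebraMap B Bp t * algebraMap B Bp s) =
      algebraMap B Bp (t * b) := by
    rw [map_mul, mul_comm (algebraMap B Bp t), ← mul_assoc, IsLocalization.mk'_spec, mul_comm]
  rw [this]; exact h5

include hQ hn F1 hφ in
theorem surj_part (y : Cq) : ∃ x : Bp, y - φ x ∈ maximalIdeal Cq ^ n := by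
  obtain ⟨z, w, rfl⟩ := IsLocalization.exists_mk'_eq Q.primeCompl y
  obtain ⟨b, hb⟩ := F1 z
  obtain ⟨t, htP, ht⟩ := exists_approx_unit iB P Q hQ n hn F1 w w.2
  refine ⟨IsLocalization.mk' Bp b (⟨t, htP⟩ : P.primeCompl), ?_⟩
  have hφx : φ (IsLocalization.mk' Bp b (⟨t, htP⟩ : P.primeCompl)) * algebraMap C Cq (iB t) =
      algebraMap C Cq (iB b) := by
    rw [← hφ, ← hφ, ← map_mul]
    congr 1
    exact IsLocalization.mk'_spec Bp b (⟨t, htP⟩ : P.primeCompl)
  have hy : IsLocalization.mk' Cq z w * algebraMap C Cq w = algebraMap C Cq z :=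
    IsLocalization.mk'_spec _ _ _
  have htQ : iB t ∉ Q := by
    intro h; apply htP; rw [← hQ]; exact h
  have hu : IsUnit (algebraMap C Cq (iB t) * algebraMap C Cq w) :=
    (IsLocalization.map_units Cq (⟨iB t, htQ⟩ : Q.primeCompl)).mul (IsLocalization.map_units Cq w)
  rw [← Ideal.mul_unit_mem_iff_mem _ hu, max_pow_Cq iB P Q hQ n hn F1 Cq]
  have : (IsLocalization.mk' Cq z w - φ (IsLocalization.mk' Bp b (⟨t, htP⟩ : P.primeCompl))) *
      (algebraMap C Cq (iB t) * algebraMap C Cq w) =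
      algebraMap C Cq ((z - iB b) * iB t - iB b * (w - iB t)) := by
    have e1 : (IsLocalization.mk' Cq z w - φ (IsLocalization.mk' Bp b (⟨t, htP⟩ : P.primeCompl))) *
        (algebraMap C Cq (iB t) * algebraMap C Cq w) =
        (IsLocalization.mk' Cq z w * algebraMap C Cq w) * algebraMap C Cq (iB t) -
        (φ (IsLocalization.mk' Bp b (⟨t, htP⟩ : P.primeCompl)) * algebraMap C Cq (iB t)) *
          algebraMap C Cq w := by ring
    rw [e1, hy, hφx]
    simp only [map_sub, map_mul]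
    ring
  rw [this]
  apply Ideal.mem_map_of_mem
  exact Ideal.sub_mem _ (Ideal.mul_mem_right _ _ hb) (Ideal.mul_mem_left _ _ ht)

include hQ hn F1 F2 hφ in
theorem bijective_quotientMap (h : maximalIdeal Bp ^ n ≤ (maximalIdeal Cq ^ n).comap φ) :
    Function.Bijective (Ideal.quotientMap (maximalIdeal Cq ^ n) φ h) := by
  constructor
  · rw [injective_iff_map_eq_zero]
    intro x hx
    obtain ⟨x, rfl⟩ := Ideal.Quotient.mk_surjective x
    rw [Ideal.quotientMap_mk, Ideal.Quotient.eq_zero_iff_mem] at hx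
    rw [Ideal.Quotient.eq_zero_iff_mem]
    exact inj_part iB P Q hQ n hn F1 F2 Bp Cq φ hφ x hx
  · intro y
    obtain ⟨y, rfl⟩ := Ideal.Quotient.mk_surjective y
    obtain ⟨x, hx⟩ := surj_part iB P Q hQ n hn F1 Bp Cq φ hφ y
    refine ⟨Ideal.Quotient.mk _ x, ?_⟩
    rw [Ideal.quotientMap_mk, eq_comm, Ideal.Quotient.eq]
    exact hx

end Abstract

end Groth.Agent.Helper3.CplStalk
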