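import Mathlib
import Groth.Prelude.Def_Curv2
import Groth.Agent.Lib.Helper3.CplStalk

/-!
# S7305: local rings of the base change to the completion (helper3)
-/

set_option autoImplicit false
universe u

open CategoryTheory CategoryTheory.Limits AlgebraicGeometry TensorProduct IsLocalRing

namespace Groth.Agent.Helper3.CplStalkSch

variable (A : Type u) [CommRing A] [IsLocalRing A] {X : Scheme.{u}}
  (f : X ⟶ Spec (CommRingCat.of A))

set_option maxHeartbeats 1600000 in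
theorem main (hm : (maximalIdeal A).FG) (q : ↥(Curv2.bcCpl A f))
    (hq : f.base ((Curv2.bcCplFst A f).base q) = closedPoint A) (n : ℕ) (hn : 1 ≤ n)
    (h : maximalIdeal (X.presheaf.stalk ((Curv2.bcCplFst A f).base q)) ^ n ≤
      (maximalIdeal ((Curv2.bcCpl A f).presheaf.stalk q) ^ n).comap
        ((Curv2.bcCplFst A f).stalkMap q).hom) :
    Function.Bijective (Ideal.quotientMap
      (maximalIdeal ((Curv2.bcCpl A f).presheaf.stalk q) ^ n)
      ((Curv2.bcCplFst A f).stalkMap q).hom h) := by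
  obtain ⟨_, ⟨U, hU, rfl⟩, hpU, -⟩ := X.isBasis_affineOpens.exists_subset_of_mem_open
    (Set.mem_univ ((Curv2.bcCplFst A f).base q)) isOpen_univ
  haveI : IsAffineHom (Spec.map (CommRingCat.ofHom (algebraMap A (Curv2.cpl A)))) := inferInstance
  haveI : IsAffineHom (Curv2.bcCplFst A f) := MorphismProperty.pullback_fst _ _ ‹_›
  have hV : IsAffineOpen ((Curv2.bcCplFst A f) ⁻¹ᵁ U) := hU.preimage (Curv2.bcCplFst A f)
  have hqV : q ∈ (Curv2.bcCplFst A f) ⁻¹ᵁ U := hpU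
  -- the pushout square of sections
  have H : IsPullback (Curv2.bcCplFst A f) (Curv2.bcCplSnd A f) f
      (Spec.map (CommRingCat.ofHom (algebraMap A (Curv2.cpl A)))) := IsPullback.of_hasPullback _ _
  have hUY : (Curv2.bcCplFst A f) ⁻¹ᵁ U =
      (Curv2.bcCplFst A f) ⁻¹ᵁ U ⊓ (Curv2.bcCplSnd A f) ⁻¹ᵁ ⊤ :=
    (inf_eq_left.mpr (fun x _ => trivial)).symm
  have hiso := isIso_pushoutSection_of_isAffineOpen H (US := ⊤) (UT := ⊤) (UX := U)
    (UY := (Curv2.bcCplFst A f) ⁻¹ᵁ U) le_top le_top hUY (isAffineOpen_top _)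
    (isAffineOpen_top _) hU
  have hpo := (isIso_pushoutSection_iff H _ _ _).mp hiso
  -- transport to `A` and `Â`
  let ψ : CommRingCat.of A ⟶ Γ(X, U) :=
    (Scheme.ΓSpecIso (CommRingCat.of A)).inv ≫ f.appLE ⊤ U le_top
  letI algB : Algebra A Γ(X, U) := ψ.hom.toAlgebra
  have hpo' : IsPushout (CommRingCat.ofHom (algebraMap A Γ(X, U)))
      (CommRingCat.ofHom (algebraMap A (Curv2.cpl A)))
      ((Curv2.bcCplFst A f).appLE U ((Curv2.bcCplFst A f) ⁻¹ᵁ U) le_rfl)
      ((Scheme.ΓSpecIso (CommRingCat.of (Curv2.cpl A))).inv ≫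
        (Curv2.bcCplSnd A f).appLE ⊤ ((Curv2.bcCplFst A f) ⁻¹ᵁ U) (fun _ _ => trivial)) := by
    refine IsPushout.of_iso hpo (Scheme.ΓSpecIso (CommRingCat.of A)) (Iso.refl _)
      (Scheme.ΓSpecIso (CommRingCat.of (Curv2.cpl A))) (Iso.refl _) ?_ ?_ ?_ ?_
    · show _ = (Scheme.ΓSpecIso (CommRingCat.of A)).hom ≫ ψ
      simp [ψ]
    · simp [Scheme.Hom.appLE]
    · simp
    · simp
  -- the tensor product
  have hpoT := CommRingCat.isPushout_tensorProduct A Γ(X, U) (Curv2.cpl A)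
  let E := hpoT.isoIsPushout _ _ hpo'
  have hE := hpoT.inl_isoIsPushout_hom _ _ hpo'
  let e : Γ(X, U) ⊗[A] AdicCompletion (maximalIdeal A) A ≃+*
      Γ(Curv2.bcCpl A f, (Curv2.bcCplFst A f) ⁻¹ᵁ U) := E.commRingCatIsoToRingEquiv
  let iB : Γ(X, U) →+* Γ(Curv2.bcCpl A f, (Curv2.bcCplFst A f) ⁻¹ᵁ U) :=
    ((Curv2.bcCplFst A f).appLE U _ le_rfl).hom
  have he : ∀ b, e (CplStalk.iLr A Γ(X, U) b) = iB b := by
    intro b
    have := congrArg (fun φ => φ.hom b) hE
    exact this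
  -- stalks as localizations
  letI algX : Algebra Γ(X, U) (X.presheaf.stalk ((Curv2.bcCplFst A f).base q)) :=
    TopCat.Presheaf.algebra_section_stalk X.presheaf ⟨_, hpU⟩
  haveI locX : IsLocalization.AtPrime (X.presheaf.stalk ((Curv2.bcCplFst A f).base q))
      (hU.primeIdealOf ⟨_, hpU⟩).asIdeal := hU.isLocalization_stalk ⟨_, hpU⟩
  letI algY : Algebra Γ(Curv2.bcCpl A f, (Curv2.bcCplFst A f) ⁻¹ᵁ U)
      ((Curv2.bcCpl A f).presheaf.stalk q) :=
    TopCat.Presheaf.algebra_section_stalk (Curv2.bcCpl A f).presheaf ⟨q, hqV⟩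
  haveI locY : IsLocalization.AtPrime ((Curv2.bcCpl A f).presheaf.stalk q)
      (hV.primeIdealOf ⟨q, hqV⟩).asIdeal := hV.isLocalization_stalk ⟨q, hqV⟩
  have hφ : ∀ b : Γ(X, U), ((Curv2.bcCplFst A f).stalkMap q).hom
      (algebraMap Γ(X, U) (X.presheaf.stalk ((Curv2.bcCplFst A f).base q)) b) =
      algebraMap Γ(Curv2.bcCpl A f, (Curv2.bcCplFst A f) ⁻¹ᵁ U)
        ((Curv2.bcCpl A f).presheaf.stalk q) (iB b) := by
    intro b
    have := Scheme.Hom.germ_stalkMap_apply (Curv2.bcCplFst A f) U q hpU b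
    rw [Scheme.Hom.app_eq_appLE] at this
    exact this
  have hPA : ∀ a ∈ maximalIdeal A,
      algebraMap A Γ(X, U) a ∈ (hU.primeIdealOf ⟨_, hpU⟩).asIdeal := by
    intro a ha
    rw [← IsLocalization.AtPrime.to_map_mem_maximal_iff
      (X.presheaf.stalk ((Curv2.bcCplFst A f).base q)) (hU.primeIdealOf ⟨_, hpU⟩).asIdeal]
    rw [IsLocalRing.mem_maximalIdeal, mem_nonunits_iff]
    intro hunit
    have h1 : (Curv2.bcCplFst A f).base q ∈ X.basicOpen (algebraMap A Γ(X, U) a) :=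
      (Scheme.mem_basicOpen X _ _ hpU).mpr hunit
    have h2 : algebraMap A Γ(X, U) a =
        (f.appLE ⊤ U le_top).hom ((Scheme.ΓSpecIso (CommRingCat.of A)).inv.hom a) := rfl
    rw [h2, Scheme.basicOpen_appLE] at h1
    have h3 := h1.2
    have h4 : a ∉ (f.base ((Curv2.bcCplFst A f).base q)).asIdeal := by
      have h5 : f.base ((Curv2.bcCplFst A f).base q) ∈
          (PrimeSpectrum.basicOpen (R := A) a : Set (PrimeSpectrum A)) := by
        have h6 := basicOpen_eq_of_affine (R := CommRingCat.of A) a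
        rw [← h6]
        exact h3
      exact h5
    rw [hq] at h4
    exact h4 ha
  have hQ : (hV.primeIdealOf ⟨q, hqV⟩).asIdeal.comap iB =
      (hU.primeIdealOf ⟨_, hpU⟩).asIdeal := by
    ext b
    have hloc : (maximalIdeal ((Curv2.bcCpl A f).presheaf.stalk q)).comap
        ((Curv2.bcCplFst A f).stalkMap q).hom = maximalIdeal _ :=
      IsLocalRing.maximalIdeal_comap ((Curv2.bcCplFst A f).stalkMap q).hom
    rw [Ideal.mem_comap,
      ← IsLocalization.AtPrime.to_map_mem_maximal_iff ((Curv2.bcCpl A f).presheaf.stalk q)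
        (hV.primeIdealOf ⟨q, hqV⟩).asIdeal,
      ← IsLocalization.AtPrime.to_map_mem_maximal_iff
        (X.presheaf.stalk ((Curv2.bcCplFst A f).base q)) (hU.primeIdealOf ⟨_, hpU⟩).asIdeal,
      ← hφ, ← hloc, Ideal.mem_comap]
  have hI : (maximalIdeal A ^ n).map (algebraMap A Γ(X, U)) ≤
      (hU.primeIdealOf ⟨_, hpU⟩).asIdeal ^ n := by
    rw [Ideal.map_pow]
    exact Ideal.pow_right_mono (Ideal.map_le_iff_le_comap.mpr hPA) n
  have F1 := CplStalk.F1_of_equiv A Γ(X, U) _ n hI iB e he hm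
  have F2 := CplStalk.F2_of_equiv A Γ(X, U) _ n hI iB e he
  exact CplStalk.bijective_quotientMap iB _ _ hQ n hn F1 F2 _ _ _ hφ h

end Groth.Agent.Helper3.CplStalkSch
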