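import Mathlib

/-!
Helper3: bound on divisibility by powers of a nonzerodivisor in finite extensions of a
one-dimensional Noetherian local ring (S1835).
-/

namespace Groth.Agent.Helper3.CycBound

universe u

/-- In a Noetherian local ring of dimension `≤ 1`, some power of an element `a` of the maximal ideal
is a multiple of any nonzerodivisor `b`. -/
theorem exists_pow_eq_mul (R : Type u) [CommRing R] [IsNoetherianRing R] [IsLocalRing R]
    (hR : ringKrullDim R = 1) (a b : R) (ham : a ∈ IsLocalRing.maximalIdeal R)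
    (hb : b ∈ nonZeroDivisors R) : ∃ (N : ℕ) (r : R), a ^ N = b * r := by
  by_cases hbu : IsUnit b
  · obtain ⟨u, rfl⟩ := hbu
    exact ⟨0, (↑u⁻¹ : R), by simp⟩
  have hbm : b ∈ IsLocalRing.maximalIdeal R := (IsLocalRing.mem_maximalIdeal b).mpr hbu
  have hdim : Ring.KrullDimLE 1 R := by
    rw [Ring.krullDimLE_iff, hR]; rfl
  have hle : IsLocalRing.maximalIdeal R ≤ (Ideal.span {b}).radical := by
    rw [Ideal.radical_eq_sInf]
    refine le_sInf ?_
    rintro p ⟨hbp, hp⟩
    have hbp' : b ∈ p := hbp (Ideal.subset_span rfl)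
    rcases Ring.krullDimLE_one_iff.mp hdim p hp with hmin | hmax
    · exact absurd hb
        (Set.disjoint_left.mp (Ideal.disjoint_nonZeroDivisors_of_mem_minimalPrimes hmin) hbp')
    · rw [IsLocalRing.eq_maximalIdeal hmax]
  obtain ⟨N, hN⟩ := Ideal.exists_pow_le_of_le_radical_of_fg hle
    (isNoetherian_def.mp inferInstance _)
  have : a ^ N ∈ Ideal.span {b} := hN (Ideal.pow_mem_pow ham N)
  obtain ⟨r, hr⟩ := Ideal.mem_span_singleton'.mp this
  exact ⟨N, r, by rw [← hr, mul_comm]⟩

theorem main1835 (R : Type u) [CommRing R] [IsNoetherianRing R] [IsLocalRing R]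
    (hR : ringKrullDim R = 1) (a b : R) (ha : a ∈ nonZeroDivisors R)
    (ham : a ∈ IsLocalRing.maximalIdeal R) (hb : b ∈ nonZeroDivisors R) :
    ∃ n : ℕ, ∀ (R' : Type u) [CommRing R'] [Algebra R R'],
      Function.Injective (algebraMap R R') → Module.Finite R R' → ∀ (m : ℕ) (c : R'),
        algebraMap R R' b = algebraMap R R' a ^ m * c → m ≤ n := by
  obtain ⟨N, r, hNr⟩ := exists_pow_eq_mul R hR a b ham hb
  refine ⟨N, ?_⟩
  intro R' _ _ hinj hfin m c hc
  by_contra hlt
  rw [not_le] at hlt
  -- a ^ N = a ^ m * c * r in R'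
  set a' := algebraMap R R' a with ha'
  have h1 : a' ^ N = a' ^ m * c * algebraMap R R' r := by
    rw [← hc, ← map_mul, ← hNr, map_pow]
  obtain ⟨k, rfl⟩ : ∃ k, m = N + (k + 1) := ⟨m - N - 1, by omega⟩
  have h2 : a' ^ N * (1 - a' * (a' ^ k * c * algebraMap R R' r)) = 0 := by
    have : a' ^ (N + (k + 1)) = a' ^ N * (a' * a' ^ k) := by
      rw [pow_add, pow_succ']
    rw [this] at h1
    rw [mul_sub, mul_one, sub_eq_zero]
    calc a' ^ N = a' ^ N * (a' * a' ^ k) * c * algebraMap R R' r := h1
      _ = _ := by ring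
  have hunit : IsUnit (1 - a' * (a' ^ k * c * algebraMap R R' r)) := by
    by_contra hnu
    obtain ⟨M, hM, hmem⟩ := exists_max_ideal_of_mem_nonunits hnu
    have hint : Algebra.IsIntegral R R' := inferInstance
    have hcm : (M.comap (algebraMap R R')).IsMaximal :=
      Ideal.isMaximal_comap_of_isIntegral_of_isMaximal M
    have haM : a' ∈ M := by
      have : a ∈ M.comap (algebraMap R R') := by
        rw [IsLocalRing.eq_maximalIdeal hcm]; exact ham
      exact this
    have h1M : (1 : R') ∈ M := by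
      have h := M.add_mem hmem (M.mul_mem_right (a' ^ k * c * algebraMap R R' r) haM)
      simpa using h
    exact hM.ne_top ((Ideal.eq_top_iff_one M).mpr h1M)
  have h3 : a' ^ N = 0 := by
    have := hunit.mul_left_eq_zero.mp h2
    exact this
  have h4 : a ^ N = 0 := by
    apply hinj
    rw [map_pow, map_zero]; exact h3
  have h5 : a ^ N ∈ nonZeroDivisors R := pow_mem ha N
  have : (1 : R) = 0 := by
    have := (mem_nonZeroDivisors_iff.mp h5).2 1
    exact this (by rw [one_mul, h4])
  exact one_ne_zero this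

end Groth.Agent.Helper3.CycBound
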