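import Groth.Agent.Lib.Helper3.CycDetRank
import Mathlib.LinearAlgebra.ExteriorPower.Basic
import Mathlib.LinearAlgebra.ExteriorPower.Basis

/-! `det_κ` of a vector space is the top exterior power. -/

universe u v

open CycDet IsLocalRing

namespace Groth.Agent.Helper3.CycDetExt

open Groth.Agent.Helper3.CycDetRank

variable {R : Type u} [CommRing R] [IsLocalRing R] {M : Type v} [AddCommGroup M] [Module R M]
  [Module (ResidueField R) M] [IsScalarTower R (ResidueField R) M]

section Basic

variable {l : ℕ}

theorem smul_eq_residue_smul (r : R) (x : M) :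
    r • x = IsLocalRing.residue R r • x := by
  rw [← IsLocalRing.ResidueField.algebraMap_eq, algebraMap_smul]

theorem spanBefore_le_span (e : Fin l → M) (n : ℕ) :
    ((spanBefore R M e n : Submodule R M) : Set M) ⊆
      (Submodule.span (ResidueField R) (e '' {j : Fin l | (j : ℕ) < n}) : Set M) := by
  intro x hx
  unfold spanBefore at hx
  induction hx using Submodule.span_induction with
  | mem x hx => exact Submodule.subset_span hx
  | zero => exact Submodule.zero_mem _
  | add x y _ _ hx hy => exact Submodule.add_mem _ hx hy
  | smul r x _ hx =>
    rw [smul_eq_residue_smul]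
    exact Submodule.smul_mem _ _ hx

theorem isAdmissible_of_vectorSpace (e : Fin l → M) : IsAdmissible R M e := by
  intro i r hr
  have : r • e i = 0 := by
    rw [smul_eq_residue_smul, (IsLocalRing.residue_eq_zero_iff r).mpr hr, zero_smul]
  rw [this]
  exact Submodule.zero_mem _

/-- A tuple with an entry in the span of earlier ones is linearly dependent. -/
theorem not_linearIndependent_of_mem (e : Fin l → M) (a : Fin l)
    (h : e a ∈ spanBefore R M e a) : ¬ LinearIndependent (ResidueField R) e := by
  intro hli
  have h2 := spanBefore_le_span e a h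
  exact hli.notMem_span_image (s := {j : Fin l | (j : ℕ) < a}) (x := a) (by simp) h2

end Basic

section Map

variable (R M) (l : ℕ)

/-- The map from the free space on admissible tuples to the exterior power. -/
noncomputable def toExt : Free R M l →ₗ[ResidueField R] ⋀[ResidueField R]^l M :=
  Finsupp.linearCombination (ResidueField R)
    (fun e : Adm R M l => exteriorPower.ιMulti (ResidueField R) l e.1)

theorem toExt_sym (e : Adm R M l) :
    toExt R M l (sym R M e) = exteriorPower.ιMulti (ResidueField R) l e.1 := by
  unfold toExt sym
  rw [Finsupp.linearCombination_single, one_smul]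

theorem relSet_le_ker : Submodule.span (ResidueField R) (relSet R M l) ≤ LinearMap.ker (toExt R M l) := by
  classical
  rw [Submodule.span_le]
  rintro x ((⟨e, a, ha, rfl⟩ | ⟨e, e', a, c, h1, h2, rfl⟩) | ⟨e, e', a, b, hab, h1, h2, rfl⟩)
  · -- type (a)
    rw [SetLike.mem_coe, LinearMap.mem_ker, toExt_sym]
    exact AlternatingMap.map_linearDependent _ _ (not_linearIndependent_of_mem e.1 a ha)
  · -- type (b)
    rw [SetLike.mem_coe, LinearMap.mem_ker, map_sub, map_smul, toExt_sym, toExt_sym, sub_eq_zero]
    set s := e.1 a - (c : R) • e'.1 a with hs
    have he : e.1 = Function.update e'.1 a ((c : R) • e'.1 a + s) := by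
      ext j
      by_cases hj : j = a
      · rw [hj, Function.update_self, hs]; abel
      · rw [Function.update_of_ne hj, h1 j hj]
    rw [he, AlternatingMap.map_update_add, smul_eq_residue_smul, AlternatingMap.map_update_smul,
      Function.update_eq_self]
    have hzero : exteriorPower.ιMulti (ResidueField R) l (Function.update e'.1 a s) = 0 := by
      apply AlternatingMap.map_linearDependent
      apply not_linearIndependent_of_mem (R := R) _ a
      rw [Function.update_self]
      have : spanBefore R M (Function.update e'.1 a s) a = spanBefore R M e.1 a := by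
        apply spanBefore_congr
        intro j hj
        have hja : j ≠ a := fun hh => by rw [hh] at hj; omega
        rw [Function.update_of_ne hja, h1 j hja]
      rw [this]
      exact h2
    rw [hzero, add_zero]
  · -- type (c)
    rw [SetLike.mem_coe, LinearMap.mem_ker, map_add, toExt_sym, toExt_sym, h2]
    have hab' : a ≠ b := fun hh => by rw [hh] at hab; omega
    rw [AlternatingMap.map_swap _ _ hab', add_neg_cancel]

/-- The induced map on `DetOfLen`. -/
noncomputable def detToExt : DetOfLen R M l →ₗ[ResidueField R] ⋀[ResidueField R]^l M :=
  Submodule.liftQ _ (toExt R M l) (relSet_le_ker R M l)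

theorem detToExt_cls (e : Adm R M l) :
    detToExt R M l (cls e) = exteriorPower.ιMulti (ResidueField R) l e.1 := by
  unfold detToExt cls
  rw [Submodule.liftQ_apply, toExt_sym]

theorem detToExt_surjective : Function.Surjective (detToExt R M l) := by
  rw [← LinearMap.range_eq_top, eq_top_iff, ← exteriorPower.ιMulti_span, Submodule.span_le]
  rintro _ ⟨v, rfl⟩
  exact ⟨cls ⟨v, isAdmissible_of_vectorSpace v⟩, detToExt_cls R M l _⟩

end Map

section Main

variable (R M)

theorem length_eq_finrank [Module.Finite (ResidueField R) M] :
    Module.length R M = (Module.finrank (ResidueField R) M : ℕ∞) := by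
  rw [Module.length_eq_of_surjective (S := R) (R := ResidueField R) (M := M)
    (by rw [IsLocalRing.ResidueField.algebraMap_eq]; exact IsLocalRing.residue_surjective),
    Module.length_eq_finrank]

theorem main [Module.Finite (ResidueField R) M] :
    ∃ Φ : CycDet.Det R M ≃ₗ[ResidueField R]
        (⋀[ResidueField R]^((Module.length R M).toNat) M),
      ∀ e : CycDet.Adm R M (Module.length R M).toNat,
        Φ (CycDet.symbol R M e) =
          exteriorPower.ιMulti (ResidueField R) ((Module.length R M).toNat) e.1 := by
  have hlen := length_eq_finrank R M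
  have hl : (Module.length R M).toNat = Module.finrank (ResidueField R) M := by
    rw [hlen]; rfl
  have hM : IsFiniteLength R M := by
    rw [← Module.length_ne_top_iff, hlen]; exact ENat.coe_ne_top _
  have hrank := Groth.Agent.Helper3.CycDetRank.main R M hM
  rw [rank_le_one_iff] at hrank
  obtain ⟨v₀, hv₀⟩ := hrank
  have hnontriv : Nontrivial (⋀[ResidueField R]^((Module.length R M).toNat) M) := by
    apply Module.nontrivial_of_finrank_pos (R := ResidueField R)
    rw [exteriorPower.finrank_eq, hl, Nat.choose_self]
    exact Nat.one_pos
  have hsurj := detToExt_surjective R M (Module.length R M).toNat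
  have hinj : Function.Injective (detToExt R M (Module.length R M).toNat) := by
    rw [← LinearMap.ker_eq_bot, LinearMap.ker_eq_bot']
    intro v hv
    obtain ⟨r, rfl⟩ := hv₀ v
    by_cases hr : r = 0
    · rw [hr, zero_smul]
    exfalso
    rw [map_smul] at hv
    have hv0 : detToExt R M (Module.length R M).toNat v₀ = 0 :=
      (smul_eq_zero.mp hv).resolve_left hr
    obtain ⟨w, hw⟩ := exists_ne (0 : ⋀[ResidueField R]^((Module.length R M).toNat) M)
    obtain ⟨u, rfl⟩ := hsurj w
    obtain ⟨r', rfl⟩ := hv₀ u
    apply hw
    rw [map_smul, hv0, smul_zero]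
  refine ⟨LinearEquiv.ofBijective (detToExt R M (Module.length R M).toNat) ⟨hinj, hsurj⟩, ?_⟩
  intro e
  exact detToExt_cls R M _ e

end Main

end Groth.Agent.Helper3.CycDetExt
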