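import Mathlib
import Groth.Agent.Lib.Helper3.DP3

/-!
# Double points of plane curves IV: classification of points of multiplicity at most two (helper3)
-/

set_option autoImplicit false
set_option linter.style.haveILetI false
universe u

namespace Groth.Agent.Helper3.DP

open IsLocalRing MvPowerSeries Groth.Agent.Helper3.NodeAut Groth.Agent.Helper14
  Groth.Agent.Helper5.Morse Groth.Agent.Helper3.ArInv

variable {k : Type u} [Field k]

theorem reg_of_quad (ψ : PS k →ₐ[k] PowerSeries k) (l0 l1 : k)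
    (h0 : ψ (X 0) = PowerSeries.C l0 * PowerSeries.X)
    (h1 : ψ (X 1) = PowerSeries.C l1 * PowerSeries.X)
    (a b c : k) (F F₃ : PS k) (h3 : (3 : ℕ∞) ≤ F₃.order)
    (hF : F = C a * X 0 ^ 2 + C b * (X 0 * X 1) + C c * X 1 ^ 2 + F₃)
    (hq : a * l0 ^ 2 + b * (l0 * l1) + c * l1 ^ 2 ≠ 0) :
    ∃ u : PowerSeries k, IsUnit u ∧ ψ F = PowerSeries.X ^ 2 * u := by
  have hψ : ∀ i, ψ (X i) ∈ maximalIdeal (PowerSeries k) := by
    intro i
    fin_cases i
    · change ψ (X 0) ∈ _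
      rw [h0, mem_max_PS1, map_mul, PowerSeries.constantCoeff_X, mul_zero]
    · change ψ (X 1) ∈ _
      rw [h1, mem_max_PS1, map_mul, PowerSeries.constantCoeff_X, mul_zero]
  have hmem := map_mem_pow ψ hψ 3 F₃ (mem_pow_of_le_order 3 F₃ (by exact_mod_cast h3))
  obtain ⟨r, hr⟩ := X_pow_dvd_of_mem hmem
  refine ⟨PowerSeries.C (a * l0 ^ 2 + b * (l0 * l1) + c * l1 ^ 2) + PowerSeries.X * r, ?_, ?_⟩
  · rw [PowerSeries.isUnit_iff_constantCoeff, map_add, PowerSeries.constantCoeff_C, map_mul,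
      PowerSeries.constantCoeff_X, zero_mul, add_zero, isUnit_iff_ne_zero]
    exact hq
  · have e : ∀ x : k, algebraMap k (PowerSeries k) x = PowerSeries.C x := fun _ => rfl
    rw [hF]
    simp only [map_add, map_mul, map_pow, h0, h1, hr, algHom_C, e]
    ring

theorem exists_lin (l0 l1 : k)
    (hcases : (l0 = 0 ∧ l1 = 1) ∨ (l0 = 1 ∧ l1 = 0) ∨ (l0 = 1 ∧ l1 = 1)) :
    ∃ L : PS k →ₐ[k] PS k, Function.Bijective L ∧
      eps (L (X 0)) = PowerSeries.C l0 * PowerSeries.X ∧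
      eps (L (X 1)) = PowerSeries.C l1 * PowerSeries.X := by
  haveI := complete_P (k := k)
  have hX : ∀ i : Fin 2, (X i : PS k) ∈ maximalIdeal (PS k) := fun i => by
    rw [mem_maximalIdeal_P, constantCoeff_X]
  rcases hcases with ⟨rfl, rfl⟩ | ⟨rfl, rfl⟩ | ⟨rfl, rfl⟩
  · refine ⟨AlgHom.id k _, Function.bijective_id, ?_, ?_⟩
    · rw [AlgHom.id_apply, eps_X0, map_zero, zero_mul]
    · rw [AlgHom.id_apply, eps_X1, map_one, one_mul]
  · obtain ⟨L, hL⟩ := exists_hom_P (k := k) (T := PS k) ![X 1, X 0] (by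
      intro i
      fin_cases i
      · exact hX 1
      · exact hX 0)
    have hL0 : L (X 0) = X 1 := by simpa using hL 0
    have hL1 : L (X 1) = X 0 := by simpa using hL 1
    refine ⟨L, ?_, ?_, ?_⟩
    · refine bijective_P L ?_ ?_
      · intro i
        fin_cases i
        · change L (X 0) ∈ _
          rw [hL0]; exact hX 1
        · change L (X 1) ∈ _
          rw [hL1]; exact hX 0
      · rw [hL0, hL1]
        refine span_pair_le_of _ _ ?_ ?_
        · exact Ideal.subset_span (Set.mem_insert_of_mem _ (Set.mem_singleton _))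
        · exact Ideal.subset_span (Set.mem_insert _ _)
    · rw [hL0, eps_X1, map_one, one_mul]
    · rw [hL1, eps_X0, map_zero, zero_mul]
  · obtain ⟨L, hL⟩ := exists_hom_P (k := k) (T := PS k) ![X 0 + X 1, X 1] (by
      intro i
      fin_cases i
      · exact Ideal.add_mem _ (hX 0) (hX 1)
      · exact hX 1)
    have hL0 : L (X 0) = X 0 + X 1 := by simpa using hL 0
    have hL1 : L (X 1) = X 1 := by simpa using hL 1
    refine ⟨L, ?_, ?_, ?_⟩
    · refine bijective_P L ?_ ?_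
      · intro i
        fin_cases i
        · change L (X 0) ∈ _
          rw [hL0]; exact Ideal.add_mem _ (hX 0) (hX 1)
        · change L (X 1) ∈ _
          rw [hL1]; exact hX 1
      · rw [hL0, hL1]
        refine span_pair_le_of _ _ ?_ ?_
        · rw [Ideal.mem_span_pair]
          exact ⟨1, -1, by ring⟩
        · exact Ideal.subset_span (Set.mem_insert_of_mem _ (Set.mem_singleton _))
    · rw [hL0, map_add, eps_X0, eps_X1, map_one, one_mul, zero_add]
    · rw [hL1, eps_X1, map_one, one_mul]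

/-- points of multiplicity exactly two -/
theorem order_two_main [IsAlgClosed k] (h2 : (2 : k) ≠ 0) (F : PS k)
    (h2o : (2 : ℕ∞) ≤ F.order) (h3o : ¬ (3 : ℕ∞) ≤ F.order) :
    (∃ n : ℕ, Nonempty ((PS k ⧸ Ideal.span {F}) ≃ₐ[k] ArSing.ring k n)) ∨
      Nonempty ((PS k ⧸ Ideal.span {F}) ≃ₐ[k] (PS k ⧸ Ideal.span {(X 1 : PS k) ^ 2})) := by
  obtain ⟨a, b, c, F₃, hF₃, hF⟩ := decomp2 F h2o
  obtain ⟨l0, l1, hcases, hq⟩ : ∃ l0 l1 : k,
      ((l0 = 0 ∧ l1 = 1) ∨ (l0 = 1 ∧ l1 = 0) ∨ (l0 = 1 ∧ l1 = 1)) ∧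
      a * l0 ^ 2 + b * (l0 * l1) + c * l1 ^ 2 ≠ 0 := by
    by_cases hc : c = 0
    · by_cases ha : a = 0
      · by_cases hb : b = 0
        · exfalso
          apply h3o
          rw [hF, ha, hb, hc]
          simpa using hF₃
        · exact ⟨1, 1, Or.inr (Or.inr ⟨rfl, rfl⟩), by rw [ha, hc]; simpa using hb⟩
      · exact ⟨1, 0, Or.inr (Or.inl ⟨rfl, rfl⟩), by simpa using ha⟩
    · exact ⟨0, 1, Or.inl ⟨rfl, rfl⟩, by simpa using hc⟩
  obtain ⟨L, hLbij, hL0, hL1⟩ := exists_lin (k := k) l0 l1 hcases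
  obtain ⟨u, hu, hreg⟩ := reg_of_quad (eps.comp L) l0 l1 hL0 hL1 a b c F F₃ hF₃ hF hq
  have hreg' : eps (L F) = PowerSeries.X ^ 2 * u := hreg
  obtain ⟨s0⟩ := quot_equiv_of_hom L hLbij F (L F) 1 isUnit_one (one_mul _).symm
  rcases reg_main h2 (L F) u hu hreg' with ⟨n, ⟨s⟩⟩ | ⟨⟨s⟩⟩
  · exact Or.inl ⟨n, ⟨s0.trans s⟩⟩
  · exact Or.inr ⟨s0.trans s⟩

theorem le_sup_of (a b : PS k)
    (ha : ∀ l : Fin 2, X l ∈ Ideal.span {a, b} ⊔ maximalIdeal (PS k) ^ 2) :
    maximalIdeal (PS k) ≤ Ideal.span {a, b} ⊔ maximalIdeal (PS k) ^ 2 := by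
  have h : Ideal.span {(X 0 : PS k), X 1} ≤ Ideal.span {a, b} ⊔ maximalIdeal (PS k) ^ 2 := by
    rw [Ideal.span_le]
    rintro z (rfl | rfl)
    · exact ha 0
    · exact ha 1
  rwa [← maximalIdeal_P_pair] at h

theorem fin2_cases : ∀ i j : Fin 2, i ≠ j → ∀ l : Fin 2, l = i ∨ l = j := by decide

theorem smooth_aux (F : PS k) (hF0 : constantCoeff F = 0) (i j : Fin 2) (hij : i ≠ j) (α : k)
    (hα : α ≠ 0) (c r : PS k) (hr : (2 : ℕ∞) ≤ r.order) (hF : F = C α * X i + c * X j + r) :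
    Nonempty (ArSing.ring k 0 ≃ₐ[k] (PS k ⧸ Ideal.span {F})) := by
  haveI := complete_P (k := k)
  have hX : ∀ i : Fin 2, (X i : PS k) ∈ maximalIdeal (PS k) := fun i => by
    rw [mem_maximalIdeal_P, constantCoeff_X]
  have hmem0 : X j ^ 2 - C α⁻¹ * F ∈ maximalIdeal (PS k) := by
    rw [mem_maximalIdeal_P, map_sub, map_pow, constantCoeff_X, map_mul, hF0]
    ring
  obtain ⟨Φ, hΦ⟩ := exists_hom_P (k := k) (T := PS k) ![X j ^ 2 - C α⁻¹ * F, X j] (by
    intro l
    fin_cases l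
    · exact hmem0
    · exact hX j)
  have hΦ0 : Φ (X 0) = X j ^ 2 - C α⁻¹ * F := by simpa using hΦ 0
  have hΦ1 : Φ (X 1) = X j := by simpa using hΦ 1
  have hCC : (C α⁻¹ : PS k) * C α = 1 := by rw [← map_mul, inv_mul_cancel₀ hα, map_one]
  have hbij : Function.Bijective Φ := by
    refine bijective_P Φ ?_ ?_
    · intro l
      fin_cases l
      · change Φ (X 0) ∈ _
        rw [hΦ0]; exact hmem0
      · change Φ (X 1) ∈ _
        rw [hΦ1]; exact hX j
    · rw [hΦ0, hΦ1]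
      apply le_sup_of
      intro l
      rcases fin2_cases i j hij l with rfl | rfl
      · rw [Submodule.mem_sup]
        refine ⟨(-1) * (X j ^ 2 - C α⁻¹ * F) + (-(C α⁻¹ * c)) * X j,
          Ideal.mem_span_pair.mpr ⟨-1, -(C α⁻¹ * c), rfl⟩, X j ^ 2 - C α⁻¹ * r, ?_, ?_⟩
        · apply mem_pow_of_le_order
          have h11 : ((2 : ℕ) : ℕ∞) = 1 + 1 := by norm_num
          refine le_order_sub' ?_ ?_
          · rw [h11, pow_two]
            exact le_order_mul' (one_le_order_X j) (one_le_order_X j)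
          · exact le_order_mul_left' (by exact_mod_cast hr)
        · rw [hF]
          linear_combination ((X l : PS k)) * hCC
      · exact Ideal.mem_sup_left (Ideal.subset_span (Set.mem_insert_of_mem _ (Set.mem_singleton _)))
  refine quot_equiv_of_hom Φ hbij (ArSing.eqn k 0) F (C α⁻¹)
    (IsUnit.of_mul_eq_one (C α) hCC) ?_
  rw [ArSing.eqn, map_sub, map_pow, map_pow, hΦ0, hΦ1]
  ring

/-- smooth points -/
theorem smooth_main (F : PS k) (h1o : (1 : ℕ∞) ≤ F.order) (h2o : ¬ (2 : ℕ∞) ≤ F.order) :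
    Nonempty ((PS k ⧸ Ideal.span {F}) ≃ₐ[k] ArSing.ring k 0) := by
  have hF0 : constantCoeff F = 0 := one_le_order_iff_constCoeff_eq_zero.mp h1o
  obtain ⟨α, β, F₂, hF₂, hF⟩ := decomp1 F h1o
  by_cases hα : α = 0
  · by_cases hβ : β = 0
    · exfalso
      apply h2o
      rw [hF, hα, hβ]
      simpa using hF₂
    · obtain ⟨s⟩ := smooth_aux F hF0 1 0 (by decide) β hβ (C α) F₂ hF₂ (by rw [hF]; ring)
      exact ⟨s.symm⟩
  · obtain ⟨s⟩ := smooth_aux F hF0 0 1 (by decide) α hα (C β) F₂ hF₂ (by rw [hF])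
    exact ⟨s.symm⟩

end Groth.Agent.Helper3.DP
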