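import Mathlib
import Groth.Agent.Lib.Helper3.DP4

/-!
# Double points of plane curves V: points of multiplicity at least three, and the criterion (helper3)
-/

set_option autoImplicit false
set_option linter.style.haveILetI false
universe u

namespace Groth.Agent.Helper3.DP

open IsLocalRing MvPowerSeries Groth.Agent.Helper3.NodeAut Groth.Agent.Helper14
  Groth.Agent.Helper5.Morse Groth.Agent.Helper3.ArInv

variable {k : Type u} [Field k]

theorem equiv_mem_max {A B : Type u} [CommRing A] [CommRing B] [IsLocalRing A] [IsLocalRing B]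
    [Algebra k A] [Algebra k B] (e : A ≃ₐ[k] B) (x : A) (hx : x ∈ maximalIdeal A) :
    e x ∈ maximalIdeal B := by
  rw [mem_maximalIdeal, mem_nonunits_iff] at hx ⊢
  intro h
  apply hx
  have := h.map e.symm
  rwa [e.symm_apply_apply] at this

theorem mem_max_of_mk_mem (J : Ideal (PS k)) [IsLocalRing (PS k ⧸ J)] (p : PS k)
    (h : Ideal.Quotient.mk J p ∈ maximalIdeal (PS k ⧸ J)) : p ∈ maximalIdeal (PS k) := by
  by_contra hp
  rw [IsLocalRing.notMem_maximalIdeal] at hp
  rw [mem_maximalIdeal, mem_nonunits_iff] at h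
  exact h (hp.map (Ideal.Quotient.mk J))

theorem mk_mem_max (J : Ideal (PS k)) [IsLocalRing (PS k ⧸ J)] (p : PS k)
    (h : p ∈ maximalIdeal (PS k)) : Ideal.Quotient.mk J p ∈ maximalIdeal (PS k ⧸ J) := by
  rw [← map_maximalIdeal_quot J]
  exact Ideal.mem_map_of_mem _ h

theorem exists_lift (F G : PS k) (hF0 : constantCoeff F = 0) (hG0 : constantCoeff G = 0)
    (e : (PS k ⧸ Ideal.span {G}) ≃ₐ[k] (PS k ⧸ Ideal.span {F})) :
    ∃ Φ : PS k →ₐ[k] PS k, (∀ i, (1 : ℕ∞) ≤ (Φ (X i)).order) ∧ Φ G ∈ Ideal.span {F} ∧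
      ∀ p : PS k, (1 : ℕ∞) ≤ p.order →
        ∃ c d : PS k, p - c * Φ (X 0) - d * Φ (X 1) ∈ Ideal.span {F} := by
  haveI := complete_P (k := k)
  haveI : IsLocalRing (PS k ⧸ Ideal.span {F}) := isLocalRing_quot _ (span_ne_top F hF0)
  haveI : IsLocalRing (PS k ⧸ Ideal.span {G}) := isLocalRing_quot _ (span_ne_top G hG0)
  haveI := complete_quot (Ideal.span {F})
  haveI := complete_quot (Ideal.span {G})
  have hlift : ∀ i : Fin 2, ∃ t : PS k, Ideal.Quotient.mk (Ideal.span {F}) t =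
      e (Ideal.Quotient.mk (Ideal.span {G}) (X i)) := fun i => Ideal.Quotient.mk_surjective _
  choose t ht using hlift
  have htm : ∀ i, t i ∈ maximalIdeal (PS k) := by
    intro i
    apply mem_max_of_mk_mem (Ideal.span {F})
    rw [ht]
    exact equiv_mem_max e _ (mk_X_mem _ i)
  obtain ⟨Φ, hΦ⟩ := exists_hom_P (k := k) (T := PS k) t htm
  have hcomm := hom_ext_P ((Ideal.Quotient.mkₐ k (Ideal.span {F})).comp Φ)
    ((e : (PS k ⧸ Ideal.span {G}) →ₐ[k] (PS k ⧸ Ideal.span {F})).comp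
      (Ideal.Quotient.mkₐ k (Ideal.span {G}))) (by
      intro i
      change Ideal.Quotient.mk (Ideal.span {F}) (Φ (X i)) =
        e (Ideal.Quotient.mk (Ideal.span {G}) (X i))
      rw [hΦ, ht]) (by
      intro i
      change Ideal.Quotient.mk (Ideal.span {F}) (Φ (X i)) ∈ _
      rw [hΦ]
      exact mk_mem_max _ _ (htm i))
  have hcomm' : ∀ p : PS k, Ideal.Quotient.mk (Ideal.span {F}) (Φ p) =
      e (Ideal.Quotient.mk (Ideal.span {G}) p) := fun p => DFunLike.congr_fun hcomm p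
  refine ⟨Φ, ?_, ?_, ?_⟩
  · intro i
    rw [hΦ, ← mem_max_iff_order]
    exact htm i
  · rw [← Ideal.Quotient.eq_zero_iff_mem, hcomm']
    have : Ideal.Quotient.mk (Ideal.span {G}) G = 0 :=
      Ideal.Quotient.eq_zero_iff_mem.mpr (Ideal.subset_span (Set.mem_singleton _))
    rw [this, map_zero]
  · intro p hp
    have hpm : Ideal.Quotient.mk (Ideal.span {F}) p ∈ maximalIdeal (PS k ⧸ Ideal.span {F}) :=
      mk_mem_max _ _ ((mem_max_iff_order p).mpr hp)
    have hy := equiv_mem_max e.symm _ hpm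
    rw [maximalIdeal_quot_pair, Ideal.mem_span_pair] at hy
    obtain ⟨c', d', hcd⟩ := hy
    obtain ⟨c, hc⟩ := Ideal.Quotient.mk_surjective (e c')
    obtain ⟨d, hd⟩ := Ideal.Quotient.mk_surjective (e d')
    refine ⟨c, d, ?_⟩
    rw [← Ideal.Quotient.eq_zero_iff_mem, map_sub, map_sub, map_mul, map_mul, hc, hd, hcomm',
      hcomm', ← map_mul, ← map_mul, sub_sub, ← map_add, sub_eq_zero, hcd, e.apply_symm_apply]

theorem no_iso_aux (F : PS k) (h3 : (3 : ℕ∞) ≤ F.order) (U V : PS k)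
    (hU : (1 : ℕ∞) ≤ U.order) (hV : (1 : ℕ∞) ≤ V.order)
    (hgen : ∀ p : PS k, (1 : ℕ∞) ≤ p.order →
      ∃ c d : PS k, p - c * U - d * V ∈ Ideal.span {F})
    (E : PS k) (hE : E ∈ Ideal.span {F})
    (hcase : E = V ^ 2 ∨ ∃ n : ℕ, E = V ^ 2 - U ^ (n + 1)) : False := by
  have hspan : ∀ z ∈ Ideal.span {F}, (3 : ℕ∞) ≤ z.order := by
    intro z hz
    obtain ⟨t, rfl⟩ := Ideal.mem_span_singleton'.mp hz
    exact le_order_mul_left' h3
  have h23 : (2 : ℕ∞) ≤ 3 := by norm_num
  have hgen' : ∀ p : PS k, (1 : ℕ∞) ≤ p.order →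
      ∃ c d : PS k, (2 : ℕ∞) ≤ (p - c * U - d * V).order := by
    intro p hp
    obtain ⟨c, d, h⟩ := hgen p hp
    exact ⟨c, d, le_trans h23 (hspan _ h)⟩
  have key1 : (2 : ℕ∞) ≤ V.order → False := by
    intro h
    refine not_principal U hU (fun p hp => ?_)
    obtain ⟨c, d, hcd⟩ := hgen' p hp
    refine ⟨c, ?_⟩
    have e : p - c * U = (p - c * U - d * V) + d * V := by ring
    rw [e]
    exact le_order_add' hcd (le_order_mul_left' h)
  have key2 : (2 : ℕ∞) ≤ U.order → False := by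
    intro h
    refine not_principal V hV (fun p hp => ?_)
    obtain ⟨c, d, hcd⟩ := hgen' p hp
    refine ⟨d, ?_⟩
    have e : p - d * V = (p - c * U - d * V) + c * U := by ring
    rw [e]
    exact le_order_add' hcd (le_order_mul_left' h)
  have key3 : (2 : ℕ∞) ≤ (V - U).order → False := by
    intro h
    refine not_principal U hU (fun p hp => ?_)
    obtain ⟨c, d, hcd⟩ := hgen' p hp
    refine ⟨c + d, ?_⟩
    have e : p - (c + d) * U = (p - c * U - d * V) + d * (V - U) := by ring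
    rw [e]
    exact le_order_add' hcd (le_order_mul_left' h)
  have key4 : (2 : ℕ∞) ≤ (V + U).order → False := by
    intro h
    refine not_principal U hU (fun p hp => ?_)
    obtain ⟨c, d, hcd⟩ := hgen' p hp
    refine ⟨c - d, ?_⟩
    have e : p - (c - d) * U = (p - c * U - d * V) + d * (V + U) := by ring
    rw [e]
    exact le_order_add' hcd (le_order_mul_left' h)
  have hE3 := hspan E hE
  have hVV : (3 : ℕ∞) ≤ (V * V).order → False := by
    intro h
    rcases two_le_order_or_of_mul V V h with h' | h'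
    · exact key1 h'
    · exact key1 h'
  rcases hcase with rfl | ⟨n, rfl⟩
  · rw [pow_two] at hE3
    exact hVV hE3
  · rcases n with _ | _ | n
    · -- n = 0
      apply key2
      have e : U = V ^ 2 - (V ^ 2 - U ^ (0 + 1)) := by ring
      rw [e]
      refine le_order_sub' ?_ (le_trans h23 hE3)
      have h11 : (2 : ℕ∞) = 1 + 1 := by norm_num
      rw [h11, pow_two]
      exact le_order_mul' hV hV
    · -- n = 1
      have e : V ^ 2 - U ^ (0 + 1 + 1) = (V - U) * (V + U) := by ring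
      rw [e] at hE3
      rcases two_le_order_or_of_mul _ _ hE3 with h' | h'
      · exact key3 h'
      · exact key4 h'
    · -- n ≥ 2
      apply hVV
      have hU0 : constantCoeff U = 0 := one_le_order_iff_constCoeff_eq_zero.mp hU
      have hpow : (3 : ℕ∞) ≤ (U ^ (n + 1 + 1 + 1)).order := by
        have h1 := le_order_pow_of_constantCoeff_eq_zero (n + 1 + 1 + 1) hU0
        refine le_trans ?_ h1
        have : (3 : ℕ) ≤ n + 1 + 1 + 1 := by omega
        exact_mod_cast this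
      have e : V * V = (V ^ 2 - U ^ (n + 1 + 1 + 1)) + U ^ (n + 1 + 1 + 1) := by ring
      rw [e]
      exact le_order_add' hE3 hpow

/-- the criterion for points of multiplicity at least three -/
theorem main_iff [IsAlgClosed k] (h2 : (2 : k) ≠ 0) (F : PS k) (hF0 : constantCoeff F = 0) :
    (3 : ℕ∞) ≤ F.order ↔
      ¬ ((∃ n : ℕ, Nonempty ((PS k ⧸ Ideal.span {F}) ≃ₐ[k] ArSing.ring k n)) ∨
        Nonempty ((PS k ⧸ Ideal.span {F}) ≃ₐ[k] (PS k ⧸ Ideal.span {(X 1 : PS k) ^ 2}))) := by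
  have h1o : (1 : ℕ∞) ≤ F.order := one_le_order_iff_constCoeff_eq_zero.mpr hF0
  constructor
  · intro h3 hcon
    rcases hcon with ⟨n, ⟨e⟩⟩ | ⟨⟨e⟩⟩
    · obtain ⟨Φ, hΦ1, hΦG, hΦgen⟩ := exists_lift F (ArSing.eqn k n) hF0
        (by simp [ArSing.eqn]) e.symm
      refine no_iso_aux F h3 (Φ (X 0)) (Φ (X 1)) (hΦ1 0) (hΦ1 1) hΦgen _ hΦG (Or.inr ⟨n, ?_⟩)
      rw [ArSing.eqn, map_sub, map_pow, map_pow]
    · obtain ⟨Φ, hΦ1, hΦG, hΦgen⟩ := exists_lift F ((X 1 : PS k) ^ 2) hF0 (by simp) e.symm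
      refine no_iso_aux F h3 (Φ (X 0)) (Φ (X 1)) (hΦ1 0) (hΦ1 1) hΦgen _ hΦG (Or.inl ?_)
      rw [map_pow]
  · intro hno
    by_contra h3
    apply hno
    by_cases h2o : (2 : ℕ∞) ≤ F.order
    · exact order_two_main h2 F h2o h3
    · exact Or.inl ⟨0, smooth_main F h1o h2o⟩

end Groth.Agent.Helper3.DP
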