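import Mathlib

/-!
# Divided powers on the `p`-adic completion

Let `(A, I, γ)` be a divided power ring and `p^t A ⊆ I`. Then the kernel of
`A^ → A/p^t → A/I` carries a divided power structure compatible with `γ`.
-/

set_option autoImplicit false
universe u

namespace Groth.Agent.Helper3.DPAdic

open Finset

variable {A : Type u} [CommRing A] {I : Ideal A} (γ : DividedPowers I) (p : ℕ) (t : ℕ)
  (ht : Ideal.span {(p : A)} ^ t ≤ I)

local notation "P" => Ideal.span {(p : A)}

include ht in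
/-- well-definedness of divided powers modulo powers of `p` -/
lemma wd (e n : ℕ) (u v : A) (hv : v ∈ I) (huv : u - v ∈ P ^ (e + t)) :
    γ.dpow n u - γ.dpow n v ∈ P ^ e := by
  rw [pow_add, Ideal.span_singleton_pow, Ideal.mem_span_singleton_mul] at huv
  obtain ⟨w, hw, hwe⟩ := huv
  have hwI : w ∈ I := ht hw
  have hu : u = v + (p : A) ^ e * w := by rw [hwe]; ring
  rw [hu, γ.dpow_add hv (Ideal.mul_mem_left _ _ hwI)]
  have hmem : (n, 0) ∈ antidiagonal n := by simp
  rw [← Finset.add_sum_erase _ _ hmem]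
  simp only
  rw [γ.dpow_zero (Ideal.mul_mem_left _ _ hwI), mul_one, add_sub_cancel_left]
  refine Ideal.sum_mem _ (fun k hk => ?_)
  rw [Finset.mem_erase, HasAntidiagonal.mem_antidiagonal] at hk
  have hk2 : k.2 ≠ 0 := by
    intro h0
    apply hk.1
    ext
    · simp only; omega
    · exact h0
  rw [γ.dpow_mul hwI]
  apply Ideal.mul_mem_left
  apply Ideal.mul_mem_right
  rw [Ideal.span_singleton_pow]
  obtain ⟨j, hj⟩ := Nat.exists_eq_succ_of_ne_zero hk2
  rw [hj, pow_succ]
  exact Ideal.mul_mem_left _ _ (Ideal.mem_span_singleton_self _)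

/-- `u` represents `x` at level `e` -/
def Rep (e : ℕ) (x : AdicCompletion P A) (u : A) : Prop :=
  Ideal.Quotient.mk (P ^ e) u = AdicCompletion.evalₐ P e x

lemma rep_exists (e : ℕ) (x : AdicCompletion P A) : ∃ u, Rep p e x u :=
  Ideal.Quotient.mk_surjective _

lemma rep_of (e : ℕ) (a : A) : Rep p e (AdicCompletion.of P A a) a := by
  rw [Rep, AdicCompletion.evalₐ_of]

lemma rep_algebraMap (e : ℕ) (a : A) : Rep p e (algebraMap A (AdicCompletion P A) a) a :=
  rep_of p e a

lemma rep_sub {e : ℕ} {x : AdicCompletion P A} {u v : A} (hu : Rep p e x u) (hv : Rep p e x v) :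
    u - v ∈ P ^ e := by
  rw [← Ideal.Quotient.eq, hu, hv]

lemma rep_mono {m n : ℕ} (hmn : m ≤ n) {x : AdicCompletion P A} {u : A} (hu : Rep p n x u) :
    Rep p m x u := by
  obtain ⟨c, rfl⟩ := AdicCompletion.mk_surjective P A x
  rw [Rep, AdicCompletion.evalₐ_mk] at hu ⊢
  rw [Ideal.Quotient.eq] at hu ⊢
  have h1 : u - c n ∈ P ^ m := Ideal.pow_le_pow_right hmn hu
  have h2 : c m - c n ∈ P ^ m := by
    have := c.2 hmn
    rwa [SModEq.sub_mem, smul_eq_mul, Ideal.mul_top] at this
  have e : u - c m = (u - c n) - (c m - c n) := by ring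
  rw [e]; exact Ideal.sub_mem _ h1 h2

lemma rep_add {e : ℕ} {x y : AdicCompletion P A} {u v : A} (hu : Rep p e x u) (hv : Rep p e y v) :
    Rep p e (x + y) (u + v) := by
  rw [Rep] at *; rw [map_add, map_add, hu, hv]

lemma rep_mul {e : ℕ} {x y : AdicCompletion P A} {u v : A} (hu : Rep p e x u) (hv : Rep p e y v) :
    Rep p e (x * y) (u * v) := by
  rw [Rep] at *; rw [map_mul, map_mul, hu, hv]

lemma rep_pow {e : ℕ} {x : AdicCompletion P A} {u : A} (hu : Rep p e x u) (n : ℕ) :
    Rep p e (x ^ n) (u ^ n) := by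
  rw [Rep] at *; rw [map_pow, map_pow, hu]

lemma rep_one (e : ℕ) : Rep p e (1 : AdicCompletion P A) 1 := by
  rw [Rep, map_one, map_one]

lemma rep_natCast (e : ℕ) (k : ℕ) : Rep p e (k : AdicCompletion P A) (k : A) := by
  rw [Rep, map_natCast, map_natCast]

lemma rep_sum {e : ℕ} {ι : Type*} (s : Finset ι) (f : ι → AdicCompletion P A) (g : ι → A)
    (h : ∀ k ∈ s, Rep p e (f k) (g k)) : Rep p e (∑ k ∈ s, f k) (∑ k ∈ s, g k) := by
  rw [Rep, map_sum, map_sum]
  exact Finset.sum_congr rfl (fun k hk => h k hk)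

lemma ext_rep {x y : AdicCompletion P A} (h : ∀ e, ∃ u, Rep p e x u ∧ Rep p e y u) : x = y := by
  apply AdicCompletion.ext_evalₐ
  intro e
  obtain ⟨u, hx, hy⟩ := h e
  rw [← hx, ← hy]

/-- the projection to `A/I` -/
noncomputable def π : AdicCompletion P A →+* A ⧸ I :=
  (Ideal.Quotient.factor ht).comp (AdicCompletion.evalₐ P t).toRingHom

lemma π_surjective : Function.Surjective (π p t ht) := by
  intro z
  obtain ⟨a, rfl⟩ := Ideal.Quotient.mk_surjective z
  refine ⟨AdicCompletion.of P A a, ?_⟩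
  show Ideal.Quotient.factor ht (AdicCompletion.evalₐ P t (AdicCompletion.of P A a)) = _
  rw [AdicCompletion.evalₐ_of, Ideal.Quotient.factor_mk]

lemma mem_ker_iff {e : ℕ} (hte : t ≤ e) {x : AdicCompletion P A} {u : A} (hu : Rep p e x u) :
    x ∈ RingHom.ker (π p t ht) ↔ u ∈ I := by
  have hu' := rep_mono p hte hu
  rw [RingHom.mem_ker]
  show Ideal.Quotient.factor ht (AdicCompletion.evalₐ P t x) = 0 ↔ _
  rw [← hu', Ideal.Quotient.factor_mk, Ideal.Quotient.eq_zero_iff_mem]

/-- a chosen representative -/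
noncomputable def rep (e : ℕ) (x : AdicCompletion P A) : A := (rep_exists p e x).choose

lemma rep_spec (e : ℕ) (x : AdicCompletion P A) : Rep p e x (rep p e x) :=
  (rep_exists p e x).choose_spec

include ht in
lemma rep_mem {x : AdicCompletion P A} (hx : x ∈ RingHom.ker (π p t ht)) (e : ℕ) :
    rep p (e + t) x ∈ I :=
  (mem_ker_iff p t ht (Nat.le_add_left t e) (rep_spec p (e + t) x)).mp hx

lemma cauchy_aux {x : AdicCompletion P A} (hx : x ∈ RingHom.ker (π p t ht)) (n : ℕ) :
    AdicCompletion.IsAdicCauchy P A (fun e => γ.dpow n (rep p (e + t) x)) := by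
  intro e e' hee'
  rw [SModEq.sub_mem, smul_eq_mul, Ideal.mul_top]
  apply wd γ p t ht e n _ _ (rep_mem p t ht hx e')
  have h1 := rep_mono p (Nat.add_le_add_right hee' t) (rep_spec p (e' + t) x)
  exact rep_sub p (rep_spec p (e + t) x) h1

open Classical in
/-- the divided power operations on the completion -/
noncomputable def dpow (n : ℕ) (x : AdicCompletion P A) : AdicCompletion P A :=
  if hx : x ∈ RingHom.ker (π p t ht) then
    AdicCompletion.mk P A ⟨fun e => γ.dpow n (rep p (e + t) x), cauchy_aux γ p t ht hx n⟩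
  else 0

lemma dpow_null {n : ℕ} {x : AdicCompletion P A} (hx : x ∉ RingHom.ker (π p t ht)) :
    dpow γ p t ht n x = 0 := by
  rw [dpow, dif_neg hx]

/-- characterization of `dpow` on representatives -/
lemma rep_dpow {n e : ℕ} {x : AdicCompletion P A} (hx : x ∈ RingHom.ker (π p t ht)) {u : A}
    (hu : Rep p (e + t) x u) : Rep p e (dpow γ p t ht n x) (γ.dpow n u) := by
  rw [dpow, dif_pos hx, Rep, AdicCompletion.evalₐ_mk, Ideal.Quotient.eq]
  apply wd γ p t ht e n _ _ (rep_mem p t ht hx e)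
  exact rep_sub p hu (rep_spec p (e + t) x)

include ht in
lemma mem_of_rep {e : ℕ} {x : AdicCompletion P A} (hx : x ∈ RingHom.ker (π p t ht)) {u : A}
    (hu : Rep p (e + t) x u) : u ∈ I :=
  (mem_ker_iff p t ht (Nat.le_add_left t e) hu).mp hx

lemma dpow_mem {n : ℕ} {x : AdicCompletion P A} (hn : n ≠ 0) (hx : x ∈ RingHom.ker (π p t ht)) :
    dpow γ p t ht n x ∈ RingHom.ker (π p t ht) := by
  obtain ⟨u, hu⟩ := rep_exists p (t + t) x
  rw [mem_ker_iff p t ht le_rfl (rep_dpow γ p t ht hx hu)]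
  exact γ.dpow_mem hn (mem_of_rep p t ht hx hu)

/-- the divided power structure -/
noncomputable def dividedPowers : DividedPowers (RingHom.ker (π p t ht)) where
  dpow := dpow γ p t ht
  dpow_null hx := dpow_null γ p t ht hx
  dpow_zero {x} hx := by
    apply ext_rep p
    intro e
    obtain ⟨u, hu⟩ := rep_exists p (e + t) x
    refine ⟨1, ?_, rep_one p e⟩
    have := rep_dpow γ p t ht (n := 0) hx hu
    rwa [γ.dpow_zero (mem_of_rep p t ht hx hu)] at this
  dpow_one {x} hx := by
    apply ext_rep p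
    intro e
    obtain ⟨u, hu⟩ := rep_exists p (e + t) x
    refine ⟨u, ?_, rep_mono p (Nat.le_add_right e t) hu⟩
    have := rep_dpow γ p t ht (n := 1) hx hu
    rwa [γ.dpow_one (mem_of_rep p t ht hx hu)] at this
  dpow_mem hn hx := dpow_mem γ p t ht hn hx
  dpow_add {n x y} hx hy := by
    apply ext_rep p
    intro e
    obtain ⟨u, hu⟩ := rep_exists p (e + t) x
    obtain ⟨v, hv⟩ := rep_exists p (e + t) y
    have hxy : x + y ∈ RingHom.ker (π p t ht) := Ideal.add_mem _ hx hy
    refine ⟨γ.dpow n (u + v), rep_dpow γ p t ht hxy (rep_add p hu hv), ?_⟩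
    rw [γ.dpow_add (mem_of_rep p t ht hx hu) (mem_of_rep p t ht hy hv)]
    apply rep_sum
    intro k _
    exact rep_mul p (rep_dpow γ p t ht hx hu) (rep_dpow γ p t ht hy hv)
  dpow_mul {n a x} hx := by
    apply ext_rep p
    intro e
    obtain ⟨u, hu⟩ := rep_exists p (e + t) x
    obtain ⟨b, hb⟩ := rep_exists p (e + t) a
    have hax : a * x ∈ RingHom.ker (π p t ht) := Ideal.mul_mem_left _ _ hx
    refine ⟨γ.dpow n (b * u), rep_dpow γ p t ht hax (rep_mul p hb hu), ?_⟩
    rw [γ.dpow_mul (mem_of_rep p t ht hx hu)]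
    exact rep_mul p (rep_pow p (rep_mono p (Nat.le_add_right e t) hb) n) (rep_dpow γ p t ht hx hu)
  mul_dpow {m n x} hx := by
    apply ext_rep p
    intro e
    obtain ⟨u, hu⟩ := rep_exists p (e + t) x
    refine ⟨γ.dpow m u * γ.dpow n u,
      rep_mul p (rep_dpow γ p t ht hx hu) (rep_dpow γ p t ht hx hu), ?_⟩
    rw [γ.mul_dpow (mem_of_rep p t ht hx hu)]
    exact rep_mul p (rep_natCast p e _) (rep_dpow γ p t ht hx hu)
  dpow_comp {m n x} hn hx := by
    apply ext_rep p
    intro e
    obtain ⟨u, hu⟩ := rep_exists p (e + t + t) x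
    have hu' : Rep p (e + t) x u := rep_mono p (Nat.le_add_right _ t) hu
    have h1 : Rep p (e + t) (dpow γ p t ht n x) (γ.dpow n u) := rep_dpow γ p t ht hx hu
    refine ⟨γ.dpow m (γ.dpow n u), rep_dpow γ p t ht (dpow_mem γ p t ht hn hx) h1, ?_⟩
    rw [γ.dpow_comp hn (mem_of_rep p t ht hx hu')]
    exact rep_mul p (rep_natCast p e _) (rep_dpow γ p t ht hx hu')

theorem isDPMorphism :
    γ.IsDPMorphism (dividedPowers γ p t ht) (algebraMap A (AdicCompletion P A)) where
  ideal_comp := by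
    rw [Ideal.map_le_iff_le_comap]
    intro a ha
    rw [Ideal.mem_comap, mem_ker_iff p t ht le_rfl (rep_algebraMap p t a)]
    exact ha
  dpow_comp {n} a ha := by
    have hx : algebraMap A (AdicCompletion P A) a ∈ RingHom.ker (π p t ht) := by
      rw [mem_ker_iff p t ht le_rfl (rep_algebraMap p t a)]; exact ha
    apply ext_rep p
    intro e
    exact ⟨γ.dpow n a, rep_dpow γ p t ht hx (rep_algebraMap p (e + t) a), rep_algebraMap p e _⟩

theorem main :
    Function.Surjective ((Ideal.Quotient.factor ht).comp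
      (AdicCompletion.evalₐ (Ideal.span {(p : A)}) t).toRingHom) ∧
    ∃ δ : DividedPowers (RingHom.ker ((Ideal.Quotient.factor ht).comp
      (AdicCompletion.evalₐ (Ideal.span {(p : A)}) t).toRingHom)),
      γ.IsDPMorphism δ (algebraMap A (AdicCompletion (Ideal.span {(p : A)}) A)) :=
  ⟨π_surjective p t ht, dividedPowers γ p t ht, isDPMorphism γ p t ht⟩

end Groth.Agent.Helper3.DPAdic
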