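import Groth.Agent.Lib.Helper11.LDer3
import Groth.Agent.Lib.Helper11.Tel7
import Groth.Prelude.Def_DTen4
import Groth.Prelude.Def_DTen2

/-!
# Counits of jointly derived functors are isomorphisms on K-projective pairs / triples (helper3)

Uses helper11's `LDer.isIso_counit_app` (right Kan extensions with values in `D(B)` are computed
on left-orthogonal objects) and `Tel.exists_kprojective_rep`.
-/

set_option autoImplicit false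

open CategoryTheory CategoryTheory.Limits MonoidalCategory

universe u

attribute [local instance] HasDerivedCategory.standard

namespace Groth.Agent.Helper3.DT

open Groth.Agent.Helper11.LDer Groth.Agent.Helper11.DC Groth.Agent.Helper11.Tel

variable {R₁ R₂ R₃ B : Type u} [CommRing R₁] [CommRing R₂] [CommRing R₃] [CommRing B]

instance small_hom_Q (P : DRing.Cx R₁) [P.IsKProjective] (X : Dual.D R₁) :
    Small.{u} ((DerivedCategory.Q.obj P : Dual.D R₁) ⟶ X) :=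
  small_hom_of_isKProjective P X

instance small_hom_pair (P₁ : DRing.Cx R₁) (P₂ : DRing.Cx R₂) [P₁.IsKProjective]
    [P₂.IsKProjective] (X : Dual.D R₁ × Dual.D R₂) :
    Small.{u} (((DTen.QMix R₁ R₂).obj (P₁, P₂) :
      Dual.D R₁ × Dual.D R₂) ⟶ X) := by
  change Small.{u} (((DerivedCategory.Q.obj P₁ : Dual.D R₁) ⟶ X.1) ×
    ((DerivedCategory.Q.obj P₂ : Dual.D R₂) ⟶ X.2))
  infer_instance

/-- counit of a right Kan extension along `Q × Q` is an isomorphism at K-projective pairs,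
provided the functor is homotopy invariant. -/
theorem isIso_counit_pair
    (F : DRing.Cx R₁ × DRing.Cx R₂ ⥤ Dual.D B) (G : Dual.D R₁ × Dual.D R₂ ⥤ Dual.D B)
    (ε : (DTen.QMix R₁ R₂) ⋙ G ⟶ F) [G.IsRightKanExtension ε]
    (P₁ : DRing.Cx R₁) (P₂ : DRing.Cx R₂) [P₁.IsKProjective] [P₂.IsKProjective]
    (hF : ∀ (Y₁ : DRing.Cx R₁) (Y₂ : DRing.Cx R₂) (f₁ g₁ : P₁ ⟶ Y₁) (f₂ g₂ : P₂ ⟶ Y₂),
      Homotopy f₁ g₁ → Homotopy f₂ g₂ →
      F.map (Prod.mkHom f₁ f₂ : (P₁, P₂) ⟶ (Y₁, Y₂)) = F.map (Prod.mkHom g₁ g₂)) :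
    IsIso (ε.app (P₁, P₂)) := by
  apply isIso_counit_app (DTen.QMix R₁ R₂) F G ε (P₁, P₂)
  · rintro ⟨Y₁, Y₂⟩ ⟨g₁, g₂⟩
    obtain ⟨f₁, h₁⟩ := exists_lift_of_isKProjective P₁ Y₁ g₁
    obtain ⟨f₂, h₂⟩ := exists_lift_of_isKProjective P₂ Y₂ g₂
    exact ⟨(f₁, f₂), Prod.ext h₁ h₂⟩
  · rintro ⟨Y₁, Y₂⟩ ⟨f₁, f₂⟩ ⟨g₁, g₂⟩ h
    have h₁ : DerivedCategory.Q.map f₁ = DerivedCategory.Q.map g₁ := congrArg Prod.fst h
    have h₂ : DerivedCategory.Q.map f₂ = DerivedCategory.Q.map g₂ := congrArg Prod.snd h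
    obtain ⟨H₁⟩ := homotopy_of_Q_map_eq P₁ Y₁ f₁ g₁ h₁
    obtain ⟨H₂⟩ := homotopy_of_Q_map_eq P₂ Y₂ f₂ g₂ h₂
    exact hF Y₁ Y₂ f₁ g₁ f₂ g₂ H₁ H₂


section Tensor

variable {A : Type u} [CommRing A]

/-- the tensor product of complexes respects homotopies -/
noncomputable def tensorHomHomotopy {K₁ L₁ K₂ L₂ : DRing.Cx A} {f₁ g₁ : K₁ ⟶ L₁} {f₂ g₂ : K₂ ⟶ L₂}
    (H₁ : Homotopy f₁ g₁) (H₂ : Homotopy f₂ g₂) : Homotopy (f₁ ⊗ₘ f₂) (g₁ ⊗ₘ g₂) :=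
  (HomologicalComplex.mapBifunctorMapHomotopy₁ H₁ f₂ (curriedTensor (ModuleCat.{u} A))
    (ComplexShape.up ℤ)).trans
    (HomologicalComplex.mapBifunctorMapHomotopy₂ g₁ H₂ (curriedTensor (ModuleCat.{u} A))
      (ComplexShape.up ℤ))

theorem Q_map_tensorHom_eq {K₁ L₁ K₂ L₂ : DRing.Cx A} {f₁ g₁ : K₁ ⟶ L₁} {f₂ g₂ : K₂ ⟶ L₂}
    (H₁ : Homotopy f₁ g₁) (H₂ : Homotopy f₂ g₂) :
    (DerivedCategory.Q.map (f₁ ⊗ₘ f₂) : (DerivedCategory.Q.obj (K₁ ⊗ K₂) : Dual.D A) ⟶ _) =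
      DerivedCategory.Q.map (g₁ ⊗ₘ g₂) :=
  DerivedCategory.Q_map_eq_of_homotopy (h := tensorHomHomotopy H₁ H₂)

theorem tensorT_map (X Y : DRing.Cx A × DRing.Cx A) (f : X ⟶ Y) :
    (DTen.tensorT A).map f = f.1 ⊗ₘ f.2 := by
  dsimp [DTen.tensorT]
  rw [MonoidalCategory.tensorHom_def]

/-- the counit `QP₁ ⊗^L QP₂ ⟶ Q(P₁ ⊗ P₂)` is an isomorphism for K-projective `P₁`, `P₂` -/
theorem isIso_ε [DTen.HasLTen A] (P₁ P₂ : DRing.Cx A) [P₁.IsKProjective] [P₂.IsKProjective] :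
    IsIso ((DTen.ε A).app (P₁, P₂)) := by
  haveI : (DTen.LTen₂ A).IsRightKanExtension (DTen.ε A) :=
    Functor.IsLeftDerivedFunctor.isRightKanExtension _ _ (DTen.qis₂ A)
  apply isIso_counit_pair (DTen.tensor₂ A) (DTen.LTen₂ A) (DTen.ε A) P₁ P₂
  intro Y₁ Y₂ f₁ g₁ f₂ g₂ H₁ H₂
  dsimp only [DTen.tensor₂, Functor.comp_map]
  rw [tensorT_map, tensorT_map]
  exact Q_map_tensorHom_eq H₁ H₂

end Tensor

end Groth.Agent.Helper3.DT
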