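import Groth.Agent.Lib.Helper3.DT1
import Groth.Agent.Lib.Helper11.Dev4

/-!
# The comparison `(E ⊗^L_R A) ⊗^L_A N ⟶ E ⊗^L_R N` is an isomorphism (helper3)
-/

set_option autoImplicit false

open CategoryTheory CategoryTheory.Limits MonoidalCategory

universe u

attribute [local instance] HasDerivedCategory.standard

namespace Groth.Agent.Helper3.DT

open Groth.Agent.Helper11.LDer Groth.Agent.Helper11.DC Groth.Agent.Helper11.Tel
  Groth.Agent.Helper11.Dev Groth.Agent.Helper11.TA

variable {R A : Type u} [CommRing R] [CommRing A] (φ : R →+* A)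

theorem mixT_map (X Y : DRing.Cx R × DRing.Cx A) (f : X ⟶ Y) :
    (DTen.mixT φ).map f = (DTen.extCx φ).map f.1 ⊗ₘ f.2 := by
  dsimp only [DTen.mixT, Functor.comp_map]
  rw [tensorT_map]
  rfl

/-- the counit of the mixed derived tensor product is an isomorphism on K-projective pairs -/
theorem isIso_εMix [DTen.HasLTenMix φ] (P : DRing.Cx R) (P' : DRing.Cx A) [P.IsKProjective]
    [P'.IsKProjective] : IsIso ((DTen.εMix φ).app (P, P')) := by
  haveI : (DTen.LTenMix φ).IsRightKanExtension (DTen.εMix φ) :=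
    Functor.IsLeftDerivedFunctor.isRightKanExtension _ _ (DTen.qisMix R A)
  apply isIso_counit_pair (DTen.mix₂ φ) (DTen.LTenMix φ) (DTen.εMix φ) P P'
  intro Y₁ Y₂ f₁ g₁ f₂ g₂ H₁ H₂
  dsimp only [DTen.mix₂, Functor.comp_map]
  rw [tensorT_map, tensorT_map]
  exact Q_map_tensorHom_eq ((ModuleCat.extendScalars.{u, u, u} φ).mapHomotopy H₁) H₂


theorem adjHom_eq (T : DRing.Cx R) (L : DRing.Cx A) (f : (esC φ).obj T ⟶ L) :
    adjHom φ T L f = (DTen.unitCx φ).app T ≫ (DTen.resCx φ).map f := by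
  ext i : 1
  exact (ModuleCat.extendRestrictScalarsAdj.{u} φ).homEquiv_unit _ _ _

theorem adjHom_es_counit (T : DRing.Cx R) (L : DRing.Cx A) (u : T ⟶ (rsC φ).obj L) :
    adjHom φ T L ((esC φ).map u ≫ counitC φ L) = u := by
  ext i : 1
  have h := (ModuleCat.extendRestrictScalarsAdj.{u} φ).homEquiv_counit (X := T.X i)
    (Y := L.X i) (g := u.f i)
  exact (congrArg _ h.symm).trans (Equiv.apply_symm_apply _ _)

section BaseCmp

variable [DTen.HasLBase φ]

theorem baseγ_comp_map_Q (P : DRing.Cx R) (Y : DRing.Cx A) (g' : (DTen.extCx φ).obj P ⟶ Y) :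
    (DTen.baseγ φ).app P ≫ (DRing.restrictD φ).map (DerivedCategory.Q.map g') =
      DerivedCategory.Q.map (adjHom φ P Y g') ≫ (DTen.resFactors φ).inv.app Y := by
  have h := (DTen.resFactors φ).inv.naturality g'
  dsimp at h
  dsimp [DTen.baseγ]
  rw [Category.assoc, ← h, adjHom_eq, Functor.map_comp, Category.assoc]

theorem bijective_baseγ_comp (P : DRing.Cx R) [P.IsKProjective] (Z : Dual.D A) :
    Function.Bijective (fun g : (DerivedCategory.Q.obj ((DTen.extCx φ).obj P) : Dual.D A) ⟶ Z =>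
      (DTen.baseγ φ).app P ≫ (DRing.restrictD φ).map g) := by
  haveI : ((esC φ).obj P).IsKProjective := isKProjective_esC φ P
  let Y : DRing.Cx A := (DerivedCategory.Q : DRing.Cx A ⥤ Dual.D A).objPreimage Z
  let e : (DerivedCategory.Q.obj Y : Dual.D A) ≅ Z :=
    (DerivedCategory.Q : DRing.Cx A ⥤ Dual.D A).objObjPreimageIso Z
  constructor
  · intro g₁ g₂ h
    dsimp only at h
    obtain ⟨g₁', hg₁⟩ := exists_lift_of_isKProjective ((esC φ).obj P) Y (g₁ ≫ e.inv)
    obtain ⟨g₂', hg₂⟩ := exists_lift_of_isKProjective ((esC φ).obj P) Y (g₂ ≫ e.inv)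
    have h' : (DTen.baseγ φ).app P ≫ (DRing.restrictD φ).map (DerivedCategory.Q.map g₁') =
        (DTen.baseγ φ).app P ≫ (DRing.restrictD φ).map (DerivedCategory.Q.map g₂') := by
      rw [hg₁, hg₂, Functor.map_comp, Functor.map_comp, reassoc_of% h]
    rw [baseγ_comp_map_Q, baseγ_comp_map_Q, cancel_mono] at h'
    obtain ⟨H⟩ := homotopy_of_Q_map_eq P _ _ _ h'
    have H1 := ((es φ).mapHomotopy H).compRight (counitC φ Y)
    rw [adjHom_counit, adjHom_counit] at H1
    have h3 := DerivedCategory.Q_map_eq_of_homotopy (h := H1)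
    rw [hg₁, hg₂, cancel_mono] at h3
    exact h3
  · intro h
    obtain ⟨u, hu⟩ := exists_lift_of_isKProjective P ((rsC φ).obj Y)
      (h ≫ (DRing.restrictD φ).map e.inv ≫ (DTen.resFactors φ).hom.app Y)
    refine ⟨DerivedCategory.Q.map ((esC φ).map u ≫ counitC φ Y) ≫ e.hom, ?_⟩
    dsimp only
    rw [Functor.map_comp, ← Category.assoc, baseγ_comp_map_Q, adjHom_es_counit, hu]
    simp only [Category.assoc]
    have h1 := (DTen.resFactors φ).hom_inv_id_app Y
    dsimp at h1
    rw [reassoc_of% h1, ← Functor.map_comp, e.inv_hom_id, CategoryTheory.Functor.map_id,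
      Category.comp_id]

/-- derived base change of a K-projective complex is computed termwise -/
theorem isIso_baseCmp (P : DRing.Cx R) [P.IsKProjective] : IsIso ((DTen.baseCmp φ).app P) := by
  apply isIso_of_coyoneda_map_bijective
  intro Z
  have hb := bijective_baseγ_comp φ P Z
  have h2 : (fun g : (DerivedCategory.Q.obj ((DTen.extCx φ).obj P) : Dual.D A) ⟶ Z =>
      (DTen.baseγ φ).app P ≫ (DRing.restrictD φ).map g) =
      (fun x => (DTen.baseAdj φ).homEquiv _ _ x) ∘
        (fun g : (DerivedCategory.Q.obj ((DTen.extCx φ).obj P) : Dual.D A) ⟶ Z =>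
          (DTen.baseCmp φ).app P ≫ g) := by
    funext g
    dsimp only [Function.comp]
    rw [Adjunction.homEquiv_unit, Functor.map_comp, ← Category.assoc, DTen.baseCmp_fac]
  rw [h2] at hb
  exact (Function.Bijective.of_comp_iff' ((DTen.baseAdj φ).homEquiv _ _).bijective _).mp hb

end BaseCmp

end Groth.Agent.Helper3.DT
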