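import Groth.Agent.Lib.Helper3.DT2

/-!
# S13893: `split φ` is an isomorphism (helper3)
-/

set_option autoImplicit false

open CategoryTheory CategoryTheory.Limits MonoidalCategory

universe u

attribute [local instance] HasDerivedCategory.standard

namespace Groth.Agent.Helper3.DT

open Groth.Agent.Helper11.LDer Groth.Agent.Helper11.DC Groth.Agent.Helper11.Tel
  Groth.Agent.Helper11.Dev Groth.Agent.Helper11.TA

variable {R A : Type u} [CommRing R] [CommRing A] (φ : R →+* A)

theorem isIso_prod_mkHom {C D : Type*} [Category C] [Category D] {X X' : C} {Y Y' : D}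
    (f : X ⟶ X') (g : Y ⟶ Y') [IsIso f] [IsIso g] :
    IsIso (Prod.mkHom f g : (X, Y) ⟶ (X', Y')) :=
  (CategoryTheory.isIso_prod_iff (f := (Prod.mkHom f g : (X, Y) ⟶ (X', Y')))).mpr
    ⟨inferInstanceAs (IsIso f), inferInstanceAs (IsIso g)⟩

theorem isIso_split_app [DTen.HasLTen A] [DTen.HasLBase φ] [DTen.HasLTenMix φ]
    (E : Dual.D R) (N : Dual.D A) : IsIso ((DTen.split φ).app (E, N)) := by
  obtain ⟨P, hP, -, ⟨eP⟩⟩ := exists_kprojective_rep E
  obtain ⟨P', hP', -, ⟨eP'⟩⟩ := exists_kprojective_rep N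
  let e : ((DTen.QMix R A).obj (P, P') : Dual.D R × Dual.D A) ≅ (E, N) := Iso.prod eP eP'
  have key : IsIso ((DTen.split φ).app ((DTen.QMix R A).obj (P, P'))) := by
    have hfac := DTen.split_fac φ (P, P')
    haveI := isIso_εMix φ P P'
    haveI : ((DTen.extCx φ).obj P).IsKProjective := isKProjective_esC φ P
    haveI := isIso_ε ((DTen.extCx φ).obj P) P'
    haveI := isIso_baseCmp φ P
    haveI := isIso_prod_mkHom ((DTen.baseCmp φ).app P)
      (𝟙 (DerivedCategory.Q.obj P' : Dual.D A))
    have h2 : IsIso ((DTen.splitβ φ).app (P, P')) := by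
      dsimp [DTen.splitβ]
      infer_instance
    rw [← hfac] at h2
    exact IsIso.of_isIso_comp_right _ ((DTen.εMix φ).app (P, P'))
  exact (NatTrans.isIso_app_iff_of_iso (DTen.split φ) e).mp key

end Groth.Agent.Helper3.DT
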