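import Groth.Agent.Lib.Helper3.DT1
import Groth.Prelude.Def_DTen3

/-!
# S13576 (symmetry of ⊗^L is an isomorphism), S13888 (curry map is an isomorphism) (helper3)
-/

set_option autoImplicit false

open CategoryTheory CategoryTheory.Limits MonoidalCategory

universe u

attribute [local instance] HasDerivedCategory.standard

namespace Groth.Agent.Helper3.DT

open Groth.Agent.Helper11.LDer Groth.Agent.Helper11.DC Groth.Agent.Helper11.Tel

variable {A : Type u} [CommRing A]

theorem isIso_symm_app [DTen.HasLTen A] (K L : Dual.D A) : IsIso ((DTen.symm A).app (K, L)) := by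
  obtain ⟨P, hP, -, ⟨eP⟩⟩ := exists_kprojective_rep K
  obtain ⟨P', hP', -, ⟨eP'⟩⟩ := exists_kprojective_rep L
  let e : ((DTen.QQ A).obj (P, P') : Dual.D A × Dual.D A) ≅ (K, L) := Iso.prod eP eP'
  have key : IsIso ((DTen.symm A).app ((DTen.QQ A).obj (P, P'))) := by
    have hfac := DTen.symm_fac A P P'
    haveI := isIso_ε P P'
    haveI := isIso_ε P' P
    have h2 : IsIso ((DTen.symm A).app (DerivedCategory.Q.obj P, DerivedCategory.Q.obj P') ≫
        (DTen.ε A).app (P, P')) := by
      rw [hfac]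
      infer_instance
    exact IsIso.of_isIso_comp_right
      ((DTen.symm A).app (DerivedCategory.Q.obj P, DerivedCategory.Q.obj P'))
      ((DTen.ε A).app (P, P'))
  exact (NatTrans.isIso_app_iff_of_iso (DTen.symm A) e).mp key


section Closed

variable [DTen.HasLTen A] [DTen.HasLTen₃ A] [DTen.IsSymMonoidal A]

theorem nat_comp_inv {C D : Type*} [Category C] [Category D] {F G H : C ⥤ D} (α : F ⟶ H)
    (β : G ⟶ H) [∀ X, IsIso (β.app X)] {X Y : C} (f : X ⟶ Y) :
    F.map f ≫ (α.app Y ≫ inv (β.app Y)) = (α.app X ≫ inv (β.app X)) ≫ G.map f := by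
  rw [← cancel_mono (β.app Y)]
  simp only [Category.assoc, IsIso.inv_hom_id, Category.comp_id, NatTrans.naturality,
    IsIso.inv_hom_id_assoc]

theorem associator_hom_eq (a b c : Dual.D A) :
    (DTen.associator a b c).hom =
      (DTen.assocL A).app (a, (b, c)) ≫ inv ((DTen.assocR A).app (a, (b, c))) := by
  dsimp only [DTen.associator, Iso.trans_hom, Iso.symm_hom, Iso.app_hom, Iso.app_inv, asIso_hom,
    asIso_inv]
  rw [NatIso.isIso_inv_app]
  rfl

/-- naturality of the associator -/
theorem associator_naturality {a b c a' b' c' : Dual.D A}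
    (f : (a, (b, c)) ⟶ (a', (b', c'))) :
    (DTen.LTenL A).map f ≫ (DTen.associator a' b' c').hom =
      (DTen.associator a b c).hom ≫ (DTen.LTenR A).map f := by
  haveI : ∀ X, IsIso ((DTen.assocR A).app X) := fun X => inferInstance
  rw [associator_hom_eq, associator_hom_eq]
  exact nat_comp_inv (DTen.assocL A) (DTen.assocR A) f

/-- naturality of the associator in the first variable -/
theorem associator_naturality_left {a a' : Dual.D A} (x : a ⟶ a') (b c : Dual.D A) :
    (DTen.LTen₂ A).map (Prod.mkHom ((DTen.LTen₂ A).map (Prod.mkHom x (𝟙 b))) (𝟙 c)) ≫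
      (DTen.associator a' b c).hom =
    (DTen.associator a b c).hom ≫
      (DTen.LTen₂ A).map (Prod.mkHom x (𝟙 ((DTen.LTen₂ A).obj (b, c)))) := by
  have h := associator_naturality (A := A) (a := a) (b := b) (c := c) (a' := a') (b' := b)
    (c' := c) (Prod.mkHom x (Prod.mkHom (𝟙 b) (𝟙 c)))
  have e2 : (DTen.LTenR A).map (Prod.mkHom x (Prod.mkHom (𝟙 b) (𝟙 c)) :
        (a, (b, c)) ⟶ (a', (b, c))) =
      (DTen.LTen₂ A).map (Prod.mkHom x (𝟙 ((DTen.LTen₂ A).obj (b, c)))) := by
    dsimp [DTen.LTenR]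
    congr 2
    exact (DTen.LTen₂ A).map_id (b, c)
  rw [e2] at h
  exact h

variable [DTen.HasRHom A]

theorem isIso_curryHom (K L M : Dual.D A) : IsIso (DTen.curryHom K L M) := by
  apply isIso_of_yoneda_map_bijective
  intro T
  -- the three hom equivalences
  let E1 := (DTen.rhomAdj A ((DTen.LTen₂ A).obj (K, L))).homEquiv T M
  let E2 := (DTen.rhomAdj A K).homEquiv T ((DTen.RHomR A L).obj M)
  let E3 := (DTen.rhomAdj A L).homEquiv ((DTen.LTen₂ A).obj (T, K)) M
  have key : ∀ x : T ⟶ (DTen.RHomR A ((DTen.LTen₂ A).obj (K, L))).obj M,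
      E3.symm (E2.symm (x ≫ DTen.curryHom K L M)) =
        (DTen.associator T K L).hom ≫ E1.symm x := by
    intro x
    have h1 : E2.symm (x ≫ DTen.curryHom K L M) =
        (DTen.LTen₂ A).map (Prod.mkHom x (𝟙 K)) ≫
          DTen.rhomHomEquiv _ _ _ (DTen.curryHomAux K L M) := by
      rw [Adjunction.homEquiv_naturality_left_symm]
      congr 1
      exact Equiv.symm_apply_apply _ _
    rw [h1]
    have h2 : E3.symm ((DTen.LTen₂ A).map (Prod.mkHom x (𝟙 K)) ≫
          DTen.rhomHomEquiv _ _ _ (DTen.curryHomAux K L M)) =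
        (DTen.LTen₂ A).map (Prod.mkHom ((DTen.LTen₂ A).map (Prod.mkHom x (𝟙 K))) (𝟙 L)) ≫
          DTen.curryHomAux K L M := by
      rw [Adjunction.homEquiv_naturality_left_symm]
      congr 1
      exact Equiv.symm_apply_apply _ _
    rw [h2]
    dsimp only [DTen.curryHomAux]
    rw [← Category.assoc, associator_naturality_left, Category.assoc]
    congr 1
  have hbij : Function.Bijective (fun x : T ⟶ (DTen.RHomR A ((DTen.LTen₂ A).obj (K, L))).obj M =>
      E3.symm (E2.symm (x ≫ DTen.curryHom K L M))) := by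
    have : (fun x : T ⟶ (DTen.RHomR A ((DTen.LTen₂ A).obj (K, L))).obj M =>
        E3.symm (E2.symm (x ≫ DTen.curryHom K L M))) =
        (fun y => (DTen.associator T K L).hom ≫ y) ∘ E1.symm := by
      funext x
      exact key x
    rw [this]
    refine Function.Bijective.comp ?_ E1.symm.bijective
    exact ⟨fun y₁ y₂ h => (cancel_epi _).mp h,
      fun y => ⟨(DTen.associator T K L).inv ≫ y, by simp⟩⟩
  have h3 : (fun x : T ⟶ (DTen.RHomR A ((DTen.LTen₂ A).obj (K, L))).obj M =>
      E3.symm (E2.symm (x ≫ DTen.curryHom K L M))) =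
      (E3.symm ∘ E2.symm) ∘ (fun x => x ≫ DTen.curryHom K L M) := rfl
  rw [h3] at hbij
  exact (Function.Bijective.of_comp_iff' (E3.symm.bijective.comp E2.symm.bijective) _).mp hbij

end Closed

end Groth.Agent.Helper3.DT
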