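import Groth.Agent.Lib.Helper3.HT1
import Mathlib.Algebra.Homology.HomotopyCategory.KProjective
import Mathlib.Algebra.Homology.HomotopyCategory.HomComplexCohomology
import Mathlib.Algebra.Homology.ShortComplex.ModuleCat

/-!
# The tensor product of K-projective complexes is K-projective (helper3)
-/

set_option autoImplicit false

open CategoryTheory CategoryTheory.Limits MonoidalCategory CochainComplex HomComplex
open scoped TensorProduct

universe u

namespace Groth.Agent.Helper3.HT

variable {A : Type u} [CommRing A]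

theorem acyclic_shift (W : DRing.Cx A) (hW : W.Acyclic) (n : ℤ) : (W⟦n⟧).Acyclic := by
  rw [← HomotopyCategory.quotient_obj_mem_subcategoryAcyclic_iff_acyclic] at hW ⊢
  exact ObjectProperty.prop_of_iso _
    (((HomotopyCategory.quotient (ModuleCat.{u} A) (.up ℤ)).commShiftIso n).symm.app W)
    ((HomotopyCategory.subcategoryAcyclic (ModuleCat.{u} A)).le_shift n _ hW)

/-- cocycles from a K-projective complex to an acyclic complex are coboundaries -/
theorem exists_δ_eq (P W : DRing.Cx A) [P.IsKProjective] (hW : W.Acyclic) (i j k : ℤ)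
    (hij : i + 1 = j) (hjk : j + 1 = k) (c : Cochain P W j) (hc : δ j k c = 0) :
    ∃ b : Cochain P W i, δ i j b = c := by
  let x : Cocycle P W j := Cocycle.mk c k hjk hc
  have h0 : CohomologyClass.toHom (CohomologyClass.mk x) = 0 := by
    rw [CohomologyClass.toHom_mk]
    exact HomotopyCategory.eq_of_homotopy _ _
      (IsKProjective.homotopyZero _ (acyclic_shift W hW j))
  rw [CohomologyClass.toHom_mk_eq_zero_iff, mem_coboundaries_iff x i hij] at h0
  obtain ⟨b, hb⟩ := h0
  exact ⟨b, hb⟩

/-- `Hom(P, W)` is acyclic when `P` is K-projective and `W` is acyclic -/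
theorem acyclic_homCx (P W : DRing.Cx A) [P.IsKProjective] (hW : W.Acyclic) :
    (DRing.homCx P W).Acyclic := by
  intro j
  rw [HomologicalComplex.exactAt_iff' _ (j - 1) j (j + 1) (by simp) (by simp),
    ShortComplex.moduleCat_exact_iff]
  intro (c : Cochain P W j) hc
  obtain ⟨b, hb⟩ := exists_δ_eq P W hW (j - 1) j (j + 1) (by omega) rfl c hc
  exact ⟨b, hb⟩

theorem cur_zero {K P W : DRing.Cx A} (n : ℤ) : cur (0 : Cochain (K ⊗ P) W n) = 0 := by
  refine Cochain.ext _ _ (fun p p' hp => ?_)
  apply ModuleCat.hom_ext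
  ext x
  apply toC_injective
  rw [toC_cur_v]
  refine Cochain.ext _ _ (fun q q' hq => ?_)
  apply ModuleCat.hom_ext
  ext y
  rw [curC_v_apply (0 : Cochain (K ⊗ P) W n) p p' hp x q q' hq (p + q) rfl y]
  simp
  rfl

/-- the tensor product of two K-projective complexes is K-projective -/
theorem isKProjective_tensor (P₁ P₂ : DRing.Cx A) [P₁.IsKProjective] [P₂.IsKProjective] :
    (P₁ ⊗ P₂).IsKProjective where
  nonempty_homotopy_zero {Z} f hZ := by
    have h1 : δ 0 1 (cur (Cochain.ofHom f)) = 0 := by
      rw [δ_cur (by omega), δ_ofHom, cur_zero]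
    obtain ⟨h, hh⟩ := exists_δ_eq P₁ (DRing.homCx P₂ Z) (acyclic_homCx P₂ Z hZ) (-1) 0 1
      (by omega) (by omega) _ h1
    have h2 : Cochain.ofHom f = δ (-1) 0 (unc h) := by
      rw [δ_unc (by omega), hh, unc_cur]
    exact ⟨(Cochain.equivHomotopy f 0).symm ⟨unc h, by rw [Cochain.ofHom_zero, add_zero, h2]⟩⟩

end Groth.Agent.Helper3.HT
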