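import Groth.Agent.Lib.Helper3.DT1
import Groth.Agent.Lib.Helper3.HT2

/-!
# S13577: the two associativity legs of the derived tensor product are isomorphisms (helper3)
-/

set_option autoImplicit false

open CategoryTheory CategoryTheory.Limits MonoidalCategory

universe u

attribute [local instance] HasDerivedCategory.standard

namespace Groth.Agent.Helper3.DT

open Groth.Agent.Helper11.LDer Groth.Agent.Helper11.DC Groth.Agent.Helper11.Tel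
open Groth.Agent.Helper3.HT

variable {A : Type u} [CommRing A]

instance small_hom_triple (P₁ P₂ P₃ : DRing.Cx A) [P₁.IsKProjective]
    [P₂.IsKProjective] [P₃.IsKProjective] (X : Dual.D A × (Dual.D A × Dual.D A)) :
    Small.{u} (((DTen.QQQ A).obj (P₁, (P₂, P₃)) :
      Dual.D A × (Dual.D A × Dual.D A)) ⟶ X) := by
  change Small.{u} (((DerivedCategory.Q.obj P₁ : Dual.D A) ⟶ X.1) ×
    (((DerivedCategory.Q.obj P₂ : Dual.D A) ⟶ X.2.1) ×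
    ((DerivedCategory.Q.obj P₃ : Dual.D A) ⟶ X.2.2)))
  infer_instance

theorem tensorT₃_map (X Y : DRing.Cx A × (DRing.Cx A × DRing.Cx A)) (f : X ⟶ Y) :
    (DTen.tensorT₃ A).map f = f.1 ⊗ₘ (f.2.1 ⊗ₘ f.2.2) := by
  dsimp only [DTen.tensorT₃, Functor.comp_map]
  rw [tensorT_map]
  dsimp
  rw [MonoidalCategory.tensorHom_def f.2.1 f.2.2]

/-- the counit of the derived triple tensor product is an isomorphism on K-projective triples -/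
theorem isIso_ε₃ [DTen.HasLTen₃ A] (P₁ P₂ P₃ : DRing.Cx A) [P₁.IsKProjective] [P₂.IsKProjective]
    [P₃.IsKProjective] : IsIso ((DTen.ε₃ A).app (P₁, (P₂, P₃))) := by
  haveI : (DTen.LTen₃ A).IsRightKanExtension (DTen.ε₃ A) :=
    Functor.IsLeftDerivedFunctor.isRightKanExtension _ _ (DTen.qis₃ A)
  apply isIso_counit_app (DTen.QQQ A) (DTen.tensor₃ A) (DTen.LTen₃ A) (DTen.ε₃ A) (P₁, (P₂, P₃))
  · rintro ⟨Y₁, Y₂, Y₃⟩ ⟨g₁, g₂, g₃⟩
    obtain ⟨f₁, h₁⟩ := exists_lift_of_isKProjective P₁ Y₁ g₁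
    obtain ⟨f₂, h₂⟩ := exists_lift_of_isKProjective P₂ Y₂ g₂
    obtain ⟨f₃, h₃⟩ := exists_lift_of_isKProjective P₃ Y₃ g₃
    exact ⟨(f₁, (f₂, f₃)), Prod.ext h₁ (Prod.ext h₂ h₃)⟩
  · rintro ⟨Y₁, Y₂, Y₃⟩ ⟨f₁, f₂, f₃⟩ ⟨g₁, g₂, g₃⟩ h
    have h₁ : DerivedCategory.Q.map f₁ = DerivedCategory.Q.map g₁ := congrArg Prod.fst h
    have h₂ : DerivedCategory.Q.map f₂ = DerivedCategory.Q.map g₂ :=
      congrArg (fun t => t.2.1) h
    have h₃ : DerivedCategory.Q.map f₃ = DerivedCategory.Q.map g₃ :=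
      congrArg (fun t => t.2.2) h
    obtain ⟨H₁⟩ := homotopy_of_Q_map_eq P₁ Y₁ f₁ g₁ h₁
    obtain ⟨H₂⟩ := homotopy_of_Q_map_eq P₂ Y₂ f₂ g₂ h₂
    obtain ⟨H₃⟩ := homotopy_of_Q_map_eq P₃ Y₃ f₃ g₃ h₃
    change DerivedCategory.Q.map ((DTen.tensorT₃ A).map
        ((f₁, f₂, f₃) : (P₁, (P₂, P₃)) ⟶ (Y₁, (Y₂, Y₃)))) =
      DerivedCategory.Q.map ((DTen.tensorT₃ A).map
        ((g₁, g₂, g₃) : (P₁, (P₂, P₃)) ⟶ (Y₁, (Y₂, Y₃))))
    rw [tensorT₃_map, tensorT₃_map]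
    exact Q_map_tensorHom_eq H₁ (tensorHomHomotopy H₂ H₃)


theorem isIso_prod_mkHom' {C D : Type*} [Category C] [Category D] {X X' : C} {Y Y' : D}
    (f : X ⟶ X') (g : Y ⟶ Y') [IsIso f] [IsIso g] :
    IsIso (Prod.mkHom f g : (X, Y) ⟶ (X', Y')) :=
  (CategoryTheory.isIso_prod_iff (f := (Prod.mkHom f g : (X, Y) ⟶ (X', Y')))).mpr
    ⟨inferInstanceAs (IsIso f), inferInstanceAs (IsIso g)⟩

section Assoc

variable [DTen.HasLTen A] [DTen.HasLTen₃ A]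

theorem isIso_βR (P₁ P₂ P₃ : DRing.Cx A) [P₁.IsKProjective] [P₂.IsKProjective]
    [P₃.IsKProjective] : IsIso ((DTen.βR A).app (P₁, (P₂, P₃))) := by
  haveI := isIso_ε P₂ P₃
  haveI : (P₂ ⊗ P₃).IsKProjective := isKProjective_tensor P₂ P₃
  haveI := isIso_ε P₁ (P₂ ⊗ P₃)
  haveI := isIso_prod_mkHom' (𝟙 (DerivedCategory.Q.obj P₁ : Dual.D A)) ((DTen.ε A).app (P₂, P₃))
  dsimp [DTen.βR]
  infer_instance

theorem isIso_βL (P₁ P₂ P₃ : DRing.Cx A) [P₁.IsKProjective] [P₂.IsKProjective]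
    [P₃.IsKProjective] : IsIso ((DTen.βL A).app (P₁, (P₂, P₃))) := by
  haveI := isIso_ε P₁ P₂
  haveI : (P₁ ⊗ P₂).IsKProjective := isKProjective_tensor P₁ P₂
  haveI := isIso_ε (P₁ ⊗ P₂) P₃
  haveI := isIso_prod_mkHom' ((DTen.ε A).app (P₁, P₂)) (𝟙 (DerivedCategory.Q.obj P₃ : Dual.D A))
  haveI : IsIso (DerivedCategory.Q.map (α_ P₁ P₂ P₃).hom : (DerivedCategory.Q.obj _ : Dual.D A) ⟶ _) :=
    Functor.map_isIso _ _
  dsimp [DTen.βL]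
  refine @IsIso.comp_isIso _ _ _ _ _ _ _ ?_ ?_
  · haveI : IsIso (Prod.mkHom ((DTen.ε A).app (P₁, P₂))
        (𝟙 (DerivedCategory.Q.obj P₃ : Dual.D A))) :=
      (CategoryTheory.isIso_prod_iff (f := Prod.mkHom ((DTen.ε A).app (P₁, P₂))
        (𝟙 (DerivedCategory.Q.obj P₃ : Dual.D A)))).mpr
        ⟨inferInstanceAs (IsIso ((DTen.ε A).app (P₁, P₂))),
          inferInstanceAs (IsIso (𝟙 (DerivedCategory.Q.obj P₃ : Dual.D A)))⟩
    exact Functor.map_isIso (DTen.LTen₂ A) _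
  · exact @IsIso.comp_isIso _ _ _ _ _ _ _ inferInstance inferInstance

theorem isIso_assocR_app (a b c : Dual.D A) : IsIso ((DTen.assocR A).app (a, (b, c))) := by
  obtain ⟨P₁, hP₁, -, ⟨e₁⟩⟩ := exists_kprojective_rep a
  obtain ⟨P₂, hP₂, -, ⟨e₂⟩⟩ := exists_kprojective_rep b
  obtain ⟨P₃, hP₃, -, ⟨e₃⟩⟩ := exists_kprojective_rep c
  let e : ((DTen.QQQ A).obj (P₁, (P₂, P₃)) : Dual.D A × (Dual.D A × Dual.D A)) ≅ (a, (b, c)) :=
    Iso.prod e₁ (Iso.prod e₂ e₃)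
  have key : IsIso ((DTen.assocR A).app ((DTen.QQQ A).obj (P₁, (P₂, P₃)))) := by
    have hfac := DTen.assocR_fac A (P₁, (P₂, P₃))
    haveI := isIso_ε₃ P₁ P₂ P₃
    have h2 := isIso_βR P₁ P₂ P₃
    rw [← hfac] at h2
    exact IsIso.of_isIso_comp_right _ ((DTen.ε₃ A).app (P₁, (P₂, P₃)))
  exact (NatTrans.isIso_app_iff_of_iso (DTen.assocR A) e).mp key

theorem isIso_assocL_app (a b c : Dual.D A) : IsIso ((DTen.assocL A).app (a, (b, c))) := by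
  obtain ⟨P₁, hP₁, -, ⟨e₁⟩⟩ := exists_kprojective_rep a
  obtain ⟨P₂, hP₂, -, ⟨e₂⟩⟩ := exists_kprojective_rep b
  obtain ⟨P₃, hP₃, -, ⟨e₃⟩⟩ := exists_kprojective_rep c
  let e : ((DTen.QQQ A).obj (P₁, (P₂, P₃)) : Dual.D A × (Dual.D A × Dual.D A)) ≅ (a, (b, c)) :=
    Iso.prod e₁ (Iso.prod e₂ e₃)
  have key : IsIso ((DTen.assocL A).app ((DTen.QQQ A).obj (P₁, (P₂, P₃)))) := by
    have hfac := DTen.assocL_fac A (P₁, (P₂, P₃))
    haveI := isIso_ε₃ P₁ P₂ P₃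
    have h2 := isIso_βL P₁ P₂ P₃
    rw [← hfac] at h2
    exact IsIso.of_isIso_comp_right _ ((DTen.ε₃ A).app (P₁, (P₂, P₃)))
  exact (NatTrans.isIso_app_iff_of_iso (DTen.assocL A) e).mp key

end Assoc

end Groth.Agent.Helper3.DT
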