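import Groth.Agent.Lib.Helper3.DT2
import Groth.Agent.Lib.Helper3.DT5
import Groth.Prelude.Def_DTen6

/-!
# S14268: iterated mixed derived tensor products agree with the jointly derived triple (helper3)
-/

set_option autoImplicit false

open CategoryTheory CategoryTheory.Limits MonoidalCategory

universe u

attribute [local instance] HasDerivedCategory.standard

namespace Groth.Agent.Helper3.DT

open Groth.Agent.Helper11.LDer Groth.Agent.Helper11.DC Groth.Agent.Helper11.Tel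
  Groth.Agent.Helper11.Dev Groth.Agent.Helper11.TA
open Groth.Agent.Helper3.HT

variable {A B C : Type u} [CommRing A] [CommRing B] [CommRing C] (φ : A →+* B) (ψ : B →+* C)

instance small_hom_triple' (P₁ : DRing.Cx A) (P₂ : DRing.Cx B) (P₃ : DRing.Cx C) [P₁.IsKProjective]
    [P₂.IsKProjective] [P₃.IsKProjective] (X : Dual.D A × (Dual.D B × Dual.D C)) :
    Small.{u} (((DTen.QMix₃ A B C).obj (P₁, (P₂, P₃)) :
      Dual.D A × (Dual.D B × Dual.D C)) ⟶ X) := by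
  change Small.{u} (((DerivedCategory.Q.obj P₁ : Dual.D A) ⟶ X.1) ×
    (((DerivedCategory.Q.obj P₂ : Dual.D B) ⟶ X.2.1) ×
    ((DerivedCategory.Q.obj P₃ : Dual.D C) ⟶ X.2.2)))
  infer_instance

theorem mixT₃_map (X Y : DRing.Cx A × (DRing.Cx B × DRing.Cx C)) (f : X ⟶ Y) :
    (DTen.mixT₃ φ ψ).map f =
      (DTen.extCx ψ).map ((DTen.extCx φ).map f.1 ⊗ₘ f.2.1) ⊗ₘ f.2.2 := by
  have h1 : (DTen.mixT₃ φ ψ).map f =
      (DTen.mixT ψ).map (Prod.mkHom ((DTen.mixT φ).map (Prod.mkHom f.1 f.2.1 :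
        (X.1, X.2.1) ⟶ (Y.1, Y.2.1))) f.2.2 :
        ((DTen.mixT φ).obj (X.1, X.2.1), X.2.2) ⟶ ((DTen.mixT φ).obj (Y.1, Y.2.1), Y.2.2)) := rfl
  rw [h1, mixT_map]
  dsimp only [Prod.mkHom]
  rw [mixT_map]

theorem isKProjective_mixT (P₁ : DRing.Cx A) (P₂ : DRing.Cx B) [P₁.IsKProjective]
    [P₂.IsKProjective] : ((DTen.mixT φ).obj (P₁, P₂)).IsKProjective := by
  haveI : ((DTen.extCx φ).obj P₁).IsKProjective := isKProjective_esC φ P₁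
  exact isKProjective_tensor ((DTen.extCx φ).obj P₁) P₂

/-- the counit of the jointly derived mixed triple tensor product is an isomorphism on
K-projective triples -/
theorem isIso_εMix₃ [DTen.HasLTenMix₃ φ ψ] (P₁ : DRing.Cx A) (P₂ : DRing.Cx B) (P₃ : DRing.Cx C)
    [P₁.IsKProjective] [P₂.IsKProjective] [P₃.IsKProjective] :
    IsIso ((DTen.εMix₃ φ ψ).app (P₁, (P₂, P₃))) := by
  haveI : (DTen.LTenMix₃ φ ψ).IsRightKanExtension (DTen.εMix₃ φ ψ) :=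
    Functor.IsLeftDerivedFunctor.isRightKanExtension _ _ (DTen.qisMix₃ A B C)
  apply isIso_counit_app (DTen.QMix₃ A B C) (DTen.mix₃ φ ψ) (DTen.LTenMix₃ φ ψ) (DTen.εMix₃ φ ψ)
    (P₁, (P₂, P₃))
  · rintro ⟨Y₁, Y₂, Y₃⟩ ⟨g₁, g₂, g₃⟩
    obtain ⟨f₁, h₁⟩ := exists_lift_of_isKProjective P₁ Y₁ g₁
    obtain ⟨f₂, h₂⟩ := exists_lift_of_isKProjective P₂ Y₂ g₂
    obtain ⟨f₃, h₃⟩ := exists_lift_of_isKProjective P₃ Y₃ g₃
    exact ⟨(f₁, (f₂, f₃)), Prod.ext h₁ (Prod.ext h₂ h₃)⟩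
  · rintro ⟨Y₁, Y₂, Y₃⟩ ⟨f₁, f₂, f₃⟩ ⟨g₁, g₂, g₃⟩ h
    have h₁ : DerivedCategory.Q.map f₁ = DerivedCategory.Q.map g₁ := congrArg Prod.fst h
    have h₂ : DerivedCategory.Q.map f₂ = DerivedCategory.Q.map g₂ :=
      congrArg (fun t => t.2.1) h
    have h₃ : DerivedCategory.Q.map f₃ = DerivedCategory.Q.map g₃ :=
      congrArg (fun t => t.2.2) h
    obtain ⟨H₁⟩ := homotopy_of_Q_map_eq P₁ Y₁ f₁ g₁ h₁
    obtain ⟨H₂⟩ := homotopy_of_Q_map_eq P₂ Y₂ f₂ g₂ h₂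
    obtain ⟨H₃⟩ := homotopy_of_Q_map_eq P₃ Y₃ f₃ g₃ h₃
    change DerivedCategory.Q.map ((DTen.mixT₃ φ ψ).map
        ((f₁, f₂, f₃) : (P₁, (P₂, P₃)) ⟶ (Y₁, (Y₂, Y₃)))) =
      DerivedCategory.Q.map ((DTen.mixT₃ φ ψ).map
        ((g₁, g₂, g₃) : (P₁, (P₂, P₃)) ⟶ (Y₁, (Y₂, Y₃))))
    rw [mixT₃_map, mixT₃_map]
    exact Q_map_tensorHom_eq ((ModuleCat.extendScalars.{u, u, u} ψ).mapHomotopy
      (tensorHomHomotopy ((ModuleCat.extendScalars.{u, u, u} φ).mapHomotopy H₁) H₂)) H₃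


section Legs

theorem isIso_β₃L [DTen.HasLTenMix φ] [DTen.HasLTenMix ψ] (P₁ : DRing.Cx A) (P₂ : DRing.Cx B)
    (P₃ : DRing.Cx C) [P₁.IsKProjective] [P₂.IsKProjective] [P₃.IsKProjective] :
    IsIso ((DTen.β₃L φ ψ).app (P₁, (P₂, P₃))) := by
  haveI := isIso_εMix φ P₁ P₂
  haveI : ((DTen.mixT φ).obj (P₁, P₂)).IsKProjective := isKProjective_mixT φ P₁ P₂
  haveI := isIso_εMix ψ ((DTen.mixT φ).obj (P₁, P₂)) P₃
  have h1 : IsIso ((DTen.LTenMix ψ).map (Prod.mkHom ((DTen.εMix φ).app (P₁, P₂))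
      (𝟙 (DerivedCategory.Q.obj P₃ : Dual.D C)))) := by
    haveI : IsIso (Prod.mkHom ((DTen.εMix φ).app (P₁, P₂))
        (𝟙 (DerivedCategory.Q.obj P₃ : Dual.D C))) :=
      (CategoryTheory.isIso_prod_iff (f := Prod.mkHom ((DTen.εMix φ).app (P₁, P₂))
        (𝟙 (DerivedCategory.Q.obj P₃ : Dual.D C)))).mpr
        ⟨inferInstanceAs (IsIso ((DTen.εMix φ).app (P₁, P₂))),
          inferInstanceAs (IsIso (𝟙 (DerivedCategory.Q.obj P₃ : Dual.D C)))⟩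
    exact Functor.map_isIso (DTen.LTenMix ψ) _
  exact @IsIso.comp_isIso _ _ _ _ _ _ _ h1
    (inferInstanceAs (IsIso ((DTen.εMix ψ).app ((DTen.mixT φ).obj (P₁, P₂), P₃))))

theorem isIso_β₃R [DTen.HasLTenMix ψ] [DTen.HasLTenMix (ψ.comp φ)] (P₁ : DRing.Cx A)
    (P₂ : DRing.Cx B) (P₃ : DRing.Cx C) [P₁.IsKProjective] [P₂.IsKProjective]
    [P₃.IsKProjective] : IsIso ((DTen.β₃R φ ψ).app (P₁, (P₂, P₃))) := by
  haveI := isIso_εMix ψ P₂ P₃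
  haveI : ((DTen.mixT ψ).obj (P₂, P₃)).IsKProjective := isKProjective_mixT ψ P₂ P₃
  haveI := isIso_εMix (ψ.comp φ) P₁ ((DTen.mixT ψ).obj (P₂, P₃))
  haveI : IsIso (DerivedCategory.Q.map ((DTen.θ₃ φ ψ).inv.app (P₁, (P₂, P₃))) :
      (DerivedCategory.Q.obj _ : Dual.D C) ⟶ _) := Functor.map_isIso _ _
  have h1 : IsIso ((DTen.LTenMix (ψ.comp φ)).map (Prod.mkHom
      (𝟙 (DerivedCategory.Q.obj P₁ : Dual.D A)) ((DTen.εMix ψ).app (P₂, P₃)))) := by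
    haveI : IsIso (Prod.mkHom (𝟙 (DerivedCategory.Q.obj P₁ : Dual.D A))
        ((DTen.εMix ψ).app (P₂, P₃))) :=
      (CategoryTheory.isIso_prod_iff (f := Prod.mkHom (𝟙 (DerivedCategory.Q.obj P₁ : Dual.D A))
        ((DTen.εMix ψ).app (P₂, P₃)))).mpr
        ⟨inferInstanceAs (IsIso (𝟙 (DerivedCategory.Q.obj P₁ : Dual.D A))),
          inferInstanceAs (IsIso ((DTen.εMix ψ).app (P₂, P₃)))⟩
    exact Functor.map_isIso (DTen.LTenMix (ψ.comp φ)) _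
  have h2 : IsIso ((DTen.εMix (ψ.comp φ)).app (P₁, (DTen.mixT ψ).obj (P₂, P₃)) ≫
      DerivedCategory.Q.map ((DTen.θ₃ φ ψ).inv.app (P₁, (P₂, P₃)))) :=
    @IsIso.comp_isIso _ _ _ _ _ _ _
      (inferInstanceAs (IsIso ((DTen.εMix (ψ.comp φ)).app (P₁, (DTen.mixT ψ).obj (P₂, P₃)))))
      inferInstance
  exact @IsIso.comp_isIso _ _ _ _ _ _ _ h1 h2

theorem isIso_leg₃L_app [DTen.HasLTenMix φ] [DTen.HasLTenMix ψ] [DTen.HasLTenMix₃ φ ψ]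
    (E : Dual.D A) (F : Dual.D B) (G : Dual.D C) : IsIso ((DTen.leg₃L φ ψ).app (E, (F, G))) := by
  obtain ⟨P₁, hP₁, -, ⟨e₁⟩⟩ := exists_kprojective_rep E
  obtain ⟨P₂, hP₂, -, ⟨e₂⟩⟩ := exists_kprojective_rep F
  obtain ⟨P₃, hP₃, -, ⟨e₃⟩⟩ := exists_kprojective_rep G
  let e : ((DTen.QMix₃ A B C).obj (P₁, (P₂, P₃)) : Dual.D A × (Dual.D B × Dual.D C)) ≅
      (E, (F, G)) := Iso.prod e₁ (Iso.prod e₂ e₃)
  have key : IsIso ((DTen.leg₃L φ ψ).app ((DTen.QMix₃ A B C).obj (P₁, (P₂, P₃)))) := by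
    have hfac := DTen.leg₃L_fac φ ψ (P₁, (P₂, P₃))
    haveI := isIso_εMix₃ φ ψ P₁ P₂ P₃
    have h2 := isIso_β₃L φ ψ P₁ P₂ P₃
    rw [← hfac] at h2
    exact IsIso.of_isIso_comp_right _ ((DTen.εMix₃ φ ψ).app (P₁, (P₂, P₃)))
  exact (NatTrans.isIso_app_iff_of_iso (DTen.leg₃L φ ψ) e).mp key

theorem isIso_leg₃R_app [DTen.HasLTenMix ψ] [DTen.HasLTenMix (ψ.comp φ)] [DTen.HasLTenMix₃ φ ψ]
    (E : Dual.D A) (F : Dual.D B) (G : Dual.D C) : IsIso ((DTen.leg₃R φ ψ).app (E, (F, G))) := by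
  obtain ⟨P₁, hP₁, -, ⟨e₁⟩⟩ := exists_kprojective_rep E
  obtain ⟨P₂, hP₂, -, ⟨e₂⟩⟩ := exists_kprojective_rep F
  obtain ⟨P₃, hP₃, -, ⟨e₃⟩⟩ := exists_kprojective_rep G
  let e : ((DTen.QMix₃ A B C).obj (P₁, (P₂, P₃)) : Dual.D A × (Dual.D B × Dual.D C)) ≅
      (E, (F, G)) := Iso.prod e₁ (Iso.prod e₂ e₃)
  have key : IsIso ((DTen.leg₃R φ ψ).app ((DTen.QMix₃ A B C).obj (P₁, (P₂, P₃)))) := by
    have hfac := DTen.leg₃R_fac φ ψ (P₁, (P₂, P₃))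
    haveI := isIso_εMix₃ φ ψ P₁ P₂ P₃
    have h2 := isIso_β₃R φ ψ P₁ P₂ P₃
    rw [← hfac] at h2
    exact IsIso.of_isIso_comp_right _ ((DTen.εMix₃ φ ψ).app (P₁, (P₂, P₃)))
  exact (NatTrans.isIso_app_iff_of_iso (DTen.leg₃R φ ψ) e).mp key

end Legs

end Groth.Agent.Helper3.DT
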