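import Mathlib

/-!
# The trace involution of a free algebra of rank two (helper3)

For an `A`-algebra `B` with a basis indexed by `Fin 2`, the map `x ↦ Tr(x) - x` is a ring
involution of `B` fixing `A`, and its fixed points are `A` when `2` is invertible.  Everything is
also phrased for a ring homomorphism `φ : A →+* B` (no `Algebra` instance), as used for sections
of schemes.
-/

set_option autoImplicit false
set_option linter.style.haveILetI false
set_option linter.unusedSectionVars false

open Module

namespace Groth.Agent.Helper3.DblInv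

section Core

variable {A B : Type*} [CommRing A] [CommRing B] [Algebra A B]

variable (A) in
/-- trace minus identity -/
noncomputable def tau (x : B) : B := algebraMap A B (Algebra.trace A B x) - x

theorem tau_algebraMap (b : Basis (Fin 2) A B) (a : A) :
    tau A (algebraMap A B a) = algebraMap A B a := by
  unfold tau
  rw [Algebra.trace_algebraMap_of_basis b, Fintype.card_fin, two_smul, map_add,
    add_sub_cancel_right]

theorem leftMulMatrix_tau (b : Basis (Fin 2) A B) (x : B) :
    Algebra.leftMulMatrix b (tau A x) = Matrix.adjugate (Algebra.leftMulMatrix b x) := by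
  have h1 : Algebra.leftMulMatrix b (tau A x) =
      algebraMap A (Matrix (Fin 2) (Fin 2) A) (Algebra.trace A B x) -
        Algebra.leftMulMatrix b x := by
    unfold tau
    rw [map_sub, AlgHom.commutes]
  rw [h1, Algebra.trace_eq_matrix_trace b, Matrix.adjugate_fin_two, Matrix.trace_fin_two]
  ext i j
  fin_cases i <;> fin_cases j <;> simp [Matrix.algebraMap_matrix_apply]

theorem tau_mul (b : Basis (Fin 2) A B) (x y : B) : tau A (x * y) = tau A x * tau A y := by
  apply Algebra.leftMulMatrix_injective b
  have e2 : Algebra.leftMulMatrix b (x * y) =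
      Algebra.leftMulMatrix b x * Algebra.leftMulMatrix b y := map_mul _ _ _
  have e3 : Algebra.leftMulMatrix b (tau A y * tau A x) =
      Algebra.leftMulMatrix b (tau A y) * Algebra.leftMulMatrix b (tau A x) := map_mul _ _ _
  rw [leftMulMatrix_tau b, e2, Matrix.adjugate_mul_distrib, ← leftMulMatrix_tau b,
    ← leftMulMatrix_tau b, ← e3, mul_comm]

theorem tau_tau (b : Basis (Fin 2) A B) (x : B) : tau A (tau A x) = x := by
  have h : Algebra.trace A B (tau A x) = Algebra.trace A B x := by
    unfold tau
    rw [map_sub, Algebra.trace_algebraMap_of_basis b, Fintype.card_fin, two_smul,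
      add_sub_cancel_right]
  show algebraMap A B (Algebra.trace A B (tau A x)) - tau A x = x
  rw [h]
  unfold tau
  rw [sub_sub_cancel]

theorem tau_add (x y : B) : tau A (x + y) = tau A x + tau A y := by
  unfold tau
  rw [map_add, map_add]
  ring

theorem tau_zero : tau A (0 : B) = 0 := by
  unfold tau
  simp

theorem tau_one (b : Basis (Fin 2) A B) : tau A (1 : B) = 1 := by
  have := tau_algebraMap b (1 : A)
  rwa [map_one] at this

/-- the trace is compatible with a base change carrying a basis to a basis -/
theorem trace_map_of_basis {A' B' : Type*} [CommRing A'] [CommRing B'] [Algebra A' B']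
    {ι : Type*} [Fintype ι] [DecidableEq ι] (b : Basis ι A B) (b' : Basis ι A' B')
    (ψ : A →+* A') (ψ' : B →+* B')
    (hc : ∀ a, ψ' (algebraMap A B a) = algebraMap A' B' (ψ a))
    (hb : ∀ i, b' i = ψ' (b i)) (x : B) :
    Algebra.trace A' B' (ψ' x) = ψ (Algebra.trace A B x) := by
  have key : ∀ (y : B) (i : ι), b'.repr (ψ' y) i = ψ (b.repr y i) := by
    intro y i
    have h1 : ψ' y = ∑ j, (ψ (b.repr y j)) • b' j := by
      conv_lhs => rw [← b.sum_repr y]
      rw [map_sum]
      refine Finset.sum_congr rfl (fun j _ => ?_)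
      rw [Algebra.smul_def, map_mul, hc, hb, Algebra.smul_def]
    rw [h1]
    exact congrFun (b'.repr_sum_self (fun j => ψ (b.repr y j))) i
  rw [Algebra.trace_eq_matrix_trace b, Algebra.trace_eq_matrix_trace b', Matrix.trace,
    Matrix.trace, map_sum]
  refine Finset.sum_congr rfl (fun i _ => ?_)
  rw [Matrix.diag_apply, Matrix.diag_apply, Algebra.leftMulMatrix_eq_repr_mul,
    Algebra.leftMulMatrix_eq_repr_mul, hb, ← map_mul, key]

/-- local freeness of rank two around a prime where the rank is two -/
theorem exists_r_basis [Module.Finite A B] [Module.Flat A B] [Module.FinitePresentation A B]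
    (p : PrimeSpectrum A) (hp : Module.rankAtStalk (R := A) B p = 2) :
    ∃ r : A, r ∉ p.asIdeal ∧ Nonempty (Basis (Fin 2) (Localization (Submonoid.powers r))
      (LocalizedModule (Submonoid.powers r) B)) := by
  haveI : Module.Free (Localization.AtPrime p.asIdeal)
      (LocalizedModule p.asIdeal.primeCompl B) := Module.free_of_flat_of_isLocalRing
  have hp' : Module.finrank (Localization.AtPrime p.asIdeal)
      (LocalizedModule p.asIdeal.primeCompl B) = 2 := hp
  let b₀ : Basis (Fin 2) (Localization.AtPrime p.asIdeal)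
      (LocalizedModule p.asIdeal.primeCompl B) := Module.finBasisOfFinrankEq _ _ hp'
  obtain ⟨r, hr, b', -⟩ := Module.FinitePresentation.exists_basis_localizedModule_powers
    p.asIdeal.primeCompl (LocalizedModule.mkLinearMap p.asIdeal.primeCompl B)
    (Localization.AtPrime p.asIdeal) b₀
  exact ⟨r, hr, ⟨b'⟩⟩

end Core

section R

variable {A B : Type*} [CommRing A] [CommRing B]

/-- bases (indexed by `Fin 2`) for the module structure defined by a ring homomorphism -/
abbrev RBasis (φ : A →+* B) : Type _ := letI := φ.toAlgebra; Basis (Fin 2) A B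

/-- trace minus identity, for a ring homomorphism -/
noncomputable def tauR (φ : A →+* B) (x : B) : B := letI := φ.toAlgebra; tau A x

/-- the involution as a ring homomorphism -/
noncomputable def tauHom (φ : A →+* B) (b : RBasis φ) : B →+* B :=
  letI := φ.toAlgebra
  { toFun := tauR φ
    map_one' := tau_one b
    map_mul' := tau_mul b
    map_zero' := tau_zero
    map_add' := tau_add }

theorem tauHom_apply (φ : A →+* B) (b : RBasis φ) (x : B) : tauHom φ b x = tauR φ x := rfl

theorem tauR_map (φ : A →+* B) (b : RBasis φ) (a : A) : tauR φ (φ a) = φ a := by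
  letI := φ.toAlgebra
  exact tau_algebraMap b a

theorem tauR_tauR (φ : A →+* B) (b : RBasis φ) (x : B) : tauR φ (tauR φ x) = x := by
  letI := φ.toAlgebra
  exact tau_tau b x

theorem injective_of_rbasis (φ : A →+* B) (b : RBasis φ) : Function.Injective φ := by
  letI := φ.toAlgebra
  rw [injective_iff_map_eq_zero]
  intro a ha
  have h1 : a • b 0 = 0 := by
    rw [Algebra.smul_def]
    show φ a * b 0 = 0
    rw [ha, zero_mul]
  have h2 := congrArg (fun v => b.repr v 0) h1
  simpa using h2

theorem mem_range_of_tauR_eq (φ : A →+* B) (h2 : IsUnit (2 : A)) (x : B)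
    (hx : tauR φ x = x) : x ∈ Set.range φ := by
  letI := φ.toAlgebra
  obtain ⟨u, hu⟩ := h2
  refine ⟨↑u⁻¹ * Algebra.trace A B x, ?_⟩
  have h0 : φ (Algebra.trace A B x) - x = x := hx
  have h1 : φ (Algebra.trace A B x) = φ 2 * x := by
    rw [map_ofNat, two_mul]
    exact sub_eq_iff_eq_add.mp h0
  rw [map_mul, h1, ← mul_assoc, ← map_mul, ← hu, Units.inv_mul, map_one, one_mul]

variable {A' B' : Type*} [CommRing A'] [CommRing B']

theorem tauR_comm (φ : A →+* B) (φ' : A' →+* B') (ψ : A →+* A') (ψ' : B →+* B')
    (hc : ψ'.comp φ = φ'.comp ψ) (b : RBasis φ) (b' : RBasis φ')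
    (hb : ∀ i, b' i = ψ' (b i)) (x : B) : ψ' (tauR φ x) = tauR φ' (ψ' x) := by
  letI := φ.toAlgebra
  letI := φ'.toAlgebra
  have hc' : ∀ a, ψ' (algebraMap A B a) = algebraMap A' B' (ψ a) :=
    fun a => congrArg (fun m => m a) hc
  have ht := trace_map_of_basis b b' ψ ψ' hc' hb x
  show ψ' (φ (Algebra.trace A B x) - x) = φ' (Algebra.trace A' B' (ψ' x)) - ψ' x
  rw [map_sub, ht]
  exact congrArg (· - ψ' x) (hc' _)

/-- a basis localizes -/
theorem exists_rbasis_away (φ : A →+* B) (φ' : A' →+* B') (ψ : A →+* A') (ψ' : B →+* B')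
    (hc : ψ'.comp φ = φ'.comp ψ) (r : A)
    (h1 : @IsLocalization.Away A _ r A' _ ψ.toAlgebra)
    (h2 : @IsLocalization.Away B _ (φ r) B' _ ψ'.toAlgebra) (b : RBasis φ) :
    ∃ b' : RBasis φ', ∀ i, b' i = ψ' (b i) := by
  letI := φ.toAlgebra
  letI := φ'.toAlgebra
  letI := ψ.toAlgebra
  letI := ψ'.toAlgebra
  letI : Algebra A B' := (ψ'.comp φ).toAlgebra
  haveI : IsScalarTower A B B' := IsScalarTower.of_algebraMap_eq' rfl
  haveI : IsScalarTower A A' B' := IsScalarTower.of_algebraMap_eq' hc
  haveI : IsLocalization (Submonoid.powers r) A' := h1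
  haveI : IsLocalization (Algebra.algebraMapSubmonoid B (Submonoid.powers r)) B' := by
    have e : Algebra.algebraMapSubmonoid B (Submonoid.powers r) = Submonoid.powers (φ r) :=
      Submonoid.map_powers _ _
    rw [e]
    exact h2
  exact ⟨b.localizationLocalization A' (Submonoid.powers r) B',
    fun i => b.localizationLocalization_apply A' (Submonoid.powers r) B' i⟩

/-- transfer of a basis of the standard localization to any other localization -/
theorem basis_transfer (φ : A →+* B) (φ' : A' →+* B') (ψ : A →+* A') (ψ' : B →+* B')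
    (hc : ψ'.comp φ = φ'.comp ψ) (r : A)
    (h1 : @IsLocalization.Away A _ r A' _ ψ.toAlgebra)
    (h2 : @IsLocalization.Away B _ (φ r) B' _ ψ'.toAlgebra) {ι : Type*}
    (b : letI := φ.toAlgebra; Basis ι (Localization (Submonoid.powers r))
      (LocalizedModule (Submonoid.powers r) B)) :
    Nonempty (letI := φ'.toAlgebra; Basis ι A' B') := by
  letI := φ.toAlgebra
  letI := φ'.toAlgebra
  letI := ψ.toAlgebra
  letI := ψ'.toAlgebra
  letI : Algebra A B' := (ψ'.comp φ).toAlgebra
  haveI : IsScalarTower A B B' := IsScalarTower.of_algebraMap_eq' rfl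
  haveI : IsScalarTower A A' B' := IsScalarTower.of_algebraMap_eq' hc
  haveI : IsLocalization (Submonoid.powers r) A' := h1
  haveI : IsLocalization (Algebra.algebraMapSubmonoid B (Submonoid.powers r)) B' := by
    have e : Algebra.algebraMapSubmonoid B (Submonoid.powers r) = Submonoid.powers (φ r) :=
      Submonoid.map_powers _ _
    rw [e]
    exact h2
  let g : B →ₗ[A] B' := (IsScalarTower.toAlgHom A B B').toLinearMap
  haveI : IsLocalizedModule (Submonoid.powers r) g := inferInstance
  let e : Localization (Submonoid.powers r) ≃ₐ[A] A' :=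
    Localization.algEquiv (Submonoid.powers r) A'
  letI : Module (Localization (Submonoid.powers r)) B' :=
    Module.compHom B' e.toRingEquiv.toRingHom
  haveI : IsScalarTower A (Localization (Submonoid.powers r)) B' := ⟨fun a t x => by
    change e (a • t) • x = a • (e t • x)
    rw [map_smul, smul_assoc]⟩
  let i0 : LocalizedModule (Submonoid.powers r) B ≃ₗ[A] B' :=
    IsLocalizedModule.iso (Submonoid.powers r) g
  let i1 : LocalizedModule (Submonoid.powers r) B ≃ₗ[Localization (Submonoid.powers r)] B' :=
    i0.extendScalarsOfIsLocalization (Submonoid.powers r) (Localization (Submonoid.powers r))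
  let b1 : Basis ι (Localization (Submonoid.powers r)) B' := b.map i1
  exact ⟨b1.mapCoeffs e.toRingEquiv (fun c x => rfl)⟩

/-- local freeness of rank two, for a ring homomorphism, transferred to arbitrary localizations -/
theorem exists_r_rbasis (φ : A →+* B)
    (hfin : φ.Finite) (hflat : φ.Flat) (hfp : φ.FinitePresentation)
    (p : PrimeSpectrum A)
    (hp : (letI := φ.toAlgebra; Module.rankAtStalk (R := A) B p) = 2) :
    ∃ r : A, r ∉ p.asIdeal ∧ ∀ (A' B' : Type _) [CommRing A'] [CommRing B']
      (φ' : A' →+* B') (ψ : A →+* A') (ψ' : B →+* B'), ψ'.comp φ = φ'.comp ψ →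
      @IsLocalization.Away A _ r A' _ ψ.toAlgebra →
      @IsLocalization.Away B _ (φ r) B' _ ψ'.toAlgebra → Nonempty (RBasis φ') := by
  letI := φ.toAlgebra
  haveI : Module.Finite A B := hfin
  haveI : Module.Flat A B := hflat
  haveI : Algebra.FinitePresentation A B := hfp
  haveI : Module.FinitePresentation A B :=
    Module.FinitePresentation.of_finite_of_finitePresentation _ _
  obtain ⟨r, hr, ⟨b⟩⟩ := exists_r_basis (A := A) (B := B) p hp
  exact ⟨r, hr, fun A' B' _ _ φ' ψ ψ' hc h1 h2 => basis_transfer φ φ' ψ ψ' hc r h1 h2 b⟩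

end R

end Groth.Agent.Helper3.DblInv
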