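import Mathlib
import Groth.Agent.Lib.Helper3.DblInv1
import Groth.Agent.Lib.Helper28.FinrankKey
import Groth.Agent.Lib.Helper21.GQuot6

/-!
# The involution of a double cover (helper3)

For a finite flat finitely presented morphism `f : X ⟶ Y` of rank two, the local involutions
`x ↦ Tr(x) - x` on the affine opens over which `f_* O_X` is free glue to an involution of `X` over
`Y`; if `2` is invertible, `f` is the quotient of `X` by this involution.
-/

set_option autoImplicit false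
set_option linter.style.haveILetI false
set_option linter.unusedSectionVars false
universe u

open CategoryTheory CategoryTheory.Limits AlgebraicGeometry TopologicalSpace Opposite

namespace Groth.Agent.Helper3.DblInv

open Groth.Agent.Helper21

variable {X Y : Scheme.{u}} (f : X ⟶ Y)

/-- preimages are monotone -/
theorem pm {W' W : Y.Opens} (h : W' ≤ W) : f ⁻¹ᵁ W' ≤ f ⁻¹ᵁ W := fun _ hx => h hx

/-- restriction on `Y` -/
noncomputable def resY {W' W : Y.Opens} (h : W' ≤ W) : Γ(Y, W) →+* Γ(Y, W') :=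
  (Y.presheaf.map (homOfLE h).op).hom

/-- restriction on `X` between preimages -/
noncomputable def resX {W' W : Y.Opens} (h : W' ≤ W) : Γ(X, f ⁻¹ᵁ W) →+* Γ(X, f ⁻¹ᵁ W') :=
  (X.presheaf.map (homOfLE (pm f h)).op).hom

theorem res_comm {W' W : Y.Opens} (h : W' ≤ W) :
    (resX f h).comp (f.app W).hom = (f.app W').hom.comp (resY h) :=
  RingHom.ext fun t => (GQuot6.app_res f h t).symm

theorem resX_rfl (W : Y.Opens) (x : Γ(X, f ⁻¹ᵁ W)) : resX f (le_refl W) x = x := by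
  have h : X.presheaf.map (homOfLE (pm f (le_refl W))).op = 𝟙 _ := by
    rw [show homOfLE (pm f (le_refl W)) = 𝟙 (f ⁻¹ᵁ W) from rfl, op_id, X.presheaf.map_id]
  exact congrArg (fun m => m.hom x) h

theorem resX_trans {W'' W' W : Y.Opens} (h1 : W'' ≤ W') (h2 : W' ≤ W) (x : Γ(X, f ⁻¹ᵁ W)) :
    resX f (h1.trans h2) x = resX f h1 (resX f h2 x) := by
  have h : X.presheaf.map (homOfLE (pm f (h1.trans h2))).op =
      X.presheaf.map (homOfLE (pm f h2)).op ≫ X.presheaf.map (homOfLE (pm f h1)).op := by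
    rw [← Functor.map_comp]
    rfl
  exact congrArg (fun m => m.hom x) h

/-- the family of affine opens over which `f_* O_X` is free of rank two -/
def Fam (W : Y.Opens) : Prop := IsAffineOpen W ∧ Nonempty (RBasis (f.app W).hom)

/-- the index type -/
@[ext] structure Idx : Type u where
  /-- the open -/
  W : Y.Opens
  /-- it belongs to the family -/
  h : Fam f W

/-- the local involution on sections -/
noncomputable def tauW (i : Idx f) : Γ(X, f ⁻¹ᵁ i.W) ⟶ Γ(X, f ⁻¹ᵁ i.W) :=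
  CommRingCat.ofHom (tauHom (f.app i.W).hom i.h.2.some)

theorem app_tauW (i : Idx f) : f.app i.W ≫ tauW f i = f.app i.W := by
  apply CommRingCat.hom_ext
  apply RingHom.ext
  intro x
  show tauR (f.app i.W).hom ((f.app i.W).hom x) = (f.app i.W).hom x
  exact tauR_map _ i.h.2.some x

theorem tauW_tauW (i : Idx f) : tauW f i ≫ tauW f i = 𝟙 _ := by
  apply CommRingCat.hom_ext
  apply RingHom.ext
  intro x
  show tauR (f.app i.W).hom (tauR (f.app i.W).hom x) = x
  exact tauR_tauR _ i.h.2.some x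

/-- the order relation: inclusion, compatibly with the local involutions -/
structure Rel (i j : Idx f) : Prop where
  le : i.W ≤ j.W
  comm : ∀ x, resX f le (tauR (f.app j.W).hom x) = tauR (f.app i.W).hom (resX f le x)

noncomputable instance : Preorder (Idx f) where
  le := Rel f
  le_refl i := ⟨le_refl _, fun x => by rw [resX_rfl, resX_rfl]⟩
  le_trans i j k hij hjk := ⟨hij.le.trans hjk.le, fun x => by
    rw [resX_trans f hij.le hjk.le, resX_trans f hij.le hjk.le, hjk.comm, hij.comm]⟩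

theorem loc_away (W : Y.Opens) (hW : IsAffineOpen W) [IsAffineHom f] (r : Γ(Y, W)) :
    @IsLocalization.Away Γ(Y, W) _ r Γ(Y, Y.basicOpen r) _
      (resY (Y.basicOpen_le r)).toAlgebra ∧
    @IsLocalization.Away Γ(X, f ⁻¹ᵁ W) _ ((f.app W).hom r) Γ(X, f ⁻¹ᵁ Y.basicOpen r) _
      (resX f (Y.basicOpen_le r)).toAlgebra := by
  refine ⟨hW.isLocalization_of_eq_basicOpen r (homOfLE (Y.basicOpen_le r)) rfl, ?_⟩
  exact (hW.preimage f).isLocalization_of_eq_basicOpen ((f.app W).hom r)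
    (homOfLE (pm f (Y.basicOpen_le r))) (Scheme.preimage_basicOpen f r)

theorem mem_basicOpen_of_notMem {W : Y.Opens} (hW : IsAffineOpen W) (y : Y) (hy : y ∈ W)
    (r : Γ(Y, W)) (hr : r ∉ (hW.primeIdealOf ⟨y, hy⟩).asIdeal) : y ∈ Y.basicOpen r := by
  have h1 : hW.fromSpec (hW.primeIdealOf ⟨y, hy⟩) = y := hW.fromSpec_primeIdealOf ⟨y, hy⟩
  have h2 : hW.primeIdealOf ⟨y, hy⟩ ∈ hW.fromSpec ⁻¹ᵁ Y.basicOpen r := by
    rw [hW.fromSpec_preimage_basicOpen]
    exact hr
  have h3 : hW.fromSpec (hW.primeIdealOf ⟨y, hy⟩) ∈ Y.basicOpen r := h2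
  rwa [h1] at h3

theorem isoSpec_hom_fromSpec {U : X.Opens} (hU : IsAffineOpen U) :
    hU.isoSpec.hom ≫ hU.fromSpec = U.ι := by
  rw [← hU.isoSpec_inv_ι, Iso.hom_inv_id_assoc]

theorem homOfLE_isoSpec {U' U : X.Opens} (hU' : IsAffineOpen U') (hU : IsAffineOpen U)
    (h : U' ≤ U) :
    X.homOfLE h ≫ hU.isoSpec.hom = hU'.isoSpec.hom ≫ Spec.map (X.presheaf.map (homOfLE h).op) := by
  rw [← cancel_mono hU.fromSpec, Category.assoc, Category.assoc, isoSpec_hom_fromSpec,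
    Scheme.homOfLE_ι, hU.map_fromSpec hU' (homOfLE h).op, isoSpec_hom_fromSpec]

variable [IsFinite f]

theorem fam_basicOpen (j : Idx f) (r : Γ(Y, j.W)) : Fam f (Y.basicOpen r) := by
  obtain ⟨h1, h2⟩ := loc_away f j.W j.h.1 r
  obtain ⟨b', -⟩ := exists_rbasis_away (f.app j.W).hom (f.app (Y.basicOpen r)).hom
    (resY (Y.basicOpen_le r)) (resX f (Y.basicOpen_le r)) (res_comm f _) r h1 h2 j.h.2.some
  exact ⟨j.h.1.basicOpen r, ⟨b'⟩⟩

theorem rel_basicOpen (j : Idx f) (r : Γ(Y, j.W)) :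
    (⟨Y.basicOpen r, fam_basicOpen f j r⟩ : Idx f) ≤ j := by
  obtain ⟨h1, h2⟩ := loc_away f j.W j.h.1 r
  obtain ⟨b', hb'⟩ := exists_rbasis_away (f.app j.W).hom (f.app (Y.basicOpen r)).hom
    (resY (Y.basicOpen_le r)) (resX f (Y.basicOpen_le r)) (res_comm f _) r h1 h2 j.h.2.some
  exact ⟨Y.basicOpen_le r, fun x => tauR_comm (f.app j.W).hom (f.app (Y.basicOpen r)).hom
    (resY _) (resX f _) (res_comm f _) j.h.2.some b' hb' x⟩

theorem hU (i : Idx f) : IsAffineOpen (f ⁻¹ᵁ i.W) := i.h.1.preimage f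

/-- the local morphisms -/
noncomputable def mW (i : Idx f) : (f ⁻¹ᵁ i.W).toScheme ⟶ X :=
  (hU f i).isoSpec.hom ≫ Spec.map (tauW f i) ≫ (hU f i).fromSpec

theorem mW_compat {i j : Idx f} (hij : i ≤ j) :
    X.homOfLE (pm f hij.le) ≫ mW f j = mW f i := by
  have hc : X.presheaf.map (homOfLE (pm f hij.le)).op ≫ tauW f i =
      tauW f j ≫ X.presheaf.map (homOfLE (pm f hij.le)).op := by
    apply CommRingCat.hom_ext
    apply RingHom.ext
    intro x
    exact (hij.comm x).symm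
  calc X.homOfLE (pm f hij.le) ≫ mW f j
      = (X.homOfLE (pm f hij.le) ≫ (hU f j).isoSpec.hom) ≫ Spec.map (tauW f j) ≫
          (hU f j).fromSpec := by simp only [mW, Category.assoc]
    _ = ((hU f i).isoSpec.hom ≫ Spec.map (X.presheaf.map (homOfLE (pm f hij.le)).op)) ≫
          Spec.map (tauW f j) ≫ (hU f j).fromSpec := by
        rw [homOfLE_isoSpec (hU f i) (hU f j)]
    _ = (hU f i).isoSpec.hom ≫ Spec.map (tauW f j ≫
          X.presheaf.map (homOfLE (pm f hij.le)).op) ≫ (hU f j).fromSpec := by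
        rw [Spec.map_comp]
        simp only [Category.assoc]
    _ = (hU f i).isoSpec.hom ≫ Spec.map (X.presheaf.map (homOfLE (pm f hij.le)).op ≫
          tauW f i) ≫ (hU f j).fromSpec := by rw [hc]
    _ = (hU f i).isoSpec.hom ≫ Spec.map (tauW f i) ≫
          Spec.map (X.presheaf.map (homOfLE (pm f hij.le)).op) ≫ (hU f j).fromSpec := by
        rw [Spec.map_comp]
        simp only [Category.assoc]
    _ = mW f i := by
        rw [(hU f j).map_fromSpec (hU f i)]
        rfl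

variable [Flat f] [LocallyOfFinitePresentation f]

theorem exists_fam (hrk : ∀ y : Y, f.finrank y = 2) (y : Y) (O : Y.Opens) (hy : y ∈ O) :
    ∃ W : Y.Opens, Fam f W ∧ y ∈ W ∧ W ≤ O := by
  obtain ⟨_, ⟨W₀, hW₀, rfl⟩, hyW₀, hW₀O⟩ :=
    Y.isBasis_affineOpens.exists_subset_of_mem_open hy O.2
  have hU₀ : IsAffineOpen (f ⁻¹ᵁ W₀) := hW₀.preimage f
  have hfin : (f.app W₀).hom.Finite := f.finite_app W₀ hW₀
  have hflat : (f.app W₀).hom.Flat := by
    have h := f.flat_appLE hW₀ hU₀ le_rfl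
    rwa [← Scheme.Hom.app_eq_appLE] at h
  have hfp : (f.app W₀).hom.FinitePresentation := by
    have h := f.finitePresentation_appLE hW₀ hU₀ le_rfl
    rwa [← Scheme.Hom.app_eq_appLE] at h
  have hp : (letI := (f.app W₀).hom.toAlgebra
      Module.rankAtStalk (R := Γ(Y, W₀)) Γ(X, f ⁻¹ᵁ W₀) (hW₀.primeIdealOf ⟨y, hyW₀⟩)) = 2 :=
    (Groth.Agent.Helper28.FinrankKey.finrank_eq_rankAtStalk f hW₀ y hyW₀).symm.trans (hrk y)
  obtain ⟨r, hr, hb⟩ := exists_r_rbasis (f.app W₀).hom hfin hflat hfp _ hp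
  obtain ⟨h1, h2⟩ := loc_away f W₀ hW₀ r
  have hb' := hb Γ(Y, Y.basicOpen r) Γ(X, f ⁻¹ᵁ Y.basicOpen r) (f.app (Y.basicOpen r)).hom
    (resY (Y.basicOpen_le r)) (resX f (Y.basicOpen_le r)) (res_comm f _) h1 h2
  exact ⟨Y.basicOpen r, ⟨hW₀.basicOpen r, hb'⟩, mem_basicOpen_of_notMem hW₀ y hyW₀ r hr,
    fun z hz => hW₀O (Y.basicOpen_le r hz)⟩

variable (hrk : ∀ y : Y, f.finrank y = 2)

/-- the cover of `X` by the preimages of the members of the family -/
noncomputable def cov : X.OpenCover where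
  I₀ := Idx f
  X i := (f ⁻¹ᵁ i.W).toScheme
  f i := (f ⁻¹ᵁ i.W).ι
  mem₀ := by
    rw [Scheme.presieve₀_mem_precoverage_iff]
    refine ⟨fun x => ?_, inferInstance⟩
    obtain ⟨W, hW, hx, -⟩ := exists_fam f hrk (f x) ⊤ trivial
    exact ⟨⟨W, hW⟩, ⟨x, hx⟩, rfl⟩

noncomputable instance : Preorder (cov f hrk).I₀ := inferInstanceAs (Preorder (Idx f))

noncomputable instance instLD : Scheme.Cover.LocallyDirected (cov f hrk) where
  trans {i j} hij := X.homOfLE (pm f (leOfHom hij).le)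
  property_trans hij := inferInstanceAs (IsOpenImmersion (X.homOfLE _))
  trans_id i := Scheme.homOfLE_rfl _ _
  trans_comp hij hjk := (Scheme.homOfLE_homOfLE _ _ _).symm
  w hij := Scheme.homOfLE_ι _ _
  directed {i j} x := by
    have hx := congr($(pullback.condition (f := (cov f hrk).f i) (g := (cov f hrk).f j)) x)
    obtain ⟨ui, hui⟩ : ∃ ui : (f ⁻¹ᵁ i.W).toScheme,
        ui = pullback.fst ((cov f hrk).f i) ((cov f hrk).f j) x := ⟨_, rfl⟩
    obtain ⟨uj, huj⟩ : ∃ uj : (f ⁻¹ᵁ j.W).toScheme,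
        uj = pullback.snd ((cov f hrk).f i) ((cov f hrk).f j) x := ⟨_, rfl⟩
    have hij' : ui.1 = uj.1 := by
      rw [hui, huj]
      exact hx
    obtain ⟨r, s, hrs, hmem⟩ := exists_basicOpen_le_affine_inter i.h.1 j.h.1 (f ui.1)
      ⟨ui.2, hij' ▸ uj.2⟩
    have hli : (⟨Y.basicOpen r, fam_basicOpen f i r⟩ : Idx f) ≤ i := rel_basicOpen f i r
    have hlj : (⟨Y.basicOpen r, fam_basicOpen f i r⟩ : Idx f) ≤ j := by
      have h := rel_basicOpen f j s
      have e : (⟨Y.basicOpen s, fam_basicOpen f j s⟩ : Idx f) =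
          ⟨Y.basicOpen r, fam_basicOpen f i r⟩ := Idx.ext hrs.symm
      rwa [e] at h
    refine ⟨⟨Y.basicOpen r, fam_basicOpen f i r⟩, homOfLE hli, homOfLE hlj, ⟨ui.1, hmem⟩, ?_⟩
    apply (pullback.fst ((cov f hrk).f i) ((cov f hrk).f j) ≫
      (cov f hrk).f i).isOpenEmbedding.injective
    rw [← Scheme.Hom.comp_apply, pullback.lift_fst_assoc,
      Scheme.Hom.comp_apply (pullback.fst _ _), ← hui]
    show (X.homOfLE _ ≫ (f ⁻¹ᵁ i.W).ι) _ = _
    rw [Scheme.homOfLE_ι]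
    rfl

/-- the glued involution -/
noncomputable def sigma0 : X ⟶ X :=
  (cov f hrk).glueMorphismsOfLocallyDirected (fun i => mW f i)
    (fun {_ _} hij => mW_compat f (leOfHom hij))

theorem ι_sigma0 (i : Idx f) : (f ⁻¹ᵁ i.W).ι ≫ sigma0 f hrk = mW f i :=
  (cov f hrk).map_glueMorphismsOfLocallyDirected (fun i => mW f i)
    (fun {_ _} hij => mW_compat f (leOfHom hij)) i

theorem fromSpec_sigma0 (i : Idx f) :
    (hU f i).fromSpec ≫ sigma0 f hrk = Spec.map (tauW f i) ≫ (hU f i).fromSpec := by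
  show ((hU f i).isoSpec.inv ≫ (f ⁻¹ᵁ i.W).ι) ≫ sigma0 f hrk = _
  rw [Category.assoc, ι_sigma0, mW, Iso.inv_hom_id_assoc]

theorem fromSpec_f {W : Y.Opens} (hW : IsAffineOpen W) (hUW : IsAffineOpen (f ⁻¹ᵁ W)) :
    hUW.fromSpec ≫ f = Spec.map (f.app W) ≫ hW.fromSpec := by
  rw [Scheme.Hom.app_eq_appLE, IsAffineOpen.SpecMap_appLE_fromSpec]

theorem ι_sigma0_f (i : Idx f) :
    (f ⁻¹ᵁ i.W).ι ≫ sigma0 f hrk ≫ f = (f ⁻¹ᵁ i.W).ι ≫ f := by
  have hcomm : (hU f i).fromSpec ≫ f = Spec.map (f.app i.W) ≫ i.h.1.fromSpec :=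
    fromSpec_f f i.h.1 (hU f i)
  rw [← Category.assoc, ι_sigma0, mW, Category.assoc, Category.assoc, hcomm,
    ← Category.assoc (Spec.map _), ← Spec.map_comp, app_tauW, ← hcomm, ← Category.assoc,
    isoSpec_hom_fromSpec]

theorem sigma0_f : sigma0 f hrk ≫ f = f := by
  apply (cov f hrk).hom_ext
  intro i
  exact ι_sigma0_f f hrk i

theorem ι_sigma0_sigma0 (i : Idx f) :
    (f ⁻¹ᵁ i.W).ι ≫ sigma0 f hrk ≫ sigma0 f hrk = (f ⁻¹ᵁ i.W).ι ≫ 𝟙 X := by
  rw [← Category.assoc, ι_sigma0, mW, Category.assoc, Category.assoc, fromSpec_sigma0,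
    ← Category.assoc (Spec.map _), ← Spec.map_comp, tauW_tauW, Spec.map_id, Category.id_comp,
    isoSpec_hom_fromSpec, Category.comp_id]

theorem sigma0_sigma0 : sigma0 f hrk ≫ sigma0 f hrk = 𝟙 X := by
  apply (cov f hrk).hom_ext
  intro i
  exact ι_sigma0_sigma0 f hrk i

theorem appLE_sigma0 (i : Idx f) (e : f ⁻¹ᵁ i.W ≤ (sigma0 f hrk) ⁻¹ᵁ (f ⁻¹ᵁ i.W)) :
    (sigma0 f hrk).appLE (f ⁻¹ᵁ i.W) (f ⁻¹ᵁ i.W) e = tauW f i := by
  have h1 := IsAffineOpen.SpecMap_appLE_fromSpec (sigma0 f hrk) (hU f i) (hU f i) e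
  rw [fromSpec_sigma0] at h1
  exact Spec.map_injective ((cancel_mono (hU f i).fromSpec).mp h1)

/-- the involution as an automorphism -/
noncomputable def sigma : Aut X where
  hom := sigma0 f hrk
  inv := sigma0 f hrk
  hom_inv_id := sigma0_sigma0 f hrk
  inv_hom_id := sigma0_sigma0 f hrk

theorem sigma_mul : sigma f hrk * sigma f hrk = 1 := by
  apply Iso.ext
  exact sigma0_sigma0 f hrk

theorem hinv_zpowers (g : Subgroup.zpowers (sigma f hrk)) :
    ((Subgroup.zpowers (sigma f hrk)).subtype g).hom ≫ f = f := by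
  let H : Subgroup (Aut X) :=
    { carrier := {τ | τ.hom ≫ f = f}
      mul_mem' := fun {a b} (ha : a.hom ≫ f = f) (hb : b.hom ≫ f = f) => by
        show (a * b).hom ≫ f = f
        have : (a * b).hom = b.hom ≫ a.hom := rfl
        rw [this, Category.assoc, ha, hb]
      one_mem' := by
        show (1 : Aut X).hom ≫ f = f
        exact Category.id_comp f
      inv_mem' := fun {a} (ha : a.hom ≫ f = f) => by
        show a⁻¹.hom ≫ f = f
        have : a⁻¹.hom = a.inv := rfl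
        rw [this, Iso.inv_comp_eq]
        exact ha.symm }
  have hle : Subgroup.zpowers (sigma f hrk) ≤ H := by
    rw [Subgroup.zpowers_le]
    exact sigma0_f f hrk
  exact hle g.2

include hrk in
theorem main (h2 : IsUnit (2 : Γ(Y, ⊤))) :
    ∃ σ : Aut X, σ.hom ≫ f = f ∧ σ * σ = 1 ∧
      SGA1.IsQuot (Subgroup.zpowers σ).subtype f := by
  refine ⟨sigma f hrk, sigma0_f f hrk, sigma_mul f hrk, ?_⟩
  have hinv : ∀ g : Subgroup.zpowers (sigma f hrk),
      ((Subgroup.zpowers (sigma f hrk)).subtype g).hom ≫ f = f := hinv_zpowers f hrk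
  refine GQuot6.isQuot_of_qprop _ f hinv inferInstance (fun U => ?_)
  refine GQuot6.qprop_of_basis _ f hinv {W | Fam f W} ?_ ?_ U
  · rw [Opens.isBasis_iff_nbhd]
    intro O y hy
    obtain ⟨W, hW, hyW, hWO⟩ := exists_fam f hrk y O hy
    exact ⟨W, hW, hyW, hWO⟩
  · intro W hW
    refine ⟨injective_of_rbasis _ hW.2.some, fun s hs => ?_⟩
    have hs1 := hs ⟨sigma f hrk, Subgroup.mem_zpowers _⟩
    have hs2 : (tauW f ⟨W, hW⟩).hom s = s := by
      have e := appLE_sigma0 f hrk ⟨W, hW⟩ (SGA1.preimage_le_of_inv _ f hinv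
        ⟨sigma f hrk, Subgroup.mem_zpowers _⟩ W)
      rw [← e]
      exact hs1
    have h2W : IsUnit (2 : Γ(Y, W)) := by
      have := h2.map (Y.presheaf.map (homOfLE (le_top : W ≤ ⊤)).op).hom
      rwa [map_ofNat] at this
    exact mem_range_of_tauR_eq (f.app W).hom h2W s hs2

end Groth.Agent.Helper3.DblInv
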