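import Mathlib
import Groth.Agent.Lib.Helper20.IndecSub2
import Groth.Agent.Lib.Helper24.PtSky
import Groth.Agent.Lib.Helper24.P1Hyp
import Groth.Agent.Lib.Helper26.HomGlob
import Groth.Agent.Lib.Helper13.LocalLift
import Groth.Agent.Lib.Helper13.GenLocusQcqs
import Groth.Agent.Lib.Helper3.GapCount
import Groth.Agent.Lib.Helper3.CurveHopf2
import Groth.Agent.S0020

/-!
# Invertible modules with one section on a smooth proper curve (helper3)

Twisting down by closed points: good points (where `h⁰` drops) exist as soon as `H⁰ ≠ 0`; this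
gives, from degree `2g - 1`, an invertible module of degree `g` with `h⁰ = 1`, `h¹ = 0`.
-/

set_option autoImplicit false
set_option maxHeartbeats 1600000
set_option linter.style.haveILetI false
set_option linter.unusedSectionVars false
set_option linter.unusedVariables false
universe u
open CategoryTheory CategoryTheory.Limits AlgebraicGeometry Opposite TopologicalSpace
open Groth.Agent.Helper20.RankFn Groth.Agent.Helper13 Groth.Agent.Helper13.TwistSES
open Groth.Agent.Helper13.QCoh Groth.Agent.Helper13.FinType Groth.Agent.Helper13.LocFree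
open Groth.Agent.Helper20.VBMap Groth.Agent.Helper20.Untwist Groth.Agent.Helper20.StablePair
open Groth.Agent.Helper13.PnFin Groth.Agent.Helper24.LinLES
open Groth.Agent.Helper24

namespace Groth.Agent.Helper3.DegSection

section Basic

variable {X : Scheme.{u}}

/-- the morphism attached to the zero section is zero. -/
theorem homOfSec_zero (M : X.Modules) : homOfSec M (0 : Γ(M, ⊤)) = 0 := by
  have h := Groth.Agent.Helper3.CurveHopf.homOfSec_add M 0 0
  rw [add_zero] at h
  exact left_eq_add.1 h

/-- a morphism out of the structure sheaf whose global section vanishes is zero. -/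
theorem hom_eq_zero_of_sec {M : X.Modules} (φ : Coh.structureModule X ⟶ M)
    (h : Groth.Agent.Helper13.GenLoc.sec M φ = 0) : φ = 0 := by
  rw [← Groth.Agent.Helper13.GenLoc.homOfSec_sec M φ, h, homOfSec_zero]

/-- a nonzero morphism `O ⟶ M` gives a nontrivial `H⁰`. -/
theorem nontrivial_H0_of_hom {M : X.Modules} (φ : Coh.structureModule X ⟶ M) (hφ : φ ≠ 0) :
    Nontrivial (Coh.HH X M 0) := by
  refine ⟨⟨(Groth.Agent.Helper26.HomGlob.h0 M).symm (Groth.Agent.Helper13.GenLoc.sec M φ), 0, ?_⟩⟩
  intro h
  apply hφ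
  apply hom_eq_zero_of_sec
  have := congrArg (Groth.Agent.Helper26.HomGlob.h0 M) h
  rwa [AddEquiv.apply_symm_apply, map_zero] at this

end Basic

variable (k : Type u) [Field k] {X : Scheme.{u}} [X.Over (Spec (CommRingCat.of k))] [IsIntegral X]
  [IsProper (X ↘ Spec (CommRingCat.of k))] [Smooth (X ↘ Spec (CommRingCat.of k))]

/-- the ideal sheaf of a closed point on a smooth proper curve over an algebraically closed field
is invertible of degree `-1` (helper20's argument, for a given point). -/
theorem isInvertible_pointIdeal [IsAlgClosed k] (hdim : topologicalKrullDim X = 1)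
    (P : X) (hP : IsClosed ({P} : Set X)) :
    PicF.IsInvertible (ClSub.idealMod (Scheme.IdealSheafData.vanishingIdeal
      (⟨{P}, hP⟩ : TopologicalSpace.Closeds X))) ∧
    Curv2.deg k X (ClSub.idealMod (Scheme.IdealSheafData.vanishingIdeal
      (⟨{P}, hP⟩ : TopologicalSpace.Closeds X))) 1 = -1 := by
  have hN : IsLocallyNoetherian X := isLocallyNoetherian_of_proper k
  haveI : CompactSpace X :=
    QuasiCompact.compactSpace_of_compactSpace (X ↘ Spec (CommRingCat.of k))
  let I : X.IdealSheafData :=
    Scheme.IdealSheafData.vanishingIdeal (⟨{P}, hP⟩ : TopologicalSpace.Closeds X)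
  have hIc : Coh.IsCoh (ClSub.idealMod I) := Groth.Agent.Helper24.PtIdeal.isCoh_idealMod I
  haveI : Mono (ClSub.idealModι I) := inferInstanceAs (Mono (kernel.ι (ClSub.toSubscheme I)))
  have hO1 : FlatMod.IsFinLocFreeOfRank 1 (Coh.structureModule X) :=
    Groth.Agent.Helper26.IntLF.isFinLocFreeOfRank_one_of_isInvertible _
      (Groth.Agent.Helper13.Inv.isInvertible_structureModule (X := X))
  have hIf : FlatMod.IsFinLocFree (ClSub.idealMod I) :=
    isFinLocFree_of_mono (hreg_of_smooth k) hdim.le hIc (Groth.Agent.Helper20.VBIndec.isFinLocFree_of_rank 1 _ hO1)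
      (ClSub.idealModι I)
  have hη : genericPoint X ∉ (I.support : Set X) := by
    rw [Scheme.IdealSheafData.coe_support_vanishingIdeal]
    intro hmem
    have heq : genericPoint X = P := Set.mem_singleton_iff.1 hmem
    have h1 : ({P} : Set X) = Set.univ := by
      rw [← hP.closure_eq, ← heq]
      exact genericPoint_spec X
    haveI : Subsingleton X := by
      refine ⟨fun a b => ?_⟩
      have ha : a ∈ ({P} : Set X) := h1 ▸ Set.mem_univ a
      have hb : b ∈ ({P} : Set X) := h1 ▸ Set.mem_univ b
      rw [Set.mem_singleton_iff.1 ha, Set.mem_singleton_iff.1 hb]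
    have h2 := Groth.Agent.Helper24.PtIdeal.topologicalKrullDim_le_zero_of_subsingleton X
    rw [hdim] at h2
    exact lt_irrefl _ (lt_of_lt_of_le zero_lt_one h2)
  have hrk : rk (ClSub.idealMod I) (genericPoint X) = 1 :=
    Groth.Agent.Helper24.PtDeg.finrank_stalk_idealMod I _ hη
  have hI1 : FlatMod.IsFinLocFreeOfRank 1 (ClSub.idealMod I) := by
    have := isFinLocFreeOfRank_of_preconnected (ClSub.idealMod I) hIf (genericPoint X)
    rwa [hrk] at this
  exact ⟨Groth.Agent.Helper26.NefExt.isInvertible_of_rank_one _ hI1,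
    Groth.Agent.Helper24.PtDeg.deg_idealMod_point k X P hP⟩

/-- the point-twist count, with the ideal written as a vanishing ideal. -/
theorem step_van [IsAlgClosed k] (x : X) (hx : IsClosed ({x} : Set X))
    (L L' : X.Modules) (hL : PicF.IsInvertible L) (hL' : PicF.IsInvertible L')
    (eL : L ≅ CohB1.tensorMod L' (ClSub.idealMod (Scheme.IdealSheafData.vanishingIdeal
      (⟨{x}, hx⟩ : TopologicalSpace.Closeds X)))) :
    (Module.finrank k (Coh.HH X L 0) ≤ Module.finrank k (Coh.HH X L' 0) ∧
      Module.finrank k (Coh.HH X L' 0) ≤ Module.finrank k (Coh.HH X L 0) + 1) ∧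
    1 + Module.finrank k (Coh.HH X L 0) + Module.finrank k (Coh.HH X L' 1) =
      Module.finrank k (Coh.HH X L' 0) + Module.finrank k (Coh.HH X L 1) := by
  have h := Groth.Agent.Helper3.GapCount.step k X x hx L L' hL hL'
  rw [PtSky.ker_eq_vanishingIdeal x hx] at h
  exact h eL

/-- **good points**: if `H⁰(N) ≠ 0` there is a closed point `P` with
`h⁰(N ⊗ I_P) + 1 = h⁰(N)`. -/
theorem exists_good_point [IsAlgClosed k] (hdim : topologicalKrullDim X = 1)
    (N : X.Modules) (hN : PicF.IsInvertible N) (t : Coh.structureModule X ⟶ N) (ht : t ≠ 0) :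
    ∃ (P : X) (hP : IsClosed ({P} : Set X)),
      Module.finrank k (Coh.HH X (CohB1.tensorMod N (ClSub.idealMod
        (Scheme.IdealSheafData.vanishingIdeal (⟨{P}, hP⟩ : TopologicalSpace.Closeds X)))) 0) + 1 =
      Module.finrank k (Coh.HH X N 0) := by
  have hNoeth : IsLocallyNoetherian X := isLocallyNoetherian_of_proper k
  haveI := PtIdeal.isNoetherian_of_proper k X
  have hO : PicF.IsInvertible (Coh.structureModule X) :=
    Groth.Agent.Helper13.Inv.isInvertible_structureModule
  have hM : PicF.IsInvertible (CohB1.tensorMod (Coh.structureModule X) N) :=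
    Groth.Agent.Helper13.Inv.isInvertible_tensorMod _ _ hO hN
  -- the section of `O ⊗ N`
  let t' : Coh.structureModule X ⟶ CohB1.tensorMod (Coh.structureModule X) N :=
    t ≫ (Groth.Agent.Helper13.Tensor.lid N).inv
  have ht' : t' ≠ 0 := by
    intro h0
    apply ht
    have : t = t' ≫ (Groth.Agent.Helper13.Tensor.lid N).hom := by
      simp [t']
    rw [this, h0, zero_comp]
  have hTcl : IsClosed (CohB1.support (cokernel t')) :=
    Groth.Agent.S0020.result X _
      (Groth.Agent.Helper13.CurveDeg.isCoh_cokernel X _ _ hO hM t').2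
  have hη : genericPoint X ∉ CohB1.support (cokernel t') :=
    Groth.Agent.Helper13.CurveDeg.genericPoint_notMem_support_cokernel _ _ hO hM t' ht'
  haveI : JacobsonSpace X := LocallyOfFiniteType.jacobsonSpace (X ↘ Spec (CommRingCat.of k))
  obtain ⟨P, hPc, hPZ⟩ : ∃ P : X, IsClosed ({P} : Set X) ∧ P ∉ CohB1.support (cokernel t') := by
    by_contra hcon
    push Not at hcon
    have hsub : closedPoints X ⊆ CohB1.support (cokernel t') := fun x hx => hcon x hx
    have h1 := closure_minimal hsub hTcl
    rw [closure_closedPoints] at h1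
    exact hη (h1 (Set.mem_univ _))
  refine ⟨P, hPc, ?_⟩
  obtain ⟨hIinv, -⟩ := isInvertible_pointIdeal k hdim P hPc
  have hN' := (Groth.Agent.Helper20.IndecSub.tensor_invertible k hdim N _ hN hIinv).1
  have hst := step_van k P hPc _ N hN' hN (Iso.refl _)
  by_contra hne
  have heq : Module.finrank k (Coh.HH X (CohB1.tensorMod N (ClSub.idealMod
      (Scheme.IdealSheafData.vanishingIdeal (⟨{P}, hPc⟩ : TopologicalSpace.Closeds X)))) 0) =
      Module.finrank k (Coh.HH X N 0) := by
    omega
  -- now work with the kernel form of the ideal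
  revert heq
  rw [← PtSky.ker_eq_vanishingIdeal P hPc]
  intro heq
  haveI : IsClosedImmersion (X.fromSpecResidueField P) :=
    isClosed_singleton_iff_isClosedImmersion.1 hPc
  haveI hsub : Subsingleton ((X.fromSpecResidueField P).ker.subscheme) :=
    PtSky.subsingleton_image P hPc
  have z0 : Spec (X.residueField P) := (default : PrimeSpectrum (X.residueField P))
  obtain ⟨eQ⟩ := PtSky.nonempty_quot_tensor_iso (X.fromSpecResidueField P).ker
    ((X.fromSpecResidueField P).toImage z0) N hN
  have hS : (tensorSC (PtIdeal.idealSC (X.fromSpecResidueField P).ker) N).ShortExact :=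
    tensorSC_shortExact _ (PtIdeal.idealSC_shortExact _) N hN
  have hI : (((X.fromSpecResidueField P).ker).support : Set X) ⊆ {P} := by
    rw [PtSky.ker_eq_vanishingIdeal P hPc, Scheme.IdealSheafData.coe_support_vanishingIdeal]
    exact subset_rfl
  have hc1 : Coh.IsCoh (CohB1.tensorMod (ClSub.idealMod (X.fromSpecResidueField P).ker) N) :=
    PtIdeal.isCoh_tensor_invertible _ _ (PtIdeal.isCoh_idealMod _) hN
  have hc2 : Coh.IsCoh (CohB1.tensorMod (Coh.structureModule X) N) :=
    PtIdeal.isCoh_tensor_invertible _ _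
      (Groth.Agent.Helper13.CohRoof.isCoh_structureModule X) hN
  haveI f1 : Module.Finite k (Coh.HH X
      (tensorSC (PtIdeal.idealSC (X.fromSpecResidueField P).ker) N).X₁ 0) :=
    Groth.Agent.S0002.result k X _ hc1 0
  haveI f2 : Module.Finite k (Coh.HH X
      (tensorSC (PtIdeal.idealSC (X.fromSpecResidueField P).ker) N).X₂ 0) :=
    Groth.Agent.S0002.result k X _ hc2 0
  have r1 : Module.finrank k (Coh.HH X
      (tensorSC (PtIdeal.idealSC (X.fromSpecResidueField P).ker) N).X₁ 0) =
      Module.finrank k (Coh.HH X (CohB1.tensorMod N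
        (ClSub.idealMod (X.fromSpecResidueField P).ker)) 0) :=
    (PnMumford.hEquiv k (Groth.Agent.Helper13.Tensor.braid _ _) 0).finrank_eq
  have r2 : Module.finrank k (Coh.HH X
      (tensorSC (PtIdeal.idealSC (X.fromSpecResidueField P).ker) N).X₂ 0) =
      Module.finrank k (Coh.HH X N 0) :=
    (PnMumford.hEquiv k (Groth.Agent.Helper13.Tensor.lid N) 0).finrank_eq
  have r3 : Module.finrank k (Coh.HH X
      (tensorSC (PtIdeal.idealSC (X.fromSpecResidueField P).ker) N).X₃ 0) = 1 :=
    ((PnMumford.hEquiv k eQ 0).finrank_eq).trans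
      ((PtSky.finrank_H0_quotMod k X P hPc).trans (PtSky.finrank_residueField_eq_one k X P hPc))
  -- `f_*` is surjective, hence `g_* = 0`
  have hinj := LinLES.hstar_f_injective_zero k
    (tensorSC (PtIdeal.idealSC (X.fromSpecResidueField P).ker) N) hS
  have hex := LinLES.range_f_eq_ker_g k
    (tensorSC (PtIdeal.idealSC (X.fromSpecResidueField P).ker) N) hS 0
  have hrange : LinearMap.range (hstar k
      (tensorSC (PtIdeal.idealSC (X.fromSpecResidueField P).ker) N).f 0) = ⊤ := by
    apply Submodule.eq_top_of_finrank_eq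
    rw [LinearMap.finrank_range_of_inj hinj, r1, r2, heq]
  rw [hrange] at hex
  have hg0 : ∀ u, hstar k (tensorSC (PtIdeal.idealSC (X.fromSpecResidueField P).ker) N).g 0 u = 0 := by
    intro u
    have hu : u ∈ LinearMap.ker
        (hstar k (tensorSC (PtIdeal.idealSC (X.fromSpecResidueField P).ker) N).g 0) := by
      rw [← hex]
      exact Submodule.mem_top
    exact LinearMap.mem_ker.1 hu
  -- hence `t' ≫ g = 0`
  have hcomp : t' ≫ (tensorSC (PtIdeal.idealSC (X.fromSpecResidueField P).ker) N).g = 0 := by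
    have h3 := Sheaf.H.equiv₀_naturality ((SheafOfModules.toSheaf X.ringCatSheaf).map
      (tensorSC (PtIdeal.idealSC (X.fromSpecResidueField P).ker) N).g)
      (hT := (isTerminalTop : IsTerminal (⊤ : Opens X)))
      ((Groth.Agent.Helper26.HomGlob.h0 _).symm (Groth.Agent.Helper13.GenLoc.sec _ t'))
    have h5 : Groth.Agent.Helper26.HomGlob.h0 _
        (hstar k (tensorSC (PtIdeal.idealSC (X.fromSpecResidueField P).ker) N).g 0
          ((Groth.Agent.Helper26.HomGlob.h0 _).symm (Groth.Agent.Helper13.GenLoc.sec _ t'))) =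
        (tensorSC (PtIdeal.idealSC (X.fromSpecResidueField P).ker) N).g.app ⊤
          (Groth.Agent.Helper26.HomGlob.h0 _
            ((Groth.Agent.Helper26.HomGlob.h0 _).symm (Groth.Agent.Helper13.GenLoc.sec _ t'))) :=
      h3.symm
    rw [hg0, map_zero, AddEquiv.apply_symm_apply] at h5
    calc t' ≫ (tensorSC (PtIdeal.idealSC (X.fromSpecResidueField P).ker) N).g
        = homOfSec _ (Groth.Agent.Helper13.GenLoc.sec _ t') ≫
            (tensorSC (PtIdeal.idealSC (X.fromSpecResidueField P).ker) N).g := by
          rw [Groth.Agent.Helper13.GenLoc.homOfSec_sec]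
      _ = homOfSec _ ((tensorSC (PtIdeal.idealSC (X.fromSpecResidueField P).ker) N).g.app ⊤
            (Groth.Agent.Helper13.GenLoc.sec _ t')) :=
          Groth.Agent.Helper13.LocalLift.homOfSec_comp _ _
      _ = homOfSec _ 0 := by rw [← h5]
      _ = 0 := homOfSec_zero _
  -- the induced epimorphism from the cokernel of `t'`
  obtain ⟨d, hd⟩ : ∃ d : cokernel t' ⟶
      (tensorSC (PtIdeal.idealSC (X.fromSpecResidueField P).ker) N).X₃,
      cokernel.π t' ≫ d = (tensorSC (PtIdeal.idealSC (X.fromSpecResidueField P).ker) N).g :=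
    ⟨cokernel.desc t' _ hcomp, cokernel.π_desc _ _ _⟩
  haveI : Epi (cokernel.π t' ≫ d) := by
    rw [hd]
    exact hS.epi_g
  haveI : Epi d := epi_of_epi (cokernel.π t') d
  -- all stalks of `X₃` vanish
  have hstalk : ∀ x : X, Subsingleton
      ((tensorSC (PtIdeal.idealSC (X.fromSpecResidueField P).ker) N).X₃.presheaf.stalk x) := by
    intro x
    by_cases hx : x = P
    · rw [hx]
      haveI : Subsingleton ((cokernel t').presheaf.stalk P) := not_not.1 hPZ
      exact (stalkMap_surjective_of_epi d P).subsingleton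
    · by_contra hns
      have hmem : x ∈ CohB1.support (CohB1.tensorMod
          (ClSub.quotMod (X.fromSpecResidueField P).ker) N) := hns
      exact hx (Set.mem_singleton_iff.1
        (hI (PtIdeal.support_quot_tensor_subset _ N hmem)))
  have hZ : IsZero (tensorSC (PtIdeal.idealSC (X.fromSpecResidueField P).ker) N).X₃ := by
    rw [IsZero.iff_id_eq_zero]
    apply hom_ext_stalk
    intro x m
    exact @Subsingleton.elim _ (hstalk x) _ _
  haveI := Groth.Agent.Helper24.P1Hyp.subsingleton_HH_of_isZero k _ hZ 0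
  rw [Module.finrank_zero_of_subsingleton] at r3
  exact zero_ne_one r3

/-- from degree `2g - 1` down to degree `2g - 1 - j`, keeping `H¹ = 0`. -/
theorem exists_invertible_h1_zero [IsAlgClosed k] (hdim : topologicalKrullDim X = 1) (j : ℕ)
    (hj : j + 1 ≤ Curv2.genus k X) :
    ∃ N : X.Modules, PicF.IsInvertible N ∧
      Curv2.deg k X N 1 = 2 * (Curv2.genus k X : ℤ) - 1 - (j : ℤ) ∧
      Subsingleton (Coh.HH X N 1) := by
  induction j with
  | zero =>
    obtain ⟨N, hN, hd⟩ := Groth.Agent.Helper20.IndecSub.exists_invertible_of_deg k hdim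
      (2 * (Curv2.genus k X : ℤ) - 1)
    refine ⟨N, hN, by rw [hd]; simp, ?_⟩
    exact Groth.Agent.Helper3.CurveHopf.main1522 k X hdim N hN (by rw [hd])
  | succ j ih =>
    obtain ⟨N, hN, hd, h1⟩ := ih (by omega)
    have hrr := Groth.Agent.Helper3.CurveHopf.deg_eq_rr k X hdim N hN
    have hz : Module.finrank k (Coh.HH X N 1) = 0 := Module.finrank_zero_of_subsingleton
    have hpos : 0 < Module.finrank k (Coh.HH X N 0) := by
      rw [hd, hz] at hrr
      push_cast at hrr
      omega
    haveI : Nontrivial (Coh.HH X N 0) := Module.nontrivial_of_finrank_pos (R := k) hpos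
    obtain ⟨t, ht⟩ := Groth.Agent.Helper13.CurveVan.exists_hom_ne_zero N inferInstance
    obtain ⟨P, hP, hgood⟩ := exists_good_point k hdim N hN t ht
    obtain ⟨hIinv, hIdeg⟩ := isInvertible_pointIdeal k hdim P hP
    obtain ⟨hN', hd'⟩ := Groth.Agent.Helper20.IndecSub.tensor_invertible k hdim N _ hN hIinv
    have hst := (step_van k P hP _ N hN' hN (Iso.refl _)).2
    refine ⟨_, hN', by rw [hd', hd, hIdeg]; push_cast; ring, ?_⟩
    haveI : Module.Finite k (Coh.HH X (CohB1.tensorMod N (ClSub.idealMod
        (Scheme.IdealSheafData.vanishingIdeal (⟨{P}, hP⟩ : TopologicalSpace.Closeds X)))) 1) :=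
      Groth.Agent.Helper3.CurveHopf.finite_HH k X _
        (Groth.Agent.Helper13.CurveDeg.isCoh_of_isInvertible _ hN') 1
    have h0' : Module.finrank k (Coh.HH X (CohB1.tensorMod N (ClSub.idealMod
        (Scheme.IdealSheafData.vanishingIdeal (⟨{P}, hP⟩ : TopologicalSpace.Closeds X)))) 1) = 0 := by
      omega
    exact Module.finrank_zero_iff.1 h0'

/-- S14152 modulo the vanishing-point lemma `hVP`. -/
theorem main14152 [IsAlgClosed k] (hdim : topologicalKrullDim X = 1)
    (hg1 : 1 ≤ Curv2.genus k X)
    (hVP : ∀ (Q : X.Modules), PicF.IsInvertible Q → ∀ t : Coh.structureModule X ⟶ Q, t ≠ 0 →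
      ¬ IsIso t → ∃ (P : X) (hP : IsClosed ({P} : Set X))
        (tP : Coh.structureModule X ⟶ CohB1.tensorMod (ClSub.idealMod
          (Scheme.IdealSheafData.vanishingIdeal ⟨{P}, hP⟩)) Q),
        tP ≫ Groth.Agent.Helper13.Tensor.map (ClSub.idealModι
          (Scheme.IdealSheafData.vanishingIdeal ⟨{P}, hP⟩)) (𝟙 Q) ≫
          (Groth.Agent.Helper13.Tensor.lid Q).hom = t)
    (m : ℕ) (hm : m ≤ Curv2.genus k X) :
    ∃ L : X.Modules, PicF.IsInvertible L ∧
      Curv2.deg k X L 1 = (Curv2.genus k X : ℤ) - (m : ℤ) ∧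
      Module.finrank k (Coh.HH X L 0) = 1 := by
  induction m with
  | zero =>
    obtain ⟨N, hN, hd, h1⟩ := exists_invertible_h1_zero k hdim (Curv2.genus k X - 1) (by omega)
    have hrr := Groth.Agent.Helper3.CurveHopf.deg_eq_rr k X hdim N hN
    have hz : Module.finrank k (Coh.HH X N 1) = 0 := Module.finrank_zero_of_subsingleton
    have hcast : ((Curv2.genus k X - 1 : ℕ) : ℤ) = (Curv2.genus k X : ℤ) - 1 := by
      rw [Nat.cast_sub hg1]
      simp
    refine ⟨N, hN, by rw [hd, hcast, Nat.cast_zero]; ring, ?_⟩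
    rw [hd, hz, hcast] at hrr
    push_cast at hrr
    omega
  | succ m ih =>
    obtain ⟨L, hL, hd, h0⟩ := ih (by omega)
    have hOc := Groth.Agent.Helper13.CohRoof.isCoh_structureModule X
    haveI : Nontrivial (Coh.HH X L 0) :=
      Module.nontrivial_of_finrank_pos (R := k) (by rw [h0]; exact Nat.one_pos)
    obtain ⟨t, ht⟩ := Groth.Agent.Helper13.CurveVan.exists_hom_ne_zero L inferInstance
    have hni : ¬ IsIso t := by
      intro hiso
      haveI := hiso
      have e0' := (PnMumford.hEquiv k (asIso t) 0).finrank_eq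
      have e1' := (PnMumford.hEquiv k (asIso t) 1).finrank_eq
      have hrrL := Groth.Agent.Helper3.CurveHopf.deg_eq_rr k X hdim L hL
      have hrrO := Groth.Agent.Helper3.CurveHopf.deg_eq_rr k X hdim (Coh.structureModule X)
        Groth.Agent.Helper13.Inv.isInvertible_structureModule
      have hdO := Groth.Agent.Helper13.CurveDeg.deg_structureModule k X
      rw [hdO] at hrrO
      rw [hd, ← e0', ← e1'] at hrrL
      omega
    obtain ⟨P, hP, tP, htP⟩ := hVP L hL t ht hni
    obtain ⟨hIinv, hIdeg⟩ := isInvertible_pointIdeal k hdim P hP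
    obtain ⟨hL', hd'⟩ := Groth.Agent.Helper20.IndecSub.tensor_invertible k hdim _ L hIinv hL
    have htP0 : tP ≠ 0 := by
      intro h
      rw [h, zero_comp] at htP
      exact ht htP.symm
    haveI := nontrivial_H0_of_hom tP htP0
    haveI : Module.Finite k (Coh.HH X (CohB1.tensorMod (ClSub.idealMod
        (Scheme.IdealSheafData.vanishingIdeal (⟨{P}, hP⟩ : TopologicalSpace.Closeds X))) L) 0) :=
      Groth.Agent.Helper3.CurveHopf.finite_HH k X _
        (Groth.Agent.Helper13.CurveDeg.isCoh_of_isInvertible _ hL') 0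
    have hpos : 0 < Module.finrank k (Coh.HH X (CohB1.tensorMod (ClSub.idealMod
        (Scheme.IdealSheafData.vanishingIdeal (⟨{P}, hP⟩ : TopologicalSpace.Closeds X))) L) 0) :=
      Module.finrank_pos
    have hst := (step_van k P hP _ L hL' hL (Groth.Agent.Helper13.Tensor.braid _ _)).1.1
    refine ⟨_, hL', by rw [hd', hd, hIdeg]; push_cast; ring, ?_⟩
    omega

end Groth.Agent.Helper3.DegSection
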