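import Mathlib
import Groth.Agent.Lib.Helper3.RegSpread

universe u

open CategoryTheory CategoryTheory.Limits AlgebraicGeometry TopologicalSpace

namespace Groth.Agent.Helper3.DimOneAffine

/-- Ring-level key lemma. -/
theorem ring_key {A : Type*} [CommRing A] (p : Ideal A) [p.IsPrime] (S : Type*) [CommRing S]
    [Algebra A S] [IsLocalization.AtPrime S p] [IsNoetherianRing S] (hdim : ringKrullDim S ≤ 1)
    (I : Ideal A) (hI : I.FG) (hIp : I ≤ p) :
    ∃ f ∈ I, ∃ g ∉ p, ∃ N : ℕ, ∀ a ∈ I, g * a ^ N ∈ Ideal.span {f} := by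
  classical
  have hloc : IsLocalRing S := IsLocalization.AtPrime.isLocalRing S p
  have hdim' : Ring.KrullDimLE 1 S := Ring.krullDimLE_iff.mpr hdim
  -- the finite set of minimal primes of S not containing I S
  have hfin : (minimalPrimes S).Finite := minimalPrimes.finite_of_isNoetherianRing S
  let P : Finset (Ideal S) := hfin.toFinset.filter fun q => ¬ I.map (algebraMap A S) ≤ q
  have hP : ∀ q ∈ P, q ∈ minimalPrimes S ∧ ¬ I.map (algebraMap A S) ≤ q := by
    intro q hq
    simpa [P] using hq
  -- prime avoidance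
  have havoid : ¬ ((I : Set A) ⊆ ⋃ q ∈ (P : Set (Ideal S)), (q.comap (algebraMap A S) : Set A)) := by
    intro hsub
    rw [Ideal.subset_union_prime (R := A) (s := P) (f := fun q => q.comap (algebraMap A S))
      (Classical.arbitrary _) (Classical.arbitrary _)
      (fun q hq _ _ => Ideal.comap_isPrime _ _ (H := (hP q hq).1.1.1))] at hsub
    obtain ⟨q, hq, hle⟩ := hsub
    exact (hP q hq).2 (Ideal.map_le_iff_le_comap.mpr hle)
  obtain ⟨f, hfI, hfP⟩ := Set.not_subset.mp havoid
  have hfP' : ∀ q ∈ P, algebraMap A S f ∉ q := by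
    intro q hq hmem
    apply hfP
    simp only [Set.mem_iUnion]
    exact ⟨q, hq, hmem⟩
  refine ⟨f, hfI, ?_⟩
  -- I S ≤ radical (f S)
  have hrad : I.map (algebraMap A S) ≤ (Ideal.span {algebraMap A S f}).radical := by
    rw [Ideal.radical_eq_sInf]
    refine le_sInf ?_
    rintro Q ⟨hfQ, hQ⟩
    by_contra hnot
    have hfQ' : algebraMap A S f ∈ Q := hfQ (Ideal.subset_span rfl)
    -- Q is not maximal
    have hQmax : ¬ Q.IsMaximal := by
      intro hmax
      apply hnot
      have : Q = IsLocalRing.maximalIdeal S := IsLocalRing.eq_maximalIdeal hmax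
      rw [this, Ideal.map_le_iff_le_comap]
      intro a ha
      rw [Ideal.mem_comap]
      exact (IsLocalization.AtPrime.to_map_mem_maximal_iff S p a).mpr (hIp ha)
    have hQmin : Q ∈ minimalPrimes S :=
      ((Ring.krullDimLE_one_iff.mp hdim') Q hQ).resolve_right hQmax
    have hQP : Q ∈ P := by
      simp only [P, Finset.mem_filter, Set.Finite.mem_toFinset]
      exact ⟨hQmin, hnot⟩
    exact hfP' Q hQP hfQ'
  obtain ⟨N, hN⟩ := Ideal.exists_pow_le_of_le_radical_of_fg hrad (hI.map _)
  have hN' : (I ^ N).map (algebraMap A S) ≤ (Ideal.span {f}).map (algebraMap A S) := by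
    rw [Ideal.map_pow, Ideal.map_span, Set.image_singleton]
    exact hN
  obtain ⟨g, hg, hgI⟩ := RegSpread.exists_of_map_le (S := S) p (I ^ N) (Ideal.span {f})
    (hI.pow) hN'
  exact ⟨g, hg, N, fun a ha => hgI _ (Ideal.pow_mem_pow ha N)⟩

lemma mem_basicOpen_iff (X : Scheme.{u}) [IsAffine X] (z : X) (a : Γ(X, ⊤)) :
    z ∈ X.basicOpen a ↔ a ∉ ((isAffineOpen_top X).primeIdealOf ⟨z, trivial⟩).asIdeal := by
  let _ := X.presheaf.algebra_section_stalk (U := ⊤) ⟨z, trivial⟩
  have hloc := (isAffineOpen_top X).isLocalization_stalk ⟨z, trivial⟩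
  rw [Scheme.mem_basicOpen X a z trivial]
  exact IsLocalization.AtPrime.isUnit_to_map_iff (X.presheaf.stalk z)
    ((isAffineOpen_top X).primeIdealOf ⟨z, trivial⟩).asIdeal a

theorem main (X : Scheme.{u}) [IsAffine X]
    (hX : ∀ x : X, IsNoetherianRing (X.presheaf.stalk x) ∧ ringKrullDim (X.presheaf.stalk x) ≤ 1)
    (U : X.Opens) (hU : IsCompact (U : Set X)) : IsAffineOpen U := by
  classical
  have htop := isAffineOpen_top X
  obtain ⟨s, hsfin, hUs⟩ := ((isBasis_basicOpen X).isCompact_open_iff_eq_finite_iUnion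
    (X.basicOpen : Γ(X, ⊤) → X.Opens) (fun a => (htop.basicOpen a).isCompact) (U : Set X)).mp
    ⟨hU, U.2⟩
  have hmemU : ∀ y : X, y ∈ U ↔ ∃ a ∈ s, y ∈ X.basicOpen a := by
    intro y
    rw [← SetLike.mem_coe, hUs]
    simp
  -- local statement
  have hloc : ∀ z : X, ∃ g : Γ(X, ⊤), z ∈ X.basicOpen g ∧ IsAffineOpen (U ⊓ X.basicOpen g) := by
    intro z
    by_cases hz : z ∈ U
    · obtain ⟨a, has, hza⟩ := (hmemU z).mp hz
      refine ⟨a, hza, ?_⟩
      have : U ⊓ X.basicOpen a = X.basicOpen a := by
        apply inf_eq_right.mpr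
        intro y hy
        exact (hmemU y).mpr ⟨a, has, hy⟩
      rw [this]
      exact htop.basicOpen a
    · let _ := X.presheaf.algebra_section_stalk (U := ⊤) ⟨z, trivial⟩
      have hlocz := htop.isLocalization_stalk ⟨z, trivial⟩
      have hnoeth := (hX z).1
      have hIp : Ideal.span s ≤ (htop.primeIdealOf ⟨z, trivial⟩).asIdeal := by
        rw [Ideal.span_le]
        intro a has
        by_contra hna
        exact hz ((hmemU z).mpr ⟨a, has, (mem_basicOpen_iff X z a).mpr hna⟩)
      obtain ⟨f, hfI, g, hg, N, hN⟩ := ring_key (htop.primeIdealOf ⟨z, trivial⟩).asIdeal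
        (X.presheaf.stalk z) (hX z).2 (Ideal.span s) ⟨hsfin.toFinset, by simp⟩ hIp
      refine ⟨g, (mem_basicOpen_iff X z g).mpr hg, ?_⟩
      have : U ⊓ X.basicOpen g = X.basicOpen (f * g) := by
        ext y
        simp only [Opens.coe_inf, Set.mem_inter_iff, SetLike.mem_coe]
        rw [hmemU y, mem_basicOpen_iff X y g, mem_basicOpen_iff X y (f * g)]
        have hprime : ((htop.primeIdealOf ⟨y, trivial⟩).asIdeal).IsPrime := inferInstance
        constructor
        · rintro ⟨⟨a, has, hya⟩, hyg⟩ hfg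
          rw [mem_basicOpen_iff] at hya
          have h1 := hN a (Ideal.subset_span has)
          obtain ⟨c, hc⟩ := Ideal.mem_span_singleton'.mp h1
          rcases hprime.mem_or_mem hfg with hf | hg'
          · have : g * a ^ N ∈ (htop.primeIdealOf ⟨y, trivial⟩).asIdeal := by
              rw [← hc]; exact Ideal.mul_mem_left _ _ hf
            rcases hprime.mem_or_mem this with h | h
            · exact hyg h
            · exact hya (hprime.mem_of_pow_mem N h)
          · exact hyg hg'
        · intro hfg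
          have hf : f ∉ (htop.primeIdealOf ⟨y, trivial⟩).asIdeal :=
            fun h => hfg (Ideal.mul_mem_right _ _ h)
          have hg' : g ∉ (htop.primeIdealOf ⟨y, trivial⟩).asIdeal :=
            fun h => hfg (Ideal.mul_mem_left _ _ h)
          refine ⟨?_, hg'⟩
          by_contra hall
          push Not at hall
          apply hf
          have : Ideal.span s ≤ (htop.primeIdealOf ⟨y, trivial⟩).asIdeal := by
            rw [Ideal.span_le]
            intro a has
            by_contra hna
            exact hall a has ((mem_basicOpen_iff X y a).mpr hna)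
          exact this hfI
      rw [this]
      exact htop.basicOpen _
  choose g hg1 hg2 using hloc
  have hspan : Ideal.span (Set.range g) = ⊤ := by
    rw [← htop.self_le_iSup_basicOpen_iff]
    intro y _
    rw [Opens.mem_iSup]
    exact ⟨⟨g y, y, rfl⟩, hg1 y⟩
  apply isAffineOpen_of_isAffineOpen_basicOpen U
    ((X.presheaf.map (homOfLE (le_top : U ≤ ⊤)).op).hom '' Set.range g)
  · rw [← Ideal.map_span, hspan, Ideal.map_top]
  · rintro _ ⟨_, ⟨y, rfl⟩, rfl⟩
    rw [Scheme.basicOpen_res]
    exact hg2 y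

end Groth.Agent.Helper3.DimOneAffine
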