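import Mathlib

universe u

namespace Groth.Agent.Helper3.DirLimMin

/-- Going down: contraction of a minimal prime is a minimal prime. -/
lemma comap_mem_minimalPrimes {A S : Type*} [CommRing A] [CommRing S] [Algebra A S]
    [Algebra.HasGoingDown A S] (q : Ideal S) (hq : q ∈ minimalPrimes S) :
    q.comap (algebraMap A S) ∈ minimalPrimes A := by
  have hqp : q.IsPrime := hq.1.1
  refine ⟨⟨Ideal.comap_isPrime _ q, bot_le⟩, ?_⟩
  rintro p' ⟨hp', -⟩ hle
  have : q.LiesOver (q.comap (algebraMap A S)) := ⟨rfl⟩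
  obtain ⟨Q, hQq, hQ, hQl⟩ := Ideal.exists_ideal_le_liesOver_of_le (p := p')
    (q := q.comap (algebraMap A S)) q hle
  have h1 : q ≤ Q := hq.2 ⟨hQ, bot_le⟩ hQq
  have h2 : Q = q := le_antisymm hQq h1
  rw [← h2]
  exact (hQl.over).ge

/-- Injective ring maps: minimal primes are contractions of minimal primes. -/
lemma encard_minimalPrimes_le_of_injective {A S : Type*} [CommRing A] [CommRing S] (φ : A →+* S)
    (hφ : Function.Injective φ) : (minimalPrimes A).encard ≤ (minimalPrimes S).encard := by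
  have h1 : minimalPrimes A ⊆ Ideal.comap φ '' minimalPrimes S := by
    have := Ideal.minimalPrimes_comap_subset φ ⊥
    rwa [← RingHom.ker_eq_comap_bot, (RingHom.injective_iff_ker_eq_bot φ).mp hφ] at this
  exact (Set.encard_le_encard h1).trans (Set.encard_image_le _ _)

section DirLim

variable {ι : Type u} [Preorder ι] [IsDirected ι (· ≤ ·)] [Nonempty ι] (G : ι → Type u)
  [∀ i, CommRing (G i)] (f : ∀ i j, i ≤ j → G i →+* G j) [DirectedSystem G fun i j h => f i j h]

lemma lift_fin (i : ι) (l : ℕ) (x : Fin l → Ring.DirectLimit G fun i j h => ⇑(f i j h)) :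
    ∃ j, ∃ (_ : i ≤ j) (x' : Fin l → G j),
      ∀ k, Ring.DirectLimit.of G (fun i j h => ⇑(f i j h)) j (x' k) = x k := by
  choose ik xk hk using fun k => Ring.DirectLimit.exists_of (x k)
  obtain ⟨M, hM⟩ := Finite.exists_le ik
  obtain ⟨j, hij, hMj⟩ := exists_ge_ge i M
  refine ⟨j, hij, fun k => f (ik k) j ((hM k).trans hMj) (xk k), fun k => ?_⟩
  rw [← hk k]
  exact Ring.DirectLimit.of_f (f := fun i j h => ⇑(f i j h)) ((hM k).trans hMj) (xk k)

lemma flat_of (hinj : ∀ i j h, Function.Injective (f i j h))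
    (hflat : ∀ i j (h : i ≤ j), letI := (f i j h).toAlgebra; Module.Flat (G i) (G j)) (i : ι) :
    letI := (Ring.DirectLimit.of G (fun i j h => ⇑(f i j h)) i).toAlgebra
    Module.Flat (G i) (Ring.DirectLimit G fun i j h => ⇑(f i j h)) := by
  let _ := (Ring.DirectLimit.of G (fun i j h => ⇑(f i j h)) i).toAlgebra
  rw [Module.Flat.iff_forall_isTrivialRelation]
  intro l c x hx
  obtain ⟨j, hij, x', hx'⟩ := lift_fin G f i l x
  let _ := (f i j hij).toAlgebra
  have hflat' : Module.Flat (G i) (G j) := hflat i j hij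
  have hofinj := Ring.DirectLimit.of_injective (G := G) f hinj j
  have hrel : ∑ k, c k • x' k = 0 := by
    apply hofinj
    rw [map_sum, map_zero, ← hx]
    refine Finset.sum_congr rfl fun k _ => ?_
    rw [Algebra.smul_def, Algebra.smul_def, map_mul, hx' k]
    congr 1
    exact Ring.DirectLimit.of_f (f := fun i j h => ⇑(f i j h)) hij (c k)
  obtain ⟨K, a, y, hxy, hca⟩ := Module.Flat.isTrivialRelation_of_sum_smul_eq_zero
    (R := G i) (M := G j) (f := c) (x := x') hrel
  refine ⟨K, a, fun t => Ring.DirectLimit.of G (fun i j h => ⇑(f i j h)) j (y t), fun k => ?_, hca⟩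
  rw [← hx' k, hxy k, map_sum]
  refine Finset.sum_congr rfl fun t _ => ?_
  rw [Algebra.smul_def, Algebra.smul_def, map_mul]
  congr 1
  exact Ring.DirectLimit.of_f (f := fun i j h => ⇑(f i j h)) hij (a k t)

lemma exists_separating
    (q q' : Ideal (Ring.DirectLimit G fun i j h => ⇑(f i j h)))
    (hq : q.IsPrime) (hq' : q' ∈ minimalPrimes (Ring.DirectLimit G fun i j h => ⇑(f i j h)))
    (hne : q ≠ q') :
    ∃ j₀, ∀ j, j₀ ≤ j → q.comap (Ring.DirectLimit.of G (fun i j h => ⇑(f i j h)) j) ≠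
      q'.comap (Ring.DirectLimit.of G (fun i j h => ⇑(f i j h)) j) := by
  have hnle : ¬ q ≤ q' := fun hle => hne (le_antisymm hle (hq'.2 ⟨hq, bot_le⟩ hle))
  obtain ⟨x, hxq, hxq'⟩ := Set.not_subset.mp hnle
  obtain ⟨j₀, x', rfl⟩ := Ring.DirectLimit.exists_of x
  refine ⟨j₀, fun j hj heq => hxq' ?_⟩
  have h1 : f j₀ j hj x' ∈ q.comap (Ring.DirectLimit.of G (fun i j h => ⇑(f i j h)) j) := by
    rw [Ideal.mem_comap]
    have := Ring.DirectLimit.of_f (f := fun i j h => ⇑(f i j h)) hj x'
    rw [this]; exact hxq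
  rw [heq, Ideal.mem_comap] at h1
  have := Ring.DirectLimit.of_f (f := fun i j h => ⇑(f i j h)) hj x'
  rw [this] at h1
  exact h1

lemma upper (hinj : ∀ i j h, Function.Injective (f i j h))
    (hflat : ∀ i j (h : i ≤ j), letI := (f i j h).toAlgebra; Module.Flat (G i) (G j))
    (t : Set (Ideal (Ring.DirectLimit G fun i j h => ⇑(f i j h))))
    (ht : t ⊆ minimalPrimes (Ring.DirectLimit G fun i j h => ⇑(f i j h))) (hfin : t.Finite) :
    ∃ j, t.encard ≤ (minimalPrimes (G j)).encard := by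
  classical
  have hex : ∀ p : t × t, ∃ j₀, p.1.1 ≠ p.2.1 → ∀ j, j₀ ≤ j →
      p.1.1.comap (Ring.DirectLimit.of G (fun i j h => ⇑(f i j h)) j) ≠
      p.2.1.comap (Ring.DirectLimit.of G (fun i j h => ⇑(f i j h)) j) := by
    intro p
    by_cases hne : p.1.1 = p.2.1
    · exact ⟨Classical.arbitrary ι, fun h => absurd hne h⟩
    · obtain ⟨j₀, hj₀⟩ := exists_separating G f p.1.1 p.2.1 (ht p.1.2).1.1 (ht p.2.2) hne
      exact ⟨j₀, fun _ => hj₀⟩
  choose J hJ using hex
  have : Finite t := hfin.to_subtype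
  obtain ⟨M, hM⟩ := Finite.exists_le J
  refine ⟨M, ?_⟩
  let _ := (Ring.DirectLimit.of G (fun i j h => ⇑(f i j h)) M).toAlgebra
  have hfl : Module.Flat (G M) (Ring.DirectLimit G fun i j h => ⇑(f i j h)) :=
    flat_of G f hinj hflat M
  refine Set.encard_le_encard_of_injOn
    (f := Ideal.comap (Ring.DirectLimit.of G (fun i j h => ⇑(f i j h)) M)) ?_ ?_
  · intro q hq
    exact comap_mem_minimalPrimes (A := G M) q (ht hq)
  · intro q hq q' hq' heq
    by_contra hne
    exact hJ ⟨⟨q, hq⟩, ⟨q', hq'⟩⟩ hne M (hM _) heq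

theorem main (hf : ∀ i j (h : i ≤ j), letI := (f i j h).toAlgebra
      Module.FaithfullyFlat (G i) (G j)) :
    (minimalPrimes (Ring.DirectLimit G fun i j h => ⇑(f i j h))).encard =
      ⨆ i, (minimalPrimes (G i)).encard := by
  have hinj : ∀ i j h, Function.Injective (f i j h) := by
    intro i j h
    let _ := (f i j h).toAlgebra
    have := hf i j h
    exact FaithfulSMul.algebraMap_injective (G i) (G j)
  have hflat : ∀ i j (h : i ≤ j), letI := (f i j h).toAlgebra; Module.Flat (G i) (G j) := by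
    intro i j h
    let _ := (f i j h).toAlgebra
    have := hf i j h
    infer_instance
  apply le_antisymm
  · rw [← ENat.forall_natCast_le_iff_le]
    intro n hn
    obtain ⟨t, hts, htn⟩ := Set.exists_subset_encard_eq hn
    obtain ⟨j, hj⟩ := upper G f hinj hflat t hts (Set.finite_of_encard_eq_coe htn)
    rw [← htn]
    exact hj.trans (le_iSup (fun i => (minimalPrimes (G i)).encard) j)
  · refine iSup_le fun i => ?_
    exact encard_minimalPrimes_le_of_injective _ (Ring.DirectLimit.of_injective (G := G) f hinj i)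

end DirLim

end Groth.Agent.Helper3.DirLimMin
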