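import Mathlib
import Groth.Prelude.Def_Grpd
import Groth.Prelude.Def_AlgSp

/-!
# The groupoid scheme of an equivalence relation (helper3)

An equivalence relation `s, t : R ⟶ U` over `S` (in the sense of `AlgSp.IsEqvRel`) carries a unique
structure of groupoid scheme.
-/

set_option autoImplicit false
set_option linter.style.haveILetI false
set_option linter.unusedSectionVars false
universe u

open CategoryTheory CategoryTheory.Limits AlgebraicGeometry
open Grpd

namespace Groth.Agent.Helper3.ER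

variable {S : Scheme.{u}} {R U : Over S} {s t : R ⟶ U}

theorem hom_ext (h : AlgSp.IsEqvRel s t) {T : Scheme.{u}} (x y : T ⟶ R.left)
    (ht : x ≫ t.left = y ≫ t.left) (hs : x ≫ s.left = y ≫ s.left) : x = y := by
  have hy : y ≫ R.hom = x ≫ R.hom := by
    calc y ≫ R.hom = (y ≫ t.left) ≫ U.hom := by rw [Category.assoc, Over.w]
      _ = (x ≫ t.left) ≫ U.hom := by rw [ht]
      _ = x ≫ R.hom := by rw [Category.assoc, Over.w]
  have h1 := h.injective (Over.mk (x ≫ R.hom)) (Over.homMk x rfl) (Over.homMk y hy)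
    (by ext; exact ht) (by ext; exact hs)
  exact congrArg (fun φ => φ.left) h1

theorem exists_e (h : AlgSp.IsEqvRel s t) :
    ∃ e : U.left ⟶ R.left, e ≫ t.left = 𝟙 _ ∧ e ≫ s.left = 𝟙 _ := by
  obtain ⟨r, h1, h2⟩ := (h.equivalence U).refl (𝟙 U)
  exact ⟨r.left, congrArg (fun φ => φ.left) h1, congrArg (fun φ => φ.left) h2⟩

theorem exists_i (h : AlgSp.IsEqvRel s t) :
    ∃ i : R.left ⟶ R.left, i ≫ t.left = s.left ∧ i ≫ s.left = t.left := by
  have h0 : (fun a b : R ⟶ U => ∃ r : R ⟶ R, r ≫ t = a ∧ r ≫ s = b) t s :=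
    ⟨𝟙 R, Category.id_comp _, Category.id_comp _⟩
  obtain ⟨r, h1, h2⟩ := (h.equivalence R).symm h0
  exact ⟨r.left, congrArg (fun φ => φ.left) h1, congrArg (fun φ => φ.left) h2⟩

theorem exists_c (h : AlgSp.IsEqvRel s t) :
    ∃ c : pullback s.left t.left ⟶ R.left,
      c ≫ t.left = pullback.fst s.left t.left ≫ t.left ∧
      c ≫ s.left = pullback.snd s.left t.left ≫ s.left := by
  have hsnd : pullback.snd s.left t.left ≫ R.hom = pullback.fst s.left t.left ≫ R.hom := by
    calc pullback.snd s.left t.left ≫ R.hom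
        = (pullback.snd s.left t.left ≫ t.left) ≫ U.hom := by rw [Category.assoc, Over.w]
      _ = (pullback.fst s.left t.left ≫ s.left) ≫ U.hom := by rw [pullback.condition]
      _ = pullback.fst s.left t.left ≫ R.hom := by rw [Category.assoc, Over.w]
  let P : Over S := Over.mk (pullback.fst s.left t.left ≫ R.hom)
  let f1 : P ⟶ R := Over.homMk (pullback.fst s.left t.left) rfl
  let f2 : P ⟶ R := Over.homMk (pullback.snd s.left t.left) hsnd
  have h12 : f1 ≫ s = f2 ≫ t := by ext; exact pullback.condition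
  have r1 : (fun a b : P ⟶ U => ∃ r : P ⟶ R, r ≫ t = a ∧ r ≫ s = b) (f1 ≫ t) (f1 ≫ s) :=
    ⟨f1, rfl, rfl⟩
  have r2 : (fun a b : P ⟶ U => ∃ r : P ⟶ R, r ≫ t = a ∧ r ≫ s = b) (f1 ≫ s) (f2 ≫ s) :=
    ⟨f2, h12.symm, rfl⟩
  obtain ⟨c, h1, h2⟩ := (h.equivalence P).trans r1 r2
  exact ⟨c.left, congrArg (fun φ => φ.left) h1, congrArg (fun φ => φ.left) h2⟩

/-- the identity -/
noncomputable def e0 (h : AlgSp.IsEqvRel s t) : U.left ⟶ R.left := (exists_e h).choose

theorem e0_t (h : AlgSp.IsEqvRel s t) : e0 h ≫ t.left = 𝟙 _ := (exists_e h).choose_spec.1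

theorem e0_s (h : AlgSp.IsEqvRel s t) : e0 h ≫ s.left = 𝟙 _ := (exists_e h).choose_spec.2

/-- the inverse -/
noncomputable def i0 (h : AlgSp.IsEqvRel s t) : R.left ⟶ R.left := (exists_i h).choose

theorem i0_t (h : AlgSp.IsEqvRel s t) : i0 h ≫ t.left = s.left := (exists_i h).choose_spec.1

theorem i0_s (h : AlgSp.IsEqvRel s t) : i0 h ≫ s.left = t.left := (exists_i h).choose_spec.2

/-- the composition -/
noncomputable def c0 (h : AlgSp.IsEqvRel s t) : pullback s.left t.left ⟶ R.left :=
  (exists_c h).choose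

theorem c0_t (h : AlgSp.IsEqvRel s t) :
    c0 h ≫ t.left = pullback.fst s.left t.left ≫ t.left := (exists_c h).choose_spec.1

theorem c0_s (h : AlgSp.IsEqvRel s t) :
    c0 h ≫ s.left = pullback.snd s.left t.left ≫ s.left := (exists_c h).choose_spec.2

theorem lift_c0_t (h : AlgSp.IsEqvRel s t) {T : Scheme.{u}} (α β : T ⟶ R.left)
    (w : α ≫ s.left = β ≫ t.left) : (pullback.lift α β w ≫ c0 h) ≫ t.left = α ≫ t.left := by
  rw [Category.assoc, c0_t, ← Category.assoc, pullback.lift_fst]

theorem lift_c0_s (h : AlgSp.IsEqvRel s t) {T : Scheme.{u}} (α β : T ⟶ R.left)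
    (w : α ≫ s.left = β ≫ t.left) : (pullback.lift α β w ≫ c0 h) ≫ s.left = β ≫ s.left := by
  rw [Category.assoc, c0_s, ← Category.assoc, pullback.lift_snd]

theorem i0_i0 (h : AlgSp.IsEqvRel s t) : i0 h ≫ i0 h = 𝟙 _ := by
  apply hom_ext h
  · rw [Category.assoc, i0_t, i0_s, Category.id_comp]
  · rw [Category.assoc, i0_s, i0_t, Category.id_comp]

instance isIso_i0 (h : AlgSp.IsEqvRel s t) : IsIso (i0 h) := ⟨⟨i0 h, i0_i0 h, i0_i0 h⟩⟩

/-- the groupoid scheme of an equivalence relation -/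
@[reducible] noncomputable def grpd (h : AlgSp.IsEqvRel s t) : GroupoidScheme S where
  U := U.left
  R := R.left
  pU := U.hom
  pR := R.hom
  s := s.left
  t := t.left
  e := e0 h
  i := i0 h
  c := c0 h
  s_over := Over.w s
  t_over := Over.w t
  comp_s := fun α β w => lift_c0_s h α β w
  comp_t := fun α β w => lift_c0_t h α β w
  assoc := fun α β γ h₁ h₂ => by
    apply hom_ext h
    · rw [lift_c0_t, lift_c0_t, lift_c0_t]
    · rw [lift_c0_s, lift_c0_s, lift_c0_s]
  e_s := e0_s h
  e_t := e0_t h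
  comp_e := fun α => by
    apply hom_ext h
    · rw [lift_c0_t]
    · rw [lift_c0_s]
      simp only [Category.assoc, e0_s, Category.comp_id]
  e_comp := fun α => by
    apply hom_ext h
    · rw [lift_c0_t]
      simp only [Category.assoc, e0_t, Category.comp_id]
    · rw [lift_c0_s]
  i_s := i0_s h
  i_t := i0_t h
  comp_i := fun α => by
    apply hom_ext h
    · rw [lift_c0_t]
      simp only [Category.assoc, e0_t, Category.comp_id]
    · rw [lift_c0_s]
      simp only [Category.assoc, e0_s, i0_s, Category.comp_id]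
  i_comp := fun α => by
    apply hom_ext h
    · rw [lift_c0_t]
      simp only [Category.assoc, e0_t, i0_t, Category.comp_id]
    · rw [lift_c0_s]
      simp only [Category.assoc, e0_s, Category.comp_id]

end Groth.Agent.Helper3.ER
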