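import Groth.Prelude.Def_EtRam
import Mathlib.RingTheory.AdjoinRoot
import Mathlib.RingTheory.IntegralClosure.IntegrallyClosed
import Mathlib.RingTheory.Localization.FractionRing
import Mathlib.RingTheory.Polynomial.Eisenstein.Criterion
import Mathlib.RingTheory.DiscreteValuationRing.TFAE
import Mathlib.RingTheory.Polynomial.GaussLemma

/-! Eisenstein extension `A[x]/(x^n - π)` of a DVR. -/

universe u

open Polynomial

namespace Groth.Agent.Helper3.EisDVR

section General

variable {F : Type u} [Field F]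

theorem val_lt_one_of_inv_not_mem (V : ValuationSubring F) (y : F) (hy : y⁻¹ ∉ V) :
    V.valuation y < 1 := by
  by_contra h
  push Not at h
  apply hy
  rw [← ValuationSubring.valuation_le_one_iff, map_inv₀]
  exact inv_le_one_of_one_le₀ h

end General

section General

variable (B : Type u) [CommRing B] [IsDomain B] [IsDiscreteValuationRing B]
  (F : Type u) [Field F] [Algebra B F] [IsFractionRing B F]

/-- The valuation subring of the fraction field given by a DVR. -/
noncomputable def rangeVS : ValuationSubring F :=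
  { (algebraMap B F).range with
    mem_or_inv_mem' := fun y => by
      obtain (⟨a, e⟩ | ⟨a, e⟩) := ValuationRing.isInteger_or_isInteger B y
      · exact Or.inl ⟨a, e⟩
      · exact Or.inr ⟨a, e⟩ }

theorem mem_rangeVS (y : F) : y ∈ rangeVS B F ↔ ∃ b : B, algebraMap B F b = y := Iff.rfl

theorem val_lt_one_of_mem_maximalIdeal (b : B) (hb : b ∈ IsLocalRing.maximalIdeal B) :
    (rangeVS B F).valuation (algebraMap B F b) < 1 := by
  by_cases hb0 : b = 0
  · subst hb0
    rw [map_zero, map_zero]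
    exact zero_lt_one
  apply val_lt_one_of_inv_not_mem
  rintro ⟨c, hc⟩
  have hne : algebraMap B F b ≠ 0 := fun h => hb0 ((IsFractionRing.injective B F) (by rw [h, map_zero]))
  have h1 : algebraMap B F (b * c) = algebraMap B F 1 := by
    rw [map_mul, hc, mul_inv_cancel₀ hne, map_one]
  have h2 : b * c = 1 := IsFractionRing.injective B F h1
  exact hb (isUnit_of_dvd_one ⟨c, h2.symm⟩)

/-- A valuation subring of the fraction field dominating a DVR `B` is `B`. -/
theorem eq_rangeVS (x : B) (hx : IsLocalRing.maximalIdeal B = Ideal.span {x}) (V' : ValuationSubring F)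
    (hV : ∀ b : B, algebraMap B F b ∈ V') (hxV : V'.valuation (algebraMap B F x) < 1) :
    V' = rangeVS B F := by
  apply le_antisymm
  · intro y hy
    by_contra hy0
    have h1 : y⁻¹ ∈ rangeVS B F := ((rangeVS B F).mem_or_inv_mem y).resolve_left hy0
    obtain ⟨c, hc⟩ := h1
    have hy_ne : y ≠ 0 := by rintro rfl; exact hy0 (zero_mem _)
    have hc_nonunit : c ∈ IsLocalRing.maximalIdeal B := by
      rw [IsLocalRing.mem_maximalIdeal, mem_nonunits_iff]
      intro hu
      apply hy0
      obtain ⟨u, rfl⟩ := hu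
      refine ⟨((u⁻¹ : Bˣ) : B), ?_⟩
      have h2 : algebraMap B F u * algebraMap B F ((u⁻¹ : Bˣ) : B) = 1 := by
        rw [← map_mul, Units.mul_inv, map_one]
      rw [hc] at h2
      have h3 : y * (y⁻¹ * algebraMap B F ((u⁻¹ : Bˣ) : B)) = y * 1 := by rw [h2]
      rw [← mul_assoc, mul_inv_cancel₀ hy_ne, one_mul, mul_one] at h3
      exact h3
    rw [hx, Ideal.mem_span_singleton] at hc_nonunit
    obtain ⟨d, rfl⟩ := hc_nonunit
    have h1 : y * (algebraMap B F x * algebraMap B F d) = 1 := by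
      rw [← map_mul, hc, mul_inv_cancel₀ hy_ne]
    have h2 : V'.valuation (y * (algebraMap B F x * algebraMap B F d)) < 1 := by
      rw [map_mul, map_mul]
      have hy1 : V'.valuation y ≤ 1 := (V'.valuation_le_one_iff _).mpr hy
      have hd1 : V'.valuation (algebraMap B F d) ≤ 1 := (V'.valuation_le_one_iff _).mpr (hV d)
      calc V'.valuation y * (V'.valuation (algebraMap B F x) * V'.valuation (algebraMap B F d))
          ≤ 1 * (V'.valuation (algebraMap B F x) * 1) :=
            mul_le_mul' hy1 (mul_le_mul' le_rfl hd1)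
        _ < 1 := by rw [one_mul, mul_one]; exact hxV
    rw [h1, map_one] at h2
    exact lt_irrefl _ h2
  · rintro y ⟨b, rfl⟩; exact hV b

end General

section

variable (A : Type u) [CommRing A] [IsDomain A] [IsDiscreteValuationRing A] (π : A)
    (hπ : Irreducible π) (n : ℕ) (hn : 2 ≤ n)

include hπ hn

theorem monic_f : (X ^ n - C π : A[X]).Monic :=
  monic_X_pow_sub_C π (by omega)

theorem natDegree_f : (X ^ n - C π : A[X]).natDegree = n :=
  natDegree_X_pow_sub_C

theorem irreducible_f : Irreducible (X ^ n - C π : A[X]) := by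
  have hmon := monic_f A π hπ n hn
  have hdeg := natDegree_f A π hπ n hn
  have hP : (IsLocalRing.maximalIdeal A).IsPrime := inferInstance
  have hmax : IsLocalRing.maximalIdeal A = Ideal.span {π} := hπ.maximalIdeal_eq
  refine irreducible_of_eisenstein_criterion (P := IsLocalRing.maximalIdeal A) hP ?_ ?_ ?_ ?_ hmon.isPrimitive
  · rw [hmon.leadingCoeff]
    exact fun h => (IsLocalRing.maximalIdeal A).ne_top_iff_one.mp hP.ne_top h
  · intro k hk
    rw [degree_eq_natDegree hmon.ne_zero, hdeg] at hk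
    have hk' : k < n := by exact_mod_cast hk
    rw [coeff_sub, coeff_X_pow, coeff_C, if_neg (by omega)]
    by_cases h0 : k = 0
    · rw [if_pos h0, zero_sub, hmax]
      exact neg_mem (Ideal.mem_span_singleton_self π)
    · rw [if_neg h0, sub_zero]; exact zero_mem _
  · rw [degree_eq_natDegree hmon.ne_zero, hdeg]
    exact_mod_cast (by omega : 0 < n)
  · rw [coeff_sub, coeff_X_pow, coeff_C, if_neg (by omega), if_pos rfl, zero_sub, hmax,
      Ideal.span_singleton_pow, neg_mem_iff, Ideal.mem_span_singleton]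
    intro h
    obtain ⟨c, hc⟩ := h
    have hπ0 : π ≠ 0 := hπ.ne_zero
    have : π * 1 = π * (π * c) := by rw [mul_one]; rw [sq] at hc; rw [← mul_assoc]; exact hc
    have h1 := mul_left_cancel₀ hπ0 this
    exact hπ.not_isUnit (isUnit_of_dvd_one ⟨c, h1⟩)

theorem isDomain_adjoinRoot : IsDomain (AdjoinRoot (X ^ n - C π : A[X])) := by
  have hirr := irreducible_f A π hπ n hn
  exact AdjoinRoot.isDomain_of_prime hirr.prime


/-- `x^n = π` in `A'`. -/
theorem root_pow : (AdjoinRoot.root (X ^ n - C π : A[X])) ^ n = AdjoinRoot.of (X ^ n - C π : A[X]) π := by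
  have h := AdjoinRoot.eval₂_root (X ^ n - C π : A[X])
  rw [eval₂_sub, eval₂_pow, eval₂_X, eval₂_C, sub_eq_zero] at h
  exact h

theorem of_injective : Function.Injective (AdjoinRoot.of (X ^ n - C π : A[X])) := by
  apply AdjoinRoot.of.injective_of_degree_ne_zero
  rw [degree_eq_natDegree (monic_f A π hπ n hn).ne_zero, natDegree_f A π hπ n hn]
  exact_mod_cast (by omega : n ≠ 0)

/-- Every element is `a₀ + x * b`. -/
theorem exists_decomp (a' : AdjoinRoot (X ^ n - C π : A[X])) :
    ∃ (a₀ : A) (b : AdjoinRoot (X ^ n - C π : A[X])),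
      a' = AdjoinRoot.of _ a₀ + AdjoinRoot.root _ * b := by
  induction a' using AdjoinRoot.induction_on with
  | ih p =>
    refine ⟨p.coeff 0, AdjoinRoot.mk _ p.divX, ?_⟩
    conv_lhs => rw [← Polynomial.divX_mul_X_add p]
    rw [map_add, map_mul, AdjoinRoot.mk_X, AdjoinRoot.mk_C]
    ring

/-- The quotient map `A' → A/m` killing `x`. -/
noncomputable def toResidue : AdjoinRoot (X ^ n - C π : A[X]) →+* (A ⧸ IsLocalRing.maximalIdeal A) :=
  AdjoinRoot.lift (Ideal.Quotient.mk _) 0 (by
    rw [eval₂_sub, eval₂_pow, eval₂_X, eval₂_C, zero_pow (by omega), zero_sub, neg_eq_zero,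
      Ideal.Quotient.eq_zero_iff_mem, hπ.maximalIdeal_eq]
    exact Ideal.mem_span_singleton_self π)

theorem toResidue_root : toResidue A π hπ n hn (AdjoinRoot.root _) = 0 := by
  unfold toResidue; rw [AdjoinRoot.lift_root]

theorem toResidue_of (a : A) : toResidue A π hπ n hn (AdjoinRoot.of _ a) = Ideal.Quotient.mk _ a := by
  unfold toResidue; rw [AdjoinRoot.lift_of]

theorem root_not_isUnit : ¬ IsUnit (AdjoinRoot.root (X ^ n - C π : A[X])) := by
  intro h
  have h2 := h.map (toResidue A π hπ n hn)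
  rw [toResidue_root] at h2
  exact not_isUnit_zero h2

theorem root_ne_zero : AdjoinRoot.root (X ^ n - C π : A[X]) ≠ 0 := by
  intro h
  have h2 := root_pow A π hπ n hn
  rw [h, zero_pow (by omega)] at h2
  have : AdjoinRoot.of (X ^ n - C π : A[X]) π = AdjoinRoot.of (X ^ n - C π : A[X]) 0 := by
    rw [← h2, map_zero]
  exact hπ.ne_zero (of_injective A π hπ n hn this)

theorem ker_toResidue :
    RingHom.ker (toResidue A π hπ n hn) = Ideal.span {AdjoinRoot.root (X ^ n - C π : A[X])} := by
  apply le_antisymm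
  · intro a' ha'
    rw [RingHom.mem_ker] at ha'
    obtain ⟨a₀, b, rfl⟩ := exists_decomp A π hπ n hn a'
    rw [map_add, map_mul, toResidue_root, zero_mul, add_zero, toResidue_of,
      Ideal.Quotient.eq_zero_iff_mem, hπ.maximalIdeal_eq, Ideal.mem_span_singleton] at ha'
    obtain ⟨c, rfl⟩ := ha'
    refine Ideal.add_mem _ ?_ (Ideal.mul_mem_right _ _ (Ideal.mem_span_singleton_self _))
    rw [map_mul, ← root_pow A π hπ n hn]
    have hpow : (AdjoinRoot.root (X ^ n - C π : A[X])) ^ n =
        AdjoinRoot.root (X ^ n - C π : A[X]) * (AdjoinRoot.root (X ^ n - C π : A[X])) ^ (n - 1) := by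
      rw [← pow_succ', Nat.sub_add_cancel (by omega)]
    rw [hpow, mul_assoc]
    exact Ideal.mul_mem_right _ _ (Ideal.mem_span_singleton_self _)
  · rw [Ideal.span_singleton_le_iff_mem, RingHom.mem_ker, toResidue_root]

theorem toResidue_surjective : Function.Surjective (toResidue A π hπ n hn) := by
  intro r
  obtain ⟨a, rfl⟩ := Ideal.Quotient.mk_surjective r
  exact ⟨AdjoinRoot.of _ a, toResidue_of A π hπ n hn a⟩

theorem span_root_isMaximal :
    (Ideal.span {AdjoinRoot.root (X ^ n - C π : A[X])}).IsMaximal := by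
  rw [← ker_toResidue A π hπ n hn]
  letI : Field (A ⧸ IsLocalRing.maximalIdeal A) := Ideal.Quotient.field _
  exact RingHom.ker_isMaximal_of_surjective _ (toResidue_surjective A π hπ n hn)

theorem eq_span_root_of_isMaximal (M : Ideal (AdjoinRoot (X ^ n - C π : A[X]))) (hM : M.IsMaximal) :
    M = Ideal.span {AdjoinRoot.root (X ^ n - C π : A[X])} := by
  have hfin : Module.Finite A (AdjoinRoot (X ^ n - C π : A[X])) := (monic_f A π hπ n hn).finite_adjoinRoot
  have hint : Algebra.IsIntegral A (AdjoinRoot (X ^ n - C π : A[X])) := Algebra.IsIntegral.of_finite _ _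
  have hmax : (M.comap (algebraMap A (AdjoinRoot (X ^ n - C π : A[X])))).IsMaximal :=
    Ideal.isMaximal_comap_of_isIntegral_of_isMaximal M
  have heq := IsLocalRing.eq_maximalIdeal hmax
  have hπM : π ∈ M.comap (algebraMap A (AdjoinRoot (X ^ n - C π : A[X]))) := by
    rw [heq, hπ.maximalIdeal_eq]; exact Ideal.mem_span_singleton_self π
  rw [Ideal.mem_comap, AdjoinRoot.algebraMap_eq, ← root_pow A π hπ n hn] at hπM
  have hxM := hM.isPrime.mem_of_pow_mem _ hπM
  have hle : Ideal.span {AdjoinRoot.root (X ^ n - C π : A[X])} ≤ M := by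
    rw [Ideal.span_singleton_le_iff_mem]; exact hxM
  exact ((span_root_isMaximal A π hπ n hn).eq_of_le hM.ne_top hle).symm

theorem isLocalRing_adjoinRoot : IsLocalRing (AdjoinRoot (X ^ n - C π : A[X])) :=
  IsLocalRing.of_unique_max_ideal ⟨_, span_root_isMaximal A π hπ n hn,
    fun M hM => eq_span_root_of_isMaximal A π hπ n hn M hM⟩

theorem maximalIdeal_eq [IsLocalRing (AdjoinRoot (X ^ n - C π : A[X]))] :
    IsLocalRing.maximalIdeal (AdjoinRoot (X ^ n - C π : A[X])) =
      Ideal.span {AdjoinRoot.root (X ^ n - C π : A[X])} :=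
  eq_span_root_of_isMaximal A π hπ n hn _ (IsLocalRing.maximalIdeal.isMaximal _)

theorem isDVR_adjoinRoot [IsDomain (AdjoinRoot (X ^ n - C π : A[X]))] :
    IsDiscreteValuationRing (AdjoinRoot (X ^ n - C π : A[X])) := by
  haveI := isLocalRing_adjoinRoot A π hπ n hn
  have hmax := maximalIdeal_eq A π hπ n hn
  have hprinc : (IsLocalRing.maximalIdeal (AdjoinRoot (X ^ n - C π : A[X]))).IsPrincipal :=
    ⟨⟨_, hmax⟩⟩
  have hpid : IsPrincipalIdealRing (AdjoinRoot (X ^ n - C π : A[X])) :=
    ((tfae_of_isNoetherianRing_of_isLocalRing_of_isDomain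
      (AdjoinRoot (X ^ n - C π : A[X]))).out 0 4).mpr hprinc
  refine { hpid, ‹IsLocalRing _› with not_a_field' := ?_ }
  rw [hmax]
  intro h
  rw [Ideal.span_singleton_eq_bot] at h
  exact root_ne_zero A π hπ n hn h

theorem map_maximalIdeal [IsLocalRing (AdjoinRoot (X ^ n - C π : A[X]))] :
    (IsLocalRing.maximalIdeal A).map (algebraMap A (AdjoinRoot (X ^ n - C π : A[X]))) =
      IsLocalRing.maximalIdeal (AdjoinRoot (X ^ n - C π : A[X])) ^ n := by
  rw [maximalIdeal_eq A π hπ n hn, hπ.maximalIdeal_eq, Ideal.map_span, Set.image_singleton,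
    Ideal.span_singleton_pow, AdjoinRoot.algebraMap_eq, root_pow A π hπ n hn]


section TR

variable [IsDomain (AdjoinRoot (X ^ n - C π : A[X]))]
  [IsDiscreteValuationRing (AdjoinRoot (X ^ n - C π : A[X]))]
  (K₁ : Type u) [Field K₁] [Algebra (AdjoinRoot (X ^ n - C π : A[X])) K₁]
  [IsFractionRing (AdjoinRoot (X ^ n - C π : A[X])) K₁]

theorem of_mem_maximalIdeal (a : A) (ha : a ∈ IsLocalRing.maximalIdeal A) :
    AdjoinRoot.of (X ^ n - C π : A[X]) a ∈ IsLocalRing.maximalIdeal (AdjoinRoot (X ^ n - C π : A[X])) := by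
  have h := map_maximalIdeal A π hπ n hn
  have h2 : AdjoinRoot.of (X ^ n - C π : A[X]) a ∈
      (IsLocalRing.maximalIdeal A).map (algebraMap A (AdjoinRoot (X ^ n - C π : A[X]))) := by
    rw [AdjoinRoot.algebraMap_eq]; exact Ideal.mem_map_of_mem _ ha
  rw [h] at h2
  exact Ideal.pow_le_self (by omega) h2

theorem dominates_rangeVS :
    EtRam.Dominates A ((algebraMap (AdjoinRoot (X ^ n - C π : A[X])) K₁).comp
      (algebraMap A (AdjoinRoot (X ^ n - C π : A[X])))) (rangeVS (AdjoinRoot (X ^ n - C π : A[X])) K₁) := by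
  refine ⟨fun a => ⟨algebraMap A _ a, rfl⟩, fun a ha => ?_⟩
  rw [RingHom.comp_apply]
  apply val_lt_one_of_mem_maximalIdeal
  rw [AdjoinRoot.algebraMap_eq]
  exact of_mem_maximalIdeal A π hπ n hn a ha

variable {K₁} in
theorem root_val_lt_one (V' : ValuationSubring K₁)
    (h : EtRam.Dominates A ((algebraMap (AdjoinRoot (X ^ n - C π : A[X])) K₁).comp
      (algebraMap A (AdjoinRoot (X ^ n - C π : A[X])))) V') :
    V'.valuation (algebraMap (AdjoinRoot (X ^ n - C π : A[X])) K₁ (AdjoinRoot.root _)) < 1 := by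
  have h1 := h.2 π (by rw [hπ.maximalIdeal_eq]; exact Ideal.mem_span_singleton_self π)
  rw [RingHom.comp_apply, AdjoinRoot.algebraMap_eq, ← root_pow A π hπ n hn, map_pow, map_pow] at h1
  by_contra h2
  push Not at h2
  exact absurd h1 (not_lt.mpr (one_le_pow₀ h2))

variable {K₁} in
theorem algebraMap_mem (V' : ValuationSubring K₁)
    (h : EtRam.Dominates A ((algebraMap (AdjoinRoot (X ^ n - C π : A[X])) K₁).comp
      (algebraMap A (AdjoinRoot (X ^ n - C π : A[X])))) V') (a' : AdjoinRoot (X ^ n - C π : A[X])) :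
    algebraMap (AdjoinRoot (X ^ n - C π : A[X])) K₁ a' ∈ V' := by
  have hx : algebraMap (AdjoinRoot (X ^ n - C π : A[X])) K₁ (AdjoinRoot.root _) ∈ V' :=
    (V'.valuation_le_one_iff _).mp (root_val_lt_one A π hπ n hn V' h).le
  induction a' using AdjoinRoot.induction_on with
  | ih p =>
    induction p using Polynomial.induction_on' with
    | add p q hp hq => rw [map_add, map_add]; exact add_mem hp hq
    | monomial i a =>
      rw [← C_mul_X_pow_eq_monomial, map_mul, map_pow, AdjoinRoot.mk_C, AdjoinRoot.mk_X, map_mul, map_pow]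
      refine mul_mem ?_ (pow_mem hx i)
      have := h.1 a
      rwa [RingHom.comp_apply, AdjoinRoot.algebraMap_eq] at this

variable {K₁} in
theorem eq_rangeVS_of_dominates (V' : ValuationSubring K₁)
    (h : EtRam.Dominates A ((algebraMap (AdjoinRoot (X ^ n - C π : A[X])) K₁).comp
      (algebraMap A (AdjoinRoot (X ^ n - C π : A[X])))) V') :
    V' = rangeVS (AdjoinRoot (X ^ n - C π : A[X])) K₁ :=
  eq_rangeVS _ K₁ (AdjoinRoot.root _) (maximalIdeal_eq A π hπ n hn) V'
    (algebraMap_mem A π hπ n hn V' h) (root_val_lt_one A π hπ n hn V' h)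

theorem totallyRamified :
    EtRam.IsTotallyRamified A ((algebraMap (AdjoinRoot (X ^ n - C π : A[X])) K₁).comp
      (algebraMap A (AdjoinRoot (X ^ n - C π : A[X])))) := by
  refine ⟨⟨_, dominates_rangeVS A π hπ n hn K₁⟩, fun V V' hV hV' => ?_, fun V hV => ?_⟩
  · rw [eq_rangeVS_of_dominates A π hπ n hn V hV, eq_rangeVS_of_dominates A π hπ n hn V' hV']
  · intro r
    obtain ⟨⟨v, hv⟩, rfl⟩ := IsLocalRing.residue_surjective r
    have hv' : v ∈ rangeVS (AdjoinRoot (X ^ n - C π : A[X])) K₁ := by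
      rw [← eq_rangeVS_of_dominates A π hπ n hn V hV]; exact hv
    obtain ⟨a', rfl⟩ := hv'
    obtain ⟨a₀, b, rfl⟩ := exists_decomp A π hπ n hn a'
    refine ⟨a₀, ?_⟩
    show IsLocalRing.residue V _ = IsLocalRing.residue V _
    rw [← sub_eq_zero, ← map_sub, IsLocalRing.residue_eq_zero_iff, ValuationSubring.valuation_lt_one_iff]
    have hb := algebraMap_mem A π hπ n hn V hV b
    have hx := root_val_lt_one A π hπ n hn V hV
    have : ((RingHom.codRestrict ((algebraMap (AdjoinRoot (X ^ n - C π : A[X])) K₁).comp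
        (algebraMap A (AdjoinRoot (X ^ n - C π : A[X])))) V hV.1 a₀ -
        ⟨algebraMap (AdjoinRoot (X ^ n - C π : A[X])) K₁ (AdjoinRoot.of _ a₀ + AdjoinRoot.root _ * b), hv⟩ : V) : K₁)
        = - (algebraMap (AdjoinRoot (X ^ n - C π : A[X])) K₁ (AdjoinRoot.root _) *
            algebraMap (AdjoinRoot (X ^ n - C π : A[X])) K₁ b) := by
      rw [AddSubgroupClass.coe_sub]
      simp only [RingHom.codRestrict_apply, RingHom.comp_apply, AdjoinRoot.algebraMap_eq, map_add, map_mul]
      ring
    rw [this, Valuation.map_neg, map_mul]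
    calc _ ≤ V.valuation (algebraMap (AdjoinRoot (X ^ n - C π : A[X])) K₁ (AdjoinRoot.root _)) * 1 :=
          mul_le_mul' le_rfl ((V.valuation_le_one_iff _).mpr hb)
      _ < 1 := by rw [mul_one]; exact hx

end TR

end

theorem main (A : Type u) [CommRing A] [IsDomain A] [IsDiscreteValuationRing A] (π : A)
    (hπ : Irreducible π) (n : ℕ) (hn : 2 ≤ n) :
    Irreducible (X ^ n - C π : A[X]) ∧
    ∃ (_ : IsDomain (AdjoinRoot (X ^ n - C π : A[X]))) (_ : IsDiscreteValuationRing (AdjoinRoot (X ^ n - C π : A[X]))),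
      IsIntegrallyClosed (AdjoinRoot (X ^ n - C π : A[X])) ∧
      (IsLocalRing.maximalIdeal A).map (algebraMap A (AdjoinRoot (X ^ n - C π : A[X]))) = IsLocalRing.maximalIdeal (AdjoinRoot (X ^ n - C π : A[X])) ^ n ∧
      ∀ (K₁ : Type u) [Field K₁] [Algebra (AdjoinRoot (X ^ n - C π : A[X])) K₁] [IsFractionRing (AdjoinRoot (X ^ n - C π : A[X])) K₁],
        EtRam.IsTotallyRamified A ((algebraMap (AdjoinRoot (X ^ n - C π : A[X])) K₁).comp (algebraMap A (AdjoinRoot (X ^ n - C π : A[X])))) := by
  refine ⟨irreducible_f A π hπ n hn, ?_⟩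
  haveI hdom := isDomain_adjoinRoot A π hπ n hn
  haveI hdvr := isDVR_adjoinRoot A π hπ n hn
  refine ⟨hdom, hdvr, inferInstance, map_maximalIdeal A π hπ n hn, ?_⟩
  intro K₁ _ _ _
  exact totallyRamified A π hπ n hn K₁

end Groth.Agent.Helper3.EisDVR
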