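import Mathlib
set_option autoImplicit false
universe u
open TensorProduct Cardinal

namespace Groth.Agent.Helper3.EpiCard
variable (R S : Type u) [CommRing R] [CommRing S] [Algebra R S]

/-- the test vector `(-s, 1, 0, …, 0)`. -/
def nvec {k : ℕ} (s : S) : Fin (k + 2) → S := Fin.cons (-s) (Fin.cons 1 (fun _ => 0))

/-- validity of a matrix certificate. -/
def Valid (k l : ℕ) (a : Fin (k + 2) → Fin l → R) (s : S) : Prop :=
  ∃ (m : Fin (k + 2) → S) (y : Fin l → S), m 0 = 1 ∧ m 1 = s ∧ (∀ j, ∑ i, a i j • m i = 0) ∧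
    ∀ i, nvec S s i = ∑ j, a i j • y j

variable {R S}

theorem Valid.unique {k l : ℕ} {a : Fin (k + 2) → Fin l → R} {s s' : S}
    (h : Valid R S k l a s) (h' : Valid R S k l a s') : s = s' := by
  obtain ⟨m, y, hm0, hm1, hm, hy⟩ := h
  obtain ⟨m', y', hm0', hm1', hm', hy'⟩ := h'
  have h1 : ∑ i, m' i * nvec S s i = s' - s := by
    rw [Fin.sum_univ_succ, Fin.sum_univ_succ]
    have : ∀ i : Fin k, nvec S s i.succ.succ = 0 := fun i => by simp [nvec]
    simp only [this, mul_zero, Finset.sum_const_zero, add_zero]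
    have e1 : nvec (k := k) S s 0 = -s := by simp [nvec]
    have e2 : nvec (k := k) S s (Fin.succ 0) = 1 := by simp [nvec]
    rw [e1, e2, hm0']
    have : (Fin.succ 0 : Fin (k + 2)) = 1 := rfl
    rw [this, hm1']; ring
  have h2 : ∑ i, m' i * nvec S s i = 0 := by
    simp only [hy, Finset.mul_sum]
    rw [Finset.sum_comm]
    apply Finset.sum_eq_zero
    intro j _
    have := congrArg (· * y j) (hm' j)
    simp only [Finset.sum_mul, zero_mul] at this
    rw [← this]
    apply Finset.sum_congr rfl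
    intro i _
    simp only [Algebra.smul_def]; ring
  rw [h1] at h2
  exact (sub_eq_zero.mp h2).symm

theorem exists_valid [Algebra.IsEpi R S] (s : S) :
    ∃ (k l : ℕ) (a : Fin (k + 2) → Fin l → R), Valid R S k l a s := by
  classical
  let N : Submodule R S := Submodule.span R {1, s}
  have hN : N.FG := Submodule.fg_span (by simp)
  have h1N : (1 : S) ∈ N := Submodule.subset_span (by simp)
  have hsN : s ∈ N := Submodule.subset_span (by simp)
  let x : N ⊗[R] S := (⟨s, hsN⟩ : N) ⊗ₜ[R] (1 : S) - (⟨1, h1N⟩ : N) ⊗ₜ[R] s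
  have hx : N.subtype.rTensor S x = N.subtype.rTensor S 0 := by
    simp only [x, map_sub, LinearMap.rTensor_tmul, Submodule.subtype_apply, map_zero]
    rw [(Algebra.isEpi_iff_forall_one_tmul_eq R S).mp inferInstance s, sub_self]
  obtain ⟨N', hN', hle, hx'⟩ := hN.exists_rTensor_fg_inclusion_eq hx
  haveI : Module.Finite R N' := Module.Finite.iff_fg.mpr hN'
  obtain ⟨k, g, hg⟩ := Module.Finite.exists_fin (R := R) (M := N')
  let m : Fin (k + 2) → N' := Fin.cons ⟨1, hle h1N⟩ (Fin.cons ⟨s, hle hsN⟩ g)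
  have hmspan : Submodule.span R (Set.range m) = ⊤ := by
    rw [eq_top_iff, ← hg]
    apply Submodule.span_mono
    rintro _ ⟨i, rfl⟩
    exact ⟨i.succ.succ, by simp [m]⟩
  have hsum : ∑ i, m i ⊗ₜ[R] nvec S s i = (0 : N' ⊗[R] S) := by
    rw [Fin.sum_univ_succ, Fin.sum_univ_succ]
    have : ∀ i : Fin k, nvec S s i.succ.succ = 0 := fun i => by simp [nvec]
    simp only [this, TensorProduct.tmul_zero, Finset.sum_const_zero, add_zero]
    have e1 : nvec (k := k) S s 0 = -s := by simp [nvec]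
    have e2 : nvec (k := k) S s (Fin.succ 0) = 1 := by simp [nvec]
    rw [e1, e2]
    simp only [x, map_sub, LinearMap.rTensor_tmul, map_zero] at hx'
    have hm0 : m 0 = ⟨1, hle h1N⟩ := by simp [m]
    have hm1 : m (Fin.succ 0) = ⟨s, hle hsN⟩ := by simp [m]
    rw [hm0, hm1, TensorProduct.tmul_neg]
    have h3 : ∀ (a b : ↥N' ⊗[R] S), b - a = 0 → -a + b = 0 := fun a b h => by rw [← h]; abel
    exact h3 _ _ hx'
  obtain ⟨l, a, y, hy, ha⟩ := TensorProduct.vanishesTrivially_of_sum_tmul_eq_zero R hmspan hsum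
  refine ⟨k, l, a, fun i => (m i : S), y, by simp [m], ?_, ?_, hy⟩
  · have : (1 : Fin (k + 2)) = Fin.succ 0 := rfl
    rw [this]; simp [m]
  · intro j
    have := congrArg (Subtype.val) (ha j)
    simpa using this


lemma card_fun_le (R : Type u) [Infinite R] (ι : Type) [Fintype ι] : #(ι → R) ≤ #R := by
  rw [Cardinal.mk_arrow]
  simp only [Cardinal.mk_fintype, Cardinal.lift_natCast, Cardinal.lift_uzero]
  exact Cardinal.power_nat_le (Cardinal.aleph0_le_mk R)

lemma card_cert_le (R : Type u) [Infinite R] :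
    #(Σ (p : ℕ × ℕ), (Fin (p.1 + 2) → Fin p.2 → R)) ≤ #R := by
  rw [Cardinal.mk_sigma]
  calc Cardinal.sum (fun p : ℕ × ℕ => #(Fin (p.1 + 2) → Fin p.2 → R))
      ≤ Cardinal.sum (fun _ : ℕ × ℕ => #R) := by
        apply Cardinal.sum_le_sum
        intro p
        have e : (Fin (p.1 + 2) → Fin p.2 → R) ≃ (Fin (p.1 + 2) × Fin p.2 → R) :=
          (Equiv.curry _ _ _).symm
        rw [Cardinal.mk_congr e]
        exact card_fun_le R _
    _ = Cardinal.lift.{u} #(ℕ × ℕ) * Cardinal.lift.{0} #R := Cardinal.sum_const _ _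
    _ ≤ #R := by
        simp only [Cardinal.mk_prod, Cardinal.mk_eq_aleph0, Cardinal.lift_aleph0, Cardinal.lift_id,
          Cardinal.lift_mul, Cardinal.aleph0_mul_aleph0, Cardinal.lift_uzero]
        rw [Cardinal.aleph0_mul_eq (Cardinal.aleph0_le_mk R)]

theorem main (R S : Type u) [CommRing R] [CommRing S] [Algebra R S] [Algebra.IsEpi R S]
    [Infinite R] : Cardinal.mk S ≤ Cardinal.mk R := by
  choose k l a ha using exists_valid (R := R) (S := S)
  let f : S → Σ (p : ℕ × ℕ), (Fin (p.1 + 2) → Fin p.2 → R) := fun s => ⟨(k s, l s), a s⟩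
  have hf : Function.Injective f := by
    intro s s' h
    have h1 : (k s, l s) = (k s', l s') := congrArg Sigma.fst h
    have hk : k s = k s' := congrArg Prod.fst h1
    have hl : l s = l s' := congrArg Prod.snd h1
    have key : ∀ (k₁ l₁ k₂ l₂ : ℕ) (a₁ : Fin (k₁ + 2) → Fin l₁ → R) (a₂ : Fin (k₂ + 2) → Fin l₂ → R),
        (⟨(k₁, l₁), a₁⟩ : Σ (p : ℕ × ℕ), (Fin (p.1 + 2) → Fin p.2 → R)) = ⟨(k₂, l₂), a₂⟩ →
        Valid R S k₁ l₁ a₁ s → Valid R S k₂ l₂ a₂ s' → s = s' := by
      intro k₁ l₁ k₂ l₂ a₁ a₂ h v v'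
      have h1 : (k₁, l₁) = (k₂, l₂) := congrArg Sigma.fst h
      obtain ⟨rfl, rfl⟩ := Prod.mk.inj h1
      have := eq_of_heq (Sigma.mk.inj h).2
      subst this
      exact v.unique v'
    exact key _ _ _ _ _ _ h (ha s) (ha s')
  exact (Cardinal.mk_le_of_injective hf).trans (card_cert_le R)

end Groth.Agent.Helper3.EpiCard
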