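import Mathlib

/-!
# Lifting and uniqueness for formally smooth / unramified algebras, phrased with ring homs
-/

set_option autoImplicit false
universe u

namespace Groth.Agent.Helper3.EtLift

variable {S S' B : Type*} [CommRing S] [CommRing S'] [CommRing B] [Algebra S S']

/-- uniqueness of lifts for a formally unramified algebra, in ring hom form. -/
theorem ringHom_ext_of_nilpotent [Algebra.FormallyUnramified S S'] {C₀ : Type*} [CommRing C₀]
    (f : B →+* C₀) (hf : IsNilpotent (RingHom.ker f)) (β₁ β₂ : S' →+* B)
    (h0 : β₁.comp (algebraMap S S') = β₂.comp (algebraMap S S'))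
    (h : f.comp β₁ = f.comp β₂) : β₁ = β₂ := by
  letI : Algebra S B := (β₁.comp (algebraMap S S')).toAlgebra
  let g₁ : S' →ₐ[S] B := { β₁ with commutes' := fun s => rfl }
  let g₂ : S' →ₐ[S] B := { β₂ with commutes' := fun s => (RingHom.congr_fun h0 s).symm }
  have := Algebra.FormallyUnramified.ext' f hf g₁ g₂ (fun x => RingHom.congr_fun h x)
  ext x
  exact AlgHom.congr_fun this x

/-- existence of lifts for a formally smooth algebra, in ring hom form. -/
theorem exists_ringHom_lift [Algebra.FormallySmooth S S'] (ι : S →+* B) (ε : B →+* S')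
    (hε : Function.Surjective ε) (hnil : IsNilpotent (RingHom.ker ε))
    (hι : ε.comp ι = algebraMap S S') :
    ∃ b : S' →+* B, b.comp (algebraMap S S') = ι ∧ ε.comp b = RingHom.id S' := by
  letI : Algebra S B := ι.toAlgebra
  let εa : B →ₐ[S] S' := { ε with commutes' := fun s => RingHom.congr_fun hι s }
  have hεa : Function.Surjective εa := hε
  have hnil' : IsNilpotent (RingHom.ker (εa : B →+* S')) := hnil
  let b := Algebra.FormallySmooth.liftOfSurjective (AlgHom.id S S') εa hεa hnil'
  refine ⟨b.toRingHom, ?_, ?_⟩
  · ext s
    exact b.commutes s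
  · ext x
    exact Algebra.FormallySmooth.liftOfSurjective_apply (AlgHom.id S S') εa hεa hnil' x

end Groth.Agent.Helper3.EtLift
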