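import Mathlib
set_option autoImplicit false
universe u
open TensorProduct

namespace Groth.Agent.Helper3.EtNbhd
variable {R : Type u} [CommRing R] (p : Ideal R) [p.IsPrime]

/-- the `R`-algebra map `S → κ(p)` attached to a prime `q` over `p` with trivial residue extension. -/
noncomputable def toKappa (S : Type u) [CommRing S] [Algebra R S] (q : Ideal S) [q.IsPrime]
    (hq : p = q.comap (algebraMap R S))
    (hqκ : Function.Bijective (Ideal.ResidueField.map p q (algebraMap R S) hq)) :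
    S →ₐ[R] p.ResidueField where
  __ := ((RingEquiv.ofBijective _ hqκ).symm.toRingHom).comp (algebraMap S q.ResidueField)
  commutes' r := by
    simp only [RingHom.toMonoidHom_eq_coe, RingEquiv.toRingHom_eq_coe, OneHom.toFun_eq_coe,
      MonoidHom.toOneHom_coe, MonoidHom.coe_coe, RingHom.coe_comp, RingHom.coe_coe,
      Function.comp_apply]
    rw [RingEquiv.symm_apply_eq]
    simp

lemma toKappa_eq_zero_iff (S : Type u) [CommRing S] [Algebra R S] (q : Ideal S) [q.IsPrime]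
    (hq : p = q.comap (algebraMap R S))
    (hqκ : Function.Bijective (Ideal.ResidueField.map p q (algebraMap R S) hq)) (x : S) :
    toKappa p S q hq hqκ x = 0 ↔ x ∈ q := by
  show (RingEquiv.ofBijective _ hqκ).symm (algebraMap S q.ResidueField x) = 0 ↔ _
  rw [map_eq_zero_iff _ (RingEquiv.injective _), Ideal.algebraMap_residueField_eq_zero]

/-- general: a prime defined as the kernel of an `R`-algebra map to `κ(p)` has trivial residue
field extension. -/
theorem bijective_of_algHom (S : Type u) [CommRing S] [Algebra R S] (θ : S →ₐ[R] p.ResidueField) :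
    ∃ (_ : (RingHom.ker θ.toRingHom).IsPrime) (h : p = (RingHom.ker θ.toRingHom).comap (algebraMap R S)),
      Function.Bijective (Ideal.ResidueField.map p (RingHom.ker θ.toRingHom) (algebraMap R S) h) := by
  haveI : (RingHom.ker θ.toRingHom).IsPrime := RingHom.ker_isPrime _
  have h : p = (RingHom.ker θ.toRingHom).comap (algebraMap R S) := by
    ext r
    rw [Ideal.mem_comap, RingHom.mem_ker]
    show _ ↔ θ (algebraMap R S r) = 0
    rw [θ.commutes, Ideal.algebraMap_residueField_eq_zero]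
  refine ⟨inferInstance, h, ?_⟩
  let θbar : (RingHom.ker θ.toRingHom).ResidueField →+* p.ResidueField :=
    Ideal.ResidueField.lift _ θ.toRingHom le_rfl (by
      intro x hx
      simp only [Submonoid.mem_comap, IsUnit.mem_submonoid_iff]
      rw [isUnit_iff_ne_zero]
      exact hx)
  have hcomp : θbar.comp (Ideal.ResidueField.map p (RingHom.ker θ.toRingHom) (algebraMap R S) h) =
      RingHom.id _ := by
    apply Ideal.ResidueField.ringHom_ext
    ext r
    simp only [RingHom.comp_apply, Ideal.ResidueField.map_algebraMap, RingHom.id_apply, θbar,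
      Ideal.ResidueField.lift_algebraMap]
    exact θ.commutes r
  have hθinj : Function.Injective θbar := RingHom.injective _
  refine ⟨RingHom.injective _, fun y => ?_⟩
  refine ⟨θbar y, hθinj ?_⟩
  exact RingHom.congr_fun hcomp (θbar y)

theorem common {S₁ : Type u} [CommRing S₁] [Algebra R S₁] [Algebra.Etale R S₁] (q₁ : Ideal S₁)
    [q₁.IsPrime] (hq₁ : p = q₁.comap (algebraMap R S₁))
    (hq₁κ : Function.Bijective (Ideal.ResidueField.map p q₁ (algebraMap R S₁) hq₁))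
    {S₂ : Type u} [CommRing S₂] [Algebra R S₂] [Algebra.Etale R S₂] (q₂ : Ideal S₂) [q₂.IsPrime]
    (hq₂ : p = q₂.comap (algebraMap R S₂))
    (hq₂κ : Function.Bijective (Ideal.ResidueField.map p q₂ (algebraMap R S₂) hq₂)) :
    ∃ (S₃ : Type u) (_ : CommRing S₃) (_ : Algebra R S₃) (_ : Algebra.Etale R S₃) (q₃ : Ideal S₃)
      (_ : q₃.IsPrime) (hq₃ : p = q₃.comap (algebraMap R S₃)),
      Function.Bijective (Ideal.ResidueField.map p q₃ (algebraMap R S₃) hq₃) ∧
        ∃ (φ₁ : S₁ →ₐ[R] S₃) (φ₂ : S₂ →ₐ[R] S₃),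
          q₃.comap φ₁.toRingHom = q₁ ∧ q₃.comap φ₂.toRingHom = q₂ := by
  let θ₁ := toKappa p S₁ q₁ hq₁ hq₁κ
  let θ₂ := toKappa p S₂ q₂ hq₂ hq₂κ
  let θ : S₁ ⊗[R] S₂ →ₐ[R] p.ResidueField :=
    Algebra.TensorProduct.lift θ₁ θ₂ (fun _ _ => Commute.all _ _)
  haveI : Algebra.Etale R (S₁ ⊗[R] S₂) := Algebra.Etale.comp R S₁ (S₁ ⊗[R] S₂)
  obtain ⟨hprime, h, hbij⟩ := bijective_of_algHom p (S₁ ⊗[R] S₂) θ
  refine ⟨S₁ ⊗[R] S₂, inferInstance, inferInstance, inferInstance, RingHom.ker θ.toRingHom,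
    hprime, h, hbij, Algebra.TensorProduct.includeLeft, Algebra.TensorProduct.includeRight, ?_, ?_⟩
  · ext x
    rw [Ideal.mem_comap, RingHom.mem_ker, ← toKappa_eq_zero_iff p S₁ q₁ hq₁ hq₁κ]
    show θ (x ⊗ₜ 1) = 0 ↔ _
    simp [θ, θ₁]
  · ext x
    rw [Ideal.mem_comap, RingHom.mem_ker, ← toKappa_eq_zero_iff p S₂ q₂ hq₂ hq₂κ]
    show θ (1 ⊗ₜ x) = 0 ↔ _
    simp [θ, θ₂]


/-- two `R`-algebra maps `S₁ → κ(p)` with the same kernel `q₁` (of trivial residue extension)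
agree. -/
lemma algHom_eq_of_ker {S₁ : Type u} [CommRing S₁] [Algebra R S₁] (q₁ : Ideal S₁)
    [q₁.IsPrime] (hq₁ : p = q₁.comap (algebraMap R S₁))
    (hq₁κ : Function.Bijective (Ideal.ResidueField.map p q₁ (algebraMap R S₁) hq₁))
    (α β : S₁ →ₐ[R] p.ResidueField) (hα : RingHom.ker α.toRingHom = q₁)
    (hβ : RingHom.ker β.toRingHom = q₁) : α = β := by
  have hu : ∀ γ : S₁ →ₐ[R] p.ResidueField, RingHom.ker γ.toRingHom = q₁ →
      q₁.primeCompl ≤ (IsUnit.submonoid p.ResidueField).comap γ := by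
    intro γ hγ x hx
    simp only [Submonoid.mem_comap, IsUnit.mem_submonoid_iff]
    rw [isUnit_iff_ne_zero]
    intro h0
    exact hx (hγ ▸ (RingHom.mem_ker.mpr h0 : x ∈ RingHom.ker γ.toRingHom))
  let α' := Ideal.ResidueField.liftₐ q₁ α hα.ge (hu α hα)
  let β' := Ideal.ResidueField.liftₐ q₁ β hβ.ge (hu β hβ)
  let μ : p.ResidueField →ₐ[R] q₁.ResidueField :=
    { Ideal.ResidueField.map p q₁ (algebraMap R S₁) hq₁ with
      commutes' := fun r => by
        simp only [RingHom.toMonoidHom_eq_coe, OneHom.toFun_eq_coe, MonoidHom.toOneHom_coe,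
          MonoidHom.coe_coe, Ideal.ResidueField.map_algebraMap]
        exact (IsScalarTower.algebraMap_apply R S₁ q₁.ResidueField r).symm }
  have h1 : α'.comp μ = β'.comp μ := by
    apply Ideal.ResidueField.algHom_ext
    ext
  have h2 : ∀ y, α' y = β' y := by
    intro y
    obtain ⟨z, rfl⟩ := hq₁κ.2 y
    exact AlgHom.congr_fun h1 z
  ext x
  have := h2 (algebraMap S₁ q₁.ResidueField x)
  simpa [α', β'] using this

theorem coeq {S₁ : Type u} [CommRing S₁] [Algebra R S₁] [Algebra.Etale R S₁] (q₁ : Ideal S₁)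
    [q₁.IsPrime] (hq₁ : p = q₁.comap (algebraMap R S₁))
    (hq₁κ : Function.Bijective (Ideal.ResidueField.map p q₁ (algebraMap R S₁) hq₁))
    {S₂ : Type u} [CommRing S₂] [Algebra R S₂] [Algebra.Etale R S₂] (q₂ : Ideal S₂) [q₂.IsPrime]
    (hq₂ : p = q₂.comap (algebraMap R S₂))
    (hq₂κ : Function.Bijective (Ideal.ResidueField.map p q₂ (algebraMap R S₂) hq₂))
    (φ ψ : S₁ →ₐ[R] S₂) (hφ : q₂.comap φ.toRingHom = q₁) (hψ : q₂.comap ψ.toRingHom = q₁) :
    ∃ (S₃ : Type u) (_ : CommRing S₃) (_ : Algebra R S₃) (_ : Algebra.Etale R S₃) (q₃ : Ideal S₃)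
      (_ : q₃.IsPrime) (hq₃ : p = q₃.comap (algebraMap R S₃)),
      Function.Bijective (Ideal.ResidueField.map p q₃ (algebraMap R S₃) hq₃) ∧
        ∃ χ : S₂ →ₐ[R] S₃, q₃.comap χ.toRingHom = q₂ ∧ χ.comp φ = χ.comp ψ := by
  let θ₂ := toKappa p S₂ q₂ hq₂ hq₂κ
  have hθ₂ : ∀ x, θ₂ x = 0 ↔ x ∈ q₂ := toKappa_eq_zero_iff p S₂ q₂ hq₂ hq₂κ
  have hker : ∀ γ : S₁ →ₐ[R] S₂, q₂.comap γ.toRingHom = q₁ →
      RingHom.ker (θ₂.comp γ).toRingHom = q₁ := by
    intro γ hγ
    ext x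
    rw [RingHom.mem_ker, ← hγ, Ideal.mem_comap]
    exact hθ₂ (γ x)
  have hθφψ : θ₂.comp φ = θ₂.comp ψ :=
    algHom_eq_of_ker p q₁ hq₁ hq₁κ _ _ (hker φ hφ) (hker ψ hψ)
  -- the idempotent
  obtain ⟨e, he, hsp⟩ : ∃ e, IsIdempotentElem e ∧ KaehlerDifferential.ideal R S₁ = Ideal.span {e} :=
    (Ideal.isIdempotentElem_iff_of_fg _ (KaehlerDifferential.ideal_fg R S₁)).mp <|
      (Ideal.cotangent_subsingleton_iff _).mp <| inferInstanceAs <| Subsingleton Ω[S₁⁄R]
  let g : S₁ ⊗[R] S₁ →ₐ[R] S₂ := Algebra.TensorProduct.lift φ ψ (fun _ _ => Commute.all _ _)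
  have hge : IsIdempotentElem (g e) := he.map g
  let f : S₂ := 1 - g e
  have hf : IsIdempotentElem f := hge.one_sub
  have h1f : 1 - f = g e := sub_sub_cancel 1 (g e)
  -- θ₂ kills g e
  have hθg : θ₂.comp g = (θ₂.comp φ).comp (Algebra.TensorProduct.lmul' R) := by
    apply Algebra.TensorProduct.ext'
    intro a b
    simp only [AlgHom.comp_apply, g, Algebra.TensorProduct.lift_tmul, map_mul,
      Algebra.TensorProduct.lmul'_apply_tmul]
    rw [← AlgHom.comp_apply θ₂ ψ, ← hθφψ]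
    rfl
  have hθge : θ₂ (g e) = 0 := by
    have he' : e ∈ KaehlerDifferential.ideal R S₁ := hsp ▸ Ideal.mem_span_singleton_self e
    have : (Algebra.TensorProduct.lmul' R : S₁ ⊗[R] S₁ →ₐ[R] S₁) e = 0 := he'
    have h2 := AlgHom.congr_fun hθg e
    simp only [AlgHom.comp_apply, this, map_zero] at h2
    exact h2
  let J : Ideal S₂ := Ideal.span {1 - f}
  haveI : IsLocalization.Away f (S₂ ⧸ J) := IsLocalization.Away.quotient_of_isIdempotentElem hf
  haveI : Algebra.Etale S₂ (S₂ ⧸ J) := Algebra.Etale.of_isLocalizationAway f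
  haveI : Algebra.Etale R (S₂ ⧸ J) := Algebra.Etale.comp R S₂ (S₂ ⧸ J)
  have hJ : ∀ a ∈ J, θ₂ a = 0 := by
    intro a ha
    obtain ⟨c, rfl⟩ := Ideal.mem_span_singleton'.mp ha
    rw [map_mul, h1f, hθge, mul_zero]
  let θ₃ : (S₂ ⧸ J) →ₐ[R] p.ResidueField := Ideal.Quotient.liftₐ J θ₂ hJ
  obtain ⟨hprime, h, hbij⟩ := bijective_of_algHom p (S₂ ⧸ J) θ₃
  refine ⟨S₂ ⧸ J, inferInstance, inferInstance, inferInstance, RingHom.ker θ₃.toRingHom,
    hprime, h, hbij, Ideal.Quotient.mkₐ R J, ?_, ?_⟩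
  · ext x
    rw [Ideal.mem_comap, RingHom.mem_ker, ← hθ₂]
    rfl
  · ext s
    simp only [AlgHom.comp_apply, Ideal.Quotient.mkₐ_eq_mk]
    rw [Ideal.Quotient.eq]
    have h3 : (1 : S₁) ⊗ₜ[R] s - s ⊗ₜ[R] (1 : S₁) ∈ Ideal.span {e} :=
      hsp ▸ KaehlerDifferential.one_smul_sub_smul_one_mem_ideal R s
    obtain ⟨c, hc⟩ := Ideal.mem_span_singleton'.mp h3
    have h4 : φ s - ψ s = -(g c) * (1 - f) := by
      rw [h1f, neg_mul, ← map_mul, hc, map_sub]
      simp [g]
    rw [h4]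
    exact Ideal.mul_mem_left _ _ (Ideal.mem_span_singleton_self _)

end Groth.Agent.Helper3.EtNbhd
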