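import Mathlib
import Groth.Prelude.Def_Grpd
import Groth.Prelude.Def_SGA1
import Groth.Agent.Lib.Helper3.AG2
import Groth.Agent.Lib.Helper18.GrpdPair
import Groth.Agent.Lib.Helper18.GrpFppf2

/-!
# Quotients of étale schemes by finite groups (helper3)

Let `p : X ⟶ X'` be a quotient of `X` by a finite group `G` (SGA 1 V), with `p` finite and
formally unramified (e.g. `X` étale over some base through `X'`).  Then the graph sections
`γ_g = (id, g) : X ⟶ X ×_{X'} X` are open immersions covering `X ×_{X'} X`; hence the kernel pair of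
`p` is a finite étale equivalence relation and `p` is flat, lfp (by the quotient theorem
`GQ8.of_isColimit`).  If moreover `p ≫ q` is étale, `q` is formally unramified (fpqc descent of
the open immersion `Δ_q`).
-/

set_option autoImplicit false
set_option linter.style.haveILetI false
set_option linter.unusedSectionVars false
universe u

open CategoryTheory CategoryTheory.Limits AlgebraicGeometry
open Grpd

namespace Groth.Agent.Helper3.EtQuot

open Groth.Agent.Helper3.AG1 Groth.Agent.Helper18.GrpdPair

variable {X X' : Scheme.{u}} {G : Type u} [Group G] (ρ : G →* Aut X) (p : X ⟶ X')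

section Gamma

variable (hinv : ∀ g : G, (ρ g).hom ≫ p = p)

/-- the graph section `x ↦ (x, g x)` of `X ×_{X'} X → X` -/
noncomputable def γ (g : G) : X ⟶ pullback p p :=
  pullback.lift (𝟙 X) (ρ g).hom (by rw [Category.id_comp, hinv g])

@[reassoc] theorem γ_fst (g : G) : γ ρ p hinv g ≫ pullback.fst p p = 𝟙 X :=
  pullback.lift_fst _ _ _

@[reassoc] theorem γ_snd (g : G) : γ ρ p hinv g ≫ pullback.snd p p = (ρ g).hom :=
  pullback.lift_snd _ _ _

theorem isOpenImmersion_γ [LocallyOfFiniteType p] [FormallyUnramified p] (g : G) :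
    IsOpenImmersion (γ ρ p hinv g) := by
  haveI : LocallyOfFiniteType (pullback.fst p p) :=
    MorphismProperty.pullback_fst (P := @LocallyOfFiniteType) p p inferInstance
  haveI : FormallyUnramified (pullback.fst p p) :=
    MorphismProperty.pullback_fst (P := @FormallyUnramified) p p inferInstance
  haveI : Etale (γ ρ p hinv g ≫ pullback.fst p p) := by
    rw [γ_fst]; infer_instance
  haveI : Etale (γ ρ p hinv g) := Etale.of_comp (γ ρ p hinv g) (pullback.fst p p)
  haveI : Mono (γ ρ p hinv g) := mono_of_mono_fac (γ_fst ρ p hinv g)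
  obtain ⟨h1, -, h3⟩ := Etale.iff_flat_and_formallyUnramified.mp ‹Etale (γ ρ p hinv g)›
  exact IsOpenImmersion.of_flat_of_mono _

end Gamma

theorem mono_j_pair : Mono (pair p).j := by
  apply Groth.Agent.Helper3.GQ1.mono_j_of_forall
  intro T a b ht hs
  exact pullback.hom_ext ht hs

theorem mono_mapDesc {Y : Scheme.{u}} (q : X' ⟶ Y) : Mono (pullback.mapDesc p p q) := by
  constructor
  intro T a b hab
  apply pullback.hom_ext
  · have := congrArg (fun m => m ≫ pullback.fst (p ≫ q) (p ≫ q)) hab
    simpa only [Category.assoc, pullback.lift_fst, Category.comp_id] using this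
  · have := congrArg (fun m => m ≫ pullback.snd (p ≫ q) (p ≫ q)) hab
    simpa only [Category.assoc, pullback.lift_snd, Category.comp_id] using this

section Quot

variable [Finite G] (hp : SGA1.IsQuot ρ p)
include hp

/-- the graphs cover `X ×_{X'} X` -/
theorem exists_γ_eq (z : ↥(pullback p p)) :
    ∃ (g : G) (x : X), (γ ρ p hp.inv g) x = z := by
  have hb := Groth.Agent.Helper3.AG2.hb_of_isQuot ρ p hp
  obtain ⟨Q, P, hw, hsurj, e, hpe⟩ : ∃ (Q : Scheme.{u}) (P : X ⟶ Q)
      (hw : t ρ ≫ P = s ≫ P),
      Function.Surjective (pullback.lift (t ρ) s hw : RR X G ⟶ pullback P P) ∧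
      ∃ e : Q ≅ X', P ≫ e.hom = p :=
    ⟨Groth.Agent.Helper3.GQ5.Y (act ρ), Groth.Agent.Helper3.GQ5.p hb,
      Groth.Agent.Helper3.GQ5.w hb, Groth.Agent.Helper3.GQ6.surjective_lift hb,
      (Groth.Agent.Helper3.GQ6.isColimit hb).coconePointUniqueUpToIso
        (Groth.Agent.Helper3.AG2.isColimit_of_isQuot ρ p hp),
      (Groth.Agent.Helper3.GQ6.isColimit hb).comp_coconePointUniqueUpToIso_hom
        (Groth.Agent.Helper3.AG2.isColimit_of_isQuot ρ p hp) WalkingParallelPair.one⟩
  have hcond : pullback.fst p p ≫ P = pullback.snd p p ≫ P := by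
    rw [← cancel_mono e.hom, Category.assoc, Category.assoc, hpe, pullback.condition]
  have hcond' : pullback.fst P P ≫ p = pullback.snd P P ≫ p := by
    rw [← hpe, pullback.condition_assoc]
  obtain ⟨r, hr⟩ := hsurj ((pullback.lift _ _ hcond : pullback p p ⟶ pullback P P) z)
  obtain ⟨g, y, rfl⟩ := exists_ι_eq r
  refine ⟨g⁻¹, (ρ g).hom y, ?_⟩
  have key : ι g ≫ (pullback.lift (t ρ) s hw : RR X G ⟶ pullback P P) ≫
      (pullback.lift _ _ hcond' : pullback P P ⟶ pullback p p) =
      (ρ g).hom ≫ γ ρ p hp.inv g⁻¹ := by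
    apply pullback.hom_ext
    · simp only [Category.assoc, pullback.lift_fst, γ_fst, Category.comp_id]
      exact ι_t ρ g
    · simp only [Category.assoc, pullback.lift_snd, γ_snd, ρ_comp_inv]
      exact ι_s g
  have hφψ : (pullback.lift _ _ hcond : pullback p p ⟶ pullback P P) ≫
      (pullback.lift _ _ hcond' : pullback P P ⟶ pullback p p) = 𝟙 _ := by
    apply pullback.hom_ext
    · simp only [Category.assoc, pullback.lift_fst, Category.id_comp]
    · simp only [Category.assoc, pullback.lift_snd, Category.id_comp]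
  have h2 : (ι g ≫ (pullback.lift (t ρ) s hw : RR X G ⟶ pullback P P) ≫
      (pullback.lift _ _ hcond' : pullback P P ⟶ pullback p p)) y =
      ((pullback.lift _ _ hcond : pullback p p ⟶ pullback P P) ≫
        (pullback.lift _ _ hcond' : pullback P P ⟶ pullback p p)) z := by
    simp only [Scheme.Hom.comp_apply]
    rw [hr]
  rw [key, hφψ, Scheme.Hom.comp_apply] at h2
  exact h2

/-- the cover of `X ×_{X'} X` by the graphs -/
noncomputable def cov [LocallyOfFiniteType p] [FormallyUnramified p] :
    (pullback p p).OpenCover where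
  I₀ := G
  X _ := X
  f g := γ ρ p hp.inv g
  mem₀ := by
    rw [Scheme.presieve₀_mem_precoverage_iff]
    refine ⟨fun z ↦ ?_, fun g => isOpenImmersion_γ ρ p hp.inv g⟩
    obtain ⟨g, x, hx⟩ := exists_γ_eq ρ p hp z
    exact ⟨g, x, hx⟩

theorem etale_fst [LocallyOfFiniteType p] [FormallyUnramified p] :
    Etale (pullback.fst p p) :=
  IsZariskiLocalAtSource.of_openCover (P := @Etale) (cov ρ p hp) (fun g => by
    show Etale (γ ρ p hp.inv g ≫ pullback.fst p p)
    rw [γ_fst]; infer_instance)

theorem etale_snd [LocallyOfFiniteType p] [FormallyUnramified p] :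
    Etale (pullback.snd p p) :=
  IsZariskiLocalAtSource.of_openCover (P := @Etale) (cov ρ p hp) (fun g => by
    show Etale (γ ρ p hp.inv g ≫ pullback.snd p p)
    rw [γ_snd]; infer_instance)

theorem hb_pair : Groth.Agent.Helper3.GQ5.Hb (pair p) := by
  intro (x : X)
  haveI := hp.affine
  have hV : IsAffineOpen (X'.affineCover.f (X'.affineCover.idx (p x))).opensRange :=
    isAffineOpen_opensRange _
  have hxV : p x ∈ (X'.affineCover.f (X'.affineCover.idx (p x))).opensRange :=
    X'.affineCover.covers (p x)
  refine ⟨p ⁻¹ᵁ (X'.affineCover.f (X'.affineCover.idx (p x))).opensRange, hV.preimage p,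
    fun (r : ↥(pullback p p)) hr => ?_⟩
  have hr' : (pullback.snd p p) r = x := hr
  show p ((pullback.fst p p) r) ∈ (X'.affineCover.f (X'.affineCover.idx (p x))).opensRange
  rw [← Scheme.Hom.comp_apply, pullback.condition, Scheme.Hom.comp_apply, hr']
  exact hxV

/-- `p` is the coequalizer of its kernel pair -/
noncomputable def isColimit_pair (w : (pair p).t ≫ p = (pair p).s ≫ p) :
    IsColimit (Cofork.ofπ p w) :=
  Cofork.IsColimit.ofExistsUnique (fun k =>
    Groth.Agent.Helper21.GQuot2.universal ρ p hp _ k.π (fun g => by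
      have h' : pullback.fst p p ≫ k.π = pullback.snd p p ≫ k.π := k.condition
      calc (ρ g).hom ≫ k.π = γ ρ p hp.inv g ≫ pullback.snd p p ≫ k.π := by rw [γ_snd_assoc]
        _ = γ ρ p hp.inv g ≫ pullback.fst p p ≫ k.π := by rw [h']
        _ = k.π := by rw [γ_fst_assoc]))

/-- **the quotient map is flat** -/
theorem flat_lfp [IsFinite p] [FormallyUnramified p] :
    Flat p ∧ LocallyOfFinitePresentation p := by
  have hs := etale_snd ρ p hp
  obtain ⟨hs1, -, hs3⟩ := Etale.iff_flat_and_formallyUnramified.mp hs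
  haveI : IsFinite (pair p).s :=
    MorphismProperty.pullback_snd (P := @IsFinite) p p inferInstance
  haveI : Flat (pair p).s := hs1
  haveI : LocallyOfFinitePresentation (pair p).s := hs3
  haveI : Mono (pair p).j := mono_j_pair p
  have w : (pair p).t ≫ p = (pair p).s ≫ p := by
    show pullback.fst p p ≫ p = pullback.snd p p ≫ p
    exact pullback.condition
  obtain ⟨-, -, hflat, hlfp⟩ := Groth.Agent.Helper3.GQ8.of_isColimit (hb_pair ρ p hp) p w
    (isColimit_pair ρ p hp w)
  exact ⟨hflat, hlfp⟩

/-- if `p ≫ q` is étale then `q` is formally unramified -/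
theorem formallyUnramified_of_comp {Y : Scheme.{u}} (q : X' ⟶ Y) [Etale (p ≫ q)]
    [IsFinite p] [Flat p] [Surjective p] : FormallyUnramified q := by
  haveI : FormallyUnramified p := FormallyUnramified.of_comp p q
  have hfst : Etale (pullback.fst p p) := etale_fst ρ p hp
  have hfac : pullback.mapDesc p p q ≫ pullback.fst (p ≫ q) (p ≫ q) = pullback.fst p p := by
    simp only [pullback.lift_fst, Category.comp_id]
  haveI : Etale (pullback.mapDesc p p q ≫ pullback.fst (p ≫ q) (p ≫ q)) := by
    rw [hfac]; exact hfst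
  haveI : Etale (pullback.mapDesc p p q) :=
    MorphismProperty.of_postcomp (W := @Etale) (W' := @Etale) (pullback.mapDesc p p q)
      (pullback.fst (p ≫ q) (p ≫ q)) inferInstance inferInstance
  haveI : Mono (pullback.mapDesc p p q) := mono_mapDesc p q
  obtain ⟨h1, -, h3⟩ := Etale.iff_flat_and_formallyUnramified.mp ‹Etale (pullback.mapDesc p p q)›
  have hoi : IsOpenImmersion (pullback.mapDesc p p q) := IsOpenImmersion.of_flat_of_mono _
  have hS : Surjective (pullback.map (p ≫ q) (p ≫ q) q q p p (𝟙 Y)
      (Category.comp_id _) (Category.comp_id _)) :=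
    MorphismProperty.pullbackMap (P := @Surjective) ‹Surjective p› ‹Surjective p› rfl rfl
  have hF : Flat (pullback.map (p ≫ q) (p ≫ q) q q p p (𝟙 Y)
      (Category.comp_id _) (Category.comp_id _)) :=
    MorphismProperty.pullbackMap (P := @Flat) ‹Flat p› ‹Flat p› rfl rfl
  have hQC : QuasiCompact (pullback.map (p ≫ q) (p ≫ q) q q p p (𝟙 Y)
      (Category.comp_id _) (Category.comp_id _)) :=
    MorphismProperty.pullbackMap (P := @QuasiCompact) (inferInstance : QuasiCompact p)
      (inferInstance : QuasiCompact p) rfl rfl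
  haveI : IsOpenImmersion (pullback.diagonal q) :=
    MorphismProperty.of_isPullback_of_descendsAlong (P := @IsOpenImmersion)
      (Q := @Surjective ⊓ @Flat ⊓ @QuasiCompact)
      (pullback_map_diagonal_isPullback p p q).flip ⟨⟨hS, hF⟩, hQC⟩ hoi
  infer_instance

end Quot

end Groth.Agent.Helper3.EtQuot
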