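import Mathlib

/-!
# Etale algebras over Dedekind domains (helper3)

`main`: an etale algebra over a Dedekind domain is a finite product of Dedekind domains and its
local rings at maximal ideals are DVRs unless they are fields.
-/

open IsLocalRing

universe u

namespace Groth.Agent.Helper3.EtaleDedekind


theorem exists_unit_mul_pow {S : Type*} [CommRing S] [IsLocalRing S] [IsNoetherianRing S]
    (π : S) (hπ : maximalIdeal S = Ideal.span {π}) (x : S) (hx : x ≠ 0) :
    ∃ (n : ℕ) (u : Sˣ), x = u * π ^ n := by
  classical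
  have hk : ⨅ i, maximalIdeal S ^ i = ⊥ :=
    Ideal.iInf_pow_eq_bot_of_isLocalRing _ (maximalIdeal.isMaximal S).ne_top
  have hex : ∃ n, x ∉ maximalIdeal S ^ n := by
    by_contra hcon
    push Not at hcon
    apply hx
    have : x ∈ ⨅ i, maximalIdeal S ^ i := by
      simp only [Ideal.mem_iInf]; exact hcon
    rw [hk] at this
    simpa using this
  let n := Nat.find hex
  have hn : x ∉ maximalIdeal S ^ n := Nat.find_spec hex
  have hn0 : n ≠ 0 := by
    intro h0
    rw [h0, pow_zero] at hn
    exact hn (by rw [Ideal.one_eq_top]; exact Submodule.mem_top)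
  obtain ⟨m, hm⟩ := Nat.exists_eq_succ_of_ne_zero hn0
  have hm' : x ∈ maximalIdeal S ^ m := by
    by_contra hcon
    have := Nat.find_min' hex hcon
    omega
  rw [hπ, Ideal.span_singleton_pow, Ideal.mem_span_singleton'] at hm'
  obtain ⟨y, hy⟩ := hm'
  have hyu : IsUnit y := by
    by_contra hyn
    have hym : y ∈ maximalIdeal S := hyn
    apply hn
    rw [hm, pow_succ', ← hy]
    refine Ideal.mul_mem_mul hym ?_
    rw [hπ, Ideal.span_singleton_pow]; exact Ideal.mem_span_singleton_self _
  exact ⟨m, hyu.unit, by simp [hy]⟩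

theorem dvr_of_principal {S : Type*} [CommRing S] [IsLocalRing S] [IsNoetherianRing S]
    (π : S) (hπ : maximalIdeal S = Ideal.span {π}) (hreg : IsSMulRegular S π) :
    ∃ _ : IsDomain S, IsDiscreteValuationRing S := by
  have hpow : ∀ n : ℕ, π ^ n ≠ 0 := by
    intro n h0
    have : IsSMulRegular S (π ^ n) := hreg.pow n
    have h1 : (π ^ n) • (1 : S) = (π ^ n) • (0 : S) := by simp [h0]
    exact one_ne_zero (this h1)
  have hnzd : NoZeroDivisors S := by
    constructor
    intro a b hab
    by_contra hcon
    push Not at hcon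
    obtain ⟨n, u, rfl⟩ := exists_unit_mul_pow π hπ a hcon.1
    obtain ⟨m, v, rfl⟩ := exists_unit_mul_pow π hπ b hcon.2
    apply hpow (n + m)
    have : (u * v : S) * π ^ (n + m) = 0 := by rw [← hab]; ring
    rwa [← Units.val_mul, Units.mul_right_eq_zero] at this
  have hdom : IsDomain S := NoZeroDivisors.to_isDomain S
  refine ⟨hdom, ?_⟩
  have hnf : ¬ IsField S := by
    rw [IsLocalRing.isField_iff_maximalIdeal_eq, hπ]
    intro h
    rw [Ideal.span_singleton_eq_bot] at h
    exact hpow 1 (by simpa using h)
  have h4 : (maximalIdeal S).IsPrincipal := ⟨⟨π, hπ⟩⟩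
  exact ((IsDiscreteValuationRing.TFAE S hnf).out 0 4).mpr h4



theorem loc_domain {A B : Type*} [CommRing A] [IsDedekindDomain A] [CommRing B] [Algebra A B]
    [Module.Flat A B] [Algebra.FormallyUnramified A B] [Algebra.EssFiniteType A B]
    [IsNoetherianRing B] (q : Ideal B) [q.IsPrime] :
    ∃ _ : IsDomain (Localization.AtPrime q),
      (IsField (Localization.AtPrime q) ∨ IsDiscreteValuationRing (Localization.AtPrime q)) := by
  let p := q.under A
  haveI : q.LiesOver p := Ideal.over_under (A := A) q
  letI := Localization.AtPrime.algebraOfLiesOver p q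
  haveI : Algebra.FormallyUnramified B (Localization.AtPrime q) :=
    Algebra.FormallyUnramified.of_isLocalization q.primeCompl
  haveI : Algebra.FormallyUnramified A (Localization.AtPrime q) :=
    Algebra.FormallyUnramified.comp A B _
  haveI : Algebra.FormallyUnramified (Localization.AtPrime p) (Localization.AtPrime q) :=
    Algebra.FormallyUnramified.of_restrictScalars A _ _
  haveI : Algebra.EssFiniteType B (Localization.AtPrime q) :=
    Algebra.EssFiniteType.of_isLocalization _ q.primeCompl
  haveI : Algebra.EssFiniteType A (Localization.AtPrime q) :=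
    Algebra.EssFiniteType.comp A B _
  haveI : Algebra.EssFiniteType (Localization.AtPrime p) (Localization.AtPrime q) :=
    Algebra.EssFiniteType.of_comp A _ _
  haveI : IsLocalHom (algebraMap (Localization.AtPrime p) (Localization.AtPrime q)) :=
    Localization.isLocalHom_localRingHom _ _ _ _
  haveI : IsNoetherianRing (Localization.AtPrime q) :=
    IsLocalization.isNoetherianRing q.primeCompl _ inferInstance
  have hmap : (maximalIdeal (Localization.AtPrime p)).map
      (algebraMap (Localization.AtPrime p) (Localization.AtPrime q)) =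
      maximalIdeal (Localization.AtPrime q) :=
    Algebra.FormallyUnramified.map_maximalIdeal
  by_cases hp : p = ⊥
  · have h1 : maximalIdeal (Localization.AtPrime p) = ⊥ := by
      rw [← Localization.AtPrime.map_eq_maximalIdeal]
      exact le_bot_iff.mp ((Ideal.map_mono hp.le).trans Ideal.map_bot.le)
    rw [h1, Ideal.map_bot] at hmap
    have hf : IsField (Localization.AtPrime q) :=
      IsLocalRing.isField_iff_maximalIdeal_eq.mpr hmap.symm
    exact ⟨hf.isDomain, Or.inl hf⟩
  · haveI : IsDiscreteValuationRing (Localization.AtPrime p) :=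
      IsLocalization.AtPrime.isDiscreteValuationRing_of_dedekind_domain A hp _
    obtain ⟨π, hπ⟩ := IsDiscreteValuationRing.exists_irreducible (Localization.AtPrime p)
    have hm := hπ.maximalIdeal_eq
    have hreg : IsSMulRegular (Localization.AtPrime p) π := by
      intro a b h
      exact mul_left_cancel₀ hπ.ne_zero h
    have hreg' : IsSMulRegular (Localization.AtPrime q)
        (algebraMap (Localization.AtPrime p) (Localization.AtPrime q) π) := hreg.of_flat
    rw [hm, Ideal.map_span, Set.image_singleton] at hmap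
    obtain ⟨hd, hdvr⟩ := dvr_of_principal _ hmap.symm hreg'
    exact ⟨hd, Or.inr hdvr⟩



theorem minimalPrime_eq_ker {B : Type*} [CommRing B] (q : Ideal B) [q.IsPrime]
    [IsDomain (Localization.AtPrime q)] (P : Ideal B) (hP : P ∈ minimalPrimes B) (hPq : P ≤ q) :
    P = RingHom.ker (algebraMap B (Localization.AtPrime q)) := by
  have hK : (RingHom.ker (algebraMap B (Localization.AtPrime q))).IsPrime := RingHom.ker_isPrime _
  have hKP : RingHom.ker (algebraMap B (Localization.AtPrime q)) ≤ P := by
    intro x hx
    rw [RingHom.mem_ker, IsLocalization.map_eq_zero_iff q.primeCompl] at hx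
    obtain ⟨s, hs⟩ := hx
    have h0 : (s : B) * x ∈ P := by rw [hs]; exact P.zero_mem
    have hPp : P.IsPrime := hP.1.1
    rcases hPp.mem_or_mem h0 with h | h
    · exact absurd (hPq h) s.2
    · exact h
  exact le_antisymm (hP.2 ⟨hK, bot_le⟩ hKP) hKP

theorem minimalPrimes_coprime {B : Type*} [CommRing B]
    (h : ∀ (q : Ideal B) [q.IsMaximal], IsDomain (Localization.AtPrime q))
    (P P' : Ideal B) (hP : P ∈ minimalPrimes B) (hP' : P' ∈ minimalPrimes B) (hne : P ≠ P') :
    IsCoprime P P' := by
  rw [Ideal.isCoprime_iff_sup_eq]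
  by_contra hcon
  obtain ⟨q, hq, hle⟩ := Ideal.exists_le_maximal _ hcon
  haveI := h q
  apply hne
  rw [minimalPrime_eq_ker q P hP (le_sup_left.trans hle),
    minimalPrime_eq_ker q P' hP' (le_sup_right.trans hle)]

theorem exists_prod {B : Type u} [CommRing B] [IsNoetherianRing B]
    (h : ∀ (q : Ideal B) [q.IsMaximal], IsDomain (Localization.AtPrime q)) :
    ∃ (n : ℕ) (P : Fin n → Ideal B), (∀ i, (P i).IsPrime) ∧ Pairwise (Function.onFun IsCoprime P) ∧
      ⨅ i, P i = ⊥ := by
  have hred : IsReduced B := isReduced_ofLocalizationMaximal B (fun J hJ => by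
    haveI := hJ
    haveI := h J
    infer_instance)
  have hfin : (minimalPrimes B).Finite := minimalPrimes.finite_of_isNoetherianRing B
  haveI : Finite (minimalPrimes B) := hfin
  obtain ⟨n, ⟨e⟩⟩ := Finite.exists_equiv_fin (minimalPrimes B)
  refine ⟨n, fun i => (e.symm i).1, fun i => (e.symm i).2.1.1, ?_, ?_⟩
  · intro i j hij
    apply minimalPrimes_coprime h _ _ (e.symm i).2 (e.symm j).2
    intro heq
    exact hij (e.symm.injective (Subtype.ext heq))
  · have h1 : sInf (minimalPrimes B) = ⊥ := by
      rw [minimalPrimes, Ideal.sInf_minimalPrimes]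
      exact nilradical_eq_zero B
    rw [← h1]
    apply le_antisymm
    · apply le_sInf
      intro P hP
      exact (iInf_le _ (e ⟨P, hP⟩)).trans (by simp)
    · apply le_iInf
      intro i
      exact sInf_le (e.symm i).2



theorem isDedekindDomain_of {A D : Type*} [CommRing A] [IsDedekindDomain A] [CommRing D]
    [IsDomain D] [Algebra A D]
    [Module.Flat A D] [Algebra.FormallyUnramified A D] [Algebra.EssFiniteType A D]
    [IsNoetherianRing D] : IsDedekindDomain D := by
  haveI : IsDedekindDomainDvr D := by
    refine { toIsNoetherian := inferInstance, is_dvr_at_nonzero_prime := fun P hP hPp => ?_ }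
    haveI := hPp
    obtain ⟨hd, hf | hdvr⟩ := loc_domain (A := A) P
    · exact absurd hf (IsLocalization.AtPrime.not_isField D hP _)
    · exact hdvr
  infer_instance

theorem main (A B : Type u) [CommRing A] [IsDedekindDomain A] [CommRing B] [Algebra A B]
    [Algebra.Etale A B] :
    (∃ (n : ℕ) (D : Fin n → Type u) (_ : ∀ i, CommRing (D i)) (_ : ∀ i, IsDedekindDomain (D i)),
      Nonempty (B ≃+* ∀ i, D i)) ∧
    ∀ (q : Ideal B) [q.IsMaximal], ¬ IsField (Localization.AtPrime q) →
      ∃ _ : IsDomain (Localization.AtPrime q),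
        IsDiscreteValuationRing (Localization.AtPrime q) := by
  haveI : Algebra.FiniteType A B := inferInstance
  haveI : IsNoetherianRing B := Algebra.FiniteType.isNoetherianRing A B
  haveI : Module.Flat A B := inferInstance
  haveI : Algebra.FormallyUnramified A B := inferInstance
  haveI : Algebra.EssFiniteType A B := inferInstance
  refine ⟨?_, ?_⟩
  · obtain ⟨n, P, hPp, hcop, hinf⟩ := exists_prod (B := B) (fun q _ => (loc_domain (A := A) q).1)
    let ψ : B →ₐ[A] ∀ i, B ⧸ P i := AlgHom.pi (fun i => Ideal.Quotient.mkₐ A (P i))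
    have hψ : Function.Bijective ψ := by
      constructor
      · have : Function.Injective (ψ : B →+* ∀ i, B ⧸ P i) := by
          rw [RingHom.injective_iff_ker_eq_bot]
          have : (ψ : B →+* ∀ i, B ⧸ P i) = RingHom.pi fun i => Ideal.Quotient.mk (P i) := rfl
          rw [this, Ideal.ker_Pi_Quotient_mk, hinf]
        exact this
      · intro x
        obtain ⟨r, hr⟩ := Ideal.pi_quotient_surjective hcop x
        exact ⟨r, funext hr⟩
    let e : B ≃ₐ[A] ∀ i, B ⧸ P i := AlgEquiv.ofBijective ψ hψ
    haveI : Module.Flat A (∀ i, B ⧸ P i) := Module.Flat.of_linearEquiv e.toLinearEquiv.symm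
    have hflat : ∀ i, Module.Flat A (B ⧸ P i) := by
      classical
      intro i
      refine Module.Flat.of_retract (LinearMap.single A (fun i => B ⧸ P i) i) (LinearMap.proj i) ?_
      ext x
      simp
    refine ⟨n, fun i => B ⧸ P i, fun i => inferInstance, fun i => ?_, ⟨e.toRingEquiv⟩⟩
    haveI := hPp i
    haveI := hflat i
    haveI : Algebra.FormallyUnramified B (B ⧸ P i) := .quotient _
    haveI : Algebra.FormallyUnramified A (B ⧸ P i) := .comp A B _
    haveI : Algebra.FiniteType A (B ⧸ P i) :=
      Algebra.FiniteType.of_surjective (Ideal.Quotient.mkₐ A (P i)) Ideal.Quotient.mk_surjective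
    exact isDedekindDomain_of (A := A)
  · intro q hq hnf
    obtain ⟨hd, hf | hdvr⟩ := loc_domain (A := A) q
    · exact absurd hf hnf
    · exact ⟨hd, hdvr⟩

end Groth.Agent.Helper3.EtaleDedekind
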