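import Mathlib

set_option autoImplicit false

universe u

open TensorProduct

namespace Groth.Agent.Helper3.EtaleLift

variable {A : Type u} [CommRing A] (I : Ideal A)

/-- A surjective algebra map from an étale algebra to the base has kernel generated by an
idempotent. -/
theorem exists_idempotent_ker {A₀ B : Type u} [CommRing A₀] [CommRing B] [Algebra A₀ B]
    [Algebra.Etale A₀ B] (σ : B →ₐ[A₀] A₀) :
    ∃ e : B, IsIdempotentElem e ∧ RingHom.ker σ.toRingHom = Ideal.span {e} := by
  have hsurj : Function.Surjective σ := fun x => ⟨algebraMap A₀ B x, σ.commutes x⟩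
  let _ : Algebra B A₀ := σ.toRingHom.toAlgebra
  have : IsScalarTower A₀ B A₀ := IsScalarTower.of_algebraMap_eq fun x => (σ.commutes x).symm
  have h1 : Algebra.FormallyEtale B A₀ :=
    (Algebra.FormallyEtale.iff_restrictScalars (R := A₀) (A := B) (B := A₀)).mp inferInstance
  have h2 : IsIdempotentElem (RingHom.ker (algebraMap B A₀)) :=
    (Algebra.FormallyEtale.iff_of_surjective (R := B) (S := A₀) hsurj).mp h1
  have hfg : (RingHom.ker σ.toRingHom).FG :=
    Algebra.FinitePresentation.ker_fG_of_surjective σ hsurj
  exact (Ideal.isIdempotentElem_iff_of_fg _ hfg).mp h2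

/-- Key lemma: an étale `A`-algebra `R'` with an `A`-algebra map to `A/I` can be localized at one
element so that it becomes an isomorphism modulo `I`. -/
theorem exists_away (R' : Type u) [CommRing R'] [Algebra A R'] [Algebra.Etale A R']
    (φ : R' →ₐ[A] A ⧸ I) :
    ∃ a : R', Function.Bijective (algebraMap (A ⧸ I)
        (Localization.Away a ⧸ I.map (algebraMap A (Localization.Away a)))) ∧
      ∀ x : R', algebraMap (A ⧸ I)
        (Localization.Away a ⧸ I.map (algebraMap A (Localization.Away a))) (φ x) =
          Ideal.Quotient.mk _ (algebraMap R' (Localization.Away a) x) := by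
  classical
  let B := R' ⧸ I.map (algebraMap A R')
  let mkB : R' →+* B := Ideal.Quotient.mk _
  have : Algebra.Etale (A ⧸ I) B :=
    Algebra.Etale.of_equiv (Algebra.TensorProduct.quotIdealMapEquivQuotTensor R' I).symm
  have hφI : ∀ x ∈ I.map (algebraMap A R'), φ x = 0 := by
    intro x hx
    have : I.map (algebraMap A R') ≤ RingHom.ker φ.toRingHom := by
      rw [Ideal.map_le_iff_le_comap]
      intro i hi
      rw [Ideal.mem_comap, RingHom.mem_ker]
      show φ (algebraMap A R' i) = 0
      rw [φ.commutes, Ideal.Quotient.algebraMap_eq, Ideal.Quotient.eq_zero_iff_mem]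
      exact hi
    exact this hx
  let σ : B →ₐ[A ⧸ I] A ⧸ I :=
    { toRingHom := Ideal.Quotient.lift _ φ.toRingHom hφI
      commutes' := by
        intro r
        obtain ⟨r, rfl⟩ := Ideal.Quotient.mk_surjective r
        show φ (algebraMap A R' r) = _
        rw [φ.commutes]
        rfl }
  have hσ : ∀ x : R', σ (mkB x) = φ x := fun x => rfl
  obtain ⟨e, he, hker⟩ := exists_idempotent_ker σ
  have hσe : σ e = 0 := by
    have : e ∈ RingHom.ker σ.toRingHom := by rw [hker]; exact Ideal.subset_span rfl
    exact this
  obtain ⟨a, ha⟩ := Ideal.Quotient.mk_surjective (1 - e)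
  have hφa : φ a = 1 := by
    rw [← hσ a]
    show σ (Ideal.Quotient.mk _ a) = 1
    rw [ha, map_sub, map_one, hσe, sub_zero]
  refine ⟨a, ?_⟩
  let A' := Localization.Away a
  let IA' := I.map (algebraMap A A')
  let ψ : A' →ₐ[A] A ⧸ I := IsLocalization.liftAlgHom (M := Submonoid.powers a) (f := φ) (by
    rintro ⟨_, n, rfl⟩
    simp [hφa])
  have hψ : ∀ x : R', ψ (algebraMap R' A' x) = φ x := fun x => by
    simp [ψ, IsLocalization.liftAlgHom_apply]
  -- kernel of ψ
  have hkerψ : ∀ y : A', ψ y = 0 → y ∈ IA' := by
    intro y hy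
    obtain ⟨x, ⟨_, n, rfl⟩, rfl⟩ := IsLocalization.exists_mk'_eq (Submonoid.powers a) y
    have h1 : φ x = 0 := by
      have := IsLocalization.mk'_spec A' x (⟨a ^ n, n, rfl⟩ : Submonoid.powers a)
      have h2 := congrArg ψ this
      rw [map_mul, hy, zero_mul, hψ] at h2
      exact h2.symm
    have h2 : mkB x ∈ RingHom.ker σ.toRingHom := by
      rw [RingHom.mem_ker]; exact h1
    rw [hker, Ideal.mem_span_singleton'] at h2
    obtain ⟨b, hb⟩ := h2
    have h3 : mkB (a * x) = 0 := by
      rw [map_mul, ← hb]
      show Ideal.Quotient.mk _ a * _ = 0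
      rw [ha]
      have : (1 - e) * (b * e) = b * (e - e * e) := by ring
      rw [this, he.eq, sub_self, mul_zero]
    have h4 : a * x ∈ I.map (algebraMap A R') := Ideal.Quotient.eq_zero_iff_mem.mp h3
    have h5 : algebraMap R' A' (a * x) ∈ IA' := by
      have := Ideal.mem_map_of_mem (algebraMap R' A') h4
      rwa [Ideal.map_map, ← IsScalarTower.algebraMap_eq] at this
    have h6 : IsLocalization.mk' A' x (⟨a ^ n, n, rfl⟩ : Submonoid.powers a) =
        algebraMap R' A' (a * x) *
          IsLocalization.mk' A' 1 (⟨a ^ (n + 1), n + 1, rfl⟩ : Submonoid.powers a) := by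
      rw [← IsLocalization.mk'_eq_mul_mk'_one, IsLocalization.mk'_eq_iff_eq]
      simp only [pow_succ]
      ring_nf
    rw [h6]
    exact Ideal.mul_mem_right _ _ h5
  have hψI : ∀ y ∈ IA', ψ y = 0 := by
    intro y hy
    have : IA' ≤ RingHom.ker ψ.toRingHom := by
      rw [Ideal.map_le_iff_le_comap]
      intro i hi
      rw [Ideal.mem_comap, RingHom.mem_ker]
      show ψ (algebraMap A A' i) = 0
      rw [ψ.commutes, Ideal.Quotient.algebraMap_eq, Ideal.Quotient.eq_zero_iff_mem]
      exact hi
    exact this hy
  let ψb : A' ⧸ IA' →+* A ⧸ I := Ideal.Quotient.lift _ ψ.toRingHom hψI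
  have hψb : ∀ y : A', ψb (Ideal.Quotient.mk _ y) = ψ y := fun y => rfl
  have hψb_inj : Function.Injective ψb := by
    rw [injective_iff_map_eq_zero]
    intro y hy
    obtain ⟨y, rfl⟩ := Ideal.Quotient.mk_surjective y
    rw [hψb] at hy
    exact Ideal.Quotient.eq_zero_iff_mem.mpr (hkerψ y hy)
  have hcomp : ∀ r : A ⧸ I, ψb (algebraMap (A ⧸ I) (A' ⧸ IA') r) = r := by
    intro r
    obtain ⟨r, rfl⟩ := Ideal.Quotient.mk_surjective r
    show ψ (algebraMap A A' r) = _
    rw [ψ.commutes]
    rfl
  refine ⟨⟨fun r s hrs => ?_, fun y => ⟨ψb y, hψb_inj ?_⟩⟩, fun x => hψb_inj ?_⟩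
  · rw [← hcomp r, ← hcomp s, hrs]
  · rw [hcomp]
  · rw [hcomp, hψb, hψ]

open Polynomial in
/-- Lifting a coprime monic factorization to an étale algebra. -/
theorem lift_monic_factorization (f : A[X]) (hf : f.Monic) (g h : (A ⧸ I)[X]) (hg : g.Monic)
    (hh : h.Monic) (hcop : IsCoprime g h) (hfgh : f.map (Ideal.Quotient.mk I) = g * h) :
    ∃ (A' : Type u) (_ : CommRing A') (_ : Algebra A A'), Algebra.Etale A A' ∧
      Function.Bijective (algebraMap (A ⧸ I) (A' ⧸ I.map (algebraMap A A'))) ∧
      ∃ g' h' : A'[X], g'.Monic ∧ h'.Monic ∧ f.map (algebraMap A A') = g' * h' ∧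
        g'.map (Ideal.Quotient.mk (I.map (algebraMap A A'))) =
          g.map (algebraMap (A ⧸ I) (A' ⧸ I.map (algebraMap A A'))) ∧
        h'.map (Ideal.Quotient.mk (I.map (algebraMap A A'))) =
          h.map (algebraMap (A ⧸ I) (A' ⧸ I.map (algebraMap A A'))) := by
  classical
  by_cases htriv : Subsingleton (A ⧸ I)
  · -- trivial case
    have hItop : I = ⊤ := by
      rw [Ideal.Quotient.subsingleton_iff] at htriv; exact htriv
    have hsub : Subsingleton (A ⧸ I.map (algebraMap A A)) := by
      rw [Ideal.Quotient.subsingleton_iff, hItop, Ideal.map_top]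
    refine ⟨A, inferInstance, inferInstance, inferInstance, ⟨fun x y _ => Subsingleton.elim _ _,
      fun y => ⟨0, Subsingleton.elim _ _⟩⟩, f, 1, hf, monic_one, by simp, ?_, ?_⟩
    · exact Subsingleton.elim _ _
    · exact Subsingleton.elim _ _
  · rw [not_subsingleton_iff_nontrivial] at htriv
    set m := g.natDegree with hm
    set k := h.natDegree with hk
    set n := f.natDegree with hn'
    have hn : n = m + k := by
      have h1 : (f.map (Ideal.Quotient.mk I)).natDegree = n := hf.natDegree_map _
      rw [hfgh, hg.natDegree_mul hh] at h1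
      exact h1.symm
    let p : MonicDegreeEq A n := .mk f hf rfl
    let q : { q : MonicDegreeEq (A ⧸ I) m × MonicDegreeEq (A ⧸ I) k //
        q.1.1 * q.2.1 = p.1.map (algebraMap A (A ⧸ I)) ∧ IsCoprime q.1.1 q.2.1 } :=
      ⟨(.mk g hg rfl, .mk h hh rfl), hfgh.symm, hcop⟩
    let R' := UniversalCoprimeFactorizationRing m k hn p
    let φ : R' →ₐ[A] A ⧸ I := (UniversalCoprimeFactorizationRing.homEquiv (A ⧸ I) m k hn p).symm q
    have hφq : UniversalCoprimeFactorizationRing.homEquiv (A ⧸ I) m k hn p φ = q :=
      Equiv.apply_symm_apply _ _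
    -- the universal factors map to g, h under φ
    have hid1 : (UniversalCoprimeFactorizationRing.homEquiv R' m k hn p (AlgHom.id A R')).1.1 =
        UniversalCoprimeFactorizationRing.factor₁ m k hn p := by
      ext1
      simp [UniversalCoprimeFactorizationRing.homEquiv, UniversalFactorizationRing.homEquiv,
        UniversalCoprimeFactorizationRing.factor₁, MonicDegreeEq.map]
      rfl
    have hid2 : (UniversalCoprimeFactorizationRing.homEquiv R' m k hn p (AlgHom.id A R')).1.2 =
        UniversalCoprimeFactorizationRing.factor₂ m k hn p := by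
      ext1
      simp [UniversalCoprimeFactorizationRing.homEquiv, UniversalFactorizationRing.homEquiv,
        UniversalCoprimeFactorizationRing.factor₂, MonicDegreeEq.map]
      rfl
    have hg1 : (UniversalCoprimeFactorizationRing.factor₁ m k hn p).1.map φ.toRingHom = g := by
      have := UniversalCoprimeFactorizationRing.homEquiv_comp_fst R' m k hn p (AlgHom.id A R') φ
      rw [AlgHom.comp_id, hφq, hid1] at this
      exact (congrArg Subtype.val this).symm
    have hh1 : (UniversalCoprimeFactorizationRing.factor₂ m k hn p).1.map φ.toRingHom = h := by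
      have := UniversalCoprimeFactorizationRing.homEquiv_comp_snd R' m k hn p (AlgHom.id A R') φ
      rw [AlgHom.comp_id, hφq, hid2] at this
      exact (congrArg Subtype.val this).symm
    obtain ⟨a, hbij, hcompat⟩ := exists_away I R' φ
    have : Algebra.Etale R' (Localization.Away a) := Algebra.Etale.of_isLocalizationAway a
    have hét : Algebra.Etale A (Localization.Away a) := Algebra.Etale.comp A R' _
    have hcompat' : (Ideal.Quotient.mk (I.map (algebraMap A (Localization.Away a)))).comp
        (algebraMap R' (Localization.Away a)) =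
        (algebraMap (A ⧸ I) (Localization.Away a ⧸ I.map (algebraMap A (Localization.Away a)))).comp
          φ.toRingHom := RingHom.ext fun x => (hcompat x).symm
    refine ⟨Localization.Away a, inferInstance, inferInstance, hét, hbij,
      (UniversalCoprimeFactorizationRing.factor₁ m k hn p).1.map (algebraMap R' _),
      (UniversalCoprimeFactorizationRing.factor₂ m k hn p).1.map (algebraMap R' _),
      (UniversalCoprimeFactorizationRing.factor₁ m k hn p).monic.map _,
      (UniversalCoprimeFactorizationRing.factor₂ m k hn p).monic.map _, ?_, ?_, ?_⟩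
    · rw [← Polynomial.map_mul, UniversalCoprimeFactorizationRing.factor₁_mul_factor₂]
      show _ = Polynomial.map _ (Polynomial.map (algebraMap A R') f)
      rw [Polynomial.map_map, ← IsScalarTower.algebraMap_eq]
    · rw [Polynomial.map_map, hcompat', ← Polynomial.map_map, hg1]
    · rw [Polynomial.map_map, hcompat', ← Polynomial.map_map, hh1]

end Groth.Agent.Helper3.EtaleLift
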