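import Mathlib
import Groth.Agent.Lib.Helper3.EtaleLift

set_option autoImplicit false

universe u

open TensorProduct

namespace Groth.Agent.Helper3.EtaleLift

variable {A : Type u} [CommRing A] (I : Ideal A)

/-- Variant of `exists_away` where in addition a given element `t` with `φ t = 1` becomes
invertible, packaged with abstract type `A'`. -/
theorem exists_etale_inv (R' : Type u) [CommRing R'] [Algebra A R'] [Algebra.Etale A R']
    (φ : R' →ₐ[A] A ⧸ I) (t : R') (hφt : φ t = 1) :
    ∃ (A' : Type u) (_ : CommRing A') (_ : Algebra A A') (_ : Algebra.Etale A A')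
      (ρ : R' →ₐ[A] A') (tinv : A'),
      Function.Bijective (algebraMap (A ⧸ I) (A' ⧸ I.map (algebraMap A A'))) ∧
      (∀ x : R', Ideal.Quotient.mk (I.map (algebraMap A A')) (ρ x) =
        algebraMap (A ⧸ I) (A' ⧸ I.map (algebraMap A A')) (φ x)) ∧
      ρ t * tinv = 1 ∧ Ideal.Quotient.mk (I.map (algebraMap A A')) tinv = 1 := by
  classical
  let φ'' : Localization.Away t →ₐ[A] A ⧸ I :=
    IsLocalization.liftAlgHom (M := Submonoid.powers t) (f := φ) (by
      rintro ⟨_, j, rfl⟩
      simp [hφt])
  have hφ'' : ∀ x : R', φ'' (algebraMap R' (Localization.Away t) x) = φ x := fun x => by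
    simp [φ'', IsLocalization.liftAlgHom_apply]
  have : Algebra.Etale R' (Localization.Away t) := Algebra.Etale.of_isLocalizationAway t
  have : Algebra.Etale A (Localization.Away t) := Algebra.Etale.comp A R' _
  obtain ⟨a, hbij, hcompat⟩ := exists_away I (Localization.Away t) φ''
  have : Algebra.Etale (Localization.Away t) (Localization.Away a) :=
    Algebra.Etale.of_isLocalizationAway a
  have hét : Algebra.Etale A (Localization.Away a) := Algebra.Etale.comp A (Localization.Away t) _
  let inv : Localization.Away t := IsLocalization.Away.invSelf t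
  have hinv : algebraMap R' (Localization.Away t) t * inv = 1 := IsLocalization.Away.mul_invSelf t
  have hφinv : φ'' inv = 1 := by
    have := congrArg φ'' hinv
    rwa [map_mul, hφ'', hφt, one_mul, map_one] at this
  refine ⟨Localization.Away a, inferInstance, inferInstance, hét,
    (IsScalarTower.toAlgHom A (Localization.Away t) (Localization.Away a)).comp
      (IsScalarTower.toAlgHom A R' (Localization.Away t)),
    algebraMap (Localization.Away t) (Localization.Away a) inv, hbij, ?_, ?_, ?_⟩
  · intro x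
    simp only [AlgHom.comp_apply, IsScalarTower.coe_toAlgHom']
    rw [← hcompat, hφ'']
  · simp only [AlgHom.comp_apply, IsScalarTower.coe_toAlgHom']
    rw [← map_mul, hinv, map_one]
  · rw [← hcompat, hφinv, map_one]

open Polynomial in
/-- Lifting a coprime factorization whose first factor has unit leading coefficient. -/
theorem lift_factorization (f : A[X]) (hf : f.Monic) (g h : (A ⧸ I)[X])
    (hgh : f.map (Ideal.Quotient.mk I) = g * h) (hlead : IsUnit g.leadingCoeff)
    (hcop : IsCoprime g h) :
    ∃ (A' : Type u) (_ : CommRing A') (_ : Algebra A A') (_ : Algebra.Etale A A'),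
      Function.Bijective (algebraMap (A ⧸ I) (A' ⧸ I.map (algebraMap A A'))) ∧
      ∃ g' h' : A'[X], f.map (algebraMap A A') = g' * h' ∧
        g'.map (Ideal.Quotient.mk (I.map (algebraMap A A'))) =
          g.map (algebraMap (A ⧸ I) (A' ⧸ I.map (algebraMap A A'))) ∧
        h'.map (Ideal.Quotient.mk (I.map (algebraMap A A'))) =
          h.map (algebraMap (A ⧸ I) (A' ⧸ I.map (algebraMap A A'))) := by
  classical
  by_cases htriv : Subsingleton (A ⧸ I)
  · have hItop : I = ⊤ := by
      rw [Ideal.Quotient.subsingleton_iff] at htriv; exact htriv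
    have hsub : Subsingleton (A ⧸ I.map (algebraMap A A)) := by
      rw [Ideal.Quotient.subsingleton_iff, hItop, Ideal.map_top]
    refine ⟨A, inferInstance, inferInstance, inferInstance, ⟨fun x y _ => Subsingleton.elim _ _,
      fun y => ⟨0, Subsingleton.elim _ _⟩⟩, f, 1, by simp, ?_, ?_⟩
    · exact Subsingleton.elim _ _
    · exact Subsingleton.elim _ _
  rw [not_subsingleton_iff_nontrivial] at htriv
  set u := g.leadingCoeff with hu
  obtain ⟨v, huv⟩ := hlead.exists_right_inv
  have hvu : v * u = 1 := by rw [mul_comm]; exact huv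
  obtain ⟨ut, hut⟩ := Ideal.Quotient.mk_surjective u
  obtain ⟨vt, hvt⟩ := Ideal.Quotient.mk_surjective v
  let g₁ : (A ⧸ I)[X] := C v * g
  let h₁ : (A ⧸ I)[X] := C u * h
  have hg₁ : g₁.Monic := monic_C_mul_of_mul_leadingCoeff_eq_one hvu
  have hg₁h₁ : g₁ * h₁ = g * h := by
    simp only [g₁, h₁]
    have : C v * g * (C u * h) = C (v * u) * (g * h) := by rw [C_mul]; ring
    rw [this, hvu, C_1, one_mul]
  have hh₁ : h₁.Monic := by
    refine hg₁.of_mul_monic_left ?_
    rw [hg₁h₁, ← hgh]
    exact hf.map _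
  have hCu : IsUnit (C u : (A ⧸ I)[X]) := (IsUnit.of_mul_eq_one _ huv).map C
  have hCv : IsUnit (C v : (A ⧸ I)[X]) := (IsUnit.of_mul_eq_one _ hvu).map C
  have hcop₁ : IsCoprime g₁ h₁ :=
    (isCoprime_mul_unit_left_left hCv _ _).mpr ((isCoprime_mul_unit_left_right hCu _ _).mpr hcop)
  have hg_eq : g = C u * g₁ := by
    simp only [g₁]
    rw [← mul_assoc, ← C_mul, huv, C_1, one_mul]
  have hh_eq : h = C v * h₁ := by
    simp only [h₁]
    rw [← mul_assoc, ← C_mul, hvu, C_1, one_mul]
  set m := g₁.natDegree with hm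
  set k := h₁.natDegree with hk
  set n := f.natDegree with hn'
  have hn : n = m + k := by
    have h1 : (f.map (Ideal.Quotient.mk I)).natDegree = n := hf.natDegree_map _
    rw [hgh, ← hg₁h₁, hg₁.natDegree_mul hh₁] at h1
    exact h1.symm
  let p : MonicDegreeEq A n := .mk f hf rfl
  let q : { q : MonicDegreeEq (A ⧸ I) m × MonicDegreeEq (A ⧸ I) k //
      q.1.1 * q.2.1 = p.1.map (algebraMap A (A ⧸ I)) ∧ IsCoprime q.1.1 q.2.1 } :=
    ⟨(.mk g₁ hg₁ rfl, .mk h₁ hh₁ rfl), hg₁h₁.trans hgh.symm, hcop₁⟩
  let R' := UniversalCoprimeFactorizationRing m k hn p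
  let φ : R' →ₐ[A] A ⧸ I := (UniversalCoprimeFactorizationRing.homEquiv (A ⧸ I) m k hn p).symm q
  have hφq : UniversalCoprimeFactorizationRing.homEquiv (A ⧸ I) m k hn p φ = q :=
    Equiv.apply_symm_apply _ _
  have hid1 : (UniversalCoprimeFactorizationRing.homEquiv R' m k hn p (AlgHom.id A R')).1.1 =
      UniversalCoprimeFactorizationRing.factor₁ m k hn p := by
    ext1
    simp [UniversalCoprimeFactorizationRing.homEquiv, UniversalFactorizationRing.homEquiv,
      UniversalCoprimeFactorizationRing.factor₁, MonicDegreeEq.map]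
    rfl
  have hid2 : (UniversalCoprimeFactorizationRing.homEquiv R' m k hn p (AlgHom.id A R')).1.2 =
      UniversalCoprimeFactorizationRing.factor₂ m k hn p := by
    ext1
    simp [UniversalCoprimeFactorizationRing.homEquiv, UniversalFactorizationRing.homEquiv,
      UniversalCoprimeFactorizationRing.factor₂, MonicDegreeEq.map]
    rfl
  have hg1 : (UniversalCoprimeFactorizationRing.factor₁ m k hn p).1.map φ.toRingHom = g₁ := by
    have := UniversalCoprimeFactorizationRing.homEquiv_comp_fst R' m k hn p (AlgHom.id A R') φ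
    rw [AlgHom.comp_id, hφq, hid1] at this
    exact (congrArg Subtype.val this).symm
  have hh1 : (UniversalCoprimeFactorizationRing.factor₂ m k hn p).1.map φ.toRingHom = h₁ := by
    have := UniversalCoprimeFactorizationRing.homEquiv_comp_snd R' m k hn p (AlgHom.id A R') φ
    rw [AlgHom.comp_id, hφq, hid2] at this
    exact (congrArg Subtype.val this).symm
  -- invert a lift of `u * v`
  have hφt : φ (algebraMap A R' (ut * vt)) = 1 := by
    rw [φ.commutes, Ideal.Quotient.algebraMap_eq, map_mul, hut, hvt, huv]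
  obtain ⟨A', _, _, hét, ρ, tinv, hbij, hcompat, hρt, htinv⟩ :=
    exists_etale_inv I R' φ (algebraMap A R' (ut * vt)) hφt
  have hρ : ρ.toRingHom.comp (algebraMap A R') = algebraMap A A' := by
    ext x
    exact ρ.commutes x
  have hmkρ : (Ideal.Quotient.mk (I.map (algebraMap A A'))).comp ρ.toRingHom =
      (algebraMap (A ⧸ I) (A' ⧸ I.map (algebraMap A A'))).comp φ.toRingHom := by
    ext x
    exact hcompat x
  obtain ⟨cu, hcu⟩ : ∃ cu : A', cu = algebraMap A A' ut := ⟨_, rfl⟩
  obtain ⟨cv, hcv⟩ : ∃ cv : A', cv = algebraMap A A' vt * tinv := ⟨_, rfl⟩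
  have hcucv : cu * cv = 1 := by
    rw [hcu, hcv]
    rw [← mul_assoc, ← map_mul, ← ρ.commutes]
    exact hρt
  have hmkcu : Ideal.Quotient.mk (I.map (algebraMap A A')) cu =
      algebraMap (A ⧸ I) (A' ⧸ I.map (algebraMap A A')) u := by
    rw [← hut, hcu]; rfl
  have hmkcv : Ideal.Quotient.mk (I.map (algebraMap A A')) cv =
      algebraMap (A ⧸ I) (A' ⧸ I.map (algebraMap A A')) v := by
    rw [hcv, map_mul, htinv, mul_one, ← hvt]; rfl
  let G₁ := (UniversalCoprimeFactorizationRing.factor₁ m k hn p).1.map ρ.toRingHom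
  let H₁ := (UniversalCoprimeFactorizationRing.factor₂ m k hn p).1.map ρ.toRingHom
  have hGH : f.map (algebraMap A A') = G₁ * H₁ := by
    simp only [G₁, H₁]
    rw [← Polynomial.map_mul, UniversalCoprimeFactorizationRing.factor₁_mul_factor₂]
    show _ = Polynomial.map _ (Polynomial.map (algebraMap A R') f)
    rw [Polynomial.map_map, hρ]
  refine ⟨A', inferInstance, inferInstance, hét, hbij, C cu * G₁, C cv * H₁, ?_, ?_, ?_⟩
  · have : C cu * G₁ * (C cv * H₁) = C (cu * cv) * (G₁ * H₁) := by rw [C_mul]; ring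
    rw [this, hcucv, C_1, one_mul, hGH]
  · rw [Polynomial.map_mul, Polynomial.map_C, hmkcu]
    simp only [G₁]
    rw [Polynomial.map_map, hmkρ, ← Polynomial.map_map, hg1]
    conv_rhs => rw [hg_eq, Polynomial.map_mul, Polynomial.map_C]
  · rw [Polynomial.map_mul, Polynomial.map_C, hmkcv]
    simp only [H₁]
    rw [Polynomial.map_map, hmkρ, ← Polynomial.map_map, hh1]
    conv_rhs => rw [hh_eq, Polynomial.map_mul, Polynomial.map_C]

end Groth.Agent.Helper3.EtaleLift
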