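import Mathlib

/-!
Weakly regular sequences: relations and freeness of the conormal module (helper3).
-/

set_option autoImplicit false
universe u v

namespace Groth.Agent.Helper3.ExtDet3

open RingTheory.Sequence

variable {S : Type u} [CommRing S]

/-- relations among a weakly regular sequence have coefficients in the ideal -/
theorem rel_mem : ∀ (r : ℕ) (F : Fin r → S), IsWeaklyRegular S (List.ofFn F) →
    ∀ a : Fin r → S, ∑ i, a i * F i = 0 → ∀ i, a i ∈ Ideal.span (Set.range F)
  | 0, _, _, _, _, i => i.elim0
  | r+1, F, h, a, ha, i => by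
    let F' : Fin r → S := fun i => F i.castSucc
    set x := F (Fin.last r) with hx
    rw [List.ofFn_succ', List.concat_eq_append, isWeaklyRegular_append_iff] at h
    obtain ⟨h1, h2⟩ := h
    rw [isWeaklyRegular_singleton_iff, isSMulRegular_on_quot_iff_lsmul_comap_le] at h2
    have hI' : (Ideal.ofList (List.ofFn F') • ⊤ : Submodule S S) = Ideal.span (Set.range F') := by
      rw [smul_eq_mul, Ideal.mul_top, Ideal.ofList, List.ofFn_eq_map]
      congr 1
      ext y
      simp
    have hle : Ideal.span (Set.range F') ≤ Ideal.span (Set.range F) := by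
      apply Ideal.span_mono
      rintro _ ⟨j, rfl⟩
      exact ⟨j.castSucc, rfl⟩
    have hreg : ∀ c : S, x * c ∈ Ideal.span (Set.range F') → c ∈ Ideal.span (Set.range F') := by
      intro c hc
      have := @h2 c (by
        rw [Submodule.mem_comap]
        change x • c ∈ _
        rw [hI']
        exact hc)
      rw [hI'] at this
      exact this
    rw [Fin.sum_univ_castSucc] at ha
    have h3 : x * a (Fin.last r) ∈ Ideal.span (Set.range F') := by
      have : x * a (Fin.last r) = - ∑ j : Fin r, a j.castSucc * F' j := by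
        rw [eq_neg_iff_add_eq_zero, add_comm, mul_comm]
        exact ha
      rw [this]
      apply neg_mem
      apply Ideal.sum_mem
      intro j _
      exact Ideal.mul_mem_left _ _ (Ideal.subset_span ⟨j, rfl⟩)
    have hlast := hreg _ h3
    obtain ⟨b, hb⟩ := Ideal.mem_span_range_iff_exists_fun.mp hlast
    have h4 : ∑ j : Fin r, (a j.castSucc + b j * x) * F' j = 0 := by
      have : ∑ j : Fin r, (a j.castSucc + b j * x) * F' j =
          ∑ j : Fin r, a j.castSucc * F' j + (∑ j : Fin r, b j * F' j) * x := by
        rw [Finset.sum_mul, ← Finset.sum_add_distrib]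
        exact Finset.sum_congr rfl fun j _ => by ring
      rw [this, hb]
      exact ha
    have h5 := rel_mem r F' h1 _ h4
    refine Fin.lastCases ?_ ?_ i
    · exact hle hlast
    · intro j
      have h6 : a j.castSucc = (a j.castSucc + b j * x) - b j * x := by ring
      rw [h6]
      exact Ideal.sub_mem _ (hle (h5 j))
        (Ideal.mul_mem_left _ _ (Ideal.subset_span ⟨Fin.last r, rfl⟩))

/-- the conormal module of an ideal generated by a weakly regular sequence is free -/
theorem exists_basis_cotangent (r : ℕ) (F : Fin r → S)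
    (hreg : IsWeaklyRegular S (List.ofFn F)) (I : Ideal S) (hI : I = Ideal.span (Set.range F)) :
    ∃ (hF : ∀ i, F i ∈ I) (b : Module.Basis (Fin r) (S ⧸ I) I.Cotangent),
      ∀ i, b i = I.toCotangent ⟨F i, hF i⟩ := by
  have hF : ∀ i, F i ∈ I := fun i => hI ▸ Ideal.subset_span ⟨i, rfl⟩
  refine ⟨hF, ?_⟩
  let v : Fin r → I.Cotangent := fun i => I.toCotangent ⟨F i, hF i⟩
  have hsmul : ∀ (c : S) (y : I.Cotangent), (Ideal.Quotient.mk I c) • y = c • y := by
    intro c y
    exact (algebraMap_smul (S ⧸ I) c y)
  have hli : LinearIndependent (S ⧸ I) v := by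
    rw [Fintype.linearIndependent_iff]
    intro g hg i
    choose c hc using fun i => Ideal.Quotient.mk_surjective (g i)
    have h1 : ∑ i, g i • v i = I.toCotangent (∑ i, c i • ⟨F i, hF i⟩) := by
      rw [map_sum]
      refine Finset.sum_congr rfl fun i _ => ?_
      rw [map_smul, ← hc i, hsmul]
    rw [h1, Ideal.toCotangent_eq_zero] at hg
    have h2 : ((∑ i, c i • (⟨F i, hF i⟩ : I) : I) : S) = ∑ i, c i * F i := by
      simp
    rw [h2, pow_two] at hg
    -- elements of `I * I` are combinations of `F` with coefficients in `I`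
    have h3 : ∃ d : Fin r → S, (∀ i, d i ∈ I) ∧ ∑ i, c i * F i = ∑ i, d i * F i := by
      have : I * I = I • (Ideal.span (Set.range F)) := by rw [smul_eq_mul, ← hI]
      rw [this] at hg
      obtain ⟨d, hd, hsum⟩ := (Submodule.mem_ideal_smul_span_iff_exists_sum I F _).mp hg
      refine ⟨fun i => d i, hd, ?_⟩
      rw [← hsum, Finsupp.sum_fintype _ _ (fun i => by simp)]
      simp
    obtain ⟨d, hd, hcd⟩ := h3
    have h4 : ∑ i, (c i - d i) * F i = 0 := by
      simp only [sub_mul, Finset.sum_sub_distrib, hcd, sub_self]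
    have h5 := rel_mem r F hreg _ h4 i
    rw [← hI] at h5
    have h6 : c i ∈ I := by
      have : c i = (c i - d i) + d i := by ring
      rw [this]
      exact I.add_mem h5 (hd i)
    rw [← hc i]
    exact Ideal.Quotient.eq_zero_iff_mem.mpr h6
  have hsp : ⊤ ≤ Submodule.span (S ⧸ I) (Set.range v) := by
    intro y _
    obtain ⟨⟨z, hz⟩, rfl⟩ := I.toCotangent_surjective y
    have hz' := hz
    rw [hI] at hz'
    obtain ⟨c, hc⟩ := Ideal.mem_span_range_iff_exists_fun.mp hz'
    have : I.toCotangent ⟨z, hz⟩ = ∑ i, (Ideal.Quotient.mk I (c i)) • v i := by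
      have h1 : (⟨z, hz⟩ : I) = ∑ i, c i • (⟨F i, hF i⟩ : I) := by
        ext
        simp [hc]
      rw [h1, map_sum]
      refine Finset.sum_congr rfl fun i _ => ?_
      rw [map_smul, hsmul]
    rw [this]
    exact Submodule.sum_mem _ fun i _ => Submodule.smul_mem _ _ (Submodule.subset_span ⟨i, rfl⟩)
  exact ⟨Module.Basis.mk hli hsp, fun i => by rw [Module.Basis.mk_apply]⟩

end Groth.Agent.Helper3.ExtDet3
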