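import Mathlib
import Groth.Agent.Lib.Helper3.ExtDet2
import Groth.Agent.Lib.Helper3.ExtDet3

/-!
The canonical module of a smooth complete intersection is `⋀^(n-r) Ω` (helper3).
-/

set_option autoImplicit false
universe u

open scoped TensorProduct

namespace Groth.Agent.Helper3.ExtDet4

open RingTheory.Sequence Module

section
variable {P : Type u} [CommRing P]

/-- transport of the cotangent module along an equality of ideals -/
noncomputable def cotEquiv : ∀ (J I : Ideal P) (_ : J = I), J.Cotangent ≃ₗ[P] I.Cotangent := by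
  intro J I h
  subst h
  exact LinearEquiv.refl _ _

theorem cotEquiv_toCotangent (J I : Ideal P) (h : J = I) (x : P) (hx : x ∈ J) :
    cotEquiv J I h (J.toCotangent ⟨x, hx⟩) = I.toCotangent ⟨x, h ▸ hx⟩ := by
  subst h
  rfl

end

section Top
variable {R : Type u} [CommRing R] [Nontrivial R] {N : Type u} [AddCommGroup N] [Module R N]

/-- top exterior power of a finite free module -/
theorem nonempty_top_equiv (n : ℕ) (b : Module.Basis (Fin n) R N) :
    Nonempty (R ≃ₗ[R] ⋀[R]^n N) := by
  haveI : Module.Free R N := Module.Free.of_basis b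
  haveI : Module.Finite R N := Module.Finite.of_basis b
  apply Module.nonempty_linearEquiv_of_finrank_eq_one
  rw [exteriorPower.finrank_eq, Module.finrank_eq_card_basis b, Fintype.card_fin, Nat.choose_self]

end Top

section Core
variable (A : Type u) [CommRing A] (P : Type u) [CommRing P] [Algebra A P]
  [Algebra.FormallySmooth A P]

theorem core (n r : ℕ) (hrn : r ≤ n) (bΩ : Module.Basis (Fin n) P Ω[P⁄A])
    (F : Fin r → P) (hreg : IsWeaklyRegular P (List.ofFn F))
    (I : Ideal P) (hI : I = Ideal.span (Set.range F))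
    [Algebra.FormallySmooth A (P ⧸ I)] [Nontrivial (P ⧸ I)] :
    Nonempty ((⋀[P ⧸ I]^(n - r) (Ω[(P ⧸ I)⁄A])) ≃ₗ[P ⧸ I] (P ⧸ I)) := by
  have hsurj : Function.Surjective (algebraMap P (P ⧸ I)) := Ideal.Quotient.mk_surjective
  have hJ : RingHom.ker (algebraMap P (P ⧸ I)) = I := by
    rw [Ideal.Quotient.algebraMap_eq, Ideal.mk_ker]
  obtain ⟨hF, bI, hbI⟩ := ExtDet3.exists_basis_cotangent r F hreg I hI
  obtain ⟨l, hl⟩ := (Algebra.FormallySmooth.iff_split_injection (R := A) hsurj).mp inferInstance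
  -- the `P ⧸ I`-linear maps
  let ce := cotEquiv _ I hJ
  let ι' : I.Cotangent →ₗ[P] (P ⧸ I) ⊗[P] Ω[P⁄A] :=
    (KaehlerDifferential.kerCotangentToTensor A P (P ⧸ I)).comp ce.symm.toLinearMap
  let l' : (P ⧸ I) ⊗[P] Ω[P⁄A] →ₗ[P] I.Cotangent := ce.toLinearMap.comp l
  have hl' : ∀ c, l' (ι' c) = c := by
    intro c
    simp only [l', ι', LinearMap.comp_apply, LinearEquiv.coe_coe]
    have := LinearMap.congr_fun hl (ce.symm c)
    simp only [LinearMap.comp_apply, LinearMap.id_apply] at this
    rw [this, LinearEquiv.apply_symm_apply]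
  let ιB : I.Cotangent →ₗ[P ⧸ I] (P ⧸ I) ⊗[P] Ω[P⁄A] := ι'.extendScalarsOfSurjective hsurj
  let lB : (P ⧸ I) ⊗[P] Ω[P⁄A] →ₗ[P ⧸ I] I.Cotangent := l'.extendScalarsOfSurjective hsurj
  have hlB : ∀ c, lB (ιB c) = c := hl'
  let π := KaehlerDifferential.mapBaseChange A P (P ⧸ I)
  have hπ : Function.Surjective π := KaehlerDifferential.mapBaseChange_surjective A P (P ⧸ I) hsurj
  have hex := KaehlerDifferential.exact_kerCotangentToTensor_mapBaseChange A P (P ⧸ I) hsurj
  obtain ⟨s, hs⟩ := Module.projective_lifting_property π LinearMap.id hπ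
  let w : Fin r → (P ⧸ I) ⊗[P] Ω[P⁄A] := fun i => ιB (bI i)
  let ρ : Fin r → Module.Dual (P ⧸ I) ((P ⧸ I) ⊗[P] Ω[P⁄A]) := fun i => (bI.coord i).comp lB
  have hρw : ∀ i j, ρ i (w j) = if i = j then 1 else 0 := by
    intro i j
    simp only [ρ, w, LinearMap.comp_apply, hlB, Module.Basis.coord_apply, Module.Basis.repr_self,
      Finsupp.single_apply]
    by_cases h : i = j
    · simp [h]
    · have : ¬ j = i := fun h' => h h'.symm
      simp [h, this]
  have hπw : ∀ j, π (w j) = 0 := by
    intro j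
    exact hex.apply_apply_eq_zero _
  have hker : LinearMap.ker π ≤ Submodule.span (P ⧸ I) (Set.range w) := by
    intro m hm
    obtain ⟨c, rfl⟩ := (hex m).mp hm
    have h1 : KaehlerDifferential.kerCotangentToTensor A P (P ⧸ I) c = ιB (ce c) := by
      simp [ιB, ι']
    rw [h1, ← bI.sum_repr (ce c), map_sum]
    refine Submodule.sum_mem _ fun i _ => ?_
    rw [map_smul]
    exact Submodule.smul_mem _ _ (Submodule.subset_span ⟨i, rfl⟩)
  haveI : Module.Free P Ω[P⁄A] := Module.Free.of_basis bΩ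
  haveI : Module.Finite P Ω[P⁄A] := Module.Finite.of_basis bΩ
  haveI : Nontrivial P := hsurj.nontrivial
  have hM : Module.finrank (P ⧸ I) ((P ⧸ I) ⊗[P] Ω[P⁄A]) = r + (n - r) := by
    rw [Module.finrank_baseChange, Module.finrank_eq_card_basis bΩ, Fintype.card_fin]
    omega
  exact ExtDet2.main r (n - r) hM π s (fun q => LinearMap.congr_fun hs q) w ρ hρw hπw hker

end Core

end Groth.Agent.Helper3.ExtDet4
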