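import Mathlib
import Groth.Agent.Lib.Helper3.ExtDet4

/-!
Assembly for S13315 (helper3).
-/

set_option autoImplicit false
universe u

open scoped TensorProduct

namespace Groth.Agent.Helper3.ExtDet5

open RingTheory.Sequence Module

theorem main (A : Type u) [CommRing A]
    (n r : ℕ) (hrn : r ≤ n) (F : Fin r → MvPolynomial (Fin n) A)
    (hreg : RingTheory.Sequence.IsWeaklyRegular (MvPolynomial (Fin n) A) (List.ofFn F))
    (I : Ideal (MvPolynomial (Fin n) A)) (hI : I = Ideal.span (Set.range F))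
    [Algebra.Smooth A (MvPolynomial (Fin n) A ⧸ I)] :
    Nonempty ((Module.Dual (MvPolynomial (Fin n) A ⧸ I)
        (⋀[MvPolynomial (Fin n) A ⧸ I]^r I.Cotangent)) ⊗[MvPolynomial (Fin n) A ⧸ I]
        ((MvPolynomial (Fin n) A ⧸ I) ⊗[MvPolynomial (Fin n) A]
          (⋀[MvPolynomial (Fin n) A]^n (Ω[MvPolynomial (Fin n) A⁄A])))
      ≃ₗ[MvPolynomial (Fin n) A ⧸ I]
        (⋀[MvPolynomial (Fin n) A ⧸ I]^(n - r) (Ω[(MvPolynomial (Fin n) A ⧸ I)⁄A]))) := by
  rcases subsingleton_or_nontrivial (MvPolynomial (Fin n) A ⧸ I) with hsub | hnt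
  · haveI := Module.subsingleton (MvPolynomial (Fin n) A ⧸ I)
      ((Module.Dual (MvPolynomial (Fin n) A ⧸ I)
        (⋀[MvPolynomial (Fin n) A ⧸ I]^r I.Cotangent)) ⊗[MvPolynomial (Fin n) A ⧸ I]
        ((MvPolynomial (Fin n) A ⧸ I) ⊗[MvPolynomial (Fin n) A]
          (⋀[MvPolynomial (Fin n) A]^n (Ω[MvPolynomial (Fin n) A⁄A]))))
    haveI := Module.subsingleton (MvPolynomial (Fin n) A ⧸ I)
      (⋀[MvPolynomial (Fin n) A ⧸ I]^(n - r) (Ω[(MvPolynomial (Fin n) A ⧸ I)⁄A]))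
    exact ⟨LinearEquiv.ofSubsingleton _ _⟩
  · have hsurj : Function.Surjective (algebraMap (MvPolynomial (Fin n) A)
        (MvPolynomial (Fin n) A ⧸ I)) := Ideal.Quotient.mk_surjective
    haveI : Nontrivial (MvPolynomial (Fin n) A) := hsurj.nontrivial
    let bΩ := KaehlerDifferential.mvPolynomialBasis A (Fin n)
    -- right-hand side
    obtain ⟨eR⟩ := ExtDet4.core A (MvPolynomial (Fin n) A) n r hrn bΩ F hreg I hI
    -- left-hand side
    obtain ⟨hF, bI, -⟩ := ExtDet3.exists_basis_cotangent r F hreg I hI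
    obtain ⟨e1⟩ := ExtDet4.nonempty_top_equiv r bI
    obtain ⟨e3⟩ := ExtDet4.nonempty_top_equiv n bΩ
    let e2 : Module.Dual (MvPolynomial (Fin n) A ⧸ I)
        (⋀[MvPolynomial (Fin n) A ⧸ I]^r I.Cotangent) ≃ₗ[MvPolynomial (Fin n) A ⧸ I]
        (MvPolynomial (Fin n) A ⧸ I) :=
      e1.dualMap.trans (LinearMap.ringLmapEquivSelf (MvPolynomial (Fin n) A ⧸ I)
        (MvPolynomial (Fin n) A ⧸ I) (MvPolynomial (Fin n) A ⧸ I))
    let e4 : (MvPolynomial (Fin n) A ⧸ I) ⊗[MvPolynomial (Fin n) A]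
          (⋀[MvPolynomial (Fin n) A]^n (Ω[MvPolynomial (Fin n) A⁄A]))
        ≃ₗ[MvPolynomial (Fin n) A ⧸ I] (MvPolynomial (Fin n) A ⧸ I) :=
      (TensorProduct.AlgebraTensorModule.congr
        (LinearEquiv.refl (MvPolynomial (Fin n) A ⧸ I) (MvPolynomial (Fin n) A ⧸ I)) e3.symm).trans
        (TensorProduct.AlgebraTensorModule.rid (MvPolynomial (Fin n) A)
          (MvPolynomial (Fin n) A ⧸ I) (MvPolynomial (Fin n) A ⧸ I))
    exact ⟨((TensorProduct.congr e2 e4).trans (TensorProduct.lid _ _)).trans eR.symm⟩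

end Groth.Agent.Helper3.ExtDet5
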