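import Mathlib
import Groth.Prelude
import Groth.Agent.Lib.Helper3.ER
import Groth.Agent.Lib.Helper3.GQ8

/-!
# Quotient of a scheme by a free action of a finite locally free group scheme (helper3)
-/

set_option autoImplicit false
set_option linter.style.haveILetI false
set_option linter.unusedSectionVars false
universe u

open CategoryTheory MonoidalCategory CartesianMonoidalCategory MonObj GrpObj AlgebraicGeometry
open CategoryTheory.Limits
open Grpd

namespace Groth.Agent.Helper3.FA

open Groth.Agent.Helper3.GQ5 (Hb)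

/-- prime avoidance: a finite set of points of an open of a prime spectrum lies in a basic open
contained in that open -/
theorem exists_basicOpen_of_finite {A : Type u} [CommRing A] (F : Set (PrimeSpectrum A))
    (hF : F.Finite) (O : Set (PrimeSpectrum A)) (hO : IsOpen O) (hFO : F ⊆ O) :
    ∃ f : A, F ⊆ (PrimeSpectrum.basicOpen f : Set (PrimeSpectrum A)) ∧
      (PrimeSpectrum.basicOpen f : Set (PrimeSpectrum A)) ⊆ O := by
  rcases F.eq_empty_or_nonempty with rfl | ⟨p₀, hp₀⟩
  · exact ⟨0, Set.empty_subset _, by simp⟩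
  obtain ⟨s, hs⟩ := (PrimeSpectrum.isOpen_iff O).1 hO
  have hI : ∀ p ∈ F, ¬ ((Ideal.span s : Ideal A) ≤ p.asIdeal) := by
    intro p hp hle
    have h1 : p ∈ PrimeSpectrum.zeroLocus s := by
      rw [PrimeSpectrum.mem_zeroLocus]
      exact fun x hx => hle (Ideal.subset_span hx)
    rw [← hs] at h1
    exact h1 (hFO hp)
  have h2 : ¬ (((Ideal.span s : Ideal A) : Set A) ⊆
      ⋃ p ∈ (hF.toFinset : Set (PrimeSpectrum A)), (p.asIdeal : Set A)) := by
    intro hsub
    obtain ⟨p, hp, hle⟩ := (Ideal.subset_union_prime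
      (f := fun p : PrimeSpectrum A => p.asIdeal) p₀ p₀ (fun p _ _ _ => p.isPrime)).1 hsub
    exact hI p (hF.mem_toFinset.1 hp) hle
  rw [Set.not_subset] at h2
  obtain ⟨f, hfI, hf⟩ := h2
  refine ⟨f, ?_, ?_⟩
  · intro p hp
    rw [SetLike.mem_coe, PrimeSpectrum.mem_basicOpen]
    intro hfp
    exact hf (Set.mem_iUnion₂.2 ⟨p, Finset.mem_coe.2 (hF.mem_toFinset.2 hp), hfp⟩)
  · intro q hq
    by_contra hqO
    have h1 : q ∈ PrimeSpectrum.zeroLocus s := by rw [← hs]; exact hqO
    rw [PrimeSpectrum.mem_zeroLocus] at h1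
    have hle : (Ideal.span s : Ideal A) ≤ q.asIdeal := Ideal.span_le.2 h1
    exact (PrimeSpectrum.mem_basicOpen f q).1 hq (hle hfI)

variable {S : Scheme.{u}} {G X : Over S} [GrpObj G] (a : AlgGrp.Action G X)

theorem eq_lift {T : Over S} (r : T ⟶ G ⊗ X) : r = lift (r ≫ fst G X) (r ≫ snd G X) := by
  apply CartesianMonoidalCategory.hom_ext <;> simp

theorem isEqvRel
    (hfree : ∀ (T : Over S) (g : T ⟶ G) (x : T ⟶ X), lift g x ≫ a.act = x → g = toUnit T ≫ η[G]) :
    AlgSp.IsEqvRel (snd G X) a.act where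
  injective := by
    intro T r r' ht hs
    have er := eq_lift r
    have er' := eq_lift r'
    rw [← hs] at er'
    generalize r ≫ fst G X = g at er
    generalize r' ≫ fst G X = g' at er'
    generalize r ≫ snd G X = x at er er'
    subst er er'
    have h2 : lift (g'⁻¹ * g) x ≫ a.act = x := by
      rw [AlgGrp.Action.lift_mul_act, ht, ← AlgGrp.Action.lift_mul_act, inv_mul_cancel,
        AlgGrp.Action.lift_one_act]
    have h3 : g'⁻¹ * g = 1 := (hfree T _ x h2).trans Hom.one_def.symm
    have h4 : g' = g := inv_mul_eq_one.1 h3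
    rw [h4]
  equivalence := fun T =>
    { refl := fun x => ⟨lift 1 x, AlgGrp.Action.lift_one_act a x, lift_snd _ _⟩
      symm := by
        rintro x y ⟨r, hra, hrb⟩
        have er := eq_lift r
        rw [hrb] at er
        generalize r ≫ fst G X = g at er
        subst er
        refine ⟨lift g⁻¹ x, ?_, lift_snd _ _⟩
        rw [← hra, ← AlgGrp.Action.lift_mul_act, inv_mul_cancel, AlgGrp.Action.lift_one_act]
      trans := by
        rintro x y z ⟨r, hra, hrb⟩ ⟨r', hra', hrb'⟩
        have er := eq_lift r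
        have er' := eq_lift r'
        rw [hrb] at er
        rw [hrb'] at er'
        generalize r ≫ fst G X = g at er
        generalize r' ≫ fst G X = g' at er'
        subst er er'
        refine ⟨lift (g * g') z, ?_, lift_snd _ _⟩
        rw [AlgGrp.Action.lift_mul_act, hra', hra] }

variable (h : AlgSp.IsEqvRel (snd G X) a.act)

theorem hb_of_affineHom [IsAffineHom X.hom] : Hb (ER.grpd h) := by
  intro x
  obtain ⟨V, hV, hxV, -⟩ := (TopologicalSpace.Opens.isBasis_iff_nbhd.1 S.isBasis_affineOpens)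
    (show X.hom x ∈ (⊤ : S.Opens) from trivial)
  refine ⟨X.hom ⁻¹ᵁ V, hV.preimage X.hom, fun r hr => ?_⟩
  show X.hom (a.act.left r) ∈ V
  have h1 : X.hom (a.act.left r) = X.hom ((snd G X).left r) := by
    rw [← Scheme.Hom.comp_apply, ← Scheme.Hom.comp_apply, Over.w, Over.w]
  rw [h1]
  have hr' : (snd G X).left r = x := hr
  rw [hr']
  exact hxV

theorem hb_of_radicial [UniversallyInjective G.hom] : Hb (ER.grpd h) := by
  intro x
  obtain ⟨V, hV, hxV, -⟩ := (TopologicalSpace.Opens.isBasis_iff_nbhd.1 X.left.isBasis_affineOpens)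
    (show x ∈ (⊤ : X.left.Opens) from trivial)
  refine ⟨V, hV, fun r hr => ?_⟩
  haveI : UniversallyInjective (snd G X).left :=
    MorphismProperty.pullback_snd (P := @UniversallyInjective) G.hom X.hom inferInstance
  have hr0 : (snd G X).left r = x := hr
  have hr' : r = (ER.e0 h) x := by
    apply (snd G X).left.injective
    rw [hr0, ← Scheme.Hom.comp_apply, ER.e0_s]
    simp
  show a.act.left r ∈ V
  rw [hr', ← Scheme.Hom.comp_apply, ER.e0_t]
  simpa using hxV

theorem hb_of_quasiAffine [IsFinite (snd G X).left] {A : CommRingCat.{u}} (i : X.left ⟶ Spec A)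
    [IsOpenImmersion i] : Hb (ER.grpd h) := by
  intro x
  have hfin : ((snd G X).left ⁻¹' {x}).Finite := (snd G X).left.finite_preimage_singleton x
  obtain ⟨F, hFdef⟩ : ∃ F : Set (PrimeSpectrum A),
      F = (fun r => i (a.act.left r)) '' ((snd G X).left ⁻¹' {x}) := ⟨_, rfl⟩
  have hF : F.Finite := by rw [hFdef]; exact hfin.image _
  have hFO : F ⊆ (i.opensRange : Set (Spec A)) := by
    rw [hFdef]
    rintro _ ⟨r, -, rfl⟩
    exact ⟨_, rfl⟩
  obtain ⟨f, hFf, hfO⟩ := exists_basicOpen_of_finite F hF _ i.opensRange.isOpen hFO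
  have hD : IsAffineOpen (X := Spec A) (PrimeSpectrum.basicOpen f) := by
    rw [← basicOpen_eq_of_affine]
    exact (isAffineOpen_top (Spec A)).basicOpen _
  refine ⟨i ⁻¹ᵁ (PrimeSpectrum.basicOpen f), hD.preimage_of_isOpenImmersion i
    (fun y hy => hfO hy), fun r hr => ?_⟩
  apply hFf
  rw [hFdef]
  exact ⟨r, hr, rfl⟩

theorem main (hG : Mor2.IsFinLocFree G.hom)
    (hfree : ∀ (T : Over S) (g : T ⟶ G) (x : T ⟶ X), lift g x ≫ a.act = x → g = toUnit T ≫ η[G])
    (h3 : IsAffineHom X.hom ∨ (∃ (R : CommRingCat.{u}) (i : X.left ⟶ Spec R), IsOpenImmersion i) ∨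
      UniversallyInjective G.hom) :
    ∃ (M : Over S) (q : X ⟶ M), QuotSh.IsQuotient Scheme.fppfPrecoverage (snd G X) a.act q ∧
      IsPullback a.act.left (snd G X).left q.left q.left ∧
      NonAbH1.IsLocallyTrivialFor Scheme.fppfPrecoverage (Over.mk q.left) := by
  have h := isEqvRel a hfree
  obtain ⟨hG1, hG2, hG3⟩ := hG
  haveI : IsFinite (snd G X).left := by
    show IsFinite (pullback.snd G.hom X.hom)
    infer_instance
  haveI : Flat (snd G X).left := by
    show Flat (pullback.snd G.hom X.hom)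
    infer_instance
  haveI : LocallyOfFinitePresentation (snd G X).left := by
    show LocallyOfFinitePresentation (pullback.snd G.hom X.hom)
    infer_instance
  haveI : Mono (ER.grpd h).j :=
    Groth.Agent.Helper3.GQ1.mono_j_of_forall (ER.grpd h) (fun x y ht hs => ER.hom_ext h x y ht hs)
  have hb : Hb (ER.grpd h) := by
    rcases h3 with h3 | ⟨A, i, hi⟩ | h3
    · haveI := h3
      exact hb_of_affineHom a h
    · haveI := hi
      exact hb_of_quasiAffine a h i
    · haveI := h3
      exact hb_of_radicial a h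
  haveI := Groth.Agent.Helper3.GQ7.isFinite_p hb
  haveI := Groth.Agent.Helper3.GQ7.flat_p hb
  haveI := Groth.Agent.Helper3.GQ7.lfp_p hb
  haveI : Surjective (Groth.Agent.Helper3.GQ5.p hb) := ⟨Groth.Agent.Helper3.GQ5.surjective_p hb⟩
  have hPB := Groth.Agent.Helper3.GQ7.isPullback_ts hb
  have hpU : (ER.grpd h).t ≫ (ER.grpd h).pU = (ER.grpd h).s ≫ (ER.grpd h).pU := by
    rw [(ER.grpd h).t_over, (ER.grpd h).s_over]
  refine ⟨Over.mk (Groth.Agent.Helper3.GQ6.desc hb (ER.grpd h).pU hpU),
    Over.homMk (Groth.Agent.Helper3.GQ5.p hb) (Groth.Agent.Helper3.GQ6.p_desc hb _ hpU),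
    ?_, hPB, ?_⟩
  · refine Groth.Agent.Helper18.QSh.isQuotient_of_isKernelPair Scheme.fppfPrecoverage ?_ ?_
    · exact IsPullback.of_map_of_faithful (Over.forget S) hPB.flip
    · exact Groth.Agent.Helper18.QSh.secSieve_mem_of_singleton _ _
        ((Groth.Agent.Helper3.GQ5.p hb).singleton_mem_fppfPrecoverage)
  · refine ⟨Presieve.singleton (Groth.Agent.Helper3.GQ5.p hb),
      (Groth.Agent.Helper3.GQ5.p hb).singleton_mem_fppfPrecoverage, ?_⟩
    rintro S' f ⟨⟩
    exact ⟨𝟙 _, Category.id_comp _⟩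

end Groth.Agent.Helper3.FA
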