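import Mathlib

/-!
# Every algebra is the filtered colimit of its finitely generated subalgebras
(in `Under (CommRingCat.of K)`).
-/

open CategoryTheory Limits

namespace Groth.Agent.Helper3.FGColim

universe u

variable (K B : Type u) [CommRing K] [CommRing B] [Algebra K B]

/-- The finitely generated subalgebras. -/
abbrev FGSub := {S : Subalgebra K B // S.FG}

instance : Nonempty (FGSub K B) := ⟨⟨⊥, Subalgebra.fg_bot⟩⟩

instance : IsDirectedOrder (FGSub K B) :=
  ⟨fun S T => ⟨⟨S.1 ⊔ T.1, S.2.sup T.2⟩, (le_sup_left : S.1 ≤ S.1 ⊔ T.1),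
    (le_sup_right : T.1 ≤ S.1 ⊔ T.1)⟩⟩

/-- The diagram of finitely generated subalgebras. -/
noncomputable def diagram : FGSub K B ⥤ Under (CommRingCat.of K) where
  obj S := Under.mk (CommRingCat.ofHom (algebraMap K S.1))
  map {S T} h := Under.homMk (CommRingCat.ofHom (Subalgebra.inclusion (leOfHom h)).toRingHom)
    (by ext r; rfl)
  map_id S := by ext x; rfl
  map_comp f g := by ext x; rfl

/-- The cocone with vertex `B`. -/
noncomputable def cocone : Cocone (diagram K B) where
  pt := Under.mk (CommRingCat.ofHom (algebraMap K B))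
  ι :=
    { app := fun S => Under.homMk (CommRingCat.ofHom S.1.val.toRingHom) (by ext r; rfl)
      naturality := by intro S T h; ext x; rfl }

variable {K B}

section desc

variable (t : Cocone (diagram K B))

/-- The subalgebra generated by a finite set, as an element of `FGSub`. -/
noncomputable def gen (s : Finset B) : FGSub K B :=
  ⟨Algebra.adjoin K (s : Set B), Subalgebra.fg_adjoin_finset s⟩

lemma mem_gen {s : Finset B} {b : B} (hb : b ∈ s) : b ∈ (gen (K := K) s).1 :=
  Algebra.subset_adjoin hb

/-- The underlying function of the descent map. -/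
noncomputable def descFun (b : B) : t.pt.right :=
  (t.ι.app (gen {b})).right.hom ⟨b, mem_gen (Finset.mem_singleton_self b)⟩

lemma descFun_eq (S : FGSub K B) (b : B) (hb : b ∈ S.1) :
    descFun t b = (t.ι.app S).right.hom ⟨b, hb⟩ := by
  have hle : gen (K := K) {b} ≤ S := by
    change Algebra.adjoin K _ ≤ S.1
    apply Algebra.adjoin_le
    intro x hx
    simp only [Finset.coe_singleton, Set.mem_singleton_iff] at hx
    subst hx
    exact hb
  have := t.w (homOfLE hle)
  rw [descFun, ← this]
  rfl

/-- The descent ring homomorphism. -/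
noncomputable def descHom : B →+* t.pt.right where
  toFun := descFun t
  map_one' := by
    rw [descFun_eq t (gen ∅) 1 (one_mem _)]
    exact map_one (t.ι.app (gen ∅)).right.hom
  map_zero' := by
    rw [descFun_eq t (gen ∅) 0 (zero_mem _)]
    exact map_zero (t.ι.app (gen ∅)).right.hom
  map_mul' a b := by
    classical
    have ha : a ∈ (gen (K := K) {a, b}).1 := mem_gen (by simp)
    have hb : b ∈ (gen (K := K) {a, b}).1 := mem_gen (by simp)
    rw [descFun_eq t (gen {a, b}) (a * b) (mul_mem ha hb), descFun_eq t (gen {a, b}) a ha,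
      descFun_eq t (gen {a, b}) b hb, ← map_mul]
    rfl
  map_add' a b := by
    classical
    have ha : a ∈ (gen (K := K) {a, b}).1 := mem_gen (by simp)
    have hb : b ∈ (gen (K := K) {a, b}).1 := mem_gen (by simp)
    rw [descFun_eq t (gen {a, b}) (a + b) (add_mem ha hb), descFun_eq t (gen {a, b}) a ha,
      descFun_eq t (gen {a, b}) b hb, ← map_add]
    rfl

lemma descHom_algebraMap (r : K) : descHom t (algebraMap K B r) = t.pt.hom.hom r := by
  change descFun t _ = _
  rw [descFun_eq t (gen ∅) _ (Subalgebra.algebraMap_mem _ r)]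
  have h := Under.w (t.ι.app (gen (K := K) ∅))
  have h2 := congrArg (fun f => f.hom r) h
  exact h2

end desc

/-- `B` is the colimit of its finitely generated subalgebras. -/
noncomputable def isColimit : IsColimit (cocone K B) where
  desc t := Under.homMk (CommRingCat.ofHom (descHom t)) (by
    ext r
    exact descHom_algebraMap t r)
  fac t S := by
    ext x
    exact (descFun_eq t S x.1 x.2)
  uniq t m hm := by
    ext b
    change m.right.hom b = descFun t b
    rw [descFun, ← hm]
    rfl

end Groth.Agent.Helper3.FGColim
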