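import Mathlib
import Groth.Agent.Lib.Lead.Miracle2
import Groth.Agent.Lib.Lead.Hom16
import Groth.Agent.Lib.Lead.RLR1

/-!
# Finite morphisms between regular schemes are flat (helper3)

* `flat_of_subalgebra`: `A → B` injective local homomorphism of regular local rings, `B` a
  localization of a finite `A`-subalgebra `D ⊆ B` ⇒ `B` flat over `A` (via miracle flatness).
* `flat_of_chart`: chart version.
* `main`: finite `f : X ⟶ Y` of regular locally Noetherian schemes, each irreducible component of
  `X` dominating an irreducible component of `Y` ⇒ `f` flat.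
-/

set_option autoImplicit false
set_option linter.style.haveILetI false
set_option linter.unusedSectionVars false
universe u

open IsLocalRing CategoryTheory AlgebraicGeometry TopologicalSpace

namespace Groth.Agent.Helper3.FinRegFlat

section Alg

variable (A B : Type u) [CommRing A] [CommRing B] [IsRegularLocalRing A] [IsRegularLocalRing B]
  [Algebra A B] [IsLocalHom (algebraMap A B)]

theorem flat_of_subalgebra (hinj : Function.Injective (algebraMap A B))
    (D : Subalgebra A B) [Module.Finite A D]
    (hD : ∀ b : B, ∃ d u : D, IsUnit (u : B) ∧ b * (u : B) = (d : B)) : Module.Flat A B := by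
  haveI : IsDomain B := Groth.Agent.Lead.RLR.isDomain B
  haveI : IsDomain A := Groth.Agent.Lead.RLR.isDomain A
  haveI : IsIntegrallyClosed A := Groth.Agent.Lead.Hom.isIntegrallyClosed_of_isRegularLocalRing A
  haveI : Algebra.IsIntegral A D := Algebra.IsIntegral.of_finite A D
  haveI : IsNoetherianRing D := Algebra.FiniteType.isNoetherianRing A D
  haveI : FaithfulSMul A D := by
    rw [faithfulSMul_iff_algebraMap_injective]
    intro a b hab
    apply hinj
    exact congrArg (fun d : D => (d : B)) hab
  haveI : Algebra.HasGoingDown A D := inferInstance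
  -- the prime `n`
  let n : Ideal D := (maximalIdeal B).comap (algebraMap D B)
  haveI hnp : n.IsPrime := Ideal.comap_isPrime (algebraMap D B) (maximalIdeal B)
  have hcomap : (maximalIdeal B).comap (algebraMap A B) = maximalIdeal A :=
    IsLocalRing.maximalIdeal_comap (algebraMap A B)
  haveI hlo : n.LiesOver (maximalIdeal A) := by
    constructor
    rw [Ideal.under_def]
    show maximalIdeal A =
      Ideal.comap (algebraMap A D) (Ideal.comap (algebraMap D B) (maximalIdeal B))
    rw [Ideal.comap_comap, ← IsScalarTower.algebraMap_eq, hcomap]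
  haveI hloB : (maximalIdeal B).LiesOver (maximalIdeal A) := ⟨hcomap.symm⟩
  -- `B` is the localization of `D` at `n`
  haveI hloc : IsLocalization.AtPrime B n := by
    rw [IsLocalization.AtPrime, isLocalization_iff]
    refine ⟨?_, ?_, ?_⟩
    · rintro ⟨d, hd⟩
      have h1 : algebraMap D B d ∉ maximalIdeal B := hd
      rwa [mem_maximalIdeal, mem_nonunits_iff, not_not] at h1
    · intro b
      obtain ⟨d, u, hu, hbu⟩ := hD b
      refine ⟨(d, ⟨u, ?_⟩), hbu⟩
      intro hun
      have h1 : algebraMap D B u ∈ maximalIdeal B := hun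
      exact (mem_maximalIdeal _).mp h1 hu
    · intro x y hxy
      exact ⟨1, by rw [Subtype.ext hxy]⟩
  have hdimB : ringKrullDim B = n.height := IsLocalization.AtPrime.ringKrullDim_eq_height n B
  have hge : (maximalIdeal A).height ≤ n.height := by
    rw [Ideal.height_eq_height_add_of_liesOver_of_hasGoingDown (maximalIdeal A) n]
    exact le_self_add
  -- the closed fibre has dimension zero
  have hne : (maximalIdeal A).map (algebraMap A B) ≠ ⊤ := by
    intro h
    have h1 : (maximalIdeal A).map (algebraMap A B) ≤ maximalIdeal B := by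
      rw [Ideal.map_le_iff_le_comap, hcomap]
    rw [h] at h1
    exact (maximalIdeal.isMaximal B).ne_top (top_le_iff.mp h1)
  haveI : Nontrivial (B ⧸ (maximalIdeal A).map (algebraMap A B)) :=
    Ideal.Quotient.nontrivial_iff.mpr hne
  have hfib : ringKrullDim (B ⧸ (maximalIdeal A).map (algebraMap A B)) = 0 := by
    rw [← ringKrullDimZero_iff_ringKrullDim_eq_zero,
      Ideal.krullDimLE_zero_quotient_iff_forall_minimalPrimes_isMaximal]
    intro J hJ
    haveI := hJ.1.1
    have hJle : J ≤ maximalIdeal B := IsLocalRing.le_maximalIdeal hJ.1.1.ne_top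
    have hq : (J.comap (algebraMap D B)).comap (algebraMap A D) = maximalIdeal A := by
      rw [Ideal.comap_comap, ← IsScalarTower.algebraMap_eq]
      symm
      apply (maximalIdeal.isMaximal A).eq_of_le
      · exact Ideal.comap_ne_top _ hJ.1.1.ne_top
      · exact Ideal.map_le_iff_le_comap.mp hJ.1.2
    haveI : (J.comap (algebraMap D B)).IsPrime := Ideal.comap_isPrime _ _
    have hqmax : (J.comap (algebraMap D B)).IsMaximal :=
      Ideal.isMaximal_of_isIntegral_of_isMaximal_comap _
        (by rw [hq]; exact maximalIdeal.isMaximal A)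
    have hqn : J.comap (algebraMap D B) = n := hqmax.eq_of_le hnp.ne_top (Ideal.comap_mono hJle)
    have hJ' : J = maximalIdeal B := by
      have e1 : (J.comap (algebraMap D B)).map (algebraMap D B) = J :=
        IsLocalization.map_under n.primeCompl B J
      have e2 : n.map (algebraMap D B) = maximalIdeal B :=
        IsLocalization.map_under n.primeCompl B (maximalIdeal B)
      rw [hqn] at e1
      exact e1.symm.trans e2
    rw [hJ']
    exact maximalIdeal.isMaximal B
  have hle : (maximalIdeal B).height ≤ (maximalIdeal A).height := by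
    have h1 := Ideal.height_le_height_add_of_liesOver (maximalIdeal A) (maximalIdeal B)
    have h2 : ((maximalIdeal B).map
        (Ideal.Quotient.mk ((maximalIdeal A).map (algebraMap A B)))).height = 0 := by
      have hne' : (maximalIdeal B).map
          (Ideal.Quotient.mk ((maximalIdeal A).map (algebraMap A B))) ≠ ⊤ := by
        intro htop
        have h1' : (1 : B ⧸ (maximalIdeal A).map (algebraMap A B)) ∈ (maximalIdeal B).map
          (Ideal.Quotient.mk ((maximalIdeal A).map (algebraMap A B))) := by
          rw [htop]; trivial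
        rw [Ideal.mem_map_iff_of_surjective _ Ideal.Quotient.mk_surjective] at h1'
        obtain ⟨x, hx, hx1⟩ := h1'
        have h3 : x - 1 ∈ (maximalIdeal A).map (algebraMap A B) := by
          rw [← Ideal.Quotient.eq_zero_iff_mem, map_sub, hx1, map_one, sub_self]
        have h4 : x - 1 ∈ maximalIdeal B := by
          have h1'' : (maximalIdeal A).map (algebraMap A B) ≤ maximalIdeal B := by
            rw [Ideal.map_le_iff_le_comap, hcomap]
          exact h1'' h3
        have h5 : (1 : B) ∈ maximalIdeal B := by
          have := (maximalIdeal B).sub_mem hx h4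
          rwa [sub_sub_cancel] at this
        exact (maximalIdeal.isMaximal B).ne_top ((Ideal.eq_top_iff_one _).mpr h5)
      have h6 := Ideal.height_le_ringKrullDim_of_ne_top hne'
      rw [hfib] at h6
      have h7 : ((maximalIdeal B).map
        (Ideal.Quotient.mk ((maximalIdeal A).map (algebraMap A B)))).height ≤ 0 := by
        exact_mod_cast h6
      exact le_antisymm h7 bot_le
    rw [h2, add_zero] at h1
    exact h1
  -- miracle flatness
  have hCM : LocCoh.IsCohenMacaulayLocalRing B :=
    Groth.Agent.Lead.Depth.isCohenMacaulayLocalRing_of_isRegularLocalRing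
  have hCM' : LocCoh.IsCohenMacaulayModule B B := hCM.supportDim_eq_depth
  refine Groth.Agent.Lead.Miracle.flat_of_isCohenMacaulayModule A B B hCM' ?_
  rw [Module.supportDim_self_eq_ringKrullDim]
  have h0 : ((maximalIdeal A).map (algebraMap A B)) • (⊤ : Submodule B B) =
      (maximalIdeal A).map (algebraMap A B) := by
    rw [Ideal.smul_eq_mul, Ideal.mul_top]
  rw [Module.supportDim_eq_of_equiv (Submodule.quotEquivOfEq _ _ h0),
    Module.supportDim_quotient_eq_ringKrullDim, hfib, add_zero]
  apply le_antisymm
  · rw [← IsLocalRing.maximalIdeal_height_eq_ringKrullDim (R := B),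
      ← IsLocalRing.maximalIdeal_height_eq_ringKrullDim (R := A)]
    exact WithBot.coe_le_coe.mpr hle
  · rw [hdimB, ← IsLocalRing.maximalIdeal_height_eq_ringKrullDim (R := A)]
    exact WithBot.coe_le_coe.mpr hge

theorem flat_of_chart {R S : Type u} [CommRing R] [CommRing S] (φ : R →+* S) (hφ : φ.Finite)
    (gA : R →+* A) (gB : S →+* B) (hcomm : (algebraMap A B).comp gA = gB.comp φ)
    (hinj : Function.Injective (algebraMap A B))
    (hsurj : ∀ b : B, ∃ s t : S, IsUnit (gB t) ∧ b * gB t = gB s) : Module.Flat A B := by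
  classical
  letI := φ.toAlgebra
  haveI : Module.Finite R S := hφ
  obtain ⟨T, hT⟩ := (Algebra.FiniteType.out : (⊤ : Subalgebra R S).FG)
  let D : Subalgebra A B := Algebra.adjoin A (gB '' (T : Set S))
  have hint : ∀ s : S, IsIntegral A (gB s) := fun s =>
    IsIntegral.map_of_comp_eq gA gB hcomm (Algebra.IsIntegral.isIntegral s)
  have hmem : ∀ s : S, gB s ∈ D := by
    intro s
    have hs : s ∈ Algebra.adjoin R (T : Set S) := by rw [hT]; trivial
    induction hs using Algebra.adjoin_induction with
    | mem x hx => exact Algebra.subset_adjoin ⟨x, hx, rfl⟩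
    | algebraMap r =>
      have h1 : gB (algebraMap R S r) = algebraMap A B (gA r) := (RingHom.congr_fun hcomm r).symm
      rw [h1]
      exact D.algebraMap_mem _
    | add x y _ _ hx hy => rw [map_add]; exact D.add_mem hx hy
    | mul x y _ _ hx hy => rw [map_mul]; exact D.mul_mem hx hy
  haveI : Module.Finite A D := by
    have h1 : (Subalgebra.toSubmodule D).FG :=
      fg_adjoin_of_finite (Set.Finite.image _ T.finite_toSet)
        (by rintro _ ⟨s, -, rfl⟩; exact hint s)
    exact Module.Finite.of_fg h1
  refine flat_of_subalgebra A B hinj D ?_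
  intro b
  obtain ⟨s, t, ht, hb⟩ := hsurj b
  exact ⟨⟨gB s, hmem s⟩, ⟨gB t, hmem t⟩, ht, hb⟩

end Alg

section Sch

variable {X Y : Scheme.{u}}

/-- the generization map of local rings is injective when the source is a domain
(copy of `Helper7.NormalSections.stalkSpecializes_injective`) -/
theorem stalkSpecializes_injective (X : Scheme.{u}) {x y : X} (h : x ⤳ y)
    [IsDomain (X.presheaf.stalk y)] :
    Function.Injective (X.presheaf.stalkSpecializes h).hom := by
  rw [injective_iff_map_eq_zero]
  intro a ha
  obtain ⟨W, hyW, r₀, rfl⟩ := X.presheaf.exists_germ_eq a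
  obtain ⟨V, hV, hyV, hVW⟩ := exists_isAffineOpen_mem_and_subset (x := y) (U := W) hyW
  have hxV : x ∈ V := h.mem_open V.isOpen hyV
  set r : Γ(X, V) := (X.presheaf.map (homOfLE hVW).op).hom r₀ with hr
  have hgr : (X.presheaf.germ W y hyW).hom r₀ = (X.presheaf.germ V y hyV).hom r :=
    (TopCat.Presheaf.germ_res_apply X.presheaf (homOfLE hVW) y hyV r₀).symm
  rw [hgr] at ha ⊢
  have hsp : ∀ t : Γ(X, V), (X.presheaf.stalkSpecializes h).hom ((X.presheaf.germ V y hyV).hom t) =
      (X.presheaf.germ V x hxV).hom t := by
    intro t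
    have := congrArg (fun φ => φ.hom t) (X.presheaf.germ_stalkSpecializes hyV h)
    simp only [CommRingCat.hom_comp, RingHom.comp_apply] at this
    exact this
  rw [hsp] at ha
  letI := X.presheaf.algebra_section_stalk ⟨x, hxV⟩
  haveI := hV.isLocalization_stalk ⟨x, hxV⟩
  have ha' : algebraMap Γ(X, V) (X.presheaf.stalk x) r = 0 := ha
  rw [IsLocalization.map_eq_zero_iff (hV.primeIdealOf ⟨x, hxV⟩).asIdeal.primeCompl] at ha'
  obtain ⟨⟨t, ht⟩, htr⟩ := ha'
  have hmul : (X.presheaf.germ V y hyV).hom t * (X.presheaf.germ V y hyV).hom r = 0 := by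
    rw [← map_mul]
    have : t * r = 0 := htr
    rw [this, map_zero]
  rcases mul_eq_zero.mp hmul with h0 | h0
  · exfalso
    have h1 : (X.presheaf.germ V x hxV).hom t = 0 := by
      rw [← hsp, h0, map_zero]
    have h2 : IsUnit (algebraMap Γ(X, V) (X.presheaf.stalk x) t) :=
      IsLocalization.map_units (X.presheaf.stalk x)
        (⟨t, ht⟩ : (hV.primeIdealOf ⟨x, hxV⟩).asIdeal.primeCompl)
    have h3 : algebraMap Γ(X, V) (X.presheaf.stalk x) t = 0 := h1
    rw [h3] at h2
    exact not_isUnit_zero h2
  · exact h0

theorem maximal_of_mem_irreducibleComponents {T : Type*} [TopologicalSpace T] [T0Space T]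
    (ξ : T) (hξ : closure ({ξ} : Set T) ∈ irreducibleComponents T) (x₁ : T) (h : x₁ ⤳ ξ) :
    x₁ = ξ := by
  have h1 : closure ({ξ} : Set T) ⊆ closure {x₁} :=
    closure_minimal (Set.singleton_subset_iff.mpr h.mem_closure) isClosed_closure
  have h2 : closure ({x₁} : Set T) ⊆ closure {ξ} := hξ.2 isIrreducible_singleton.closure h1
  have h3 : ξ ⤳ x₁ := specializes_iff_mem_closure.mpr (h2 (subset_closure rfl))
  exact (h.antisymm h3).eq

theorem stalkMap_injective (f : X ⟶ Y) [IsLocallyNoetherian Y]
    (hY : ∀ y : Y, IsRegularLocalRing (Y.presheaf.stalk y))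
    (hdom : ∀ Z ∈ irreducibleComponents (X : Type u),
      closure (f.base '' Z) ∈ irreducibleComponents (Y : Type u)) (x : X) :
    Function.Injective (f.stalkMap x).hom := by
  haveI := hY (f x)
  haveI : IsDomain (Y.presheaf.stalk (f x)) := Groth.Agent.Lead.RLR.isDomain _
  have hZ : irreducibleComponent x ∈ irreducibleComponents X :=
    irreducibleComponent_mem_irreducibleComponents x
  obtain ⟨ξ, hξ⟩ := QuasiSober.sober hZ.1 (isClosed_of_mem_irreducibleComponents _ hZ)
  have hξx : ξ ⤳ x := by
    rw [specializes_iff_mem_closure, hξ.def]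
    exact mem_irreducibleComponent
  have hη : closure ({f ξ} : Set Y) ∈ irreducibleComponents Y := by
    have h1 := hdom _ hZ
    rw [← hξ.def] at h1
    have e : closure (f.base '' closure {ξ}) = closure {f ξ} := by
      apply subset_antisymm
      · apply closure_minimal _ isClosed_closure
        refine (image_closure_subset_closure_image f.continuous).trans ?_
        rw [Set.image_singleton]
      · apply closure_mono
        rw [Set.singleton_subset_iff]
        exact ⟨ξ, subset_closure rfl, rfl⟩
    rwa [e] at h1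
  have hmax := maximal_of_mem_irreducibleComponents (f ξ) hη
  haveI := hY (f ξ)
  haveI : IsDomain (Y.presheaf.stalk (f ξ)) := Groth.Agent.Lead.RLR.isDomain _
  have hMax : IsMax (f ξ) := by
    intro b hb
    have hbx : b = f ξ := hmax b hb
    rw [hbx]
  have h0 : Order.coheight (f ξ) ≤ ((0 : ℕ) : ℕ∞) := by
    rw [Order.coheight_eq_zero.mpr hMax]
    simp
  haveI : Ring.KrullDimLE 0 (Y.presheaf.stalk (f ξ)) := krullDimLE_of_coheight_le h0
  have hfield : IsField (Y.presheaf.stalk (f ξ)) := Ring.KrullDimLE.isField_of_isDomain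
  have hinjξ : Function.Injective (f.stalkMap ξ).hom := by
    rw [injective_iff_map_eq_zero]
    intro a ha
    by_contra hne
    obtain ⟨b, hb⟩ := hfield.mul_inv_cancel hne
    have h1 : (f.stalkMap ξ).hom (a * b) = 1 := by rw [hb, map_one]
    rw [map_mul, ha, zero_mul] at h1
    exact zero_ne_one h1
  rw [injective_iff_map_eq_zero]
  intro a ha
  have h1 := Scheme.Hom.stalkSpecializes_stalkMap_apply f ξ x hξx a
  have ha' : f.stalkMap x a = 0 := ha
  rw [ha', map_zero] at h1
  have h2 : (Y.presheaf.stalkSpecializes (f.base.hom.map_specializes hξx)).hom a = 0 :=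
    hinjξ (by rw [map_zero]; exact h1)
  exact stalkSpecializes_injective Y (f.base.hom.map_specializes hξx) (by rw [map_zero]; exact h2)

theorem main (f : X ⟶ Y) [IsFinite f]
    [IsLocallyNoetherian X] [IsLocallyNoetherian Y]
    (hX : ∀ x : X, IsRegularLocalRing (X.presheaf.stalk x))
    (hY : ∀ y : Y, IsRegularLocalRing (Y.presheaf.stalk y))
    (hdom : ∀ Z ∈ irreducibleComponents (X : Type u),
      closure (f.base '' Z) ∈ irreducibleComponents (Y : Type u)) :
    Flat f := by
  apply Flat.of_stalkMap
  intro x
  haveI := hX x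
  haveI := hY (f x)
  obtain ⟨_, ⟨U, hU, rfl⟩, hxU, -⟩ :=
    Y.isBasis_affineOpens.exists_subset_of_mem_open (Set.mem_univ (f x)) isOpen_univ
  have hV : IsAffineOpen (f ⁻¹ᵁ U) := hU.preimage f
  have hxV : x ∈ f ⁻¹ᵁ U := hxU
  have hfin : (f.app U).hom.Finite := IsFinite.finite_app f U hU
  letI algB : Algebra Γ(X, f ⁻¹ᵁ U) (X.presheaf.stalk x) :=
    TopCat.Presheaf.algebra_section_stalk X.presheaf ⟨x, hxV⟩
  haveI locB := hV.isLocalization_stalk ⟨x, hxV⟩
  letI algAB : Algebra (Y.presheaf.stalk (f x)) (X.presheaf.stalk x) :=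
    (f.stalkMap x).hom.toAlgebra
  haveI : IsLocalHom (algebraMap (Y.presheaf.stalk (f x)) (X.presheaf.stalk x)) := by
    show IsLocalHom (f.stalkMap x).hom
    infer_instance
  show Module.Flat (Y.presheaf.stalk (f x)) (X.presheaf.stalk x)
  refine flat_of_chart (Y.presheaf.stalk (f x)) (X.presheaf.stalk x) (f.app U).hom hfin
    (Y.presheaf.germ U (f x) hxU).hom (X.presheaf.germ (f ⁻¹ᵁ U) x hxV).hom ?_ ?_ ?_
  · have h1 := congrArg CommRingCat.Hom.hom (Scheme.Hom.germ_stalkMap f U x hxU)
    rw [CommRingCat.hom_comp, CommRingCat.hom_comp] at h1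
    exact h1
  · exact stalkMap_injective f hY hdom x
  · intro b
    obtain ⟨⟨s, t⟩, hst⟩ := IsLocalization.surj (hV.primeIdealOf ⟨x, hxV⟩).asIdeal.primeCompl b
    exact ⟨s, t, IsLocalization.map_units (X.presheaf.stalk x) t, hst⟩

end Sch

end Groth.Agent.Helper3.FinRegFlat
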