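import Mathlib

/-!
# Local rings of `Ω ⊗[k] L` and ramification of local homomorphisms (helper3)

Ring-level input for S6556 / S7627.

* `length_self_eq_of_ringEquiv`, `length_loc_eq_of_ringEquiv`: the length of a ring over itself is
  invariant under ring isomorphisms (also for localizations at corresponding primes);
* `ramificationIdx_local`: for a local homomorphism `R → S` of local rings,
  `e(m_S | R) = length (S / m_R S)`;
* `map_maximalIdeal_eq`: flat local Noetherian `R → S` with `dim R = dim S` and reduced closed fibre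
  has `m_R S = m_S`;
* `main`: for `L/k` finite and `Ω` an algebraic closure of `k`, every local ring of `Ω ⊗[k] L` has
  length `[L : k]_i`.
-/

set_option autoImplicit false
universe u

open TensorProduct IsLocalRing

namespace Groth.Agent.Helper3.InsepRam

/-! ### invariance of length under ring isomorphism -/

theorem length_self_eq_of_ringEquiv {A B : Type*} [CommRing A] [CommRing B] (e : A ≃+* B) :
    Module.length A A = Module.length B B := by
  letI : Algebra A B := e.toRingHom.toAlgebra
  have h1 : Module.length A B = Module.length B B :=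
    Module.length_eq_of_surjective (R := B) (M := B) (S := A) e.surjective
  let l : A ≃ₗ[A] B :=
    { e.toAddEquiv with
      map_smul' := fun a x => by
        show e (a * x) = e a * e x
        exact map_mul e a x }
  rw [← h1]
  exact l.length_eq

theorem length_quot_self {A : Type*} [CommRing A] (J : Ideal A) :
    Module.length A (A ⧸ J) = Module.length (A ⧸ J) (A ⧸ J) :=
  Module.length_eq_of_surjective (R := A ⧸ J) (M := A ⧸ J) (S := A) Ideal.Quotient.mk_surjective

theorem length_loc_eq_of_ringEquiv {A B : Type*} [CommRing A] [CommRing B] (φ : A ≃+* B)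
    (P : Ideal A) [P.IsPrime] (Q : Ideal B) [Q.IsPrime] (h : P = Q.comap (φ : A →+* B)) :
    Module.length (Localization.AtPrime P) (Localization.AtPrime P) =
      Module.length (Localization.AtPrime Q) (Localization.AtPrime Q) := by
  have hmem : ∀ a : A, a ∈ P ↔ φ a ∈ Q := by
    intro a
    rw [h]
    exact Iff.rfl
  have H : P.primeCompl.map φ.toMonoidHom = Q.primeCompl := by
    ext b
    rw [Submonoid.mem_map]
    constructor
    · rintro ⟨a, ha, rfl⟩
      show φ a ∉ Q
      intro hb
      exact ha ((hmem a).mpr hb)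
    · intro hb
      refine ⟨φ.symm b, ?_, φ.apply_symm_apply b⟩
      show φ.symm b ∉ P
      intro ha
      apply hb
      have := (hmem (φ.symm b)).mp ha
      rwa [φ.apply_symm_apply] at this
  exact length_self_eq_of_ringEquiv
    (IsLocalization.ringEquivOfRingEquiv (Localization.AtPrime P) (Localization.AtPrime Q) φ H)

/-! ### ramification index of a local homomorphism -/

theorem ramificationIdx_local {R S : Type*} [CommRing R] [CommRing S] [IsLocalRing R]
    [IsLocalRing S] [Algebra R S] [IsLocalHom (algebraMap R S)] :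
    (maximalIdeal S).ramificationIdx R =
      (Module.length (S ⧸ (maximalIdeal R).map (algebraMap R S))
        (S ⧸ (maximalIdeal R).map (algebraMap R S))).toNat := by
  have hunder : (maximalIdeal S).under R = maximalIdeal R :=
    IsLocalRing.maximalIdeal_comap (algebraMap R S)
  rw [Ideal.ramificationIdx_def, hunder]
  congr 1
  have hM : (maximalIdeal S).primeCompl ≤ IsUnit.submonoid S := by
    intro s hs
    have hs' : s ∉ maximalIdeal S := hs
    exact IsLocalRing.notMem_maximalIdeal.mp hs'
  let e : S ≃ₐ[S] Localization.AtPrime (maximalIdeal S) :=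
    IsLocalization.atUnits S (maximalIdeal S).primeCompl hM
  have hcomp : algebraMap R (Localization.AtPrime (maximalIdeal S)) =
      ((e.toRingEquiv : S ≃+* Localization.AtPrime (maximalIdeal S)) :
        S →+* Localization.AtPrime (maximalIdeal S)).comp (algebraMap R S) := by
    ext r
    have h1 := e.commutes (algebraMap R S r)
    rw [IsScalarTower.algebraMap_apply R S (Localization.AtPrime (maximalIdeal S))]
    exact h1.symm
  have hJ : (maximalIdeal R).map (algebraMap R (Localization.AtPrime (maximalIdeal S))) =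
      ((maximalIdeal R).map (algebraMap R S)).map
        ((e.toRingEquiv : S ≃+* Localization.AtPrime (maximalIdeal S)) :
          S →+* Localization.AtPrime (maximalIdeal S)) := by
    rw [Ideal.map_map, ← hcomp]
  rw [length_quot_self]
  exact length_self_eq_of_ringEquiv (Ideal.quotientEquiv _ _ e.toRingEquiv hJ).symm

/-! ### `m_R S = m_S` for flat local homomorphisms with reduced closed fibre of dimension zero -/

theorem map_maximalIdeal_eq {R S : Type*} [CommRing R] [CommRing S] [IsLocalRing R]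
    [IsLocalRing S] [IsNoetherianRing R] [IsNoetherianRing S] [Algebra R S]
    [IsLocalHom (algebraMap R S)] [Module.Flat R S]
    (hdim : ringKrullDim R = ringKrullDim S)
    (hred : IsReduced (S ⧸ (maximalIdeal R).map (algebraMap R S))) :
    (maximalIdeal R).map (algebraMap R S) = maximalIdeal S := by
  have hIle : (maximalIdeal R).map (algebraMap R S) ≤ maximalIdeal S :=
    IsLocalRing.map_maximalIdeal_le (algebraMap R S)
  have hI_ne : (maximalIdeal R).map (algebraMap R S) ≠ ⊤ := fun h =>
    (maximalIdeal.isMaximal S).ne_top (top_le_iff.mp (h ▸ hIle))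
  haveI : Nontrivial (S ⧸ (maximalIdeal R).map (algebraMap R S)) :=
    Ideal.Quotient.nontrivial_iff.mpr hI_ne
  haveI : IsLocalRing (S ⧸ (maximalIdeal R).map (algebraMap R S)) :=
    IsLocalRing.of_surjective' (Ideal.Quotient.mk _) Ideal.Quotient.mk_surjective
  haveI : (maximalIdeal S).LiesOver (maximalIdeal R) :=
    ⟨(IsLocalRing.maximalIdeal_comap (algebraMap R S)).symm⟩
  have h := Ideal.height_eq_height_add_of_liesOver_of_hasGoingDown (maximalIdeal R)
    (maximalIdeal S)
  rw [IsLocalRing.map_maximalIdeal_of_surjective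
    (Ideal.Quotient.mk ((maximalIdeal R).map (algebraMap R S))) Ideal.Quotient.mk_surjective] at h
  have hRS : (maximalIdeal R).height = (maximalIdeal S).height := by
    have h2 := hdim
    rw [← IsLocalRing.maximalIdeal_height_eq_ringKrullDim,
      ← IsLocalRing.maximalIdeal_height_eq_ringKrullDim] at h2
    exact_mod_cast h2
  have hfin : (maximalIdeal R).height ≠ ⊤ :=
    Ideal.height_ne_top (maximalIdeal.isMaximal R).ne_top
  have h0 : (maximalIdeal (S ⧸ (maximalIdeal R).map (algebraMap R S))).height = 0 := by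
    rw [← hRS] at h
    have h3 : (maximalIdeal R).height +
        (maximalIdeal (S ⧸ (maximalIdeal R).map (algebraMap R S))).height =
        (maximalIdeal R).height + 0 := by
      rw [add_zero]
      exact h.symm
    exact ENat.add_right_injective_of_ne_top hfin h3
  have hd : ringKrullDim (S ⧸ (maximalIdeal R).map (algebraMap R S)) = 0 := by
    rw [← IsLocalRing.maximalIdeal_height_eq_ringKrullDim, h0]
    rfl
  haveI : Ring.KrullDimLE 0 (S ⧸ (maximalIdeal R).map (algebraMap R S)) :=
    ringKrullDimZero_iff_ringKrullDim_eq_zero.mpr hd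
  have hfield : IsField (S ⧸ (maximalIdeal R).map (algebraMap R S)) :=
    Ring.KrullDimLE.isField_of_isReduced
  have hmax : ((maximalIdeal R).map (algebraMap R S)).IsMaximal :=
    Ideal.Quotient.maximal_of_isField _ hfield
  exact IsLocalRing.eq_maximalIdeal hmax

/-! ### the local rings of `Ω ⊗[k] L` -/

section PartC

variable (k L Ω : Type u) [Field k] [Field L] [Field Ω] [Algebra k L] [Algebra k Ω]

/-- The multiplication map `Ω ⊗[k] L → Ω` attached to an embedding `τ : L → Ω`. -/
noncomputable def mτ (τ : L →ₐ[k] Ω) : Ω ⊗[k] L →ₐ[Ω] Ω :=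
  Algebra.TensorProduct.lift (AlgHom.id Ω Ω) τ (fun _ _ => Commute.all _ _)

lemma mτ_tmul (τ : L →ₐ[k] Ω) (a : Ω) (b : L) : mτ k L Ω τ (a ⊗ₜ[k] b) = a * τ b := rfl

/-- The prime of `Ω ⊗[k] L` attached to an embedding. -/
noncomputable def Pτ (τ : L →ₐ[k] Ω) : PrimeSpectrum (Ω ⊗[k] L) :=
  ⟨RingHom.ker (mτ k L Ω τ).toRingHom, RingHom.ker_isPrime _⟩

lemma mem_Pτ (τ : L →ₐ[k] Ω) (t : Ω ⊗[k] L) :
    t ∈ (Pτ k L Ω τ).asIdeal ↔ mτ k L Ω τ t = 0 :=
  RingHom.mem_ker

lemma Pτ_injective : Function.Injective (Pτ k L Ω) := by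
  intro τ τ' h
  ext b
  have h1 : ((1 : Ω) ⊗ₜ[k] b - (τ b) ⊗ₜ[k] (1 : L) : Ω ⊗[k] L) ∈ (Pτ k L Ω τ).asIdeal := by
    rw [mem_Pτ, map_sub, mτ_tmul, mτ_tmul, map_one, one_mul, mul_one, sub_self]
  rw [h, mem_Pτ, map_sub, mτ_tmul, mτ_tmul, map_one, one_mul, mul_one, sub_eq_zero] at h1
  exact h1.symm

variable [FiniteDimensional k L]

lemma Pτ_surjective [IsAlgClosed Ω] : Function.Surjective (Pτ k L Ω) := by
  intro P
  haveI : IsArtinianRing (Ω ⊗[k] L) := IsArtinianRing.of_finite Ω (Ω ⊗[k] L)
  haveI : Module.Finite Ω ((Ω ⊗[k] L) ⧸ P.asIdeal) :=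
    Module.Finite.of_surjective (Ideal.Quotient.mkₐ Ω P.asIdeal).toLinearMap
      (Ideal.Quotient.mkₐ_surjective Ω P.asIdeal)
  haveI : Algebra.IsIntegral Ω ((Ω ⊗[k] L) ⧸ P.asIdeal) := Algebra.IsIntegral.of_finite Ω _
  have hbij : Function.Bijective (algebraMap Ω ((Ω ⊗[k] L) ⧸ P.asIdeal)) :=
    IsAlgClosed.algebraMap_bijective_of_isIntegral
  let e : Ω ≃ₐ[Ω] ((Ω ⊗[k] L) ⧸ P.asIdeal) :=
    AlgEquiv.ofBijective (Algebra.ofId Ω ((Ω ⊗[k] L) ⧸ P.asIdeal)) hbij
  let g : Ω ⊗[k] L →ₐ[Ω] Ω :=
    (e.symm : ((Ω ⊗[k] L) ⧸ P.asIdeal) →ₐ[Ω] Ω).comp (Ideal.Quotient.mkₐ Ω P.asIdeal)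
  have hg : ∀ t, g t = 0 ↔ t ∈ P.asIdeal := by
    intro t
    show e.symm (Ideal.Quotient.mk P.asIdeal t) = 0 ↔ _
    rw [EmbeddingLike.map_eq_zero_iff, Ideal.Quotient.eq_zero_iff_mem]
  let τ : L →ₐ[k] Ω := (g.restrictScalars k).comp Algebra.TensorProduct.includeRight
  have hτ : ∀ t, mτ k L Ω τ t = g t := by
    intro t
    induction t using TensorProduct.induction_on with
    | zero => rw [map_zero, map_zero]
    | tmul a b =>
      rw [mτ_tmul]
      have h1 : a ⊗ₜ[k] b = a • ((1 : Ω) ⊗ₜ[k] b) := by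
        rw [TensorProduct.smul_tmul', smul_eq_mul, mul_one]
      rw [h1, map_smul, smul_eq_mul]
      rfl
    | add x y hx hy => rw [map_add, map_add, hx, hy]
  refine ⟨τ, ?_⟩
  apply PrimeSpectrum.ext
  ext t
  rw [mem_Pτ, hτ, hg]

lemma length_Pτ_eq [IsAlgClosure k Ω] (τ τ' : L →ₐ[k] Ω) :
    Module.length (Localization.AtPrime (Pτ k L Ω τ).asIdeal)
        (Localization.AtPrime (Pτ k L Ω τ).asIdeal) =
      Module.length (Localization.AtPrime (Pτ k L Ω τ').asIdeal)
        (Localization.AtPrime (Pτ k L Ω τ').asIdeal) := by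
  letI : Algebra L Ω := τ.toRingHom.toAlgebra
  haveI : IsScalarTower k L Ω := IsScalarTower.of_algebraMap_eq (fun x => (τ.commutes x).symm)
  haveI : Normal k Ω := IsAlgClosure.normal k Ω
  let σ0 : Ω →ₐ[k] Ω := τ'.liftNormal Ω
  have hσ0 : ∀ b, σ0 (τ b) = τ' b := fun b => τ'.liftNormal_commutes Ω b
  have hbij : Function.Bijective σ0 := Algebra.IsAlgebraic.algHom_bijective σ0
  let σ : Ω ≃ₐ[k] Ω := AlgEquiv.ofBijective σ0 hbij
  let Φ : Ω ⊗[k] L ≃ₐ[k] Ω ⊗[k] L := Algebra.TensorProduct.congr σ AlgEquiv.refl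
  have key : ∀ t, mτ k L Ω τ' (Φ t) = σ (mτ k L Ω τ t) := by
    intro t
    induction t using TensorProduct.induction_on with
    | zero => simp only [map_zero]
    | tmul a b =>
      have h1 : Φ (a ⊗ₜ[k] b) = (σ a) ⊗ₜ[k] b := rfl
      rw [h1, mτ_tmul, mτ_tmul, map_mul]
      congr 1
      exact (hσ0 b).symm
    | add x y hx hy => rw [map_add, map_add, map_add, map_add, hx, hy]
  have hmem : ∀ t, t ∈ (Pτ k L Ω τ).asIdeal ↔ Φ t ∈ (Pτ k L Ω τ').asIdeal := by
    intro t
    rw [mem_Pτ, mem_Pτ, key]
    exact (EmbeddingLike.map_eq_zero_iff (f := σ)).symm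
  refine length_loc_eq_of_ringEquiv Φ.toRingEquiv _ _ ?_
  ext t
  exact hmem t

lemma finrank_loc_eq_length [IsAlgClosed Ω] (P : PrimeSpectrum (Ω ⊗[k] L)) :
    (Module.finrank Ω (Localization.AtPrime P.asIdeal) : ℕ∞) =
      Module.length (Localization.AtPrime P.asIdeal) (Localization.AtPrime P.asIdeal) := by
  haveI : IsArtinianRing (Ω ⊗[k] L) := IsArtinianRing.of_finite Ω (Ω ⊗[k] L)
  haveI : Module.Finite Ω (Localization.AtPrime P.asIdeal) :=
    Module.Finite.of_surjective
      (Algebra.algHom Ω (Ω ⊗[k] L) (Localization.AtPrime P.asIdeal)).toLinearMap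
      (IsArtinianRing.localization_surjective P.asIdeal.primeCompl
        (Localization.AtPrime P.asIdeal))
  haveI : Module.Finite Ω (ResidueField (Localization.AtPrime P.asIdeal)) :=
    Module.Finite.of_surjective
      (IsScalarTower.toAlgHom Ω (Localization.AtPrime P.asIdeal)
        (ResidueField (Localization.AtPrime P.asIdeal))).toLinearMap
      IsLocalRing.residue_surjective
  haveI : Algebra.IsIntegral Ω (ResidueField (Localization.AtPrime P.asIdeal)) :=
    Algebra.IsIntegral.of_finite Ω _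
  have hb : Function.Bijective
      (algebraMap Ω (ResidueField (Localization.AtPrime P.asIdeal))) :=
    IsAlgClosed.algebraMap_bijective_of_isIntegral
  have hfr : Module.finrank Ω (ResidueField (Localization.AtPrime P.asIdeal)) = 1 := by
    rw [← (LinearEquiv.ofBijective
      (Algebra.linearMap Ω (ResidueField (Localization.AtPrime P.asIdeal))) hb).finrank_eq,
      Module.finrank_self]
  have h2 : Module.length (ResidueField Ω) (ResidueField (Localization.AtPrime P.asIdeal)) = 1 := by
    rw [← Module.length_eq_of_surjective (R := ResidueField Ω)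
      (M := ResidueField (Localization.AtPrime P.asIdeal)) (S := Ω)
      IsLocalRing.residue_surjective, Module.length_eq_finrank, hfr, Nat.cast_one]
  have h := IsLocalRing.length_restrictScalars Ω (Localization.AtPrime P.asIdeal)
    (Localization.AtPrime P.asIdeal)
  rw [h2, mul_one, Module.length_eq_finrank] at h
  exact h

/-- **Every local ring of `Ω ⊗[k] L` has length `[L : k]_i`.** -/
theorem main [IsAlgClosure k Ω] (P : PrimeSpectrum (Ω ⊗[k] L)) :
    (Module.length (Localization.AtPrime P.asIdeal) (Localization.AtPrime P.asIdeal)).toNat =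
      Field.finInsepDegree k L := by
  haveI : IsAlgClosed Ω := IsAlgClosure.isAlgClosed k
  haveI : IsArtinianRing (Ω ⊗[k] L) := IsArtinianRing.of_finite Ω (Ω ⊗[k] L)
  letI : Fintype (PrimeSpectrum (Ω ⊗[k] L)) := Fintype.ofFinite _
  obtain ⟨τ', rfl⟩ := Pτ_surjective k L Ω P
  obtain ⟨d, hd⟩ : ∃ d : ℕ, d = (Module.length (Localization.AtPrime (Pτ k L Ω τ').asIdeal)
      (Localization.AtPrime (Pτ k L Ω τ').asIdeal)).toNat := ⟨_, rfl⟩
  rw [← hd]
  have hall : ∀ Q : PrimeSpectrum (Ω ⊗[k] L),
      Module.finrank Ω (Localization.AtPrime Q.asIdeal) = d := by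
    intro Q
    obtain ⟨τ, rfl⟩ := Pτ_surjective k L Ω Q
    have h1 := finrank_loc_eq_length k L Ω (Pτ k L Ω τ)
    have h2 := length_Pτ_eq k L Ω τ τ'
    rw [hd, ← h2, ← h1, ENat.toNat_natCast]
  have hsum := IsArtinianRing.finrank_eq_sum_primeSpectrum (Ω ⊗[k] L) Ω
  have hfr : Module.finrank Ω (Ω ⊗[k] L) = Module.finrank k L := Module.finrank_baseChange
  have hsum2 : ∑ Q : PrimeSpectrum (Ω ⊗[k] L),
      Module.finrank Ω (Localization.AtPrime Q.asIdeal) =
      Fintype.card (PrimeSpectrum (Ω ⊗[k] L)) * d := by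
    rw [Finset.sum_congr rfl (fun Q _ => hall Q), Finset.sum_const, Finset.card_univ, smul_eq_mul]
  have hcard : Fintype.card (PrimeSpectrum (Ω ⊗[k] L)) = Field.finSepDegree k L := by
    rw [Field.finSepDegree_eq_of_isAlgClosed k L Ω, ← Nat.card_eq_fintype_card]
    exact (Nat.card_congr (Equiv.ofBijective (Pτ k L Ω)
      ⟨Pτ_injective k L Ω, Pτ_surjective k L Ω⟩)).symm
  have hfin : Field.finSepDegree k L * d = Field.finSepDegree k L * Field.finInsepDegree k L := by
    rw [Field.finSepDegree_mul_finInsepDegree k L, ← hfr, hsum, hsum2, hcard]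
  exact Nat.eq_of_mul_eq_mul_left (Nat.pos_of_ne_zero (NeZero.ne _)) hfin

end PartC

end Groth.Agent.Helper3.InsepRam
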