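import Mathlib
import Groth.Prelude.Def_CurvBase
import Groth.Agent.Lib.Helper23.ZetaPt5
import Groth.Agent.Lib.Helper15.SteinFin
import Groth.Agent.Lib.Helper16.Sch.FibStalk
import Groth.Agent.Lib.Helper3.InsepRam

/-!
# Fibre rings of `X_K → X` and applications (helper3)

* `exists_fibre_equiv`: for `y ∈ X_K` over `x ∈ X`, `O_{X_K,y} / m_x O_{X_K,y}` is a local ring of
  `κ(x) ⊗[k] K`;
* `main7627` (S7627): `m_x O_{X_K,y} = m_y` when `dim O_x = dim O_y` and `κ(x) ⊗[k] K` is reduced;
* `main6556` (S6556): for a closed point `y` of `X_Ω`, `Ω` an algebraic closure of `k`, the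
  ramification index of `O_x → O_y` is `[κ(x) : k]_i`.
-/

set_option autoImplicit false
universe u

open CategoryTheory CategoryTheory.Limits AlgebraicGeometry TensorProduct IsLocalRing

attribute [local instance] Curv2.resAlgebra

namespace Groth.Agent.Helper3.InsepRamSch

open Groth.Agent.Helper23 Groth.Agent.Helper15 Groth.Agent.Helper16

theorem strMap_eq (k : Type u) [Field k] (X : Scheme.{u}) [X.Over (Spec (CommRingCat.of k))]
    (x : X) : ZetaPt.strMap (X ↘ Spec (CommRingCat.of k)) x = Curv2.resMap k X x := by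
  ext a
  exact (SteinFin.resMap_eq k X x a).symm

theorem iota_comp (k : Type u) [Field k] (X : Scheme.{u}) [X.Over (Spec (CommRingCat.of k))]
    (x : X) : X.fromSpecResidueField x ≫ (X ↘ Spec (CommRingCat.of k)) =
      Spec.map (CommRingCat.ofHom (Curv2.resMap k X x)) := by
  rw [ZetaPt.fromSpecResidueField_comp, strMap_eq]

theorem finite_of_isClosed (k : Type u) [Field k] (X : Scheme.{u})
    [X.Over (Spec (CommRingCat.of k))] [LocallyOfFiniteType (X ↘ Spec (CommRingCat.of k))]
    (x : X) (hx : IsClosed ({x} : Set X)) : Module.Finite k (X.residueField x) := by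
  have h1 := ZetaPt.residueDegree_ne_zero_of_isClosed (X ↘ Spec (CommRingCat.of k)) x hx
  rw [ZetaPt.residueDegree_eq_finrank, strMap_eq] at h1
  exact Module.finite_of_finrank_pos (Nat.pos_of_ne_zero h1)

theorem isClosed_image (k : Type u) [Field k] (X : Scheme.{u}) [X.Over (Spec (CommRingCat.of k))]
    (K : Type u) [Field K] [Algebra k K] [Algebra.IsIntegral k K] (y : ↥(Curv2.bc k X K))
    (hy : IsClosed ({y} : Set ↥(Curv2.bc k X K))) :
    IsClosed ({Curv2.bcFst k X K y} : Set X) := by
  haveI : IsIntegralHom (Spec.map (CommRingCat.ofHom (algebraMap k K))) :=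
    IsIntegralHom.SpecMap_iff.mpr (algebraMap_isIntegral_iff.mpr inferInstance)
  have h := (Curv2.bcFst k X K).isClosedMap _ hy
  rwa [Set.image_singleton] at h

/-- The stalk of `Spec B` at a prime is the localization. -/
theorem stalkSpec_equiv (B : Type u) [CommRing B] (y : PrimeSpectrum B) :
    Nonempty ((Spec (CommRingCat.of B)).presheaf.stalk y ≃+* Localization.AtPrime y.asIdeal) := by
  letI : Algebra B ((Spec (CommRingCat.of B)).presheaf.stalk y) :=
    StructureSheaf.stalkAlgebra B y
  haveI : IsLocalization.AtPrime ((Spec (CommRingCat.of B)).presheaf.stalk y) y.asIdeal :=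
    StructureSheaf.IsLocalization.to_stalk B y
  let e : Localization.AtPrime y.asIdeal ≃ₐ[B] (Spec (CommRingCat.of B)).presheaf.stalk y :=
    IsLocalization.algEquiv y.asIdeal.primeCompl _ _
  exact ⟨e.symm.toRingEquiv⟩

section Generic

variable {k : Type u} [Field k] {X : Scheme.{u}} (f : X ⟶ Spec (CommRingCat.of k))
  (K : Type u) [Field K] [Algebra k K]
  {A : Type u} [Field A] [Algebra k A] (j : Spec (CommRingCat.of A) ⟶ X)
  (hj : j ≫ f = Spec.map (CommRingCat.ofHom (algebraMap k A)))

include hj in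
lemma isPullback_W :
    IsPullback (pullback.fst j (pullback.fst f (Spec.map (CommRingCat.ofHom (algebraMap k K)))))
      (pullback.snd j (pullback.fst f (Spec.map (CommRingCat.ofHom (algebraMap k K)))) ≫
        pullback.snd f (Spec.map (CommRingCat.ofHom (algebraMap k K))))
      (Spec.map (CommRingCat.ofHom (algebraMap k A)))
      (Spec.map (CommRingCat.ofHom (algebraMap k K))) := by
  have h := (IsPullback.of_hasPullback j
    (pullback.fst f (Spec.map (CommRingCat.ofHom (algebraMap k K))))).paste_vert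
    (IsPullback.of_hasPullback f (Spec.map (CommRingCat.ofHom (algebraMap k K))))
  rw [hj] at h
  exact h

/-- `Spec A ×_X X_K ≅ Spec (A ⊗_k K)`. -/
noncomputable def isoW :
    pullback j (pullback.fst f (Spec.map (CommRingCat.ofHom (algebraMap k K)))) ≅
      Spec (CommRingCat.of (A ⊗[k] K)) :=
  (isPullback_W f K j hj).isoPullback ≪≫ pullbackSpecIso k A K

end Generic

/-- The fibre ring of `X_K → X` at `y` is a local ring of `κ(x) ⊗[k] K`. -/
theorem exists_fibre_equiv (k : Type u) [Field k] (X : Scheme.{u})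
    [X.Over (Spec (CommRingCat.of k))] (K : Type u) [Field K] [Algebra k K]
    (y : ↥(Curv2.bc k X K)) :
    ∃ P : PrimeSpectrum (X.residueField (Curv2.bcFst k X K y) ⊗[k] K),
      Nonempty (((Curv2.bc k X K).presheaf.stalk y ⧸
          Ideal.map ((Curv2.bcFst k X K).stalkMap y).hom
            (maximalIdeal (X.presheaf.stalk (Curv2.bcFst k X K y)))) ≃+*
        Localization.AtPrime P.asIdeal) := by
  have hj : X.fromSpecResidueField (Curv2.bcFst k X K y) ≫ (X ↘ Spec (CommRingCat.of k)) =
      Spec.map (CommRingCat.ofHom (algebraMap k (X.residueField (Curv2.bcFst k X K y)))) :=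
    iota_comp k X (Curv2.bcFst k X K y)
  let E : (Curv2.bcFst k X K).fiber (Curv2.bcFst k X K y) ≅
      Spec (CommRingCat.of (X.residueField (Curv2.bcFst k X K y) ⊗[k] K)) :=
    pullbackSymmetry _ _ ≪≫ isoW (A := X.residueField (Curv2.bcFst k X K y))
      (X ↘ Spec (CommRingCat.of k)) K
      (X.fromSpecResidueField (Curv2.bcFst k X K y)) hj
  let z := (Curv2.bcFst k X K).asFiber y
  let e1 := FibStalk.fibStalkEquiv (Curv2.bcFst k X K) y
  let e2 := (asIso (E.hom.stalkMap z)).commRingCatIsoToRingEquiv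
  obtain ⟨e3⟩ := stalkSpec_equiv (X.residueField (Curv2.bcFst k X K y) ⊗[k] K) (E.hom z)
  exact ⟨E.hom z, ⟨e1.trans (e2.symm.trans e3)⟩⟩

/-- S7627. -/
theorem main7627 (k : Type u) [Field k] (X : Scheme.{u}) [X.Over (Spec (CommRingCat.of k))]
    [LocallyOfFiniteType (X ↘ Spec (CommRingCat.of k))]
    (K : Type u) [Field K] [Algebra k K] (y : ↥(Curv2.bc k X K))
    (hdim : ringKrullDim (X.presheaf.stalk (Curv2.bcFst k X K y)) =
      ringKrullDim ((Curv2.bc k X K).presheaf.stalk y))
    (hred : IsReduced (X.residueField (Curv2.bcFst k X K y) ⊗[k] K)) :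
    Ideal.map ((Curv2.bcFst k X K).stalkMap y).hom
        (maximalIdeal (X.presheaf.stalk (Curv2.bcFst k X K y))) =
      maximalIdeal ((Curv2.bc k X K).presheaf.stalk y) := by
  obtain ⟨P, ⟨e⟩⟩ := exists_fibre_equiv k X K y
  haveI : IsLocallyNoetherian X :=
    LocallyOfFiniteType.isLocallyNoetherian (X ↘ Spec (CommRingCat.of k))
  haveI : IsLocallyNoetherian (Curv2.bc k X K) :=
    LocallyOfFiniteType.isLocallyNoetherian (Curv2.bcSnd k X K)
  haveI : Flat (Spec.map (CommRingCat.ofHom (algebraMap k K))) :=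
    Flat.SpecMap_iff.2 (RingHom.flat_algebraMap_iff.mpr inferInstance)
  have hflat := Flat.stalkMap (Curv2.bcFst k X K) y
  letI : Algebra (X.presheaf.stalk (Curv2.bcFst k X K y)) ((Curv2.bc k X K).presheaf.stalk y) :=
    ((Curv2.bcFst k X K).stalkMap y).hom.toAlgebra
  haveI : Module.Flat (X.presheaf.stalk (Curv2.bcFst k X K y))
      ((Curv2.bc k X K).presheaf.stalk y) := RingHom.flat_algebraMap_iff.mp hflat
  haveI : IsLocalHom (algebraMap (X.presheaf.stalk (Curv2.bcFst k X K y))
      ((Curv2.bc k X K).presheaf.stalk y)) := by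
    show IsLocalHom ((Curv2.bcFst k X K).stalkMap y).hom
    infer_instance
  haveI := hred
  haveI : IsReduced (Localization.AtPrime P.asIdeal) := inferInstance
  have hredQ : IsReduced (((Curv2.bc k X K).presheaf.stalk y) ⧸
      Ideal.map ((Curv2.bcFst k X K).stalkMap y).hom
        (maximalIdeal (X.presheaf.stalk (Curv2.bcFst k X K y)))) :=
    isReduced_of_injective e e.injective
  exact InsepRam.map_maximalIdeal_eq hdim hredQ

/-- S6556 (for any algebraic closure `Ω` and any `X` locally of finite type over `k`). -/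
theorem main6556 (k : Type u) [Field k] (X : Scheme.{u}) [X.Over (Spec (CommRingCat.of k))]
    [LocallyOfFiniteType (X ↘ Spec (CommRingCat.of k))]
    (Ω : Type u) [Field Ω] [Algebra k Ω] [IsAlgClosure k Ω]
    (y : ↥(Curv2.bc k X Ω)) (hy : IsClosed ({y} : Set ↥(Curv2.bc k X Ω))) :
    letI := ((Curv2.bcFst k X Ω).stalkMap y).hom.toAlgebra
    Ideal.ramificationIdx (maximalIdeal ((Curv2.bc k X Ω).presheaf.stalk y))
        (X.presheaf.stalk (Curv2.bcFst k X Ω y)) =
      Field.finInsepDegree k (X.residueField (Curv2.bcFst k X Ω y)) := by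
  letI : Algebra (X.presheaf.stalk (Curv2.bcFst k X Ω y)) ((Curv2.bc k X Ω).presheaf.stalk y) :=
    ((Curv2.bcFst k X Ω).stalkMap y).hom.toAlgebra
  haveI : IsLocalHom (algebraMap (X.presheaf.stalk (Curv2.bcFst k X Ω y))
      ((Curv2.bc k X Ω).presheaf.stalk y)) := by
    show IsLocalHom ((Curv2.bcFst k X Ω).stalkMap y).hom
    infer_instance
  haveI : Algebra.IsIntegral k Ω := Algebra.IsAlgebraic.isIntegral
  have hx : IsClosed ({Curv2.bcFst k X Ω y} : Set X) := isClosed_image k X Ω y hy
  haveI : Module.Finite k (X.residueField (Curv2.bcFst k X Ω y)) := finite_of_isClosed k X _ hx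
  obtain ⟨P, ⟨e⟩⟩ := exists_fibre_equiv k X Ω y
  have h1 := InsepRam.length_self_eq_of_ringEquiv e
  obtain ⟨P', hP'⟩ : ∃ P' : PrimeSpectrum (Ω ⊗[k] X.residueField (Curv2.bcFst k X Ω y)),
      P'.asIdeal = P.asIdeal.comap
        (((Algebra.TensorProduct.comm k Ω (X.residueField (Curv2.bcFst k X Ω y))).toRingEquiv :
          Ω ⊗[k] X.residueField (Curv2.bcFst k X Ω y) ≃+*
            X.residueField (Curv2.bcFst k X Ω y) ⊗[k] Ω) :
          Ω ⊗[k] X.residueField (Curv2.bcFst k X Ω y) →+*
            X.residueField (Curv2.bcFst k X Ω y) ⊗[k] Ω) :=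
    ⟨PrimeSpectrum.comap _ P, rfl⟩
  have h2 := InsepRam.length_loc_eq_of_ringEquiv
    (Algebra.TensorProduct.comm k Ω (X.residueField (Curv2.bcFst k X Ω y))).toRingEquiv
    P'.asIdeal P.asIdeal hP'
  have h3 := InsepRam.main k (X.residueField (Curv2.bcFst k X Ω y)) Ω P'
  calc Ideal.ramificationIdx (maximalIdeal ((Curv2.bc k X Ω).presheaf.stalk y))
        (X.presheaf.stalk (Curv2.bcFst k X Ω y))
      = (Module.length (Localization.AtPrime P.asIdeal)
          (Localization.AtPrime P.asIdeal)).toNat :=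
        (InsepRam.ramificationIdx_local).trans (congrArg ENat.toNat h1)
    _ = (Module.length (Localization.AtPrime P'.asIdeal)
          (Localization.AtPrime P'.asIdeal)).toNat := congrArg ENat.toNat h2.symm
    _ = Field.finInsepDegree k (X.residueField (Curv2.bcFst k X Ω y)) := h3

end Groth.Agent.Helper3.InsepRamSch
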