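import Mathlib
import Groth.Prelude.Def_MoreMor
import Groth.Agent.Lib.Lead.FinFlat1
import Groth.Agent.Lib.Lead.SecOrd22
import Groth.Agent.Lib.Helper12.EtStalk
import Groth.Agent.Lib.Helper15.Wt1

/-!
# The weighting `length(O_x / m_y O_x) · [κ(x) : κ(y)]_i` of a flat locally quasi-finite morphism
locally of finite presentation (helper3)

* field level: `insepDeg`, `sepDeg`, `deg` of a ring hom of fields, tower law `insepDeg_comp`;
* ring level: `lenI J = length (B ⧸ J)` as a natural number, invariance under flat local homs with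
  `m_A B = m_B` (`lenI_map_of_flat_unram`), positivity for quasi-finite local homs (`lenI_pos`);
* scheme level: `lenW f x`, `insW f x`; étale invariance (`pointwise`);
  `fibreIntegral_eq_finrank`; `main` (= S1421).
-/

set_option autoImplicit false
set_option linter.style.haveILetI false
universe u

open AlgebraicGeometry CategoryTheory Limits IsLocalRing

namespace Groth.Agent.Helper3.WtLen

section field

variable {F E K : Type u} [Field F] [Field E] [Field K]

/-- inseparable degree of a ring hom of fields. -/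
noncomputable def insepDeg (r : F →+* K) : ℕ :=
  letI := r.toAlgebra
  Field.finInsepDegree F K

/-- separable degree of a ring hom of fields. -/
noncomputable def sepDeg (r : F →+* K) : ℕ :=
  letI := r.toAlgebra
  Field.finSepDegree F K

/-- degree of a ring hom of fields. -/
noncomputable def deg (r : F →+* K) : ℕ :=
  letI := r.toAlgebra
  Module.finrank F K

theorem sepDeg_mul_insepDeg (r : F →+* K) : sepDeg r * insepDeg r = deg r := by
  letI := r.toAlgebra
  exact Field.finSepDegree_mul_finInsepDegree F K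

theorem isAlgebraic_of_finite (r : F →+* E) (h : r.Finite) :
    letI := r.toAlgebra
    Algebra.IsAlgebraic F E := by
  letI := r.toAlgebra
  haveI : Module.Finite F E := h
  exact Algebra.IsAlgebraic.of_finite F E

theorem insepDeg_comp (r : F →+* E) (s : E →+* K) (hr : r.Finite) :
    insepDeg (s.comp r) = insepDeg r * insepDeg s := by
  letI := r.toAlgebra
  letI := s.toAlgebra
  letI := (s.comp r).toAlgebra
  haveI : IsScalarTower F E K := IsScalarTower.of_algebraMap_eq (fun _ => rfl)
  haveI : Algebra.IsAlgebraic F E := isAlgebraic_of_finite r hr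
  exact (Field.finInsepDegree_mul_finInsepDegree_of_isAlgebraic F E K).symm

theorem insepDeg_eq_one (r : F →+* K)
    (hr : letI := r.toAlgebra
      Algebra.IsSeparable F K) : insepDeg r = 1 := by
  letI := r.toAlgebra
  haveI : Algebra.IsSeparable F K := hr
  exact Algebra.IsSeparable.finInsepDegree_eq F K

theorem insepDeg_eq_one_of_algebra (r : F →+* K) (alg : Algebra F K)
    (h : @algebraMap F K _ _ alg = r) (hs : @Algebra.IsSeparable F K _ _ alg) :
    insepDeg r = 1 := by
  have e : alg = r.toAlgebra := Algebra.algebra_ext _ _ (fun x => by rw [h]; rfl)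
  subst e
  exact insepDeg_eq_one r hs

theorem insepDeg_pos (r : F →+* K) (hr : r.Finite) : 0 < insepDeg r := by
  letI := r.toAlgebra
  haveI : Module.Finite F K := hr
  exact Nat.pos_of_ne_zero (NeZero.ne (Field.finInsepDegree F K))

end field

section ring

/-- colength of an ideal, as a natural number. -/
noncomputable def lenI {B : Type u} [CommRing B] (J : Ideal B) : ℕ :=
  (Module.length B (B ⧸ J)).toNat

theorem length_quot_maximalIdeal (B : Type u) [CommRing B] [IsLocalRing B] :
    Module.length B (B ⧸ maximalIdeal B) = 1 := by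
  haveI : IsSimpleModule B (B ⧸ maximalIdeal B) := by
    rw [isSimpleModule_iff_isCoatom]
    exact Ideal.isMaximal_def.mp inferInstance
  exact Module.length_eq_one _ _

/-- flat local hom with `m_A B = m_B`: colengths are preserved. -/
theorem lenI_map_of_flat_unram {A B : Type u} [CommRing A] [CommRing B] [IsLocalRing A]
    [IsLocalRing B] (φ : A →+* B) [IsLocalHom φ] (hφ : φ.Flat)
    (hm : (maximalIdeal A).map φ = maximalIdeal B) (I : Ideal A) :
    lenI (I.map φ) = lenI I := by
  letI := φ.toAlgebra
  haveI : IsLocalHom (algebraMap A B) := ‹IsLocalHom φ›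
  haveI : Module.Flat A B := hφ
  have h := Groth.Agent.Lead.SecOrd.length_quot_map_ideal (A := A) (B := B) I
  have hm' : (maximalIdeal A).map (algebraMap A B) = maximalIdeal B := hm
  rw [hm', length_quot_maximalIdeal, mul_one] at h
  unfold lenI
  exact congrArg ENat.toNat h

/-- quasi-finite local hom: the closed fibre has finite nonzero length. -/
theorem lenI_pos {R S : Type u} [CommRing R] [CommRing S] [IsLocalRing R] [IsLocalRing S]
    (φ : R →+* S) [IsLocalHom φ] (hφ : φ.QuasiFinite) :
    0 < lenI ((maximalIdeal R).map φ) := by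
  letI := φ.toAlgebra
  haveI : Algebra.QuasiFinite R S := hφ
  letI : Field (R ⧸ maximalIdeal R) := Ideal.Quotient.field _
  have hle : (maximalIdeal R).map (algebraMap R S) ≤ maximalIdeal S :=
    IsLocalRing.map_maximalIdeal_le φ
  haveI : Nontrivial (S ⧸ (maximalIdeal R).map (algebraMap R S)) :=
    Ideal.Quotient.nontrivial_iff.mpr
      (ne_top_of_le_ne_top (maximalIdeal.isMaximal S).ne_top hle)
  haveI : Algebra.QuasiFinite R (S ⧸ (maximalIdeal R).map (algebraMap R S)) := inferInstance
  haveI : Algebra.QuasiFinite (R ⧸ maximalIdeal R)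
      (S ⧸ (maximalIdeal R).map (algebraMap R S)) :=
    Algebra.QuasiFinite.of_restrictScalars R _ _
  haveI : Module.Finite (R ⧸ maximalIdeal R) (S ⧸ (maximalIdeal R).map (algebraMap R S)) :=
    Module.Finite.of_quasiFinite
  haveI : IsArtinianRing (S ⧸ (maximalIdeal R).map (algebraMap R S)) :=
    IsArtinianRing.of_finite (R ⧸ maximalIdeal R) _
  have h1 : Module.length S (S ⧸ (maximalIdeal R).map (algebraMap R S)) =
      Module.length (S ⧸ (maximalIdeal R).map (algebraMap R S))
        (S ⧸ (maximalIdeal R).map (algebraMap R S)) :=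
    Module.length_eq_of_surjective Ideal.Quotient.mk_surjective
  have h2 : Module.length (S ⧸ (maximalIdeal R).map (algebraMap R S))
      (S ⧸ (maximalIdeal R).map (algebraMap R S)) ≠ ⊤ := Module.length_ne_top
  have h3 : Module.length S (S ⧸ (maximalIdeal R).map (algebraMap R S)) ≠ 0 := by
    rw [Ne, Module.length_eq_zero_iff]
    exact not_subsingleton _
  have h4 : Module.length S (S ⧸ (maximalIdeal R).map (algebraMap R S)) ≠ ⊤ := h1 ▸ h2
  have h5 : (Module.length S (S ⧸ (maximalIdeal R).map (algebraMap R S))).toNat ≠ 0 := by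
    rw [Ne, ENat.toNat_eq_zero]
    exact fun h => h.elim h3 h4
  exact Nat.pos_of_ne_zero h5

end ring

section scheme

variable {X Y Z : Scheme.{u}}

/-- `length(O_x / m_{f x} O_x)` as a natural number. -/
noncomputable def lenW (f : X ⟶ Y) (x : X) : ℕ :=
  lenI (Ideal.map (f.stalkMap x).hom (maximalIdeal (Y.presheaf.stalk (f x))))

/-- inseparable degree of `κ(x)/κ(f x)`. -/
noncomputable def insW (f : X ⟶ Y) (x : X) : ℕ := insepDeg (f.residueFieldMap x).hom

/-- separable degree of `κ(x)/κ(f x)`. -/
noncomputable def sepW (f : X ⟶ Y) (x : X) : ℕ := sepDeg (f.residueFieldMap x).hom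

theorem lenW_congr {Φ Ψ : X ⟶ Y} (h : Φ = Ψ) (x : X) : lenW Φ x = lenW Ψ x := by
  subst h; rfl

theorem insW_congr {Φ Ψ : X ⟶ Y} (h : Φ = Ψ) (x : X) : insW Φ x = insW Ψ x := by
  subst h; rfl

theorem stalkMap_comp_hom (q : X ⟶ Y) (f : Y ⟶ Z) (u : X) :
    ((q ≫ f).stalkMap u).hom = (q.stalkMap u).hom.comp (f.stalkMap (q u)).hom := by
  rw [Scheme.Hom.stalkMap_comp]; rfl

theorem map_comp_ideal (q : X ⟶ Y) (f : Y ⟶ Z) (u : X) :
    Ideal.map ((q ≫ f).stalkMap u).hom (maximalIdeal (Z.presheaf.stalk ((q ≫ f) u))) =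
      Ideal.map (q.stalkMap u).hom
        (Ideal.map (f.stalkMap (q u)).hom (maximalIdeal (Z.presheaf.stalk (f (q u))))) := by
  rw [Ideal.map_map]
  exact congrArg (fun φ : (Z.presheaf.stalk (f (q u))) →+* (X.presheaf.stalk u) =>
    Ideal.map φ (maximalIdeal (Z.presheaf.stalk (f (q u))))) (stalkMap_comp_hom q f u)

theorem lenW_comp_of_etale (q : X ⟶ Y) [Flat q] [FormallyUnramified q] [LocallyOfFiniteType q]
    (f : Y ⟶ Z) (u : X) : lenW (q ≫ f) u = lenW f (q u) := by
  unfold lenW
  rw [map_comp_ideal]
  exact lenI_map_of_flat_unram (q.stalkMap u).hom (Flat.stalkMap q u)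
    (Groth.Agent.Helper12.EtStalk.fibIdeal_eq_maximalIdeal q u) _

theorem lenW_comp_of_unram (π : X ⟶ Y) (g : Y ⟶ Z) [FormallyUnramified g]
    [LocallyOfFiniteType g] (u : X) : lenW (π ≫ g) u = lenW π u := by
  unfold lenW
  rw [map_comp_ideal]
  have h := Groth.Agent.Helper12.EtStalk.fibIdeal_eq_maximalIdeal g (π u)
  rw [Groth.Agent.Helper16.FibStalk.fibIdeal_def] at h
  rw [h]

theorem residueFieldMap_comp_hom (q : X ⟶ Y) (f : Y ⟶ Z) (u : X) :
    ((q ≫ f).residueFieldMap u).hom =
      (q.residueFieldMap u).hom.comp (f.residueFieldMap (q u)).hom := by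
  rw [Scheme.residueFieldMap_comp]; rfl

theorem insW_comp (q : X ⟶ Y) (f : Y ⟶ Z) (u : X)
    (hf : (f.residueFieldMap (q u)).hom.Finite) :
    insW (q ≫ f) u = insW f (q u) * insW q u := by
  unfold insW
  rw [residueFieldMap_comp_hom]
  exact insepDeg_comp _ _ hf

/-- unramified, locally of finite type: residue field extensions are finite separable. -/
theorem residueFieldMap_of_unram (g : X ⟶ Y) [FormallyUnramified g] [LocallyOfFiniteType g]
    (v : X) : (g.residueFieldMap v).hom.Finite ∧ insW g v = 1 := by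
  algebraize [(g.stalkMap v).hom]
  have : IsLocalHom (algebraMap (Y.presheaf.stalk (g v)) (X.presheaf.stalk v)) :=
    inferInstanceAs <| IsLocalHom (g.stalkMap v).hom
  have : Algebra.EssFiniteType (Y.presheaf.stalk (g v)) (X.presheaf.stalk v) := by
    rw [← RingHom.essFiniteType_algebraMap, RingHom.algebraMap_toAlgebra]
    exact LocallyOfFiniteType.stalkMap g v
  have : Algebra.FormallyUnramified (Y.presheaf.stalk (g v)) (X.presheaf.stalk v) := by
    rw [← RingHom.formallyUnramified_algebraMap, RingHom.algebraMap_toAlgebra]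
    exact FormallyUnramified.stalkMap g v
  have h1 : Module.Finite (ResidueField (Y.presheaf.stalk (g v)))
      (ResidueField (X.presheaf.stalk v)) := inferInstance
  have h2 : Algebra.IsSeparable (ResidueField (Y.presheaf.stalk (g v)))
      (ResidueField (X.presheaf.stalk v)) := inferInstance
  refine ⟨RingHom.finite_algebraMap.2 h1, ?_⟩
  exact insepDeg_eq_one_of_algebra (F := ResidueField (Y.presheaf.stalk (g v)))
    (K := ResidueField (X.presheaf.stalk v)) (g.residueFieldMap v).hom
    ResidueField.instAlgebra rfl h2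

theorem insW_of_unram (g : X ⟶ Y) [FormallyUnramified g] [LocallyOfFiniteType g] (v : X) :
    insW g v = 1 :=
  (residueFieldMap_of_unram g v).2

/-- étale invariance of the two factors of the weighting. -/
theorem pointwise {X Y V U : Scheme.{u}} (f : X ⟶ Y) [LocallyQuasiFinite f] (g : V ⟶ Y)
    [FormallyUnramified g] [LocallyOfFiniteType g] (q : U ⟶ X) [Flat q] [FormallyUnramified q]
    [LocallyOfFiniteType q] (π : U ⟶ V) (hc : q ≫ f = π ≫ g) (u : U) :
    lenW f (q u) = lenW π u ∧ insW f (q u) = insW π u := by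
  constructor
  · rw [← lenW_comp_of_etale q f u, lenW_congr hc, lenW_comp_of_unram π g u]
  · have h1 := insW_comp q f u (Groth.Agent.Helper15.Wt.finite_residueFieldMap f (q u))
    have h2 := insW_comp π g u (residueFieldMap_of_unram g (π u)).1
    rw [insW_of_unram q u, mul_one] at h1
    rw [insW_of_unram g (π u), one_mul] at h2
    rw [← h1, insW_congr hc, h2]

theorem fibreIntegral_eq_finrank {U V : Scheme.{u}} (π : U ⟶ V) [IsFinite π] [Flat π]
    (W : U → ℤ) (hW : ∀ u, W u = (lenW π u : ℤ) * (insW π u : ℤ)) (v : V) :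
    MoreMor.fibreIntegral π W v = (π.finrank v : ℤ) := by
  have hfin : (π ⁻¹' {v}).Finite := Scheme.Hom.finite_preimage_singleton π v
  have key := Groth.Agent.Lead.FinFlat.finsum_fibre_eq_finrank π v
  let G : U → ℤ := fun u => W u * (sepW π u : ℤ)
  have hG : ∀ u, G u = ((lenW π u * π.residueDegree u : ℕ) : ℤ) := by
    intro u
    have h1 := sepDeg_mul_insepDeg (π.residueFieldMap u).hom
    have hd : deg (π.residueFieldMap u).hom = π.residueDegree u := rfl
    show W u * (sepW π u : ℤ) = _
    rw [hW u, ← hd, ← h1]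
    unfold sepW insW
    push_cast
    ring
  calc MoreMor.fibreIntegral π W v = ∑ᶠ u : {u : U // π u = v}, G u.1 := rfl
    _ = ∑ᶠ u ∈ π ⁻¹' {v}, G u := finsum_subtype_eq_finsum_cond (fun u => π u = v)
    _ = ∑ᶠ u ∈ π ⁻¹' {v}, ((lenW π u * π.residueDegree u : ℕ) : ℤ) :=
        finsum_mem_congr rfl (fun u _ => hG u)
    _ = ((∑ᶠ u ∈ π ⁻¹' {v}, lenW π u * π.residueDegree u : ℕ) : ℤ) :=
        (Nat.cast_finsum_mem hfin _).symm
    _ = (π.finrank v : ℤ) := congrArg Nat.cast key

/-- **S1421**. -/
theorem main {X Y : Scheme.{u}} (f : X ⟶ Y) [LocallyQuasiFinite f] [Flat f]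
    [LocallyOfFinitePresentation f] :
    let w : ↑X → ℤ := fun x =>
      (Module.length ↑(X.presheaf.stalk x) (↑(X.presheaf.stalk x) ⧸ Ideal.map (f.stalkMap x).hom (IsLocalRing.maximalIdeal ↑(Y.presheaf.stalk (f x))))).toNat *
      (letI := (f.residueFieldMap x).hom.toAlgebra
       (Field.finInsepDegree (Y.residueField (f x)) (X.residueField x) : ℤ))
    MoreMor.IsWeighting f w ∧ ∀ x, 0 < w x := by
  intro w
  have hw : ∀ x, w x = (lenW f x : ℤ) * (insW f x : ℤ) := fun x => rfl
  refine ⟨?_, ?_⟩
  · intro V g _ U hfin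
    haveI : IsFinite (U.ι ≫ pullback.snd f g) := hfin
    have hc : (U.ι ≫ pullback.fst f g) ≫ f = (U.ι ≫ pullback.snd f g) ≫ g := by
      rw [Category.assoc, Category.assoc, pullback.condition]
    have hW : ∀ u : U, w (pullback.fst f g (U.ι u)) =
        (lenW (U.ι ≫ pullback.snd f g) u : ℤ) * (insW (U.ι ≫ pullback.snd f g) u : ℤ) := by
      intro u
      obtain ⟨h1, h2⟩ := pointwise f g (U.ι ≫ pullback.fst f g) (U.ι ≫ pullback.snd f g) hc u
      have h0 : pullback.fst f g (U.ι u) = (U.ι ≫ pullback.fst f g) u := rfl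
      rw [h0, hw, h1, h2]
    have heq : MoreMor.fibreIntegral (U.ι ≫ pullback.snd f g)
        (fun u => w (pullback.fst f g (U.ι u))) =
        fun v => ((U.ι ≫ pullback.snd f g).finrank v : ℤ) :=
      funext (fun v => fibreIntegral_eq_finrank _ _ hW v)
    rw [heq]
    exact (Scheme.Hom.isLocallyConstant_finrank (U.ι ≫ pullback.snd f g)).comp _
  · intro x
    rw [hw]
    have h1 : 0 < lenW f x := lenI_pos (f.stalkMap x).hom (f.quasiFiniteAt x)
    have h2 : 0 < insW f x :=
      insepDeg_pos _ (Groth.Agent.Helper15.Wt.finite_residueFieldMap f x)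
    exact mul_pos (by exact_mod_cast h1) (by exact_mod_cast h2)

end scheme

end Groth.Agent.Helper3.WtLen
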