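import Mathlib
import Groth.Prelude.Def_ModelsG
import Groth.Agent.Lib.Helper3.WtLen
import Groth.Agent.Lib.Helper3.FinRegFlat
import Groth.Agent.Lib.Helper3.InsepRamSch

/-!
# Counting points in the fibres of a finite unramified flat morphism (helper3)

* `lenW_of_unram`: unramified, locally of finite type ⇒ `length(O_q / m_p O_q) = 1`;
* `card_fibre_eq_finrank`: finite flat unramified `π`, all residue degrees over `p` equal to one ⇒
  the fibre over `p` has `π.finrank p` points;
* `residueDegree_eq_one`: over an algebraically closed field, residue degrees over closed points are 1;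
* `finrank_generic`: `π.finrank (π η) = π.residueDegree η` for `η` the generic point;
* `residueDegree_eq_finrank_of_isField`: residue degree between field stalks as a `finrank` of stalks;
* `main` = S15003.
-/

set_option autoImplicit false
set_option linter.style.haveILetI false
universe u

open AlgebraicGeometry CategoryTheory Limits IsLocalRing

attribute [local instance] Curv2.resAlgebra

namespace Groth.Agent.Helper3.FibCard

open Groth.Agent.Helper3.WtLen

variable {X Y : Scheme.{u}}

theorem lenW_of_unram (π : Y ⟶ X) [FormallyUnramified π] [LocallyOfFiniteType π] (q : Y) :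
    lenW π q = 1 := by
  unfold lenW lenI
  have h := Groth.Agent.Helper12.EtStalk.fibIdeal_eq_maximalIdeal π q
  rw [Groth.Agent.Helper16.FibStalk.fibIdeal_def] at h
  rw [h, length_quot_maximalIdeal]
  rfl

theorem card_fibre_eq_finrank (π : Y ⟶ X) [IsFinite π] [Flat π] [FormallyUnramified π] (p : X)
    (hdeg : ∀ q : Y, π q = p → π.residueDegree q = 1) :
    Nat.card {q : Y // π.base q = p} = π.finrank p := by
  have hfin : (π ⁻¹' {p}).Finite := Scheme.Hom.finite_preimage_singleton π p
  have key : ∑ᶠ q ∈ π ⁻¹' {p}, lenW π q * π.residueDegree q = π.finrank p :=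
    Groth.Agent.Lead.FinFlat.finsum_fibre_eq_finrank π p
  have h2 : ∑ᶠ q ∈ π ⁻¹' {p}, lenW π q * π.residueDegree q = ∑ᶠ q ∈ π ⁻¹' {p}, 1 :=
    finsum_mem_congr rfl (fun q hq => by rw [lenW_of_unram π q, hdeg q hq])
  rw [h2, finsum_mem_eq_finite_toFinset_sum _ hfin, ← Finset.card_eq_sum_ones,
    ← Set.ncard_eq_toFinset_card _ hfin] at key
  rw [← key]
  exact Nat.card_coe_set_eq (π ⁻¹' {p})

theorem residueDegree_eq_one (k : Type u) [Field k] [IsAlgClosed k] (X Y : Scheme.{u})
    [X.Over (Spec (CommRingCat.of k))] [LocallyOfFiniteType (X ↘ Spec (CommRingCat.of k))]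
    (π : Y ⟶ X) [IsFinite π] (q : Y) (hp : IsClosed ({π q} : Set X)) :
    π.residueDegree q = 1 := by
  haveI hfin : Module.Finite k (X.residueField (π q)) :=
    Groth.Agent.Helper3.InsepRamSch.finite_of_isClosed k X (π q) hp
  have hb : Function.Bijective (algebraMap k (X.residueField (π q))) :=
    IsAlgClosed.algebraMap_bijective_of_isIntegral
  haveI : IsAlgClosed (X.residueField (π q)) :=
    IsAlgClosed.of_ringEquiv _ _ (RingEquiv.ofBijective (algebraMap k (X.residueField (π q))) hb)
  have hf := Groth.Agent.Helper15.Wt.finite_residueFieldMap π q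
  unfold Scheme.Hom.residueDegree
  letI := (π.residueFieldMap q).hom.toAlgebra
  haveI : Module.Finite (X.residueField (π q)) (Y.residueField q) := hf
  have hb2 : Function.Bijective (algebraMap (X.residueField (π q)) (Y.residueField q)) :=
    IsAlgClosed.algebraMap_bijective_of_isIntegral
  let e : (X.residueField (π q)) ≃ₗ[X.residueField (π q)] (Y.residueField q) :=
    LinearEquiv.ofBijective (Algebra.linearMap _ _) hb2
  rw [← e.finrank_eq, Module.finrank_self]

theorem fibre_generic (π : Y ⟶ X) [LocallyQuasiFinite π] [IrreducibleSpace Y] :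
    π ⁻¹' {π (genericPoint Y)} = {genericPoint Y} := by
  ext q
  simp only [Set.mem_preimage, Set.mem_singleton_iff]
  constructor
  · intro hq
    haveI : DiscreteTopology ↥(π ⁻¹' {π (genericPoint Y)}) :=
      (π.isDiscrete_preimage_singleton (π (genericPoint Y))).to_subtype
    have hs : (⟨genericPoint Y, rfl⟩ : ↥(π ⁻¹' {π (genericPoint Y)})) ⤳ ⟨q, hq⟩ :=
      (subtype_specializes_iff _ _).mpr (genericPoint_specializes q)
    have := hs.eq
    exact (congrArg Subtype.val this).symm
  · intro hq
    rw [hq]

theorem finrank_generic (π : Y ⟶ X) [IsFinite π] [Flat π] [FormallyUnramified π]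
    [IrreducibleSpace Y] :
    π.finrank (π (genericPoint Y)) = π.residueDegree (genericPoint Y) := by
  have key : ∑ᶠ q ∈ π ⁻¹' {π (genericPoint Y)}, lenW π q * π.residueDegree q =
      π.finrank (π (genericPoint Y)) :=
    Groth.Agent.Lead.FinFlat.finsum_fibre_eq_finrank π (π (genericPoint Y))
  rw [fibre_generic, finsum_mem_singleton, lenW_of_unram, one_mul] at key
  exact key.symm

theorem residue_bijective_of_isField (R : Type u) [CommRing R] [IsLocalRing R] (h : IsField R) :
    Function.Bijective (IsLocalRing.residue R) := by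
  refine ⟨?_, IsLocalRing.residue_surjective⟩
  rw [injective_iff_map_eq_zero]
  intro a ha
  have h1 : a ∈ maximalIdeal R := (IsLocalRing.residue_eq_zero_iff a).mp ha
  rw [IsLocalRing.isField_iff_maximalIdeal_eq.mp h] at h1
  exact Ideal.mem_bot.mp h1

theorem residueDegree_eq_finrank_of_isField (π : Y ⟶ X) (y : Y) (x : X) (e : π y = x)
    (hx : IsField (X.presheaf.stalk x)) (hy : IsField (Y.presheaf.stalk y)) :
    π.residueDegree y =
      (letI := (X.presheaf.stalkSpecializes (specializes_of_eq e) ≫ π.stalkMap y).hom.toAlgebra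
       Module.finrank (X.presheaf.stalk x) (Y.presheaf.stalk y)) := by
  subst e
  have h1 : X.presheaf.stalkSpecializes (specializes_of_eq (rfl : π y = π y)) = 𝟙 _ :=
    TopCat.Presheaf.stalkSpecializes_refl _ _
  rw [h1, Category.id_comp]
  letI := (π.stalkMap y).hom.toAlgebra
  letI := (π.residueFieldMap y).hom.toAlgebra
  let e₁ : X.presheaf.stalk (π y) ≃+* X.residueField (π y) :=
    RingEquiv.ofBijective (IsLocalRing.residue _) (residue_bijective_of_isField _ hx)
  let e₂ : Y.presheaf.stalk y ≃+* Y.residueField y :=
    RingEquiv.ofBijective (IsLocalRing.residue _) (residue_bijective_of_isField _ hy)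
  show Module.finrank (X.residueField (π y)) (Y.residueField y) =
    Module.finrank (X.presheaf.stalk (π y)) (Y.presheaf.stalk y)
  exact (Algebra.finrank_eq_of_equiv_equiv e₁ e₂ (RingHom.ext fun r => rfl)).symm

theorem isField_stalk_genericPoint (X : Scheme.{u}) [IsIntegral X] :
    IsField (X.presheaf.stalk (genericPoint X)) := by
  refine isField_stalk_of_closure_mem_irreducibleComponents X _ ?_
  rw [genericPoint_spec X, irreducibleComponents_eq_singleton]
  rfl

/-- **S15003**. -/
theorem main (k : Type u) [Field k] [IsAlgClosed k]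
    (X Y : Scheme.{u}) [X.Over (Spec (CommRingCat.of k))] [Y.Over (Spec (CommRingCat.of k))]
    [IsIntegral X] [IsIntegral Y]
    [LocallyOfFiniteType (X ↘ (Spec (CommRingCat.of k)))]
    [LocallyOfFiniteType (Y ↘ (Spec (CommRingCat.of k)))]
    (hregX : ∀ x : X, IsRegularLocalRing (X.presheaf.stalk x))
    (hregY : ∀ y : Y, IsRegularLocalRing (Y.presheaf.stalk y))
    (π : Y ⟶ X)
    [AlgebraicGeometry.IsFinite π] [AlgebraicGeometry.Surjective π]
    [AlgebraicGeometry.FormallyUnramified π]
    (e : π.base (genericPoint Y) = genericPoint X) (p : X) (hp : IsClosed ({p} : Set X)) :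
    Nat.card {q : Y // π.base q = p} =
      Models.homDegree (X.presheaf.stalkSpecializes (specializes_of_eq e) ≫
        π.stalkMap (genericPoint Y)).hom := by
  haveI : IsLocallyNoetherian X :=
    LocallyOfFiniteType.isLocallyNoetherian (X ↘ Spec (CommRingCat.of k))
  haveI : IsLocallyNoetherian Y :=
    LocallyOfFiniteType.isLocallyNoetherian (Y ↘ Spec (CommRingCat.of k))
  haveI : Flat π := by
    refine Groth.Agent.Helper3.FinRegFlat.main π hregY hregX ?_
    intro Z hZ
    rw [irreducibleComponents_eq_singleton] at hZ
    rw [Set.mem_singleton_iff] at hZ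
    rw [hZ, Set.image_univ, Set.range_eq_univ.mpr π.surjective, closure_univ,
      irreducibleComponents_eq_singleton]
    rfl
  haveI : LocallyOfFinitePresentation π :=
    LocallyOfFinitePresentation.iff_locallyOfFiniteType.mpr inferInstance
  have hlc := Scheme.Hom.isLocallyConstant_finrank π
  have hconst : π.finrank p = π.finrank (genericPoint X) :=
    hlc.apply_eq_of_preconnectedSpace p (genericPoint X)
  have h1 : Nat.card {q : Y // π.base q = p} = π.finrank p := by
    refine card_fibre_eq_finrank π p (fun q hq => ?_)
    exact residueDegree_eq_one k X Y π q (by rw [hq]; exact hp)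
  have h2 : π.finrank (genericPoint X) = π.residueDegree (genericPoint Y) := by
    have := finrank_generic π
    rwa [show π (genericPoint Y) = genericPoint X from e] at this
  have h3 := residueDegree_eq_finrank_of_isField π (genericPoint Y) (genericPoint X) e
    (isField_stalk_genericPoint X) (isField_stalk_genericPoint Y)
  rw [h1, hconst, h2, h3]
  rfl

end Groth.Agent.Helper3.FibCard
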