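import Mathlib
import Groth.Prelude.Def_W4bk4grossh1223Act

/-!
# Fixed subalgebras of integrally closed domains are integrally closed (helper3)
-/

set_option autoImplicit false
universe u

open CategoryTheory TensorProduct

namespace Groth.Agent.Helper3.FixIC

variable {k : Type u} [Field k] {G H : Over (AlgebraicGeometry.Spec (CommRingCat.of k))}
  [GrpObj G] [GrpObj H] {A : Type u} [CommRing A] [IsDomain A] [Algebra k A]

theorem mul_tmul_injective (B : Type u) [CommRing B] [Algebra k B] (b : A) (hb0 : b ≠ 0) :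
    Function.Injective (fun z : B ⊗[k] A => z * ((1 : B) ⊗ₜ[k] b)) := by
  have h1 : Function.Injective (LinearMap.mulRight k b) := by
    intro p q hpq
    exact mul_right_cancel₀ hb0 hpq
  have h2 := Module.Flat.lTensor_preserves_injective_linearMap (M := B) (LinearMap.mulRight k b) h1
  have h3 : ∀ z : B ⊗[k] A, (LinearMap.mulRight k b).lTensor B z = z * ((1 : B) ⊗ₜ[k] b) := by
    intro z
    induction z using TensorProduct.induction_on with
    | zero => simp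
    | tmul c p =>
      rw [LinearMap.lTensor_tmul, Algebra.TensorProduct.tmul_mul_tmul, mul_one]
      rfl
    | add z w hz hw => rw [map_add, hz, hw, add_mul]
  intro z w hzw
  apply h2
  rw [h3, h3]
  exact hzw

theorem mem_fixed_of_mul (ρ : VecGrp.GMod G A) (hρ : ρ.IsMult) (i : H ⟶ G) (x a b : A)
    (hb0 : b ≠ 0) (ha : a ∈ ρ.fixedSubalgebra hρ i) (hb : b ∈ ρ.fixedSubalgebra hρ i)
    (hxb : x * b = a) : x ∈ ρ.fixedSubalgebra hρ i := by
  intro B _ _ h
  apply mul_tmul_injective B b hb0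
  show ρ.ρ B (h ≫ i) ((1 : B) ⊗ₜ[k] x) * ((1 : B) ⊗ₜ[k] b) =
    ((1 : B) ⊗ₜ[k] x) * ((1 : B) ⊗ₜ[k] b)
  have e1 : ((1 : B) ⊗ₜ[k] x : VecGrp.W k A B) * ((1 : B) ⊗ₜ[k] b) = (1 : B) ⊗ₜ[k] a := by
    rw [Algebra.TensorProduct.tmul_mul_tmul, one_mul, hxb]
  have hb' : ρ.ρ B (h ≫ i) ((1 : B) ⊗ₜ[k] b) = (1 : B) ⊗ₜ[k] b := hb B h
  have ha' : ρ.ρ B (h ≫ i) ((1 : B) ⊗ₜ[k] a) = (1 : B) ⊗ₜ[k] a := ha B h
  calc ρ.ρ B (h ≫ i) ((1 : B) ⊗ₜ[k] x) * ((1 : B) ⊗ₜ[k] b)
      = ρ.ρ B (h ≫ i) ((1 : B) ⊗ₜ[k] x) * ρ.ρ B (h ≫ i) ((1 : B) ⊗ₜ[k] b) := by rw [hb']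
    _ = ρ.ρ B (h ≫ i) (((1 : B) ⊗ₜ[k] x) * ((1 : B) ⊗ₜ[k] b)) :=
        ((hρ B (h ≫ i)).1 _ _).symm
    _ = ρ.ρ B (h ≫ i) ((1 : B) ⊗ₜ[k] a) := by rw [e1]
    _ = (1 : B) ⊗ₜ[k] a := ha'
    _ = _ := e1.symm

theorem isIntegrallyClosed_fixed [IsIntegrallyClosed A] (ρ : VecGrp.GMod G A) (hρ : ρ.IsMult)
    (i : H ⟶ G) : IsIntegrallyClosed ↥(ρ.fixedSubalgebra hρ i) := by
  set R := ρ.fixedSubalgebra hρ i with hR
  let K := FractionRing A
  let g : R →+* K := (algebraMap A K).comp R.val.toRingHom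
  have hg : Function.Injective g :=
    (IsFractionRing.injective A K).comp Subtype.val_injective
  let j : FractionRing R →+* K := IsFractionRing.lift hg
  have hj : ∀ r : R, j (algebraMap R (FractionRing R) r) = algebraMap A K r.1 :=
    fun r => IsFractionRing.lift_algebraMap hg r
  rw [isIntegrallyClosed_iff (FractionRing R)]
  intro y hy
  have hjy : IsIntegral A (j y) := by
    obtain ⟨p, hp, hpy⟩ := hy
    refine ⟨p.map R.val.toRingHom, hp.map _, ?_⟩
    rw [Polynomial.eval₂_map]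
    have h1 := congrArg j hpy
    rw [Polynomial.hom_eval₂, map_zero] at h1
    have h2 : j.comp (algebraMap R (FractionRing R)) = (algebraMap A K).comp R.val.toRingHom :=
      RingHom.ext hj
    rw [h2] at h1
    exact h1
  obtain ⟨x, hx⟩ := IsIntegrallyClosed.algebraMap_eq_of_integral hjy
  obtain ⟨a, b, hb, rfl⟩ := IsFractionRing.div_surjective (A := R) y
  have hb0 : b ≠ 0 := nonZeroDivisors.ne_zero hb
  have hb1 : b.1 ≠ 0 := fun h => hb0 (Subtype.ext h)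
  have hbK : algebraMap A K b.1 ≠ 0 := by
    intro h
    exact hb1 ((IsFractionRing.injective A K) (h.trans (map_zero _).symm))
  rw [map_div₀, hj, hj] at hx
  have hxb : x * b.1 = a.1 := by
    apply IsFractionRing.injective A K
    rw [map_mul, hx, div_mul_cancel₀ _ hbK]
  have hxR : x ∈ R := mem_fixed_of_mul ρ hρ i x a.1 b.1 hb1 a.2 b.2 hxb
  refine ⟨⟨x, hxR⟩, ?_⟩
  apply j.injective
  rw [hj, map_div₀, hj, hj]
  exact hx

end Groth.Agent.Helper3.FixIC
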