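import Mathlib.RingTheory.Flat.FaithfullyFlat.Basic
import Mathlib.RingTheory.Flat.FaithfullyFlat.Algebra
import Mathlib.RingTheory.RingHom.Flat
import Mathlib.RingTheory.RingHom.FaithfullyFlat
import Mathlib.LinearAlgebra.TensorProduct.Tower

set_option autoImplicit false
universe u

namespace Groth.Agent.Helper3

open TensorProduct

/-- If `R → S → T` with `T` faithfully flat over `S` and `T` flat over `R`, then `S` is flat
over `R`. -/
theorem flat_of_flat_of_faithfullyFlat (R S T : Type*) [CommRing R] [CommRing S] [CommRing T]
    [Algebra R S] [Algebra S T] [Algebra R T] [IsScalarTower R S T]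
    [Module.FaithfullyFlat S T] [Module.Flat R T] : Module.Flat R S := by
  rw [Module.Flat.iff_lTensor_preserves_injective_linearMap]
  intro N P _ _ _ _ f hf
  change Function.Injective (AlgebraTensorModule.lTensor S S f)
  rw [← Module.FaithfullyFlat.lTensor_injective_iff_injective S T]
  have h1 : Function.Injective (LinearMap.lTensor T f) :=
    Module.Flat.lTensor_preserves_injective_linearMap f hf
  have key : (AlgebraTensorModule.cancelBaseChange R S S T P).toLinearMap ∘ₗ
      LinearMap.lTensor T (AlgebraTensorModule.lTensor S S f) =
      (AlgebraTensorModule.lTensor S T f) ∘ₗ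
        (AlgebraTensorModule.cancelBaseChange R S S T N).toLinearMap :=
    (AlgebraTensorModule.lTensor_comp_cancelBaseChange (R := R) (A := S) (B := S) (M := T) f).symm
  have h2 : Function.Injective ((AlgebraTensorModule.cancelBaseChange R S S T P).toLinearMap ∘ₗ
      LinearMap.lTensor T (AlgebraTensorModule.lTensor S S f)) := by
    rw [key]
    exact (show Function.Injective (AlgebraTensorModule.lTensor S T f) from h1).comp
      (AlgebraTensorModule.cancelBaseChange R S S T N).injective
  rw [LinearMap.coe_comp] at h2
  exact Function.Injective.of_comp h2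

/-- Ring hom version. -/
theorem ringHom_flat_of_comp_of_faithfullyFlat {R S T : Type*} [CommRing R] [CommRing S]
    [CommRing T] (f : R →+* S) (g : S →+* T) (hg : g.FaithfullyFlat) (hgf : (g.comp f).Flat) :
    f.Flat := by
  algebraize [f, g, g.comp f]
  exact flat_of_flat_of_faithfullyFlat R S T

end Groth.Agent.Helper3
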