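import Groth.Agent.Lib.Helper3.Flat
import Mathlib.AlgebraicGeometry.Morphisms.Flat
import Mathlib.AlgebraicGeometry.Morphisms.UnderlyingMap

set_option autoImplicit false
universe u

namespace Groth.Agent.Helper3

open AlgebraicGeometry CategoryTheory Limits

/-- If `f` is flat and surjective and `f ≫ h` is flat then `h` is flat. -/
theorem flat_of_flat_comp_of_surjective {X Y W : Scheme.{u}} (f : X ⟶ Y) (h : Y ⟶ W)
    [Flat f] [Surjective f] [Flat (f ≫ h)] : Flat h := by
  rw [Flat.iff_flat_stalkMap]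
  intro y
  obtain ⟨x, rfl⟩ := f.surjective y
  have h1 : ((f ≫ h).stalkMap x).hom.Flat := Flat.stalkMap (f ≫ h) x
  rw [Scheme.Hom.stalkMap_comp] at h1
  have h2 : (f.stalkMap x).hom.Flat := Flat.stalkMap f x
  have h3 : (f.stalkMap x).hom.FaithfullyFlat := by
    algebraize [(f.stalkMap x).hom]
    have : IsLocalHom (algebraMap (Y.presheaf.stalk (f x)) (X.presheaf.stalk x)) :=
      inferInstanceAs (IsLocalHom (f.stalkMap x).hom)
    exact Module.FaithfullyFlat.of_flat_of_isLocalHom
  exact ringHom_flat_of_comp_of_faithfullyFlat _ _ h3 h1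

end Groth.Agent.Helper3
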