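import Mathlib

/-!
# Unramified finite algebras in characteristic `p` are spanned by `p`-th powers (helper3)

* `span_pow_eq_top`: `A → B` finite and formally unramified, `p = 0` in `B`: the `A`-span of
  `{x^p}` is `B` (the relative Frobenius is surjective).
* `span_range_pow_eq_top`: if `b_i` generate `B` as an `A`-module, so do the `b_i^p`.
-/

set_option autoImplicit false
universe u

namespace Groth.Agent.Helper3.FrobEt

open scoped TensorProduct

lemma sub_pow_of_cast_eq_zero {T : Type*} [CommRing T] (p : ℕ) [Fact p.Prime]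
    (hp : (p : T) = 0) (u v : T) : (u - v) ^ p = u ^ p - v ^ p := by
  rcases subsingleton_or_nontrivial T with h | h
  · exact Subsingleton.elim _ _
  · haveI : CharP T p := (CharP.charP_iff_prime_eq_zero Fact.out).mpr hp
    exact sub_pow_char u v

lemma sum_pow_of_cast_eq_zero {T : Type*} [CommRing T] (p : ℕ) [Fact p.Prime]
    (hp : (p : T) = 0) {ι : Type*} (s : Finset ι) (f : ι → T) :
    (∑ i ∈ s, f i) ^ p = ∑ i ∈ s, f i ^ p := by
  rcases subsingleton_or_nontrivial T with h | h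
  · exact Subsingleton.elim _ _
  · haveI : CharP T p := (CharP.charP_iff_prime_eq_zero Fact.out).mpr hp
    exact sum_pow_char p s f

theorem span_pow_eq_top (p : ℕ) [Fact p.Prime] {A B : Type u} [CommRing A] [CommRing B]
    [Algebra A B] [Module.Finite A B] [Algebra.FormallyUnramified A B] (hp : (p : B) = 0) :
    Submodule.span A (Set.range fun x : B => x ^ p) = ⊤ := by
  let B₀ : Subalgebra A B := Algebra.adjoin A (Set.range fun x : B => x ^ p)
  have hmem : ∀ x : B, x ^ p ∈ B₀ := fun x => Algebra.subset_adjoin ⟨x, rfl⟩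
  haveI : Module.Finite B₀ B := Module.Finite.of_restrictScalars_finite A B₀ B
  haveI : Algebra.FormallyUnramified B₀ B := Algebra.FormallyUnramified.of_restrictScalars A B₀ B
  obtain ⟨e, he, hsp⟩ : ∃ e, IsIdempotentElem e ∧
      KaehlerDifferential.ideal B₀ B = Ideal.span {e} :=
    (Ideal.isIdempotentElem_iff_of_fg _ (KaehlerDifferential.ideal_fg B₀ B)).mp <|
      (Ideal.cotangent_subsingleton_iff _).mp <|
        inferInstanceAs <| Subsingleton (KaehlerDifferential B₀ B)
  have hpT : ((p : ℕ) : B ⊗[B₀] B) = 0 := by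
    rw [← map_natCast (algebraMap B (B ⊗[B₀] B)) p, hp, map_zero]
  have hmove : ∀ s : B, (s ^ p) ⊗ₜ[B₀] (1 : B) = (1 : B) ⊗ₜ[B₀] (s ^ p) := by
    intro s
    have hb₀ : (⟨s ^ p, hmem s⟩ : B₀) • (1 : B) = s ^ p := by
      rw [Subalgebra.smul_def, smul_eq_mul, mul_one]
    calc (s ^ p) ⊗ₜ[B₀] (1 : B) = ((⟨s ^ p, hmem s⟩ : B₀) • (1 : B)) ⊗ₜ[B₀] (1 : B) := by rw [hb₀]
      _ = (1 : B) ⊗ₜ[B₀] ((⟨s ^ p, hmem s⟩ : B₀) • (1 : B)) := TensorProduct.smul_tmul _ _ _
      _ = (1 : B) ⊗ₜ[B₀] (s ^ p) := by rw [hb₀]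
  have hnil : ∀ s : B, IsNilpotent ((1 : B) ⊗ₜ[B₀] s - s ⊗ₜ[B₀] (1 : B)) := by
    intro s
    refine ⟨p, ?_⟩
    rw [sub_pow_of_cast_eq_zero p hpT, Algebra.TensorProduct.tmul_pow,
      Algebra.TensorProduct.tmul_pow, one_pow, hmove s, sub_self]
  have hJ : KaehlerDifferential.ideal B₀ B ≤ nilradical (B ⊗[B₀] B) := by
    rw [← KaehlerDifferential.span_range_eq_ideal, Ideal.span_le]
    rintro _ ⟨s, rfl⟩
    exact mem_nilradical.mpr (hnil s)
  have heJ : e ∈ KaehlerDifferential.ideal B₀ B := by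
    rw [hsp]; exact Ideal.mem_span_singleton_self e
  have he0 : e = 0 := by
    obtain ⟨k, hk⟩ := mem_nilradical.mp (hJ heJ)
    rw [← he.pow_succ_eq k, pow_succ, hk, zero_mul]
  have hJ0 : KaehlerDifferential.ideal B₀ B = ⊥ := by
    rw [hsp, he0]; exact Ideal.span_singleton_eq_bot.mpr rfl
  have hepi : Algebra.IsEpi B₀ B := by
    rw [Algebra.isEpi_iff_forall_one_tmul_eq]
    intro s
    have := KaehlerDifferential.one_smul_sub_smul_one_mem_ideal B₀ s
    rw [hJ0, Ideal.mem_bot, sub_eq_zero] at this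
    exact this
  have hsurj : Function.Surjective (algebraMap B₀ B) :=
    (Algebra.isEpi_iff_surjective_algebraMap_of_finite (R := B₀) (A := B)).mp hepi
  rw [eq_top_iff]
  intro x _
  obtain ⟨x₀, rfl⟩ := hsurj x
  have hx : (x₀ : B) ∈ Algebra.adjoin A (Set.range fun x : B => x ^ p) := x₀.2
  have hr : (Set.range fun x : B => x ^ p) =
      (MonoidHom.mrange (powMonoidHom p : B →* B) : Set B) := by
    ext y; simp [MonoidHom.mem_mrange]
  rw [← Subalgebra.mem_toSubmodule, Algebra.adjoin_eq_span, hr, Submonoid.closure_eq, ← hr] at hx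
  exact hx

theorem span_range_pow_eq_top (p : ℕ) [Fact p.Prime] {A B : Type u} [CommRing A] [CommRing B]
    [Algebra A B] [Module.Finite A B] [Algebra.FormallyUnramified A B] (hp : (p : B) = 0)
    {n : ℕ} (b : Fin n → B) (hb : Submodule.span A (Set.range b) = ⊤) :
    Submodule.span A (Set.range fun i => b i ^ p) = ⊤ := by
  rw [eq_top_iff, ← span_pow_eq_top p hp, Submodule.span_le]
  rintro _ ⟨x, rfl⟩
  have hx : x ∈ Submodule.span A (Set.range b) := by rw [hb]; trivial
  obtain ⟨c, rfl⟩ := (Submodule.mem_span_range_iff_exists_fun A).mp hx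
  change (∑ i, c i • b i) ^ p ∈ _
  rw [sum_pow_of_cast_eq_zero p hp]
  apply Submodule.sum_mem
  intro i _
  rw [smul_pow]
  exact Submodule.smul_mem _ _ (Submodule.subset_span ⟨i, rfl⟩)

end Groth.Agent.Helper3.FrobEt
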