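import Mathlib

/-!
# The finite étale algebra `R[x]/(x_i^p - ∑ L_ij x_j)` in characteristic `p` (helper3)

For a ring `R` with `p = 0`, a finite index type `ι` and a matrix `L` over `R` with unit
determinant, `CAlg L p = R[x_i]/(x_i^p - ∑_j L_ij x_j)` is finite and étale over `R`.
* `rel`, `CAlg`, `etale`, `finite`, `lift`, `lift_mk_X`.
* `blockL`, `isUnit_det_blockL`: the matrix `[[N, 1], [aN - 1, a]]` has unit determinant for all
  square matrices `a`, `N`.
-/

set_option autoImplicit false
universe u v

namespace Groth.Agent.Helper3.FrobEt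

open MvPolynomial

section Block

variable {n : Type*} [Fintype n] [DecidableEq n] {R : Type*} [CommRing R]

/-- the matrix `[[N, 1], [aN - 1, a]]` -/
def blockL (a N : Matrix n n R) : Matrix (n ⊕ n) (n ⊕ n) R :=
  Matrix.fromBlocks N 1 (a * N - 1) a

/-- its inverse `[[a, -1], [1 - Na, N]]` -/
def blockM (a N : Matrix n n R) : Matrix (n ⊕ n) (n ⊕ n) R :=
  Matrix.fromBlocks a (-1) (1 - N * a) N

lemma blockL_mul_blockM (a N : Matrix n n R) : blockL a N * blockM a N = 1 := by
  unfold blockL blockM
  rw [Matrix.fromBlocks_multiply, ← Matrix.fromBlocks_one]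
  congr 1
  · rw [Matrix.one_mul, add_sub_cancel]
  · rw [Matrix.mul_neg, Matrix.mul_one, Matrix.one_mul, neg_add_cancel]
  · rw [Matrix.sub_mul, Matrix.mul_sub, Matrix.one_mul, Matrix.mul_one, Matrix.mul_assoc]
    abel
  · rw [Matrix.mul_neg, Matrix.mul_one, neg_sub, sub_add_cancel]

lemma isUnit_det_blockL (a N : Matrix n n R) : IsUnit (blockL a N).det :=
  Matrix.isUnit_det_of_right_inverse (blockL_mul_blockM a N)

end Block

section Alg

variable {ι : Type} [Fintype ι] [DecidableEq ι] {R : Type u} [CommRing R]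
  (L : Matrix ι ι R) (p : ℕ)

/-- the relations `x_i^p - ∑_j L_ij x_j` -/
noncomputable def rel (i : ι) : MvPolynomial ι R := X i ^ p - ∑ j, C (L i j) * X j

/-- the algebra `R[x]/(x^p - Lx)` -/
abbrev CAlg : Type u := MvPolynomial ι R ⧸ Ideal.span (Set.range (rel L p))

lemma pderiv_rel (hp : (p : R) = 0) (i j : ι) : pderiv i (rel L p j) = - C (L j i) := by
  have hpP : ((p : ℕ) : MvPolynomial ι R) = 0 := by
    rw [← map_natCast (C : R →+* MvPolynomial ι R), hp, map_zero]
  have h1 : pderiv i (X j ^ p : MvPolynomial ι R) = 0 := by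
    rw [Derivation.leibniz_pow, ← Nat.cast_smul_eq_nsmul (MvPolynomial ι R) p, hpP, zero_smul]
  have h2 : pderiv i (∑ k, C (L j k) * X k : MvPolynomial ι R) = C (L j i) := by
    rw [map_sum]
    simp only [pderiv_C_mul, pderiv_X]
    rw [Finset.sum_eq_single i]
    · rw [Pi.single_eq_same, mul_one]
    · intro k _ hk
      rw [Pi.single_eq_of_ne hk, mul_zero]
    · intro h; exact absurd (Finset.mem_univ i) h
  unfold rel
  rw [map_sub, h1, h2, zero_sub]

theorem etale (hp : (p : R) = 0) (hL : IsUnit L.det) : Algebra.Etale R (CAlg L p) := by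
  let P₀ : Algebra.PreSubmersivePresentation R (CAlg L p) ι ι :=
    Algebra.PreSubmersivePresentation.naive (v := rel L p) id Function.injective_id
  have hjac : P₀.jacobiMatrix = - ((L.map (C : R →+* MvPolynomial ι R)).transpose) := by
    ext i j
    rw [Algebra.PreSubmersivePresentation.jacobiMatrix_naive, id, pderiv_rel L p hp,
      Matrix.neg_apply, Matrix.transpose_apply, Matrix.map_apply]
  have hunit : IsUnit P₀.jacobian := by
    rw [Algebra.PreSubmersivePresentation.jacobian_eq_jacobiMatrix_det, hjac, Matrix.det_neg,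
      Matrix.det_transpose]
    apply IsUnit.map
    apply IsUnit.mul
    · exact (isUnit_one.neg).pow _
    · rw [← RingHom.mapMatrix_apply, ← RingHom.map_det]
      exact hL.map _
  let P : Algebra.SubmersivePresentation R (CAlg L p) ι ι :=
    { toPreSubmersivePresentation := P₀, jacobian_isUnit := hunit }
  haveI : Algebra.IsStandardSmoothOfRelativeDimension 0 R (CAlg L p) :=
    P.isStandardSmoothOfRelativeDimension (by simp [Algebra.Presentation.dimension])
  infer_instance

end Alg

end Groth.Agent.Helper3.FrobEt
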