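import Mathlib
import Groth.Agent.Lib.Helper3.FrobEt2

/-!
# `R[x]/(x^p - Lx)` is finite; maps out of it (helper3)
-/

set_option autoImplicit false
universe u v

namespace Groth.Agent.Helper3.FrobEt

open MvPolynomial

variable {ι : Type} [Fintype ι] [DecidableEq ι] {R : Type u} [CommRing R]
  (L : Matrix ι ι R) (p : ℕ)

/-- the span of reduced monomials plus the ideal of relations -/
noncomputable def redSpan : Submodule R (MvPolynomial ι R) :=
  Submodule.span R ((fun e : ι →₀ ℕ => (monomial e (1 : R) : MvPolynomial ι R)) ''
    {e | ∀ i, e i < p}) ⊔ (Ideal.span (Set.range (rel L p))).restrictScalars R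

lemma monomial_mem_redSpan (hp : 2 ≤ p) : ∀ (d : ℕ) (e : ι →₀ ℕ), e.degree = d →
    (monomial e (1 : R) : MvPolynomial ι R) ∈ redSpan L p := by
  intro d
  induction d using Nat.strong_induction_on with
  | _ d ih =>
    intro e he
    by_cases hred : ∀ i, e i < p
    · exact Submodule.mem_sup_left (Submodule.subset_span ⟨e, hred, rfl⟩)
    · push Not at hred
      obtain ⟨i, hi⟩ := hred
      have hle : Finsupp.single i p ≤ e := by
        rw [Finsupp.single_le_iff]
        exact hi
      set e' := e - Finsupp.single i p with he'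
      have hee : e = e' + Finsupp.single i p := (tsub_add_cancel_of_le hle).symm
      have hdeg : e'.degree + p = d := by
        rw [← he, hee, map_add, Finsupp.degree_single]
      have hX : (X i ^ p : MvPolynomial ι R) = rel L p i + ∑ j, C (L i j) * X j := by
        unfold rel; ring
      have hmon : (monomial e (1 : R) : MvPolynomial ι R) =
          monomial e' 1 * rel L p i + ∑ j, L i j • monomial (e' + Finsupp.single j 1) (1 : R) := by
        rw [hee, monomial_add_single, hX, mul_add, Finset.mul_sum]
        congr 1
        apply Finset.sum_congr rfl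
        intro j _
        rw [monomial_add_single, pow_one, MvPolynomial.smul_eq_C_mul]
        ring
      rw [hmon]
      apply Submodule.add_mem
      · apply Submodule.mem_sup_right
        change _ ∈ Ideal.span (Set.range (rel L p))
        exact Ideal.mul_mem_left _ _ (Ideal.subset_span ⟨i, rfl⟩)
      · apply Submodule.sum_mem
        intro j _
        apply Submodule.smul_mem
        apply ih (e'.degree + 1) (by omega) _
        rw [map_add, Finsupp.degree_single]

lemma redSpan_eq_top (hp : 2 ≤ p) : redSpan L p = ⊤ := by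
  have key : ∀ f : MvPolynomial ι R, f ∈ redSpan L p := by
    intro f
    induction f using MvPolynomial.induction_on' with
    | monomial e a =>
      have : (monomial e a : MvPolynomial ι R) = a • monomial e 1 := by
        rw [smul_monomial, smul_eq_mul, mul_one]
      rw [this]
      exact Submodule.smul_mem _ _ (monomial_mem_redSpan L p hp _ e rfl)
    | add f g hf hg => exact Submodule.add_mem _ hf hg
  exact eq_top_iff.mpr fun f _ => key f

theorem finite (hp : 2 ≤ p) : Module.Finite R (CAlg L p) := by
  classical
  have hSfin : Set.Finite {e : ι →₀ ℕ | ∀ i, e i < p} := by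
    let m : ι →₀ ℕ := Finsupp.equivFunOnFinite.symm (fun _ => p - 1)
    apply (Set.finite_Icc (0 : ι →₀ ℕ) m).subset
    intro e he
    refine ⟨zero_le, ?_⟩
    rw [Finsupp.le_def]
    intro i
    have := he i
    have hm : m i = p - 1 := rfl
    rw [hm]
    omega
  let π : MvPolynomial ι R →ₗ[R] CAlg L p :=
    (Ideal.Quotient.mkₐ R (Ideal.span (Set.range (rel L p)))).toLinearMap
  have hπ : ∀ f, π f = Ideal.Quotient.mk _ f := fun _ => rfl
  refine ⟨⟨(hSfin.image (fun e : ι →₀ ℕ => π (monomial e (1 : R)))).toFinset, ?_⟩⟩
  rw [Set.Finite.coe_toFinset, eq_top_iff]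
  intro x _
  obtain ⟨f, rfl⟩ := Ideal.Quotient.mk_surjective x
  have hf : f ∈ redSpan L p := by rw [redSpan_eq_top L p hp]; trivial
  obtain ⟨g, hg, h, hh, rfl⟩ := Submodule.mem_sup.mp hf
  have hh0 : Ideal.Quotient.mk (Ideal.span (Set.range (rel L p))) h = 0 :=
    Ideal.Quotient.eq_zero_iff_mem.mpr hh
  rw [map_add, hh0, add_zero, ← hπ]
  have : π g ∈ Submodule.map π (Submodule.span R
      ((fun e : ι →₀ ℕ => (monomial e (1 : R) : MvPolynomial ι R)) '' {e | ∀ i, e i < p})) :=
    Submodule.mem_map_of_mem hg
  rw [Submodule.map_span, Set.image_image] at this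
  exact this

section Lift

variable {T : Type v} [CommRing T] [Algebra R T] (c : ι → T)
  (hc : ∀ i, c i ^ p = ∑ j, algebraMap R T (L i j) * c j)

/-- the map `R[x]/(x^p - Lx) → T` determined by a solution `c` of `c^p = Lc` -/
noncomputable def lift : CAlg L p →ₐ[R] T :=
  Ideal.Quotient.liftₐ (Ideal.span (Set.range (rel L p))) (aeval c) (by
    intro f hf
    have : Ideal.span (Set.range (rel L p)) ≤ RingHom.ker (aeval c : MvPolynomial ι R →ₐ[R] T) := by
      rw [Ideal.span_le]
      rintro _ ⟨i, rfl⟩
      rw [SetLike.mem_coe, RingHom.mem_ker]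
      unfold rel
      rw [map_sub, map_pow, aeval_X, map_sum, hc i, sub_eq_zero]
      apply Finset.sum_congr rfl
      intro j _
      rw [map_mul, aeval_C, aeval_X]
    exact this hf)

lemma lift_mk_X (i : ι) : lift L p c hc (Ideal.Quotient.mk _ (X i)) = c i := by
  unfold lift
  rw [Ideal.Quotient.liftₐ_apply, Ideal.Quotient.lift_mk]
  exact aeval_X c i

end Lift

end Groth.Agent.Helper3.FrobEt
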