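import Mathlib
import Groth.Agent.Lib.Helper3.FrobEt1
import Groth.Agent.Lib.Helper3.FrobEt3

/-!
# Finite unramified covers of a quotient in characteristic `p` are dominated by restrictions of
finite étale covers (helper3)
-/

set_option autoImplicit false
universe u

namespace Groth.Agent.Helper3.FrobEt

open scoped TensorProduct
open MvPolynomial

theorem exists_finite_etale_lift (p : ℕ) [Fact p.Prime] (R A B : Type u) [CommRing R] [CommRing A]
    [CommRing B] [Algebra R A] (hp : (p : R) = 0)
    (hRA : Function.Surjective (algebraMap R A)) [Algebra A B] [Module.Finite A B]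
    [Algebra.FormallyUnramified A B] :
    ∃ (C : Type u) (_ : CommRing C) (_ : Algebra R C), Module.Finite R C ∧ Algebra.Etale R C ∧
      ∃ ψ : A ⊗[R] C →ₐ[A] B, Function.Surjective ψ := by
  classical
  letI : Algebra R B := ((algebraMap A B).comp (algebraMap R A)).toAlgebra
  haveI : IsScalarTower R A B := IsScalarTower.of_algebraMap_eq (fun _ => rfl)
  have hAB : ∀ r : R, algebraMap R B r = algebraMap A B (algebraMap R A r) := fun _ => rfl
  have hpB : ((p : ℕ) : B) = 0 := by rw [← map_natCast (algebraMap R B) p, hp, map_zero]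
  obtain ⟨n, b, hb⟩ := Module.Finite.exists_fin (R := A) (M := B)
  have hbp := span_range_pow_eq_top p hpB b hb
  have h1 : ∀ i, ∃ c : Fin n → A, ∑ j, c j • (b j) ^ p = b i := fun i =>
    (Submodule.mem_span_range_iff_exists_fun A).mp (by rw [hbp]; trivial)
  have h2 : ∀ i, ∃ c : Fin n → A, ∑ j, c j • b j = (b i) ^ p := fun i =>
    (Submodule.mem_span_range_iff_exists_fun A).mp (by rw [hb]; trivial)
  choose a ha using h1
  choose N hN using h2
  choose lft hlft using hRA
  let ã : Matrix (Fin n) (Fin n) R := Matrix.of fun i j => lft (a i j)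
  let Ñ : Matrix (Fin n) (Fin n) R := Matrix.of fun i j => lft (N i j)
  let L : Matrix (Fin n ⊕ Fin n) (Fin n ⊕ Fin n) R := blockL ã Ñ
  let c : Fin n ⊕ Fin n → B := Sum.elim b (fun _ => 0)
  have hã : ∀ i j, algebraMap R B (ã i j) = algebraMap A B (a i j) := fun i j => by
    rw [hAB]; congr 1; exact hlft _
  have hÑ : ∀ i j, algebraMap R B (Ñ i j) = algebraMap A B (N i j) := fun i j => by
    rw [hAB]; congr 1; exact hlft _
  have hpne : p ≠ 0 := (Fact.out : p.Prime).ne_zero
  have hc : ∀ i, c i ^ p = ∑ j, algebraMap R B (L i j) * c j := by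
    rintro (i | i)
    · rw [Fintype.sum_sum_type]
      simp only [c, Sum.elim_inl, Sum.elim_inr, mul_zero, Finset.sum_const_zero, add_zero]
      rw [← hN i]
      apply Finset.sum_congr rfl
      intro j _
      change _ = algebraMap R B (Ñ i j) * b j
      rw [hÑ, Algebra.smul_def]
    · rw [Fintype.sum_sum_type]
      simp only [c, Sum.elim_inl, Sum.elim_inr, mul_zero, Finset.sum_const_zero, add_zero]
      rw [zero_pow hpne]
      symm
      have hL : ∀ j, L (Sum.inr i) (Sum.inl j) = (ã * Ñ - 1) i j := fun j => rfl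
      simp only [hL, Matrix.sub_apply, Matrix.mul_apply, Matrix.one_apply, map_sub, map_sum,
        map_mul, hã, hÑ, sub_mul, Finset.sum_mul, Finset.sum_sub_distrib]
      rw [Finset.sum_comm]
      have e1 : ∀ k, ∑ j, algebraMap A B (a i k) * algebraMap A B (N k j) * b j =
          a i k • (b k) ^ p := by
        intro k
        rw [← hN k, Finset.smul_sum]
        apply Finset.sum_congr rfl
        intro j _
        rw [Algebra.smul_def, Algebra.smul_def, mul_assoc]
      simp only [e1]
      rw [ha i]
      have e2 : ∑ j, algebraMap R B (if i = j then 1 else 0) * b j = b i := by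
        rw [Finset.sum_eq_single i]
        · rw [if_pos rfl, map_one, one_mul]
        · intro j _ hj
          rw [if_neg hj.symm, map_zero, zero_mul]
        · intro h; exact absurd (Finset.mem_univ i) h
      rw [e2, sub_self]
  refine ⟨CAlg L p, inferInstance, inferInstance, finite L p (Fact.out : p.Prime).two_le,
    etale L p hp (isUnit_det_blockL ã Ñ), ?_⟩
  let g : CAlg L p →ₐ[R] B := lift L p c hc
  refine ⟨Algebra.TensorProduct.lift (Algebra.ofId A B) g (fun _ _ => Commute.all _ _), ?_⟩
  intro x
  have hx : x ∈ Submodule.span A (Set.range b) := by rw [hb]; trivial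
  obtain ⟨co, rfl⟩ := (Submodule.mem_span_range_iff_exists_fun A).mp hx
  refine ⟨∑ i, co i ⊗ₜ[R] (Ideal.Quotient.mk _ (X (Sum.inl i)) : CAlg L p), ?_⟩
  rw [map_sum]
  apply Finset.sum_congr rfl
  intro i _
  rw [Algebra.TensorProduct.lift_tmul, Algebra.ofId_apply, lift_mk_X, Algebra.smul_def]
  rfl

end Groth.Agent.Helper3.FrobEt
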