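import Mathlib

/-!
Galois data at a prime with trivial inertia (helper3).
-/

set_option autoImplicit false
universe u v w

namespace Groth.Agent.Helper3.GalData1

/-- `N` linearly independent functions: nonvanishing determinant of values. -/
theorem exists_det_ne_zero {κ : Type*} [Field κ] {X : Type*} {ι : Type*} [Fintype ι]
    [DecidableEq ι] (φ : ι → X → κ) (hφ : LinearIndependent κ φ) :
    ∃ y : ι → X, (Matrix.of fun i j => φ j (y i)).det ≠ 0 := by
  classical
  let S : Set (ι → κ) := Set.range (fun a : X => fun j => φ j a)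
  have hspan : Submodule.span κ S = ⊤ := by
    by_contra hne
    obtain ⟨f, hf0, hf⟩ := Submodule.exists_le_ker_of_lt_top _ (lt_top_iff_ne_top.mpr hne)
    apply hf0
    have hsingle : ∀ j : ι, (fun j' => if j = j' then (1 : κ) else 0) = Pi.single j 1 := by
      intro j
      ext j'
      simp [Pi.single_apply, eq_comm]
    have hc : ∀ a : X, ∑ j, f (Pi.single j 1) * φ j a = 0 := by
      intro a
      have h1 : (fun j => φ j a) ∈ LinearMap.ker f := hf (Submodule.subset_span ⟨a, rfl⟩)
      rw [LinearMap.mem_ker, LinearMap.pi_apply_eq_sum_univ f] at h1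
      rw [← h1]
      refine Finset.sum_congr rfl fun j _ => ?_
      rw [smul_eq_mul, mul_comm, hsingle]
    have hc' : ∑ j, f (Pi.single j 1) • φ j = 0 := by
      ext a
      simp only [Finset.sum_apply, Pi.smul_apply, smul_eq_mul, Pi.zero_apply]
      exact hc a
    have hzero := Fintype.linearIndependent_iff.mp hφ _ hc'
    refine LinearMap.ext fun v => ?_
    rw [LinearMap.pi_apply_eq_sum_univ f v]
    simp [hsingle, hzero]
  obtain ⟨b, hbS, hbspan, hbli⟩ := exists_linearIndependent κ S
  let bas : Module.Basis b κ (ι → κ) := Module.Basis.mk hbli (by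
    rw [Subtype.range_coe, hbspan, hspan])
  let e : ι ≃ b := (Pi.basisFun κ ι).indexEquiv bas
  have hpre : ∀ i : ι, ∃ a : X, (fun j => φ j a) = ((e i : b) : ι → κ) := fun i => hbS (e i).2
  choose y hy using hpre
  refine ⟨y, ?_⟩
  have hrows : LinearIndependent κ (Matrix.of fun i j => φ j (y i)).row := by
    have h1 : (Matrix.of fun i j => φ j (y i)).row = fun i => bas (e i) := by
      ext i j
      simp only [Matrix.row_def, Matrix.of_apply]
      rw [show bas (e i) = ((e i : b) : ι → κ) from Module.Basis.mk_apply _ _ _]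
      exact congrFun (hy i) j
    rw [h1]
    exact bas.linearIndependent.comp e e.injective
  have := Matrix.linearIndependent_rows_iff_isUnit.mp hrows
  exact ((Matrix.isUnit_iff_isUnit_det _).mp this).ne_zero

section
variable {A : Type u} [CommRing A] {G : Type w} [Group G] [Fintype G] [DecidableEq G]
  [MulSemiringAction G A]

/-- Galois data at a prime with trivial inertia -/
theorem exists_galois_data (Q : Ideal A) [Q.IsPrime] (hin : Q.inertia G = ⊥) :
    ∃ (x y : G → A) (f' : A), f' ∉ Q ∧ (∀ σ : G, σ • f' = f') ∧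
      ∀ σ : G, ∑ i, x i * σ • y i = if σ = 1 then f' else 0 := by
  let κ := FractionRing (A ⧸ Q)
  let ψ : A →+* κ := (algebraMap (A ⧸ Q) κ).comp (Ideal.Quotient.mk Q)
  have hψ : ∀ a, ψ a = 0 ↔ a ∈ Q := by
    intro a
    simp only [ψ, RingHom.comp_apply]
    rw [map_eq_zero_iff _ (IsFractionRing.injective (A ⧸ Q) κ), Ideal.Quotient.eq_zero_iff_mem]
  let Φ : G → (A →* κ) := fun σ => (ψ.comp (MulSemiringAction.toRingHom G A σ) : A →* κ)
  have hΦ : Function.Injective Φ := by
    intro σ τ h
    have h1 : σ * τ⁻¹ ∈ Q.inertia G := by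
      rw [AddSubgroup.mem_inertia]
      intro x
      have h2 := DFunLike.congr_fun h (τ⁻¹ • x)
      simp only [Φ, MonoidHom.coe_coe, RingHom.comp_apply, MulSemiringAction.toRingHom_apply,
        smul_inv_smul] at h2
      rw [mul_smul]
      change σ • τ⁻¹ • x - x ∈ Q
      rw [← hψ, map_sub, h2, sub_self]
    rw [hin, Subgroup.mem_bot, mul_inv_eq_one] at h1
    exact h1
  have hli : LinearIndependent κ (fun σ : G => ((Φ σ : A →* κ) : A → κ)) :=
    (linearIndependent_monoidHom A κ).comp Φ hΦ
  obtain ⟨y, hy⟩ := exists_det_ne_zero (fun σ : G => ((Φ σ : A →* κ) : A → κ)) hli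
  let Y : Matrix G G A := Matrix.of fun σ i => σ • y i
  set D := Y.det with hD
  have hDQ : D ∉ Q := by
    rw [← hψ, hD, RingHom.map_det]
    have : ψ.mapMatrix Y = (Matrix.of fun i j => ((Φ j : A →* κ) : A → κ) (y i)).transpose := by
      ext σ i
      simp [Y, Φ]
    rw [this, Matrix.det_transpose]
    exact hy
  have hτD : ∀ τ : G, τ • D = ((Equiv.Perm.sign (Equiv.mulLeft τ) : ℤˣ) : ℤ) * D := by
    intro τ
    have h1 : τ • D = (MulSemiringAction.toRingHom G A τ) D := rfl
    rw [h1, hD, RingHom.map_det, ← Matrix.det_permute (Equiv.mulLeft τ) Y]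
    congr 1
    ext σ i
    simp [Y, mul_smul]
  have hτDQ : ∀ τ : G, τ • D ∉ Q := by
    intro τ hmem
    rw [hτD] at hmem
    rcases Int.units_eq_one_or (Equiv.Perm.sign (Equiv.mulLeft τ)) with h | h
    · rw [h] at hmem
      simp at hmem
      exact hDQ hmem
    · rw [h] at hmem
      simp at hmem
      exact hDQ hmem
  set f' : A := ∏ τ : G, τ • D with hf'
  set c : A := ∏ τ ∈ (Finset.univ.erase (1 : G)), τ • D with hc
  have hcD : c * D = f' := by
    rw [mul_comm]
    have := Finset.mul_prod_erase (Finset.univ : Finset G) (fun τ => τ • D) (Finset.mem_univ 1)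
    simpa using this
  refine ⟨fun i => c * Y.adjugate i 1, y, f', ?_, ?_, ?_⟩
  · intro hmem
    rw [hf', Ideal.IsPrime.prod_mem_iff] at hmem
    obtain ⟨τ, -, hτ⟩ := hmem
    exact hτDQ τ hτ
  · intro σ
    rw [hf', Finset.smul_prod']
    simp only [← mul_smul]
    exact Fintype.prod_equiv (Equiv.mulLeft σ) _ _ (fun τ => rfl)
  · intro σ
    have h1 : ∑ i, c * Y.adjugate i 1 * σ • y i = c * (Y * Y.adjugate) σ 1 := by
      rw [Matrix.mul_apply, Finset.mul_sum]
      refine Finset.sum_congr rfl fun i _ => ?_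
      simp only [Y, Matrix.of_apply]
      ring
    rw [h1, Matrix.mul_adjugate, Matrix.smul_apply, Matrix.one_apply, smul_eq_mul, ← hD]
    by_cases h : σ = 1
    · subst h; simp [hcD]
    · simp [h]

end

end Groth.Agent.Helper3.GalData1
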