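import Mathlib

/-!
Quotient by a finite group: from Galois data to flat + unramified (helper3).
-/

set_option autoImplicit false
universe u v w

open scoped TensorProduct

namespace Groth.Agent.Helper3.QuotEt3

section Trace
variable {B R : Type v} [CommRing B] [CommRing R] [Algebra B R]
  {G : Type w} [Group G] [Fintype G] [MulSemiringAction G R] [SMulCommClass G B R]
  [Algebra.IsInvariant B R G]

theorem exists_tr (hinj : Function.Injective (algebraMap B R)) :
    ∃ tr : R →ₗ[B] B, ∀ z, algebraMap B R (tr z) = ∑ σ : G, σ • z := by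
  have h : ∀ z : R, ∃ b : B, algebraMap B R b = ∑ σ : G, σ • z := by
    intro z
    apply Algebra.IsInvariant.isInvariant (G := G)
    intro g
    rw [Finset.smul_sum]
    simp only [← mul_smul]
    exact Fintype.sum_equiv (Equiv.mulLeft g) _ _ (fun _ => rfl)
  choose t ht using h
  refine ⟨{ toFun := t, map_add' := ?_, map_smul' := ?_ }, ht⟩
  · intro a b; apply hinj; rw [map_add, ht, ht, ht]; simp [smul_add, Finset.sum_add_distrib]
  · intro c a; apply hinj; simp only [RingHom.id_apply, smul_eq_mul, map_mul, ht]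
    rw [Finset.mul_sum]; refine Finset.sum_congr rfl fun σ _ => ?_
    rw [Algebra.smul_def, smul_mul', smul_algebraMap]

variable [DecidableEq G] {ι : Type*} [Fintype ι]

omit [Algebra.IsInvariant B R G] in
theorem swap_data (x y : ι → R) (f : B)
    (h : ∀ σ : G, ∑ i, x i * σ • y i = if σ = 1 then algebraMap B R f else 0) (σ : G) :
    ∑ i, σ • x i * y i = if σ = 1 then algebraMap B R f else 0 := by
  have := congrArg (fun r => σ • r) (h σ⁻¹)
  simp only [Finset.smul_sum, smul_mul', smul_inv_smul] at this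
  rw [this]
  by_cases hσ : σ = 1
  · subst hσ; simp
  · have : ¬ σ⁻¹ = 1 := by simpa using hσ
    simp [hσ, this]

omit [Algebra.IsInvariant B R G] in
theorem E1 (x y : ι → R) (f : B)
    (h : ∀ σ : G, ∑ i, x i * σ • y i = if σ = 1 then algebraMap B R f else 0)
    (tr : R →ₗ[B] B) (htr : ∀ z, algebraMap B R (tr z) = ∑ σ : G, σ • z) (z : R) :
    algebraMap B R f * z = ∑ i, algebraMap B R (tr (z * x i)) * y i := by
  have hs := swap_data x y f h
  simp only [htr, Finset.sum_mul, smul_mul']
  rw [Finset.sum_comm]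
  have : ∀ σ : G, ∑ i, σ • z * σ • x i * y i = σ • z * (if σ = 1 then algebraMap B R f else 0) := by
    intro σ
    rw [← hs σ, Finset.mul_sum]
    exact Finset.sum_congr rfl fun i _ => by ring
  simp only [this, mul_ite, mul_zero, Finset.sum_ite_eq', Finset.mem_univ, if_true, one_smul]
  ring

omit [Algebra.IsInvariant B R G] in
theorem E2 (x y : ι → R) (f : B)
    (h : ∀ σ : G, ∑ i, x i * σ • y i = if σ = 1 then algebraMap B R f else 0)
    (tr : R →ₗ[B] B) (htr : ∀ z, algebraMap B R (tr z) = ∑ σ : G, σ • z) (z : R) :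
    algebraMap B R f * z = ∑ i, algebraMap B R (tr (z * y i)) * x i := by
  simp only [htr, Finset.sum_mul, smul_mul']
  rw [Finset.sum_comm]
  have : ∀ σ : G, ∑ i, σ • z * σ • y i * x i = σ • z * (if σ = 1 then algebraMap B R f else 0) := by
    intro σ
    rw [← h σ, Finset.mul_sum]
    exact Finset.sum_congr rfl fun i _ => by ring
  simp only [this, mul_ite, mul_zero, Finset.sum_ite_eq', Finset.mem_univ, if_true, one_smul]
  ring

end Trace

section Flat
variable {B R : Type v} [CommRing B] [CommRing R] [Algebra B R]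
  (f : B) (S : Type v) [CommRing S] [Algebra R S] [Algebra B S] [IsScalarTower B R S]
  [IsLocalization.Away (algebraMap B R f) S]
  {ι : Type*} [Fintype ι] (x y : ι → R) (tr : R →ₗ[B] B)

include f in
theorem flat_of_data
    (E1 : ∀ z, algebraMap B R f * z = ∑ i, algebraMap B R (tr (z * x i)) * y i) :
    Module.Flat B S := by
  classical
  let toS : R →ₗ[B] S := (IsScalarTower.toAlgHom B R S).toLinearMap
  haveI : IsLocalizedModule (Submonoid.powers f) toS := by
    apply isLocalizedModule_iff_isLocalization.mpr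
    rw [Algebra.algebraMapSubmonoid, Submonoid.map_powers]
    infer_instance
  let α : R →ₗ[B] (ι → B) := LinearMap.pi fun i => tr ∘ₗ (LinearMap.mulRight B (x i))
  let β : (ι → B) →ₗ[B] R := ∑ i, (LinearMap.proj i).smulRight (y i)
  let mkN := LocalizedModule.mkLinearMap (Submonoid.powers f) (ι → B)
  let i := IsLocalizedModule.map (Submonoid.powers f) toS mkN α
  let r0 := IsLocalizedModule.map (Submonoid.powers f) mkN toS β
  let u : S := IsLocalization.Away.invSelf (algebraMap B R f)
  let r := (LinearMap.mulLeft B u).comp r0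
  haveI : Module.Flat B (Localization (Submonoid.powers f)) :=
    IsLocalization.flat _ (Submonoid.powers f)
  haveI : Module.Flat B (LocalizedModule (Submonoid.powers f) (ι → B)) :=
    Module.Flat.trans B (Localization (Submonoid.powers f)) _
  refine Module.Flat.of_retract i r ?_
  apply IsLocalizedModule.linearMap_ext (Submonoid.powers f) toS toS
  ext z
  simp only [LinearMap.comp_apply, LinearMap.id_apply, r, i, r0, IsLocalizedModule.map_apply,
    LinearMap.mulLeft_apply]
  have hβα : β (α z) = algebraMap B R f * z := by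
    rw [E1 z]
    simp [β, α, Algebra.smul_def]
  rw [hβα]
  simp only [toS, AlgHom.toLinearMap_apply, IsScalarTower.coe_toAlgHom', map_mul]
  rw [← mul_assoc, mul_comm u, IsLocalization.Away.mul_invSelf, one_mul]

end Flat

section Unram
variable {B R : Type v} [CommRing B] [CommRing R] [Algebra B R]
  (f : B) (S : Type v) [CommRing S] [Algebra R S] [Algebra B S] [IsScalarTower B R S]
  [IsLocalization.Away (algebraMap B R f) S]
  {ι : Type*} [Fintype ι] (x y : ι → R) (tr : R →ₗ[B] B)

include f in
theorem unramified_of_data [Algebra.EssFiniteType B S]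
    (E1 : ∀ z, algebraMap B R f * z = ∑ i, algebraMap B R (tr (z * x i)) * y i)
    (E2 : ∀ z, algebraMap B R f * z = ∑ i, algebraMap B R (tr (z * y i)) * x i)
    (h1 : ∑ i, x i * y i = algebraMap B R f) :
    Algebra.FormallyUnramified B S := by
  classical
  set u : S := IsLocalization.Away.invSelf (algebraMap B R f) with hu
  have hfu : algebraMap R S (algebraMap B R f) * u = 1 := IsLocalization.Away.mul_invSelf _
  have hfu' : f • u = 1 := by
    rw [Algebra.smul_def, IsScalarTower.algebraMap_apply B R S]; exact hfu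
  -- `u` moves across the tensor product
  have hmove : (u ⊗ₜ[B] (1 : S) : S ⊗[B] S) = 1 ⊗ₜ[B] u := by
    calc (u ⊗ₜ[B] (1 : S) : S ⊗[B] S) = u ⊗ₜ[B] (f • u) := by rw [hfu']
      _ = (f • u) ⊗ₜ[B] u := by rw [TensorProduct.tmul_smul, TensorProduct.smul_tmul']
      _ = 1 ⊗ₜ[B] u := by rw [hfu']
  have hmove' : ∀ a b : S, ((u * a) ⊗ₜ[B] b : S ⊗[B] S) = a ⊗ₜ[B] (u * b) := by
    intro a b
    calc ((u * a) ⊗ₜ[B] b : S ⊗[B] S) = (u ⊗ₜ[B] (1 : S)) * (a ⊗ₜ[B] b) := by
          rw [Algebra.TensorProduct.tmul_mul_tmul, one_mul]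
      _ = a ⊗ₜ[B] (u * b) := by
          rw [hmove, Algebra.TensorProduct.tmul_mul_tmul, one_mul]
  rw [Algebra.FormallyUnramified.iff_exists_tensorProduct]
  refine ⟨∑ i, (u * algebraMap R S (x i)) ⊗ₜ[B] algebraMap R S (y i), ?_, ?_⟩
  swap
  · simp only [map_sum, Algebra.TensorProduct.lmul'_apply_tmul]
    simp only [mul_assoc, ← Finset.mul_sum, ← map_mul, ← map_sum, h1]
    rw [mul_comm]; exact hfu
  -- the key relation for elements of `R`
  have key : ∀ z : R, ∑ i, (u * algebraMap R S (x i)) ⊗ₜ[B] (algebraMap R S (z * y i)) =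
      ∑ i, (u * algebraMap R S (z * x i)) ⊗ₜ[B] algebraMap R S (y i) := by
    intro z
    have e1 : ∀ i, algebraMap R S (z * y i) =
        ∑ j, tr (z * y i * x j) • (u * algebraMap R S (y j)) := by
      intro i
      have := congrArg (algebraMap R S) (E1 (z * y i))
      rw [map_mul, map_sum] at this
      calc algebraMap R S (z * y i) = u * (algebraMap R S (algebraMap B R f) *
            algebraMap R S (z * y i)) := by rw [← mul_assoc, mul_comm u, hfu, one_mul]
        _ = _ := by
          rw [this, Finset.mul_sum]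
          refine Finset.sum_congr rfl fun j _ => ?_
          rw [map_mul, Algebra.smul_def, IsScalarTower.algebraMap_apply B R S]
          ring
    have e2 : ∀ j, algebraMap R S (z * x j) =
        ∑ i, tr (z * x j * y i) • (u * algebraMap R S (x i)) := by
      intro j
      have := congrArg (algebraMap R S) (E2 (z * x j))
      rw [map_mul, map_sum] at this
      calc algebraMap R S (z * x j) = u * (algebraMap R S (algebraMap B R f) *
            algebraMap R S (z * x j)) := by rw [← mul_assoc, mul_comm u, hfu, one_mul]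
        _ = _ := by
          rw [this, Finset.mul_sum]
          refine Finset.sum_congr rfl fun i _ => ?_
          rw [map_mul, Algebra.smul_def, IsScalarTower.algebraMap_apply B R S]
          ring
    calc ∑ i, (u * algebraMap R S (x i)) ⊗ₜ[B] (algebraMap R S (z * y i))
        = ∑ i, ∑ j, (tr (z * y i * x j) • (u * algebraMap R S (x i))) ⊗ₜ[B]
            (u * algebraMap R S (y j)) := by
          refine Finset.sum_congr rfl fun i _ => ?_
          rw [e1 i, TensorProduct.tmul_sum]
          refine Finset.sum_congr rfl fun j _ => ?_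
          rw [TensorProduct.tmul_smul, TensorProduct.smul_tmul']
      _ = ∑ j, (algebraMap R S (z * x j)) ⊗ₜ[B] (u * algebraMap R S (y j)) := by
          rw [Finset.sum_comm]
          refine Finset.sum_congr rfl fun j _ => ?_
          rw [e2 j, TensorProduct.sum_tmul]
          refine Finset.sum_congr rfl fun i _ => ?_
          congr 3
          ring
      _ = _ := by
          refine Finset.sum_congr rfl fun j _ => ?_
          rw [hmove']
  -- elements of `R`
  have hR : ∀ z : R, ((1 : S) ⊗ₜ[B] algebraMap R S z - algebraMap R S z ⊗ₜ[B] (1 : S)) *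
      ∑ i, (u * algebraMap R S (x i)) ⊗ₜ[B] algebraMap R S (y i) = 0 := by
    intro z
    rw [sub_mul, Finset.mul_sum, Finset.mul_sum, sub_eq_zero]
    simp only [Algebra.TensorProduct.tmul_mul_tmul, one_mul]
    have := key z
    simp only [map_mul] at this
    rw [this]
    refine Finset.sum_congr rfl fun i _ => ?_
    congr 1
    ring
  intro s
  obtain ⟨⟨z, n⟩, hs⟩ : ∃ p : R × ℕ, s = algebraMap R S p.1 * u ^ p.2 := by
    refine ⟨IsLocalization.Away.sec (algebraMap B R f) s, ?_⟩
    have := IsLocalization.Away.sec_spec (algebraMap B R f) s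
    rw [← this, map_pow, mul_assoc, ← mul_pow, hfu, one_pow, mul_one]
  dsimp only at hs
  have hpow : ∀ n : ℕ, ((1 : S) ⊗ₜ[B] (u ^ n) : S ⊗[B] S) = (u ^ n) ⊗ₜ[B] (1 : S) := by
    intro n
    have h1 : ((1 : S) ⊗ₜ[B] (u ^ n) : S ⊗[B] S) = ((1 : S) ⊗ₜ[B] u) ^ n := by
      rw [Algebra.TensorProduct.tmul_pow, one_pow]
    have h2 : ((u ^ n) ⊗ₜ[B] (1 : S) : S ⊗[B] S) = (u ⊗ₜ[B] (1 : S)) ^ n := by
      rw [Algebra.TensorProduct.tmul_pow, one_pow]
    rw [h1, h2, hmove]
  have : ((1 : S) ⊗ₜ[B] s - s ⊗ₜ[B] (1 : S) : S ⊗[B] S) =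
      ((u ^ n) ⊗ₜ[B] (1 : S)) * ((1 : S) ⊗ₜ[B] algebraMap R S z - algebraMap R S z ⊗ₜ[B] (1 : S)) := by
    rw [hs, mul_sub, Algebra.TensorProduct.tmul_mul_tmul, Algebra.TensorProduct.tmul_mul_tmul,
      mul_one, one_mul, mul_one]
    congr 1
    · calc ((1 : S) ⊗ₜ[B] (algebraMap R S z * u ^ n) : S ⊗[B] S)
          = ((1 : S) ⊗ₜ[B] (u ^ n)) * ((1 : S) ⊗ₜ[B] algebraMap R S z) := by
            rw [Algebra.TensorProduct.tmul_mul_tmul, one_mul, mul_comm]
        _ = ((u ^ n) ⊗ₜ[B] (1 : S)) * ((1 : S) ⊗ₜ[B] algebraMap R S z) := by rw [hpow]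
        _ = (u ^ n) ⊗ₜ[B] algebraMap R S z := by
            rw [Algebra.TensorProduct.tmul_mul_tmul, mul_one, one_mul]
    · rw [mul_comm]
  rw [this, mul_assoc, hR z, mul_zero]

end Unram

end Groth.Agent.Helper3.QuotEt3
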