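import Mathlib
import Groth.Agent.Lib.Helper3.GalData1
import Groth.Agent.Lib.Helper3.QuotEt3
import Groth.Agent.Lib.Lead.Hom14

/-!
Trivial inertia: flatness over the invariant ring, descent of regularity (helper3).
-/

set_option autoImplicit false
universe u v w

namespace Groth.Agent.Helper3.GalData2

section Flat
variable {A : Type u} [CommRing A] {G : Type w} [Group G] [MulSemiringAction G A]

instance isInvariant_fixedPoints : Algebra.IsInvariant (FixedPoints.subring A G) A G :=
  ⟨fun b hb => ⟨⟨b, hb⟩, rfl⟩⟩

theorem flat_atPrime_of_inertia [Finite G] (Q : Ideal A) [Q.IsPrime] (hin : Q.inertia G = ⊥) :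
    Module.Flat (FixedPoints.subring A G) (Localization.AtPrime Q) := by
  classical
  haveI : Fintype G := Fintype.ofFinite G
  obtain ⟨x, y, f', hf'Q, hf'inv, hdata⟩ := GalData1.exists_galois_data (G := G) Q hin
  let f : FixedPoints.subring A G := ⟨f', hf'inv⟩
  have hff' : algebraMap (FixedPoints.subring A G) A f = f' := rfl
  have hinj : Function.Injective (algebraMap (FixedPoints.subring A G) A) :=
    Subtype.val_injective
  obtain ⟨tr, htr⟩ := QuotEt3.exists_tr (B := FixedPoints.subring A G) (R := A) (G := G) hinj
  have E1 := QuotEt3.E1 x y f hdata tr htr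
  haveI : Module.Flat (FixedPoints.subring A G)
      (Localization.Away (algebraMap (FixedPoints.subring A G) A f)) :=
    QuotEt3.flat_of_data f _ x y tr E1
  have hle : Submonoid.powers (algebraMap (FixedPoints.subring A G) A f) ≤ Q.primeCompl := by
    rw [Submonoid.powers_le]; exact hf'Q
  letI : Algebra (Localization.Away (algebraMap (FixedPoints.subring A G) A f))
      (Localization.AtPrime Q) :=
    IsLocalization.localizationAlgebraOfSubmonoidLe
      (Localization.Away (algebraMap (FixedPoints.subring A G) A f)) (Localization.AtPrime Q) _ _ hle
  haveI : IsScalarTower A (Localization.Away (algebraMap (FixedPoints.subring A G) A f))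
      (Localization.AtPrime Q) :=
    IsLocalization.localization_isScalarTower_of_submonoid_le
      (Localization.Away (algebraMap (FixedPoints.subring A G) A f)) (Localization.AtPrime Q) _ _ hle
  haveI : IsLocalization (Q.primeCompl.map
      (algebraMap A (Localization.Away (algebraMap (FixedPoints.subring A G) A f))))
      (Localization.AtPrime Q) :=
    IsLocalization.isLocalization_of_submonoid_le _ _ _ _ hle
  haveI : Module.Flat (Localization.Away (algebraMap (FixedPoints.subring A G) A f))
      (Localization.AtPrime Q) :=
    IsLocalization.flat _ (Q.primeCompl.map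
      (algebraMap A (Localization.Away (algebraMap (FixedPoints.subring A G) A f))))
  haveI : IsScalarTower (FixedPoints.subring A G)
      (Localization.Away (algebraMap (FixedPoints.subring A G) A f)) (Localization.AtPrime Q) :=
    IsScalarTower.of_algebraMap_eq (fun b => by
      rw [IsScalarTower.algebraMap_apply (FixedPoints.subring A G) A (Localization.AtPrime Q),
        IsScalarTower.algebraMap_apply A
          (Localization.Away (algebraMap (FixedPoints.subring A G) A f)) (Localization.AtPrime Q),
        ← IsScalarTower.algebraMap_apply (FixedPoints.subring A G) A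
          (Localization.Away (algebraMap (FixedPoints.subring A G) A f))])
  exact Module.Flat.trans (FixedPoints.subring A G)
    (Localization.Away (algebraMap (FixedPoints.subring A G) A f)) (Localization.AtPrime Q)

end Flat

section Descent

theorem regular_descent {R S : Type u} [CommRing R] [CommRing S] [Algebra R S]
    (P : Ideal R) [P.IsPrime] (Q : Ideal S) [Q.IsPrime] (hPQ : P = Q.comap (algebraMap R S))
    [Module.Flat R (Localization.AtPrime Q)] [IsRegularLocalRing (Localization.AtPrime Q)] :
    IsRegularLocalRing (Localization.AtPrime P) := by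
  letI : Algebra (Localization.AtPrime P) (Localization.AtPrime Q) :=
    (Localization.localRingHom P Q (algebraMap R S) hPQ).toAlgebra
  haveI : IsScalarTower R (Localization.AtPrime P) (Localization.AtPrime Q) :=
    IsScalarTower.of_algebraMap_eq (fun r => by
      rw [RingHom.algebraMap_toAlgebra, Localization.localRingHom_to_map,
        IsScalarTower.algebraMap_apply R S (Localization.AtPrime Q)])
  haveI : Module.Flat (Localization.AtPrime P) (Localization.AtPrime Q) :=
    (Module.flat_iff_of_isLocalization (Localization.AtPrime P) P.primeCompl _).mpr inferInstance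
  haveI : IsLocalHom (algebraMap (Localization.AtPrime P) (Localization.AtPrime Q)) := by
    rw [RingHom.algebraMap_toAlgebra]
    exact Localization.isLocalHom_localRingHom P Q _ hPQ
  haveI : Module.FaithfullyFlat (Localization.AtPrime P) (Localization.AtPrime Q) :=
    Module.FaithfullyFlat.of_flat_of_isLocalHom
  haveI : IsNoetherianRing (Localization.AtPrime P) :=
    Groth.Agent.Lead.Hom.isNoetherianRing_of_faithfullyFlat _ (Localization.AtPrime Q)
  exact Groth.Agent.Lead.Hom.isRegularLocalRing_of_flat _ (Localization.AtPrime Q)

end Descent

section Main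

theorem main (A : Type u) [CommRing A] [IsRegularLocalRing A]
    (G : Type w) [Group G] [Finite G] [MulSemiringAction G A]
    (hram : ∀ P : Ideal A, P.IsPrime → P ≠ IsLocalRing.maximalIdeal A → P.inertia G = ⊥)
    (P : Ideal (FixedPoints.subring A G)) [P.IsPrime] (hP : ¬ P.IsMaximal) :
    IsRegularLocalRing (Localization.AtPrime P) := by
  haveI : Algebra.IsIntegral (FixedPoints.subring A G) A :=
    Algebra.IsInvariant.isIntegral (FixedPoints.subring A G) A G
  obtain ⟨Q, -, hQprime, hQP⟩ := Ideal.exists_ideal_over_prime_of_isIntegral P (⊥ : Ideal A) (by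
    intro b hb
    rw [Ideal.mem_comap, Ideal.mem_bot] at hb
    have : b = 0 := Subtype.val_injective hb
    rw [this]; exact P.zero_mem)
  have hQm : Q ≠ IsLocalRing.maximalIdeal A := by
    rintro rfl
    apply hP
    rw [← hQP]
    exact Ideal.isMaximal_comap_of_isIntegral_of_isMaximal _
  haveI := flat_atPrime_of_inertia Q (hram Q hQprime hQm)
  haveI : IsRegularLocalRing (Localization.AtPrime Q) :=
    Groth.Agent.Lead.Hom.isRegularLocalRing_localization Q
  exact regular_descent P Q hQP.symm

end Main

end Groth.Agent.Helper3.GalData2
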