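import Mathlib

/-!
Finiteness of a Galois extension of a Noetherian normal domain (helper3).
-/

set_option autoImplicit false
universe u

namespace Groth.Agent.Helper3.GalLoc1

theorem finite_of_isGaloisGroup (R S G : Type u) [CommRing R] [CommRing S] [IsDomain R] [IsDomain S]
    [IsNoetherianRing R] [IsIntegrallyClosed R] [Algebra R S] [FaithfulSMul R S]
    [IsIntegrallyClosed S] [Group G] [Finite G] [MulSemiringAction G S] [IsGaloisGroup G R S] :
    Module.Finite R S := by
  let := FractionRing.liftAlgebra R (FractionRing S)
  let := IsFractionRing.mulSemiringAction G S (FractionRing S)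
  haveI : IsGaloisGroup G (FractionRing R) (FractionRing S) :=
    IsGaloisGroup.to_isFractionRing G R S _ _
  haveI := IsGaloisGroup.isGalois G (FractionRing R) (FractionRing S)
  haveI := IsGaloisGroup.finiteDimensional G (FractionRing R) (FractionRing S)
  haveI : Algebra.IsIntegral R S :=
    (IsGaloisGroup.isInvariant (G := G) (A := R) (B := S)).isIntegral
  haveI : IsIntegralClosure S R (FractionRing S) :=
    IsIntegralClosure.of_isIntegrallyClosed S R (FractionRing S)
  exact IsIntegralClosure.finite R (FractionRing R) (FractionRing S) S

end Groth.Agent.Helper3.GalLoc1
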