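import Mathlib
import Groth.Agent.Lib.Helper3.GalLoc2

/-!
A finite domain over a complete Noetherian local ring is local (helper3).
-/

set_option autoImplicit false
universe u v

namespace Groth.Agent.Helper3.GalLoc3

open IsLocalRing

theorem isLocalRing_of_finite (R : Type u) [CommRing R] [IsNoetherianRing R] [IsLocalRing R]
    [IsAdicComplete (maximalIdeal R) R] (S : Type v) [CommRing S] [IsDomain S] [Algebra R S]
    [Module.Finite R S] : IsLocalRing S := by
  classical
  set J : Ideal S := (maximalIdeal R).map (algebraMap R S) with hJ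
  haveI : IsAdicComplete (maximalIdeal R) S := GalLoc2.isAdicComplete_of_finite _ S
  haveI : IsAdicComplete J S := GalLoc2.isAdicComplete_map _ S
  haveI : IsNoetherianRing S := IsNoetherianRing.of_finite R S
  haveI : Algebra.IsIntegral R S := Algebra.IsIntegral.of_finite R S
  -- primes containing `J` are maximal
  have hmax : ∀ P : Ideal S, P.IsPrime → J ≤ P → P.IsMaximal := by
    intro P hP hJP
    have h1 : maximalIdeal R ≤ P.comap (algebraMap R S) := Ideal.map_le_iff_le_comap.mp hJP
    have h2 : P.comap (algebraMap R S) = maximalIdeal R :=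
      ((maximalIdeal.isMaximal R).eq_of_le (Ideal.IsPrime.ne_top (hP.comap _)) h1).symm
    apply Ideal.isMaximal_of_isIntegral_of_isMaximal_comap (R := R) P
    rw [h2]
    exact maximalIdeal.isMaximal R
  have hJle : ∀ n : Ideal S, n.IsMaximal → J ≤ n := by
    intro n hn
    rw [hJ, Ideal.map_le_iff_le_comap]
    have : (n.comap (algebraMap R S)).IsMaximal :=
      Ideal.isMaximal_comap_of_isIntegral_of_isMaximal n
    rw [IsLocalRing.eq_maximalIdeal this]
  apply IsLocalRing.of_unique_max_ideal
  obtain ⟨n₁, hn₁⟩ := Ideal.exists_maximal S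
  refine ⟨n₁, hn₁, ?_⟩
  intro n₂ hn₂
  by_contra hne
  -- the reduced Artinian quotient
  let T := S ⧸ J.radical
  haveI : IsReduced T := (Ideal.isRadical_iff_quotient_reduced _).mp (Ideal.radical_isRadical J)
  have hker : ∀ n : Ideal S, n.IsMaximal → J.radical ≤ n := fun n hn =>
    (Ideal.IsPrime.radical_le_iff hn.isPrime).mpr (hJle n hn)
  haveI : Ring.KrullDimLE 0 T := by
    apply Ring.KrullDimLE.mk₀
    intro P hP
    have hP' : (P.comap (Ideal.Quotient.mk J.radical)).IsMaximal := by
      apply hmax _ (hP.comap _)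
      refine le_trans Ideal.le_radical ?_
      intro x hx
      rw [Ideal.mem_comap, Ideal.Quotient.eq_zero_iff_mem.mpr hx]
      exact P.zero_mem
    have := Ideal.map_eq_top_or_isMaximal_of_surjective (Ideal.Quotient.mk J.radical)
      Ideal.Quotient.mk_surjective hP'
    rw [Ideal.map_comap_of_surjective _ Ideal.Quotient.mk_surjective] at this
    exact this.resolve_left hP.ne_top
  haveI : IsArtinianRing T := isArtinianRing_iff_isNoetherianRing_krullDimLE_zero.mpr
    ⟨inferInstance, inferInstance⟩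
  -- maximal ideals of `T`
  have hmapmax : ∀ n : Ideal S, n.IsMaximal →
      (n.map (Ideal.Quotient.mk J.radical)).IsMaximal := by
    intro n hn
    have := Ideal.map_eq_top_or_isMaximal_of_surjective (Ideal.Quotient.mk J.radical)
      Ideal.Quotient.mk_surjective hn
    refine this.resolve_left ?_
    intro htop
    have h2 := congrArg (Ideal.comap (Ideal.Quotient.mk J.radical)) htop
    rw [Ideal.comap_map_of_surjective _ Ideal.Quotient.mk_surjective, Ideal.comap_top,
      ← RingHom.ker_eq_comap_bot, Ideal.mk_ker, sup_eq_left.mpr (hker n hn)] at h2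
    exact hn.ne_top h2
  let m₁ : MaximalSpectrum T := ⟨_, hmapmax n₂ hn₂⟩
  let m₂ : MaximalSpectrum T := ⟨_, hmapmax n₁ hn₁⟩
  have hm : m₂ ≠ m₁ := by
    intro h
    have h1 : n₁.map (Ideal.Quotient.mk J.radical) = n₂.map (Ideal.Quotient.mk J.radical) :=
      congrArg MaximalSpectrum.asIdeal h
    have h2 := congrArg (Ideal.comap (Ideal.Quotient.mk J.radical)) h1
    rw [Ideal.comap_map_of_surjective _ Ideal.Quotient.mk_surjective,
      Ideal.comap_map_of_surjective _ Ideal.Quotient.mk_surjective,
      ← RingHom.ker_eq_comap_bot, Ideal.mk_ker, sup_eq_left.mpr (hker n₁ hn₁),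
      sup_eq_left.mpr (hker n₂ hn₂)] at h2
    exact hne h2.symm
  let ε : T := (IsArtinianRing.equivPi T).symm (Pi.single m₁ 1)
  have hε : IsIdempotentElem ε := by
    have : IsIdempotentElem (Pi.single m₁ (1 : T ⧸ m₁.asIdeal) :
        ∀ I : MaximalSpectrum T, T ⧸ I.asIdeal) := by
      rw [IsIdempotentElem, ← Pi.single_mul, one_mul]
    exact this.map (IsArtinianRing.equivPi T).symm
  have hε1 : ε ≠ 0 := by
    intro h
    have h0 : (IsArtinianRing.equivPi T) ε = Pi.single m₁ 1 :=
      (IsArtinianRing.equivPi T).apply_symm_apply _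
    have h1 : (IsArtinianRing.equivPi T) ε m₁ = 1 := by rw [h0, Pi.single_eq_same]
    rw [h, map_zero] at h1
    haveI : Nontrivial (T ⧸ m₁.asIdeal) := Ideal.Quotient.nontrivial_iff.mpr m₁.isMaximal.ne_top
    exact zero_ne_one h1
  have hε2 : ε ≠ 1 := by
    intro h
    have h0 : (IsArtinianRing.equivPi T) ε = Pi.single m₁ 1 :=
      (IsArtinianRing.equivPi T).apply_symm_apply _
    have h1 : (IsArtinianRing.equivPi T) ε m₂ = 0 := by rw [h0, Pi.single_eq_of_ne hm]
    rw [h, map_one] at h1
    haveI : Nontrivial (T ⧸ m₂.asIdeal) := Ideal.Quotient.nontrivial_iff.mpr m₂.isMaximal.ne_top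
    exact one_ne_zero h1
  -- lift along the nil ideal
  let f : S ⧸ J →+* T := Ideal.Quotient.factor (Ideal.le_radical)
  have hfsurj : Function.Surjective f := Ideal.Quotient.factor_surjective _
  have hnil : ∀ x ∈ RingHom.ker f, IsNilpotent x := by
    intro x hx
    obtain ⟨s, rfl⟩ := Ideal.Quotient.mk_surjective x
    rw [RingHom.mem_ker, Ideal.Quotient.factor_mk, Ideal.Quotient.eq_zero_iff_mem] at hx
    obtain ⟨k, hk⟩ := hx
    exact ⟨k, by rw [← map_pow, Ideal.Quotient.eq_zero_iff_mem]; exact hk⟩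
  obtain ⟨ε', hε', hfε'⟩ := exists_isIdempotentElem_eq_of_ker_isNilpotent f hnil ε
    (hfsurj ε) hε
  obtain ⟨a₀, rfl⟩ := Ideal.Quotient.mk_surjective ε'
  have ha₀ : a₀ ^ 2 - a₀ ∈ J := by
    rw [← Ideal.Quotient.eq, map_pow, pow_two]
    exact hε'
  obtain ⟨e, hee, hea⟩ := GalLoc2.exists_idem_lift J a₀ ha₀
  have he01 : e = 0 ∨ e = 1 := by
    have : e * (e - 1) = 0 := by rw [mul_sub, hee, mul_one, sub_self]
    rcases mul_eq_zero.mp this with h | h
    · exact Or.inl h
    · exact Or.inr (sub_eq_zero.mp h)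
  have hεe : ε = Ideal.Quotient.mk J.radical e := by
    rw [← hfε', Ideal.Quotient.factor_mk, eq_comm, Ideal.Quotient.eq]
    exact Ideal.le_radical hea
  rcases he01 with h | h
  · exact hε1 (by rw [hεe, h, map_zero])
  · exact hε2 (by rw [hεe, h, map_one])

end Groth.Agent.Helper3.GalLoc3
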