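import Mathlib
import Groth.Agent.Lib.Helper3.GalLoc1
import Groth.Agent.Lib.Helper3.GalLoc3
import Groth.Agent.Lib.Helper3.GalData1
import Groth.Agent.Lib.Helper3.QuotEt3

/-!
Inertia trivial iff unramified, for a Galois extension of a complete normal local domain (helper3).
-/

set_option autoImplicit false
universe u

namespace Groth.Agent.Helper3.GalLoc4

open IsLocalRing

section
variable {R S G : Type u} [CommRing R] [CommRing S] [Algebra R S] [Group G] [Finite G]
  [MulSemiringAction G S] [SMulCommClass G R S] [Algebra.IsInvariant R S G]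

/-- trivial inertia at the maximal ideal implies unramified -/
theorem unram_of_inertia [IsLocalRing R] [IsLocalRing S] [IsLocalHom (algebraMap R S)]
    [Module.Finite R S]
    (hinj : Function.Injective (algebraMap R S))
    (hin : (maximalIdeal S).inertia G = ⊥) : Algebra.FormallyUnramified R S := by
  classical
  haveI : Fintype G := Fintype.ofFinite G
  obtain ⟨x, y, f', hf'Q, hf'inv, hdata⟩ :=
    GalData1.exists_galois_data (G := G) (maximalIdeal S) hin
  obtain ⟨f, rfl⟩ := Algebra.IsInvariant.isInvariant (A := R) (G := G) f' hf'inv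
  have hunit : IsUnit (algebraMap R S f) := by
    rwa [mem_maximalIdeal, mem_nonunits_iff, not_not] at hf'Q
  obtain ⟨tr, htr⟩ := QuotEt3.exists_tr (B := R) (R := S) (G := G) hinj
  have E1 := QuotEt3.E1 x y f hdata tr htr
  have E2 := QuotEt3.E2 x y f hdata tr htr
  have h1 : ∑ i, x i * y i = algebraMap R S f := by
    have := hdata 1
    simpa using this
  haveI : IsLocalization.Away (algebraMap R S f) S :=
    IsLocalization.away_of_isUnit_of_bijective S hunit Function.bijective_id
  exact QuotEt3.unramified_of_data f S x y tr E1 E2 h1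

omit [Finite G] [Algebra.IsInvariant R S G] in
/-- unramified implies trivial inertia -/
theorem inertia_of_unram [IsLocalRing S] [IsNoetherianRing S] [FaithfulSMul G S]
    [Algebra.FormallyUnramified R S] : (maximalIdeal S).inertia G = ⊥ := by
  rw [eq_bot_iff]
  intro σ hσ
  rw [AddSubgroup.mem_inertia] at hσ
  rw [Subgroup.mem_bot]
  have hI : ⨅ i, (maximalIdeal S) ^ i = ⊥ :=
    Ideal.iInf_pow_eq_bot_of_isLocalRing _ (maximalIdeal.isMaximal S).ne_top
  have key : AlgHom.id R S = MulSemiringAction.toAlgHom R S σ := by
    apply Algebra.FormallyUnramified.ext_of_iInf (I := maximalIdeal S) hI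
    intro s
    rw [AlgHom.id_apply, MulSemiringAction.toAlgHom_apply, Ideal.Quotient.eq, ← neg_sub]
    exact (maximalIdeal S).neg_mem (hσ s)
  apply FaithfulSMul.eq_of_smul_eq_smul (α := S)
  intro s
  rw [one_smul]
  have := DFunLike.congr_fun key s
  rw [AlgHom.id_apply, MulSemiringAction.toAlgHom_apply] at this
  exact this.symm

end

section Residue
variable {R S : Type u} [CommRing R] [CommRing S] [Algebra R S] [IsLocalRing R] [IsLocalRing S]
  [(maximalIdeal S).LiesOver (maximalIdeal R)]

theorem isLocalHom_of_liesOver : IsLocalHom (algebraMap R S) := by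
  apply ((IsLocalRing.local_hom_TFAE (algebraMap R S)).out 0 4).mpr
  exact ((Ideal.over_def (maximalIdeal S) (maximalIdeal R))).symm

variable [Module.Finite R S]

theorem rhs_of_unram [Algebra.FormallyUnramified R S] :
    ((maximalIdeal R).map (algebraMap R S) = maximalIdeal S ∧
      Module.Finite (R ⧸ maximalIdeal R) (S ⧸ maximalIdeal S) ∧
      Algebra.IsSeparable (R ⧸ maximalIdeal R) (S ⧸ maximalIdeal S)) := by
  haveI := isLocalHom_of_liesOver (R := R) (S := S)
  refine ⟨Algebra.FormallyUnramified.map_maximalIdeal, ?_, ?_⟩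
  · exact Module.Finite.of_restrictScalars_finite R _ _
  · letI := Ideal.Quotient.field (maximalIdeal R)
    letI := Ideal.Quotient.field (maximalIdeal S)
    haveI : Algebra.FormallyUnramified S (S ⧸ maximalIdeal S) := .quotient _
    haveI : Algebra.FormallyUnramified R (S ⧸ maximalIdeal S) := .comp R S _
    haveI : Algebra.FormallyUnramified (R ⧸ maximalIdeal R) (S ⧸ maximalIdeal S) :=
      .of_restrictScalars R _ _
    haveI : Module.Finite (R ⧸ maximalIdeal R) (S ⧸ maximalIdeal S) :=
      Module.Finite.of_restrictScalars_finite R _ _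
    exact Algebra.FormallyUnramified.isSeparable _ _

theorem unram_of_rhs
    (H : (maximalIdeal R).map (algebraMap R S) = maximalIdeal S)
    (hsep : Algebra.IsSeparable (R ⧸ maximalIdeal R) (S ⧸ maximalIdeal S)) :
    Algebra.FormallyUnramified R S := by
  haveI := isLocalHom_of_liesOver (R := R) (S := S)
  haveI : Algebra.IsSeparable (ResidueField R) (ResidueField S) := hsep
  exact Algebra.FormallyUnramified.of_map_maximalIdeal H

end Residue

end Groth.Agent.Helper3.GalLoc4
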