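import Mathlib
import Groth.Agent.Lib.Helper3.GalLoc4

/-!
Assembly for S18535 (helper3).
-/

set_option autoImplicit false
universe u

namespace Groth.Agent.Helper3.GalLoc5

open IsLocalRing

theorem main
    (R S G : Type u) [CommRing R] [CommRing S] [IsDomain R] [IsDomain S]
    [IsNoetherianRing R] [IsLocalRing R] [IsIntegrallyClosed R]
    [IsAdicComplete (IsLocalRing.maximalIdeal R) R]
    [Algebra R S] [FaithfulSMul R S] [IsIntegrallyClosed S]
    [Group G] [Finite G] [MulSemiringAction G S] [SMulCommClass G R S] [IsGaloisGroup G R S]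
    (n : Ideal S) [hn : n.IsMaximal] [n.LiesOver (IsLocalRing.maximalIdeal R)] :
    n.toAddSubgroup.inertia G = ⊥ ↔
      ((IsLocalRing.maximalIdeal R).map (algebraMap R S) = n ∧
        Module.Finite (R ⧸ IsLocalRing.maximalIdeal R) (S ⧸ n) ∧
        Algebra.IsSeparable (R ⧸ IsLocalRing.maximalIdeal R) (S ⧸ n)) := by
  haveI : Module.Finite R S := GalLoc1.finite_of_isGaloisGroup R S G
  haveI : IsLocalRing S := GalLoc3.isLocalRing_of_finite R S
  obtain rfl : n = maximalIdeal S := IsLocalRing.eq_maximalIdeal hn
  haveI : Algebra.IsInvariant R S G := IsGaloisGroup.isInvariant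
  haveI : FaithfulSMul G S := IsGaloisGroup.faithful R
  haveI := GalLoc4.isLocalHom_of_liesOver (R := R) (S := S)
  have hinj : Function.Injective (algebraMap R S) := FaithfulSMul.algebraMap_injective R S
  constructor
  · intro hin
    haveI := GalLoc4.unram_of_inertia (G := G) hinj hin
    exact GalLoc4.rhs_of_unram
  · rintro ⟨H, -, hsep⟩
    haveI := GalLoc4.unram_of_rhs H hsep
    haveI : IsNoetherianRing S := IsNoetherianRing.of_finite R S
    exact GalLoc4.inertia_of_unram (R := R)

end Groth.Agent.Helper3.GalLoc5
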