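import Mathlib
import Groth.Agent.Lib.Helper16.Sch.GenFinInt2
import Groth.Agent.Lib.Helper16.Sch.GenRFS2
import Groth.Agent.Lib.Helper16.Sch.FTDim7
import Groth.Agent.Lib.Helper15.FibDeg3
import Groth.Agent.Lib.Helper14.ResFieldBridge

/-!
# Generic finiteness and the generic degree of a dominant morphism of varieties (helper3)

* `isFractionRing_evaluation`: the residue field at the generic point of an integral scheme is the
  fraction field of the sections over a nonempty affine open (via the evaluation map).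
* `finrank_residueField_eq`: `[κ(ξ) : κ(f ξ)] = finrank Γ(Y,V) Γ(X, f⁻¹V)`.
* `fibre_finrank`: over an affine `V` with `f ∣_ V` finite flat and `Y` integral, every fibre over a
  point of `V` is finite of rank `finrank Γ(Y,V) Γ(X, f⁻¹V)`.
* `main`: S14041.
-/

set_option autoImplicit false
set_option linter.style.haveILetI false
set_option linter.unusedSectionVars false
universe u

open CategoryTheory CategoryTheory.Limits AlgebraicGeometry TopologicalSpace

noncomputable section

namespace Groth.Agent.Helper3.GenDeg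

open Groth.Agent.Helper14 Groth.Agent.Helper16.FTDim Groth.Agent.Helper16.GenFinInt
  Groth.Agent.Helper16.GenFinSch

variable {X Y : Scheme.{u}}

theorem restrict_of_le (P : MorphismProperty Scheme.{u}) [IsZariskiLocalAtTarget P] (f : X ⟶ Y)
    {V V' : Y.Opens} (h : V ≤ V') (hP : P (f ∣_ V')) : P (f ∣_ V) := by
  have e : V'.ι ''ᵁ (V'.ι ⁻¹ᵁ V) = V := by
    rw [Scheme.Hom.image_preimage_eq_opensRange_inf, Scheme.Opens.opensRange_ι]
    exact inf_eq_right.mpr h
  have h1 : P ((f ∣_ V') ∣_ (V'.ι ⁻¹ᵁ V)) := IsZariskiLocalAtTarget.restrict hP _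
  rw [MorphismProperty.arrow_mk_iso_iff P (morphismRestrictRestrict f V' (V'.ι ⁻¹ᵁ V)), e] at h1
  exact h1

theorem isFractionRing_evaluation {X : Scheme.{u}} [IsIntegral X] {U : X.Opens}
    (hU : IsAffineOpen U) (x : X) (hx : x ∈ U) (hxg : x = genericPoint X) :
    letI := (X.evaluation U x hx).hom.toAlgebra
    IsFractionRing Γ(X, U) (X.residueField x) := by
  letI := (X.evaluation U x hx).hom.toAlgebra
  haveI : Nonempty U := ⟨⟨x, hx⟩⟩
  haveI : IsDomain Γ(X, U) := inferInstance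
  have hker : RingHom.ker (X.evaluation U x hx).hom = ⊥ := by
    rw [ResFieldBridge.ker_evaluation hU x hx]
    have h1 : (⟨x, hx⟩ : U) = ⟨genericPoint X, hxg ▸ hx⟩ := Subtype.ext hxg
    rw [h1, hU.primeIdealOf_genericPoint, genericPoint_eq_bot_of_affine]
    rfl
  have hinj : Function.Injective (algebraMap Γ(X, U) (X.residueField x)) :=
    (RingHom.injective_iff_ker_eq_bot _).mpr hker
  rw [IsFractionRing, isLocalization_iff]
  refine ⟨?_, ?_, ?_⟩
  · rintro ⟨y, hy⟩
    have hy0 : y ≠ 0 := nonZeroDivisors.ne_zero hy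
    apply IsUnit.mk0
    intro h0
    exact hy0 (hinj (h0.trans (map_zero _).symm))
  · intro z
    obtain ⟨r, s, hs, hz⟩ := ResFieldBridge.fraction_evaluation hU x hx z
    have hs0 : s ≠ 0 := by
      rintro rfl
      exact hs (map_zero _)
    exact ⟨(r, ⟨s, mem_nonZeroDivisors_of_ne_zero hs0⟩), hz⟩
  · intro a b hab
    exact ⟨1, by rw [hinj hab]⟩

theorem finrank_residueField_eq (f : X ⟶ Y) [IsIntegral X] [IsIntegral Y] {V : Y.Opens}
    (hV : IsAffineOpen V) (hT : IsAffineOpen (f ⁻¹ᵁ V)) (hξ : genericPoint X ∈ f ⁻¹ᵁ V)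
    (hfξ : f (genericPoint X) = genericPoint Y) :
    (letI := (f.residueFieldMap (genericPoint X)).hom.toAlgebra
     Module.finrank (Y.residueField (f (genericPoint X))) (X.residueField (genericPoint X))) =
    (letI := (f.appLE V (f ⁻¹ᵁ V) le_rfl).hom.toAlgebra
     Module.finrank Γ(Y, V) Γ(X, f ⁻¹ᵁ V)) := by
  letI algAB : Algebra Γ(Y, V) Γ(X, f ⁻¹ᵁ V) := (f.appLE V (f ⁻¹ᵁ V) le_rfl).hom.toAlgebra
  letI algAK : Algebra Γ(Y, V) (Y.residueField (f (genericPoint X))) :=
    (Y.evaluation V (f (genericPoint X)) hξ).hom.toAlgebra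
  letI algBL : Algebra Γ(X, f ⁻¹ᵁ V) (X.residueField (genericPoint X)) :=
    (X.evaluation (f ⁻¹ᵁ V) (genericPoint X) hξ).hom.toAlgebra
  letI algKL : Algebra (Y.residueField (f (genericPoint X))) (X.residueField (genericPoint X)) :=
    (f.residueFieldMap (genericPoint X)).hom.toAlgebra
  letI algAL : Algebra Γ(Y, V) (X.residueField (genericPoint X)) :=
    ((X.evaluation (f ⁻¹ᵁ V) (genericPoint X) hξ).hom.comp
      (f.appLE V (f ⁻¹ᵁ V) le_rfl).hom).toAlgebra
  haveI : IsScalarTower Γ(Y, V) Γ(X, f ⁻¹ᵁ V) (X.residueField (genericPoint X)) :=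
    IsScalarTower.of_algebraMap_eq (fun a => rfl)
  haveI : IsScalarTower Γ(Y, V) (Y.residueField (f (genericPoint X)))
      (X.residueField (genericPoint X)) :=
    IsScalarTower.of_algebraMap_eq (fun a => by
      have h := ResFieldBridge.evaluation_appLE f (le_refl (f ⁻¹ᵁ V)) (genericPoint X) hξ
      exact (RingHom.congr_fun h a).symm)
  haveI : IsFractionRing Γ(Y, V) (Y.residueField (f (genericPoint X))) :=
    isFractionRing_evaluation hV (f (genericPoint X)) hξ hfξ
  haveI : IsFractionRing Γ(X, f ⁻¹ᵁ V) (X.residueField (genericPoint X)) :=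
    isFractionRing_evaluation hT (genericPoint X) hξ rfl
  exact IsFractionRing.finrank_eq Γ(Y, V) (Y.residueField (f (genericPoint X))) Γ(X, f ⁻¹ᵁ V)
    (X.residueField (genericPoint X))

theorem fibre_finrank (f : X ⟶ Y) [IsIntegral Y] {V : Y.Opens} (hV : IsAffineOpen V)
    (hF : IsFinite (f ∣_ V)) (hFl : Flat (f ∣_ V)) (y : Y) (hy : y ∈ V) :
    IsFinite (pullback.snd f (Y.fromSpecResidueField y)) ∧
      (letI := ((Scheme.ΓSpecIso (CommRingCat.of (Y.residueField y))).inv ≫
        (pullback.snd f (Y.fromSpecResidueField y)).appTop).hom.toAlgebra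
       Module.finrank (Y.residueField y) ↑(Γ(pullback f (Y.fromSpecResidueField y), ⊤))) =
      (letI := (f.appLE V (f ⁻¹ᵁ V) le_rfl).hom.toAlgebra
       Module.finrank Γ(Y, V) Γ(X, f ⁻¹ᵁ V)) := by
  haveI : IsAffine V.toScheme := hV
  have hT : IsAffineOpen (f ⁻¹ᵁ V) := by
    have h1 : IsAffine (f ⁻¹ᵁ V).toScheme := isAffine_of_isAffineHom (f ∣_ V)
    exact h1
  haveI : IsAffine (f ⁻¹ᵁ V).toScheme := hT
  haveI : Nonempty V := ⟨⟨y, hy⟩⟩
  haveI : IsDomain Γ(Y, V) := inferInstance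
  have hres : f.resLE V (f ⁻¹ᵁ V) le_rfl = f ∣_ V := Scheme.Hom.resLE_eq_morphismRestrict f
  have hfinφ : (f.appLE V (f ⁻¹ᵁ V) le_rfl).hom.Finite :=
    finite_appLE_of_isFinite_resLE f hT hV le_rfl (by rw [hres]; exact hF)
  have hflatφ : (f.appLE V (f ⁻¹ᵁ V) le_rfl).hom.Flat := by
    have h1 : Flat (f.resLE V (f ⁻¹ᵁ V) le_rfl) := by rw [hres]; exact hFl
    rw [HasRingHomProperty.iff_of_isAffine (P := @Flat)] at h1
    exact (RingHom.Flat.respectsIso.arrow_mk_iso_iff
      (arrowResLEAppIso f V (f ⁻¹ᵁ V) le_rfl)).mp h1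
  haveI hfinS : IsFinite (Spec.map (f.appLE V (f ⁻¹ᵁ V) le_rfl)) :=
    (IsFinite.SpecMap_iff _).2 hfinφ
  haveI hflatS : Flat (Spec.map (f.appLE V (f ⁻¹ᵁ V) le_rfl)) := Flat.SpecMap_iff.2 hflatφ
  -- the pullback square of the chart
  have hsq : IsPullback (Spec.map (f.appLE V (f ⁻¹ᵁ V) le_rfl)) hT.fromSpec hV.fromSpec f := by
    apply IsOpenImmersion.isPullback
    · exact (IsAffineOpen.SpecMap_appLE_fromSpec f hV hT le_rfl).symm
    · rw [hV.opensRange_fromSpec, hT.opensRange_fromSpec]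
  -- factor the point through the chart
  have hrange : Set.range (Y.fromSpecResidueField y) ⊆ Set.range hV.fromSpec := by
    rw [Scheme.range_fromSpecResidueField, hV.range_fromSpec]
    exact Set.singleton_subset_iff.mpr hy
  let gy' : Spec (CommRingCat.of (Y.residueField y)) ⟶ Spec Γ(Y, V) :=
    IsOpenImmersion.lift hV.fromSpec (Y.fromSpecResidueField y) hrange
  have hgy' : gy' ≫ hV.fromSpec = Y.fromSpecResidueField y := IsOpenImmersion.lift_fac _ _ _
  let fst' : pullback f (Y.fromSpecResidueField y) ⟶ Spec Γ(X, f ⁻¹ᵁ V) :=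
    hsq.flip.lift (pullback.fst f (Y.fromSpecResidueField y))
      (pullback.snd f (Y.fromSpecResidueField y) ≫ gy')
      (by rw [Category.assoc, hgy', pullback.condition])
  have hfst : fst' ≫ hT.fromSpec = pullback.fst f (Y.fromSpecResidueField y) :=
    hsq.flip.lift_fst _ _ _
  have hsnd : fst' ≫ Spec.map (f.appLE V (f ⁻¹ᵁ V) le_rfl) =
      pullback.snd f (Y.fromSpecResidueField y) ≫ gy' := hsq.flip.lift_snd _ _ _
  have hbig : IsPullback (fst' ≫ hT.fromSpec) (pullback.snd f (Y.fromSpecResidueField y)) f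
      (gy' ≫ hV.fromSpec) := by
    rw [hfst, hgy']
    exact IsPullback.of_hasPullback f (Y.fromSpecResidueField y)
  have hP : IsPullback fst' (pullback.snd f (Y.fromSpecResidueField y))
      (Spec.map (f.appLE V (f ⁻¹ᵁ V) le_rfl)) gy' := IsPullback.of_right hbig hsnd hsq.flip
  haveI hfin' : IsFinite (pullback.snd f (Y.fromSpecResidueField y)) :=
    MorphismProperty.of_isPullback hP hfinS
  haveI hflat' : Flat (pullback.snd f (Y.fromSpecResidueField y)) :=
    MorphismProperty.of_isPullback hP hflatS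
  refine ⟨hfin', ?_⟩
  let s : Spec (CommRingCat.of (Y.residueField y)) := IsLocalRing.closedPoint _
  have key := @Groth.Agent.Helper15.FibDeg.finrank_eq_finrank_gamma (Y.residueField y) _ _
    (pullback.snd f (Y.fromSpecResidueField y)) hfin' hflat' s
  rw [← key]
  rw [Scheme.Hom.finrank_of_isPullback fst' _ _ gy' hP s,
    Scheme.Hom.finrank_SpecMap_eq_finrank hfinφ hflatφ]
  letI algAB : Algebra Γ(Y, V) Γ(X, f ⁻¹ᵁ V) := (f.appLE V (f ⁻¹ᵁ V) le_rfl).hom.toAlgebra
  haveI : Module.Finite Γ(Y, V) Γ(X, f ⁻¹ᵁ V) := hfinφ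
  haveI : Module.Flat Γ(Y, V) Γ(X, f ⁻¹ᵁ V) := hflatφ
  show Module.rankAtStalk (R := Γ(Y, V)) Γ(X, f ⁻¹ᵁ V) (gy' s) = _
  rw [Module.rankAtStalk_eq, Ideal.finrank_fiber_eq_finrank]

theorem main (k : Type u) [Field k] {X Y : Scheme.{u}}
    [X.Over (Spec (CommRingCat.of k))] [Y.Over (Spec (CommRingCat.of k))]
    [LocallyOfFiniteType (X ↘ Spec (CommRingCat.of k))] [QuasiCompact (X ↘ Spec (CommRingCat.of k))]
    [LocallyOfFiniteType (Y ↘ Spec (CommRingCat.of k))] [QuasiCompact (Y ↘ Spec (CommRingCat.of k))]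
    [IsIntegral X] [IsIntegral Y] (f : X ⟶ Y) [IsDominant f]
    (hf : f ≫ (Y ↘ Spec (CommRingCat.of k)) = X ↘ Spec (CommRingCat.of k))
    (hdim : topologicalKrullDim ↥X = topologicalKrullDim ↥Y) :
    (letI := (f.residueFieldMap (genericPoint ↥X)).hom.toAlgebra;
      Module.Finite (Y.residueField (f.base (genericPoint ↥X))) (X.residueField (genericPoint ↥X))) ∧
    ∃ U : Y.Opens, Nonempty ↥U ∧ ∀ y : Y, y ∈ U →
      IsFinite (pullback.snd f (Y.fromSpecResidueField y)) ∧
        (letI := ((Scheme.ΓSpecIso (CommRingCat.of (Y.residueField y))).inv ≫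
            (pullback.snd f (Y.fromSpecResidueField y)).appTop).hom.toAlgebra;
          Module.finrank (Y.residueField y) ↑(Γ(pullback f (Y.fromSpecResidueField y), ⊤))) =
        (letI := (f.residueFieldMap (genericPoint ↥X)).hom.toAlgebra;
          Module.finrank (Y.residueField (f.base (genericPoint ↥X)))
            (X.residueField (genericPoint ↥X))) := by
  haveI : LocallyOfFiniteType (f ≫ (Y ↘ Spec (CommRingCat.of k))) := by rw [hf]; infer_instance
  haveI : LocallyOfFiniteType f := locallyOfFiniteType_of_comp f (Y ↘ Spec (CommRingCat.of k))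
  haveI : IsNoetherian X := isNoetherian_of_finiteType k (X ↘ Spec (CommRingCat.of k))
  haveI : QuasiCompact f := inferInstance
  have hfξ : f (genericPoint X) = genericPoint Y := map_genericPoint_of_isDominant f
  have h1 := dim_eq_td_genericPoint k (Y ↘ Spec (CommRingCat.of k))
  have h2 := dim_eq_td_genericPoint k (f ≫ (Y ↘ Spec (CommRingCat.of k)))
  have h3 := td_comp f (Y ↘ Spec (CommRingCat.of k)) (genericPoint X)
  rw [hfξ] at h3
  have htd : td f (genericPoint X) = 0 := by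
    rw [h1, h2, h3] at hdim
    have h4 : td (Y ↘ Spec (CommRingCat.of k)) (genericPoint Y) + td f (genericPoint X) =
        td (Y ↘ Spec (CommRingCat.of k)) (genericPoint Y) := by exact_mod_cast hdim
    omega
  have halg : @Algebra.IsAlgebraic (Y.residueField (f (genericPoint X)))
      (X.residueField (genericPoint X)) _ _ (f.residueFieldMap (genericPoint X)).hom.toAlgebra := by
    letI := (f.residueFieldMap (genericPoint X)).hom.toAlgebra
    rw [← trdeg_eq_zero_iff]
    have h5 := td_spec f (genericPoint X)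
    rw [htd] at h5
    simpa using h5
  have hC : ∀ x : X, f x = genericPoint Y → x = genericPoint X := by
    intro x hx
    exact eq_of_map_eq_of_isAlgebraic f (genericPoint X) (fun x => genericPoint_specializes x)
      halg x (hx.trans hfξ.symm)
  obtain ⟨V₀, hV₀, hV₀ne, hfinV₀⟩ := exists_finite_morphismRestrict_of_quasiCompact f hC
  obtain ⟨V₁, hV₁le, hV₁ne, hflV₁, -⟩ :=
    Groth.Agent.Helper16.GenRFS.exists_nonempty_flat_lfp f V₀
      (by obtain ⟨⟨y, hy⟩⟩ := hV₀ne; exact ⟨y, hy⟩)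
  have hηV₁ : genericPoint Y ∈ V₁ :=
    ((genericPoint_spec Y).mem_open_set_iff V₁.isOpen).mpr (by simpa using hV₁ne)
  obtain ⟨V, hV, hηV, hVle'⟩ : ∃ V : Y.Opens, IsAffineOpen V ∧ genericPoint Y ∈ V ∧ V ≤ V₁ := by
    obtain ⟨_, ⟨V, hV, rfl⟩, hηV, hVle⟩ :=
      Y.isBasis_affineOpens.exists_subset_of_mem_open hηV₁ V₁.isOpen
    exact ⟨V, hV, hηV, hVle⟩
  have hfinV : IsFinite (f ∣_ V) := restrict_of_le @IsFinite f (hVle'.trans hV₁le) hfinV₀
  have hflV : Flat (f ∣_ V) := restrict_of_le @Flat f hVle' hflV₁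
  haveI : IsAffine V.toScheme := hV
  have hT : IsAffineOpen (f ⁻¹ᵁ V) := by
    have h1 : IsAffine (f ⁻¹ᵁ V).toScheme := isAffine_of_isAffineHom (f ∣_ V)
    exact h1
  have hξT : genericPoint X ∈ f ⁻¹ᵁ V := by
    show f (genericPoint X) ∈ V
    rw [hfξ]
    exact hηV
  have hres : f.resLE V (f ⁻¹ᵁ V) le_rfl = f ∣_ V := Scheme.Hom.resLE_eq_morphismRestrict f
  have hfinφ : (f.appLE V (f ⁻¹ᵁ V) le_rfl).hom.Finite :=
    finite_appLE_of_isFinite_resLE f hT hV le_rfl (by rw [hres]; exact hfinV)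
  refine ⟨?_, V, ⟨⟨genericPoint Y, hηV⟩⟩, fun y hy => ?_⟩
  · exact finite_residueField_of_finite_appLE f hT hV le_rfl hfinφ (genericPoint X) hξT
  · obtain ⟨h6, h7⟩ := fibre_finrank f hV hfinV hflV y hy
    exact ⟨h6, h7.trans (finrank_residueField_eq f hV hT hξT hfξ).symm⟩

end Groth.Agent.Helper3.GenDeg
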