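import Mathlib
import Groth.Prelude.Def_MoreMor
import Groth.Agent.Lib.Helper18.FormSm
import Groth.Agent.S18056

/-!
# Lengths of generic local rings under flat formally smooth morphisms (helper3)
-/

set_option autoImplicit false

universe u

open CategoryTheory AlgebraicGeometry IsLocalRing

namespace Groth.Agent.Helper3.GenLen

/-- the stalk at a point without proper generizations has a unique prime. -/
theorem isMaximal_of_isPrime_stalk {X : Scheme.{u}} (y : X) (hy : ∀ z : X, z ⤳ y → z = y)
    (Q : Ideal (X.presheaf.stalk y)) (hQ : Q.IsPrime) : Q.IsMaximal := by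
  let q : Spec (X.presheaf.stalk y) := ⟨Q, hQ⟩
  have h1 : X.fromSpecStalk y q ∈ Set.range (X.fromSpecStalk y) := ⟨q, rfl⟩
  rw [Scheme.range_fromSpecStalk] at h1
  have h2 : X.fromSpecStalk y q = y := hy _ h1
  have h3 : X.fromSpecStalk y q = X.fromSpecStalk y (IsLocalRing.closedPoint _) := by
    rw [h2, Scheme.fromSpecStalk_closedPoint]
  have h4 : q = IsLocalRing.closedPoint (X.presheaf.stalk y) :=
    (X.fromSpecStalk y).isEmbedding.injective h3
  have h5 : Q = maximalIdeal (X.presheaf.stalk y) := congrArg PrimeSpectrum.asIdeal h4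
  rw [h5]
  infer_instance

theorem isArtinianRing_stalk {X : Scheme.{u}} [IsLocallyNoetherian X] (y : X)
    (hy : ∀ z : X, z ⤳ y → z = y) : IsArtinianRing (X.presheaf.stalk y) := by
  rw [isArtinianRing_iff_krullDimLE_zero, Ring.krullDimLE_zero_iff]
  exact isMaximal_of_isPrime_stalk y hy

theorem eq_of_specializes_genericPoint {X : Scheme.{u}} [IrreducibleSpace X] (z : X)
    (h : z ⤳ genericPoint X) : z = genericPoint X :=
  (h.antisymm (genericPoint_specializes z)).eq

/-- the image of a field subring under a ring hom to a nontrivial ring is a field subring. -/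
theorem isField_map {R A : Type*} [CommRing R] [CommRing A] [Nontrivial A] (φ : R →+* A)
    (K : Subring R) (hK : IsField K) : IsField (K.map φ) := by
  refine ⟨⟨0, 1, ?_⟩, fun a b => mul_comm a b, ?_⟩
  · intro h
    have := congrArg Subtype.val h
    exact zero_ne_one this
  · rintro ⟨a, ha⟩ ha0
    obtain ⟨k, hk, rfl⟩ := ha
    have hk0 : (⟨k, hk⟩ : K) ≠ 0 := by
      intro h
      apply ha0
      have : k = 0 := congrArg Subtype.val h
      subst this
      ext
      simp
    obtain ⟨⟨k', hk'⟩, hkk'⟩ := hK.mul_inv_cancel hk0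
    refine ⟨⟨φ k', ⟨k', hk', rfl⟩⟩, ?_⟩
    ext
    have : k * k' = 1 := congrArg Subtype.val hkk'
    change φ k * φ k' = 1
    rw [← map_mul, this, map_one]

theorem main {X' X : Scheme.{u}} (f : X' ⟶ X)
    [IrreducibleSpace ↥X'] [IrreducibleSpace ↥X] [IsNoetherian X'] [IsNoetherian X] [Flat f]
    (hf : MoreMor.IsFormallySmoothHom f) (hK : ∃ K : Subring Γ(X, ⊤), IsField K) :
    Module.length (X'.presheaf.stalk (genericPoint X')) (X'.presheaf.stalk (genericPoint X'))
      = Module.length (X.presheaf.stalk (genericPoint X)) (X.presheaf.stalk (genericPoint X)) := by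
  -- the generic point maps to the generic point
  have hfη : f (genericPoint X') = genericPoint X := by
    obtain ⟨x', hx', hfx'⟩ := (Flat.generalizingMap f) (a := genericPoint X') (b := genericPoint X)
      (genericPoint_specializes _)
    rw [← hfx', eq_of_specializes_genericPoint x' hx']
  rw [← hfη]
  set x' : X' := genericPoint X' with hx'def
  have hx'max : ∀ z : X', z ⤳ x' → z = x' := fun z hz => eq_of_specializes_genericPoint z hz
  have hymax : ∀ z : X, z ⤳ f x' → z = f x' := by
    intro z hz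
    rw [hfη] at hz ⊢
    exact eq_of_specializes_genericPoint z hz
  -- affine charts
  obtain ⟨_, ⟨V, hV, rfl⟩, hyV, -⟩ :=
    X.isBasis_affineOpens.exists_subset_of_mem_open (Set.mem_univ (f x')) isOpen_univ
  obtain ⟨_, ⟨U, hU, rfl⟩, hxU, hUV⟩ :=
    X'.isBasis_affineOpens.exists_subset_of_mem_open (show x' ∈ (f ⁻¹ᵁ V : Set X') from hyV)
      (f ⁻¹ᵁ V).isOpen
  have hUV' : U ≤ f ⁻¹ᵁ V := hUV
  letI algRR' : Algebra Γ(X, V) Γ(X', U) := (f.appLE V U hUV').hom.toAlgebra
  haveI hsm : Algebra.FormallySmooth Γ(X, V) Γ(X', U) :=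
    Groth.Agent.Helper18.FormSm.formallySmooth_appLE_of_hom f hf hU hV hUV'
  letI algRA : Algebra Γ(X, V) (X.presheaf.stalk (f x')) :=
    TopCat.Presheaf.algebra_section_stalk X.presheaf (U := V) ⟨f x', hyV⟩
  letI algR'B : Algebra Γ(X', U) (X'.presheaf.stalk x') :=
    TopCat.Presheaf.algebra_section_stalk X'.presheaf (U := U) ⟨x', hxU⟩
  letI algAB : Algebra (X.presheaf.stalk (f x')) (X'.presheaf.stalk x') :=
    (f.stalkMap x').hom.toAlgebra
  letI algRB : Algebra Γ(X, V) (X'.presheaf.stalk x') :=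
    ((algebraMap (X.presheaf.stalk (f x')) (X'.presheaf.stalk x')).comp
      (algebraMap Γ(X, V) (X.presheaf.stalk (f x')))).toAlgebra
  haveI tw1 : IsScalarTower Γ(X, V) (X.presheaf.stalk (f x')) (X'.presheaf.stalk x') :=
    IsScalarTower.of_algebraMap_eq' rfl
  haveI tw2 : IsScalarTower Γ(X, V) Γ(X', U) (X'.presheaf.stalk x') := by
    refine IsScalarTower.of_algebraMap_eq (fun r => ?_)
    change f.stalkMap x' (X.presheaf.germ V (f x') hyV r) =
      X'.presheaf.germ U x' hxU (f.appLE V U hUV' r)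
    rw [Scheme.Hom.germ_stalkMap_apply, Scheme.Hom.appLE]
    simp only [CommRingCat.comp_apply]
    exact (TopCat.Presheaf.germ_res_apply X'.presheaf (homOfLE hUV') x' hxU _).symm
  haveI locA : IsLocalization.AtPrime (X.presheaf.stalk (f x'))
      (hV.primeIdealOf ⟨f x', hyV⟩).asIdeal := hV.isLocalization_stalk ⟨f x', hyV⟩
  haveI locB : IsLocalization.AtPrime (X'.presheaf.stalk x')
      (hU.primeIdealOf ⟨x', hxU⟩).asIdeal := hU.isLocalization_stalk ⟨x', hxU⟩
  haveI sm1 : Algebra.FormallySmooth Γ(X', U) (X'.presheaf.stalk x') :=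
    Algebra.FormallySmooth.of_isLocalization (hU.primeIdealOf ⟨x', hxU⟩).asIdeal.primeCompl
  haveI sm2 : Algebra.FormallySmooth Γ(X, V) (X'.presheaf.stalk x') :=
    Algebra.FormallySmooth.comp Γ(X, V) Γ(X', U) (X'.presheaf.stalk x')
  haveI sm3 : Algebra.FormallySmooth (X.presheaf.stalk (f x')) (X'.presheaf.stalk x') :=
    Algebra.FormallySmooth.localization_base (hV.primeIdealOf ⟨f x', hyV⟩).asIdeal.primeCompl
  haveI flatAB : Module.Flat (X.presheaf.stalk (f x')) (X'.presheaf.stalk x') :=
    Flat.stalkMap f x'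
  haveI : IsLocallyNoetherian X' := inferInstance
  haveI : IsLocallyNoetherian X := inferInstance
  haveI artA : IsArtinianRing (X.presheaf.stalk (f x')) := isArtinianRing_stalk (f x') hymax
  haveI artB : IsArtinianRing (X'.presheaf.stalk x') := isArtinianRing_stalk x' hx'max
  obtain ⟨K, hKf⟩ := hK
  have hK' : ∃ K' : Subring (X.presheaf.stalk (f x')), IsField K' :=
    ⟨K.map (X.presheaf.germ ⊤ (f x') trivial).hom, isField_map _ K hKf⟩
  exact (Groth.Agent.S18056.result (X.presheaf.stalk (f x')) (X'.presheaf.stalk x') hK').symm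

end Groth.Agent.Helper3.GenLen
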