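import Mathlib
import Groth.Prelude.Def_CohB1
import Groth.Agent.Lib.Helper3.CohLen
import Groth.Agent.Lib.Helper13.DimLemma
import Groth.Agent.Lib.Helper28.SuppProper

/-!
# (D) GENPT' for project SP

A coherent module whose support has dimension `d` has a stalk of nonzero finite length at a point
whose closure has dimension `d` (the generic point of a top-dimensional irreducible closed subset
of the support).
-/

set_option autoImplicit false

universe u

open CategoryTheory CategoryTheory.Limits AlgebraicGeometry Polynomial TopologicalSpace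

namespace Groth.Agent.Lib.Helper3.GenPtDim

/-- A chain of irreducible closed subsets of length `n` restricts to a chain of length `n` in its
last member. -/
theorem length_le_dim_last {Y : Type*} [TopologicalSpace Y] (p : LTSeries (IrreducibleCloseds Y)) :
    ((p.length : ℕ) : WithBot ℕ∞) ≤
      topologicalKrullDim ↥((p.last : IrreducibleCloseds Y) : Set Y) := by
  classical
  set W : Set Y := ((p.last : IrreducibleCloseds Y) : Set Y) with hW
  have hsub : ∀ i, ((p i : IrreducibleCloseds Y) : Set Y) ⊆ W := by
    intro i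
    have h1 : p i ≤ p.last := p.monotone (Fin.le_last i)
    exact SetLike.coe_subset_coe.mpr h1
  let B : Fin (p.length + 1) → IrreducibleCloseds ↥W := fun i =>
    { carrier := Subtype.val ⁻¹' ((p i : IrreducibleCloseds Y) : Set Y)
      isIrreducible' := by
        constructor
        · obtain ⟨y, hy⟩ := (p i).isIrreducible.nonempty
          exact ⟨⟨y, hsub i hy⟩, hy⟩
        · intro U V hU hV hUne hVne
          obtain ⟨a, ha, haU⟩ := hUne
          obtain ⟨b, hb, hbV⟩ := hVne
          obtain ⟨U', hU', rfl⟩ := isOpen_induced_iff.mp hU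
          obtain ⟨V', hV', rfl⟩ := isOpen_induced_iff.mp hV
          obtain ⟨y, hy, hyU, hyV⟩ := (p i).isIrreducible.isPreirreducible U' V' hU' hV'
            ⟨a.1, ha, haU⟩ ⟨b.1, hb, hbV⟩
          exact ⟨⟨y, hsub i hy⟩, hy, hyU, hyV⟩
      isClosed' := (p i).isClosed.preimage continuous_subtype_val }
  have hBmem : ∀ i (w : ↥W), w ∈ B i ↔ w.1 ∈ p i := fun i w => Iff.rfl
  have hB : StrictMono B := by
    intro i j hij
    have hlt : p i < p j := p.strictMono hij
    refine lt_of_le_of_ne ?_ ?_
    · intro w hw
      rw [hBmem] at hw ⊢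
      exact hlt.le hw
    · intro heq
      apply hlt.ne
      apply le_antisymm hlt.le
      intro y hy
      have h2 : (⟨y, hsub j hy⟩ : ↥W) ∈ B j := (hBmem j _).mpr hy
      rw [← heq] at h2
      exact (hBmem i _).mp h2
  let q : LTSeries (IrreducibleCloseds ↥W) := LTSeries.mk p.length B hB
  exact Order.LTSeries.length_le_krullDim q

theorem exists_point_length_ne_zero_of_dim {X : Scheme.{u}} [IsNoetherian X] (G : X.Modules)
    (hG : Coh.IsCoh G) (d : ℕ)
    (hd : topologicalKrullDim ↥(CohB1.support G) = (d : WithBot ℕ∞)) :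
    ∃ ξ : X, topologicalKrullDim ↥(closure ({ξ} : Set X)) = (d : WithBot ℕ∞) ∧
      (Module.length (X.presheaf.stalk ξ) (G.presheaf.stalk ξ)).toNat ≠ 0 := by
  classical
  obtain ⟨hqc, hft⟩ := hG
  haveI : G.IsQuasicoherent := hqc
  haveI : SheafOfModules.IsFiniteType (R := X.ringCatSheaf) G := hft
  set S : Set X := CohB1.support G with hS
  have hcl : IsClosed S := Groth.Agent.Helper28.SuppProper.isClosed_support G
  have hle : ((d : ℕ) : WithBot ℕ∞) ≤ Order.krullDim (IrreducibleCloseds ↥S) := le_of_eq hd.symm
  obtain ⟨p0, hp0⟩ := Order.le_krullDim_iff.mp hle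
  have hind : Topology.IsInducing (Subtype.val : ↥S → X) := Topology.IsInducing.subtypeVal
  let p : LTSeries (IrreducibleCloseds X) :=
    p0.map (IrreducibleCloseds.map Subtype.val hind.continuous)
      (IrreducibleCloseds.map_strictMono_of_isInducing hind)
  have hplen : p.length = d := hp0
  have hpS : ((p.last : IrreducibleCloseds X) : Set X) ⊆ S := by
    have hlast : p.last = IrreducibleCloseds.map Subtype.val hind.continuous p0.last :=
      LTSeries.last_map _ _ _
    rw [hlast, IrreducibleCloseds.coe_map]
    apply closure_minimal _ hcl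
    rintro _ ⟨a, -, rfl⟩
    exact a.2
  obtain ⟨ξ, hξ⟩ := QuasiSober.sober (p.last).isIrreducible (p.last).isClosed
  have hξcl : closure ({ξ} : Set X) = ((p.last : IrreducibleCloseds X) : Set X) := hξ.def
  have hξS : ξ ∈ S := hpS (hξcl.subset (subset_closure (Set.mem_singleton ξ)))
  have hdimξ : topologicalKrullDim ↥(closure ({ξ} : Set X)) = (d : WithBot ℕ∞) := by
    apply le_antisymm
    · rw [← hd]
      exact Groth.Agent.Helper13.DimLemma.dim_subset_le (hξcl.subset.trans hpS)
    · rw [hξcl, ← hplen]
      exact length_le_dim_last p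
  refine ⟨ξ, hdimξ, ?_⟩
  have hgen : ∀ x : X, Nontrivial (G.presheaf.stalk x) → x ⤳ ξ → x = ξ := by
    intro x hx hxξ
    have hxS : x ∈ S := not_subsingleton_iff_nontrivial.mpr hx
    by_contra hne
    have hne' : closure ({ξ} : Set X) ≠ closure {x} := by
      intro h
      exact hne ((inseparable_iff_closure_eq.mpr h).eq).symm
    have h1 := Groth.Agent.Helper13.DimLemma.dim_closure_add_one_le hxξ hne'
    have h2 : topologicalKrullDim ↥(closure ({x} : Set X)) ≤ (d : WithBot ℕ∞) := by
      rw [← hd]
      exact Groth.Agent.Helper13.DimLemma.dim_subset_le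
        (closure_minimal (Set.singleton_subset_iff.mpr hxS) hcl)
    rw [hdimξ] at h1
    have h3 := Groth.Agent.Helper13.DimLemma.lt_of_add_one_le_coe (h1.trans h2)
    exact lt_irrefl _ h3
  have hfin := Groth.Agent.Helper3.CohLen.length_stalk_lt_top G ξ hgen
  have hne0 : Module.length (X.presheaf.stalk ξ) (G.presheaf.stalk ξ) ≠ 0 := by
    intro h0
    rw [Module.length_eq_zero_iff] at h0
    exact hξS h0
  intro htn
  rcases (ENat.toNat_eq_zero.mp htn) with h | h
  · exact hne0 h
  · exact (ne_of_lt hfin) h

end Groth.Agent.Lib.Helper3.GenPtDim
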