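import Groth.Prelude.Def_Grpd
import Mathlib.AlgebraicGeometry.ResidueField
import Mathlib.AlgebraicGeometry.Morphisms.Finite
import Mathlib.AlgebraicGeometry.AffineScheme

/-!
# Translation automorphisms of a groupoid scheme over a field
-/

universe u

open CategoryTheory CategoryTheory.Limits AlgebraicGeometry Grpd

namespace Groth.Agent.Helper3.GrpdAut

variable {S : Scheme.{u}} (G : GroupoidScheme S)

/-- composition of `T`-points of `R`. -/
noncomputable def comp {T : Scheme.{u}} (α β : T ⟶ G.R) (h : α ≫ G.s = β ≫ G.t) : T ⟶ G.R :=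
  pullback.lift α β h ≫ G.c

lemma comp_congr {T : Scheme.{u}} {α α' β β' : T ⟶ G.R} (hα : α = α') (hβ : β = β')
    (h : α ≫ G.s = β ≫ G.t) (h' : α' ≫ G.s = β' ≫ G.t) : comp G α β h = comp G α' β' h' := by
  subst hα hβ; rfl

lemma precomp {T T' : Scheme.{u}} (f : T' ⟶ T) (α β : T ⟶ G.R) (h : α ≫ G.s = β ≫ G.t)
    (h' : (f ≫ α) ≫ G.s = (f ≫ β) ≫ G.t) :
    f ≫ comp G α β h = comp G (f ≫ α) (f ≫ β) h' := by
  unfold comp
  rw [← Category.assoc]
  congr 1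
  apply pullback.hom_ext
  · rw [Category.assoc, pullback.lift_fst, pullback.lift_fst]
  · rw [Category.assoc, pullback.lift_snd, pullback.lift_snd]

lemma comp_s {T : Scheme.{u}} (α β : T ⟶ G.R) (h : α ≫ G.s = β ≫ G.t) :
    comp G α β h ≫ G.s = β ≫ G.s := G.comp_s α β h

lemma comp_t {T : Scheme.{u}} (α β : T ⟶ G.R) (h : α ≫ G.s = β ≫ G.t) :
    comp G α β h ≫ G.t = α ≫ G.t := G.comp_t α β h

lemma assoc {T : Scheme.{u}} (α β γ : T ⟶ G.R) (h₁ : α ≫ G.s = β ≫ G.t) (h₂ : β ≫ G.s = γ ≫ G.t)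
    (h₃ : comp G α β h₁ ≫ G.s = γ ≫ G.t) (h₄ : α ≫ G.s = comp G β γ h₂ ≫ G.t) :
    comp G (comp G α β h₁) γ h₃ = comp G α (comp G β γ h₂) h₄ := G.assoc α β γ h₁ h₂

lemma e_comp {T : Scheme.{u}} (α : T ⟶ G.R) (h : (α ≫ G.t ≫ G.e) ≫ G.s = α ≫ G.t) :
    comp G (α ≫ G.t ≫ G.e) α h = α := G.e_comp α

lemma comp_e {T : Scheme.{u}} (α : T ⟶ G.R) (h : α ≫ G.s = (α ≫ G.s ≫ G.e) ≫ G.t) :
    comp G α (α ≫ G.s ≫ G.e) h = α := G.comp_e α

lemma comp_i {T : Scheme.{u}} (α : T ⟶ G.R) (h : α ≫ G.s = (α ≫ G.i) ≫ G.t) :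
    comp G α (α ≫ G.i) h = α ≫ G.t ≫ G.e := G.comp_i α

lemma i_comp {T : Scheme.{u}} (α : T ⟶ G.R) (h : (α ≫ G.i) ≫ G.s = α ≫ G.t) :
    comp G (α ≫ G.i) α h = α ≫ G.s ≫ G.e := G.i_comp α

/-- Left translation by a section `ρ : U ⟶ R` of `s` whose target map is `τ` is an automorphism. -/
theorem exists_iso_of_section (ρ : G.U ⟶ G.R) (hρ : ρ ≫ G.s = 𝟙 G.U) (τinv : G.U ⟶ G.U)
    (hτ : τinv ≫ ρ ≫ G.t = 𝟙 G.U) (hτ' : (ρ ≫ G.t) ≫ τinv = 𝟙 G.U) :
    ∃ φ : G.R ≅ G.R, G.e ≫ φ.hom = ρ := by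
  have h1 : (G.t ≫ ρ) ≫ G.s = 𝟙 G.R ≫ G.t := by
    rw [Category.assoc, hρ, Category.comp_id, Category.id_comp]
  have h2 : (G.t ≫ τinv ≫ ρ ≫ G.i) ≫ G.s = 𝟙 G.R ≫ G.t := by
    rw [Category.assoc, Category.assoc, Category.assoc, G.i_s, hτ, Category.comp_id,
      Category.id_comp]
  set φ : G.R ⟶ G.R := comp G (G.t ≫ ρ) (𝟙 G.R) h1 with hφ
  set ψ : G.R ⟶ G.R := comp G (G.t ≫ τinv ≫ ρ ≫ G.i) (𝟙 G.R) h2 with hψ
  have hφt : φ ≫ G.t = G.t ≫ ρ ≫ G.t := by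
    rw [hφ, comp_t, Category.assoc]
  have hψt : ψ ≫ G.t = G.t ≫ τinv := by
    rw [hψ, comp_t]
    simp only [Category.assoc]
    rw [G.i_t, hρ, Category.comp_id]
  -- general cancellation lemmas
  have hte : ∀ (h4 : (G.t ≫ G.e) ≫ G.s = 𝟙 G.R ≫ G.t), comp G (G.t ≫ G.e) (𝟙 G.R) h4 = 𝟙 G.R := by
    intro h4
    have h4' : (𝟙 G.R ≫ G.t ≫ G.e) ≫ G.s = 𝟙 G.R ≫ G.t := by
      rw [Category.id_comp]; exact h4
    rw [comp_congr G (α' := 𝟙 G.R ≫ G.t ≫ G.e) (β' := 𝟙 G.R) (Category.id_comp _).symm rfl h4 h4']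
    exact e_comp G (𝟙 G.R) h4'
  have hte0 : (G.t ≫ G.e) ≫ G.s = 𝟙 G.R ≫ G.t := by
    rw [Category.assoc, G.e_s, Category.comp_id, Category.id_comp]
  have key : ∀ (β : G.R ⟶ G.R) (h : β ≫ G.s = 𝟙 G.R ≫ G.t)
      (h' : (β ≫ G.i) ≫ G.s = comp G β (𝟙 G.R) h ≫ G.t),
      comp G (β ≫ G.i) (comp G β (𝟙 G.R) h) h' = 𝟙 G.R := by
    intro β h h'
    have hi : (β ≫ G.i) ≫ G.s = β ≫ G.t := by rw [Category.assoc, G.i_s]
    have h3 : comp G (β ≫ G.i) β hi ≫ G.s = 𝟙 G.R ≫ G.t := by rw [comp_s, h]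
    rw [← assoc G (β ≫ G.i) β (𝟙 G.R) hi h h3 h']
    rw [comp_congr G (α' := G.t ≫ G.e) (β' := 𝟙 G.R) ?_ rfl h3 hte0]
    · exact hte hte0
    · rw [i_comp G β hi, ← Category.assoc, h, Category.id_comp]
  have key2 : ∀ (β : G.R ⟶ G.R) (h : (β ≫ G.i) ≫ G.s = 𝟙 G.R ≫ G.t)
      (h' : β ≫ G.s = comp G (β ≫ G.i) (𝟙 G.R) h ≫ G.t),
      comp G β (comp G (β ≫ G.i) (𝟙 G.R) h) h' = 𝟙 G.R := by
    intro β h h'
    have hi : β ≫ G.s = (β ≫ G.i) ≫ G.t := by rw [Category.assoc, G.i_t]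
    have h3 : comp G β (β ≫ G.i) hi ≫ G.s = 𝟙 G.R ≫ G.t := by rw [comp_s, h]
    rw [← assoc G β (β ≫ G.i) (𝟙 G.R) hi h h3 h']
    rw [comp_congr G (α' := G.t ≫ G.e) (β' := 𝟙 G.R) ?_ rfl h3 hte0]
    · exact hte hte0
    · have : β ≫ G.t = G.t := by
        have := h
        rw [Category.assoc, G.i_s, Category.id_comp] at this
        exact this
      rw [comp_i G β hi, ← Category.assoc, this]
  refine ⟨⟨φ, ψ, ?_, ?_⟩, ?_⟩
  · -- φ ≫ ψ = 𝟙
    have h5 : (φ ≫ G.t ≫ τinv ≫ ρ ≫ G.i) ≫ G.s = (φ ≫ 𝟙 G.R) ≫ G.t := by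
      simp only [Category.assoc]
      rw [G.i_s, hτ, Category.comp_id, Category.id_comp]
    rw [hψ, precomp G φ _ _ h2 h5]
    have h6 : ((G.t ≫ ρ) ≫ G.i) ≫ G.s = φ ≫ G.t := by
      rw [hφt]; simp only [Category.assoc]; rw [G.i_s]
    rw [comp_congr G (α' := (G.t ≫ ρ) ≫ G.i) (β' := φ) ?_ (Category.comp_id φ) h5 h6]
    · exact key (G.t ≫ ρ) h1 h6
    · rw [← Category.assoc φ, hφt]
      simp only [Category.assoc]
      rw [← Category.assoc ρ G.t, ← Category.assoc (ρ ≫ G.t), hτ', Category.id_comp]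
  · -- ψ ≫ φ = 𝟙
    have h5 : (ψ ≫ G.t ≫ ρ) ≫ G.s = (ψ ≫ 𝟙 G.R) ≫ G.t := by
      simp only [Category.assoc]
      rw [hρ, Category.comp_id, Category.id_comp]
    rw [hφ, precomp G ψ _ _ h1 h5]
    have h7 : ((G.t ≫ τinv ≫ ρ) ≫ G.i) ≫ G.s = 𝟙 G.R ≫ G.t := by
      simp only [Category.assoc]; rw [G.i_s, hτ, Category.comp_id, Category.id_comp]
    have h8 : ψ = comp G ((G.t ≫ τinv ≫ ρ) ≫ G.i) (𝟙 G.R) h7 := by
      rw [hψ]; exact comp_congr G (by simp only [Category.assoc]) rfl _ _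
    have h6 : (G.t ≫ τinv ≫ ρ) ≫ G.s = comp G ((G.t ≫ τinv ≫ ρ) ≫ G.i) (𝟙 G.R) h7 ≫ G.t := by
      rw [← h8, hψt]; simp only [Category.assoc]; rw [hρ, Category.comp_id]
    rw [comp_congr G (α' := G.t ≫ τinv ≫ ρ)
      (β' := comp G ((G.t ≫ τinv ≫ ρ) ≫ G.i) (𝟙 G.R) h7) ?_ ?_ h5 h6]
    · exact key2 (G.t ≫ τinv ≫ ρ) h7 h6
    · rw [← Category.assoc ψ, hψt]; simp only [Category.assoc]
    · rw [Category.comp_id]; exact h8
  · -- e ≫ φ = ρ
    have h5 : (G.e ≫ G.t ≫ ρ) ≫ G.s = (G.e ≫ 𝟙 G.R) ≫ G.t := by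
      simp only [Category.assoc]
      rw [hρ, Category.comp_id, Category.id_comp]
    show G.e ≫ φ = ρ
    rw [hφ, precomp G G.e _ _ h1 h5]
    have h6 : ρ ≫ G.s = (ρ ≫ G.s ≫ G.e) ≫ G.t := by
      simp only [Category.assoc]; rw [G.e_t, Category.comp_id]
    rw [comp_congr G (α' := ρ) (β' := ρ ≫ G.s ≫ G.e) ?_ ?_ h5 h6]
    · exact comp_e G ρ h6
    · rw [← Category.assoc, G.e_t, Category.id_comp]
    · rw [Category.comp_id, ← Category.assoc, hρ, Category.id_comp]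

end Groth.Agent.Helper3.GrpdAut

namespace Groth.Agent.Helper3.GrpdAut

variable {S : Scheme.{u}} (G : GroupoidScheme S)

/-- For a field `k`, the canonical morphism from the spectrum of a residue field of `Spec k`
is an isomorphism. -/
theorem isIso_fromSpecResidueField_Spec (k : Type u) [Field k] (x : Spec (CommRingCat.of k)) :
    IsIso ((Spec (CommRingCat.of k)).fromSpecResidueField x) := by
  rw [← Scheme.Spec.map_residueFieldIso_inv_eq_fromSpecResidueField]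
  have hmax : x.asIdeal.IsMaximal := by
    have : x.asIdeal = ⊥ := Ideal.eq_bot_of_prime x.asIdeal
    rw [this]; exact Ideal.bot_isMaximal
  have hbij : Function.Bijective (algebraMap k x.asIdeal.ResidueField) :=
    ⟨(algebraMap k x.asIdeal.ResidueField).injective, x.asIdeal.algebraMap_residueField_surjective⟩
  have : IsIso (CommRingCat.ofHom (algebraMap (CommRingCat.of k) x.asIdeal.ResidueField)) :=
    (ConcreteCategory.isIso_iff_bijective _).mpr hbij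
  infer_instance

theorem isIso_fromSpecResidueField_of_iso {U : Scheme.{u}} (k : Type u) [Field k]
    (eU : U ≅ Spec (CommRingCat.of k)) (x : U) : IsIso (U.fromSpecResidueField x) := by
  have h := Scheme.Hom.SpecMap_residueFieldMap_fromSpecResidueField eU.hom x
  have h1 : IsIso ((Spec (CommRingCat.of k)).fromSpecResidueField (eU.hom x)) :=
    isIso_fromSpecResidueField_Spec k _
  have h2 : IsIso (U.fromSpecResidueField x ≫ eU.hom) := by
    rw [← h]; infer_instance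
  exact IsIso.of_isIso_comp_right _ eU.hom

theorem main (k : Type u) [Field k] (eU : G.U ≅ Spec (CommRingCat.of k)) (r : G.R)
    (hs : IsIso (G.s.residueFieldMap r)) (ht : IsIso (G.t.residueFieldMap r)) :
    ∃ φ : G.R ≅ G.R, φ.hom (G.e (eU.inv (IsLocalRing.closedPoint k))) = r := by
  have ha : IsIso (G.R.fromSpecResidueField r ≫ G.s) := by
    rw [← Scheme.Hom.SpecMap_residueFieldMap_fromSpecResidueField]
    have := isIso_fromSpecResidueField_of_iso k eU (G.s r)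
    infer_instance
  have hb : IsIso (G.R.fromSpecResidueField r ≫ G.t) := by
    rw [← Scheme.Hom.SpecMap_residueFieldMap_fromSpecResidueField]
    have := isIso_fromSpecResidueField_of_iso k eU (G.t r)
    infer_instance
  set a := G.R.fromSpecResidueField r ≫ G.s with ha'
  set b := G.R.fromSpecResidueField r ≫ G.t with hb'
  obtain ⟨φ, hφ⟩ := exists_iso_of_section G (inv a ≫ G.R.fromSpecResidueField r)
    (by rw [Category.assoc, ← ha', IsIso.inv_hom_id]) (inv b ≫ a)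
    (by
      have : G.R.fromSpecResidueField r ≫ G.t = b := rfl
      simp only [Category.assoc]
      rw [← Category.assoc a, IsIso.hom_inv_id, Category.id_comp, this, IsIso.inv_hom_id])
    (by
      have : G.R.fromSpecResidueField r ≫ G.t = b := rfl
      simp only [Category.assoc]
      rw [← Category.assoc (G.R.fromSpecResidueField r), this, ← Category.assoc b,
        IsIso.hom_inv_id, Category.id_comp, IsIso.inv_hom_id])
  refine ⟨φ, ?_⟩
  have h1 : φ.hom (G.e (eU.inv (IsLocalRing.closedPoint k))) =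
      (G.e ≫ φ.hom) (eU.inv (IsLocalRing.closedPoint k)) := by
    simp
  rw [h1, hφ]
  simp [Scheme.fromSpecResidueField_apply]

end Groth.Agent.Helper3.GrpdAut
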