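import Mathlib
import Groth.Prelude.Def_GSzCSA
import Groth.Agent.Lib.Helper24.GalDescent
import Groth.Agent.Lib.Helper7.ND5

/-!
Hilbert 90 for `(K ⊗ A)ˣ`, `A` a finite-dimensional algebra: single-universe core.
-/

set_option autoImplicit false

universe u

open scoped TensorProduct

namespace Groth.Agent.Helper3.H90A

section basics

variable {k : Type u} {K : Type u} {A : Type u} [Field k] [Field K] [Algebra k K] [Ring A]
  [Algebra k A]

theorem smul_mul' (σ : K ≃ₐ[k] K) (x y : K ⊗[k] A) : σ • (x * y) = σ • x * σ • y := by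
  rw [CSAGal.smul_eq_map, CSAGal.smul_eq_map, CSAGal.smul_eq_map, map_mul]

theorem smul_one' (σ : K ≃ₐ[k] K) : σ • (1 : K ⊗[k] A) = 1 := by
  rw [CSAGal.smul_eq_map, map_one]

theorem smul_one_tmul (σ : K ≃ₐ[k] K) (a : A) : σ • ((1 : K) ⊗ₜ[k] a) = (1 : K) ⊗ₜ[k] a := by
  rw [CSAGal.smul_eq_map, Algebra.TensorProduct.map_tmul]
  simp

/-- right multiplication by a unit as a `K`-linear automorphism -/
noncomputable def rmul (u : (K ⊗[k] A)ˣ) : (K ⊗[k] A) ≃ₗ[K] (K ⊗[k] A) where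
  toFun x := x * (u⁻¹ : (K ⊗[k] A)ˣ)
  invFun x := x * (u : (K ⊗[k] A)ˣ)
  map_add' x y := add_mul x y _
  map_smul' c x := by
    simp only [RingHom.id_apply]
    rw [smul_mul_assoc]
  left_inv x := by
    simp only
    rw [mul_assoc, Units.inv_mul, mul_one]
  right_inv x := by
    simp only
    rw [mul_assoc, Units.mul_inv, mul_one]

theorem rmul_apply (u : (K ⊗[k] A)ˣ) (x : K ⊗[k] A) :
    rmul u x = x * ((u⁻¹ : (K ⊗[k] A)ˣ) : K ⊗[k] A) := rfl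

theorem smul_inv_mul (σ : K ≃ₐ[k] K) (u : (K ⊗[k] A)ˣ) :
    σ • ((u⁻¹ : (K ⊗[k] A)ˣ) : K ⊗[k] A) * σ • (u : K ⊗[k] A) = 1 := by
  rw [← smul_mul', Units.inv_mul, smul_one']

theorem smul_mul_inv (σ : K ≃ₐ[k] K) (u : (K ⊗[k] A)ˣ) :
    σ • (u : K ⊗[k] A) * σ • ((u⁻¹ : (K ⊗[k] A)ˣ) : K ⊗[k] A) = 1 := by
  rw [← smul_mul', Units.mul_inv, smul_one']

/-- the cocycle of right multiplications by `α σ⁻¹` -/
noncomputable def coc (α : (K ≃ₐ[k] K) → (K ⊗[k] A)ˣ)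
    (hα : ∀ σ τ, ((α (σ * τ) : (K ⊗[k] A)ˣ) : K ⊗[k] A) =
      (α σ : K ⊗[k] A) * σ • ((α τ : (K ⊗[k] A)ˣ) : K ⊗[k] A)) :
    GpH1.OneCocycle (K ≃ₐ[k] K) ((K ⊗[k] A) ≃ₗ[K] (K ⊗[k] A)) :=
  ⟨fun σ => rmul (α σ), by
    intro σ τ
    apply LinearEquiv.ext
    intro x
    rw [LinearEquiv.mul_apply, GalDesc.conj_smul_apply, rmul_apply, rmul_apply, rmul_apply,
      smul_mul', smul_inv_smul, mul_assoc]
    congr 1
    apply Units.inv_eq_of_mul_eq_one_right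
    rw [hα, mul_assoc, ← mul_assoc (σ • ((α τ : (K ⊗[k] A)ˣ) : K ⊗[k] A)), smul_mul_inv, one_mul,
      Units.mul_inv]⟩

theorem coc_apply (α : (K ≃ₐ[k] K) → (K ⊗[k] A)ˣ)
    (hα : ∀ σ τ, ((α (σ * τ) : (K ⊗[k] A)ˣ) : K ⊗[k] A) =
      (α σ : K ⊗[k] A) * σ • ((α τ : (K ⊗[k] A)ˣ) : K ⊗[k] A)) (σ : K ≃ₐ[k] K) (x : K ⊗[k] A) :
    coc α hα σ x = x * (((α σ)⁻¹ : (K ⊗[k] A)ˣ) : K ⊗[k] A) := rfl

theorem mem_fixed_iff (α : (K ≃ₐ[k] K) → (K ⊗[k] A)ˣ)
    (hα : ∀ σ τ, ((α (σ * τ) : (K ⊗[k] A)ˣ) : K ⊗[k] A) =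
      (α σ : K ⊗[k] A) * σ • ((α τ : (K ⊗[k] A)ˣ) : K ⊗[k] A)) (x : K ⊗[k] A) :
    x ∈ GalDesc.fixedSub (coc α hα) ↔ ∀ σ : K ≃ₐ[k] K, σ • x = x * (α σ : K ⊗[k] A) := by
  rw [GalDesc.mem_fixedSub]
  refine forall_congr' fun σ => ?_
  rw [coc_apply]
  constructor
  · intro h
    have h1 : σ • x = σ • x * (((α σ)⁻¹ : (K ⊗[k] A)ˣ) : K ⊗[k] A) * (α σ : K ⊗[k] A) := by
      rw [mul_assoc, Units.inv_mul, mul_one]
    rw [h1, h]
  · intro h
    rw [h, mul_assoc, Units.mul_inv, mul_one]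

end basics

section main

variable {k : Type u} {K : Type u} {A : Type u} [Field k] [Field K] [Algebra k K] [Ring A]
  [Algebra k A]
variable (α : (K ≃ₐ[k] K) → (K ⊗[k] A)ˣ)
  (hα : ∀ σ τ, ((α (σ * τ) : (K ⊗[k] A)ˣ) : K ⊗[k] A) =
      (α σ : K ⊗[k] A) * σ • ((α τ : (K ⊗[k] A)ˣ) : K ⊗[k] A))

theorem one_tmul_mul_mem (b : A) (n : GalDesc.fixedSub (coc α hα)) :
    ((1 : K) ⊗ₜ[k] b) * n.1 ∈ GalDesc.fixedSub (coc α hα) := by
  rw [mem_fixed_iff]
  intro σ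
  rw [smul_mul', smul_one_tmul, (mem_fixed_iff α hα n.1).1 n.2 σ, mul_assoc]

noncomputable instance modA : Module A (GalDesc.fixedSub (coc α hα)) where
  smul b n := ⟨((1 : K) ⊗ₜ[k] b) * n.1, one_tmul_mul_mem α hα b n⟩
  one_smul n := Subtype.ext (by
    change ((1 : K) ⊗ₜ[k] (1 : A)) * n.1 = n.1
    rw [← Algebra.TensorProduct.one_def, one_mul])
  mul_smul b b' n := Subtype.ext (by
    change ((1 : K) ⊗ₜ[k] (b * b')) * n.1 = ((1 : K) ⊗ₜ[k] b) * (((1 : K) ⊗ₜ[k] b') * n.1)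
    rw [← mul_assoc, Algebra.TensorProduct.tmul_mul_tmul, one_mul])
  smul_zero b := Subtype.ext (mul_zero _)
  smul_add b n n' := Subtype.ext (mul_add _ _ _)
  add_smul b b' n := Subtype.ext (by
    change ((1 : K) ⊗ₜ[k] (b + b')) * n.1 = ((1 : K) ⊗ₜ[k] b) * n.1 + ((1 : K) ⊗ₜ[k] b') * n.1
    rw [TensorProduct.tmul_add, add_mul])
  zero_smul n := Subtype.ext (by
    change ((1 : K) ⊗ₜ[k] (0 : A)) * n.1 = 0
    rw [TensorProduct.tmul_zero, zero_mul])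

theorem smulA_coe (b : A) (n : GalDesc.fixedSub (coc α hα)) :
    ((b • n : GalDesc.fixedSub (coc α hα)) : K ⊗[k] A) = ((1 : K) ⊗ₜ[k] b) * n.1 := rfl

instance : IsScalarTower k A (GalDesc.fixedSub (coc α hα)) where
  smul_assoc c b n := Subtype.ext (by
    change ((1 : K) ⊗ₜ[k] (c • b)) * n.1 = c • (((1 : K) ⊗ₜ[k] b) * n.1)
    rw [TensorProduct.tmul_smul, smul_mul_assoc])

instance : SMulCommClass A k (GalDesc.fixedSub (coc α hα)) where
  smul_comm b c n := Subtype.ext (by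
    change ((1 : K) ⊗ₜ[k] b) * (c • n.1) = c • (((1 : K) ⊗ₜ[k] b) * n.1)
    rw [mul_smul_comm])

theorem lTensor_smul_eq (b : A) (y : K ⊗[k] A) :
    (DistribSMul.toLinearMap k A b).lTensor K y = ((1 : K) ⊗ₜ[k] b) * y := by
  induction y using TensorProduct.induction_on with
  | zero => rw [map_zero, mul_zero]
  | tmul c a =>
    rw [LinearMap.lTensor_tmul, Algebra.TensorProduct.tmul_mul_tmul, one_mul]
    rfl
  | add x y hx hy => rw [map_add, hx, hy, mul_add]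

variable [FiniteDimensional k K] [IsGalois k K] [FiniteDimensional k A]

include hα in
theorem exists_unit :
    ∃ ν : (K ⊗[k] A)ˣ, ∀ σ : K ≃ₐ[k] K, σ • (ν : K ⊗[k] A) = (ν : K ⊗[k] A) * (α σ : K ⊗[k] A) := by
  classical
  have hfin : Finite (MaximalSpectrum k) := by
    haveI : Subsingleton (MaximalSpectrum k) := by
      constructor
      intro a b
      ext1
      rw [Ideal.eq_bot_of_prime a.asIdeal, Ideal.eq_bot_of_prime b.asIdeal]
    exact Finite.of_subsingleton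
  let e := Groth.Agent.Helper24.GalDescent.descentEquiv (coc α hα)
  have he : ∀ (b : A) (x : K ⊗[k] (GalDesc.fixedSub (coc α hα))),
      e ((DistribSMul.toLinearMap k (GalDesc.fixedSub (coc α hα)) b).lTensor K x) =
        (DistribSMul.toLinearMap k A b).lTensor K (e x) := by
    intro b x
    induction x using TensorProduct.induction_on with
    | zero => simp
    | tmul c n =>
      rw [LinearMap.lTensor_tmul, lTensor_smul_eq]
      change e (c ⊗ₜ[k] (b • n)) = _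
      rw [Groth.Agent.Helper24.GalDescent.descentEquiv_tmul,
        Groth.Agent.Helper24.GalDescent.descentEquiv_tmul, smulA_coe, mul_smul_comm]
    | add x y hx hy => rw [map_add, map_add, hx, hy, map_add, map_add]
  haveI : Module.Finite k (GalDesc.fixedSub (coc α hα)) := inferInstance
  obtain ⟨f⟩ := Groth.Agent.Helper7.ND.nd (A := k) (A' := K) (B := A)
    (V := GalDesc.fixedSub (coc α hα)) (W := A) hfin e he
  let ν₀ : GalDesc.fixedSub (coc α hα) := f.symm 1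
  have hgen : ∀ n : GalDesc.fixedSub (coc α hα), n.1 = ((1 : K) ⊗ₜ[k] f n) * ν₀.1 := by
    intro n
    have h1 : n = f n • ν₀ := by
      apply f.injective
      rw [map_smul, LinearEquiv.apply_symm_apply, smul_eq_mul, mul_one]
    conv_lhs => rw [h1]
    rfl
  have hsurj : ∀ y : K ⊗[k] A, ∃ z : K ⊗[k] A, y = z * ν₀.1 := by
    intro y
    obtain ⟨x, rfl⟩ := e.surjective y
    induction x using TensorProduct.induction_on with
    | zero => exact ⟨0, by rw [map_zero, zero_mul]⟩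
    | tmul c n =>
      refine ⟨c ⊗ₜ[k] f n, ?_⟩
      rw [Groth.Agent.Helper24.GalDescent.descentEquiv_tmul, hgen n, ← smul_mul_assoc,
        TensorProduct.smul_tmul', smul_eq_mul, mul_one]
    | add x y hx hy =>
      obtain ⟨z1, h1⟩ := hx
      obtain ⟨z2, h2⟩ := hy
      exact ⟨z1 + z2, by rw [map_add, h1, h2, add_mul]⟩
  obtain ⟨z, hz⟩ := hsurj 1
  haveI : IsArtinianRing (K ⊗[k] A) := IsArtinianRing.of_finite K _
  have hu : IsUnit ν₀.1 := IsUnit.of_mul_eq_one_right z hz.symm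
  obtain ⟨ν, hν⟩ := hu
  refine ⟨ν, fun σ => ?_⟩
  rw [hν]
  exact (mem_fixed_iff α hα ν₀.1).1 ν₀.2 σ

include hα in
theorem core : ∃ c : (K ⊗[k] A)ˣ, ∀ σ : K ≃ₐ[k] K,
    (α σ : K ⊗[k] A) = ((c⁻¹ : (K ⊗[k] A)ˣ) : K ⊗[k] A) * σ • (c : K ⊗[k] A) := by
  obtain ⟨ν, hν⟩ := exists_unit α hα
  refine ⟨ν, fun σ => ?_⟩
  rw [hν σ, ← mul_assoc, Units.inv_mul, one_mul]

end main

end Groth.Agent.Helper3.H90A
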