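import Mathlib
import Groth.Agent.Lib.Helper3.H90A1

/-!
Hilbert 90 for `(K ⊗ A)ˣ`: general universes via `Shrink`.
-/

set_option autoImplicit false

universe u v w

open scoped TensorProduct

namespace Groth.Agent.Helper3.H90A

section transport

variable {k : Type u} [Field k]
  {K : Type v} [Field K] [Algebra k K] {A : Type w} [Ring A] [Algebra k A]
  {K₀ : Type u} [Field K₀] [Algebra k K₀] {A₀ : Type u} [Ring A₀] [Algebra k A₀]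

theorem congr_smul (eK : K₀ ≃ₐ[k] K) (eA : A₀ ≃ₐ[k] A) (σ₀ : K₀ ≃ₐ[k] K₀) (x : K₀ ⊗[k] A₀) :
    Algebra.TensorProduct.congr eK eA (σ₀ • x) =
      (AlgEquiv.autCongr eK σ₀) • (Algebra.TensorProduct.congr eK eA x) := by
  induction x using TensorProduct.induction_on with
  | zero => simp
  | tmul c a =>
    rw [TensorProduct.smul_tmul', Algebra.TensorProduct.congr_apply,
      Algebra.TensorProduct.congr_apply, Algebra.TensorProduct.map_tmul,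
      Algebra.TensorProduct.map_tmul, TensorProduct.smul_tmul']
    congr 1
    change eK (σ₀ c) = eK (σ₀ (eK.symm (eK c)))
    rw [AlgEquiv.symm_apply_apply]
  | add x y hx hy => rw [smul_add, map_add, hx, hy, map_add, smul_add]

theorem core_general [FiniteDimensional k K] [IsGalois k K] [FiniteDimensional k A]
    (eK : K₀ ≃ₐ[k] K) (eA : A₀ ≃ₐ[k] A)
    (α : (K ≃ₐ[k] K) → (K ⊗[k] A)ˣ)
    (hα : ∀ σ τ, ((α (σ * τ) : (K ⊗[k] A)ˣ) : K ⊗[k] A) =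
      (α σ : K ⊗[k] A) * σ • ((α τ : (K ⊗[k] A)ˣ) : K ⊗[k] A)) :
    ∃ c : (K ⊗[k] A)ˣ, ∀ σ : K ≃ₐ[k] K,
      (α σ : K ⊗[k] A) = ((c⁻¹ : (K ⊗[k] A)ˣ) : K ⊗[k] A) * σ • (c : K ⊗[k] A) := by
  haveI : FiniteDimensional k K₀ := LinearEquiv.finiteDimensional eK.symm.toLinearEquiv
  haveI : FiniteDimensional k A₀ := LinearEquiv.finiteDimensional eA.symm.toLinearEquiv
  haveI : IsGalois k K₀ := IsGalois.of_algEquiv eK.symm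
  let Φ : K₀ ⊗[k] A₀ ≃ₐ[k] K ⊗[k] A := Algebra.TensorProduct.congr eK eA
  let φ : (K₀ ≃ₐ[k] K₀) ≃* (K ≃ₐ[k] K) := AlgEquiv.autCongr eK
  have hΦ : ∀ (σ₀ : K₀ ≃ₐ[k] K₀) (x : K₀ ⊗[k] A₀), Φ (σ₀ • x) = (φ σ₀) • Φ x :=
    congr_smul eK eA
  have hΦs : ∀ (σ₀ : K₀ ≃ₐ[k] K₀) (y : K ⊗[k] A), Φ.symm ((φ σ₀) • y) = σ₀ • Φ.symm y := by
    intro σ₀ y
    apply Φ.injective
    rw [AlgEquiv.apply_symm_apply, hΦ, AlgEquiv.apply_symm_apply]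
  let α₀ : (K₀ ≃ₐ[k] K₀) → (K₀ ⊗[k] A₀)ˣ := fun σ₀ =>
    Units.map (Φ.symm : K ⊗[k] A →* K₀ ⊗[k] A₀) (α (φ σ₀))
  have hα₀ : ∀ σ τ, ((α₀ (σ * τ) : (K₀ ⊗[k] A₀)ˣ) : K₀ ⊗[k] A₀) =
      (α₀ σ : K₀ ⊗[k] A₀) * σ • ((α₀ τ : (K₀ ⊗[k] A₀)ˣ) : K₀ ⊗[k] A₀) := by
    intro σ τ
    change Φ.symm (α (φ (σ * τ)) : K ⊗[k] A) =
      Φ.symm (α (φ σ) : K ⊗[k] A) * σ • Φ.symm (α (φ τ) : K ⊗[k] A)
    rw [map_mul, hα, map_mul, hΦs]
  obtain ⟨c₀, hc₀⟩ := core α₀ hα₀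
  refine ⟨Units.map (Φ : K₀ ⊗[k] A₀ →* K ⊗[k] A) c₀, fun σ => ?_⟩
  obtain ⟨σ₀, rfl⟩ := φ.surjective σ
  have h1 := congrArg Φ (hc₀ σ₀)
  change Φ (Φ.symm (α (φ σ₀) : K ⊗[k] A)) = _ at h1
  rw [AlgEquiv.apply_symm_apply, map_mul, hΦ] at h1
  rw [h1]
  rfl

end transport

theorem main (k : Type u) [Field k] (K : Type v)
    [Field K] [Algebra k K] [FiniteDimensional k K] [IsGalois k K]
    (A : Type w) [Ring A] [Algebra k A] [FiniteDimensional k A]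
    (α : (K ≃ₐ[k] K) → (K ⊗[k] A)ˣ)
    (hα : ∀ σ τ, ((α (σ * τ) : (K ⊗[k] A)ˣ) : K ⊗[k] A) =
      (α σ : K ⊗[k] A) * σ • ((α τ : (K ⊗[k] A)ˣ) : K ⊗[k] A)) :
    ∃ c : (K ⊗[k] A)ˣ, ∀ σ : K ≃ₐ[k] K,
      (α σ : K ⊗[k] A) = ((c⁻¹ : (K ⊗[k] A)ˣ) : K ⊗[k] A) * σ • (c : K ⊗[k] A) := by
  haveI : Small.{u} K :=
    small_of_injective (Module.finBasis k K).equivFun.injective
  haveI : Small.{u} A :=
    small_of_injective (Module.finBasis k A).equivFun.injective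
  exact core_general (Shrink.algEquiv k K) (Shrink.algEquiv k A) α hα

end Groth.Agent.Helper3.H90A
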