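import Mathlib
import Groth.Agent.Lib.Helper3.HB2
import Groth.Agent.Lib.Lead.Depth21
import Groth.Agent.Lib.Lead.Depth18
import Groth.Agent.Lib.Lead.Hom3
import Groth.Agent.Lib.Lead.Depth12
import Groth.Agent.Lib.Lead.Depth8
import Groth.Agent.Lib.Lead.Depth7

/-!
# Hilbert–Burch, forward direction (helper3)
-/

set_option autoImplicit false
set_option linter.style.haveILetI false

universe u

namespace Groth.Agent.Helper3.HB3

open CategoryTheory Abelian LocCoh Matrix Groth.Agent.Helper3.HB2

section Gen

variable {R : Type u} [CommRing R]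

theorem exists_generators [IsNoetherianRing R] (I : Ideal R) :
    ∃ x : Fin I.spanFinrank → R, Ideal.span (Set.range x) = I := by
  classical
  obtain ⟨s, hs1, hs2⟩ := Submodule.FG.exists_span_finset_card_eq_spanFinrank
    (I.fg_of_isNoetherianRing)
  let e := s.equivFin
  refine ⟨fun i => ((e.symm (Fin.cast hs1.symm i) : s) : R), ?_⟩
  refine Eq.trans ?_ hs2
  congr 1
  ext z
  constructor
  · rintro ⟨i, rfl⟩
    exact (e.symm _).2
  · intro hz
    refine ⟨Fin.cast hs1 (e ⟨z, hz⟩), ?_⟩
    simp

/-- A nonzero ideal of a domain has rank one. -/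
theorem finrank_ideal [IsDomain R] [IsNoetherianRing R] (I : Ideal R) (hI : I ≠ ⊥) :
    Module.finrank R I = 1 := by
  apply le_antisymm
  · have := Submodule.finrank_le I
    rwa [Module.finrank_self] at this
  · obtain ⟨x, hxI, hx0⟩ := Submodule.exists_mem_ne_zero_of_ne_bot hI
    let g : R →ₗ[R] I := LinearMap.toSpanSingleton R I ⟨x, hxI⟩
    have hg : Function.Injective g := by
      intro a b hab
      have h1 := congrArg Subtype.val hab
      simp only [g, LinearMap.toSpanSingleton_apply, Submodule.coe_smul, smul_eq_mul] at h1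
      exact mul_right_cancel₀ hx0 h1
    have := LinearMap.finrank_le_finrank_of_injective hg
    rwa [Module.finrank_self] at this

/-- From a projective kernel to a matrix. -/
theorem exists_matrix [IsDomain R] [IsLocalRing R] [IsNoetherianRing R] (r : ℕ)
    (f : Fin (r + 1) → R) (hf : Ideal.span (Set.range f) ≠ ⊥)
    (hproj : Module.Projective R (LinearMap.ker (Fintype.linearCombination R f))) :
    ∃ φ : Matrix (Fin (r + 1)) (Fin r) R, Function.Injective φ.mulVecLin ∧
      LinearMap.range φ.mulVecLin = LinearMap.ker (Fintype.linearCombination R f) := by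
  classical
  set π := Fintype.linearCombination R f with hπ
  set K := LinearMap.ker π with hK
  haveI : Module.Finite R K := inferInstance
  haveI : Module.Free R K := Module.free_of_flat_of_isLocalRing
  have hrange : LinearMap.range π = Ideal.span (Set.range f) :=
    Fintype.range_linearCombination R f
  have h1 := K.finrank_quotient_add_finrank
  have h2 : Module.finrank R ((Fin (r + 1) → R) ⧸ K) = 1 := by
    rw [LinearEquiv.finrank_eq π.quotKerEquivRange, hrange]
    exact finrank_ideal _ hf
  rw [h2, Module.finrank_pi, Fintype.card_fin] at h1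
  have h3 : Module.finrank R K = r := by omega
  let b : Module.Basis (Fin r) R K := Module.finBasisOfFinrankEq R K h3
  refine ⟨Matrix.of fun i c => (b c : Fin (r + 1) → R) i, ?_, ?_⟩
  · have hmv : ∀ v : Fin r → R, (Matrix.of fun i c => (b c : Fin (r + 1) → R) i).mulVecLin v =
        ((∑ c, v c • b c : K) : Fin (r + 1) → R) := by
      intro v
      ext i
      simp [Matrix.mulVec, dotProduct, mul_comm]
    intro v v' hvv
    rw [hmv, hmv] at hvv
    have h4 : (∑ c, v c • b c : K) = ∑ c, v' c • b c := Subtype.ext hvv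
    have h5 := congrArg (fun k => (b.repr k : Fin r → R)) h4
    simp only [Module.Basis.repr_sum_self] at h5
    exact h5
  · have hmv : ∀ v : Fin r → R, (Matrix.of fun i c => (b c : Fin (r + 1) → R) i).mulVecLin v =
        ((∑ c, v c • b c : K) : Fin (r + 1) → R) := by
      intro v
      ext i
      simp [Matrix.mulVec, dotProduct, mul_comm]
    apply le_antisymm
    · rintro _ ⟨v, rfl⟩
      rw [hmv]
      exact (∑ c, v c • b c : K).2
    · intro w hw
      refine ⟨fun c => b.repr ⟨w, hw⟩ c, ?_⟩
      rw [hmv]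
      have := b.sum_repr ⟨w, hw⟩
      rw [this]

end Gen


section Main

variable (A : Type u) [CommRing A] [IsRegularLocalRing A] (I : Ideal A)
  [LocCoh.IsCohenMacaulayLocalRing (A ⧸ I)]

omit [IsRegularLocalRing A] in
include I in
theorem ne_top : I ≠ ⊤ := by
  intro h
  haveI : Nontrivial (A ⧸ I) := inferInstance
  exact (Ideal.Quotient.nontrivial_iff.mp this) h

variable (hcodim : ringKrullDim (A ⧸ I) + 2 = ringKrullDim A)

include hcodim

theorem numbers : ∃ d : ℕ, ringKrullDim (A ⧸ I) = (d : WithBot ℕ∞) ∧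
    ringKrullDim A = ((d + 2 : ℕ) : WithBot ℕ∞) := by
  have hn : (((IsLocalRing.maximalIdeal A).spanFinrank : ℕ) : WithBot ℕ∞) = ringKrullDim A :=
    IsRegularLocalRing.spanFinrank_maximalIdeal
  have h0 : (0 : WithBot ℕ∞) ≤ ringKrullDim (A ⧸ I) := ringKrullDim_nonneg_of_nontrivial
  have hk : ringKrullDim (A ⧸ I) ≤ (((IsLocalRing.maximalIdeal A).spanFinrank : ℕ) : WithBot ℕ∞) := by
    rw [hn, ← hcodim]
    exact le_add_of_nonneg_right (by exact_mod_cast (Nat.zero_le 2 : (0 : ℕ) ≤ 2))
  obtain ⟨d, hd, _⟩ := Groth.Agent.Lead.RLR.exists_nat_of_le h0 hk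
  refine ⟨d, hd, ?_⟩
  rw [← hcodim, hd]
  norm_cast

theorem two_le_idealDepth : 2 ≤ LocCoh.idealDepth I A := by
  obtain ⟨d, hd, hn⟩ := numbers A I hcodim
  have h18 := Groth.Agent.Lead.Depth.depth_le_idealDepth_add_ringKrullDim_quotient I (ne_top A I) A
  rw [Groth.Agent.Lead.Depth.depth_eq_of_isRegularLocalRing hn, hd] at h18
  induction hj : LocCoh.idealDepth I A using ENat.recTopCoe with
  | top => exact le_top
  | coe k =>
    rw [hj] at h18
    have h2 : d + 2 ≤ k + d := by exact_mod_cast h18
    have : 2 ≤ k := by omega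
    exact_mod_cast this

theorem ne_bot : I ≠ ⊥ := by
  intro h
  have h2 := two_le_idealDepth A I hcodim
  rw [h] at h2
  have h3 : LocCoh.idealDepth (⊥ : Ideal A) A ≤ 0 := by
    rw [Groth.Agent.Lead.Depth.idealDepth_of_ne_top]
    · apply iSup_le
      intro rs
      apply iSup_le
      rintro ⟨hreg, hmem⟩
      match rs, hreg, hmem with
      | [], _, _ => simp
      | x :: rest, hreg, hmem =>
        exfalso
        rw [RingTheory.Sequence.isWeaklyRegular_cons_iff] at hreg
        have hx : x = 0 := by simpa using hmem x (by simp)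
        rw [hx] at hreg
        have := hreg.1 (show (0 : A) • (1 : A) = (0 : A) • (0 : A) by simp)
        exact one_ne_zero this
    · simp
  have : (2 : ℕ∞) ≤ 0 := h2.trans h3
  simp at this

theorem hasProjectiveDimensionLT_three :
    HasProjectiveDimensionLT (ModuleCat.of A (A ⧸ I)) 3 := by
  obtain ⟨d, hd, hn⟩ := numbers A I hcodim
  have hpdlt : HasProjectiveDimensionLT (ModuleCat.of A (A ⧸ I)) (d + 2 + 1) :=
    Groth.Agent.Lead.Hom.hasProjectiveDimensionLT_of_isRegularLocalRing hn _
  have hnz : ¬ Limits.IsZero (ModuleCat.of A (A ⧸ I)) := by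
    intro hz
    have := ModuleCat.isZero_of_iff_subsingleton.mp hz
    exact not_subsingleton (A ⧸ I) this
  obtain ⟨e, he, helt⟩ := Groth.Agent.Lead.Depth.exists_nat_projectiveDimension_eq hpdlt hnz
  have hAB := Groth.Agent.Lead.Depth.auslander_buchsbaum (A ⧸ I) e he
  have hdA : LocCoh.depth A A = ((d + 2 : ℕ) : ℕ∞) :=
    Groth.Agent.Lead.Depth.depth_eq_of_isRegularLocalRing hn
  have hsurj : LocCoh.depth A (A ⧸ I) = LocCoh.depth (A ⧸ I) (A ⧸ I) :=
    Groth.Agent.Lead.Depth.depth_eq_of_surjective (R₁ := A) (R₂ := A ⧸ I)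
      Ideal.Quotient.mk_surjective (A ⧸ I)
  have hCM : Module.supportDim (A ⧸ I) (A ⧸ I) =
      ((LocCoh.depth (A ⧸ I) (A ⧸ I) : ℕ∞) : WithBot ℕ∞) :=
    LocCoh.IsCohenMacaulayLocalRing.supportDim_eq_depth
  rw [Module.supportDim_self_eq_ringKrullDim, hd] at hCM
  have hdq : LocCoh.depth (A ⧸ I) (A ⧸ I) = (d : ℕ∞) := by
    have : ((d : ℕ∞) : WithBot ℕ∞) = ((LocCoh.depth (A ⧸ I) (A ⧸ I) : ℕ∞) : WithBot ℕ∞) := by
      rw [← hCM]; rfl
    exact (WithBot.coe_injective this).symm
  rw [hdA, hsurj, hdq] at hAB
  have he2 : e = 2 := by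
    have : d + 2 = e + d := by exact_mod_cast hAB
    omega
  rw [← projectiveDimension_lt_iff, he, he2]
  norm_cast


theorem projective_ker (r : ℕ) (f : Fin (r + 1) → A) (hf : Ideal.span (Set.range f) = I) :
    Module.Projective A (LinearMap.ker (Fintype.linearCombination A f)) := by
  have hpd3 := hasProjectiveDimensionLT_three A I hcodim
  -- first sequence
  let q : A →ₗ[A] A ⧸ I := Submodule.mkQ I
  have hq : Function.Surjective q := Submodule.mkQ_surjective I
  have hS1 : q.shortComplexKer.ShortExact := LinearMap.shortExact_shortComplexKer hq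
  have hA : HasProjectiveDimensionLT q.shortComplexKer.X₂ 2 := by
    haveI : Module.Projective A A := Module.Projective.of_free
    haveI : Projective q.shortComplexKer.X₂ := (IsProjective.iff_projective _).mp inferInstance
    infer_instance
  have hI2 : HasProjectiveDimensionLT (ModuleCat.of A (LinearMap.ker q)) 2 :=
    hS1.hasProjectiveDimensionLT_X₁ 2 hA hpd3
  -- second sequence
  have hker : LinearMap.ker q = I := Submodule.ker_mkQ I
  have hrange : LinearMap.range (Fintype.linearCombination A f) = Ideal.span (Set.range f) :=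
    Fintype.range_linearCombination A f
  let π' : (Fin (r + 1) → A) →ₗ[A] LinearMap.ker q :=
    (Fintype.linearCombination A f).codRestrict (LinearMap.ker q) (by
      intro w
      rw [hker, ← hf, ← hrange]
      exact LinearMap.mem_range_self _ w)
  have hπ' : Function.Surjective π' := by
    rintro ⟨z, hz⟩
    rw [hker, ← hf, ← hrange] at hz
    obtain ⟨w, rfl⟩ := hz
    exact ⟨w, Subtype.ext rfl⟩
  have hS2 : π'.shortComplexKer.ShortExact := LinearMap.shortExact_shortComplexKer hπ'
  have hF : HasProjectiveDimensionLT π'.shortComplexKer.X₂ 1 := by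
    haveI : Module.Projective A (Fin (r + 1) → A) := Module.Projective.of_free
    haveI : Projective π'.shortComplexKer.X₂ := (IsProjective.iff_projective _).mp inferInstance
    infer_instance
  have hK : HasProjectiveDimensionLT (ModuleCat.of A (LinearMap.ker π')) 1 :=
    hS2.hasProjectiveDimensionLT_X₁ 1 hF hI2
  have hKproj : Module.Projective A (LinearMap.ker π') := by
    have h1 : Projective (ModuleCat.of A (LinearMap.ker π')) :=
      projective_iff_hasProjectiveDimensionLT_one.mpr hK
    exact (IsProjective.iff_projective _).mpr h1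
  have hkk : LinearMap.ker π' = LinearMap.ker (Fintype.linearCombination A f) :=
    LinearMap.ker_codRestrict _ _ _
  exact Module.Projective.of_equiv (LinearEquiv.ofEq _ _ hkk)

theorem main : ∃ (r : ℕ) (φ : Matrix (Fin (r + 1)) (Fin r) A),
    Ideal.span (Set.range (fun i : Fin (r + 1) =>
      (-1 : A) ^ (i : ℕ) * (φ.submatrix i.succAbove id).det)) = I ∧
    I.spanFinrank = r + 1 ∧
    Function.Injective φ.mulVecLin ∧
    LinearMap.range φ.mulVecLin =
      LinearMap.ker (Fintype.linearCombination A (fun i : Fin (r + 1) =>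
        (-1 : A) ^ (i : ℕ) * (φ.submatrix i.succAbove id).det)) := by
  classical
  haveI : IsDomain A := Groth.Agent.Lead.RLR.isDomain A
  have hI0 := ne_bot A I hcodim
  have hItop := ne_top A I
  have hsf : I.spanFinrank ≠ 0 := by
    intro h
    exact hI0 ((Submodule.spanFinrank_eq_zero_iff_eq_bot I.fg_of_isNoetherianRing).mp h)
  obtain ⟨r, hr⟩ := Nat.exists_eq_succ_of_ne_zero hsf
  obtain ⟨x0, hx0⟩ := exists_generators I
  let f : Fin (r + 1) → A := fun i => x0 (Fin.cast hr.symm i)
  have hf : Ideal.span (Set.range f) = I := by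
    rw [← hx0]
    congr 1
    ext z
    constructor
    · rintro ⟨i, rfl⟩
      exact ⟨_, rfl⟩
    · rintro ⟨i, rfl⟩
      exact ⟨Fin.cast hr i, by simp [f]⟩
  have hproj := projective_ker A I hcodim r f hf
  obtain ⟨φ, hinj, hex⟩ := exists_matrix r f (by rw [hf]; exact hI0) hproj
  obtain ⟨x, hxI, y, hyI, hx, hy⟩ :=
    Groth.Agent.Helper3.HilbertBurch.exists_regular_pair I (two_le_idealDepth A I hcodim)
  have hy0 : y ≠ 0 := by
    intro h0
    have h1 := dvd_of_quotSMulTop_regular hy 1 (by rw [h0, zero_mul]; exact dvd_zero x)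
    have hu : IsUnit x := isUnit_of_dvd_one h1
    exact hItop (Ideal.eq_top_of_isUnit_mem I hxI hu)
  have hy' : IsSMulRegular A y := by
    intro a b hab
    exact mul_left_cancel₀ hy0 hab
  rw [← hf] at hxI hyI
  obtain ⟨b, hbu, hb⟩ := exists_unit r φ f hex x y hxI hyI hx hy' (dvd_of_quotSMulTop_regular hy)
  obtain ⟨c, hc⟩ := hbu.exists_left_inv
  have hlc : ∀ w, Fintype.linearCombination A (sm r φ) w = b * Fintype.linearCombination A f w := by
    intro w
    rw [Fintype.linearCombination_apply, Fintype.linearCombination_apply, Finset.mul_sum]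
    refine Finset.sum_congr rfl fun i _ => ?_
    rw [hb i]
    simp only [smul_eq_mul]
    ring
  refine ⟨r, φ, ?_, hr, hinj, ?_⟩
  · change Ideal.span (Set.range (sm r φ)) = I
    rw [← hf]
    apply le_antisymm
    · rw [Ideal.span_le]
      rintro _ ⟨i, rfl⟩
      rw [hb i]
      exact Ideal.mul_mem_left _ _ (Ideal.subset_span ⟨i, rfl⟩)
    · rw [Ideal.span_le]
      rintro _ ⟨i, rfl⟩
      have : f i = c * sm r φ i := by
        rw [hb i, ← mul_assoc, hc, one_mul]
      rw [this]
      exact Ideal.mul_mem_left _ _ (Ideal.subset_span ⟨i, rfl⟩)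
  · change _ = LinearMap.ker (Fintype.linearCombination A (sm r φ))
    rw [hex]
    ext w
    rw [LinearMap.mem_ker, LinearMap.mem_ker, hlc]
    constructor
    · intro h; rw [h, mul_zero]
    · intro h
      have := congrArg (fun t => c * t) h
      simp only [mul_zero] at this
      rwa [← mul_assoc, hc, one_mul] at this

end Main

end Groth.Agent.Helper3.HB3
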