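import Mathlib
import Groth.Agent.Lib.Helper3.HB2

/-!
# McCoy's theorem for rectangular matrices (helper3)
-/

set_option autoImplicit false

universe u

namespace Groth.Agent.Helper3.HB4

open Matrix

variable {S : Type u} [CommRing S]

/-- **McCoy**: if a nonzero element kills all `m × m` minors of an `n × m` matrix, the matrix has a
nonzero kernel vector. -/
theorem mccoy (n m : ℕ) (Ψ : Matrix (Fin n) (Fin m) S) (t : S) (ht : t ≠ 0)
    (h : ∀ (f : Fin m → Fin n) (g : Fin m → Fin m), t * (Ψ.submatrix f g).det = 0) :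
    ∃ v : Fin m → S, v ≠ 0 ∧ Ψ.mulVec v = 0 := by
  classical
  let P : ℕ → Prop := fun r => ∃ (f : Fin r → Fin n) (g : Fin r → Fin m),
    t * (Ψ.submatrix f g).det ≠ 0
  have hP0 : P 0 := ⟨Fin.elim0, Fin.elim0, by simpa using ht⟩
  have hPm : ¬ P m := by
    rintro ⟨f, g, hfg⟩
    exact hfg (h f g)
  set r := Nat.findGreatest P m with hr
  have hPr : P r := Nat.findGreatest_spec (Nat.zero_le m) hP0
  have hrm : r ≤ m := Nat.findGreatest_le m
  have hrlt : r < m := by
    rcases Nat.lt_or_ge r m with h1 | h1
    · exact h1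
    · exfalso
      have : r = m := le_antisymm hrm h1
      rw [this] at hPr
      exact hPm hPr
  have hPr1 : ¬ P (r + 1) := Nat.findGreatest_is_greatest (Nat.lt_succ_self r) hrlt
  obtain ⟨f, g, hfg⟩ := hPr
  obtain ⟨j0, hj0⟩ : ∃ j0 : Fin m, ∀ k, g k ≠ j0 := by
    by_contra hcon
    push Not at hcon
    have hsurj : Function.Surjective g := fun j => hcon j
    have := Fintype.card_le_of_surjective g hsurj
    simp only [Fintype.card_fin] at this
    omega
  let g' : Fin (r + 1) → Fin m := Fin.cons j0 g
  let c : Fin (r + 1) → S := fun k =>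
    (-1 : S) ^ (k : ℕ) * (Ψ.submatrix f (g' ∘ k.succAbove)).det
  let v : Fin m → S := fun j => ∑ k, if g' k = j then t * c k else 0
  refine ⟨v, ?_, ?_⟩
  · intro hv
    have h1 : v j0 = t * (Ψ.submatrix f g).det := by
      simp only [v]
      rw [Fin.sum_univ_succ]
      have h2 : ∀ k : Fin r, (if g' k.succ = j0 then t * c k.succ else 0) = 0 := by
        intro k
        have : g' k.succ = g k := by simp [g']
        rw [this, if_neg (hj0 k)]
      simp only [h2, Finset.sum_const_zero, add_zero]
      have h3 : g' 0 = j0 := by simp [g']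
      rw [if_pos h3]
      have h4 : g' ∘ (0 : Fin (r + 1)).succAbove = g := by
        ext k
        simp [g']
      simp only [c, h4]
      simp
    rw [hv] at h1
    exact hfg h1.symm
  · ext i
    simp only [Matrix.mulVec, dotProduct, Pi.zero_apply, v]
    have h1 : ∑ j, Ψ i j * ∑ k, (if g' k = j then t * c k else 0) =
        ∑ k, Ψ i (g' k) * (t * c k) := by
      simp_rw [Finset.mul_sum]
      rw [Finset.sum_comm]
      refine Finset.sum_congr rfl fun k _ => ?_
      rw [Finset.sum_eq_single (g' k)]
      · simp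
      · intro j _ hj
        rw [if_neg (Ne.symm hj), mul_zero]
      · intro hk
        exact absurd (Finset.mem_univ _) hk
    rw [h1]
    have h2 : t * (Ψ.submatrix (Fin.cons i f : Fin (r + 1) → Fin n) g').det = 0 := by
      by_contra hne
      exact hPr1 ⟨Fin.cons i f, g', hne⟩
    rw [Matrix.det_succ_row_zero, Finset.mul_sum] at h2
    rw [← h2]
    refine Finset.sum_congr rfl fun k _ => ?_
    have h3 : (Ψ.submatrix (Fin.cons i f : Fin (r + 1) → Fin n) g').submatrix Fin.succ k.succAbove =
        Ψ.submatrix f (g' ∘ k.succAbove) := by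
      ext a b
      simp
    rw [h3]
    simp only [c, Matrix.submatrix_apply, Fin.cons_zero]
    ring

end Groth.Agent.Helper3.HB4
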