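import Mathlib
import Groth.Agent.Lib.Helper3.HB4
import Groth.Agent.Lib.Lead.Depth16

/-!
# General Hilbert–Burch over Noetherian rings (helper3)
-/

set_option autoImplicit false
set_option linter.style.haveILetI false

universe u

namespace Groth.Agent.Helper3.HB5

open Matrix Groth.Agent.Helper3.HB2 Groth.Agent.Helper3.HB4 Groth.Agent.Helper3.HilbertBurch
open scoped Pointwise

section General

variable {R : Type u} [CommRing R]

/-- two functionals with nested kernels and a regular pair in the range of the first -/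
theorem exists_mul_of_ker_le {n : ℕ} (p q : (Fin n → R) →ₗ[R] R)
    (hk : ∀ w, p w = 0 → q w = 0) (x y : R) (hx : x ∈ LinearMap.range p)
    (hy : y ∈ LinearMap.range p) (hxr : IsSMulRegular R x)
    (hyr : ∀ t : R, x ∣ y * t → x ∣ t) : ∃ a : R, ∀ w, q w = a * p w := by
  obtain ⟨wx, hwx⟩ := hx
  obtain ⟨wy, hwy⟩ := hy
  have cross : ∀ w w', p w * q w' = p w' * q w := by
    intro w w'
    have h := hk (p w • w' - p w' • w) (by
      rw [map_sub, map_smul, map_smul, smul_eq_mul, smul_eq_mul]; ring)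
    rw [map_sub, map_smul, map_smul, smul_eq_mul, smul_eq_mul] at h
    linear_combination h
  have h1 := cross wx wy
  rw [hwx, hwy] at h1
  obtain ⟨a, ha⟩ := hyr (q wx) ⟨_, h1.symm⟩
  refine ⟨a, fun w => ?_⟩
  have h2 := cross wx w
  rw [hwx, ha] at h2
  apply hxr
  simp only [smul_eq_mul]
  linear_combination h2

end General

section Main

variable {R : Type u} [CommRing R] [IsNoetherianRing R] (m n : ℕ)
  (Ψ : Matrix (Fin n) (Fin m) R) (π : (Fin n → R) →ₗ[R] R)
  (hΨ : LinearMap.ker Ψ.mulVecLin = ⊥) (hex : LinearMap.ker π = LinearMap.range Ψ.mulVecLin)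

include hΨ in
/-- the ideal of maximal minors contains a regular element -/
theorem exists_regular : ∃ x ∈ CAlgX.minorIdeal Ψ m, IsSMulRegular R x := by
  classical
  by_contra hcon
  push Not at hcon
  obtain ⟨p, hp, hJp⟩ := Groth.Agent.Lead.Depth.exists_le_associatedPrime_of_forall_not_regular'
    R (CAlgX.minorIdeal Ψ m) hcon
  have hpass : IsAssociatedPrime p R := hp
  rw [isAssociatedPrime_iff] at hpass
  obtain ⟨hpp, t, ht⟩ := hpass
  have ht0 : t ≠ 0 := by
    intro h0
    apply hpp.ne_top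
    rw [ht, h0]
    ext r
    simp [Submodule.mem_colon_singleton]
  have hkill : ∀ z ∈ CAlgX.minorIdeal Ψ m, z * t = 0 := by
    intro z hz
    have := hJp hz
    rw [ht, Submodule.mem_colon_singleton, Submodule.mem_bot] at this
    exact this
  obtain ⟨v, hv0, hv⟩ := mccoy n m Ψ t ht0 (by
    intro f g
    rw [mul_comm]
    exact hkill _ (Ideal.subset_span ⟨(f, g), rfl⟩))
  apply hv0
  have : v ∈ LinearMap.ker Ψ.mulVecLin := hv
  rw [hΨ] at this
  exact this

include hΨ hex in
/-- second element of a regular pair -/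
theorem exists_regular_mod (x : R) (hx : IsSMulRegular R x) :
    ∃ y ∈ CAlgX.minorIdeal Ψ m, IsSMulRegular (QuotSMulTop x R) y := by
  classical
  by_contra hcon
  push Not at hcon
  obtain ⟨p, hp, hJp⟩ := Groth.Agent.Lead.Depth.exists_le_associatedPrime_of_forall_not_regular'
    (QuotSMulTop x R) (CAlgX.minorIdeal Ψ m) hcon
  have hpass : IsAssociatedPrime p (QuotSMulTop x R) := hp
  rw [isAssociatedPrime_iff] at hpass
  obtain ⟨hpp, tb, ht⟩ := hpass
  obtain ⟨t, rfl⟩ := Submodule.Quotient.mk_surjective _ tb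
  have h0 : ∀ s : R, Submodule.Quotient.mk (p := x • (⊤ : Submodule R R)) s = 0 ↔ x ∣ s := by
    intro s
    rw [Submodule.Quotient.mk_eq_zero, Submodule.mem_smul_pointwise_iff_exists]
    constructor
    · rintro ⟨a, _, rfl⟩
      exact ⟨a, rfl⟩
    · rintro ⟨a, rfl⟩
      exact ⟨a, Submodule.mem_top, rfl⟩
  have ht0 : ¬ x ∣ t := by
    intro hdiv
    apply hpp.ne_top
    rw [ht, (h0 t).mpr hdiv]
    ext r
    simp [Submodule.mem_colon_singleton]
  have hkill : ∀ z ∈ CAlgX.minorIdeal Ψ m, x ∣ z * t := by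
    intro z hz
    have := hJp hz
    rw [ht, Submodule.mem_colon_singleton, Submodule.mem_bot] at this
    rw [← h0]
    exact this
  -- pass to the quotient ring
  let S := R ⧸ Ideal.span {x}
  let q : R →+* S := Ideal.Quotient.mk _
  have hq0 : ∀ s : R, q s = 0 ↔ x ∣ s := by
    intro s
    rw [Ideal.Quotient.eq_zero_iff_mem, Ideal.mem_span_singleton]
  obtain ⟨vb, hvb0, hvb⟩ := mccoy n m (Ψ.map q) (q t) (by rw [Ne, hq0]; exact ht0) (by
    intro f g
    have : (Ψ.map q).submatrix f g = (Ψ.submatrix f g).map q := rfl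
    rw [this, ← RingHom.mapMatrix_apply, ← RingHom.map_det, ← map_mul, hq0, mul_comm]
    exact hkill _ (Ideal.subset_span ⟨(f, g), rfl⟩))
  have hvlift : ∀ c, ∃ r : R, q r = vb c := fun c => Ideal.Quotient.mk_surjective _
  choose v hv using hvlift
  have hdiv : ∀ i, x ∣ Ψ.mulVec v i := by
    intro i
    rw [← hq0]
    have := congrFun hvb i
    simp only [Matrix.mulVec, dotProduct, Pi.zero_apply, Matrix.map_apply] at this
    simp only [Matrix.mulVec, dotProduct, map_sum, map_mul, hv]
    exact this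
  choose w hw using hdiv
  have h1 : π (Ψ.mulVec v) = 0 := by
    have : Ψ.mulVec v ∈ LinearMap.ker π := by rw [hex]; exact ⟨v, rfl⟩
    exact this
  have h2 : Ψ.mulVec v = x • w := by
    ext i
    rw [hw i]; rfl
  rw [h2, map_smul] at h1
  have h3 : π w = 0 := by
    apply hx
    simp only [smul_zero]
    exact h1
  have h4 : w ∈ LinearMap.range Ψ.mulVecLin := by rw [← hex]; exact h3
  obtain ⟨u, hu⟩ := h4
  have h5 : v - x • u ∈ LinearMap.ker Ψ.mulVecLin := by
    rw [LinearMap.mem_ker, map_sub, map_smul, hu]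
    exact sub_eq_zero.mpr h2
  rw [hΨ, Submodule.mem_bot] at h5
  apply hvb0
  ext c
  have h6 : v c = x * u c := by
    have := congrFun h5 c
    simp only [Pi.sub_apply, Pi.smul_apply, smul_eq_mul, Pi.zero_apply] at this
    exact sub_eq_zero.mp this
  rw [← hv c, h6, Pi.zero_apply, hq0]
  exact dvd_mul_right x _

include hΨ hex in
theorem two_le_idealDepth : 2 ≤ LocCoh.idealDepth (CAlgX.minorIdeal Ψ m) R := by
  obtain ⟨x, hxJ, hx⟩ := exists_regular m n Ψ hΨ
  obtain ⟨y, hyJ, hy⟩ := exists_regular_mod m n Ψ π hΨ hex x hx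
  have hreg : RingTheory.Sequence.IsWeaklyRegular R [x, y] := by
    rw [RingTheory.Sequence.isWeaklyRegular_cons_iff]
    refine ⟨hx, ?_⟩
    rw [RingTheory.Sequence.isWeaklyRegular_singleton_iff]
    exact hy
  have := Groth.Agent.Lead.Depth.le_idealDepth_of_isWeaklyRegular (CAlgX.minorIdeal Ψ m) R [x, y]
    hreg (by
      intro r hr
      simp only [List.mem_cons, List.not_mem_nil, or_false] at hr
      rcases hr with rfl | rfl
      · exact hxJ
      · exact hyJ)
  simpa using this

end Main

end Groth.Agent.Helper3.HB5
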