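import Mathlib
import Groth.Agent.Lib.Helper3.HB5

/-!
# General Hilbert–Burch: the rank count `n = m + 1` and the conclusion (helper3)
-/

set_option autoImplicit false
set_option linter.style.haveILetI false

universe u

namespace Groth.Agent.Helper3.HB6

open Matrix Groth.Agent.Helper3.HB2 Groth.Agent.Helper3.HB4 Groth.Agent.Helper3.HB5
  Groth.Agent.Helper3.HilbertBurch
open scoped Pointwise

section Rank

variable {R : Type u} [CommRing R] (m n : ℕ)
  (Ψ : Matrix (Fin n) (Fin m) R) (π : (Fin n → R) →ₗ[R] R)
  (hex : LinearMap.ker π = LinearMap.range Ψ.mulVecLin)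

omit hex in
lemma pi_eq (w : Fin n → R) : π w = ∑ j, w j * π (Pi.single j 1) := by
  classical
  have h := LinearMap.pi_apply_eq_sum_univ π w
  rw [h]
  refine Finset.sum_congr rfl fun j _ => ?_
  rw [smul_eq_mul]
  congr 2
  ext k
  simp [Pi.single_apply, eq_comm]

include hex in
/-- minors times generators outside the row set vanish, when `n ≠ m + 1` -/
lemma minor_mul_outside (hn : n ≠ m + 1) (f : Fin m → Fin n) (hf : Function.Injective f)
    (j : Fin n) (hj : ∀ k, f k ≠ j) :
    (Ψ.submatrix f id).det * π (Pi.single j 1) = 0 := by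
  classical
  -- find a further row
  obtain ⟨i, hij, hi⟩ : ∃ i : Fin n, i ≠ j ∧ ∀ k, f k ≠ i := by
    by_contra hcon
    push Not at hcon
    -- every `i ≠ j` is in the range of `f`
    have hsurj : Function.Surjective (Fin.cons j f : Fin (m + 1) → Fin n) := by
      intro i
      by_cases hij : i = j
      · exact ⟨0, by simp [hij]⟩
      · obtain ⟨k, hk⟩ := hcon i hij
        exact ⟨k.succ, by simp [hk]⟩
    have hinj : Function.Injective (Fin.cons j f : Fin (m + 1) → Fin n) := by
      rw [Fin.cons_injective_iff]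
      exact ⟨fun ⟨k, hk⟩ => hj k hk, hf⟩
    have := Fintype.card_of_bijective ⟨hinj, hsurj⟩
    simp only [Fintype.card_fin] at this
    exact hn this.symm
  let F : Fin (m + 1) → Fin n := Fin.cons i f
  let ΨF : Matrix (Fin (m + 1)) (Fin m) R := Ψ.submatrix F id
  let lam : (Fin n → R) →ₗ[R] R :=
    (Fintype.linearCombination R (sm m ΨF)).comp (LinearMap.funLeft R R F)
  have hlam : ∀ w, π w = 0 → lam w = 0 := by
    intro w hw
    have : w ∈ LinearMap.range Ψ.mulVecLin := by rw [← hex]; exact hw
    obtain ⟨v, rfl⟩ := this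
    have h1 : (LinearMap.funLeft R R F) (Ψ.mulVecLin v) = ΨF.mulVec v := by
      ext k
      simp [LinearMap.funLeft, ΨF, Matrix.mulVec, dotProduct]
    simp only [lam, LinearMap.comp_apply]
    rw [h1]
    exact lc_sm_mulVec m ΨF v
  have cross : ∀ w w', π w * lam w' = π w' * lam w := by
    intro w w'
    have h := hlam (π w • w' - π w' • w) (by
      rw [map_sub, map_smul, map_smul, smul_eq_mul, smul_eq_mul]; ring)
    rw [map_sub, map_smul, map_smul, smul_eq_mul, smul_eq_mul] at h
    linear_combination h
  have hlj : lam (Pi.single j 1) = 0 := by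
    simp only [lam, LinearMap.comp_apply, Fintype.linearCombination_apply]
    refine Finset.sum_eq_zero fun k _ => ?_
    have : (LinearMap.funLeft R R F) (Pi.single j (1 : R)) k = 0 := by
      simp only [LinearMap.funLeft_apply]
      rw [Pi.single_apply, if_neg]
      intro hk
      refine Fin.cases ?_ ?_ k hk
      · intro h0
        simp only [F, Fin.cons_zero] at h0
        exact hij h0
      · intro k' h0
        simp only [F, Fin.cons_succ] at h0
        exact hj k' h0
    rw [this, zero_smul]
  have hli : lam (Pi.single i 1) = (Ψ.submatrix f id).det := by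
    simp only [lam, LinearMap.comp_apply, Fintype.linearCombination_apply]
    rw [Fin.sum_univ_succ]
    have h2 : ∀ k : Fin m, (LinearMap.funLeft R R F) (Pi.single i (1 : R)) k.succ • sm m ΨF k.succ
        = 0 := by
      intro k
      have : (LinearMap.funLeft R R F) (Pi.single i (1 : R)) k.succ = 0 := by
        simp only [LinearMap.funLeft_apply, F, Fin.cons_succ]
        rw [Pi.single_apply, if_neg (hi k)]
      rw [this, zero_smul]
    simp only [h2, Finset.sum_const_zero, add_zero]
    have h3 : (LinearMap.funLeft R R F) (Pi.single i (1 : R)) 0 = 1 := by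
      simp [LinearMap.funLeft_apply, F]
    rw [h3, one_smul]
    simp only [sm, Fin.val_zero, pow_zero, one_mul, Fin.succAbove_zero]
    rfl
  have h := cross (Pi.single j 1) (Pi.single i 1)
  rw [hlj, hli, mul_zero] at h
  rw [mul_comm]
  exact h

include hex in
/-- squares of maximal minors kill all the generators, when `n ≠ m + 1` -/
lemma minor_sq_mul (hn : n ≠ m + 1) (f : Fin m → Fin n) (j : Fin n) :
    (Ψ.submatrix f id).det ^ 2 * π (Pi.single j 1) = 0 := by
  classical
  by_cases hf : Function.Injective f
  · set D := (Ψ.submatrix f id).det with hD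
    by_cases hj : ∃ k, f k = j
    · -- Cramer
      have hout : ∀ j', (∀ k, f k ≠ j') → D * π (Pi.single j' 1) = 0 :=
        fun j' hj' => minor_mul_outside m n Ψ π hex hn f hf j' hj'
      have hcol : ∀ c : Fin m, ∑ k, (D * π (Pi.single (f k) 1)) * (Ψ.submatrix f id) k c = 0 := by
        intro c
        have h1 : π (Ψ.mulVec (Pi.single c 1)) = 0 := by
          have : Ψ.mulVec (Pi.single c 1) ∈ LinearMap.ker π := by rw [hex]; exact ⟨_, rfl⟩
          exact this
        rw [pi_eq] at h1
        have h2 : ∑ j', D * (Ψ.mulVec (Pi.single c 1) j' * π (Pi.single j' 1)) = 0 := by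
          rw [← Finset.mul_sum, h1, mul_zero]
        rw [← h2]
        apply Fintype.sum_of_injective f hf
        · intro j' hj'
          have : ∀ k, f k ≠ j' := fun k hk => hj' ⟨k, hk⟩
          have h3 := hout j' this
          linear_combination (Ψ.mulVec (Pi.single c 1) j') * h3
        · intro k
          simp only [Matrix.submatrix_apply, id, Matrix.mulVec_single, MulOpposite.op_one,
            one_smul, Matrix.col_apply]
          ring
      have hvec : Matrix.vecMul (fun k => D * π (Pi.single (f k) 1)) (Ψ.submatrix f id) = 0 := by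
        ext c
        simpa [Matrix.vecMul, dotProduct] using hcol c
      have h4 := congrArg (fun u => Matrix.vecMul u (Matrix.adjugate (Ψ.submatrix f id))) hvec
      simp only [Matrix.vecMul_vecMul, Matrix.mul_adjugate, Matrix.zero_vecMul] at h4
      rw [Matrix.vecMul_smul, Matrix.vecMul_one] at h4
      obtain ⟨k, rfl⟩ := hj
      have h5 := congrFun h4 k
      simp only [Pi.smul_apply, smul_eq_mul, Pi.zero_apply] at h5
      rw [pow_two, mul_assoc]
      exact h5
    · push Not at hj
      have := minor_mul_outside m n Ψ π hex hn f hf j hj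
      rw [pow_two, mul_assoc, this, mul_zero]
  · have hdet : (Ψ.submatrix f id).det = 0 := by
      rw [Function.Injective] at hf
      push Not at hf
      obtain ⟨a, b, hab, hne⟩ := hf
      apply Matrix.det_zero_of_row_eq hne
      ext c
      simp [hab]
    rw [hdet]
    simp


omit hex in
/-- a general minor is zero or plus/minus a minor with `g = id` -/
lemma minor_general (f : Fin m → Fin n) (g : Fin m → Fin m) :
    (Ψ.submatrix f g).det = 0 ∨ (Ψ.submatrix f g).det = (Ψ.submatrix f id).det ∨
      (Ψ.submatrix f g).det = - (Ψ.submatrix f id).det := by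
  classical
  by_cases hg : Function.Injective g
  · right
    have hbij : Function.Bijective g := Finite.injective_iff_bijective.mp hg
    let σ : Equiv.Perm (Fin m) := Equiv.ofBijective g hbij
    have h1 : Ψ.submatrix f g = (Ψ.submatrix f id).submatrix id σ := by
      ext a b
      simp [σ]
    rw [h1, Matrix.det_permute']
    rcases Int.units_eq_one_or (Equiv.Perm.sign σ) with h | h
    · left; rw [h]; simp
    · right; rw [h]; simp
  · left
    rw [Function.Injective] at hg
    push Not at hg
    obtain ⟨a, b, hab, hne⟩ := hg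
    apply Matrix.det_zero_of_column_eq hne
    intro c
    simp [hab]

include hex in
lemma minorIdeal_le_radical (hn : n ≠ m + 1) (j : Fin n) :
    CAlgX.minorIdeal Ψ m ≤ (Ideal.span {π (Pi.single j 1)}).annihilator.radical := by
  unfold CAlgX.minorIdeal
  rw [Ideal.span_le]
  rintro _ ⟨⟨f, g⟩, rfl⟩
  refine ⟨2, ?_⟩
  rw [Submodule.mem_annihilator_span_singleton, smul_eq_mul]
  have h := minor_sq_mul m n Ψ π hex hn f j
  rcases minor_general m n Ψ f g with h1 | h1 | h1
  · simp only; rw [h1]; simp
  · simp only; rw [h1]; exact h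
  · simp only; rw [h1, neg_pow, ← h]; ring

include hex in
/-- the rank count -/
theorem eq_succ (x : R) (hxJ : x ∈ CAlgX.minorIdeal Ψ m) (hx : IsSMulRegular R x)
    (hI : LinearMap.range π ≠ ⊥) : n = m + 1 := by
  by_contra hn
  apply hI
  rw [LinearMap.range_eq_bot]
  apply LinearMap.ext
  intro w
  rw [pi_eq, LinearMap.zero_apply]
  refine Finset.sum_eq_zero fun j _ => ?_
  obtain ⟨k, hk⟩ := minorIdeal_le_radical m n Ψ π hex hn j hxJ
  rw [Submodule.mem_annihilator_span_singleton, smul_eq_mul] at hk
  have hxk : IsSMulRegular R (x ^ k) := hx.pow k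
  have : π (Pi.single j 1) = 0 := by
    apply hxk
    simp only [smul_eq_mul, mul_zero]
    exact hk
  rw [this, mul_zero]

end Rank

section Final

variable {R : Type u} [CommRing R] [IsNoetherianRing R]

theorem main (m n : ℕ) (Ψ : Matrix (Fin n) (Fin m) R) (π : (Fin n → R) →ₗ[R] R)
    (hΨ : LinearMap.ker Ψ.mulVecLin = ⊥) (hex : LinearMap.ker π = LinearMap.range Ψ.mulVecLin)
    (hI : LinearMap.range π ≠ ⊥) :
    n = m + 1 ∧
      (∃ a : R, a ∈ nonZeroDivisors R ∧
        LinearMap.range π = Ideal.span {a} * CAlgX.minorIdeal Ψ m) ∧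
      2 ≤ LocCoh.idealDepth (CAlgX.minorIdeal Ψ m) R := by
  classical
  obtain ⟨x, hxJ, hx⟩ := exists_regular m n Ψ hΨ
  have hn := eq_succ m n Ψ π hex x hxJ hx hI
  subst hn
  have hdepth := two_le_idealDepth m (m + 1) Ψ π hΨ hex
  refine ⟨rfl, ?_, hdepth⟩
  obtain ⟨y, hyJ, hy⟩ := exists_regular_mod m (m + 1) Ψ π hΨ hex x hx
  obtain ⟨-, hker1, hrange1⟩ := Groth.Agent.Helper3.HilbertBurch.main m Ψ hdepth 1
    (one_mem (nonZeroDivisors R))
  have hfun : (fun i : Fin (m + 1) => (1 : R) * ((-1 : R) ^ (i : ℕ) *
      (Ψ.submatrix i.succAbove id).det)) = sm m Ψ := by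
    ext i
    simp [sm]
  rw [hfun] at hker1 hrange1
  rw [Ideal.span_singleton_one, Ideal.top_mul] at hrange1
  set p := Fintype.linearCombination R (sm m Ψ) with hp
  have hk : ∀ w, p w = 0 → π w = 0 := by
    intro w hw
    have : w ∈ LinearMap.ker p := hw
    rw [hker1, ← hex] at this
    exact this
  have hk' : ∀ w, π w = 0 → p w = 0 := by
    intro w hw
    have : w ∈ LinearMap.ker π := hw
    rw [hex, ← hker1] at this
    exact this
  obtain ⟨a, ha⟩ := exists_mul_of_ker_le p π hk x y (by rw [hrange1]; exact hxJ)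
    (by rw [hrange1]; exact hyJ) hx (dvd_of_quotSMulTop_regular hy)
  obtain ⟨wx, hwx⟩ : x ∈ LinearMap.range p := by rw [hrange1]; exact hxJ
  have haz : ∀ s : R, s * a = 0 → s = 0 := by
    intro s hs
    have h1 : π (s • wx) = 0 := by
      rw [map_smul, ha, smul_eq_mul, ← mul_assoc, hs, zero_mul]
    have h2 := hk' _ h1
    rw [map_smul, hwx, smul_eq_mul] at h2
    apply hx
    simp only [smul_eq_mul, mul_zero]
    rw [mul_comm]
    exact h2
  refine ⟨a, ?_, ?_⟩
  · rw [mem_nonZeroDivisors_iff]
    refine ⟨fun s hs => haz s (by rw [mul_comm]; exact hs), haz⟩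
  · obtain ⟨-, -, hrange⟩ := Groth.Agent.Helper3.HilbertBurch.main m Ψ hdepth a (by
      rw [mem_nonZeroDivisors_iff]
      exact ⟨fun s hs => haz s (by rw [mul_comm]; exact hs), haz⟩)
    rw [← hrange]
    congr 1
    apply LinearMap.ext
    intro w
    rw [ha, hp, Fintype.linearCombination_apply, Fintype.linearCombination_apply, Finset.mul_sum]
    refine Finset.sum_congr rfl fun i _ => ?_
    simp only [smul_eq_mul, sm]
    ring

end Final

end Groth.Agent.Helper3.HB6
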