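import Groth.Prelude.Def_DRing4
import Mathlib.Algebra.Homology.Monoidal
import Mathlib.Algebra.Category.ModuleCat.Monoidal.Basic

/-!
# Tensor-hom adjunction for complexes of modules, on the level of cochains (helper3)
-/

set_option autoImplicit false

open CategoryTheory CategoryTheory.Limits MonoidalCategory CochainComplex HomComplex
open scoped TensorProduct

universe u

namespace Groth.Agent.Helper3.HT

variable {A : Type u} [CommRing A] {K P W : DRing.Cx A}

/-- evaluation of cochains, as a linear map -/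
noncomputable def evC (P W : DRing.Cx A) (n q q' : ℤ) (h : q + n = q') :
    Cochain P W n →ₗ[A] (P.X q →ₗ[A] W.X q') where
  toFun c := (c.v q q' h).hom
  map_add' c c' := by simp
  map_smul' a c := by simp

@[simp]
theorem evC_apply (n q q' : ℤ) (h : q + n = q') (c : Cochain P W n) (y : P.X q) :
    evC P W n q q' h c y = (c.v q q' h).hom y := rfl

/-- an element of the Hom complex, seen as a cochain -/
def toC {i : ℤ} (c : (DRing.homCx P W).X i) : Cochain P W i := c

@[simp] theorem toC_add {i : ℤ} (c c' : (DRing.homCx P W).X i) : toC (c + c') = toC c + toC c' := rfl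

@[simp] theorem toC_smul {i : ℤ} (a : A) (c : (DRing.homCx P W).X i) : toC (a • c) = a • toC c := rfl

@[simp] theorem toC_zsmul {i : ℤ} (a : ℤ) (c : (DRing.homCx P W).X i) :
    toC (a • c) = a • toC c := rfl

@[simp] theorem toC_units_smul {i : ℤ} (a : ℤˣ) (c : (DRing.homCx P W).X i) :
    toC (a • c) = a • toC c := rfl

theorem toC_d {i j : ℤ} (c : (DRing.homCx P W).X i) :
    toC (((DRing.homCx P W).d i j).hom c) = δ i j (toC c) := rfl

/-- the bilinear map attached to a cochain with values in the Hom complex -/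
noncomputable def bil {n : ℤ} (ζ : Cochain K (DRing.homCx P W) n) (p q m' : ℤ)
    (h : p + q + n = m') : K.X p →ₗ[A] P.X q →ₗ[A] W.X m' :=
  (evC P W (p + n) q m' (by omega)).comp (ζ.v p (p + n) rfl).hom

/-- uncurrying: from cochains `K ⟶ Hom(P, W)` to cochains `K ⊗ P ⟶ W` -/
noncomputable def unc {n : ℤ} (ζ : Cochain K (DRing.homCx P W) n) : Cochain (K ⊗ P) W n :=
  Cochain.mk fun m m' hm =>
    HomologicalComplex.mapBifunctorDesc (fun p q (hpq : p + q = m) =>
      ModuleCat.ofHom (TensorProduct.lift (bil ζ p q m' (by omega))))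


theorem ι_unc_v {n : ℤ} (ζ : Cochain K (DRing.homCx P W) n) (p q m m' : ℤ) (hpq : p + q = m)
    (hm : m + n = m') :
    HomologicalComplex.ιTensorObj K P p q m hpq ≫ (unc ζ).v m m' hm =
      ModuleCat.ofHom (TensorProduct.lift (bil ζ p q m' (by omega))) := by
  dsimp only [unc]
  rw [Cochain.mk_v]
  exact HomologicalComplex.ι_mapBifunctorDesc _ p q hpq

theorem unc_v_tmul {n : ℤ} (ζ : Cochain K (DRing.homCx P W) n) (p q m m' p' : ℤ) (hpq : p + q = m)
    (hm : m + n = m') (hp' : p + n = p') (x : K.X p) (y : P.X q) :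
    ((unc ζ).v m m' hm).hom ((HomologicalComplex.ιTensorObj K P p q m hpq).hom (x ⊗ₜ[A] y)) =
      ((toC ((ζ.v p p' hp').hom x)).v q m' (by omega)).hom y := by
  subst hp'
  have h := ι_unc_v ζ p q m m' hpq hm
  have h2 := congrArg (fun φ => φ.hom (x ⊗ₜ[A] y)) h
  exact h2


theorem ι_d (p q m m₂ p₁ q₁ : ℤ) (hpq : p + q = m) (hm : m + 1 = m₂) (hp : p + 1 = p₁)
    (hq : q + 1 = q₁) :
    HomologicalComplex.ιTensorObj K P p q m hpq ≫ (K ⊗ P).d m m₂ =
      (K.d p p₁ ▷ P.X q) ≫ HomologicalComplex.ιTensorObj K P p₁ q m₂ (by omega) +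
      p.negOnePow • ((K.X p ◁ P.d q q₁) ≫
        HomologicalComplex.ιTensorObj K P p q₁ m₂ (by omega)) := by
  subst hp hq hm
  change HomologicalComplex.ιMapBifunctor K P (curriedTensor (ModuleCat.{u} A))
      (ComplexShape.up ℤ) p q m hpq ≫
    (HomologicalComplex.mapBifunctor K P (curriedTensor (ModuleCat.{u} A))
      (ComplexShape.up ℤ)).d m (m + 1) = _
  rw [HomologicalComplex.mapBifunctor.d_eq, Preadditive.comp_add,
    HomologicalComplex.mapBifunctor.ι_D₁, HomologicalComplex.mapBifunctor.ι_D₂,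
    HomologicalComplex.mapBifunctor.d₁_eq K P _ _
      (show (ComplexShape.up ℤ).Rel p (p + 1) from rfl) q (m + 1) (by dsimp; omega),
    HomologicalComplex.mapBifunctor.d₂_eq K P _ _ p
      (show (ComplexShape.up ℤ).Rel q (q + 1) from rfl) (m + 1) (by dsimp; omega)]
  simp

theorem d_tmul (p q m m₂ p₁ q₁ : ℤ) (hpq : p + q = m) (hm : m + 1 = m₂) (hp : p + 1 = p₁)
    (hq : q + 1 = q₁) (x : K.X p) (y : P.X q) :
    ((K ⊗ P).d m m₂).hom ((HomologicalComplex.ιTensorObj K P p q m hpq).hom (x ⊗ₜ[A] y)) =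
      (HomologicalComplex.ιTensorObj K P p₁ q m₂ (by omega)).hom ((K.d p p₁).hom x ⊗ₜ[A] y) +
      p.negOnePow • (HomologicalComplex.ιTensorObj K P p q₁ m₂ (by omega)).hom
        (x ⊗ₜ[A] (P.d q q₁).hom y) := by
  have h := ι_d (K := K) (P := P) p q m m₂ p₁ q₁ hpq hm hp hq
  have h2 := congrArg (fun φ => φ.hom (x ⊗ₜ[A] y)) h
  simpa using h2

set_option maxHeartbeats 400000 in
theorem δ_unc {n n' : ℤ} (hnn' : n + 1 = n') (ζ : Cochain K (DRing.homCx P W) n) :
    δ n n' (unc ζ) = unc (δ n n' ζ) := by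
  refine Cochain.ext _ _ (fun m m' hm => ?_)
  apply HomologicalComplex.mapBifunctor.hom_ext
  intro p q hpq
  change p + q = m at hpq
  apply ModuleCat.hom_ext
  apply TensorProduct.ext'
  intro x y
  rw [δ_v n n' hnn' (unc ζ) m m' hm (m' - 1) (m + 1) rfl rfl]
  have L1 : (HomologicalComplex.ιMapBifunctor K P (curriedTensor (ModuleCat.{u} A)) (ComplexShape.up ℤ) p q m hpq ≫
      ((unc ζ).v m (m' - 1) (by omega) ≫ W.d (m' - 1) m' +
        n'.negOnePow • (K ⊗ P).d m (m + 1) ≫ (unc ζ).v (m + 1) m' (by omega))).hom (x ⊗ₜ[A] y) =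
      (W.d (m' - 1) m').hom (((unc ζ).v m (m' - 1) (by omega)).hom
        ((HomologicalComplex.ιTensorObj K P p q m hpq).hom (x ⊗ₜ[A] y))) +
      n'.negOnePow • ((unc ζ).v (m + 1) m' (by omega)).hom (((K ⊗ P).d m (m + 1)).hom
        ((HomologicalComplex.ιTensorObj K P p q m hpq).hom (x ⊗ₜ[A] y))) := by
    simp only [ModuleCat.hom_comp, LinearMap.comp_apply, Preadditive.comp_add, ModuleCat.hom_add,
      LinearMap.add_apply, ModuleCat.hom_smul, LinearMap.smul_apply, Linear.comp_units_smul]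
  have R1 : (HomologicalComplex.ιMapBifunctor K P (curriedTensor (ModuleCat.{u} A)) (ComplexShape.up ℤ) p q m hpq ≫
      (unc (δ n n' ζ)).v m m' hm).hom (x ⊗ₜ[A] y) =
      ((toC (((δ n n' ζ).v p (p + n') rfl).hom x)).v q m' (by omega)).hom y :=
    unc_v_tmul (δ n n' ζ) p q m m' (p + n') hpq hm rfl x y
  refine L1.trans (Eq.trans ?_ R1.symm)
  rw [unc_v_tmul ζ p q m (m' - 1) (p + n) hpq (by omega) rfl x y,
    d_tmul p q m (m + 1) (p + 1) (q + 1) hpq rfl rfl rfl x y, map_add, Units.smul_def p.negOnePow, map_zsmul,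
    unc_v_tmul ζ (p + 1) q (m + 1) m' (p + n') (by omega) (by omega) (by omega),
    unc_v_tmul ζ p (q + 1) (m + 1) m' (p + n) (by omega) (by omega) rfl,
    δ_v n n' hnn' ζ p (p + n') rfl (p + n) (p + 1) (by omega) rfl]
  have R2 : toC ((ζ.v p (p + n) (by omega) ≫ (DRing.homCx P W).d (p + n) (p + n') +
      n'.negOnePow • K.d p (p + 1) ≫ ζ.v (p + 1) (p + n') (by omega)).hom x) =
      δ (p + n) (p + n') (toC ((ζ.v p (p + n) (by omega)).hom x)) +
        n'.negOnePow • toC ((ζ.v (p + 1) (p + n') (by omega)).hom ((K.d p (p + 1)).hom x)) := by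
    simp only [ModuleCat.hom_add, LinearMap.add_apply, ModuleCat.hom_comp, LinearMap.comp_apply,
      ModuleCat.hom_smul, LinearMap.smul_apply, toC_add, toC_units_smul, toC_d]
  rw [R2, Cochain.add_v, Cochain.units_smul_v,
    δ_v (p + n) (p + n') (by omega) _ q m' (by omega) (m' - 1) (q + 1) rfl rfl]
  simp only [ModuleCat.hom_add, LinearMap.add_apply, ModuleCat.hom_comp, LinearMap.comp_apply,
    ModuleCat.hom_smul, LinearMap.smul_apply, Int.negOnePow_add, Units.smul_def, smul_add, smul_smul,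
    Units.val_mul]
  rw [mul_comm (↑n'.negOnePow : ℤ) (↑p.negOnePow : ℤ)]
  abel

/-- the cochain `y ↦ z (x ⊗ y)` -/
noncomputable def curC {n : ℤ} (z : Cochain (K ⊗ P) W n) (p p' : ℤ) (hp : p + n = p') (x : K.X p) :
    Cochain P W p' :=
  Cochain.mk fun q q' hq =>
    ModuleCat.ofHom ((HomologicalComplex.ιTensorObj K P p q (p + q) rfl ≫
      z.v (p + q) q' (by omega)).hom ∘ₗ TensorProduct.mk A (K.X p) (P.X q) x)

theorem curC_v_apply {n : ℤ} (z : Cochain (K ⊗ P) W n) (p p' : ℤ) (hp : p + n = p') (x : K.X p)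
    (q q' : ℤ) (hq : q + p' = q') (m : ℤ) (hm : p + q = m) (y : P.X q) :
    ((curC z p p' hp x).v q q' hq).hom y =
      (z.v m q' (by omega)).hom ((HomologicalComplex.ιTensorObj K P p q m hm).hom (x ⊗ₜ[A] y)) := by
  subst hm
  rfl

/-- currying, as a linear map -/
noncomputable def curL {n : ℤ} (z : Cochain (K ⊗ P) W n) (p p' : ℤ) (hp : p + n = p') :
    K.X p →ₗ[A] Cochain P W p' where
  toFun x := curC z p p' hp x
  map_add' x x' := by
    refine Cochain.ext _ _ (fun q q' hq => ?_)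
    apply ModuleCat.hom_ext
    ext y
    rw [Cochain.add_v, ModuleCat.hom_add, LinearMap.add_apply, curC_v_apply z p p' hp _ q q' hq _ rfl,
      curC_v_apply z p p' hp _ q q' hq _ rfl, curC_v_apply z p p' hp _ q q' hq _ rfl,
      TensorProduct.add_tmul, map_add, map_add]
  map_smul' a x := by
    refine Cochain.ext _ _ (fun q q' hq => ?_)
    apply ModuleCat.hom_ext
    ext y
    rw [Cochain.smul_v, ModuleCat.hom_smul, LinearMap.smul_apply, RingHom.id_apply,
      curC_v_apply z p p' hp _ q q' hq _ rfl, curC_v_apply z p p' hp _ q q' hq _ rfl,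
      ← TensorProduct.smul_tmul', map_smul, map_smul]

/-- currying: from cochains `K ⊗ P ⟶ W` to cochains `K ⟶ Hom(P, W)` -/
noncomputable def cur {n : ℤ} (z : Cochain (K ⊗ P) W n) : Cochain K (DRing.homCx P W) n :=
  Cochain.mk fun p p' hp => ModuleCat.ofHom (curL z p p' hp)

theorem toC_cur_v {n : ℤ} (z : Cochain (K ⊗ P) W n) (p p' : ℤ) (hp : p + n = p') (x : K.X p) :
    toC (((cur z).v p p' hp).hom x) = curC z p p' hp x := rfl


theorem unc_cur {n : ℤ} (z : Cochain (K ⊗ P) W n) : unc (cur z) = z := by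
  refine Cochain.ext _ _ (fun m m' hm => ?_)
  apply HomologicalComplex.mapBifunctor.hom_ext
  intro p q hpq
  change p + q = m at hpq
  apply ModuleCat.hom_ext
  apply TensorProduct.ext'
  intro x y
  refine (unc_v_tmul (cur z) p q m m' (p + n) hpq hm rfl x y).trans ?_
  rw [toC_cur_v, curC_v_apply z p (p + n) rfl x q m' (by omega) m hpq y]
  rfl

theorem toC_injective {i : ℤ} {c c' : (DRing.homCx P W).X i} (h : toC c = toC c') : c = c' := h

theorem cur_unc {n : ℤ} (ζ : Cochain K (DRing.homCx P W) n) : cur (unc ζ) = ζ := by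
  refine Cochain.ext _ _ (fun p p' hp => ?_)
  apply ModuleCat.hom_ext
  ext x
  apply toC_injective
  rw [toC_cur_v]
  refine Cochain.ext _ _ (fun q q' hq => ?_)
  apply ModuleCat.hom_ext
  ext y
  rw [curC_v_apply (unc ζ) p p' hp x q q' hq (p + q) rfl y]
  exact unc_v_tmul ζ p q (p + q) q' p' rfl (by omega) hp x y

theorem δ_cur {n n' : ℤ} (hnn' : n + 1 = n') (z : Cochain (K ⊗ P) W n) :
    δ n n' (cur z) = cur (δ n n' z) := by
  have h := δ_unc hnn' (cur z)
  rw [unc_cur] at h
  rw [h, cur_unc]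


end Groth.Agent.Helper3.HT
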