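import Groth.Agent.Lib.Helper3.HT2

set_option autoImplicit false

open CategoryTheory CategoryTheory.Limits MonoidalCategory CochainComplex HomComplex
open scoped TensorProduct

universe u

namespace Groth.Agent.Helper3.HT

variable {A : Type u} [CommRing A] {S S' P P' W W' : DRing.Cx A}

@[reassoc]
theorem ι_whiskerRight (f : S ⟶ S') (P : DRing.Cx A) (p q m : ℤ) (h : p + q = m) :
    HomologicalComplex.ιTensorObj S P p q m h ≫ (f ▷ P).f m =
      (f.f p ▷ P.X q) ≫ HomologicalComplex.ιTensorObj S' P p q m h := by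
  change HomologicalComplex.ιMapBifunctor S P (curriedTensor (ModuleCat.{u} A)) (ComplexShape.up ℤ) p q m h ≫
    (HomologicalComplex.mapBifunctorMap f (𝟙 P) _ _).f m = _
  rw [HomologicalComplex.ι_mapBifunctorMap]
  simp

@[reassoc]
theorem ι_whiskerLeft (S : DRing.Cx A) (g : P ⟶ P') (p q m : ℤ) (h : p + q = m) :
    HomologicalComplex.ιTensorObj S P p q m h ≫ (S ◁ g).f m =
      (S.X p ◁ g.f q) ≫ HomologicalComplex.ιTensorObj S P' p q m h := by
  change HomologicalComplex.ιMapBifunctor S P (curriedTensor (ModuleCat.{u} A)) (ComplexShape.up ℤ) p q m h ≫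
    (HomologicalComplex.mapBifunctorMap (𝟙 S) g _ _).f m = _
  rw [HomologicalComplex.ι_mapBifunctorMap]
  simp

theorem whiskerRight_ι_tmul (f : S ⟶ S') (P : DRing.Cx A) (p q m : ℤ) (h : p + q = m)
    (x : S.X p) (y : P.X q) :
    ((f ▷ P).f m).hom ((HomologicalComplex.ιTensorObj S P p q m h).hom (x ⊗ₜ[A] y)) =
      (HomologicalComplex.ιTensorObj S' P p q m h).hom ((f.f p).hom x ⊗ₜ[A] y) := by
  have h1 := congrArg (fun φ => φ.hom (x ⊗ₜ[A] y)) (ι_whiskerRight f P p q m h)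
  exact h1

theorem whiskerLeft_ι_tmul (S : DRing.Cx A) (g : P ⟶ P') (p q m : ℤ) (h : p + q = m)
    (x : S.X p) (y : P.X q) :
    ((S ◁ g).f m).hom ((HomologicalComplex.ιTensorObj S P p q m h).hom (x ⊗ₜ[A] y)) =
      (HomologicalComplex.ιTensorObj S P' p q m h).hom (x ⊗ₜ[A] (g.f q).hom y) := by
  have h1 := congrArg (fun φ => φ.hom (x ⊗ₜ[A] y)) (ι_whiskerLeft S g p q m h)
  exact h1

theorem unc_zero (n : ℤ) : unc (0 : Cochain S (DRing.homCx P W) n) = 0 := by
  have h := unc_cur (0 : Cochain (S ⊗ P) W n)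
  rw [cur_zero] at h
  exact h

theorem cur_injective {n : ℤ} {z z' : Cochain (S ⊗ P) W n} (h : cur z = cur z') : z = z' := by
  rw [← unc_cur z, ← unc_cur z', h]

theorem unc_injective {n : ℤ} {z z' : Cochain S (DRing.homCx P W) n} (h : unc z = unc z') :
    z = z' := by
  rw [← cur_unc z, ← cur_unc z', h]

/-- currying of chain maps -/
noncomputable def curH (φ : S ⊗ P ⟶ W) : S ⟶ DRing.homCx P W :=
  Cocycle.homOf (Cocycle.mk (cur (Cochain.ofHom φ)) 1 (zero_add 1)
    (by rw [δ_cur (zero_add 1), δ_ofHom, cur_zero]))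

theorem ofHom_curH (φ : S ⊗ P ⟶ W) : Cochain.ofHom (curH φ) = cur (Cochain.ofHom φ) := by
  simp [curH]

/-- uncurrying of chain maps -/
noncomputable def uncH (ψ : S ⟶ DRing.homCx P W) : S ⊗ P ⟶ W :=
  Cocycle.homOf (Cocycle.mk (unc (Cochain.ofHom ψ)) 1 (zero_add 1)
    (by rw [δ_unc (zero_add 1), δ_ofHom, unc_zero]))

theorem ofHom_uncH (ψ : S ⟶ DRing.homCx P W) : Cochain.ofHom (uncH ψ) = unc (Cochain.ofHom ψ) := by
  simp [uncH]

theorem uncH_curH (φ : S ⊗ P ⟶ W) : uncH (curH φ) = φ := by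
  apply Cochain.ofHom_injective
  rw [ofHom_uncH, ofHom_curH, unc_cur]

theorem curH_uncH (ψ : S ⟶ DRing.homCx P W) : curH (uncH ψ) = ψ := by
  apply Cochain.ofHom_injective
  rw [ofHom_curH, ofHom_uncH, cur_unc]

theorem uncH_injective {ψ ψ' : S ⟶ DRing.homCx P W} (h : uncH ψ = uncH ψ') : ψ = ψ' := by
  rw [← curH_uncH ψ, ← curH_uncH ψ', h]

theorem uncH_f_tmul (ψ : S ⟶ DRing.homCx P W) (p q m : ℤ) (h : p + q = m) (x : S.X p) (y : P.X q) :
    ((uncH ψ).f m).hom ((HomologicalComplex.ιTensorObj S P p q m h).hom (x ⊗ₜ[A] y)) =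
      ((toC ((ψ.f p).hom x)).v q m (by omega)).hom y := by
  have h1 : (uncH ψ).f m = (unc (Cochain.ofHom ψ)).v m m (add_zero m) := by
    rw [← ofHom_uncH, Cochain.ofHom_v]
  rw [h1, unc_v_tmul (Cochain.ofHom ψ) p q m m p h (add_zero m) (add_zero p) x y, Cochain.ofHom_v]

/-- the evaluation chain map `Hom(P, W) ⊗ P ⟶ W` -/
noncomputable def evH (P W : DRing.Cx A) : DRing.homCx P W ⊗ P ⟶ W := uncH (𝟙 _)


theorem tensor_hom_ext {φ φ' : S ⊗ P ⟶ W}
    (h : ∀ (p q m : ℤ) (hpq : p + q = m) (x : S.X p) (y : P.X q),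
      (φ.f m).hom ((HomologicalComplex.ιTensorObj S P p q m hpq).hom (x ⊗ₜ[A] y)) =
      (φ'.f m).hom ((HomologicalComplex.ιTensorObj S P p q m hpq).hom (x ⊗ₜ[A] y))) : φ = φ' := by
  apply HomologicalComplex.hom_ext
  intro m
  apply HomologicalComplex.mapBifunctor.hom_ext
  intro p q hpq
  change p + q = m at hpq
  apply ModuleCat.hom_ext
  apply TensorProduct.ext'
  intro x y
  exact h p q m hpq x y

theorem uncH_comp_left (f : S' ⟶ S) (ψ : S ⟶ DRing.homCx P W) :
    uncH (f ≫ ψ) = (f ▷ P) ≫ uncH ψ := by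
  apply tensor_hom_ext
  intro p q m hpq x y
  have hR : (((f ▷ P) ≫ uncH ψ).f m).hom ((HomologicalComplex.ιTensorObj S' P p q m hpq).hom (x ⊗ₜ[A] y)) =
      ((uncH ψ).f m).hom (((f ▷ P).f m).hom
        ((HomologicalComplex.ιTensorObj S' P p q m hpq).hom (x ⊗ₜ[A] y))) := rfl
  rw [hR, whiskerRight_ι_tmul, uncH_f_tmul, uncH_f_tmul]
  rfl

theorem uncH_eq (ψ : S ⟶ DRing.homCx P W) : uncH ψ = (ψ ▷ P) ≫ evH P W := by
  rw [evH, ← uncH_comp_left, Category.comp_id]

theorem uncH_comp_right (ψ : S ⟶ DRing.homCx P W) (g : W ⟶ W') :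
    uncH (ψ ≫ DRing.homCxMap P g) = uncH ψ ≫ g := by
  apply tensor_hom_ext
  intro p q m hpq x y
  have hR : ((uncH ψ ≫ g).f m).hom ((HomologicalComplex.ιTensorObj S P p q m hpq).hom (x ⊗ₜ[A] y)) =
      (g.f m).hom (((uncH ψ).f m).hom
        ((HomologicalComplex.ιTensorObj S P p q m hpq).hom (x ⊗ₜ[A] y))) := rfl
  rw [hR, uncH_f_tmul, uncH_f_tmul]
  change (((toC ((ψ.f p).hom x)).comp (Cochain.ofHom g) (add_zero p)).v q m (by omega)).hom y = _
  rw [Cochain.comp_zero_cochain_v, Cochain.ofHom_v]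
  rfl


theorem unc_add {n : ℤ} (ζ ζ' : Cochain S (DRing.homCx P W) n) :
    unc (ζ + ζ') = unc ζ + unc ζ' := by
  refine Cochain.ext _ _ (fun m m' hm => ?_)
  apply HomologicalComplex.mapBifunctor.hom_ext
  intro p q hpq
  change p + q = m at hpq
  apply ModuleCat.hom_ext
  apply TensorProduct.ext'
  intro x y
  refine (unc_v_tmul (ζ + ζ') p q m m' (p + n) hpq hm rfl x y).trans ?_
  have hR : (HomologicalComplex.ιMapBifunctor S P (curriedTensor (ModuleCat.{u} A)) (ComplexShape.up ℤ) p q m hpq ≫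
      (unc ζ + unc ζ').v m m' hm).hom (x ⊗ₜ[A] y) =
      ((unc ζ).v m m' hm).hom ((HomologicalComplex.ιTensorObj S P p q m hpq).hom (x ⊗ₜ[A] y)) +
      ((unc ζ').v m m' hm).hom ((HomologicalComplex.ιTensorObj S P p q m hpq).hom (x ⊗ₜ[A] y)) := by
    rw [Cochain.add_v]
    rfl
  rw [hR, unc_v_tmul ζ p q m m' (p + n) hpq hm rfl x y, unc_v_tmul ζ' p q m m' (p + n) hpq hm rfl x y]
  rw [Cochain.add_v, ModuleCat.hom_add, LinearMap.add_apply, toC_add, Cochain.add_v, ModuleCat.hom_add,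
    LinearMap.add_apply]

theorem cur_add {n : ℤ} (z z' : Cochain (S ⊗ P) W n) : cur (z + z') = cur z + cur z' := by
  apply unc_injective
  rw [unc_add, unc_cur, unc_cur, unc_cur]

/-- currying preserves homotopies -/
noncomputable def curHomotopy {φ φ' : S ⊗ P ⟶ W} (H : Homotopy φ φ') : Homotopy (curH φ) (curH φ') :=
  (Cochain.equivHomotopy _ _).symm ⟨cur (Cochain.equivHomotopy _ _ H).1, by
    rw [ofHom_curH, ofHom_curH, δ_cur (by omega), ← cur_add, ← (Cochain.equivHomotopy _ _ H).2]⟩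

/-- uncurrying preserves homotopies -/
noncomputable def uncHomotopy {ψ ψ' : S ⟶ DRing.homCx P W} (H : Homotopy ψ ψ') :
    Homotopy (uncH ψ) (uncH ψ') :=
  (Cochain.equivHomotopy _ _).symm ⟨unc (Cochain.equivHomotopy _ _ H).1, by
    rw [ofHom_uncH, ofHom_uncH, δ_unc (by omega), ← unc_add, ← (Cochain.equivHomotopy _ _ H).2]⟩

/-- precomposition with `u` as a linear map on cochains -/
noncomputable def precompLin (u : P' ⟶ P) (W : DRing.Cx A) (i : ℤ) :
    Cochain P W i →ₗ[A] Cochain P' W i where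
  toFun z := (Cochain.ofHom u).comp z (zero_add i)
  map_add' z z' := by simp
  map_smul' a z := by simp

/-- Functoriality of `Hom•(-, W)` in the first variable. -/
noncomputable def homCxPre (u : P' ⟶ P) (W : DRing.Cx A) : DRing.homCx P W ⟶ DRing.homCx P' W where
  f i := ModuleCat.ofHom (precompLin u W i)
  comm' i j _ := by
    ext z
    change δ i j ((Cochain.ofHom u).comp z (zero_add i)) = (Cochain.ofHom u).comp (δ i j z) (zero_add j)
    exact δ_ofHom_comp u z j

theorem toC_homCxPre (u : P' ⟶ P) (W : DRing.Cx A) (i : ℤ) (z : (DRing.homCx P W).X i) :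
    toC (((homCxPre u W).f i).hom z) = (Cochain.ofHom u).comp (toC z) (zero_add i) := rfl

theorem toC_homCxMap (P : DRing.Cx A) (g : W ⟶ W') (i : ℤ) (z : (DRing.homCx P W).X i) :
    toC (((DRing.homCxMap P g).f i).hom z) = (toC z).comp (Cochain.ofHom g) (add_zero i) := rfl

theorem uncH_comp_pre (ψ : S ⟶ DRing.homCx P W) (u : P' ⟶ P) :
    uncH (ψ ≫ homCxPre u W) = (S ◁ u) ≫ uncH ψ := by
  apply tensor_hom_ext
  intro p q m hpq x y
  have hR : (((S ◁ u) ≫ uncH ψ).f m).hom ((HomologicalComplex.ιTensorObj S P' p q m hpq).hom (x ⊗ₜ[A] y)) =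
      ((uncH ψ).f m).hom (((S ◁ u).f m).hom
        ((HomologicalComplex.ιTensorObj S P' p q m hpq).hom (x ⊗ₜ[A] y))) := rfl
  rw [hR, whiskerLeft_ι_tmul, uncH_f_tmul, uncH_f_tmul]
  change (((Cochain.ofHom u).comp (toC ((ψ.f p).hom x)) (zero_add p)).v q m (by omega)).hom y = _
  rw [Cochain.zero_cochain_comp_v, Cochain.ofHom_v]
  rfl

theorem homCxPre_id (P W : DRing.Cx A) : homCxPre (𝟙 P) W = 𝟙 _ := by
  refine HomologicalComplex.hom_ext _ _ fun i => ModuleCat.hom_ext (LinearMap.ext fun (z : Cochain P W i) => ?_)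
  exact Cochain.id_comp z

theorem homCxPre_comp {P'' : DRing.Cx A} (u : P' ⟶ P) (v : P'' ⟶ P') (W : DRing.Cx A) :
    homCxPre (v ≫ u) W = homCxPre u W ≫ homCxPre v W := by
  refine HomologicalComplex.hom_ext _ _ fun i => ModuleCat.hom_ext (LinearMap.ext fun (z : Cochain P W i) => ?_)
  change (Cochain.ofHom (v ≫ u)).comp z (zero_add i) =
    (Cochain.ofHom v).comp ((Cochain.ofHom u).comp z (zero_add i)) (zero_add i)
  rw [Cochain.ofHom_comp]
  exact Cochain.comp_assoc_of_first_is_zero_cochain _ _ _ _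

theorem homCxPre_add (u v : P' ⟶ P) (W : DRing.Cx A) :
    homCxPre (u + v) W = homCxPre u W + homCxPre v W := by
  refine HomologicalComplex.hom_ext _ _ fun i => ModuleCat.hom_ext (LinearMap.ext fun (z : Cochain P W i) => ?_)
  change (Cochain.ofHom (u + v)).comp z (zero_add i) =
    (Cochain.ofHom u).comp z (zero_add i) + (Cochain.ofHom v).comp z (zero_add i)
  rw [Cochain.ofHom_add, Cochain.add_comp]

theorem homCxMap_add (P : DRing.Cx A) (g g' : W ⟶ W') :
    DRing.homCxMap P (g + g') = DRing.homCxMap P g + DRing.homCxMap P g' := by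
  refine HomologicalComplex.hom_ext _ _ fun i => ModuleCat.hom_ext (LinearMap.ext fun (z : Cochain P W i) => ?_)
  change z.comp (Cochain.ofHom (g + g')) (add_zero i) =
    z.comp (Cochain.ofHom g) (add_zero i) + z.comp (Cochain.ofHom g') (add_zero i)
  rw [Cochain.ofHom_add, Cochain.comp_add]

theorem homCxPre_homCxMap (u : P' ⟶ P) (g : W ⟶ W') :
    homCxPre u W ≫ DRing.homCxMap P' g = DRing.homCxMap P g ≫ homCxPre u W' := by
  refine HomologicalComplex.hom_ext _ _ fun i => ModuleCat.hom_ext (LinearMap.ext fun (z : Cochain P W i) => ?_)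
  change ((Cochain.ofHom u).comp z (zero_add i)).comp (Cochain.ofHom g) (add_zero i) =
    (Cochain.ofHom u).comp (z.comp (Cochain.ofHom g) (add_zero i)) (zero_add i)
  exact Cochain.comp_assoc_of_first_is_zero_cochain _ _ _ _

end Groth.Agent.Helper3.HT
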