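import Groth.Agent.Lib.Helper3.HT3

set_option autoImplicit false

open CategoryTheory CategoryTheory.Limits MonoidalCategory CochainComplex HomComplex
open scoped TensorProduct

universe u

namespace Groth.Agent.Helper3.HT

variable {A : Type u} [CommRing A]

theorem ι_associator_hom (X Y Z : DRing.Cx A) (p q j m k : ℤ) (hm : p + q = m) (hk : m + j = k) :
    (HomologicalComplex.ιTensorObj X Y p q m hm ▷ Z.X j) ≫
      HomologicalComplex.ιTensorObj (X ⊗ Y) Z m j k hk ≫ (α_ X Y Z).hom.f k =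
    (α_ (X.X p) (Y.X q) (Z.X j)).hom ≫
      (X.X p ◁ HomologicalComplex.ιTensorObj Y Z q j (q + j) rfl) ≫
      HomologicalComplex.ιTensorObj X (Y ⊗ Z) p (q + j) k (by omega) := by
  have h1 := HomologicalComplex.ι_mapBifunctorAssociatorX_hom
    (associator := curriedAssociatorNatIso (ModuleCat.{u} A)) (K₁ := X) (K₂ := Y) (K₃ := Z)
    (c₁₂ := ComplexShape.up ℤ) (c₂₃ := ComplexShape.up ℤ) (c₄ := ComplexShape.up ℤ) p q j k
    (by dsimp [ComplexShape.r]; omega)
  rw [HomologicalComplex.mapBifunctor₁₂.ι_eq _ _ _ _ _ _ _ p q j m k hm hk,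
    HomologicalComplex.mapBifunctor₂₃.ι_eq _ _ _ _ _ _ _ _ p q j (q + j) k rfl (by dsimp; omega)] at h1
  simp only [curriedAssociatorNatIso_hom_app_app_app, curriedTensor_map_app, curriedTensor_obj_map, Category.assoc] at h1
  exact h1


theorem associator_ι_tmul (X Y Z : DRing.Cx A) (p q j m k : ℤ) (hm : p + q = m) (hk : m + j = k)
    (x : X.X p) (y : Y.X q) (z : Z.X j) :
    ((α_ X Y Z).hom.f k).hom ((HomologicalComplex.ιTensorObj (X ⊗ Y) Z m j k hk).hom
      ((HomologicalComplex.ιTensorObj X Y p q m hm).hom (x ⊗ₜ[A] y) ⊗ₜ[A] z)) =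
    (HomologicalComplex.ιTensorObj X (Y ⊗ Z) p (q + j) k (by omega)).hom
      (x ⊗ₜ[A] (HomologicalComplex.ιTensorObj Y Z q j (q + j) rfl).hom (y ⊗ₜ[A] z)) := by
  have h := congrArg (fun φ => φ.hom ((x ⊗ₜ[A] y) ⊗ₜ[A] z)) (ι_associator_hom X Y Z p q j m k hm hk)
  exact h


theorem curH_f_apply {S P W : DRing.Cx A} (φ : S ⊗ P ⟶ W) (p q m : ℤ) (h : p + q = m)
    (x : S.X p) (y : P.X q) :
    ((toC (((curH φ).f p).hom x)).v q m (by omega)).hom y =
      (φ.f m).hom ((HomologicalComplex.ιTensorObj S P p q m h).hom (x ⊗ₜ[A] y)) := by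
  rw [← uncH_f_tmul (curH φ) p q m h x y, uncH_curH]

theorem evH_f_tmul (P W : DRing.Cx A) (q j k : ℤ) (h : q + j = k) (f : (DRing.homCx P W).X q)
    (y : P.X j) :
    ((evH P W).f k).hom ((HomologicalComplex.ιTensorObj (DRing.homCx P W) P q j k h).hom
      (f ⊗ₜ[A] y)) = ((toC f).v j k (by omega)).hom y :=
  uncH_f_tmul (𝟙 _) q j k h f y


theorem isZero_tensor_left {M : ModuleCat.{u} A} (hM : IsZero M) (N : ModuleCat.{u} A) :
    IsZero (M ⊗ N) := by
  rw [IsZero.iff_id_eq_zero, ← MonoidalCategory.id_whiskerRight, hM.eq_of_src (𝟙 M) 0,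
    MonoidalPreadditive.zero_whiskerRight]

theorem isZero_tensor_right (M : ModuleCat.{u} A) {N : ModuleCat.{u} A} (hN : IsZero N) :
    IsZero (M ⊗ N) := by
  rw [IsZero.iff_id_eq_zero, ← MonoidalCategory.whiskerLeft_id, hN.eq_of_src (𝟙 N) 0,
    MonoidalPreadditive.whiskerLeft_zero]

/-- if `E` is concentrated in degree `b`, the inclusion `E^b ⊗ Y^q ⟶ (E ⊗ Y)^{b+q}` is an iso -/
theorem isIso_ι_left (E Y : DRing.Cx A) (b : ℤ) (hz : ∀ p : ℤ, p ≠ b → IsZero (E.X p))
    (q m : ℤ) (h : b + q = m) : IsIso (HomologicalComplex.ιTensorObj E Y b q m h) := by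
  let π : (E ⊗ Y).X m ⟶ E.X b ⊗ Y.X q :=
    HomologicalComplex.mapBifunctorDesc (fun p' q' (h' : p' + q' = m) =>
      if hp : p' = b then eqToHom (by
        subst hp
        have : q' = q := by omega
        subst this
        rfl) else 0)
  refine ⟨π, ?_, ?_⟩
  · dsimp only [π]
    erw [HomologicalComplex.ι_mapBifunctorDesc]
    rw [dif_pos rfl]
    rfl
  · apply HomologicalComplex.mapBifunctor.hom_ext
    intro p' q' h'
    change p' + q' = m at h'
    by_cases hp : p' = b
    · subst hp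
      have : q' = q := by omega
      subst this
      dsimp only [π]
      erw [HomologicalComplex.ι_mapBifunctorDesc_assoc]
      rw [dif_pos rfl]
      erw [Category.id_comp]
    · exact (isZero_tensor_left (hz p' hp) (Y.X q')).eq_of_src _ _

/-- if `E` is concentrated in degree `b`, the inclusion `Y^q ⊗ E^b ⟶ (Y ⊗ E)^{q+b}` is an iso -/
theorem isIso_ι_right (Y E : DRing.Cx A) (b : ℤ) (hz : ∀ p : ℤ, p ≠ b → IsZero (E.X p))
    (q m : ℤ) (h : q + b = m) : IsIso (HomologicalComplex.ιTensorObj Y E q b m h) := by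
  let π : (Y ⊗ E).X m ⟶ Y.X q ⊗ E.X b :=
    HomologicalComplex.mapBifunctorDesc (fun q' p' (h' : q' + p' = m) =>
      if hp : p' = b then eqToHom (by
        subst hp
        have : q' = q := by omega
        subst this
        rfl) else 0)
  refine ⟨π, ?_, ?_⟩
  · dsimp only [π]
    erw [HomologicalComplex.ι_mapBifunctorDesc]
    rw [dif_pos rfl]
    rfl
  · apply HomologicalComplex.mapBifunctor.hom_ext
    intro q' p' h'
    change q' + p' = m at h'
    by_cases hp : p' = b
    · subst hp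
      have : q' = q := by omega
      subst this
      dsimp only [π]
      erw [HomologicalComplex.ι_mapBifunctorDesc_assoc]
      rw [dif_pos rfl]
      erw [Category.id_comp]
    · exact (isZero_tensor_right (Y.X q') (hz p' hp)).eq_of_src _ _

end Groth.Agent.Helper3.HT
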