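import Mathlib
import Groth.Agent.Lib.Helper29.HypSmooth

/-!
# Jacobian criterion for affine plane curves over a field (helper3)
-/

set_option autoImplicit false
set_option linter.style.haveILetI false

universe u

namespace Groth.Agent.Helper3.PlaneJac

open TensorProduct KaehlerDifferential MvPolynomial

variable (k : Type u) [Field k]

/-- Jacobian criterion for a hypersurface in affine `σ`-space over a field. -/
theorem smooth_quot_iff {σ : Type} [Fintype σ] [DecidableEq σ] (g : MvPolynomial σ k) (hg : g ≠ 0) :
    Algebra.Smooth k (MvPolynomial σ k ⧸ Ideal.span {g}) ↔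
      Ideal.span ({g} ∪ Set.range (fun i : σ => pderiv i g)) = ⊤ := by
  haveI : Algebra.Smooth k (MvPolynomial σ k) := ⟨inferInstance, inferInstance⟩
  haveI : Algebra.FinitePresentation k (MvPolynomial σ k ⧸ Ideal.span {g}) :=
    Algebra.FinitePresentation.quotient ⟨{g}, by simp⟩
  have hreg : IsSMulRegular (MvPolynomial σ k) g := (isRegular_of_ne_zero hg).left.isSMulRegular
  have hsurj : Function.Surjective (algebraMap (MvPolynomial σ k) (MvPolynomial σ k ⧸ Ideal.span {g})) := Ideal.Quotient.mk_surjective
  have hker : RingHom.ker (algebraMap (MvPolynomial σ k) (MvPolynomial σ k ⧸ Ideal.span {g})) = Ideal.span {g} := Ideal.mk_ker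
  have hfs := Groth.Agent.Helper29.HypSmooth.formallySmooth_iff k (MvPolynomial σ k) (MvPolynomial σ k ⧸ Ideal.span {g}) g hreg hsurj hker
  have hsm : Algebra.Smooth k (MvPolynomial σ k ⧸ Ideal.span {g}) ↔ ∀ p : PrimeSpectrum (MvPolynomial σ k ⧸ Ideal.span {g}),
      ((1 : p.asIdeal.ResidueField) ⊗ₜ[(MvPolynomial σ k)] D k (MvPolynomial σ k) g : p.asIdeal.ResidueField ⊗[(MvPolynomial σ k)] Ω[(MvPolynomial σ k)⁄k]) ≠ 0 := by
    constructor
    · intro h p
      rw [← hfs p]
      have : Algebra.smoothLocus k (MvPolynomial σ k ⧸ Ideal.span {g}) = Set.univ := Algebra.smoothLocus_eq_univ_iff.mpr inferInstance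
      have hp : p ∈ Algebra.smoothLocus k (MvPolynomial σ k ⧸ Ideal.span {g}) := by rw [this]; trivial
      exact hp
    · intro h
      have : Algebra.smoothLocus k (MvPolynomial σ k ⧸ Ideal.span {g}) = Set.univ := by
        rw [Set.eq_univ_iff_forall]
        intro p
        exact (hfs p).mpr (h p)
      exact ⟨Algebra.smoothLocus_eq_univ_iff.mp this, inferInstance⟩
  rw [hsm]
  let b := mvPolynomialBasis k σ
  have hdg : D k (MvPolynomial σ k) g = ∑ i, pderiv i g • D k (MvPolynomial σ k) (X i) := by
    have := b.sum_repr (D k (MvPolynomial σ k) g)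
    simp only [b, mvPolynomialBasis_repr_apply, mvPolynomialBasis_apply] at this
    exact this.symm
  constructor
  · intro h
    by_contra hne
    obtain ⟨m, hm, hle⟩ := Ideal.exists_le_maximal _ hne
    have hgm : Ideal.span {g} ≤ m := le_trans (Ideal.span_mono (by simp)) hle
    have hkm : RingHom.ker (Ideal.Quotient.mk (Ideal.span {g})) ≤ m := by
      rw [Ideal.mk_ker]; exact hgm
    have hprime : (m.map (Ideal.Quotient.mk (Ideal.span {g}))).IsPrime :=
      Ideal.map_isPrime_of_surjective Ideal.Quotient.mk_surjective hkm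
    let p : PrimeSpectrum (MvPolynomial σ k ⧸ Ideal.span {g}) := ⟨m.map (Ideal.Quotient.mk (Ideal.span {g})), hprime⟩
    have hz : ∀ x ∈ m, algebraMap (MvPolynomial σ k) p.asIdeal.ResidueField x = 0 := by
      intro x hx
      rw [IsScalarTower.algebraMap_apply (MvPolynomial σ k) (MvPolynomial σ k ⧸ Ideal.span {g}) p.asIdeal.ResidueField,
        Ideal.algebraMap_residueField_eq_zero]
      exact Ideal.mem_map_of_mem _ hx
    apply h p
    rw [hdg, TensorProduct.tmul_sum]
    apply Finset.sum_eq_zero
    intro i _
    have hi : pderiv i g ∈ m := hle (Ideal.subset_span (Or.inr ⟨i, rfl⟩))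
    rw [TensorProduct.tmul_smul, TensorProduct.smul_tmul', Algebra.smul_def, hz _ hi, zero_mul,
      TensorProduct.zero_tmul]
  · intro h p hp
    let bK := b.baseChange p.asIdeal.ResidueField
    have hg0 : algebraMap (MvPolynomial σ k) p.asIdeal.ResidueField g = 0 := by
      rw [IsScalarTower.algebraMap_apply (MvPolynomial σ k) (MvPolynomial σ k ⧸ Ideal.span {g}) p.asIdeal.ResidueField]
      have : algebraMap (MvPolynomial σ k) (MvPolynomial σ k ⧸ Ideal.span {g}) g = 0 := by
        rw [← RingHom.mem_ker, hker]; exact Ideal.mem_span_singleton_self g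
      rw [this, map_zero]
    have hgi : ∀ i, algebraMap (MvPolynomial σ k) p.asIdeal.ResidueField (pderiv i g) = 0 := by
      intro i
      have := congrArg (fun z => bK.repr z i) hp
      simp only [bK, Module.Basis.baseChange_repr_tmul, map_zero, Finsupp.coe_zero,
        Pi.zero_apply, b, mvPolynomialBasis_repr_apply] at this
      rw [Algebra.smul_def, mul_one] at this
      exact this
    have hle : Ideal.span ({g} ∪ Set.range (fun i : σ => pderiv i g)) ≤
        RingHom.ker (algebraMap (MvPolynomial σ k) p.asIdeal.ResidueField) := by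
      rw [Ideal.span_le]
      rintro x (hx | ⟨i, rfl⟩)
      · rw [Set.mem_singleton_iff] at hx
        rw [hx]; exact hg0
      · exact hgi i
    rw [h] at hle
    have h1 : (1 : (MvPolynomial σ k)) ∈ RingHom.ker (algebraMap (MvPolynomial σ k) p.asIdeal.ResidueField) := hle trivial
    rw [RingHom.mem_ker, map_one] at h1
    exact one_ne_zero h1

end Groth.Agent.Helper3.PlaneJac
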