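import Mathlib
import Groth.Agent.Lib.Helper3.PlaneJac

/-!
# Smoothness of the two fibre charts `Q + Ξ w`, `Q w + Ξ` (helper3)
-/

set_option autoImplicit false
set_option linter.style.haveILetI false

universe u v

namespace Groth.Agent.Helper3.HirzA

open Polynomial

variable (k : Type u) [Field k]

/-- `k[t] → k[t, w]`. -/
noncomputable def ι : k[X] →ₐ[k] MvPolynomial (Fin 2) k :=
  Polynomial.aeval (MvPolynomial.X 0)

/-- `k[t, w] → k[t]`, `w ↦ 0`. -/
noncomputable def ρ : MvPolynomial (Fin 2) k →ₐ[k] k[X] :=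
  MvPolynomial.aeval ![Polynomial.X, 0]

lemma ρ_ι (Q : k[X]) : ρ k (ι k Q) = Q := by
  have : (ρ k).comp (ι k) = AlgHom.id k k[X] := by
    apply Polynomial.algHom_ext
    simp [ρ, ι]
  exact AlgHom.congr_fun this Q

lemma ρ_X_one : ρ k (MvPolynomial.X 1) = 0 := by simp [ρ]

lemma ι_injective : Function.Injective (ι k) := fun a b h => by
  rw [← ρ_ι k a, ← ρ_ι k b, h]

lemma pderiv_zero_ι (Q : k[X]) :
    MvPolynomial.pderiv 0 (ι k Q) = ι k (derivative Q) := by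
  have := Derivation.comp_aeval_eq (a := (MvPolynomial.X 0 : MvPolynomial (Fin 2) k))
    (MvPolynomial.pderiv (0 : Fin 2)) Q
  simpa [ι] using this

lemma pderiv_one_ι (Q : k[X]) : MvPolynomial.pderiv 1 (ι k Q) = 0 := by
  have := Derivation.comp_aeval_eq (a := (MvPolynomial.X 0 : MvPolynomial (Fin 2) k))
    (MvPolynomial.pderiv (1 : Fin 2)) Q
  simpa [ι, MvPolynomial.pderiv_X] using this

lemma X_one_ne_zero : (MvPolynomial.X 1 : MvPolynomial (Fin 2) k) ≠ 0 := MvPolynomial.X_ne_zero 1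

lemma chart1_ne_zero (Q Ξ : k[X]) (h : Q ≠ 0 ∨ Ξ ≠ 0) :
    ι k Q + ι k Ξ * MvPolynomial.X 1 ≠ 0 := by
  intro h0
  have h1 := congrArg (ρ k) h0
  rw [map_add, map_mul, ρ_ι, ρ_X_one, mul_zero, add_zero, map_zero] at h1
  subst h1
  rw [map_zero, zero_add, mul_eq_zero] at h0
  rcases h0 with h0 | h0
  · have : Ξ = 0 := ι_injective k (by rw [h0, map_zero])
    rcases h with h | h
    · exact h rfl
    · exact h this
  · exact X_one_ne_zero k h0

lemma chart2_ne_zero (Q Ξ : k[X]) (h : Q ≠ 0 ∨ Ξ ≠ 0) :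
    ι k Q * MvPolynomial.X 1 + ι k Ξ ≠ 0 := by
  intro h0
  have h1 := congrArg (ρ k) h0
  rw [map_add, map_mul, ρ_ι, ρ_X_one, mul_zero, zero_add, ρ_ι, map_zero] at h1
  subst h1
  rw [map_zero, add_zero, mul_eq_zero] at h0
  rcases h0 with h0 | h0
  · have : Q = 0 := ι_injective k (by rw [h0, map_zero])
    rcases h with h | h
    · exact h this
    · exact h rfl
  · exact X_one_ne_zero k h0

lemma pderiv_chart1 (Q Ξ : k[X]) :
    MvPolynomial.pderiv 0 (ι k Q + ι k Ξ * MvPolynomial.X 1) =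
      ι k (derivative Q) + ι k (derivative Ξ) * MvPolynomial.X 1 ∧
    MvPolynomial.pderiv 1 (ι k Q + ι k Ξ * MvPolynomial.X 1) = ι k Ξ := by
  constructor
  · rw [map_add, Derivation.leibniz, pderiv_zero_ι, pderiv_zero_ι, MvPolynomial.pderiv_X]
    simp [mul_comm]
  · rw [map_add, Derivation.leibniz, pderiv_one_ι, pderiv_one_ι, MvPolynomial.pderiv_X]
    simp

lemma pderiv_chart2 (Q Ξ : k[X]) :
    MvPolynomial.pderiv 0 (ι k Q * MvPolynomial.X 1 + ι k Ξ) =
      ι k (derivative Q) * MvPolynomial.X 1 + ι k (derivative Ξ) ∧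
    MvPolynomial.pderiv 1 (ι k Q * MvPolynomial.X 1 + ι k Ξ) = ι k Q := by
  constructor
  · rw [map_add, Derivation.leibniz, pderiv_zero_ι, pderiv_zero_ι, MvPolynomial.pderiv_X]
    simp [mul_comm]
  · rw [map_add, Derivation.leibniz, pderiv_one_ι, pderiv_one_ι, MvPolynomial.pderiv_X]
    simp

/-- A singular point (over any field extension) obstructs smoothness. -/
theorem not_smooth_of_point (g : MvPolynomial (Fin 2) k) (hg : g ≠ 0)
    (K : Type v) [Field K] [Algebra k K] (pt : Fin 2 → K)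
    (h0 : MvPolynomial.aeval pt g = 0)
    (h1 : ∀ i, MvPolynomial.aeval pt (MvPolynomial.pderiv i g) = 0) :
    ¬ Algebra.Smooth k (MvPolynomial (Fin 2) k ⧸ Ideal.span {g}) := by
  rw [Groth.Agent.Helper3.PlaneJac.smooth_quot_iff k g hg]
  intro htop
  have hle : Ideal.span ({g} ∪ Set.range (fun i : Fin 2 => MvPolynomial.pderiv i g)) ≤
      RingHom.ker (MvPolynomial.aeval pt : MvPolynomial (Fin 2) k →ₐ[k] K) := by
    rw [Ideal.span_le]
    rintro x (hx | ⟨i, rfl⟩)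
    · rw [Set.mem_singleton_iff] at hx
      rw [hx]; exact h0
    · exact h1 i
  rw [htop] at hle
  have h2 : (1 : MvPolynomial (Fin 2) k) ∈
      RingHom.ker (MvPolynomial.aeval pt : MvPolynomial (Fin 2) k →ₐ[k] K) := hle trivial
  rw [RingHom.mem_ker, map_one] at h2
  exact one_ne_zero h2

lemma aeval_ι {K : Type v} [Field K] [Algebra k K] (pt : Fin 2 → K) (Q : k[X]) :
    MvPolynomial.aeval pt (ι k Q) = Polynomial.aeval (pt 0) Q := by
  rw [ι, ← Polynomial.aeval_algHom_apply, MvPolynomial.aeval_X]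

lemma exists_irreducible_dvd (Q Ξ : k[X]) (h : Q ≠ 0 ∨ Ξ ≠ 0) (hc : ¬ IsCoprime Q Ξ) :
    ∃ π : k[X], Irreducible π ∧ π ∣ Q ∧ π ∣ Ξ := by
  classical
  have hd0 : EuclideanDomain.gcd Q Ξ ≠ 0 := by
    intro h0
    rw [EuclideanDomain.gcd_eq_zero_iff] at h0
    rcases h with h | h
    · exact h h0.1
    · exact h h0.2
  have hdu : ¬ IsUnit (EuclideanDomain.gcd Q Ξ) := by
    intro hu
    exact hc (EuclideanDomain.gcd_isUnit_iff.mp hu)
  obtain ⟨π, hπ, hdvd⟩ := WfDvdMonoid.exists_irreducible_factor hdu hd0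
  exact ⟨π, hπ, hdvd.trans (EuclideanDomain.gcd_dvd_left Q Ξ),
    hdvd.trans (EuclideanDomain.gcd_dvd_right Q Ξ)⟩

theorem charts_smooth_of_isCoprime (Q Ξ : k[X]) (hc : IsCoprime Q Ξ) :
    Algebra.Smooth k (MvPolynomial (Fin 2) k ⧸
      Ideal.span {ι k Q + ι k Ξ * MvPolynomial.X 1}) ∧
    Algebra.Smooth k (MvPolynomial (Fin 2) k ⧸
      Ideal.span {ι k Q * MvPolynomial.X 1 + ι k Ξ}) := by
  have h : Q ≠ 0 ∨ Ξ ≠ 0 := by
    by_contra hcon
    push Not at hcon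
    rw [hcon.1, hcon.2] at hc
    exact not_isCoprime_zero_zero hc
  obtain ⟨a, b, hab⟩ := hc
  have hone : ι k a * ι k Q + ι k b * ι k Ξ = 1 := by
    rw [← map_mul, ← map_mul, ← map_add, hab, map_one]
  constructor
  · rw [Groth.Agent.Helper3.PlaneJac.smooth_quot_iff k _ (chart1_ne_zero k Q Ξ h)]
    set J := Ideal.span ({ι k Q + ι k Ξ * MvPolynomial.X 1} ∪
      Set.range (fun i : Fin 2 => MvPolynomial.pderiv i (ι k Q + ι k Ξ * MvPolynomial.X 1)))
      with hJ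
    have hΞ : ι k Ξ ∈ J := by
      have : MvPolynomial.pderiv 1 (ι k Q + ι k Ξ * MvPolynomial.X 1) ∈ J :=
        Ideal.subset_span (Or.inr ⟨1, rfl⟩)
      rwa [(pderiv_chart1 k Q Ξ).2] at this
    have hg : ι k Q + ι k Ξ * MvPolynomial.X 1 ∈ J := Ideal.subset_span (Or.inl rfl)
    have hQ : ι k Q ∈ J := by
      have := J.sub_mem hg (J.mul_mem_right (MvPolynomial.X 1) hΞ)
      simpa using this
    rw [Ideal.eq_top_iff_one, ← hone]
    exact J.add_mem (J.mul_mem_left _ hQ) (J.mul_mem_left _ hΞ)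
  · rw [Groth.Agent.Helper3.PlaneJac.smooth_quot_iff k _ (chart2_ne_zero k Q Ξ h)]
    set J := Ideal.span ({ι k Q * MvPolynomial.X 1 + ι k Ξ} ∪
      Set.range (fun i : Fin 2 => MvPolynomial.pderiv i (ι k Q * MvPolynomial.X 1 + ι k Ξ)))
      with hJ
    have hQ : ι k Q ∈ J := by
      have : MvPolynomial.pderiv 1 (ι k Q * MvPolynomial.X 1 + ι k Ξ) ∈ J :=
        Ideal.subset_span (Or.inr ⟨1, rfl⟩)
      rwa [(pderiv_chart2 k Q Ξ).2] at this
    have hg : ι k Q * MvPolynomial.X 1 + ι k Ξ ∈ J := Ideal.subset_span (Or.inl rfl)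
    have hΞ : ι k Ξ ∈ J := by
      have := J.sub_mem hg (J.mul_mem_right (MvPolynomial.X 1) hQ)
      simpa using this
    rw [Ideal.eq_top_iff_one, ← hone]
    exact J.add_mem (J.mul_mem_left _ hQ) (J.mul_mem_left _ hΞ)

theorem isCoprime_of_charts_smooth (Q Ξ : k[X]) (h : Q ≠ 0 ∨ Ξ ≠ 0)
    (h1 : Algebra.Smooth k (MvPolynomial (Fin 2) k ⧸
      Ideal.span {ι k Q + ι k Ξ * MvPolynomial.X 1}))
    (h2 : Algebra.Smooth k (MvPolynomial (Fin 2) k ⧸
      Ideal.span {ι k Q * MvPolynomial.X 1 + ι k Ξ})) : IsCoprime Q Ξ := by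
  by_contra hc
  obtain ⟨π, hπ, hπQ, hπΞ⟩ := exists_irreducible_dvd k Q Ξ h hc
  haveI : Fact (Irreducible π) := ⟨hπ⟩
  let K := AdjoinRoot π
  let t0 : K := AdjoinRoot.root π
  have hQ0 : Polynomial.aeval t0 Q = 0 := by
    rw [AdjoinRoot.aeval_eq, AdjoinRoot.mk_eq_zero]; exact hπQ
  have hΞ0 : Polynomial.aeval t0 Ξ = 0 := by
    rw [AdjoinRoot.aeval_eq, AdjoinRoot.mk_eq_zero]; exact hπΞ
  by_cases hd : Polynomial.aeval t0 (derivative Ξ) = 0
  · -- chart 2 singular at (t0, 0)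
    refine not_smooth_of_point k _ (chart2_ne_zero k Q Ξ h) K ![t0, 0] ?_ ?_ h2
    · simp [aeval_ι, hQ0, hΞ0]
    · intro i
      fin_cases i
      · simp only [Fin.zero_eta, (pderiv_chart2 k Q Ξ).1]
        simp [aeval_ι, hd]
      · simp only [Fin.mk_one, (pderiv_chart2 k Q Ξ).2]
        simp [aeval_ι, hQ0]
  · -- chart 1 singular at (t0, -Q'(t0)/Ξ'(t0))
    refine not_smooth_of_point k _ (chart1_ne_zero k Q Ξ h) K
      ![t0, - Polynomial.aeval t0 (derivative Q) / Polynomial.aeval t0 (derivative Ξ)] ?_ ?_ h1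
    · simp [aeval_ι, hQ0, hΞ0]
    · intro i
      fin_cases i
      · simp only [Fin.zero_eta, (pderiv_chart1 k Q Ξ).1]
        simp only [map_add, map_mul, aeval_ι, MvPolynomial.aeval_X, Matrix.cons_val_zero,
          Matrix.cons_val_one]
        show Polynomial.aeval t0 (derivative Q) + Polynomial.aeval t0 (derivative Ξ) *
          (- Polynomial.aeval t0 (derivative Q) / Polynomial.aeval t0 (derivative Ξ)) = 0
        rw [mul_div_assoc', mul_neg, neg_div, mul_div_cancel_left₀ _ hd, add_neg_cancel]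
      · simp only [Fin.mk_one, (pderiv_chart1 k Q Ξ).2]
        simp [aeval_ι, hΞ0]

theorem charts_smooth_iff (Q Ξ : k[X]) (h : Q ≠ 0 ∨ Ξ ≠ 0) :
    (Algebra.Smooth k (MvPolynomial (Fin 2) k ⧸
      Ideal.span {ι k Q + ι k Ξ * MvPolynomial.X 1}) ∧
    Algebra.Smooth k (MvPolynomial (Fin 2) k ⧸
      Ideal.span {ι k Q * MvPolynomial.X 1 + ι k Ξ})) ↔ IsCoprime Q Ξ :=
  ⟨fun hh => isCoprime_of_charts_smooth k Q Ξ h hh.1 hh.2, charts_smooth_of_isCoprime k Q Ξ⟩

end Groth.Agent.Helper3.HirzA
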