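import Mathlib

/-!
# Resultant with size parameters vs coprimality of a pair and of its reflection (helper3)
-/

set_option autoImplicit false
set_option linter.style.haveILetI false

universe u

namespace Groth.Agent.Helper3.HirzB

open Polynomial

variable {k : Type u} [Field k]

lemma isCoprime_iff_one_mem (a b : k[X]) : IsCoprime a b ↔ (1 : k[X]) ∈ Ideal.span {a, b} := by
  rw [Ideal.mem_span_pair]
  rfl

lemma natDegree_lt_of_coeff_eq_zero {f : k[X]} {N : ℕ} (hN : 1 ≤ N) (hf : f.natDegree ≤ N)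
    (h0 : f.coeff N = 0) : f.natDegree < N := by
  rcases lt_or_eq_of_le hf with h | h
  · exact h
  · exfalso
    rw [← h, coeff_natDegree, leadingCoeff_eq_zero] at h0
    rw [h0, natDegree_zero] at h
    omega

lemma isCoprime_X_pow_of_coeff_zero_ne_zero (u : k[X]) (hu : u.coeff 0 ≠ 0) (m : ℕ) :
    IsCoprime (X ^ m) u := by
  apply IsCoprime.pow_left
  refine ⟨- (C (u.coeff 0)⁻¹ * u.divX), C (u.coeff 0)⁻¹, ?_⟩
  have h := Polynomial.divX_mul_X_add u
  calc -(C (u.coeff 0)⁻¹ * u.divX) * X + C (u.coeff 0)⁻¹ * u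
      = C (u.coeff 0)⁻¹ * (u - u.divX * X) := by ring
    _ = C (u.coeff 0)⁻¹ * C (u.coeff 0) := by
      congr 1
      nth_rewrite 1 [← h]
      ring
    _ = 1 := by rw [← C_mul, inv_mul_cancel₀ hu, C_1]

variable (Q Ξ : k[X]) (n : ℕ) (hn : 1 ≤ n) (hQ : Q.natDegree ≤ 2) (hΞ : Ξ.natDegree ≤ n)

include hQ hΞ in
theorem isCoprime_of_resultant_ne_zero (hres : resultant Q Ξ 2 n ≠ 0) : IsCoprime Q Ξ := by
  obtain ⟨p, r, -, -, e⟩ := exists_mul_add_mul_eq_C_resultant Q Ξ hQ hΞ (Or.inl two_ne_zero)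
  refine ⟨C (resultant Q Ξ 2 n)⁻¹ * p, C (resultant Q Ξ 2 n)⁻¹ * r, ?_⟩
  calc C (resultant Q Ξ 2 n)⁻¹ * p * Q + C (resultant Q Ξ 2 n)⁻¹ * r * Ξ
      = C (resultant Q Ξ 2 n)⁻¹ * (Q * p + Ξ * r) := by ring
    _ = 1 := by rw [e, ← C_mul, inv_mul_cancel₀ hres, C_1]

include hn hQ hΞ in
theorem isCoprime_reflect_of_resultant_ne_zero (hres : resultant Q Ξ 2 n ≠ 0) :
    IsCoprime (reflect 2 Q) (reflect n Ξ) := by
  obtain ⟨p, r, hp, hr, e⟩ := exists_mul_add_mul_eq_C_resultant Q Ξ hQ hΞ (Or.inl two_ne_zero)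
  have hp' : p.natDegree ≤ n - 1 := by
    by_cases hp0 : p = 0
    · rw [hp0, natDegree_zero]; omega
    · have := (natDegree_lt_iff_degree_lt hp0).mpr hp
      omega
  have hr' : r.natDegree ≤ 1 := by
    by_cases hr0 : r = 0
    · rw [hr0, natDegree_zero]; omega
    · have := (natDegree_lt_iff_degree_lt hr0).mpr hr
      omega
  have e2 : reflect 2 Q * reflect (n - 1) p + reflect n Ξ * reflect 1 r =
      C (resultant Q Ξ 2 n) * X ^ (n + 1) := by
    rw [← reflect_mul Q p hQ hp', ← reflect_mul Ξ r hΞ hr',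
      show 2 + (n - 1) = n + 1 by omega, ← reflect_add, e, reflect_C]
  rw [isCoprime_iff_one_mem]
  set J := Ideal.span ({reflect 2 Q, reflect n Ξ} : Set k[X]) with hJ
  have hQJ : reflect 2 Q ∈ J := Ideal.subset_span (by simp)
  have hΞJ : reflect n Ξ ∈ J := Ideal.subset_span (by simp)
  have hXJ : (X : k[X]) ^ (n + 1) ∈ J := by
    have h1 : C (resultant Q Ξ 2 n) * X ^ (n + 1) ∈ J := by
      rw [← e2]
      exact J.add_mem (J.mul_mem_right _ hQJ) (J.mul_mem_right _ hΞJ)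
    have h2 := J.mul_mem_left (C (resultant Q Ξ 2 n)⁻¹) h1
    rwa [← mul_assoc, ← C_mul, inv_mul_cancel₀ hres, C_1, one_mul] at h2
  -- one of the constant terms is nonzero
  have hor : (reflect 2 Q).coeff 0 ≠ 0 ∨ (reflect n Ξ).coeff 0 ≠ 0 := by
    by_contra hcon
    push Not at hcon
    rw [coeff_reflect, coeff_reflect, revAt_le (Nat.zero_le _), revAt_le (Nat.zero_le _)] at hcon
    simp only [Nat.sub_zero] at hcon
    exact hres (resultant_eq_zero_of_lt_lt _ _ _ _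
      (natDegree_lt_of_coeff_eq_zero (by norm_num) hQ hcon.1)
      (natDegree_lt_of_coeff_eq_zero hn hΞ hcon.2))
  rcases hor with h | h
  · obtain ⟨a, b, hab⟩ := isCoprime_X_pow_of_coeff_zero_ne_zero _ h (n + 1)
    rw [← hab]
    exact J.add_mem (J.mul_mem_left _ hXJ) (J.mul_mem_left _ hQJ)
  · obtain ⟨a, b, hab⟩ := isCoprime_X_pow_of_coeff_zero_ne_zero _ h (n + 1)
    rw [← hab]
    exact J.add_mem (J.mul_mem_left _ hXJ) (J.mul_mem_left _ hΞJ)

include hn hQ hΞ in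
theorem resultant_ne_zero_of_isCoprime (h1 : IsCoprime Q Ξ)
    (h2 : IsCoprime (reflect 2 Q) (reflect n Ξ)) : resultant Q Ξ 2 n ≠ 0 := by
  have hXnu : ¬ IsUnit (X : k[X]) := not_isUnit_X
  -- not both leading coefficients vanish
  have hlead : ¬ (Q.coeff 2 = 0 ∧ Ξ.coeff n = 0) := by
    rintro ⟨ha, hb⟩
    have hd1 : (X : k[X]) ∣ reflect 2 Q := by
      rw [X_dvd_iff, coeff_reflect, revAt_le (Nat.zero_le _)]; simpa using ha
    have hd2 : (X : k[X]) ∣ reflect n Ξ := by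
      rw [X_dvd_iff, coeff_reflect, revAt_le (Nat.zero_le _)]; simpa using hb
    exact hXnu (h2.isUnit_of_dvd' hd1 hd2)
  have hQ0 : Q ≠ 0 := by
    rintro rfl
    have hu : IsUnit Ξ := isCoprime_zero_left.mp h1
    have hdeg : Ξ.natDegree = 0 := natDegree_eq_zero_of_isUnit hu
    apply hlead
    refine ⟨by simp, ?_⟩
    apply coeff_eq_zero_of_natDegree_lt
    omega
  have e1 : resultant Q Ξ 2 n =
      (-1) ^ (n * (2 - Q.natDegree)) * Ξ.coeff n ^ (2 - Q.natDegree) *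
        (Q.coeff Q.natDegree ^ (n - Ξ.natDegree) * resultant Q Ξ) := by
    have ha := resultant_add_left_deg Q Ξ Q.natDegree n (2 - Q.natDegree) le_rfl
    have hb := resultant_add_right_deg Q Ξ Q.natDegree Ξ.natDegree (n - Ξ.natDegree) le_rfl
    rw [show Q.natDegree + (2 - Q.natDegree) = 2 by omega] at ha
    rw [show Ξ.natDegree + (n - Ξ.natDegree) = n by omega] at hb
    rw [ha, hb]
  rw [e1]
  refine mul_ne_zero (mul_ne_zero (pow_ne_zero _ (by norm_num)) ?_) (mul_ne_zero ?_ ?_)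
  · by_cases hd : Q.natDegree = 2
    · rw [hd]; simp
    · apply pow_ne_zero
      intro hb
      apply hlead
      refine ⟨?_, hb⟩
      apply coeff_eq_zero_of_natDegree_lt
      omega
  · apply pow_ne_zero
    rw [coeff_natDegree]
    exact leadingCoeff_ne_zero.mpr hQ0
  · intro h0
    rw [resultant_eq_zero_iff] at h0
    exact h0.2 h1

include hn hQ hΞ in
theorem resultant_ne_zero_iff :
    resultant Q Ξ 2 n ≠ 0 ↔ IsCoprime Q Ξ ∧ IsCoprime (reflect 2 Q) (reflect n Ξ) :=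
  ⟨fun h => ⟨isCoprime_of_resultant_ne_zero Q Ξ n hQ hΞ h,
    isCoprime_reflect_of_resultant_ne_zero Q Ξ n hn hQ hΞ h⟩,
   fun h => resultant_ne_zero_of_isCoprime Q Ξ n hn hQ hΞ h.1 h.2⟩

end Groth.Agent.Helper3.HirzB
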