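import Mathlib
import Groth.Agent.Lib.Helper3.HirzA
import Groth.Agent.Lib.Helper3.HirzB

/-!
# The four charts of a section of `O(2) ⊕ O(n)` on a Hirzebruch surface (helper3)
-/

set_option autoImplicit false
set_option linter.style.haveILetI false

universe u

namespace Groth.Agent.Helper3.HirzC

open Polynomial Groth.Agent.Helper3.HirzA

variable (k : Type u) [Field k]

/-- the polynomial with coefficient vector `c`. -/
noncomputable def poly {M : ℕ} (c : Fin M → k) : k[X] := ∑ i : Fin M, C (c i) * X ^ (i : ℕ)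

variable {k}

lemma coeff_poly {M : ℕ} (c : Fin M → k) (i : Fin M) : (poly k c).coeff i = c i := by
  classical
  rw [poly, finset_sum_coeff]
  simp only [coeff_C_mul, coeff_X_pow]
  rw [Finset.sum_eq_single i]
  · simp
  · intro j _ hji
    have : (i : ℕ) ≠ (j : ℕ) := fun h => hji (Fin.ext h.symm)
    simp [this]
  · simp

lemma poly_eq_zero_iff {M : ℕ} (c : Fin M → k) : poly k c = 0 ↔ c = 0 := by
  constructor
  · intro h
    funext i
    rw [← coeff_poly c i, h, coeff_zero, Pi.zero_apply]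
  · rintro rfl
    simp [poly]

lemma natDegree_poly_le {M N : ℕ} (hMN : M = N + 1) (c : Fin M → k) :
    (poly k c).natDegree ≤ N := by
  apply natDegree_sum_le_of_forall_le
  intro i _
  refine (natDegree_C_mul_X_pow_le _ _).trans ?_
  have := i.2
  omega

lemma ι_poly {M : ℕ} (c : Fin M → k) :
    ι k (poly k c) = ∑ i : Fin M, MvPolynomial.C (c i) * MvPolynomial.X 0 ^ (i : ℕ) := by
  rw [poly, map_sum]
  refine Finset.sum_congr rfl fun i _ => ?_
  simp [ι, MvPolynomial.algebraMap_eq]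

lemma reflect_sum {ι' : Type*} (s : Finset ι') (f : ι' → k[X]) (N : ℕ) :
    reflect N (∑ i ∈ s, f i) = ∑ i ∈ s, reflect N (f i) := by
  classical
  induction s using Finset.induction_on with
  | empty => simp
  | insert a s ha ih => rw [Finset.sum_insert ha, Finset.sum_insert ha, reflect_add, ih]

lemma reflect_poly {M N : ℕ} (hMN : M = N + 1) (c : Fin M → k) :
    reflect N (poly k c) = ∑ i : Fin M, C (c i) * X ^ (N - (i : ℕ)) := by
  rw [poly, reflect_sum]
  refine Finset.sum_congr rfl fun i _ => ?_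
  rw [reflect_C_mul_X_pow, revAt_le]
  have := i.2
  omega

lemma ι_reflect_poly {M N : ℕ} (hMN : M = N + 1) (c : Fin M → k) :
    ι k (reflect N (poly k c)) =
      ∑ i : Fin M, MvPolynomial.C (c i) * MvPolynomial.X 0 ^ (N - (i : ℕ)) := by
  rw [reflect_poly hMN, map_sum]
  refine Finset.sum_congr rfl fun i _ => ?_
  simp [ι, MvPolynomial.algebraMap_eq]

theorem main (n : ℕ) (hn : 3 ≤ n) (q : Fin 3 → k) (ξ : Fin (n + 1) → k) (hqξ : q ≠ 0 ∨ ξ ≠ 0) :
    (Algebra.Smooth k (MvPolynomial (Fin 2) k ⧸ Ideal.span ({(∑ i : Fin 3, MvPolynomial.C (q i) * MvPolynomial.X 0 ^ (i : ℕ)) + (∑ j : Fin (n + 1), MvPolynomial.C (ξ j) * MvPolynomial.X 0 ^ (j : ℕ)) * MvPolynomial.X 1} : Set (MvPolynomial (Fin 2) k))) ∧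
      Algebra.Smooth k (MvPolynomial (Fin 2) k ⧸ Ideal.span ({(∑ i : Fin 3, MvPolynomial.C (q i) * MvPolynomial.X 0 ^ (i : ℕ)) * MvPolynomial.X 1 + (∑ j : Fin (n + 1), MvPolynomial.C (ξ j) * MvPolynomial.X 0 ^ (j : ℕ))} : Set (MvPolynomial (Fin 2) k))) ∧
      Algebra.Smooth k (MvPolynomial (Fin 2) k ⧸ Ideal.span ({(∑ i : Fin 3, MvPolynomial.C (q i) * MvPolynomial.X 0 ^ (2 - (i : ℕ))) + (∑ j : Fin (n + 1), MvPolynomial.C (ξ j) * MvPolynomial.X 0 ^ (n - (j : ℕ))) * MvPolynomial.X 1} : Set (MvPolynomial (Fin 2) k))) ∧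
      Algebra.Smooth k (MvPolynomial (Fin 2) k ⧸ Ideal.span ({(∑ i : Fin 3, MvPolynomial.C (q i) * MvPolynomial.X 0 ^ (2 - (i : ℕ))) * MvPolynomial.X 1 + (∑ j : Fin (n + 1), MvPolynomial.C (ξ j) * MvPolynomial.X 0 ^ (n - (j : ℕ)))} : Set (MvPolynomial (Fin 2) k)))) ↔
    Polynomial.resultant (∑ i : Fin 3, Polynomial.C (q i) * Polynomial.X ^ (i : ℕ))
      (∑ j : Fin (n + 1), Polynomial.C (ξ j) * Polynomial.X ^ (j : ℕ)) 2 n ≠ 0 := by
  have hne : poly k q ≠ 0 ∨ poly k ξ ≠ 0 := by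
    rcases hqξ with h | h
    · exact Or.inl fun h0 => h ((poly_eq_zero_iff q).mp h0)
    · exact Or.inr fun h0 => h ((poly_eq_zero_iff ξ).mp h0)
  have hne' : reflect 2 (poly k q) ≠ 0 ∨ reflect n (poly k ξ) ≠ 0 := by
    rcases hne with h | h
    · exact Or.inl fun h0 => h (reflect_eq_zero_iff.mp h0)
    · exact Or.inr fun h0 => h (reflect_eq_zero_iff.mp h0)
  have hQ : (poly k q).natDegree ≤ 2 := natDegree_poly_le rfl q
  have hΞ : (poly k ξ).natDegree ≤ n := natDegree_poly_le rfl ξ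
  have h1 := charts_smooth_iff k (poly k q) (poly k ξ) hne
  have h2 := charts_smooth_iff k (reflect 2 (poly k q)) (reflect n (poly k ξ)) hne'
  have h3 := Groth.Agent.Helper3.HirzB.resultant_ne_zero_iff (poly k q) (poly k ξ) n (by omega) hQ hΞ
  rw [ι_poly, ι_poly] at h1
  rw [ι_reflect_poly rfl, ι_reflect_poly rfl] at h2
  rw [← and_assoc, h1, h2]
  exact h3.symm

end Groth.Agent.Helper3.HirzC
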