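import Mathlib

universe u v

open TensorProduct Coalgebra

namespace Groth.Agent.Helper3.HopfOmega

variable (K : Type u) [Field K] (B : Type v) [CommRing B] [HopfAlgebra K B]

/-- The action map `B ⊗ N → N`. -/
noncomputable def act (N : Type*) [AddCommGroup N] [Module K N] [Module B N] [IsScalarTower K B N] :
    B ⊗[K] N →ₗ[K] N :=
  TensorProduct.lift (Algebra.lsmul K K N).toLinearMap

@[simp] lemma act_tmul (N : Type*) [AddCommGroup N] [Module K N] [Module B N]
    [IsScalarTower K B N] (b : B) (n : N) : act K B N (b ⊗ₜ n) = b • n := by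
  simp [act]

/-- The subspace `K·1 + I²`. -/
def W : Submodule K B :=
  Submodule.span K ({1} ∪ {x | ∃ a b : B, counit (R := K) a = 0 ∧ counit (R := K) b = 0 ∧ x = a * b})

abbrev V := B ⧸ W K B

noncomputable def π : B →ₗ[K] V K B := (W K B).mkQ

lemma π_surjective : Function.Surjective (π K B) := Submodule.mkQ_surjective _

lemma π_one : π K B 1 = 0 := by
  rw [π, Submodule.mkQ_apply, Submodule.Quotient.mk_eq_zero]
  exact Submodule.subset_span (Or.inl rfl)

lemma π_mul (a b : B) : π K B (a * b) = counit (R := K) a • π K B b + counit (R := K) b • π K B a := by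
  have h1 : (a - counit (R := K) a • 1) * (b - counit (R := K) b • 1) ∈ W K B := by
    apply Submodule.subset_span
    right
    refine ⟨_, _, ?_, ?_, rfl⟩
    · rw [map_sub, map_smul, Bialgebra.counit_one, smul_eq_mul, mul_one, sub_self]
    · rw [map_sub, map_smul, Bialgebra.counit_one, smul_eq_mul, mul_one, sub_self]
  have h2 : π K B ((a - counit (R := K) a • 1) * (b - counit (R := K) b • 1)) = 0 := by
    rw [π, Submodule.mkQ_apply, Submodule.Quotient.mk_eq_zero]; exact h1
  have h3 : (a - counit (R := K) a • 1) * (b - counit (R := K) b • 1) =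
      a * b - counit (R := K) a • b - counit (R := K) b • a +
        (counit (R := K) a * counit (R := K) b) • (1 : B) := by
    simp only [sub_mul, mul_sub, smul_mul_assoc, mul_smul_comm, one_mul, mul_one, smul_sub,
      smul_smul]
    rw [mul_comm (counit (R := K) b) (counit (R := K) a)]
    abel
  rw [h3, map_add, map_sub, map_sub, map_smul, map_smul, map_smul, π_one, smul_zero,
    add_zero] at h2
  rw [sub_sub, sub_eq_zero] at h2
  exact h2

/-- `T = id ⊗ π`. -/
noncomputable def T : B ⊗[K] B →ₗ[K] B ⊗[K] V K B := (π K B).lTensor B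

@[simp] lemma T_tmul (a b : B) : T K B (a ⊗ₜ b) = a ⊗ₜ π K B b := by simp [T]

/-- `E (a ⊗ b) = ε(b) a`. -/
noncomputable def E : B ⊗[K] B →ₗ[K] B := (TensorProduct.rid K B).toLinearMap ∘ₗ (counit (R := K)).lTensor B

@[simp] lemma E_tmul (a b : B) : E K B (a ⊗ₜ b) = counit (R := K) b • a := by simp [E]

lemma E_comul (a : B) : E K B (comul a) = a := by
  simp [E]

lemma T_mul (x y : B ⊗[K] B) : T K B (x * y) = E K B x • T K B y + E K B y • T K B x := by
  induction x using TensorProduct.induction_on with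
  | zero => simp
  | add x₁ x₂ h₁ h₂ =>
    rw [add_mul, map_add, h₁, h₂, map_add, map_add, add_smul, smul_add]; abel
  | tmul a b =>
    induction y using TensorProduct.induction_on with
    | zero => simp
    | add y₁ y₂ h₁ h₂ =>
      rw [mul_add, map_add, h₁, h₂, map_add, map_add, add_smul, smul_add]; abel
    | tmul c d =>
      rw [Algebra.TensorProduct.tmul_mul_tmul, T_tmul, T_tmul, T_tmul, E_tmul, E_tmul, π_mul,
        tmul_add, tmul_smul, tmul_smul, TensorProduct.smul_tmul', TensorProduct.smul_tmul',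
        TensorProduct.smul_tmul', TensorProduct.smul_tmul']
      congr 1
      · rw [smul_eq_mul, smul_mul_assoc]
      · rw [smul_eq_mul, smul_mul_assoc, mul_comm c a]

/-- The derivation `D₀ = (id ⊗ π) ∘ Δ`. -/
noncomputable def D₀ : Derivation K B (B ⊗[K] V K B) :=
  Derivation.mk' (T K B ∘ₗ comul) (fun a b => by
    simp only [LinearMap.comp_apply]
    rw [Bialgebra.comul_mul, T_mul, E_comul, E_comul])

lemma D₀_apply (b : B) : D₀ K B b = T K B (comul b) := rfl

/-- `Φ : Ω → B ⊗ V`. -/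
noncomputable def Φ : Ω[B⁄K] →ₗ[B] B ⊗[K] V K B := (D₀ K B).liftKaehlerDifferential

lemma Φ_D (b : B) : Φ K B (KaehlerDifferential.D K B b) = T K B (comul b) := by
  rw [Φ, Derivation.liftKaehlerDifferential_comp_D, D₀_apply]

/-- `G (a ⊗ b) = S(a) • d b`. -/
noncomputable def G : B ⊗[K] B →ₗ[K] Ω[B⁄K] :=
  act K B (Ω[B⁄K]) ∘ₗ TensorProduct.map (HopfAlgebra.antipode K) (KaehlerDifferential.D K B).toLinearMap

@[simp] lemma G_tmul (a b : B) :
    G K B (a ⊗ₜ b) = HopfAlgebra.antipode K a • KaehlerDifferential.D K B b := by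
  simp [G]

/-- `M (a ⊗ b) = S(a) b`. -/
noncomputable def M : B ⊗[K] B →ₗ[K] B :=
  LinearMap.mul' K B ∘ₗ (HopfAlgebra.antipode K).rTensor B

@[simp] lemma M_tmul (a b : B) : M K B (a ⊗ₜ b) = HopfAlgebra.antipode K a * b := by simp [M]

lemma M_comul (a : B) : M K B (comul a) = algebraMap K B (counit a) := by
  simp only [M, LinearMap.comp_apply]
  exact HopfAlgebra.mul_antipode_rTensor_comul_apply a

lemma G_mul (x y : B ⊗[K] B) : G K B (x * y) = M K B x • G K B y + M K B y • G K B x := by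
  induction x using TensorProduct.induction_on with
  | zero => simp
  | add x₁ x₂ h₁ h₂ =>
    rw [add_mul, map_add, h₁, h₂, map_add, map_add, add_smul, smul_add]; abel
  | tmul a b =>
    induction y using TensorProduct.induction_on with
    | zero => simp
    | add y₁ y₂ h₁ h₂ =>
      rw [mul_add, map_add, h₁, h₂, map_add, map_add, add_smul, smul_add]; abel
    | tmul c d =>
      rw [Algebra.TensorProduct.tmul_mul_tmul, G_tmul, G_tmul, G_tmul, M_tmul, M_tmul,
        HopfAlgebra.antipode_mul_distrib, Derivation.leibniz, smul_add, smul_smul, smul_smul,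
        smul_smul, smul_smul]
      congr 1
      · congr 1; ring
      · congr 1; ring

/-- `γ(c) = Σ S(c₁) d(c₂)`. -/
noncomputable def γ : B →ₗ[K] Ω[B⁄K] := G K B ∘ₗ comul

lemma γ_mul (a b : B) :
    γ K B (a * b) = counit (R := K) a • γ K B b + counit (R := K) b • γ K B a := by
  simp only [γ, LinearMap.comp_apply]
  rw [Bialgebra.comul_mul, G_mul, M_comul, M_comul, algebraMap_smul, algebraMap_smul]

lemma γ_one : γ K B 1 = 0 := by
  simp only [γ, LinearMap.comp_apply]
  rw [Bialgebra.comul_one, Algebra.TensorProduct.one_def, G_tmul]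
  simp

lemma W_le_ker : W K B ≤ LinearMap.ker (γ K B) := by
  rw [W, Submodule.span_le]
  rintro x (hx | ⟨a, b, ha, hb, rfl⟩)
  · rw [Set.mem_singleton_iff] at hx
    rw [hx]; exact γ_one K B
  · show γ K B (a * b) = 0
    rw [γ_mul, ha, hb, zero_smul, zero_smul, add_zero]

/-- `γ` descended to `V`. -/
noncomputable def γbar : V K B →ₗ[K] Ω[B⁄K] := (W K B).liftQ (γ K B) (W_le_ker K B)

@[simp] lemma γbar_π (c : B) : γbar K B (π K B c) = γ K B c := by
  simp [γbar, π]

/-- `Ψ : B ⊗ V → Ω`. -/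
noncomputable def Ψ : B ⊗[K] V K B →ₗ[B] Ω[B⁄K] := (γbar K B).liftBaseChange B

@[simp] lemma Ψ_tmul (b : B) (v : V K B) : Ψ K B (b ⊗ₜ v) = b • γbar K B v := by
  simp [Ψ]

/-- `M' (a ⊗ b) = a S(b)`. -/
noncomputable def M' : B ⊗[K] B →ₗ[K] B :=
  LinearMap.mul' K B ∘ₗ (HopfAlgebra.antipode K).lTensor B

@[simp] lemma M'_tmul (a b : B) : M' K B (a ⊗ₜ b) = a * HopfAlgebra.antipode K b := by simp [M']

lemma M'_comul (a : B) : M' K B (comul a) = algebraMap K B (counit a) := by
  simp only [M', LinearMap.comp_apply]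
  exact HopfAlgebra.mul_antipode_lTensor_comul_apply a

/-- `Θ (a ⊗ z) = a • G z`. -/
noncomputable def Θ : B ⊗[K] (B ⊗[K] B) →ₗ[K] Ω[B⁄K] :=
  act K B (Ω[B⁄K]) ∘ₗ (G K B).lTensor B

@[simp] lemma Θ_tmul (a : B) (z : B ⊗[K] B) : Θ K B (a ⊗ₜ z) = a • G K B z := by simp [Θ]

lemma Ψ_T (z : B ⊗[K] B) : Ψ K B (T K B z) = Θ K B ((comul (R := K) (A := B)).lTensor B z) := by
  induction z using TensorProduct.induction_on with
  | zero => simp
  | add x y hx hy => simp only [map_add, hx, hy]
  | tmul a c => simp [γ]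

lemma Θ_assoc (z : B ⊗[K] B) (c : B) :
    Θ K B (TensorProduct.assoc K B B B (z ⊗ₜ c)) = M' K B z • KaehlerDifferential.D K B c := by
  induction z using TensorProduct.induction_on with
  | zero => simp
  | add x y hx hy => rw [add_tmul, map_add, map_add, hx, hy, map_add, add_smul]
  | tmul a b => simp [smul_smul]

lemma Θ_assoc_rTensor (w : B ⊗[K] B) :
    Θ K B (TensorProduct.assoc K B B B ((comul (R := K) (A := B)).rTensor B w)) =
      KaehlerDifferential.D K B (TensorProduct.lid K B ((counit (R := K) (A := B)).rTensor B w)) := by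
  induction w using TensorProduct.induction_on with
  | zero => simp
  | add x y hx hy => simp only [map_add, hx, hy]
  | tmul x c =>
    rw [LinearMap.rTensor_tmul, Θ_assoc, M'_comul, LinearMap.rTensor_tmul, TensorProduct.lid_tmul,
      algebraMap_smul, Derivation.map_smul]

lemma Ψ_Φ_D (b : B) : Ψ K B (Φ K B (KaehlerDifferential.D K B b)) = KaehlerDifferential.D K B b := by
  rw [Φ_D, Ψ_T, ← coassoc_apply, Θ_assoc_rTensor, rTensor_counit_comul, TensorProduct.lid_tmul,
    one_smul]

lemma Ψ_comp_Φ : Ψ K B ∘ₗ Φ K B = LinearMap.id := by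
  apply Derivation.liftKaehlerDifferential_unique
  ext b
  exact Ψ_Φ_D K B b

/-- `Θ' (a ⊗ w) = S a • T w`. -/
noncomputable def Θ' : B ⊗[K] (B ⊗[K] B) →ₗ[K] B ⊗[K] V K B :=
  act K B (B ⊗[K] V K B) ∘ₗ TensorProduct.map (HopfAlgebra.antipode K) (T K B)

@[simp] lemma Θ'_tmul (a : B) (w : B ⊗[K] B) :
    Θ' K B (a ⊗ₜ w) = HopfAlgebra.antipode K a • T K B w := by simp [Θ']

lemma Φ_G (z : B ⊗[K] B) : Φ K B (G K B z) = Θ' K B ((comul (R := K) (A := B)).lTensor B z) := by
  induction z using TensorProduct.induction_on with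
  | zero => simp
  | add x y hx hy => simp only [map_add, hx, hy]
  | tmul a b => simp [Φ_D]

lemma Θ'_assoc (z : B ⊗[K] B) (c : B) :
    Θ' K B (TensorProduct.assoc K B B B (z ⊗ₜ c)) = M K B z ⊗ₜ π K B c := by
  induction z using TensorProduct.induction_on with
  | zero => simp
  | add x y hx hy => rw [add_tmul, map_add, map_add, hx, hy, map_add, add_tmul]
  | tmul a b => simp [TensorProduct.smul_tmul']

lemma Θ'_assoc_rTensor (w : B ⊗[K] B) :
    Θ' K B (TensorProduct.assoc K B B B ((comul (R := K) (A := B)).rTensor B w)) =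
      (1 : B) ⊗ₜ π K B (TensorProduct.lid K B ((counit (R := K) (A := B)).rTensor B w)) := by
  induction w using TensorProduct.induction_on with
  | zero => simp
  | add x y hx hy => simp only [map_add, hx, hy, tmul_add]
  | tmul x c =>
    rw [LinearMap.rTensor_tmul, Θ'_assoc, M_comul, LinearMap.rTensor_tmul, TensorProduct.lid_tmul,
      map_smul, tmul_smul, Algebra.algebraMap_eq_smul_one, TensorProduct.smul_tmul']

lemma Φ_Ψ_one_tmul (c : B) : Φ K B (Ψ K B ((1 : B) ⊗ₜ π K B c)) = (1 : B) ⊗ₜ π K B c := by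
  rw [Ψ_tmul, one_smul, γbar_π, γ, LinearMap.comp_apply, Φ_G, ← coassoc_apply, Θ'_assoc_rTensor,
    rTensor_counit_comul, TensorProduct.lid_tmul, one_smul]

lemma Φ_comp_Ψ : Φ K B ∘ₗ Ψ K B = LinearMap.id := by
  apply LinearMap.ext
  intro x
  induction x using TensorProduct.induction_on with
  | zero => simp
  | add x y hx hy => rw [map_add, hx, hy, map_add]
  | tmul b v =>
    obtain ⟨c, rfl⟩ := π_surjective K B v
    have h : b ⊗ₜ[K] π K B c = b • ((1 : B) ⊗ₜ[K] π K B c) := by
      rw [TensorProduct.smul_tmul', smul_eq_mul, mul_one]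
    rw [h, LinearMap.comp_apply, map_smul, map_smul, Φ_Ψ_one_tmul, LinearMap.id_apply]

/-- `Ω[B/K] ≃ B ⊗ V`. -/
noncomputable def equiv : Ω[B⁄K] ≃ₗ[B] B ⊗[K] V K B :=
  LinearEquiv.ofLinearMap (Φ K B) (Ψ K B) (Φ_comp_Ψ K B) (Ψ_comp_Φ K B)

theorem free : Module.Free B (Ω[B⁄K]) := Module.Free.of_equiv (equiv K B).symm

end Groth.Agent.Helper3.HopfOmega
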