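import Mathlib
set_option autoImplicit false
universe u

namespace Groth.Agent.Helper3.IdemLoc

section idem
variable {R S : Type*} [CommRing R] [CommRing S] [Algebra R S] (e : R) (he : IsIdempotentElem e)
  [IsLocalization.Away e S]
include he

lemma map_e : algebraMap R S e = 1 := by
  have hu : IsUnit (algebraMap R S e) := IsLocalization.Away.algebraMap_isUnit e
  have h2 : algebraMap R S e * algebraMap R S e = algebraMap R S e := by
    rw [← map_mul, he.eq]
  exact (IsUnit.mul_eq_left hu).mp h2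

lemma surj : Function.Surjective (algebraMap R S) := by
  intro z
  obtain ⟨n, a, h⟩ := IsLocalization.Away.surj e z
  rw [map_e e he, one_pow, mul_one] at h
  exact ⟨a, h.symm⟩

lemma map_eq_zero_iff (x : R) : algebraMap R S x = 0 ↔ e * x = 0 := by
  constructor
  · intro h
    obtain ⟨⟨_, n, rfl⟩, hm⟩ := (IsLocalization.map_eq_zero_iff (Submonoid.powers e) S x).mp h
    simp only at hm
    rcases Nat.eq_zero_or_pos n with rfl | hn
    · rw [pow_zero, one_mul] at hm; rw [hm, mul_zero]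
    · rwa [he.pow_eq hn.ne'] at hm
  · intro h
    have := congrArg (algebraMap R S) h
    rwa [map_mul, map_e e he, one_mul, map_zero] at this

end idem

section concrete
variable (A : Type u) [CommRing A] (C : Type u) [CommRing C] [Algebra A C]

abbrev Af (f : A) := Localization.Away f
abbrev Cf (f : A) := Localization (Algebra.algebraMapSubmonoid C (Submonoid.powers f))

/-- kernel of `A → C_f`. -/
noncomputable def N (f : A) : Ideal A := RingHom.ker (algebraMap A (Cf A C f))

variable {A C}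

lemma mem_N_iff (f c : A) : c ∈ N A C f ↔ ∃ l : ℕ, algebraMap A C (f ^ l * c) = 0 := by
  unfold N
  rw [RingHom.mem_ker, IsScalarTower.algebraMap_apply A C (Cf A C f),
    IsLocalization.map_eq_zero_iff (Algebra.algebraMapSubmonoid C (Submonoid.powers f))]
  constructor
  · rintro ⟨⟨_, ⟨_, ⟨l, rfl⟩, rfl⟩⟩, hm⟩
    exact ⟨l, by rw [map_mul]; exact hm⟩
  · rintro ⟨l, hl⟩
    exact ⟨⟨algebraMap A C (f ^ l), ⟨_, ⟨l, rfl⟩, rfl⟩⟩, by rw [map_mul] at hl; exact hl⟩

lemma mem_N_of_map_eq_zero (g w : A) (hw : algebraMap A C w = 0) : w ∈ N A C g :=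
  (mem_N_iff g w).mpr ⟨0, by rw [pow_zero, one_mul, hw]⟩

lemma away_eq_zero_of_mem_span (gens : Set A) (w : A)
    (hg : ∀ g ∈ gens, algebraMap A (Localization.Away g) w = 0) (f : A) (hf : f ∈ Ideal.span gens) :
    algebraMap A (Localization.Away f) w = 0 := by
  let Ann : Ideal A := Submodule.annihilator (Ideal.span ({w} : Set A))
  have h1 : Ideal.span gens ≤ Ann.radical := by
    rw [Ideal.span_le]
    intro g hgm
    obtain ⟨⟨_, n, rfl⟩, hm⟩ := (IsLocalization.map_eq_zero_iff (Submonoid.powers g) _ w).mp (hg g hgm)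
    refine ⟨n, ?_⟩
    rw [Submodule.mem_annihilator_span_singleton]
    exact hm
  obtain ⟨n, hn⟩ := h1 hf
  rw [Submodule.mem_annihilator_span_singleton] at hn
  exact (IsLocalization.map_eq_zero_iff (Submonoid.powers f) _ w).mpr ⟨⟨_, n, rfl⟩, hn⟩

variable (f : A) (e : Af A f) (he : IsIdempotentElem e) [IsLocalization.Away e (Cf A C f)]
include he

lemma mem_N_iff_e (c : A) : c ∈ N A C f ↔ e * algebraMap A (Af A f) c = 0 := by
  unfold N
  rw [RingHom.mem_ker, IsScalarTower.algebraMap_apply A (Af A f) (Cf A C f),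
    map_eq_zero_iff e he]

end concrete

section main
variable {A : Type u} [CommRing A] {C : Type u} [CommRing C] [Algebra A C]
  (I : Ideal A) (gens : Finset A) (hgens : Ideal.span (gens : Set A) = I)
  (e : ∀ f ∈ I, Af A f) (he : ∀ f (hf : f ∈ I), IsIdempotentElem (e f hf))
  (hloc : ∀ f (hf : f ∈ I), IsLocalization.Away (e f hf) (Cf A C f))

/-- the ideal `K`. -/
noncomputable def K (C : Type u) [CommRing C] [Algebra A C] (gens : Finset A) : Ideal A :=
  ⨅ g ∈ gens, (RingHom.ker (algebraMap A (Af A g))).colon (N A C g : Set A)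

lemma mem_K (a : A) : a ∈ K C gens ↔
    ∀ g ∈ gens, ∀ c ∈ N A C g, algebraMap A (Af A g) (a * c) = 0 := by
  unfold K
  simp only [Submodule.mem_iInf, Submodule.mem_colon, SetLike.mem_coe, RingHom.mem_ker, smul_eq_mul]

include hgens he hloc

lemma one_sub_e_mul (f : A) (hf : f ∈ I) (a : A) (ha : a ∈ K C gens) :
    algebraMap A (Af A f) a * (1 - e f hf) = 0 := by
  haveI := hloc f hf
  have hu : IsUnit (algebraMap A (Af A f) f) := IsLocalization.Away.algebraMap_isUnit f
  obtain ⟨j, c₀, hc₀⟩ := IsLocalization.Away.surj (S := Af A f) f (1 - e f hf)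
  have hee : e f hf * (1 - e f hf) = 0 := by rw [mul_sub, mul_one, (he f hf).eq, sub_self]
  have hc₀N : c₀ ∈ N A C f := by
    rw [mem_N_iff_e f (e f hf) (he f hf), ← hc₀, ← mul_assoc, hee, zero_mul]
  obtain ⟨l, hl⟩ := (mem_N_iff f c₀).mp hc₀N
  have h1 : algebraMap A (Af A f) (a * (f ^ l * c₀)) = 0 := by
    apply away_eq_zero_of_mem_span (gens : Set A) _ _ f (hgens ▸ hf)
    intro g hg
    exact (mem_K gens a).mp ha g hg _ (mem_N_of_map_eq_zero g _ hl)
  rw [map_mul, map_mul, map_pow, ← hc₀] at h1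
  have h2 : algebraMap A (Af A f) a * (1 - e f hf) * (algebraMap A (Af A f) f) ^ (l + j) = 0 := by
    rw [pow_add, ← h1]; ring
  exact (hu.pow (l + j)).mul_left_eq_zero.mp h2

lemma exists_mem_K (f : A) (hf : f ∈ I) :
    ∃ a ∈ K C gens, ∃ n : ℕ, algebraMap A (Af A f) a = e f hf * (algebraMap A (Af A f) f) ^ n := by
  classical
  haveI := hloc f hf
  obtain ⟨m, b, hb⟩ := IsLocalization.Away.surj (S := Af A f) f (e f hf)
  have hgI : ∀ g ∈ gens, g ∈ I := fun g hg => hgens ▸ Ideal.subset_span hg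
  have key : ∀ g ∈ gens, ∃ Ng : ℕ, ∀ c ∈ N A C g,
      algebraMap A (Af A g) (f ^ Ng * b * c) = 0 := by
    intro g hg
    have hgI' := hgI g hg
    haveI := hloc g hgI'
    have hug : IsUnit (algebraMap A (Af A g) g) := IsLocalization.Away.algebraMap_isUnit g
    obtain ⟨j, cg, hcg⟩ := IsLocalization.Away.surj (S := Af A g) g (1 - e g hgI')
    have hee : e g hgI' * (1 - e g hgI') = 0 := by
      rw [mul_sub, mul_one, (he g hgI').eq, sub_self]
    have hcgN : cg ∈ N A C g := by
      rw [mem_N_iff_e g (e g hgI') (he g hgI'), ← hcg, ← mul_assoc, hee, zero_mul]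
    obtain ⟨l, hl⟩ := (mem_N_iff g cg).mp hcgN
    have h1 : g ^ l * cg ∈ N A C f := mem_N_of_map_eq_zero f _ hl
    rw [mem_N_iff_e f (e f hf) (he f hf)] at h1
    have h2 : algebraMap A (Af A f) (b * (g ^ l * cg)) = 0 := by
      rw [map_mul, ← hb, mul_right_comm, h1, zero_mul]
    obtain ⟨⟨_, Ng, rfl⟩, hNg⟩ := (IsLocalization.map_eq_zero_iff (Submonoid.powers f) _ _).mp h2
    simp only at hNg
    refine ⟨Ng, fun c hc => ?_⟩
    rw [mem_N_iff_e g (e g hgI') (he g hgI')] at hc
    have h3 : algebraMap A (Af A g) c = algebraMap A (Af A g) c * (1 - e g hgI') := by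
      rw [mul_sub, mul_one, mul_comm _ (e g hgI'), hc, sub_zero]
    have h4 : algebraMap A (Af A g) (f ^ Ng * b * c) * (algebraMap A (Af A g) g) ^ (j + l) = 0 := by
      have : algebraMap A (Af A g) (f ^ Ng * b * c) * (algebraMap A (Af A g) g) ^ (j + l) =
          algebraMap A (Af A g) (c * (f ^ Ng * (b * (g ^ l * cg)))) := by
        simp only [map_mul, map_pow, ← hcg]
        linear_combination ((algebraMap A (Af A g)) f ^ Ng * (algebraMap A (Af A g)) b *
          (algebraMap A (Af A g)) g ^ j * (algebraMap A (Af A g)) g ^ l) * hc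
      rw [this, hNg, mul_zero, map_zero]
    exact (hug.pow (j + l)).mul_left_eq_zero.mp h4
  choose! Ng hNg using key
  refine ⟨f ^ (gens.sup Ng) * b, ?_, gens.sup Ng + m, ?_⟩
  · rw [mem_K]
    intro g hg c hc
    have hle : Ng g ≤ gens.sup Ng := Finset.le_sup hg
    have : f ^ (gens.sup Ng) * b * c = f ^ (gens.sup Ng - Ng g) * (f ^ Ng g * b * c) := by
      rw [← mul_assoc, ← mul_assoc, ← pow_add, Nat.sub_add_cancel hle]
    rw [this, map_mul, hNg g hg c hc, mul_zero]
  · rw [map_mul, map_pow, ← hb, pow_add]; ring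

end main

section final
variable {A : Type u} [CommRing A] (C : Type u) [CommRing C] [Algebra A C] (Kk : Ideal A) (f : A)

abbrev Qf := Localization (Algebra.algebraMapSubmonoid (A ⧸ Kk) (Submonoid.powers f))
abbrev Tf := Localization (Algebra.algebraMapSubmonoid (C × (A ⧸ Kk)) (Submonoid.powers f))

lemma beta_surjective : Function.Surjective (algebraMap (Af A f) (Qf Kk f)) := by
  intro z
  obtain ⟨⟨q, s⟩, rfl⟩ := IsLocalization.mk'_surjective
    (Algebra.algebraMapSubmonoid (A ⧸ Kk) (Submonoid.powers f)) z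
  obtain ⟨a, rfl⟩ := Ideal.Quotient.mk_surjective q
  obtain ⟨_, ⟨_, ⟨n, rfl⟩, rfl⟩⟩ := s
  refine ⟨IsLocalization.mk' _ a (⟨f ^ n, n, rfl⟩ : Submonoid.powers f), ?_⟩
  rw [IsLocalization.algebraMap_mk' (A ⧸ Kk)]
  rfl

lemma beta_algebraMap_eq_zero (a : A) (ha : a ∈ Kk) :
    algebraMap (Af A f) (Qf Kk f) (algebraMap A (Af A f) a) = 0 := by
  rw [← IsScalarTower.algebraMap_apply, IsScalarTower.algebraMap_apply A (A ⧸ Kk) (Qf Kk f)]
  have : algebraMap A (A ⧸ Kk) a = 0 := Ideal.Quotient.eq_zero_iff_mem.mpr ha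
  rw [this, map_zero]

lemma exists_of_beta_eq_zero (x : Af A f) (hx : algebraMap (Af A f) (Qf Kk f) x = 0) :
    ∃ a ∈ Kk, ∃ n : ℕ, x * (algebraMap A (Af A f) f) ^ n = algebraMap A (Af A f) a := by
  obtain ⟨⟨a', s⟩, rfl⟩ := IsLocalization.mk'_surjective (Submonoid.powers f) x
  obtain ⟨_, n, rfl⟩ := s
  rw [IsLocalization.algebraMap_mk' (A ⧸ Kk), IsLocalization.mk'_eq_zero_iff] at hx
  obtain ⟨⟨_, ⟨_, ⟨k, rfl⟩, rfl⟩⟩, hm⟩ := hx
  simp only at hm
  rw [← map_mul] at hm
  refine ⟨f ^ k * a', Ideal.Quotient.eq_zero_iff_mem.mp hm, n + k, ?_⟩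
  have h1 := IsLocalization.mk'_spec (Af A f) a' (⟨f ^ n, n, rfl⟩ : Submonoid.powers f)
  simp only [map_pow] at h1
  rw [pow_add, ← mul_assoc, h1, map_mul, map_pow, mul_comm]

/-- first projection. -/
noncomputable def pi1 : Tf C Kk f →+* Cf A C f :=
  IsLocalization.map (M := Algebra.algebraMapSubmonoid (C × (A ⧸ Kk)) (Submonoid.powers f))
    (T := Algebra.algebraMapSubmonoid C (Submonoid.powers f)) (Cf A C f) (RingHom.fst C (A ⧸ Kk)) (by
    rintro _ ⟨_, ⟨n, rfl⟩, rfl⟩
    exact ⟨f ^ n, ⟨n, rfl⟩, rfl⟩)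

/-- second projection. -/
noncomputable def pi2 : Tf C Kk f →+* Qf Kk f :=
  IsLocalization.map (M := Algebra.algebraMapSubmonoid (C × (A ⧸ Kk)) (Submonoid.powers f))
    (T := Algebra.algebraMapSubmonoid (A ⧸ Kk) (Submonoid.powers f)) (Qf Kk f) (RingHom.snd C (A ⧸ Kk)) (by
    rintro _ ⟨_, ⟨n, rfl⟩, rfl⟩
    exact ⟨f ^ n, ⟨n, rfl⟩, rfl⟩)

lemma pi1_algebraMap (x : Af A f) :
    pi1 C Kk f (algebraMap (Af A f) (Tf C Kk f) x) = algebraMap (Af A f) (Cf A C f) x := by
  have : (pi1 C Kk f).comp (algebraMap (Af A f) (Tf C Kk f)) = algebraMap (Af A f) (Cf A C f) := by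
    apply IsLocalization.ringHom_ext (Submonoid.powers f)
    ext a
    simp only [RingHom.comp_apply]
    rw [← IsScalarTower.algebraMap_apply, ← IsScalarTower.algebraMap_apply,
      IsScalarTower.algebraMap_apply A (C × (A ⧸ Kk)) (Tf C Kk f), pi1, IsLocalization.map_eq,
      IsScalarTower.algebraMap_apply A C (Cf A C f)]
    rfl
  exact congrArg (fun φ => φ x) this

lemma pi2_algebraMap (x : Af A f) :
    pi2 C Kk f (algebraMap (Af A f) (Tf C Kk f) x) = algebraMap (Af A f) (Qf Kk f) x := by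
  have : (pi2 C Kk f).comp (algebraMap (Af A f) (Tf C Kk f)) = algebraMap (Af A f) (Qf Kk f) := by
    apply IsLocalization.ringHom_ext (Submonoid.powers f)
    ext a
    simp only [RingHom.comp_apply]
    rw [← IsScalarTower.algebraMap_apply, ← IsScalarTower.algebraMap_apply,
      IsScalarTower.algebraMap_apply A (C × (A ⧸ Kk)) (Tf C Kk f), pi2, IsLocalization.map_eq,
      IsScalarTower.algebraMap_apply A (A ⧸ Kk) (Qf Kk f)]
    rfl
  exact congrArg (fun φ => φ x) this

lemma eq_zero_of_pi (t : Tf C Kk f) (h1 : pi1 C Kk f t = 0) (h2 : pi2 C Kk f t = 0) : t = 0 := by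
  obtain ⟨⟨⟨c, q⟩, s⟩, rfl⟩ := IsLocalization.mk'_surjective
    (Algebra.algebraMapSubmonoid (C × (A ⧸ Kk)) (Submonoid.powers f)) t
  rw [pi1, IsLocalization.map_mk', IsLocalization.mk'_eq_zero_iff] at h1
  rw [pi2, IsLocalization.map_mk', IsLocalization.mk'_eq_zero_iff] at h2
  obtain ⟨⟨_, ⟨_, ⟨k, rfl⟩, rfl⟩⟩, hk⟩ := h1
  obtain ⟨⟨_, ⟨_, ⟨l, rfl⟩, rfl⟩⟩, hl⟩ := h2
  simp only [RingHom.coe_fst, RingHom.coe_snd] at hk hl
  rw [IsLocalization.mk'_eq_zero_iff]
  refine ⟨⟨algebraMap A (C × (A ⧸ Kk)) (f ^ (k + l)), ⟨_, ⟨k + l, rfl⟩, rfl⟩⟩, ?_⟩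
  ext
  · simp only [Prod.fst_mul, Prod.fst_zero]
    have : (algebraMap A (C × (A ⧸ Kk)) (f ^ (k + l))).1 = algebraMap A C (f ^ l) * algebraMap A C (f ^ k) := by
      rw [← map_mul, ← pow_add, add_comm]; rfl
    rw [this, mul_assoc, hk, mul_zero]
  · simp only [Prod.snd_mul, Prod.snd_zero]
    have : (algebraMap A (C × (A ⧸ Kk)) (f ^ (k + l))).2 =
        algebraMap A (A ⧸ Kk) (f ^ k) * algebraMap A (A ⧸ Kk) (f ^ l) := by
      rw [← map_mul, ← pow_add]; rfl
    rw [this, mul_assoc, hl, mul_zero]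

end final

theorem main (A : Type u) [CommRing A]
    (I : Ideal A) (hI : I.FG) (C : Type u) [CommRing C] [Algebra A C]
    (h : ∀ f ∈ I, ∃ e : Localization.Away f, IsIdempotentElem e ∧
      IsLocalization.Away e (Localization (Algebra.algebraMapSubmonoid C (Submonoid.powers f)))) :
    ∃ K : Ideal A, ∀ f ∈ I, Function.Bijective
      (algebraMap (Localization.Away f)
        (Localization (Algebra.algebraMapSubmonoid (C × (A ⧸ K)) (Submonoid.powers f)))) := by
  obtain ⟨gens, hgens⟩ := hI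
  choose e he hloc using h
  refine ⟨K C gens, fun f hf => ⟨?_, ?_⟩⟩
  · -- injective
    rw [injective_iff_map_eq_zero]
    intro x hx
    haveI := hloc f hf
    have hu : IsUnit (algebraMap A (Af A f) f) := IsLocalization.Away.algebraMap_isUnit f
    have h1 : algebraMap (Af A f) (Cf A C f) x = 0 := by
      rw [← pi1_algebraMap C (K C gens) f, hx, map_zero]
    have h2 : algebraMap (Af A f) (Qf (K C gens) f) x = 0 := by
      rw [← pi2_algebraMap C (K C gens) f, hx, map_zero]
    rw [map_eq_zero_iff (e f hf) (he f hf)] at h1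
    obtain ⟨a, ha, n, hn⟩ := exists_of_beta_eq_zero (K C gens) f x h2
    have h3 := one_sub_e_mul I gens hgens e he hloc f hf a ha
    rw [← hn] at h3
    have h4 : x * (1 - e f hf) * (algebraMap A (Af A f) f) ^ n = 0 := by
      rw [← h3]; ring
    have h5 := (hu.pow n).mul_left_eq_zero.mp h4
    have : x = e f hf * x + x * (1 - e f hf) := by ring
    rw [this, h1, h5, add_zero]
  · -- surjective
    intro t
    haveI := hloc f hf
    have hu : IsUnit (algebraMap A (Af A f) f) := IsLocalization.Away.algebraMap_isUnit f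
    obtain ⟨y, hy⟩ := surj (e f hf) (he f hf) (S := Cf A C f) (pi1 C (K C gens) f t)
    obtain ⟨z, hz⟩ := beta_surjective (K C gens) f (pi2 C (K C gens) f t)
    have hbe : algebraMap (Af A f) (Qf (K C gens) f) (e f hf) = 0 := by
      obtain ⟨a, ha, n, hn⟩ := exists_mem_K I gens hgens e he hloc f hf
      have h1 := beta_algebraMap_eq_zero (K C gens) f a ha
      rw [hn, map_mul, map_pow] at h1
      exact ((hu.map _).pow n).mul_left_eq_zero.mp h1
    refine ⟨y * e f hf + z * (1 - e f hf), ?_⟩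
    rw [← sub_eq_zero]
    apply eq_zero_of_pi C (K C gens) f
    · rw [map_sub, pi1_algebraMap, map_add, map_mul, map_mul, map_sub, map_one,
        map_e (e f hf) (he f hf), hy]
      ring
    · rw [map_sub, pi2_algebraMap, map_add, map_mul, map_mul, map_sub, map_one, hbe, hz]
      ring

end Groth.Agent.Helper3.IdemLoc
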