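import Mathlib

universe u

open CategoryTheory CategoryTheory.Limits AlgebraicGeometry TopologicalSpace

namespace Groth.Agent.Helper3.ImmAffine

/-- In a localization away from `h`, if `f` becomes a unit then a power of `h` is a multiple of
`f`. -/
lemma exists_pow_mem_span_of_isUnit {R S : Type*} [CommRing R] [CommRing S] [Algebra R S] (h f : R)
    [IsLocalization.Away h S] (hu : IsUnit (algebraMap R S f)) : ∃ n : ℕ, h ^ n ∈ Ideal.span {f} := by
  obtain ⟨u, hu'⟩ := hu.exists_left_inv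
  obtain ⟨n, c, hc⟩ := IsLocalization.Away.surj h u
  have h1 : algebraMap R S (c * f) = algebraMap R S (h ^ n) := by
    rw [map_mul, ← hc, map_pow]
    calc u * algebraMap R S h ^ n * algebraMap R S f
        = (u * algebraMap R S f) * algebraMap R S h ^ n := by ring
      _ = algebraMap R S h ^ n := by rw [hu', one_mul]
  obtain ⟨⟨_, m, rfl⟩, hm⟩ := (IsLocalization.eq_iff_exists (Submonoid.powers h) S).mp h1
  refine ⟨m + n, ?_⟩
  rw [pow_add]
  simp only at hm
  rw [← hm]
  exact Ideal.mem_span_singleton'.mpr ⟨h ^ m * c, by ring⟩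

/-- `1 ∈ (f, g)` if `(1 - g)^n ∈ (f)`. -/
lemma span_pair_eq_top {R : Type*} [CommRing R] (f g : R) (n : ℕ)
    (h : (1 - g) ^ n ∈ Ideal.span {f}) : Ideal.span {f, g} = ⊤ := by
  rw [Ideal.eq_top_iff_one]
  have h1 : (1 : R) - (1 - g) ∣ 1 ^ n - (1 - g) ^ n := sub_dvd_pow_sub_pow 1 (1 - g) n
  rw [one_pow, sub_sub_cancel] at h1
  obtain ⟨w, hw⟩ := h1
  have h2 : (1 : R) = (1 - g) ^ n + g * w := by rw [← hw]; ring
  rw [h2]
  apply Ideal.add_mem
  · exact Ideal.span_mono (by simp) h
  · exact Ideal.mul_mem_right _ _ (Ideal.subset_span (by simp))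

theorem main (A : Type u) [CommRing A] (V : Scheme.{u}) (j : V ⟶ Spec (CommRingCat.of A))
    [IsImmersion j] [QuasiCompact j] (f : A)
    (haff : IsAffineOpen (j ⁻¹ᵁ PrimeSpectrum.basicOpen f))
    (hcl : IsClosed (Set.range ⇑j ∩ PrimeSpectrum.zeroLocus {f})) : IsAffine V := by
  classical
  -- the two disjoint closed sets
  set T : Set (PrimeSpectrum A) := (coborder (Set.range j))ᶜ with hT
  set Z : Set (PrimeSpectrum A) := Set.range ⇑j ∩ PrimeSpectrum.zeroLocus {f} with hZ
  have hTcl : IsClosed T := (j.isLocallyClosed_range.isOpen_coborder).isClosed_compl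
  have hdisj : T ∩ Z = ∅ := by
    ext x
    simp only [Set.mem_inter_iff, Set.mem_empty_iff_false, iff_false, not_and]
    intro hxT hxZ
    exact hxT (subset_coborder hxZ.1)
  have hsup : PrimeSpectrum.vanishingIdeal T ⊔ PrimeSpectrum.vanishingIdeal Z = ⊤ := by
    rw [← PrimeSpectrum.zeroLocus_empty_iff_eq_top, PrimeSpectrum.zeroLocus_sup,
      PrimeSpectrum.zeroLocus_vanishingIdeal_eq_closure,
      PrimeSpectrum.zeroLocus_vanishingIdeal_eq_closure, hTcl.closure_eq,
      (show closure Z = Z from hcl.closure_eq), hdisj]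
  obtain ⟨g, hg, h, hh, hgh⟩ := Submodule.mem_sup.mp
    (show (1 : A) ∈ PrimeSpectrum.vanishingIdeal T ⊔ PrimeSpectrum.vanishingIdeal Z by
      rw [hsup]; exact Submodule.mem_top)
  -- global sections
  let ρ : A →+* Γ(V, ⊤) := j.appTop.hom.comp (Scheme.ΓSpecIso (CommRingCat.of A)).inv.hom
  have hbasic : ∀ a : A, V.basicOpen (ρ a) = j ⁻¹ᵁ PrimeSpectrum.basicOpen a := by
    intro a
    have h1 := basicOpen_eq_of_affine (R := CommRingCat.of A) a
    have h2 := Scheme.preimage_basicOpen_top j ((Scheme.ΓSpecIso (CommRingCat.of A)).inv a)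
    rw [h1] at h2
    exact h2.symm
  have hmem : ∀ (a : A) (v : V), v ∈ V.basicOpen (ρ a) ↔ a ∉ (j v : PrimeSpectrum A).asIdeal := by
    intro a v
    rw [hbasic a]
    rfl
  -- V is qcqs
  have hcomp : CompactSpace V :=
    (HasAffineProperty.iff_of_isAffine (P := @QuasiCompact) (f := j)).mp inferInstance
  have hqs : QuasiSeparatedSpace V := quasiSeparatedSpace_of_quasiSeparated j
  -- affine-ness of V_g
  have hgaff : IsAffineOpen (V.basicOpen (ρ g)) := by
    rw [hbasic g]
    have hle : (PrimeSpectrum.basicOpen g : (Spec (CommRingCat.of A)).Opens) ≤ j.coborderRange := by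
      intro x hx
      by_contra hxT
      have : g ∈ x.asIdeal := (PrimeSpectrum.mem_vanishingIdeal T g).mp hg x hxT
      exact hx this
    have h1 : IsAffineOpen (j.coborderRange.ι ⁻¹ᵁ
        (PrimeSpectrum.basicOpen g : (Spec (CommRingCat.of A)).Opens)) := by
      apply IsAffineOpen.preimage_of_isOpenImmersion
        (IsAffineOpen.Spec_basicOpen (R := CommRingCat.of A) g)
      rw [Scheme.Opens.opensRange_ι]
      exact hle
    have h2 := h1.preimage j.liftCoborder
    rw [← Scheme.Hom.comp_preimage, Scheme.Hom.liftCoborder_ι] at h2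
    exact h2
  have hfaff : IsAffineOpen (V.basicOpen (ρ f)) := by rw [hbasic f]; exact haff
  -- V_h ≤ V_f
  have hle : V.basicOpen (ρ h) ≤ V.basicOpen (ρ f) := by
    intro v hv
    have hv' := (hmem h v).mp hv
    apply (hmem f v).mpr
    intro hfv
    apply hv'
    have hjZ : (j v : PrimeSpectrum A) ∈ Z := by
      refine ⟨⟨v, rfl⟩, ?_⟩
      rw [PrimeSpectrum.mem_zeroLocus, Set.singleton_subset_iff]
      exact hfv
    exact (PrimeSpectrum.mem_vanishingIdeal Z h).mp hh _ hjZ
  -- unit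
  have hloc : IsLocalization.Away (ρ h) Γ(V, V.basicOpen (ρ h)) :=
    isLocalization_basicOpen_of_qcqs (U := ⊤) isCompact_univ
      (isQuasiSeparated_univ_iff.mpr hqs) (ρ h)
  have hunit : IsUnit (algebraMap Γ(V, ⊤) Γ(V, V.basicOpen (ρ h)) (ρ f)) := by
    have h1 : IsUnit ((V.presheaf.map (homOfLE (V.basicOpen_le (ρ f))).op).hom (ρ f)) :=
      RingedSpace.isUnit_res_basicOpen V.toRingedSpace (ρ f)
    have h2 := h1.map (V.presheaf.map (homOfLE hle).op).hom
    have h3 : (V.presheaf.map (homOfLE hle).op).hom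
        ((V.presheaf.map (homOfLE (V.basicOpen_le (ρ f))).op).hom (ρ f)) =
        algebraMap Γ(V, ⊤) Γ(V, V.basicOpen (ρ h)) (ρ f) := by
      rw [← RingHom.comp_apply, ← CommRingCat.hom_comp, ← Functor.map_comp]
      rfl
    rw [← h3]
    exact h2
  obtain ⟨n, hn⟩ := exists_pow_mem_span_of_isUnit (ρ h) (ρ f) hunit
  have hh1 : ρ h = 1 - ρ g := by
    rw [← map_one ρ, ← map_sub, ← hgh, add_sub_cancel_left]
  rw [hh1] at hn
  have hspan := span_pair_eq_top (ρ f) (ρ g) n hn
  apply isAffine_of_isAffineOpen_basicOpen {ρ f, ρ g} hspan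
  rintro x (rfl | rfl)
  · exact hfaff
  · exact hgaff

end Groth.Agent.Helper3.ImmAffine
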