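import Mathlib

set_option autoImplicit false

namespace Groth.Agent.Helper3.InvSep

open scoped Pointwise
open Polynomial

universe u v

section Field

variable {k K : Type*} [Field k] [Field K] [Algebra k K]

/-- a root of a separable polynomial over `k` that is purely inseparable over `k` lies in `k` -/
lemma mem_range_of_separable_of_pow {a : K} {g h : k[X]} (hg : g.Separable) (hga : aeval a g = 0)
    {n : ℕ} (hn : 0 < n) (hh : h.map (algebraMap k K) = (X - C a) ^ n) :
    a ∈ (algebraMap k K).range := by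
  have hint : IsIntegral k a := by
    refine ⟨g * C (g.leadingCoeff)⁻¹, monic_mul_leadingCoeff_inv hg.ne_zero, ?_⟩
    rw [← aeval_def, map_mul, hga, zero_mul]
  have hm1 : minpoly k a ∣ g := minpoly.dvd k a hga
  have hsep : (minpoly k a).Separable := hg.of_dvd hm1
  have hha : aeval a h = 0 := by
    rw [← eval_map_algebraMap, hh, eval_pow, eval_sub, eval_X, eval_C, sub_self, zero_pow hn.ne']
  have hm2 : minpoly k a ∣ h := minpoly.dvd k a hha
  have hm3 : (minpoly k a).map (algebraMap k K) ∣ (X - C a) ^ n := by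
    rw [← hh]; exact Polynomial.map_dvd _ hm2
  obtain ⟨i, _, hi⟩ := (dvd_prime_pow (prime_X_sub_C a) n).mp hm3
  have hsepK : ((minpoly k a).map (algebraMap k K)).Separable := hsep.map
  have hi1 : i ≤ 1 := by
    by_contra hcon
    push Not at hcon
    have hsq : ((X - C a) ^ i).Separable := by
      obtain ⟨u, hu⟩ := hi
      rw [← hu]
      exact hsepK.mul_unit u.isUnit
    have h2 : (X - C a) * (X - C a) ∣ (X - C a) ^ i := by
      rw [← pow_two]; exact pow_dvd_pow _ hcon
    have := hsq.squarefree (X - C a) h2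
    exact (prime_X_sub_C a).not_unit this
  have hdeg : ((minpoly k a).map (algebraMap k K)).natDegree = i := by
    rw [natDegree_eq_of_degree_eq (degree_eq_degree_of_associated hi), natDegree_pow,
      natDegree_X_sub_C, mul_one]
  rw [natDegree_map] at hdeg
  have hpos := minpoly.natDegree_pos hint
  apply minpoly.mem_range_of_degree_eq_one
  rw [degree_eq_natDegree (minpoly.ne_zero hint)]
  have : (minpoly k a).natDegree = 1 := by omega
  rw [this]; rfl

end Field


section Back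

variable {B : Type u} [CommRing B] {Γ : Type v} [Group Γ] [Finite Γ] [MulSemiringAction Γ B]
  (P : Ideal B) [P.IsMaximal]

theorem exists_invariant_of_separable (x : B) (g : B[X])
    (hcoef : ∀ (i : ℕ) (γ : Γ), γ • g.coeff i = g.coeff i)
    (hsep : (g.map (Ideal.Quotient.mk P)).Separable) (hroot : aeval x g ∈ P) :
    ∃ y : B, (∀ γ : Γ, γ ∈ P.inertia Γ → γ • y = y) ∧ x - y ∈ P := by
  classical
  letI : Fintype Γ := Fintype.ofFinite Γ
  let T : Subgroup Γ := P.inertia Γ
  let B' : Subring B := FixedPoints.subring B T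
  haveI : Algebra.IsInvariant B' B T := ⟨fun b hb => ⟨⟨b, hb⟩, rfl⟩⟩
  haveI : Algebra.IsIntegral B' B := Algebra.IsInvariant.isIntegral B' B T
  let P' : Ideal B' := P.comap (algebraMap B' B)
  haveI hP' : P'.IsMaximal := Ideal.isMaximal_comap_of_isIntegral_of_isMaximal P
  letI : Field (B' ⧸ P') := Ideal.Quotient.field P'
  letI : Field (B ⧸ P) := Ideal.Quotient.field P
  -- lift g
  have hg' : g ∈ lifts (algebraMap B' B) := by
    rw [lifts_iff_coeff_lifts]
    intro n
    exact ⟨⟨g.coeff n, fun t => hcoef n t⟩, rfl⟩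
  obtain ⟨g', hg'⟩ := hg'
  replace hg' : g'.map (algebraMap B' B) = g := hg'
  obtain ⟨h', hh'⟩ := Algebra.IsInvariant.charpoly_mem_lifts B' B T x
  replace hh' : h'.map (algebraMap B' B) = MulSemiringAction.charpoly T x := hh'
  have hcomp : (algebraMap (B' ⧸ P') (B ⧸ P)).comp (Ideal.Quotient.mk P') =
      (Ideal.Quotient.mk P).comp (algebraMap B' B) := by
    ext z; rfl
  have hmem := mem_range_of_separable_of_pow (k := B' ⧸ P') (K := B ⧸ P)
    (a := Ideal.Quotient.mk P x) (g := g'.map (Ideal.Quotient.mk P'))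
    (h := h'.map (Ideal.Quotient.mk P')) (n := Fintype.card T) ?_ ?_ Fintype.card_pos ?_
  · obtain ⟨z, hz⟩ := hmem
    obtain ⟨y, rfl⟩ := Ideal.Quotient.mk_surjective z
    refine ⟨(y : B), fun γ hγ => y.2 ⟨γ, hγ⟩, ?_⟩
    rw [← Ideal.Quotient.eq]
    exact hz.symm
  · rw [← separable_map (algebraMap (B' ⧸ P') (B ⧸ P)), map_map, hcomp, ← map_map, hg']
    exact hsep
  · rw [← eval_map_algebraMap, map_map, hcomp, ← map_map, hg', eval_map, eval₂_at_apply]
    rw [← coe_aeval_eq_eval]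
    exact Ideal.Quotient.eq_zero_iff_mem.mpr hroot
  · rw [map_map, hcomp, ← map_map, hh', MulSemiringAction.charpoly_eq, Polynomial.map_prod]
    simp only [Polynomial.map_sub, map_X, map_C]
    have : ∀ t : T, Ideal.Quotient.mk P (t • x) = Ideal.Quotient.mk P x := by
      intro t
      rw [Ideal.Quotient.eq]
      exact t.2 x
    simp only [this, Finset.prod_const, Finset.card_univ]

end Back

section Tau

variable {B : Type u} [CommRing B] {Γ : Type v} [Group Γ] [MulSemiringAction Γ B]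
  (T : Subgroup Γ) [Fintype (Γ ⧸ T)]

/-- coset trace -/
noncomputable def tau (z : B) : B := ∑ q : Γ ⧸ T, (Quotient.out q : Γ) • z

lemma out_smul_eq {z : B} (hz : ∀ t ∈ T, t • z = z) (γ : Γ) :
    (Quotient.out (QuotientGroup.mk γ : Γ ⧸ T) : Γ) • z = γ • z := by
  have h : (Quotient.out (QuotientGroup.mk γ : Γ ⧸ T) : Γ)⁻¹ * γ ∈ T := by
    rw [← QuotientGroup.eq]; exact QuotientGroup.out_eq' _
  have := hz _ h
  rw [mul_smul, inv_smul_eq_iff] at this
  exact this.symm

lemma smul_tau {z : B} (hz : ∀ t ∈ T, t • z = z) (γ : Γ) : γ • tau T z = tau T z := by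
  unfold tau
  rw [Finset.smul_sum]
  simp only [← mul_smul]
  rw [← Equiv.sum_comp (MulAction.toPerm γ : Equiv.Perm (Γ ⧸ T))
    (fun q => (Quotient.out q : Γ) • z)]
  apply Finset.sum_congr rfl
  intro q _
  obtain ⟨g, rfl⟩ := QuotientGroup.mk_surjective q
  have : (MulAction.toPerm γ : Equiv.Perm (Γ ⧸ T)) (QuotientGroup.mk g) =
      QuotientGroup.mk (γ * g) := rfl
  rw [this, out_smul_eq T hz, mul_smul, mul_smul, out_smul_eq T hz]

end Tau

section Forward

open scoped Classical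

variable {B : Type u} [CommRing B] {Γ : Type v} [Group Γ] [Fintype Γ] [MulSemiringAction Γ B]
  (P : Ideal B) [P.IsMaximal]

lemma mk_smul_eq_one_of_stab {e₀ : B} (he : e₀ - 1 ∈ P) {γ : Γ} (hγ : γ • P = P) :
    Ideal.Quotient.mk P (γ • e₀) = 1 := by
  rw [← map_one (Ideal.Quotient.mk P), Ideal.Quotient.eq]
  have : γ • e₀ - 1 = γ • (e₀ - 1) := by rw [smul_sub, smul_one]
  rw [this, ← hγ]
  exact Ideal.smul_mem_pointwise_smul γ _ P he

theorem exists_e : ∃ e : B, (∀ t ∈ P.inertia Γ, t • e = e) ∧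
    (∀ δ ∈ MulAction.stabilizer Γ P, Ideal.Quotient.mk P (δ • e) = 1) ∧
    (∀ γ ∉ MulAction.stabilizer Γ P, γ • e ∈ P) := by
  classical
  let D := MulAction.stabilizer Γ P
  let T := P.inertia Γ
  have hTD : T ≤ D := Ideal.inertia_le_stabilizer P
  let 𝔟 : Ideal B := (Finset.univ.filter (fun γ : Γ => γ ∉ D)).inf (fun γ => γ⁻¹ • P)
  have hsup : P ⊔ 𝔟 = ⊤ := by
    by_contra hne
    have h1 : P = P ⊔ 𝔟 := Ideal.IsMaximal.eq_of_le inferInstance hne le_sup_left
    have h2 : 𝔟 ≤ P := by rw [h1]; exact le_sup_right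
    obtain ⟨γ, hγ, hle⟩ := (Ideal.IsPrime.inf_le' (inferInstance : P.IsPrime)).mp h2
    simp only [Finset.mem_filter, Finset.mem_univ, true_and] at hγ
    apply hγ
    rw [Ideal.pointwise_smul_subset_iff, inv_inv] at hle
    have hne' : γ • P ≠ ⊤ := Ideal.IsPrime.ne_top inferInstance
    exact (Ideal.IsMaximal.eq_of_le inferInstance hne' hle).symm
  obtain ⟨u, hu, e₀, he₀, hsum⟩ := Submodule.mem_sup.mp (hsup ▸ Submodule.mem_top : (1 : B) ∈ P ⊔ 𝔟)
  have he1 : e₀ - 1 ∈ P := by
    have : e₀ - 1 = -u := by rw [← hsum]; ring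
    rw [this]; exact neg_mem hu
  refine ⟨∏ t : T, (t : Γ) • e₀, ?_, ?_, ?_⟩
  · intro t' ht'
    rw [Finset.smul_prod']
    simp only [← mul_smul]
    exact Equiv.prod_comp (Equiv.mulLeft (⟨t', ht'⟩ : T)) (fun t : T => (t : Γ) • e₀)
  · intro δ hδ
    rw [Finset.smul_prod', map_prod]
    apply Finset.prod_eq_one
    intro t _
    rw [← mul_smul]
    exact mk_smul_eq_one_of_stab P he1 (MulAction.mem_stabilizer_iff.mp (D.mul_mem hδ (hTD t.2)))
  · intro γ hγ
    rw [Finset.smul_prod']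
    have hdvd : γ • ((1 : T) : Γ) • e₀ ∣ ∏ t : T, γ • (t : Γ) • e₀ :=
      Finset.dvd_prod_of_mem (fun t : T => γ • (t : Γ) • e₀) (Finset.mem_univ 1)
    apply Ideal.mem_of_dvd _ hdvd
    rw [Subgroup.coe_one, one_smul, ← Ideal.mem_inv_pointwise_smul_iff]
    have : 𝔟 ≤ γ⁻¹ • P := Finset.inf_le (f := fun γ : Γ => γ⁻¹ • P)
      (Finset.mem_filter.mpr ⟨Finset.mem_univ γ, hγ⟩)
    exact this he₀

/-- an element acting trivially mod `P` on the inertia invariants lies in the inertia group -/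
theorem mem_inertia_of_trivial_on_invariants (δ : Γ)
    (h : ∀ z : B, (∀ t ∈ P.inertia Γ, t • z = z) →
      Ideal.Quotient.mk P (δ • z) = Ideal.Quotient.mk P z) :
    δ ∈ P.inertia Γ := by
  classical
  intro b
  let T := P.inertia Γ
  let φ : B →+* B ⧸ P := (Ideal.Quotient.mk P).comp (MulSemiringAction.toRingHom Γ B δ)
  have hφ : ∀ z, φ z = Ideal.Quotient.mk P (δ • z) := fun z => rfl
  let hpoly := MulSemiringAction.charpoly T b
  have hmap : hpoly.map φ = hpoly.map (Ideal.Quotient.mk P) := by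
    ext n
    rw [coeff_map, coeff_map, hφ]
    apply h
    intro t ht
    exact MulSemiringAction.smul_coeff_charpoly b n (⟨t, ht⟩ : T)
  have h0 : eval (φ b) (hpoly.map φ) = 0 := by
    rw [eval_map, eval₂_at_apply, MulSemiringAction.eval_charpoly, map_zero]
  rw [hmap] at h0
  simp only [hpoly] at h0
  rw [MulSemiringAction.charpoly_eq, Polynomial.map_prod, eval_prod] at h0
  simp only [Polynomial.map_sub, map_X, map_C, eval_sub, eval_X, eval_C] at h0
  obtain ⟨t, _, ht⟩ := Finset.prod_eq_zero_iff.mp h0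
  have ht' : Ideal.Quotient.mk P ((t : Γ) • b) = Ideal.Quotient.mk P b := by
    rw [Ideal.Quotient.eq]; exact t.2 b
  change φ b - Ideal.Quotient.mk P ((t : Γ) • b) = 0 at ht
  rw [ht', sub_eq_zero, hφ, Ideal.Quotient.eq] at ht
  exact ht

/-- the cosets of the inertia group inside the decomposition group -/
noncomputable def Dq : Finset (Γ ⧸ P.inertia Γ) :=
  Finset.univ.filter (fun q => (Quotient.out q : Γ) ∈ MulAction.stabilizer Γ P)

theorem exists_c : ∃ c : B, (∀ t ∈ P.inertia Γ, t • c = c) ∧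
    ∑ q ∈ Dq P, Ideal.Quotient.mk P ((Quotient.out q : Γ) • c) ≠ 0 := by
  by_contra hcon
  push Not at hcon
  let T := P.inertia Γ
  let B' : Subring B := FixedPoints.subring B T
  have hB' : ∀ z : B', ∀ t ∈ T, t • (z : B) = z := fun z t ht => z.2 ⟨t, ht⟩
  let χ : (Γ ⧸ T) → (B' →* (B ⧸ P)) := fun q =>
    ((Ideal.Quotient.mk P).comp ((MulSemiringAction.toRingHom Γ B (Quotient.out q)).comp
      B'.subtype)).toMonoidHom
  have hχ : ∀ q (z : B'), χ q z = Ideal.Quotient.mk P ((Quotient.out q : Γ) • (z : B)) :=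
    fun q z => rfl
  have hli := linearIndependent_monoidHom B' (B ⧸ P)
  have hsum : ∑ ψ ∈ (Dq P).image χ,
      (((Dq P).filter (fun q => χ q = ψ)).card : B ⧸ P) • (ψ : B' → B ⧸ P) = 0 := by
    funext z
    have h1 := Finset.sum_comp (s := Dq P) (fun ψ : B' →* (B ⧸ P) => ψ z) χ
    simp only [Finset.sum_apply, Pi.smul_apply, Pi.zero_apply, smul_eq_mul]
    simp only [nsmul_eq_mul] at h1
    rw [← h1]
    simp only [hχ]
    exact hcon (z : B) (hB' z)
  let q₁ : Γ ⧸ T := QuotientGroup.mk 1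
  have hq₁T : (Quotient.out q₁ : Γ) ∈ T := by
    have h : (Quotient.out q₁ : Γ)⁻¹ * 1 ∈ T := by
      rw [← QuotientGroup.eq]; exact QuotientGroup.out_eq' _
    simpa using h
  have hq₁ : q₁ ∈ Dq P := by
    unfold Dq
    rw [Finset.mem_filter]
    exact ⟨Finset.mem_univ _, Ideal.inertia_le_stabilizer P hq₁T⟩
  have h0 := linearIndependent_iff'.mp hli _ _ hsum (χ q₁) (Finset.mem_image_of_mem χ hq₁)
  have hcard : ((Dq P).filter (fun q => χ q = χ q₁)).card = 1 := by
    rw [Finset.card_eq_one]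
    refine ⟨q₁, ?_⟩
    ext q
    simp only [Finset.mem_filter, Finset.mem_singleton]
    constructor
    · rintro ⟨_, hq⟩
      have hmem : (Quotient.out q : Γ) ∈ T := by
        apply mem_inertia_of_trivial_on_invariants P
        intro z hz
        have := DFunLike.congr_fun hq ⟨z, fun t => hz t.1 t.2⟩
        rw [hχ, hχ] at this
        rw [this]
        simp only []
        rw [hz _ hq₁T]
      have : q = QuotientGroup.mk (Quotient.out q : Γ) := (QuotientGroup.out_eq' q).symm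
      rw [this]
      change (QuotientGroup.mk (Quotient.out q : Γ) : Γ ⧸ T) = QuotientGroup.mk 1
      rw [QuotientGroup.eq]
      simpa using T.inv_mem hmem
    · rintro rfl
      exact ⟨hq₁, rfl⟩
  rw [hcard] at h0
  simp at h0

lemma mk_tau_mul {e : B} (he2 : ∀ δ ∈ MulAction.stabilizer Γ P, Ideal.Quotient.mk P (δ • e) = 1)
    (he3 : ∀ γ ∉ MulAction.stabilizer Γ P, γ • e ∈ P) (z : B) :
    Ideal.Quotient.mk P (tau (P.inertia Γ) (e * z)) =
      ∑ q ∈ Dq P, Ideal.Quotient.mk P ((Quotient.out q : Γ) • z) := by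
  unfold tau Dq
  rw [map_sum, Finset.sum_filter]
  apply Finset.sum_congr rfl
  intro q _
  rw [smul_mul', map_mul]
  split_ifs with h
  · rw [he2 _ h, one_mul]
  · rw [Ideal.Quotient.eq_zero_iff_mem.mpr (he3 _ h), zero_mul]

/-- an inertia invariant which is decomposition invariant mod `P` is congruent to a full invariant -/
theorem exists_invariant_congr {s : B} (hsT : ∀ t ∈ P.inertia Γ, t • s = s)
    (hsD : ∀ δ ∈ MulAction.stabilizer Γ P, Ideal.Quotient.mk P (δ • s) = Ideal.Quotient.mk P s) :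
    ∃ a : B, (∀ γ : Γ, γ • a = a) ∧ Ideal.Quotient.mk P a = Ideal.Quotient.mk P s := by
  obtain ⟨e, he1, he2, he3⟩ := exists_e (Γ := Γ) P
  obtain ⟨c, hc1, hc2⟩ := exists_c (Γ := Γ) P
  let T := P.inertia Γ
  have hcT : ∀ t ∈ T, t • (e * c) = e * c := fun t ht => by
    rw [smul_mul', he1 t ht, hc1 t ht]
  have hcsT : ∀ t ∈ T, t • (e * (c * s)) = e * (c * s) := fun t ht => by
    rw [smul_mul', smul_mul', he1 t ht, hc1 t ht, hsT t ht]
  set v := tau T (e * c) with hv
  set w := tau T (e * (c * s)) with hw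
  have hvΓ : ∀ γ : Γ, γ • v = v := smul_tau T hcT
  have hwΓ : ∀ γ : Γ, γ • w = w := smul_tau T hcsT
  have hmv : Ideal.Quotient.mk P v =
      ∑ q ∈ Dq P, Ideal.Quotient.mk P ((Quotient.out q : Γ) • c) := mk_tau_mul P he2 he3 c
  have hmw : Ideal.Quotient.mk P w = Ideal.Quotient.mk P v * Ideal.Quotient.mk P s := by
    rw [hw, mk_tau_mul P he2 he3 (c * s), hmv, Finset.sum_mul]
    apply Finset.sum_congr rfl
    intro q hq
    have hqD : (Quotient.out q : Γ) ∈ MulAction.stabilizer Γ P := by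
      unfold Dq at hq
      exact (Finset.mem_filter.mp hq).2
    rw [smul_mul', map_mul, hsD _ hqD]
  have hvP : v ∉ P := by
    rw [← Ideal.Quotient.eq_zero_iff_mem, hmv]; exact hc2
  -- invert v in the invariant ring
  let A : Subring B := FixedPoints.subring B Γ
  haveI : Algebra.IsInvariant A B Γ := ⟨fun b hb => ⟨⟨b, hb⟩, rfl⟩⟩
  haveI : Algebra.IsIntegral A B := Algebra.IsInvariant.isIntegral A B Γ
  let p : Ideal A := P.comap (algebraMap A B)
  haveI hp : p.IsMaximal := Ideal.isMaximal_comap_of_isIntegral_of_isMaximal P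
  have hvp : (⟨v, hvΓ⟩ : A) ∉ p := fun h => hvP h
  obtain ⟨y, i, hi, hyi⟩ := hp.exists_inv hvp
  have hyv : Ideal.Quotient.mk P (y : B) * Ideal.Quotient.mk P v = 1 := by
    have h1 := congrArg (fun a : A => Ideal.Quotient.mk P (a : B)) hyi
    simp only [Subring.coe_add, Subring.coe_mul, map_add, map_mul, Subring.coe_one, map_one] at h1
    have h2 : Ideal.Quotient.mk P (i : B) = 0 := Ideal.Quotient.eq_zero_iff_mem.mpr hi
    rw [h2, add_zero] at h1
    exact h1
  refine ⟨(y : B) * w, fun γ => ?_, ?_⟩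
  · rw [smul_mul', hwΓ, y.2 γ]
  · rw [map_mul, hmw, ← mul_assoc, hyv, one_mul]

omit [Fintype Γ] [P.IsMaximal] in
lemma conj_mem_inertia {t δ : Γ} (ht : t ∈ P.inertia Γ) (hδ : δ ∈ MulAction.stabilizer Γ P) :
    δ⁻¹ * t * δ ∈ P.inertia Γ := by
  intro b
  have h1 := ht (δ • b)
  have hδ' : δ⁻¹ • P = P := MulAction.mem_stabilizer_iff.mp (Subgroup.inv_mem _ hδ)
  have e : (δ⁻¹ * t * δ) • b - b = δ⁻¹ • (t • δ • b - δ • b) := by
    rw [smul_sub, mul_smul, mul_smul, inv_smul_smul]
  change (δ⁻¹ * t * δ) • b - b ∈ P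
  rw [e, ← hδ']
  exact Ideal.smul_mem_pointwise_smul _ _ P h1

theorem exists_separable_of_invariant (x y : B) (hy : ∀ γ ∈ P.inertia Γ, γ • y = y)
    (hxy : x - y ∈ P) :
    ∃ g : B[X], (∀ (i : ℕ) (γ : Γ), γ • g.coeff i = g.coeff i) ∧
      (g.map (Ideal.Quotient.mk P)).Separable ∧ aeval x g ∈ P := by
  letI : Field (B ⧸ P) := Ideal.Quotient.field P
  let T := P.inertia Γ
  let D := MulAction.stabilizer Γ P
  have hPle : ∀ δ : D, P ≤ P.comap (MulSemiringAction.toRingHom Γ B (δ : Γ)) := by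
    intro δ z hz
    rw [Ideal.mem_comap]
    have := Ideal.smul_mem_pointwise_smul (δ : Γ) z P hz
    rwa [MulAction.mem_stabilizer_iff.mp δ.2] at this
  let bar : D → (B ⧸ P →+* B ⧸ P) := fun δ =>
    Ideal.quotientMap P (MulSemiringAction.toRingHom Γ B (δ : Γ)) (hPle δ)
  have hbar : ∀ (δ : D) (z : B), bar δ (Ideal.Quotient.mk P z) = Ideal.Quotient.mk P ((δ : Γ) • z) :=
    fun δ z => Ideal.quotientMap_mk
  let Rts : Finset (B ⧸ P) := Finset.univ.image (fun δ : D => Ideal.Quotient.mk P ((δ : Γ) • y))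
  let fbar : (B ⧸ P)[X] := ∏ c ∈ Rts, (X - C c)
  have hfsep : fbar.Separable := by
    apply separable_prod_X_sub_C_iff'.mpr
    intro a _ b _ hab; exact hab
  -- bar δ permutes the roots
  have hperm : ∀ δ : D, Rts.image (bar δ) = Rts := by
    intro δ
    apply Finset.eq_of_subset_of_card_le
    · intro c hc
      obtain ⟨c', hc', rfl⟩ := Finset.mem_image.mp hc
      obtain ⟨δ', _, rfl⟩ := Finset.mem_image.mp hc'
      rw [hbar, ← mul_smul]
      exact Finset.mem_image.mpr ⟨δ * δ', Finset.mem_univ _, rfl⟩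
    · rw [Finset.card_image_of_injective _ (bar δ).injective]
  have hfmap : ∀ δ : D, fbar.map (bar δ) = fbar := by
    intro δ
    simp only [fbar]
    rw [Polynomial.map_prod]
    simp only [Polynomial.map_sub, map_X, map_C]
    conv_rhs => rw [← hperm δ]
    rw [Finset.prod_image (fun a _ b _ hab => (bar δ).injective hab)]
  -- lift to the inertia invariants
  let B' : Subring B := FixedPoints.subring B T
  let φ' : B' →+* B ⧸ P := (Ideal.Quotient.mk P).comp B'.subtype
  have hflift : fbar ∈ lifts φ' := by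
    simp only [fbar]
    apply Subsemiring.prod_mem
    intro c hc
    obtain ⟨δ, _, rfl⟩ := Finset.mem_image.mp hc
    have hmem : ∀ t : T, t • ((δ : Γ) • y) = (δ : Γ) • y := by
      intro t
      have h1 := hy _ (conj_mem_inertia P t.2 δ.2)
      rw [mul_smul, mul_smul, inv_smul_eq_iff] at h1
      exact h1
    have hC : C (Ideal.Quotient.mk P ((δ : Γ) • y)) = C (φ' ⟨(δ : Γ) • y, hmem⟩) := rfl
    rw [sub_eq_add_neg, hC, ← C_neg, ← map_neg]
    exact Subsemiring.add_mem _ (X_mem_lifts _) (C_mem_lifts _ _)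
  obtain ⟨F', hF'⟩ := hflift
  replace hF' : F'.map φ' = fbar := hF'
  have hcoefA : ∀ n : ℕ, ∃ a : B, (∀ γ : Γ, γ • a = a) ∧ Ideal.Quotient.mk P a = fbar.coeff n := by
    intro n
    have hs : Ideal.Quotient.mk P ((F'.coeff n : B)) = fbar.coeff n := by
      rw [← hF', coeff_map]; rfl
    have hD : ∀ δ ∈ MulAction.stabilizer Γ P, Ideal.Quotient.mk P (δ • (F'.coeff n : B)) =
        Ideal.Quotient.mk P (F'.coeff n : B) := by
      intro δ hδ
      rw [hs, ← hbar ⟨δ, hδ⟩, hs, ← coeff_map, hfmap]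
    obtain ⟨a, ha1, ha2⟩ := exists_invariant_congr (Γ := Γ) P (s := (F'.coeff n : B))
      (fun t ht => (F'.coeff n).2 ⟨t, ht⟩) hD
    exact ⟨a, ha1, ha2.trans hs⟩
  let A : Subring B := FixedPoints.subring B Γ
  let φA : A →+* B ⧸ P := (Ideal.Quotient.mk P).comp A.subtype
  have hfliftA : fbar ∈ lifts φA := by
    rw [lifts_iff_coeff_lifts]
    intro n
    obtain ⟨a, ha1, ha2⟩ := hcoefA n
    exact ⟨⟨a, ha1⟩, ha2⟩
  obtain ⟨GA, hGA⟩ := hfliftA
  replace hGA : GA.map φA = fbar := hGA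
  have hgmap : (GA.map A.subtype).map (Ideal.Quotient.mk P) = fbar := by
    rw [map_map]; exact hGA
  refine ⟨GA.map A.subtype, ?_, ?_, ?_⟩
  · intro i γ
    rw [coeff_map]
    exact (GA.coeff i).2 γ
  · rw [hgmap]; exact hfsep
  · rw [← Ideal.Quotient.eq_zero_iff_mem, coe_aeval_eq_eval, ← eval₂_at_apply, ← eval_map, hgmap]
    have hxy' : Ideal.Quotient.mk P x = Ideal.Quotient.mk P y := Ideal.Quotient.eq.mpr hxy
    rw [hxy']
    simp only [fbar]
    rw [eval_prod]
    apply Finset.prod_eq_zero (i := Ideal.Quotient.mk P y)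
    · exact Finset.mem_image.mpr ⟨1, Finset.mem_univ _, by simp⟩
    · simp

end Forward

end Groth.Agent.Helper3.InvSep
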