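import Mathlib
import Groth.Agent.Lib.Helper3.InvSep

/-!
# Inertia invariants, part 1: the decomposition step (helper3)

A finite group `G` acts on `B`, `P` a maximal ideal with stabilizer `D`.
`exists_E`: a `D`-invariant element `E ≡ 1 mod P` all of whose other conjugates lie in `P`.
`trick`: for such an element `w`, `(w - 1) w ^ N` is a polynomial in `w` with coefficients in
`P ∩ A`.
-/

set_option autoImplicit false
universe u v

namespace Groth.Agent.Helper3.InIn

open scoped Pointwise
open Polynomial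

section E

open scoped Classical

variable {B : Type u} [CommRing B] {G : Type v} [Group G] [Fintype G] [MulSemiringAction G B]
  (P : Ideal B) [P.IsMaximal]

theorem exists_E : ∃ E : B, (∀ δ ∈ MulAction.stabilizer G P, δ • E = E) ∧ E - 1 ∈ P ∧
    (∀ γ ∉ MulAction.stabilizer G P, γ • E ∈ P) := by
  obtain ⟨e, -, he2, he3⟩ := InvSep.exists_e (Γ := G) P
  let D := MulAction.stabilizer G P
  refine ⟨∏ δ : D, (δ : G) • e, ?_, ?_, ?_⟩
  · intro δ' hδ'
    rw [Finset.smul_prod']
    simp only [← mul_smul]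
    exact Equiv.prod_comp (Equiv.mulLeft (⟨δ', hδ'⟩ : D)) (fun δ : D => (δ : G) • e)
  · rw [← Ideal.Quotient.eq, map_prod, map_one]
    apply Finset.prod_eq_one
    intro δ _
    exact he2 δ δ.2
  · intro γ hγ
    rw [Finset.smul_prod']
    have hdvd : γ • ((1 : D) : G) • e ∣ ∏ δ : D, γ • (δ : G) • e :=
      Finset.dvd_prod_of_mem (fun δ : D => γ • (δ : G) • e) (Finset.mem_univ 1)
    apply Ideal.mem_of_dvd _ hdvd
    rw [Subgroup.coe_one, one_smul]
    exact he3 γ hγ

end E

section Poly

variable {B : Type u} [CommRing B] {G : Type v} [Group G] [MulSemiringAction G B]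
  (D : Subgroup G) [Fintype (G ⧸ D)]

/-- the product over the cosets of `D` of `X - γ w` -/
noncomputable def cosetPoly (w : B) : B[X] :=
  ∏ q : G ⧸ D, (X - C ((Quotient.out q : G) • w))

lemma smul_cosetPoly {w : B} (hw : ∀ δ ∈ D, δ • w = w) (γ : G) :
    γ • cosetPoly D w = cosetPoly D w := by
  unfold cosetPoly
  rw [Finset.smul_prod']
  simp only [smul_sub, smul_X, smul_C, ← mul_smul]
  rw [← Equiv.prod_comp (MulAction.toPerm γ : Equiv.Perm (G ⧸ D))
    (fun q => X - C ((Quotient.out q : G) • w))]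
  apply Finset.prod_congr rfl
  intro q _
  obtain ⟨g, rfl⟩ := QuotientGroup.mk_surjective q
  have : (MulAction.toPerm γ : Equiv.Perm (G ⧸ D)) (QuotientGroup.mk g) =
      QuotientGroup.mk (γ * g) := rfl
  rw [this, InvSep.out_smul_eq D hw, mul_smul, mul_smul, InvSep.out_smul_eq D hw]

lemma smul_coeff_cosetPoly {w : B} (hw : ∀ δ ∈ D, δ • w = w) (γ : G) (n : ℕ) :
    γ • (cosetPoly D w).coeff n = (cosetPoly D w).coeff n := by
  rw [← Polynomial.coeff_smul, smul_cosetPoly D hw]

lemma eval_cosetPoly {w : B} (hw : ∀ δ ∈ D, δ • w = w) : (cosetPoly D w).eval w = 0 := by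
  unfold cosetPoly
  rw [eval_prod]
  apply Finset.prod_eq_zero (Finset.mem_univ (QuotientGroup.mk 1 : G ⧸ D))
  rw [InvSep.out_smul_eq D hw, one_smul, eval_sub, eval_X, eval_C, sub_self]

end Poly

section Trick

variable {A : Type u} {B : Type u} [CommRing A] [CommRing B] [Algebra A B]
  {G : Type v} [Group G] [Finite G] [MulSemiringAction G B] [Algebra.IsInvariant A B G]
  (P : Ideal B) [P.IsMaximal]

theorem trick (w : B) (hwD : ∀ δ ∈ MulAction.stabilizer G P, δ • w = w) (hw1 : w - 1 ∈ P)
    (hwγ : ∀ γ ∉ MulAction.stabilizer G P, γ • w ∈ P) :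
    ∃ (N : ℕ) (R₀ : A[X]), (∀ i, R₀.coeff i ∈ P.comap (algebraMap A B)) ∧
      (w - 1) * w ^ N = aeval w R₀ := by
  classical
  let D := MulAction.stabilizer G P
  haveI : Fintype (G ⧸ D) := Fintype.ofFinite _
  let q₁ : G ⧸ D := QuotientGroup.mk 1
  let N := (Finset.univ.erase q₁).card
  have hlift : cosetPoly D w ∈ lifts (algebraMap A B) := by
    rw [lifts_iff_coeff_lifts]
    intro n
    obtain ⟨a, ha⟩ := Algebra.IsInvariant.isInvariant (A := A) (G := G) _
      (fun γ => smul_coeff_cosetPoly D hwD γ n)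
    exact ⟨a, ha⟩
  obtain ⟨F₀, hF₀⟩ := (mem_lifts _).mp hlift
  have hmapφ : (cosetPoly D w).map (Ideal.Quotient.mk P) = (X - 1) * X ^ N := by
    unfold cosetPoly
    rw [Polynomial.map_prod, ← Finset.mul_prod_erase Finset.univ _ (Finset.mem_univ q₁)]
    congr 1
    · have h1 : (Quotient.out q₁ : G) • w = w := by
        rw [InvSep.out_smul_eq D hwD, one_smul]
      rw [h1, Polynomial.map_sub, map_X, map_C]
      have : Ideal.Quotient.mk P w = 1 := by
        rw [← map_one (Ideal.Quotient.mk P), Ideal.Quotient.eq]; exact hw1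
      rw [this, map_one]
    · rw [← Finset.prod_const]
      apply Finset.prod_congr rfl
      intro q hq
      have hqne : q ≠ q₁ := Finset.ne_of_mem_erase hq
      have hout : (Quotient.out q : G) ∉ D := by
        intro h
        apply hqne
        rw [← QuotientGroup.out_eq' q]
        exact QuotientGroup.eq.mpr (by simpa using D.inv_mem h)
      rw [Polynomial.map_sub, map_X, map_C,
        Ideal.Quotient.eq_zero_iff_mem.mpr (hwγ _ hout), map_zero, sub_zero]
  refine ⟨N, (X - 1) * X ^ N - F₀, ?_, ?_⟩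
  · intro i
    rw [Ideal.mem_comap, ← Ideal.Quotient.eq_zero_iff_mem]
    have h2 : (((X - 1) * X ^ N - F₀ : A[X]).map (algebraMap A B)).map (Ideal.Quotient.mk P) = 0 := by
      rw [Polynomial.map_sub, Polynomial.map_sub, hF₀, hmapφ]
      simp
    have := congrArg (fun p => p.coeff i) h2
    rw [coeff_map, coeff_map, coeff_zero] at this
    exact this
  · rw [map_sub, aeval_def, aeval_def, ← eval_map, ← eval_map, hF₀, eval_cosetPoly D hwD, sub_zero]
    simp

end Trick

end Groth.Agent.Helper3.InIn
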