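import Mathlib
import Groth.Agent.Lib.Helper3.InIn1

/-!
# Inertia invariants, part 2: the decomposition ring is unramified over the base (helper3)
-/

set_option autoImplicit false
universe u v

namespace Groth.Agent.Helper3.InIn

open scoped Pointwise
open Polynomial KaehlerDifferential

variable {A : Type u} {B : Type u} [CommRing A] [CommRing B] [Algebra A B]
  {G : Type v} [Group G] [Finite G] [MulSemiringAction G B] [SMulCommClass G A B]
  [Algebra.IsInvariant A B G] (P : Ideal B) [P.IsMaximal]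

/-- the decomposition ring -/
abbrev decRing : Subalgebra A B := FixedPoints.subalgebra A B (MulAction.stabilizer G P)

omit [Finite G] [Algebra.IsInvariant A B G] [P.IsMaximal] in
lemma mem_decRing {b : B} :
    b ∈ decRing (A := A) (G := G) P ↔ ∀ δ ∈ MulAction.stabilizer G P, δ • b = b := by
  constructor
  · intro h δ hδ
    exact h ⟨δ, hδ⟩
  · intro h δ
    exact h δ.1 δ.2

/-- the prime of the decomposition ring below `P` -/
abbrev decPrime : Ideal (decRing (A := A) (G := G) P) :=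
  P.comap (algebraMap (decRing (A := A) (G := G) P) B)

instance : (decPrime (A := A) (G := G) P).IsPrime := Ideal.comap_isPrime _ _

local notation "𝒞" => decRing (A := A) (G := G) P
local notation "𝔫" => decPrime (A := A) (G := G) P
local notation "𝒞ₙ" => Localization.AtPrime (decPrime (A := A) (G := G) P)
local notation "𝔭₀" => Ideal.comap (algebraMap A B) P

/-- residue field surjectivity -/
theorem exists_sub_mem_decPrime (c : decRing (A := A) (G := G) P) :
    ∃ a : A, c - algebraMap A _ a ∈ decPrime (A := A) (G := G) P := by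
  classical
  haveI : Fintype G := Fintype.ofFinite G
  have hcD := (mem_decRing P).mp c.2
  obtain ⟨a, haG, hac⟩ := InvSep.exists_invariant_congr (Γ := G) P (s := (c : B))
    (fun t ht => hcD t (Ideal.inertia_le_stabilizer P ht))
    (fun δ hδ => by rw [hcD δ hδ])
  obtain ⟨a₀, rfl⟩ := Algebra.IsInvariant.isInvariant (A := A) (G := G) a haG
  refine ⟨a₀, ?_⟩
  change ((c : B) - algebraMap A B a₀) ∈ P
  rw [← Ideal.Quotient.eq, hac]

/-- good elements are congruent to `1` modulo `p C_n` -/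
theorem good_sub_one_mem (w : decRing (A := A) (G := G) P) (hw1 : (w : B) - 1 ∈ P)
    (hwγ : ∀ γ ∉ MulAction.stabilizer G P, γ • (w : B) ∈ P) :
    algebraMap _ (Localization.AtPrime (decPrime (A := A) (G := G) P)) w - 1 ∈
      (P.comap (algebraMap A B)).map
        (algebraMap A (Localization.AtPrime (decPrime (A := A) (G := G) P))) := by
  obtain ⟨N, R₀, hR₀, hw⟩ := trick (A := A) P (w : B) ((mem_decRing P).mp w.2) hw1 hwγ
  -- identity in `𝒞`
  have hC : (w - 1) * w ^ N = aeval w R₀ := by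
    apply Subtype.ext
    rw [← Polynomial.aeval_subalgebra_coe] at hw
    simpa using hw
  have hmem : aeval w R₀ ∈ Ideal.map (algebraMap A 𝒞) 𝔭₀ := by
    rw [Polynomial.aeval_eq_sum_range]
    refine Ideal.sum_mem _ fun i _ => ?_
    rw [Algebra.smul_def]
    exact Ideal.mul_mem_right _ _ (Ideal.mem_map_of_mem _ (hR₀ i))
  have hwn : w ∉ 𝔫 := by
    intro h
    have h1 : (w : B) ∈ P := h
    have : (1 : B) ∈ P := by
      have := P.sub_mem h1 hw1
      simpa using this
    exact (Ideal.IsPrime.ne_top inferInstance) ((Ideal.eq_top_iff_one P).mpr this)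
  have hu : IsUnit (algebraMap 𝒞 𝒞ₙ w) :=
    IsLocalization.map_units _ (⟨w, hwn⟩ : (Ideal.primeCompl 𝔫))
  have h2 : algebraMap 𝒞 𝒞ₙ ((w - 1) * w ^ N) ∈
      Ideal.map (algebraMap A 𝒞ₙ) 𝔭₀ := by
    rw [hC, IsScalarTower.algebraMap_eq A 𝒞 𝒞ₙ, ← Ideal.map_map]
    exact Ideal.mem_map_of_mem _ hmem
  rw [map_mul, map_pow] at h2
  have h3 := (Ideal.mul_unit_mem_iff_mem _ (hu.pow N)).mp h2
  simpa using h3

/-- `n C_n = p C_n` -/
theorem algebraMap_mem_of_mem_decPrime (c : decRing (A := A) (G := G) P)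
    (hc : c ∈ decPrime (A := A) (G := G) P) :
    algebraMap _ (Localization.AtPrime (decPrime (A := A) (G := G) P)) c ∈
      (P.comap (algebraMap A B)).map
        (algebraMap A (Localization.AtPrime (decPrime (A := A) (G := G) P))) := by
  classical
  haveI : Fintype G := Fintype.ofFinite G
  obtain ⟨E, hED, hE1, hEγ⟩ := exists_E (G := G) P
  let E' : 𝒞 := ⟨E, (mem_decRing P).mpr hED⟩
  have hcP : (c : B) ∈ P := hc
  have h1 := good_sub_one_mem P E' hE1 hEγ
  have h2 := good_sub_one_mem P (E' * (1 + c)) (by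
      have : ((E' * (1 + c) : 𝒞) : B) - 1 = (E - 1) + E * (c : B) := by
        simp [E']; ring
      rw [this]
      exact P.add_mem hE1 (P.mul_mem_left _ hcP))
    (fun γ hγ => by
      have : γ • ((E' * (1 + c) : 𝒞) : B) = γ • E * γ • (1 + (c : B)) := by
        simp [E', smul_mul']
      rw [this]
      exact P.mul_mem_right _ (hEγ γ hγ))
  have hEn : E' ∉ 𝔫 := by
    intro h
    have h1' : E ∈ P := h
    have : (1 : B) ∈ P := by
      have := P.sub_mem h1' hE1
      simpa using this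
    exact (Ideal.IsPrime.ne_top inferInstance) ((Ideal.eq_top_iff_one P).mpr this)
  have hu : IsUnit (algebraMap 𝒞 𝒞ₙ E') :=
    IsLocalization.map_units _ (⟨E', hEn⟩ : (Ideal.primeCompl 𝔫))
  have h3 := Ideal.sub_mem _ h2 h1
  have h4 : algebraMap 𝒞 𝒞ₙ (E' * (1 + c)) - 1 -
      (algebraMap 𝒞 𝒞ₙ E' - 1) =
      algebraMap 𝒞 𝒞ₙ c * algebraMap 𝒞 𝒞ₙ E' := by
    simp only [map_mul, map_add, map_one]; ring
  rw [h4] at h3
  exact (Ideal.mul_unit_mem_iff_mem _ hu).mp h3

variable [IsNoetherianRing A] [Module.Finite A B]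

/-- the decomposition step: `C_n` is formally unramified over `A` -/
theorem formallyUnramified_decRing :
    Algebra.FormallyUnramified A (Localization.AtPrime (decPrime (A := A) (G := G) P)) := by
  haveI : IsNoetherian A B := isNoetherian_of_isNoetherianRing_of_finite A B
  haveI : Module.Finite A 𝒞 := Module.Finite.of_injective ((decRing (A := A) (G := G) P).val.toLinearMap)
    Subtype.val_injective
  haveI : Algebra.EssFiniteType A 𝒞ₙ := Algebra.EssFiniteType.comp A 𝒞 𝒞ₙ
  constructor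
  have hD : ∀ x ∈ Ideal.map (algebraMap A 𝒞ₙ) 𝔭₀, D A 𝒞ₙ x ∈ (Ideal.map (algebraMap A 𝒞ₙ) 𝔭₀) • (⊤ : Submodule 𝒞ₙ Ω[𝒞ₙ⁄A]) := by
    intro x hx
    induction hx using Submodule.span_induction with
    | mem x hx =>
      obtain ⟨a, _, rfl⟩ := hx
      rw [Derivation.map_algebraMap]
      exact Submodule.zero_mem _
    | zero => rw [map_zero]; exact Submodule.zero_mem _
    | add x y _ _ hx hy => rw [map_add]; exact Submodule.add_mem _ hx hy
    | smul t y hy ih =>
      rw [smul_eq_mul, Derivation.leibniz]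
      refine Submodule.add_mem _ ?_ ?_
      · exact Submodule.smul_mem _ _ ih
      · exact Submodule.smul_mem_smul hy trivial
  have htop : (⊤ : Submodule 𝒞ₙ Ω[𝒞ₙ⁄A]) ≤ (Ideal.map (algebraMap A 𝒞ₙ) 𝔭₀) • ⊤ := by
    refine le_trans (le_of_eq (KaehlerDifferential.span_range_map_derivation_of_isLocalization
      A 𝒞 𝒞ₙ (Ideal.primeCompl 𝔫)).symm) (Submodule.span_le.mpr ?_)
    rintro _ ⟨c, rfl⟩
    simp only [Function.comp_apply, KaehlerDifferential.map_D]
    obtain ⟨a, ha⟩ := exists_sub_mem_decPrime P c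
    have h1 : algebraMap 𝒞 𝒞ₙ c = algebraMap 𝒞 𝒞ₙ (c - algebraMap A 𝒞 a) + algebraMap A 𝒞ₙ a := by
      rw [map_sub, ← IsScalarTower.algebraMap_apply A 𝒞 𝒞ₙ]; ring
    rw [SetLike.mem_coe, h1, map_add, Derivation.map_algebraMap, add_zero]
    exact hD _ (algebraMap_mem_of_mem_decPrime P _ ha)
  have hjac : Ideal.map (algebraMap A 𝒞ₙ) 𝔭₀ ≤ (⊥ : Ideal 𝒞ₙ).jacobson := by
    rw [IsLocalRing.jacobson_eq_maximalIdeal ⊥ bot_ne_top]
    rw [Ideal.map_le_iff_le_comap]
    intro a ha
    rw [Ideal.mem_comap, IsScalarTower.algebraMap_apply A 𝒞 𝒞ₙ,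
      IsLocalization.AtPrime.to_map_mem_maximal_iff 𝒞ₙ 𝔫]
    exact ha
  have hfg : (⊤ : Submodule 𝒞ₙ Ω[𝒞ₙ⁄A]).FG := Module.Finite.fg_top
  have hbot := Submodule.eq_bot_of_le_smul_of_le_jacobson_bot (Ideal.map (algebraMap A 𝒞ₙ) 𝔭₀) ⊤ hfg htop hjac
  refine subsingleton_of_forall_eq 0 fun x => ?_
  have hx : x ∈ (⊤ : Submodule 𝒞ₙ Ω[𝒞ₙ⁄A]) := trivial
  rw [hbot] at hx
  exact (Submodule.mem_bot _).mp hx

end Groth.Agent.Helper3.InIn
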