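import Mathlib
import Groth.Agent.Lib.Helper3.InIn2
import Groth.Agent.Lib.Helper3.GalData1
import Groth.Agent.Lib.Helper3.QuotEt3

/-!
# Inertia invariants, part 3: the inertia ring is unramified over the decomposition ring (helper3)
-/

set_option autoImplicit false
universe u v

namespace Groth.Agent.Helper3.InIn

open scoped Pointwise
open Polynomial KaehlerDifferential

variable {A : Type u} {B : Type u} [CommRing A] [CommRing B] [Algebra A B]
  {G : Type v} [Group G] [Finite G] [MulSemiringAction G B] [SMulCommClass G A B]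
  [Algebra.IsInvariant A B G] (P : Ideal B) [P.IsMaximal]

instance isInvariant_decRing :
    Algebra.IsInvariant (decRing (A := A) (G := G) P) B (MulAction.stabilizer G P) :=
  ⟨fun b hb => ⟨⟨b, hb⟩, rfl⟩⟩

/-- the inertia ring, as an algebra over the decomposition ring -/
abbrev inRing : Subalgebra (decRing (A := A) (G := G) P) B :=
  FixedPoints.subalgebra (decRing (A := A) (G := G) P) B
    (P.inertia (MulAction.stabilizer G P))

/-- the prime of the inertia ring below `P` -/
abbrev inPrime : Ideal (inRing (A := A) (G := G) P) :=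
  P.comap (algebraMap (inRing (A := A) (G := G) P) B)

instance : (inPrime (A := A) (G := G) P).IsPrime := Ideal.comap_isPrime _ _

local notation "𝒞" => decRing (A := A) (G := G) P
local notation "𝒮" => inRing (A := A) (G := G) P
local notation "𝔫" => inPrime (A := A) (G := G) P
local notation "𝒢" => (MulAction.stabilizer G P) ⧸ (P.inertia (MulAction.stabilizer G P))

omit [Finite G] [Algebra.IsInvariant A B G] [P.IsMaximal] in
lemma mem_inRing {b : B} :
    b ∈ inRing (A := A) (G := G) P ↔
      ∀ t : MulAction.stabilizer G P, t ∈ P.inertia (MulAction.stabilizer G P) → t • b = b := by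
  constructor
  · intro h t ht
    exact h ⟨t, ht⟩
  · intro h t
    exact h t.1 t.2

theorem inertia_inPrime_eq_bot : (𝔫).inertia 𝒢 = ⊥ := by
  classical
  haveI : Fintype (MulAction.stabilizer G P) := Fintype.ofFinite _
  rw [eq_bot_iff]
  intro γ hγ
  rw [Subgroup.mem_bot]
  obtain ⟨δ, rfl⟩ := QuotientGroup.mk_surjective γ
  rw [QuotientGroup.eq_one_iff]
  apply InvSep.mem_inertia_of_trivial_on_invariants (Γ := MulAction.stabilizer G P) P δ
  intro z hz
  let z' : 𝒮 := ⟨z, (mem_inRing P).mpr hz⟩
  have h1 := hγ z'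
  have h2 : (((QuotientGroup.mk δ : 𝒢) • z' - z' : 𝒮) : B) ∈ P := h1
  rw [Ideal.Quotient.eq]
  exact h2

variable [IsNoetherianRing A] [Module.Finite A B]

/-- the inertia step -/
theorem formallyUnramified_inRing :
    Algebra.FormallyUnramified 𝒞 (Localization.AtPrime 𝔫) := by
  classical
  haveI : Fintype (MulAction.stabilizer G P) := Fintype.ofFinite _
  haveI : Fintype 𝒢 := Fintype.ofFinite _
  obtain ⟨x, y, f', hf'n, hf'inv, hdata⟩ :=
    GalData1.exists_galois_data (A := 𝒮) (G := 𝒢) 𝔫 (inertia_inPrime_eq_bot P)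
  obtain ⟨f, rfl⟩ := Algebra.IsInvariant.isInvariant (A := 𝒞) (G := 𝒢) f' hf'inv
  have hinj : Function.Injective (algebraMap 𝒞 𝒮) := by
    intro a b hab
    have := congrArg (fun s : 𝒮 => (s : B)) hab
    exact Subtype.ext this
  obtain ⟨tr, htr⟩ := QuotEt3.exists_tr (B := 𝒞) (R := 𝒮) (G := 𝒢) hinj
  have E1 := QuotEt3.E1 x y f hdata tr htr
  have E2 := QuotEt3.E2 x y f hdata tr htr
  have h1 : ∑ i, x i * y i = algebraMap 𝒞 𝒮 f := by
    have := hdata 1
    simpa using this
  haveI : IsNoetherian A B := isNoetherian_of_isNoetherianRing_of_finite A B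
  haveI : IsNoetherian 𝒞 B := isNoetherian_of_tower A inferInstance
  haveI : Module.Finite 𝒞 𝒮 := Module.Finite.of_injective
    ((inRing (A := A) (G := G) P).val.toLinearMap) Subtype.val_injective
  haveI : Algebra.FormallyUnramified 𝒞 (Localization.Away (algebraMap 𝒞 𝒮 f)) :=
    QuotEt3.unramified_of_data f _ x y tr E1 E2 h1
  have hsub := Algebra.basicOpen_subset_unramifiedLocus_iff.mpr this
  exact hsub (show (⟨𝔫, inferInstance⟩ : PrimeSpectrum 𝒮) ∈
    PrimeSpectrum.basicOpen (algebraMap 𝒞 𝒮 f) from hf'n)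

end Groth.Agent.Helper3.InIn
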