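import Mathlib
import Groth.Agent.Lib.Helper3.InIn3

/-!
# Inertia invariants, part 4: the localized inertia ring is étale over a DVR (helper3)
-/

set_option autoImplicit false
universe u v

namespace Groth.Agent.Helper3.InIn

open scoped Pointwise
open Polynomial KaehlerDifferential

variable {A : Type u} {B : Type u} [CommRing A] [CommRing B] [Algebra A B]
  {G : Type v} [Group G] [Finite G] [MulSemiringAction G B] [SMulCommClass G A B]
  [Algebra.IsInvariant A B G] (P : Ideal B) [P.IsMaximal]

local notation "𝒞" => decRing (A := A) (G := G) P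
local notation "𝒮" => inRing (A := A) (G := G) P
local notation "𝔫" => inPrime (A := A) (G := G) P
local notation "𝒯" => Localization.AtPrime (inPrime (A := A) (G := G) P)
local notation "𝒞ₙ" => Localization.AtPrime (decPrime (A := A) (G := G) P)

section FU

variable [IsNoetherianRing A] [Module.Finite A B]

theorem formallyUnramified_inLoc : Algebra.FormallyUnramified A 𝒯 := by
  haveI := formallyUnramified_decRing (A := A) (G := G) P
  haveI := formallyUnramified_inRing (A := A) (G := G) P
  have hunits : ∀ y : (decPrime (A := A) (G := G) P).primeCompl,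
      IsUnit (algebraMap 𝒞 𝒯 (y : 𝒞)) := fun y => by
    rw [IsScalarTower.algebraMap_apply 𝒞 𝒮 𝒯]
    exact IsLocalization.map_units 𝒯
      (⟨algebraMap 𝒞 𝒮 y, y.2⟩ : (inPrime (A := A) (G := G) P).primeCompl)
  letI : Algebra 𝒞ₙ 𝒯 := (IsLocalization.lift
    (M := (decPrime (A := A) (G := G) P).primeCompl) (g := algebraMap 𝒞 𝒯) hunits).toAlgebra
  haveI : IsScalarTower 𝒞 𝒞ₙ 𝒯 := IsScalarTower.of_algebraMap_eq (fun x => by
    rw [RingHom.algebraMap_toAlgebra, IsLocalization.lift_eq])
  haveI : IsScalarTower A 𝒞ₙ 𝒯 := IsScalarTower.of_algebraMap_eq (fun x => by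
    rw [IsScalarTower.algebraMap_apply A 𝒞 𝒞ₙ, ← IsScalarTower.algebraMap_apply 𝒞 𝒞ₙ 𝒯,
      ← IsScalarTower.algebraMap_apply A 𝒞 𝒯])
  haveI : Algebra.FormallyUnramified 𝒞ₙ 𝒯 := Algebra.FormallyUnramified.of_restrictScalars 𝒞 𝒞ₙ 𝒯
  exact Algebra.FormallyUnramified.comp A 𝒞ₙ 𝒯

end FU

section Away

variable [IsDomain A] [IsDiscreteValuationRing A] [IsDomain B] [FaithfulSMul A B]
  [Module.Finite A B]

theorem exists_isLocalization_away :
    ∃ E : 𝒮, E ∉ 𝔫 ∧ ∀ t ∈ (inPrime (A := A) (G := G) P).primeCompl, ∃ k : ℕ, t ∣ E ^ k := by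
  classical
  haveI : Fintype G := Fintype.ofFinite G
  obtain ⟨E, hED, hE1, hEγ⟩ := exists_E (G := G) P
  have hEmem : E ∈ inRing (A := A) (G := G) P := (mem_inRing P).mpr fun t _ => hED t.1 t.2
  have hEP : E ∉ P := by
    intro h
    have : (1 : B) ∈ P := by
      have := P.sub_mem h hE1
      simpa using this
    exact (Ideal.IsPrime.ne_top inferInstance) ((Ideal.eq_top_iff_one P).mpr this)
  refine ⟨⟨E, hEmem⟩, hEP, ?_⟩
  intro t ht
  have htn : t ∉ 𝔫 := ht
  have hrad : (⟨E, hEmem⟩ : 𝒮) ∈ (Ideal.span {t}).radical := by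
    rw [Ideal.radical_eq_sInf, Ideal.mem_sInf]
    rintro Q ⟨hQt, hQ⟩
    haveI := hQ
    have htQ : t ∈ Q := hQt (Ideal.mem_span_singleton_self t)
    haveI : Algebra.IsIntegral A B := Algebra.IsIntegral.of_finite A B
    haveI : Algebra.IsIntegral 𝒮 B := Algebra.IsIntegral.tower_top (R := A)
    haveI : Algebra.IsIntegral A 𝒮 :=
      Algebra.IsIntegral.of_injective (IsScalarTower.toAlgHom A 𝒮 B) Subtype.val_injective
    -- lying over
    obtain ⟨Q', -, hQ'prime, hQ'Q⟩ := Ideal.exists_ideal_over_prime_of_isIntegral Q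
      (⊥ : Ideal B) (by
        intro x hx
        have : (x : B) = 0 := hx
        have hx0 : x = 0 := Subtype.ext this
        rw [hx0]; exact Q.zero_mem)
    haveI := hQ'prime
    -- `Q` is not zero, hence lies over the maximal ideal
    have ht0 : t ≠ 0 := fun h => htn (h ▸ (𝔫).zero_mem)
    have hq0 : Q.comap (algebraMap A 𝒮) ≠ ⊥ :=
      Ideal.comap_ne_bot_of_integral_mem ht0 htQ (Algebra.IsIntegral.isIntegral t)
    have hqmax : (Q.comap (algebraMap A 𝒮)).IsMaximal :=
      Ring.DimensionLEOne.maximalOfPrime hq0 (Ideal.comap_isPrime _ _)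
    have hPmax : (P.comap (algebraMap A B)).IsMaximal :=
      Ideal.isMaximal_comap_of_isIntegral_of_isMaximal P
    have hunder : P.under A = Q'.under A := by
      rw [Ideal.under_def, Ideal.under_def, IsLocalRing.eq_maximalIdeal hPmax]
      have : Q'.comap (algebraMap A B) = Q.comap (algebraMap A 𝒮) := by
        rw [← hQ'Q, Ideal.comap_comap, ← IsScalarTower.algebraMap_eq]
      rw [this, IsLocalRing.eq_maximalIdeal hqmax]
    obtain ⟨σ, hσ⟩ := Algebra.IsInvariant.exists_smul_of_under_eq A B G P Q' hunder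
    have hσD : σ ∉ MulAction.stabilizer G P := by
      intro h
      rw [MulAction.mem_stabilizer_iff.mp h] at hσ
      apply htn
      have : t ∈ Q := htQ
      rw [← hQ'Q, hσ] at this
      exact this
    have hσinv : σ⁻¹ ∉ MulAction.stabilizer G P := fun h => hσD (by simpa using inv_mem h)
    have hEQ' : E ∈ Q' := by
      rw [hσ, Ideal.mem_pointwise_smul_iff_inv_smul_mem]
      exact hEγ _ hσinv
    rw [← hQ'Q]
    exact hEQ'
  obtain ⟨k, hk⟩ := hrad
  exact ⟨k, Ideal.mem_span_singleton.mp hk⟩

variable [IsNoetherianRing A]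

theorem finitePresentation_inLoc : Algebra.FinitePresentation A 𝒯 := by
  obtain ⟨E, hE, hdvd⟩ := exists_isLocalization_away (A := A) (G := G) P
  haveI : IsNoetherian A B := isNoetherian_of_isNoetherianRing_of_finite A B
  haveI : Module.Finite A 𝒮 := Module.Finite.of_injective
    ((IsScalarTower.toAlgHom A 𝒮 B).toLinearMap) Subtype.val_injective
  haveI : Algebra.FinitePresentation A 𝒮 := Algebra.FinitePresentation.of_finiteType.mp inferInstance
  haveI : Algebra.FinitePresentation 𝒮 (Localization.Away E) :=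
    IsLocalization.Away.finitePresentation E
  haveI : Algebra.FinitePresentation A (Localization.Away E) :=
    Algebra.FinitePresentation.trans A 𝒮 (Localization.Away E)
  haveI : IsLocalization (inPrime (A := A) (G := G) P).primeCompl (Localization.Away E) := by
    refine IsLocalization.of_le_of_exists_dvd (Submonoid.powers E) _ ?_ ?_
    · rw [Submonoid.powers_le]; exact hE
    · intro t ht
      obtain ⟨k, hk⟩ := hdvd t ht
      exact ⟨E ^ k, ⟨k, rfl⟩, hk⟩
  let e : Localization.Away E ≃ₐ[𝒮] 𝒯 :=
    IsLocalization.algEquiv (inPrime (A := A) (G := G) P).primeCompl _ _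
  exact Algebra.FinitePresentation.equiv (R := A) (A := Localization.Away E) (B := 𝒯)
    (e.restrictScalars A)

theorem flat_inLoc : Module.Flat A 𝒯 := by
  have hle : (inPrime (A := A) (G := G) P).primeCompl ≤ nonZeroDivisors 𝒮 :=
    Ideal.primeCompl_le_nonZeroDivisors _
  haveI : IsDomain 𝒯 := IsLocalization.isDomain_localization hle
  have hinj : Function.Injective (algebraMap A 𝒯) := by
    rw [IsScalarTower.algebraMap_eq A 𝒮 𝒯]
    refine (IsLocalization.injective 𝒯 hle).comp ?_
    intro a b hab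
    apply FaithfulSMul.algebraMap_injective A B
    have := congrArg (fun s : 𝒮 => (s : B)) hab
    exact this
  suffices h : @Module.Flat A 𝒯 _ AddCommGroup.toAddCommMonoid Algebra.toModule from h
  refine (IsDedekindDomain.flat_iff_torsion_eq_bot (R := A) (M := 𝒯)).mpr ?_
  rw [Submodule.eq_bot_iff]
  intro x hx
  obtain ⟨a, ha⟩ := (Submodule.mem_torsion_iff x).mp hx
  have h0 : algebraMap A 𝒯 (a : A) * x = 0 := by
    rw [← Algebra.smul_def]; exact ha
  rcases mul_eq_zero.mp h0 with h | h
  · exfalso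
    exact nonZeroDivisors.ne_zero a.2 (hinj (by rw [h, map_zero]))
  · exact h

theorem etale_inLoc : Algebra.Etale A 𝒯 := by
  haveI := formallyUnramified_inLoc (A := A) (G := G) P
  haveI := finitePresentation_inLoc (A := A) (G := G) P
  haveI := flat_inLoc (A := A) (G := G) P
  exact Algebra.Etale.of_formallyUnramified_of_flat

end Away

end Groth.Agent.Helper3.InIn
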