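import Mathlib

set_option autoImplicit false

namespace Groth.Agent.Helper3.Inertia

open scoped Pointwise

variable {B : Type*} [CommRing B] {G : Type*} [Group G] [MulSemiringAction G B]

lemma mem_pow_of_mul_mem {m : Ideal B} [m.IsMaximal] {k : ℕ} {x y : B} (hx : x ∉ m)
    (h : x * y ∈ m ^ k) : y ∈ m ^ k := by
  rcases Nat.eq_zero_or_pos k with rfl | hk
  · simp
  have hrad : (m ^ k).radical = m := by
    rw [Ideal.radical_pow m hk.ne', Ideal.IsPrime.radical inferInstance]
  have hprim : (m ^ k).IsPrimary := by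
    apply Ideal.isPrimary_of_isMaximal_radical
    rw [hrad]; infer_instance
  rw [mul_comm] at h
  rcases (Ideal.isPrimary_iff.mp hprim).2 h with h1 | h1
  · exact h1
  · rw [hrad] at h1; exact absurd h1 hx

lemma smul_mem_of_stab {m : Ideal B} {σ : G} (hσ : σ • m = m) {z : B} (hz : z ∈ m) :
    σ • z ∈ m := by
  rw [← hσ]; exact Ideal.smul_mem_pointwise_smul σ z m hz

lemma sub_mem_pow (m : Ideal B) {σ : G} (hσ : σ • m = m) {i : ℕ}
    (h : ∀ x, σ • x - x ∈ m ^ (i + 1)) :
    ∀ j, ∀ x ∈ m ^ j, σ • x - x ∈ m ^ (i + j) := by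
  intro j
  induction j with
  | zero =>
    intro x _
    exact Ideal.pow_le_pow_right (Nat.le_succ i) (h x)
  | succ j ih =>
    intro x hx
    rw [pow_succ] at hx
    refine Submodule.mul_induction_on hx ?_ ?_
    · intro y hy z hz
      have e : σ • (y * z) - y * z = (σ • y - y) * σ • z + y * (σ • z - z) := by
        rw [smul_mul']; ring
      rw [e]
      refine add_mem ?_ ?_
      · have := Ideal.mul_mem_mul (ih y hy) (smul_mem_of_stab hσ hz)
        rwa [← pow_succ, add_assoc] at this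
      · have := Ideal.mul_mem_mul hy (h z)
        rw [← pow_add] at this
        convert this using 2; ring
    · intro a b ha hb
      have e : σ • (a + b) - (a + b) = (σ • a - a) + (σ • b - b) := by
        rw [smul_add]; ring
      rw [e]; exact add_mem ha hb

lemma pow_smul_sub_mem (m : Ideal B) {σ : G} (hσ : σ • m = m) {i : ℕ} (hi : 1 ≤ i)
    (h : ∀ x, σ • x - x ∈ m ^ (i + 1)) (n : ℕ) (x : B) :
    σ ^ n • x - x - n * (σ • x - x) ∈ m ^ (i + 2) := by
  induction n with
  | zero => simp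
  | succ n ih =>
    have hn : σ ^ n ∈ (m ^ (i + 1)).inertia G := Subgroup.pow_mem _ (by exact h) n
    have hy : σ ^ n • x - x ∈ m ^ (i + 1) := hn x
    have h1 := sub_mem_pow m hσ h (i + 1) _ hy
    have h2 : σ • (σ ^ n • x - x) - (σ ^ n • x - x) ∈ m ^ (i + 2) :=
      Ideal.pow_le_pow_right (by omega) h1
    have e : σ ^ (n + 1) • x - x - ((n + 1 : ℕ) : B) * (σ • x - x) =
        (σ • (σ ^ n • x - x) - (σ ^ n • x - x)) + (σ ^ n • x - x - n * (σ • x - x)) := by
      rw [pow_succ', mul_smul, smul_sub]; push_cast; ring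
    rw [e]; exact add_mem h2 ih

lemma next_level (m : Ideal B) [m.IsMaximal] {σ : G} (hσ : σ • m = m) {i : ℕ} (hi : 1 ≤ i)
    (h : ∀ x, σ • x - x ∈ m ^ (i + 1)) {n : ℕ} (hn : σ ^ n = 1) (hnm : (n : B) ∉ m) :
    ∀ x, σ • x - x ∈ m ^ (i + 1 + 1) := by
  intro x
  have := pow_smul_sub_mem m hσ hi h n x
  rw [hn, one_smul, sub_self, zero_sub, neg_mem_iff] at this
  exact mem_pow_of_mul_mem hnm this

lemma all_levels (m : Ideal B) [m.IsMaximal] {σ : G} (hσ : σ • m = m)
    (h : ∀ x, σ • x - x ∈ m ^ 2) {n : ℕ} (hn : σ ^ n = 1) (hnm : (n : B) ∉ m) :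
    ∀ i, ∀ x, σ • x - x ∈ m ^ (i + 2) := by
  intro i
  induction i with
  | zero => simpa using h
  | succ i ih => exact next_level m hσ (by omega) ih hn hnm

lemma eq_one_of_pow_eq_one [IsDomain B] [IsNoetherianRing B] [FaithfulSMul G B]
    (m : Ideal B) [m.IsMaximal] {σ : G} (hσ : σ • m = m)
    (h : ∀ x, σ • x - x ∈ m ^ 2) {n : ℕ} (hn : σ ^ n = 1) (hnm : (n : B) ∉ m) : σ = 1 := by
  have hall := all_levels m hσ h hn hnm
  apply FaithfulSMul.eq_of_smul_eq_smul (α := B)
  intro x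
  rw [one_smul, ← sub_eq_zero]
  have hbot := Ideal.iInf_pow_eq_bot_of_isDomain m (Ideal.IsMaximal.ne_top inferInstance)
  have : σ • x - x ∈ ⨅ i : ℕ, m ^ i := by
    rw [Ideal.mem_iInf]
    intro i
    exact Ideal.pow_le_pow_right (by omega) (hall i x)
  rw [hbot] at this
  simpa using this

end Groth.Agent.Helper3.Inertia
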