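import Groth.Agent.Lib.Helper3.Inertia1

set_option autoImplicit false

namespace Groth.Agent.Helper3.Inertia

open scoped Pointwise

section PGroup

variable {B : Type*} [CommRing B] {G : Type*} [Group G] [MulSemiringAction G B]

lemma natCast_notMem {m : Ideal B} (p : ℕ) [CharP (B ⧸ m) p] {r : ℕ} (hr : ¬ p ∣ r) :
    (r : B) ∉ m := by
  intro h
  have h0 : ((r : B ⧸ m)) = 0 := by
    have := Ideal.Quotient.eq_zero_iff_mem.mpr h
    simpa using this
  exact hr ((CharP.cast_eq_zero_iff (B ⧸ m) p r).mp h0)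

lemma isPGroup_wild [IsDomain B] [IsNoetherianRing B] [FaithfulSMul G B] [Finite G]
    (m : Ideal B) [m.IsMaximal] (p : ℕ) (hp : p.Prime) [CharP (B ⧸ m) p] :
    IsPGroup p (MulAction.stabilizer G m ⊓ (m ^ 2).inertia G : Subgroup G) := by
  rintro ⟨σ, hσ⟩
  obtain ⟨a, r, hr, hn⟩ := Nat.exists_eq_pow_mul_and_not_dvd (orderOf_pos σ).ne' p hp.ne_one
  refine ⟨a, Subtype.ext ?_⟩
  simp only [SubgroupClass.coe_pow, Subgroup.coe_one]
  have hτ := Subgroup.pow_mem _ hσ (p ^ a)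
  refine eq_one_of_pow_eq_one m (MulAction.mem_stabilizer_iff.mp hτ.1) hτ.2 (n := r) ?_
    (natCast_notMem p hr)
  rw [← pow_mul, ← hn, pow_orderOf_eq_one]

lemma wild_eq_bot [IsDomain B] [IsNoetherianRing B] [FaithfulSMul G B] [Finite G]
    (m : Ideal B) [m.IsMaximal] [CharZero (B ⧸ m)] :
    (MulAction.stabilizer G m ⊓ (m ^ 2).inertia G : Subgroup G) = ⊥ := by
  rw [eq_bot_iff]
  intro σ hσ
  rw [Subgroup.mem_bot]
  haveI : CharP (B ⧸ m) 0 := CharP.ofCharZero _
  refine eq_one_of_pow_eq_one m (MulAction.mem_stabilizer_iff.mp hσ.1) hσ.2 (n := orderOf σ)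
    (pow_orderOf_eq_one σ) (natCast_notMem 0 ?_)
  rw [zero_dvd_iff]
  exact (orderOf_pos σ).ne'

end PGroup

section Tame

variable {B : Type*} [CommRing B] {G : Type*} [Group G] [MulSemiringAction G B]

lemma smul_mem_pow_of_stab {m : Ideal B} {σ : G} (hσ : σ • m = m) (k : ℕ) {z : B}
    (hz : z ∈ m ^ k) : σ • z ∈ m ^ k := by
  have : σ • (m ^ k) = m ^ k := by rw [smul_pow', hσ]
  rw [← this]; exact Ideal.smul_mem_pointwise_smul σ z _ hz

lemma sub_mem_sq_of_separable {A : Type*} [CommRing A] [Algebra A B] [SMulCommClass G A B]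
    (m : Ideal B) [m.IsMaximal]
    [Algebra.IsSeparable (A ⧸ m.under A) (B ⧸ m)] {σ : G} (hσI : σ ∈ m.inertia G)
    (h : ∀ x ∈ m, σ • x - x ∈ m ^ 2) (b : B) : σ • b - b ∈ m ^ 2 := by
  have hsep := Algebra.IsSeparable.isSeparable (A ⧸ m.under A) (Ideal.Quotient.mk m b)
  obtain ⟨F, hF⟩ := Polynomial.map_surjective (Ideal.Quotient.mk (m.under A))
    Ideal.Quotient.mk_surjective (minpoly (A ⧸ m.under A) (Ideal.Quotient.mk m b))
  set F' := F.map (algebraMap A B) with hF'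
  -- F(b) ∈ m
  have hmk : ∀ (c : B), Ideal.Quotient.mk m (F'.eval c) =
      (minpoly (A ⧸ m.under A) (Ideal.Quotient.mk m b)).eval₂
        (algebraMap (A ⧸ m.under A) (B ⧸ m)) (Ideal.Quotient.mk m c) := by
    intro c
    rw [← hF, hF', Polynomial.eval_map, Polynomial.eval₂_map, Polynomial.hom_eval₂]
    rfl
  have hFb : F'.eval b ∈ m := by
    rw [← Ideal.Quotient.eq_zero_iff_mem, hmk]
    exact minpoly.aeval _ _
  have hder : F'.derivative.eval b ∉ m := by
    rw [← Ideal.Quotient.eq_zero_iff_mem]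
    have h1 : Ideal.Quotient.mk m (F'.derivative.eval b) =
        (minpoly (A ⧸ m.under A) (Ideal.Quotient.mk m b)).derivative.eval₂
          (algebraMap (A ⧸ m.under A) (B ⧸ m)) (Ideal.Quotient.mk m b) := by
      rw [← hF, hF', Polynomial.derivative_map, Polynomial.derivative_map, Polynomial.eval_map,
        Polynomial.eval₂_map, Polynomial.hom_eval₂]
      rfl
    rw [h1]
    exact hsep.eval₂_derivative_ne_zero _ (minpoly.aeval _ _)
  -- σ F(b) = F(σ b)
  have hσF : σ • (F'.eval b) = F'.eval (σ • b) := by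
    have := Polynomial.aeval_algHom_apply (MulSemiringAction.toAlgHom A B σ) b F
    simp only [MulSemiringAction.toAlgHom_apply] at this
    rw [hF', Polynomial.eval_map_algebraMap, Polynomial.eval_map_algebraMap]
    exact this.symm
  obtain ⟨k, hk⟩ := Polynomial.binomExpansion F' b (σ • b - b)
  rw [add_sub_cancel] at hk
  have h2 := h _ hFb
  rw [hσF, hk] at h2
  have h3 : (σ • b - b) ^ 2 ∈ m ^ 2 := Ideal.pow_mem_pow (hσI b) 2
  have h4 : F'.derivative.eval b * (σ • b - b) ∈ m ^ 2 := by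
    have e : F'.derivative.eval b * (σ • b - b) =
        (F'.eval b + F'.derivative.eval b * (σ • b - b) + k * (σ • b - b) ^ 2 - F'.eval b)
          - k * (σ • b - b) ^ 2 := by ring
    rw [e]
    exact sub_mem h2 (Ideal.mul_mem_left _ _ h3)
  exact mem_pow_of_mul_mem hder h4

variable [IsDedekindDomain B]
  (m : Ideal B) [m.IsMaximal] (hm : m ≠ ⊥) (π : B) (hπ : π ∈ m) (hπ2 : π ∉ m ^ 2)

include hm hπ hπ2 in
lemma span_sup_sq : Ideal.span {π} ⊔ m ^ 2 = m := by
  have h1 : m ^ (1 + 1) < Ideal.span {π} ⊔ m ^ 2 := by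
    refine lt_of_le_of_ne le_sup_right ?_
    intro h
    apply hπ2
    rw [show (2 : ℕ) = 1 + 1 from rfl, h]
    exact Ideal.mem_sup_left (Ideal.mem_span_singleton_self π)
  have h2 : Ideal.span {π} ⊔ m ^ 2 ≤ m ^ 1 := by
    rw [pow_one]
    exact sup_le ((Ideal.span_singleton_le_iff_mem _).mpr hπ) (Ideal.pow_le_self two_ne_zero)
  have := Ideal.eq_prime_pow_of_succ_lt_of_le hm h1 h2
  simpa using this

include hm hπ hπ2 in
lemma exists_mul_sub_mem {x : B} (hx : x ∈ m) : ∃ b, x - b * π ∈ m ^ 2 := by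
  rw [← span_sup_sq m hm π hπ hπ2] at hx
  obtain ⟨y, hy, z, hz, rfl⟩ := Submodule.mem_sup.mp hx
  obtain ⟨b, rfl⟩ := Ideal.mem_span_singleton'.mp hy
  exact ⟨b, by simpa using hz⟩

omit [IsDedekindDomain B] in
include hπ2 in
lemma mem_of_mul_mem {c : B} (h : c * π ∈ m ^ 2) : c ∈ m := by
  by_contra hc
  exact hπ2 (mem_pow_of_mul_mem hc h)

omit [IsDedekindDomain B] in
include hπ2 in
lemma mk_eq_of_sub_mem {x b b' : B} (h : x - b * π ∈ m ^ 2) (h' : x - b' * π ∈ m ^ 2) :
    Ideal.Quotient.mk m b = Ideal.Quotient.mk m b' := by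
  rw [Ideal.Quotient.eq]
  apply mem_of_mul_mem m π hπ2
  have e : (b - b') * π = (x - b' * π) - (x - b * π) := by ring
  rw [e]; exact sub_mem h' h

include hm hπ hπ2 in
lemma forall_mem_of_uniformizer {σ : G} (hσI : σ ∈ m.inertia G) (h : σ • π - π ∈ m ^ 2) :
    ∀ x ∈ m, σ • x - x ∈ m ^ 2 := by
  intro x hx
  have hσ : σ • m = m := MulAction.mem_stabilizer_iff.mp (Ideal.inertia_le_stabilizer m hσI)
  obtain ⟨b, hb⟩ := exists_mul_sub_mem m hm π hπ hπ2 hx
  have e : σ • x - x = σ • b * (σ • π - π) + (σ • b - b) * π + (σ • (x - b * π) - (x - b * π)) := by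
    rw [smul_sub, smul_mul']; ring
  rw [e]
  refine add_mem (add_mem (Ideal.mul_mem_left _ _ h) ?_)
    (sub_mem (smul_mem_pow_of_stab hσ 2 hb) hb)
  rw [pow_two]
  exact Ideal.mul_mem_mul (hσI b) hπ

include hm hπ hπ2 in
theorem exists_theta : ∃ θ : m.inertia G →* (B ⧸ m)ˣ,
    ∀ σ : m.inertia G, θ σ = 1 ↔ (σ : G) • π - π ∈ m ^ 2 := by
  have hstab : ∀ σ : m.inertia G, (σ : G) • m = m := fun σ =>
    MulAction.mem_stabilizer_iff.mp (Ideal.inertia_le_stabilizer m σ.2)
  have hmem : ∀ σ : m.inertia G, (σ : G) • π ∈ m := fun σ => smul_mem_of_stab (hstab σ) hπ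
  choose f hf using fun σ : m.inertia G => exists_mul_sub_mem m hm π hπ hπ2 (hmem σ)
  let θ₀ : m.inertia G →* (B ⧸ m) :=
    { toFun := fun σ => Ideal.Quotient.mk m (f σ)
      map_one' := by
        have h1 := hf 1
        have h2 : ((1 : m.inertia G) : G) • π - 1 * π ∈ m ^ 2 := by simp
        rw [mk_eq_of_sub_mem m π hπ2 h1 h2, map_one]
      map_mul' := by
        intro σ τ
        rw [← map_mul]
        refine mk_eq_of_sub_mem m π hπ2 (hf (σ * τ)) ?_
        have e : ((σ * τ : m.inertia G) : G) • π - (f σ * f τ) * π =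
            ((σ : G) • f τ - f τ) * (f σ * π) + (σ : G) • f τ * ((σ : G) • π - f σ * π)
              + (σ : G) • ((τ : G) • π - f τ * π) := by
          rw [Subgroup.coe_mul, mul_smul, smul_sub, smul_mul']; ring
        rw [e]
        refine add_mem (add_mem ?_ (Ideal.mul_mem_left _ _ (hf σ)))
          (smul_mem_pow_of_stab (hstab σ) 2 (hf τ))
        rw [pow_two]
        exact Ideal.mul_mem_mul (σ.2 (f τ)) (Ideal.mul_mem_left _ _ hπ) }
  refine ⟨θ₀.toHomUnits, fun σ => ?_⟩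
  rw [← Units.val_inj, MonoidHom.coe_toHomUnits, Units.val_one]
  change Ideal.Quotient.mk m (f σ) = 1 ↔ _
  constructor
  · intro h
    rw [← map_one (Ideal.Quotient.mk m), Ideal.Quotient.eq] at h
    have e : (σ : G) • π - π = ((σ : G) • π - f σ * π) + (f σ - 1) * π := by ring
    rw [e, pow_two]
    refine add_mem ?_ (Ideal.mul_mem_mul h hπ)
    rw [← pow_two]; exact hf σ
  · intro h
    rw [← map_one (Ideal.Quotient.mk m)]
    refine mk_eq_of_sub_mem m π hπ2 (hf σ) ?_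
    simpa using h

end Tame

end Groth.Agent.Helper3.Inertia
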