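import Groth.Agent.Lib.Helper3.Inertia3

set_option autoImplicit false

namespace Groth.Agent.Helper3.Inertia

open scoped Pointwise

section Units

variable {k : Type*} [CommRing k] [IsDomain k]

lemma range_eq_rootsOfUnity {I : Type*} [Group I] [Finite I] (θ : I →* kˣ) :
    θ.range = rootsOfUnity (Nat.card θ.range) k := by
  haveI : Finite θ.range := Finite.of_surjective θ.rangeRestrict θ.rangeRestrict_surjective
  have hn : Nat.card θ.range ≠ 0 := Nat.card_pos.ne'
  haveI : NeZero (Nat.card θ.range) := ⟨hn⟩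
  have hle : θ.range ≤ rootsOfUnity (Nat.card θ.range) k := by
    intro x hx
    rw [mem_rootsOfUnity]
    have := pow_card_eq_one' (G := θ.range) (x := ⟨x, hx⟩)
    exact congrArg Subtype.val this
  refine Subgroup.eq_of_le_of_card_ge hle ?_
  exact card_rootsOfUnity k (Nat.card θ.range)

lemma not_dvd_card_of_charP (p : ℕ) (hp : p.Prime) [CharP k p] (H : Subgroup kˣ) [Finite H] :
    ¬ p ∣ Nat.card H := by
  intro hdvd
  haveI := Fact.mk hp
  obtain ⟨x, hx⟩ := exists_prime_orderOf_dvd_card' p hdvd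
  have h1 : (x : kˣ) ^ p = 1 := by
    have := pow_orderOf_eq_one x
    rw [hx] at this
    exact congrArg Subtype.val this
  have h2 : ((x : kˣ) : k) = 1 := by
    apply frobenius_inj k p
    simp only [frobenius_def, one_pow]
    rw [← Units.val_pow_eq_pow_val, h1, Units.val_one]
  have h3 : x = 1 := Subtype.ext (Units.ext h2)
  rw [h3, orderOf_one] at hx
  exact hp.ne_one hx.symm

theorem tame_structure {I : Type*} [Group I] [Finite I] (θ : I →* kˣ) (P : Subgroup I)
    [P.Normal] (hP : θ.ker = P) :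
    IsCyclic (I ⧸ P) ∧
    (∀ p : ℕ, p.Prime → CharP k p → IsPGroup p P →
      Nat.card (I ⧸ P) = Nat.card I / p ^ (Nat.card I).factorization p ∧
        Nonempty (I ⧸ P ≃* rootsOfUnity (Nat.card I) k)) ∧
    (P = ⊥ → Nat.card (I ⧸ P) = Nat.card I ∧ Nonempty (I ⧸ P ≃* rootsOfUnity (Nat.card I) k)) := by
  subst hP
  haveI : Finite θ.range := Finite.of_surjective θ.rangeRestrict θ.rangeRestrict_surjective
  have e0 : I ⧸ θ.ker ≃* θ.range := QuotientGroup.quotientKerEquivRange θ
  have hcard : Nat.card (I ⧸ θ.ker) = Nat.card θ.range := Nat.card_congr e0.toEquiv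
  have hmul : Nat.card I = Nat.card (I ⧸ θ.ker) * Nat.card θ.ker :=
    Subgroup.card_eq_card_quotient_mul_card_subgroup θ.ker
  have hroots := range_eq_rootsOfUnity θ
  refine ⟨?_, ?_, ?_⟩
  · haveI : IsCyclic θ.range := inferInstance
    exact isCyclic_of_surjective e0.symm e0.symm.surjective
  · intro p hp hchar hPg
    haveI := Fact.mk hp
    obtain ⟨a, ha⟩ := IsPGroup.iff_card.mp hPg
    have hnd : ¬ p ∣ Nat.card (I ⧸ θ.ker) := by
      rw [hcard]; exact not_dvd_card_of_charP p hp θ.range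
    have hn0 : Nat.card (I ⧸ θ.ker) ≠ 0 := Nat.card_pos.ne'
    have hfac : (Nat.card I).factorization p = a := by
      rw [hmul, ha, Nat.factorization_mul hn0 (pow_ne_zero a hp.ne_zero)]
      simp [Nat.factorization_eq_zero_of_not_dvd hnd, hp.factorization_pow]
    refine ⟨?_, ?_⟩
    · rw [hfac, hmul, ha, Nat.mul_div_cancel _ (pow_pos hp.pos a)]
    · have h2 : rootsOfUnity (Nat.card I) k = θ.range := by
        rw [hroots, hmul, ha, mul_comm, ← hcard]
        ext ζ
        exact mem_rootsOfUnity_prime_pow_mul_iff k p a _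
      exact ⟨e0.trans (MulEquiv.subgroupCongr h2.symm)⟩
  · intro hbot
    have h1 : Nat.card θ.ker = 1 := by rw [hbot]; exact Subgroup.card_bot
    rw [h1, mul_one] at hmul
    refine ⟨hmul.symm, ?_⟩
    have h2 : rootsOfUnity (Nat.card I) k = θ.range := by
      rw [hroots, hmul, ← hcard]
    exact ⟨e0.trans (MulEquiv.subgroupCongr h2.symm)⟩

end Units

section Main

variable {A B G : Type*} [CommRing A] [CommRing B] [IsDedekindDomain B] [Algebra A B]
  [Group G] [Finite G] [MulSemiringAction G B] [IsGaloisGroup G A B]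
  (m : Ideal B) [m.IsMaximal] [(m.under A).IsMaximal]
  [Algebra.IsSeparable (A ⧸ m.under A) (B ⧸ m)]

omit [IsDedekindDomain B] [Finite G] [IsGaloisGroup G A B] [(m.under A).IsMaximal]
  [Algebra.IsSeparable (A ⧸ m.under A) (B ⧸ m)] in
lemma wild_le_inertia :
    (MulAction.stabilizer G m ⊓ (m ^ 2).inertia G : Subgroup G) ≤ m.inertia G := by
  intro σ hσ x
  exact Ideal.pow_le_self two_ne_zero (hσ.2 x)

omit [IsDedekindDomain B] [Finite G] [IsGaloisGroup G A B] [(m.under A).IsMaximal]
  [Algebra.IsSeparable (A ⧸ m.under A) (B ⧸ m)] in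
lemma wild_normal :
    ((MulAction.stabilizer G m ⊓ (m ^ 2).inertia G : Subgroup G).subgroupOf
      (MulAction.stabilizer G m)).Normal := by
  refine (Subgroup.normal_subgroupOf_iff inf_le_left).mpr fun g s hg hs => ⟨?_, fun x => ?_⟩
  · exact Subgroup.mul_mem _ (Subgroup.mul_mem _ hs hg.1) (Subgroup.inv_mem _ hs)
  · have h1 := hg.2 (s⁻¹ • x)
    have h2 := smul_mem_pow_of_stab (MulAction.mem_stabilizer_iff.mp hs) 2 h1
    have e : (s * g * s⁻¹) • x - x = s • (g • s⁻¹ • x - s⁻¹ • x) := by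
      rw [smul_sub, mul_smul, mul_smul, smul_inv_smul]
    rw [e]; exact h2

include A in
theorem ker_theta (hm : m ≠ ⊥) : ∃ θ : m.inertia G →* (B ⧸ m)ˣ,
    θ.ker = (MulAction.stabilizer G m ⊓ (m ^ 2).inertia G : Subgroup G).subgroupOf
      (m.inertia G) := by
  obtain ⟨π, hπ, hπ2⟩ := Ideal.exists_mem_pow_notMem_pow_succ m hm
    (Ideal.IsMaximal.ne_top inferInstance) 1
  rw [pow_one] at hπ
  obtain ⟨θ, hθ⟩ := exists_theta (G := G) m hm π hπ hπ2
  refine ⟨θ, ?_⟩
  ext σ
  rw [MonoidHom.mem_ker, hθ, Subgroup.mem_subgroupOf]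
  constructor
  · intro h
    have h1 := forall_mem_of_uniformizer m hm π hπ hπ2 σ.2 h
    haveI : SMulCommClass G A B := IsGaloisGroup.commutes
    exact ⟨Ideal.inertia_le_stabilizer m σ.2,
      fun b => sub_mem_sq_of_separable (A := A) m σ.2 h1 b⟩
  · intro h
    exact h.2 π


include A in
theorem main (hm : m ≠ ⊥) (e : ℕ) (he : Nat.card (m.inertia G) = e) :
    let D : Subgroup G := MulAction.stabilizer G m
    let I : Subgroup G := m.inertia G
    let P : Subgroup G := D ⊓ (m ^ 2).inertia G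
    P ≤ I ∧ I ≤ D ∧ (P.subgroupOf D).Normal ∧
    (∀ p : ℕ, p.Prime → CharP (A ⧸ m.under A) p → IsPGroup p P) ∧
    (CharZero (A ⧸ m.under A) → P = ⊥) ∧
    (∀ [(P.subgroupOf I).Normal],
      IsCyclic (I ⧸ P.subgroupOf I) ∧
      (∀ p : ℕ, p.Prime → CharP (A ⧸ m.under A) p →
        Nat.card (I ⧸ P.subgroupOf I) = e / p ^ e.factorization p) ∧
      (CharZero (A ⧸ m.under A) → Nat.card (I ⧸ P.subgroupOf I) = e) ∧
      Nonempty (I ⧸ P.subgroupOf I ≃* ↥(rootsOfUnity e (B ⧸ m)))) := by
  intro D I P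
  haveI : FaithfulSMul G B := IsGaloisGroup.faithful A
  have hinj : Function.Injective (algebraMap (A ⧸ m.under A) (B ⧸ m)) :=
    Ideal.algebraMap_quotient_injective
  have hpg : ∀ p : ℕ, p.Prime → CharP (A ⧸ m.under A) p → IsPGroup p P := by
    intro p hp hc
    haveI : CharP (B ⧸ m) p := charP_of_injective_algebraMap hinj p
    exact isPGroup_wild m p hp
  have hbot : CharZero (A ⧸ m.under A) → P = ⊥ := by
    intro hc
    haveI : CharZero (B ⧸ m) := charZero_of_injective_algebraMap hinj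
    exact wild_eq_bot m
  refine ⟨wild_le_inertia m, Ideal.inertia_le_stabilizer m, wild_normal m, hpg, hbot, ?_⟩
  intro hN
  obtain ⟨θ, hθ⟩ := ker_theta (A := A) (G := G) m hm
  obtain ⟨h1, h2, h3⟩ := tame_structure θ (P.subgroupOf I) hθ
  subst he
  have hpg' : ∀ p : ℕ, p.Prime → CharP (A ⧸ m.under A) p → IsPGroup p (P.subgroupOf I) :=
    fun p hp hc => (hpg p hp hc).comap_subtype
  refine ⟨h1, ?_, ?_, ?_⟩
  · intro p hp hc
    haveI : CharP (B ⧸ m) p := charP_of_injective_algebraMap hinj p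
    exact (h2 p hp inferInstance (hpg' p hp hc)).1
  · intro hc
    have : P.subgroupOf I = ⊥ := by rw [hbot hc]; simp
    exact (h3 this).1
  · obtain ⟨q, hq⟩ := CharP.exists (A ⧸ m.under A)
    rcases CharP.char_is_prime_or_zero (A ⧸ m.under A) q with hq' | hq'
    · haveI : CharP (B ⧸ m) q := charP_of_injective_algebraMap hinj q
      exact (h2 q hq' inferInstance (hpg' q hq' hq)).2
    · subst hq'
      haveI : CharZero (A ⧸ m.under A) := CharP.charP_to_charZero _
      have : P.subgroupOf I = ⊥ := by rw [hbot inferInstance]; simp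
      exact (h3 this).2

end Main

end Groth.Agent.Helper3.Inertia
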