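import Mathlib
import Groth.Prelude.Def_IntMult
import Groth.Agent.Lib.Lead.IntMultCM
import Groth.Agent.Lib.Lead.RLR8
import Groth.Agent.Lib.Lead.Depth12
import Groth.Agent.Lib.Helper4.SmoothRegSch

/-!
# Transversal intersections: multiplicity one (helper3)

* `exists_regular_gens`: in a regular local ring `R`, ideals `I`, `J` with `I + J = m` and
  `dim R ≤ dim R/I + dim R/J` (in the form delivered by `Lead.IntMultCM.le_ringKrullDim`):
  `I` is generated by a regular sequence (part of a regular system of parameters) and `R/I` is regular;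
* `main` = S1873.
-/

set_option autoImplicit false
set_option linter.style.haveILetI false
universe u

open IsLocalRing Ideal RingTheory.Sequence AlgebraicGeometry CategoryTheory

namespace Groth.Agent.Helper3.IntOne

open Groth.Agent.Lead.RLR

section Algebra

variable {R : Type u} [CommRing R]

theorem exists_regular_gens [IsRegularLocalRing R] (I J : Ideal R)
    (hIJ : I ⊔ J = maximalIdeal R)
    (H : ∀ c' : ℕ, ringKrullDim (R ⧸ I) + (c' : WithBot ℕ∞) = ringKrullDim R →
      (c' : WithBot ℕ∞) ≤ ringKrullDim (R ⧸ J)) :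
    ∃ (c : ℕ) (g : Fin c → R), I = Ideal.span (Set.range g) ∧ IsRegular R (List.ofFn g) ∧
      IsRegularLocalRing (R ⧸ I) := by
  have hIm : I ≤ maximalIdeal R := hIJ ▸ le_sup_left
  have hJm : J ≤ maximalIdeal R := hIJ ▸ le_sup_right
  have hmtop : maximalIdeal R ≠ ⊤ := (maximalIdeal.isMaximal R).ne_top
  obtain ⟨c, e, z, hce, hz, hzI, hIle⟩ := exists_generators_adapted I hIm
  obtain ⟨J₀, hJ₀⟩ : ∃ J₀ : Ideal R,
      J₀ = Ideal.span (Set.range (fun i : Fin c => z (Fin.castAdd e i))) := ⟨_, rfl⟩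
  have hJ₀I : J₀ ≤ I := by
    rw [hJ₀]
    exact Ideal.span_le.mpr (by rintro _ ⟨i, rfl⟩; exact hzI i)
  have hJ₀m : J₀ ≤ maximalIdeal R := hJ₀I.trans hIm
  haveI : IsLocalRing (R ⧸ J₀) := isLocalRing_quotient (ne_top_of_le_ne_top hmtop hJ₀m)
  haveI : IsLocalRing (R ⧸ I) := isLocalRing_quotient (ne_top_of_le_ne_top hmtop hIm)
  haveI : IsLocalRing (R ⧸ J) := isLocalRing_quotient (ne_top_of_le_ne_top hmtop hJm)
  obtain ⟨hreg₀, hdim₀⟩ : IsRegularLocalRing (R ⧸ J₀) ∧ ringKrullDim (R ⧸ J₀) = e := by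
    subst hJ₀
    exact isRegularLocalRing_quotient_span_range z hz hce.symm
  have hdimR : ringKrullDim R = ((c + e : ℕ) : WithBot ℕ∞) := by
    rw [← IsRegularLocalRing.spanFinrank_maximalIdeal, ← hce]
  -- Nakayama: `m = J₀ + J`
  have hm : maximalIdeal R ≤ J₀ ⊔ J := by
    refine Submodule.le_of_le_smul_of_le_jacobson_bot (I := maximalIdeal R)
      (IsNoetherian.noetherian _) (maximalIdeal_le_jacobson ⊥) ?_
    have h1 : maximalIdeal R ≤ (J₀ ⊔ maximalIdeal R ^ 2) ⊔ J := by
      have h0 : I ⊔ J ≤ (J₀ ⊔ maximalIdeal R ^ 2) ⊔ J := sup_le_sup_right (hJ₀ ▸ hIle) J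
      rwa [hIJ] at h0
    have h2 : (J₀ ⊔ maximalIdeal R ^ 2) ⊔ J = (J₀ ⊔ J) ⊔ maximalIdeal R • maximalIdeal R := by
      rw [smul_eq_mul, ← pow_two, sup_right_comm]
    rw [h2] at h1
    exact h1
  -- `dim R/J ≤ c`
  have hdimJ : ringKrullDim (R ⧸ J) ≤ (c : WithBot ℕ∞) := by
    have h1 : maximalIdeal (R ⧸ J) = Ideal.span (Set.range
        ((Ideal.Quotient.mk J) ∘ (fun i : Fin c => z (Fin.castAdd e i)))) := by
      rw [← map_maximalIdeal_of_surjective (Ideal.Quotient.mk J) Ideal.Quotient.mk_surjective,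
        le_antisymm hm (sup_le hJ₀m hJm), Ideal.map_sup, Ideal.map_quotient_self, sup_bot_eq,
        hJ₀, Ideal.map_span, Set.range_comp]
    have h2 : (maximalIdeal (R ⧸ J)).spanFinrank ≤ c := by
      rw [h1]
      exact (Submodule.spanFinrank_span_le_ncard_of_finite (Set.finite_range _)).trans
        (ncard_range_le _)
    exact (ringKrullDim_le_spanFinrank_maximalIdeal (R ⧸ J)).trans (by exact_mod_cast h2)
  -- `dim R/I` is a natural number `≤ e`
  have hdimI : ringKrullDim (R ⧸ I) ≤ (e : WithBot ℕ∞) := by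
    rw [← hdim₀]
    exact ringKrullDim_le_of_surjective (Ideal.Quotient.factor hJ₀I)
      (Ideal.Quotient.factor_surjective hJ₀I)
  obtain ⟨a', ha', ha'e⟩ := exists_nat_of_le (ringKrullDim_nonneg_of_nontrivial (R := R ⧸ I)) hdimI
  have hH := H (c + e - a') (by
    rw [ha', hdimR]
    exact_mod_cast (by omega : a' + (c + e - a') = c + e))
  have hle : c + e - a' ≤ c := by exact_mod_cast hH.trans hdimJ
  have hae : a' = e := by omega
  have hIeq : I = J₀ := by
    haveI : IsDomain (R ⧸ J₀) := isDomain (R ⧸ J₀)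
    exact eq_of_le_of_ringKrullDim_le hJ₀I (n := e) (le_of_eq hdim₀) (by rw [ha', hae])
  refine ⟨c, fun i : Fin c => z (Fin.castAdd e i), by rw [hIeq, hJ₀], ?_, by rw [hIeq]; exact hreg₀⟩
  have hfull : IsRegular R (List.ofFn z) := isRegular_ofFn hdimR z hz
  have hsplit : List.ofFn z = (List.ofFn fun i : Fin c => z (Fin.castAdd e i)) ++
      (List.ofFn fun i : Fin e => z (Fin.natAdd c i)) := List.ofFn_add
  have hw := hfull.toIsWeaklyRegular
  rw [hsplit, isWeaklyRegular_append_iff] at hw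
  refine IsRegular.of_isWeaklyRegular_of_mem_maximalIdeal (mem := fun r hr => ?_) (reg := hw.1)
  rw [List.mem_ofFn] at hr
  obtain ⟨i, rfl⟩ := hr
  exact hIm (hzI i)

end Algebra

section Geometry

open IntMult

theorem sup_eq_maximalIdeal_of_length_eq_one {R : Type u} [CommRing R] [IsLocalRing R]
    (I : Ideal R) (h : Module.length R (R ⧸ I) = 1) : I = maximalIdeal R := by
  have h1 : IsSimpleModule R (R ⧸ I) := Module.length_eq_one_iff.mp h
  rw [isSimpleModule_iff_isCoatom] at h1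
  exact IsLocalRing.eq_maximalIdeal (Ideal.isMaximal_def.mpr h1)

/-- **S1873**. -/
theorem main (K : Type u) [Field K] (X : Scheme.{u}) (f : X ⟶ Spec (CommRingCat.of K))
    [Smooth f] [IsIntegral X] (IV IW : X.IdealSheafData)
    [IsIntegral IV.subscheme] [IsIntegral IW.subscheme] (n r s : ℕ)
    (hn : topologicalKrullDim X = n) (hr : topologicalKrullDim IV.support = r)
    (hs : topologicalKrullDim IW.support = s)
    (hprop : IntMult.ProperInt (IV.support : Set X) (IW.support : Set X) n r s) (ξ : X)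
    (hξV : ξ ∈ IV.support) (hξW : ξ ∈ IW.support)
    (hmax : ∀ ξ' : X, ξ' ∈ IV.support → ξ' ∈ IW.support → ξ' ⤳ ξ → ξ' = ξ)
    (h1 : Module.length (X.presheaf.stalk ξ) (↑(X.presheaf.stalk ξ) ⧸
      (IntMult.stalkIdeal IV ξ ⊔ IntMult.stalkIdeal IW ξ)) = 1) :
    IntMult.mult IV IW ξ = 1 ∧
      IsRegularLocalRing (↑(X.presheaf.stalk ξ) ⧸ IntMult.stalkIdeal IV ξ) ∧
      IsRegularLocalRing (↑(X.presheaf.stalk ξ) ⧸ IntMult.stalkIdeal IW ξ) := by
  haveI : IsRegularLocalRing (X.presheaf.stalk ξ) :=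
    Groth.Agent.Helper4.SmoothRegSch.isRegularLocalRing_stalk K f ξ
  have hsup := sup_eq_maximalIdeal_of_length_eq_one _ h1
  have hprop' : IntMult.ProperInt (IW.support : Set X) (IV.support : Set X) n s r := by
    unfold IntMult.ProperInt at hprop ⊢
    rw [Set.inter_comm, Nat.add_comm s r]
    exact hprop
  obtain ⟨c, g, hg, hreg, hregV⟩ := exists_regular_gens (stalkIdeal IV ξ) (stalkIdeal IW ξ) hsup
    (fun c' hc' => Groth.Agent.Lead.IntMultCM.le_ringKrullDim K f IV IW n r s hn hr hs hprop ξ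
      hξV hξW c' hc')
  obtain ⟨c₂, g₂, hg₂, hreg₂, hregW⟩ := exists_regular_gens (stalkIdeal IW ξ) (stalkIdeal IV ξ)
    (by rw [sup_comm]; exact hsup)
    (fun c' hc' => Groth.Agent.Lead.IntMultCM.le_ringKrullDim K f IW IV n s r hn hs hr hprop' ξ
      hξW hξV c' hc')
  refine ⟨?_, hregV, hregW⟩
  haveI := hregW
  have hCM : LocCoh.IsCohenMacaulayLocalRing (↑(X.presheaf.stalk ξ) ⧸ IntMult.stalkIdeal IW ξ) :=
    Groth.Agent.Lead.Depth.isCohenMacaulayLocalRing_of_isRegularLocalRing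
  have key := Groth.Agent.Lead.IntMultCM.main K X f IV IW n r s hn hr hs hprop ξ hξV hξW hmax
    c g hg hreg hCM
  rw [sup_comm, h1] at key
  exact key

end Geometry

end Groth.Agent.Helper3.IntOne
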