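import Mathlib

/-!
# Idempotent matrices, rank idempotents and lifting of `(X - f)^N` (helper3)

Pure algebra used for S7487 (`Grpd.invariants_baseChange`).
For an idempotent matrix `E` over a commutative ring, `D E a = det (1 + (a - 1) • E)` is
multiplicative in `a`; its "generating polynomial" `psi E = D (E.map C) X` has orthogonal idempotent
coefficients (the rank idempotents).  `exists_pow_mem_lifts`: if the characteristic polynomials of
`E` and `f • E` lift along `φ`, so does a power of `X - C f`.
-/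

set_option autoImplicit false
universe u

open Polynomial Matrix

namespace Groth.Agent.Helper3.InvBC

section Idem

variable {R : Type*} [CommRing R] {n : ℕ}

/-- `1 + (a - 1) • E`. -/
def Mx (E : Matrix (Fin n) (Fin n) R) (a : R) : Matrix (Fin n) (Fin n) R := 1 + (a - 1) • E

theorem Mx_mul {E : Matrix (Fin n) (Fin n) R} (hE : E * E = E) (a b : R) :
    Mx E a * Mx E b = Mx E (a * b) := by
  unfold Mx
  rw [add_mul, one_mul, mul_add, mul_one, Matrix.smul_mul, Matrix.mul_smul, hE, smul_smul]
  have h : a * b - 1 = (b - 1) + ((a - 1) + (a - 1) * (b - 1)) := by ring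
  rw [h, add_smul, add_smul, add_assoc]

theorem Mx_one (E : Matrix (Fin n) (Fin n) R) : Mx E 1 = 1 := by
  unfold Mx
  rw [sub_self, zero_smul, add_zero]

theorem Mx_map {S : Type*} [CommRing S] (φ : R →+* S) (E : Matrix (Fin n) (Fin n) R) (a : R) :
    (Mx E a).map φ = Mx (E.map φ) (φ a) := by
  ext i j
  by_cases h : i = j
  · subst h
    simp [Mx]
  · simp [Mx, Matrix.one_apply_ne h]

/-- `det (1 + (a - 1) • E)`. -/
noncomputable def D (E : Matrix (Fin n) (Fin n) R) (a : R) : R := (Mx E a).det

theorem D_mul {E : Matrix (Fin n) (Fin n) R} (hE : E * E = E) (a b : R) :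
    D E a * D E b = D E (a * b) := by
  unfold D
  rw [← Matrix.det_mul, Mx_mul hE]

theorem D_one (E : Matrix (Fin n) (Fin n) R) : D E 1 = 1 := by
  unfold D
  rw [Mx_one, Matrix.det_one]

theorem D_map {S : Type*} [CommRing S] (φ : R →+* S) (E : Matrix (Fin n) (Fin n) R) (a : R) :
    φ (D E a) = D (E.map φ) (φ a) := by
  unfold D
  rw [RingHom.map_det, RingHom.mapMatrix_apply, Mx_map]

theorem map_idem {S : Type*} [CommRing S] (φ : R →+* S) {E : Matrix (Fin n) (Fin n) R}
    (hE : E * E = E) : E.map φ * E.map φ = E.map φ := by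
  rw [← Matrix.map_mul, hE]

/-- The generating polynomial of the rank idempotents. -/
noncomputable def psi (E : Matrix (Fin n) (Fin n) R) : R[X] := D (E.map (C : R →+* R[X])) X

theorem psi_comp (E : Matrix (Fin n) (Fin n) R) (p : R[X]) :
    (psi E).comp p = D (E.map (C : R →+* R[X])) p := by
  have h := D_map (Polynomial.compRingHom p) (E.map (C : R →+* R[X])) X
  have h1 : (E.map (C : R →+* R[X])).map (Polynomial.compRingHom p) = E.map (C : R →+* R[X]) := by
    ext i j
    simp [Polynomial.coe_compRingHom_apply]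
  have h2 : Polynomial.compRingHom p X = p := by
    simp [Polynomial.coe_compRingHom_apply]
  rw [h1, h2] at h
  exact h

theorem psi_eval (E : Matrix (Fin n) (Fin n) R) (a : R) : (psi E).eval a = D E a := by
  have h := D_map (Polynomial.evalRingHom a) (E.map (C : R →+* R[X])) X
  have h1 : (E.map (C : R →+* R[X])).map (Polynomial.evalRingHom a) = E := by
    ext i j
    simp
  have h2 : Polynomial.evalRingHom a X = a := by simp
  rw [h1, h2] at h
  exact h

theorem psi_map {S : Type*} [CommRing S] (φ : R →+* S) (E : Matrix (Fin n) (Fin n) R) :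
    (psi E).map φ = psi (E.map φ) := by
  have h := D_map (Polynomial.mapRingHom φ) (E.map (C : R →+* R[X])) X
  have h1 : (E.map (C : R →+* R[X])).map (Polynomial.mapRingHom φ) =
      (E.map φ).map (C : S →+* S[X]) := by
    ext i j
    simp
  have h2 : Polynomial.mapRingHom φ X = X := by simp
  rw [h1, h2] at h
  exact h

theorem psi_coeff_mul {E : Matrix (Fin n) (Fin n) R} (hE : E * E = E) (b : R) (k : ℕ) :
    (psi E).coeff k * D E b = (psi E).coeff k * b ^ k := by
  have hEC := map_idem (C : R →+* R[X]) hE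
  have h := D_mul hEC X (C b)
  have h1 : D (E.map (C : R →+* R[X])) (C b) = C (D E b) := (D_map (C : R →+* R[X]) E b).symm
  have h2 : D (E.map (C : R →+* R[X])) (X * C b) = (psi E).comp (C b * X) := by
    rw [psi_comp, mul_comm]
  rw [h1, h2] at h
  have h3 := congrArg (fun q => q.coeff k) h
  simp only [Polynomial.coeff_mul_C, Polynomial.comp_C_mul_X_coeff] at h3
  exact h3

theorem psi_coeff_orth {E : Matrix (Fin n) (Fin n) R} (hE : E * E = E) (k l : ℕ) :
    (psi E).coeff k * (psi E).coeff l = if l = k then (psi E).coeff k else 0 := by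
  have hEC := map_idem (C : R →+* R[X]) hE
  have h := psi_coeff_mul hEC (X : R[X]) k
  rw [← psi_map (C : R →+* R[X]) E, Polynomial.coeff_map] at h
  have h3 := congrArg (fun q => q.coeff l) h
  simp only [Polynomial.coeff_C_mul, Polynomial.coeff_X_pow] at h3
  rw [mul_ite, mul_one, mul_zero] at h3
  exact h3

theorem psi_sum (E : Matrix (Fin n) (Fin n) R) :
    ∑ k ∈ Finset.range ((psi E).natDegree + 1), (psi E).coeff k = 1 := by
  have h := Polynomial.eval_eq_sum_range (p := psi E) 1
  rw [psi_eval, D_one] at h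
  simpa using h.symm

theorem psi_coeff_zero (E : Matrix (Fin n) (Fin n) R) : (psi E).coeff 0 = (1 - E).det := by
  rw [Polynomial.coeff_zero_eq_eval_zero, psi_eval]
  unfold D Mx
  congr 1
  rw [zero_sub, neg_one_smul, sub_eq_add_neg]

theorem charpolyRev_smul (E : Matrix (Fin n) (Fin n) R) (g : R) :
    (g • E).charpolyRev = D (E.map (C : R →+* R[X])) (1 - C g * X) := by
  unfold Matrix.charpolyRev D Mx
  congr 1
  refine Matrix.ext fun i j => ?_
  simp only [Matrix.sub_apply, Matrix.add_apply, Matrix.smul_apply, Matrix.map_apply, smul_eq_mul,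
    map_mul]
  ring

theorem reflect_lin_pow (f : R) (k : ℕ) :
    Polynomial.reflect k ((1 - C f * X : R[X]) ^ k) = (X - C f) ^ k := by
  have h1 : (1 - C f * X : R[X]).natDegree ≤ 1 := by
    refine (Polynomial.natDegree_sub_le _ _).trans ?_
    rw [Polynomial.natDegree_one]
    exact max_le (Nat.zero_le _) ((Polynomial.natDegree_C_mul_le f X).trans Polynomial.natDegree_X_le)
  induction k with
  | zero => simp
  | succ k ih =>
    have hd : ((1 - C f * X : R[X]) ^ k).natDegree ≤ k :=
      (Polynomial.natDegree_pow_le_of_le k h1).trans (le_of_eq (mul_one k))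
    rw [pow_succ, Polynomial.reflect_mul _ _ hd h1, ih, pow_succ]
    congr 1
    rw [Polynomial.reflect_sub, Polynomial.reflect_one, Polynomial.reflect_C_mul,
      Polynomial.reflect_one_X, pow_one, mul_one]

theorem det_one_sub_eq_zero {A' B' : Type*} [CommRing A'] [AddCommGroup B'] [Module A' B']
    (i : B' →ₗ[A'] (Fin n → A')) (r : (Fin n → A') →ₗ[A'] B') (hri : r ∘ₗ i = LinearMap.id)
    (b : B') (lam : B' →ₗ[A'] A') (hlam : lam b = 1) :
    (1 - LinearMap.toMatrix' (i ∘ₗ r)).det = 0 := by
  obtain ⟨M, hM⟩ : ∃ M, M = (1 - LinearMap.toMatrix' (i ∘ₗ r)) := ⟨_, rfl⟩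
  rw [← hM]
  have hrib : r (i b) = b := by
    have := congrArg (fun φ => φ b) hri
    simpa using this
  have hv : M *ᵥ (i b) = 0 := by
    rw [hM, Matrix.sub_mulVec, Matrix.one_mulVec, LinearMap.toMatrix'_mulVec, LinearMap.comp_apply,
      hrib, sub_self]
  have h1 : M.det • (i b) = 0 := by
    have h2 : (M.adjugate * M) *ᵥ (i b) = 0 := by
      rw [← Matrix.mulVec_mulVec, hv, Matrix.mulVec_zero]
    rw [Matrix.adjugate_mul, Matrix.smul_mulVec, Matrix.one_mulVec] at h2
    exact h2
  have h3 := congrArg (fun w => lam (r w)) h1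
  simp only [map_smul, map_zero, hrib, hlam, smul_eq_mul, mul_one] at h3
  exact h3

theorem exists_pow_mem_lifts {S : Type*} [CommRing S] (φ : S →+* R)
    (E : Matrix (Fin n) (Fin n) R) (hE : E * E = E) (h0 : (1 - E).det = 0) (f : R)
    (h1 : ((1 : R) • E).charpoly ∈ Polynomial.lifts φ)
    (hf : (f • E).charpoly ∈ Polynomial.lifts φ) :
    ∃ N : ℕ, 0 < N ∧ (X - C f : R[X]) ^ N ∈ Polynomial.lifts φ := by
  classical
  rcases subsingleton_or_nontrivial R with hR | hR
  · refine ⟨1, one_pos, ?_⟩
    rw [Polynomial.lifts_iff_coeff_lifts]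
    intro k
    exact ⟨0, Subsingleton.elim _ _⟩
  have hrefl : ∀ (p : R[X]) (m : ℕ), p ∈ Polynomial.lifts φ → p.reflect m ∈ Polynomial.lifts φ := by
    intro p m hp
    obtain ⟨q, rfl⟩ := (Polynomial.mem_lifts p).mp hp
    rw [Polynomial.reflect_map]
    exact (Polynomial.mem_lifts _).mpr ⟨_, rfl⟩
  have hPsi : ∀ g : R, (g • E).charpoly ∈ Polynomial.lifts φ →
      D (E.map (C : R →+* R[X])) (1 - C g * X) ∈ Polynomial.lifts φ := by
    intro g hg
    rw [← charpolyRev_smul, ← Matrix.reverse_charpoly, Polynomial.reverse]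
    exact hrefl _ _ hg
  have hpsi : psi E ∈ Polynomial.lifts φ := by
    have hA := hPsi 1 h1
    have hcomp : psi E = (D (E.map (C : R →+* R[X])) (1 - C 1 * X)).comp (1 - X) := by
      have h := D_map (Polynomial.compRingHom (1 - X : R[X])) (E.map (C : R →+* R[X])) (1 - C 1 * X)
      have e1 : (E.map (C : R →+* R[X])).map (Polynomial.compRingHom (1 - X : R[X])) =
          E.map (C : R →+* R[X]) := by
        ext i j
        simp [Polynomial.coe_compRingHom_apply]
      have e2 : Polynomial.compRingHom (1 - X : R[X]) (1 - C 1 * X) = X := by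
        simp [Polynomial.coe_compRingHom_apply]
      rw [e1, e2] at h
      exact h.symm
    obtain ⟨q, hq⟩ := (Polynomial.mem_lifts _).mp hA
    rw [hcomp, ← hq]
    refine (Polynomial.mem_lifts _).mpr ⟨q.comp (1 - X), ?_⟩
    rw [Polynomial.map_comp, Polynomial.map_sub, Polynomial.map_one, Polynomial.map_X]
  have hε : ∀ k, (psi E).coeff k ∈ Set.range φ := (Polynomial.lifts_iff_coeff_lifts _).mp hpsi
  have hEC := map_idem (C : R →+* R[X]) hE
  have hQ : ∀ k, C ((psi E).coeff k) * (X - C f : R[X]) ^ k ∈ Polynomial.lifts φ := by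
    intro k
    have h2 := psi_coeff_mul hEC (1 - C f * X) k
    rw [← psi_map (C : R →+* R[X]) E, Polynomial.coeff_map] at h2
    have h3 : C ((psi E).coeff k) * D (E.map (C : R →+* R[X])) (1 - C f * X) ∈
        Polynomial.lifts φ := by
      refine Subsemiring.mul_mem _ ?_ (hPsi f hf)
      obtain ⟨s, hs⟩ := hε k
      exact (Polynomial.mem_lifts _).mpr ⟨C s, by rw [Polynomial.map_C, hs]⟩
    have h4 := hrefl _ k h3
    rw [h2, Polynomial.reflect_C_mul, reflect_lin_pow] at h4
    exact h4
  obtain ⟨d, hd⟩ : ∃ d, d = (psi E).natDegree := ⟨_, rfl⟩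
  have hidem : ∀ k, IsIdempotentElem ((psi E).coeff k) := by
    intro k
    have := psi_coeff_orth hE k k
    simpa [IsIdempotentElem] using this
  have hsum : ∑ j ∈ Finset.range d, (psi E).coeff (j + 1) = 1 := by
    have h := psi_sum E
    rw [← hd, Finset.sum_range_succ', psi_coeff_zero, h0, add_zero] at h
    exact h
  refine ⟨d.factorial, Nat.factorial_pos d, ?_⟩
  have hmem : ∑ j ∈ Finset.range d,
      (C ((psi E).coeff (j + 1)) * (X - C f : R[X]) ^ (j + 1)) ^ (d.factorial / (j + 1)) ∈
        Polynomial.lifts φ :=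
    Subsemiring.sum_mem _ (fun j _ => Subsemiring.pow_mem _ (hQ (j + 1)) _)
  have heq : ∑ j ∈ Finset.range d,
      (C ((psi E).coeff (j + 1)) * (X - C f : R[X]) ^ (j + 1)) ^ (d.factorial / (j + 1)) =
        (X - C f : R[X]) ^ d.factorial := by
    have hterm : ∀ j ∈ Finset.range d,
        (C ((psi E).coeff (j + 1)) * (X - C f : R[X]) ^ (j + 1)) ^ (d.factorial / (j + 1)) =
          C ((psi E).coeff (j + 1)) * (X - C f : R[X]) ^ d.factorial := by
      intro j hj
      have hjd : j + 1 ≤ d := Nat.succ_le_of_lt (Finset.mem_range.mp hj)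
      obtain ⟨m, hm⟩ : (j + 1) ∣ d.factorial := Nat.dvd_factorial (Nat.succ_pos j) hjd
      have hmpos : 0 < m := by
        rcases Nat.eq_zero_or_pos m with h | h
        · rw [h, mul_zero] at hm
          exact absurd hm (Nat.factorial_pos d).ne'
        · exact h
      have hdiv : d.factorial / (j + 1) = m := by
        rw [hm]
        exact Nat.mul_div_cancel_left m (Nat.succ_pos j)
      obtain ⟨m', rfl⟩ : ∃ m', m = m' + 1 := ⟨m - 1, by omega⟩
      rw [hdiv, mul_pow, ← pow_mul, ← hm, ← C_pow, (hidem (j + 1)).pow_succ_eq]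
    rw [Finset.sum_congr rfl hterm, ← Finset.sum_mul, ← map_sum, hsum, C_1, one_mul]
  rw [← heq]
  exact hmem

end Idem

end Groth.Agent.Helper3.InvBC
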