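import Mathlib
import Groth.Agent.Lib.Helper18.IntInv
import Groth.Agent.Lib.Helper3.GrpdFib
import Groth.Agent.Lib.Helper3.InvBC1

/-!
# Base change of the ring of invariants of a finite locally free groupoid (helper3)

Ring-level version of S7487 (`Grpd.invariants_baseChange`): `main`.
-/

set_option autoImplicit false
set_option linter.style.haveILetI false
universe u

open Polynomial CategoryTheory Limits TensorProduct AlgebraicGeometry

namespace Groth.Agent.Helper3.InvBC

open Groth.Agent.Lib.Helper18.IntInv Groth.Agent.Helper3.GrpdFib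

section Main

variable {C₀ A B D : Type u} [CommRing C₀] [CommRing A] [CommRing B] [CommRing D]
  [Algebra A B] [Algebra C₀ A] [Algebra C₀ B] [IsScalarTower C₀ A B]
  {t : A →+* B} {e : B →+* A} {p0 p1 c : B →+* D}
  (C' : Type u) [CommRing C'] [Algebra C₀ C']

/-! ### Part (c): the flat case -/

theorem partC (hinj : Function.Injective (algebraMap C₀ A))
    (hC : ∀ a : A, algebraMap A B a = t a ↔ a ∈ Set.range (algebraMap C₀ A))
    [Module.Flat C₀ C'] (sT tT : A ⊗[C₀] C' →ₐ[C₀] B ⊗[C₀] C')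
    (hs : ∀ (a : A) (c' : C'), sT (a ⊗ₜ c') = algebraMap A B a ⊗ₜ c')
    (ht : ∀ (a : A) (c' : C'), tT (a ⊗ₜ c') = t a ⊗ₜ c') :
    Function.Injective (Algebra.TensorProduct.includeRight : C' →ₐ[C₀] A ⊗[C₀] C') ∧
    ∀ f : A ⊗[C₀] C', sT f = tT f →
      f ∈ Set.range (Algebra.TensorProduct.includeRight : C' →ₐ[C₀] A ⊗[C₀] C') := by
  let ι : C₀ →ₗ[C₀] A := Algebra.linearMap C₀ A
  have hιr : ∀ x : C', (Algebra.TensorProduct.includeRight : C' →ₐ[C₀] A ⊗[C₀] C') x =
      (ι.rTensor C') ((TensorProduct.lid C₀ C').symm x) := by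
    intro x
    rw [TensorProduct.lid_symm_apply, LinearMap.rTensor_tmul]
    simp [ι]
  constructor
  · intro x y hxy
    rw [hιr, hιr] at hxy
    have h1 := Module.Flat.rTensor_preserves_injective_linearMap (M := C') ι hinj hxy
    exact (TensorProduct.lid C₀ C').symm.injective h1
  · intro f hf
    let tL : A →ₗ[C₀] B :=
      { toFun := t
        map_add' := map_add t
        map_smul' := fun c₀ a => by
          rw [RingHom.id_apply, Algebra.smul_def, map_mul, Algebra.smul_def]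
          congr 1
          rw [← (hC (algebraMap C₀ A c₀)).mpr ⟨c₀, rfl⟩, ← IsScalarTower.algebraMap_apply] }
    let δ : A →ₗ[C₀] B := (Algebra.linearMap A B).restrictScalars C₀ - tL
    have hex : Function.Exact ι δ := by
      intro a
      show algebraMap A B a - t a = 0 ↔ a ∈ Set.range ι
      rw [sub_eq_zero, hC]
      rfl
    have hex' := Module.Flat.rTensor_exact C' hex
    have hδ : (δ.rTensor C') f = sT f - tT f := by
      have h1 : δ.rTensor C' = (sT.toLinearMap - tT.toLinearMap) := by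
        apply TensorProduct.ext'
        intro a c'
        simp only [LinearMap.rTensor_tmul, LinearMap.sub_apply, AlgHom.toLinearMap_apply, hs, ht]
        show (algebraMap A B a - t a) ⊗ₜ[C₀] c' = _
        rw [TensorProduct.sub_tmul]
      rw [h1]
      rfl
    have h0 : (δ.rTensor C') f = 0 := by rw [hδ, hf, sub_self]
    obtain ⟨z, hz⟩ := (hex' f).mp h0
    refine ⟨TensorProduct.lid C₀ C' z, ?_⟩
    rw [hιr, LinearEquiv.symm_apply_apply, hz]

/-! ### Part (b): the kernel is nil -/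

theorem partB [Algebra.IsIntegral C₀ A] (hinj : Function.Injective (algebraMap C₀ A)) (c' : C')
    (hc : (Algebra.TensorProduct.includeRight : C' →ₐ[C₀] A ⊗[C₀] C') c' = 0) :
    IsNilpotent c' := by
  rw [nilpotent_iff_mem_prime]
  intro J hJ
  let y : PrimeSpectrum C' := ⟨J, hJ⟩
  let p : PrimeSpectrum C₀ := PrimeSpectrum.comap (algebraMap C₀ C') y
  obtain ⟨Q, -, hQ, hQp⟩ := Ideal.exists_ideal_over_prime_of_isIntegral p.asIdeal (⊥ : Ideal A) (by
    intro x hx
    rw [Ideal.mem_comap, Ideal.mem_bot] at hx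
    have hx0 : x = 0 := hinj (by rw [hx, map_zero])
    rw [hx0]
    exact zero_mem _)
  let x : PrimeSpectrum A := ⟨Q, hQ⟩
  have hxy : (Spec.map (CommRingCat.ofHom (algebraMap C₀ A))) (x : ↥(Spec (CommRingCat.of A))) =
      (Spec.map (CommRingCat.ofHom (algebraMap C₀ C'))) (y : ↥(Spec (CommRingCat.of C'))) := by
    apply PrimeSpectrum.ext
    exact hQp
  obtain ⟨z, -, hz2⟩ := Scheme.Pullback.exists_preimage_pullback _ _ hxy
  have h3 : ((pullbackSpecIso C₀ A C').hom ≫ Spec.map (CommRingCat.ofHom (RingHomClass.toRingHom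
      (Algebra.TensorProduct.includeRight : C' →ₐ[C₀] A ⊗[C₀] C')))) z = y := by
    rw [pullbackSpecIso_hom_snd]
    exact hz2
  have h5 : (Algebra.TensorProduct.includeRight : C' →ₐ[C₀] A ⊗[C₀] C') c' ∈
      PrimeSpectrum.asIdeal (((pullbackSpecIso C₀ A C').hom z : ↥(Spec (CommRingCat.of
        (A ⊗[C₀] C')))) : PrimeSpectrum (A ⊗[C₀] C')) := by
    rw [hc]
    exact zero_mem _
  have h6 : c' ∈ y.asIdeal := by
    rw [← h3]
    exact h5
  exact h6

/-! ### Pushout squares -/

theorem isPushout_left (sT : A ⊗[C₀] C' →ₐ[C₀] B ⊗[C₀] C')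
    (hs : ∀ (a : A) (c' : C'), sT (a ⊗ₜ c') = algebraMap A B a ⊗ₜ c') :
    IsPushout (CommRingCat.ofHom (Algebra.TensorProduct.includeLeftRingHom : A →+* A ⊗[C₀] C'))
      (CommRingCat.ofHom (algebraMap A B))
      (CommRingCat.ofHom sT.toRingHom)
      (CommRingCat.ofHom (Algebra.TensorProduct.includeLeftRingHom : B →+* B ⊗[C₀] C')) := by
  have hL := CommRingCat.isPushout_tensorProduct C₀ A C'
  have hbig := CommRingCat.isPushout_tensorProduct C₀ B C'
  have e1 : CommRingCat.ofHom (algebraMap C₀ B) =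
      CommRingCat.ofHom (algebraMap C₀ A) ≫ CommRingCat.ofHom (algebraMap A B) := by
    apply CommRingCat.hom_ext
    apply RingHom.ext
    intro x
    simp only [CommRingCat.hom_comp, CommRingCat.hom_ofHom, RingHom.comp_apply]
    exact IsScalarTower.algebraMap_apply C₀ A B x
  have e2 : CommRingCat.ofHom
      (Algebra.TensorProduct.includeRight : C' →ₐ[C₀] B ⊗[C₀] C').toRingHom =
      CommRingCat.ofHom (Algebra.TensorProduct.includeRight : C' →ₐ[C₀] A ⊗[C₀] C').toRingHom ≫
        CommRingCat.ofHom sT.toRingHom := by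
    apply CommRingCat.hom_ext
    apply RingHom.ext
    intro x
    simp only [CommRingCat.hom_comp, CommRingCat.hom_ofHom, RingHom.comp_apply]
    show (1 : B) ⊗ₜ[C₀] x = sT ((1 : A) ⊗ₜ[C₀] x)
    rw [hs, map_one]
  have hbig' : IsPushout
      (CommRingCat.ofHom (algebraMap C₀ A) ≫ CommRingCat.ofHom (algebraMap A B))
      (CommRingCat.ofHom (algebraMap C₀ C'))
      (CommRingCat.ofHom (Algebra.TensorProduct.includeLeftRingHom : B →+* B ⊗[C₀] C'))
      (CommRingCat.ofHom (Algebra.TensorProduct.includeRight : C' →ₐ[C₀] A ⊗[C₀] C').toRingHom ≫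
        CommRingCat.ofHom sT.toRingHom) := by
    rw [← e1, ← e2]
    exact hbig
  refine (hbig'.of_left ?_ hL).flip
  apply CommRingCat.hom_ext
  apply RingHom.ext
  intro a
  simp only [CommRingCat.hom_comp, CommRingCat.hom_ofHom, RingHom.comp_apply]
  show (algebraMap A B a) ⊗ₜ[C₀] (1 : C') = sT (a ⊗ₜ[C₀] (1 : C'))
  rw [hs]

/-- `A[C'] → A ⊗ C'`, `X_x ↦ 1 ⊗ x`. -/
noncomputable def rho (A : Type u) [CommRing A] [Algebra C₀ A] :
    MvPolynomial C' A →+* A ⊗[C₀] C' :=
  MvPolynomial.eval₂Hom (Algebra.TensorProduct.includeLeftRingHom : A →+* A ⊗[C₀] C')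
    (fun x => (1 : A) ⊗ₜ[C₀] x)

theorem rho_C (a : A) : rho (C₀ := C₀) C' A (MvPolynomial.C a) = a ⊗ₜ[C₀] (1 : C') := by
  unfold rho
  rw [MvPolynomial.eval₂Hom_C]
  rfl

theorem rho_X (x : C') : rho (C₀ := C₀) C' A (MvPolynomial.X x) = (1 : A) ⊗ₜ[C₀] x := by
  unfold rho
  rw [MvPolynomial.eval₂Hom_X']

theorem rho_surjective : Function.Surjective (rho (C₀ := C₀) C' A) := by
  intro z
  induction z using TensorProduct.induction_on with
  | zero => exact ⟨0, map_zero _⟩
  | tmul a x =>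
    refine ⟨MvPolynomial.C a * MvPolynomial.X x, ?_⟩
    rw [map_mul, rho_C, rho_X, Algebra.TensorProduct.tmul_mul_tmul, mul_one, one_mul]
  | add z w hz hw =>
    obtain ⟨p, rfl⟩ := hz
    obtain ⟨q, rfl⟩ := hw
    exact ⟨p + q, map_add _ _ _⟩

theorem rho_comm (τ : A →+* B) (τT : A ⊗[C₀] C' →ₐ[C₀] B ⊗[C₀] C')
    (hτ : ∀ (a : A) (c' : C'), τT (a ⊗ₜ c') = τ a ⊗ₜ c') :
    (rho (C₀ := C₀) C' B).comp (MvPolynomial.map τ) = τT.toRingHom.comp (rho (C₀ := C₀) C' A) := by
  apply MvPolynomial.ringHom_ext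
  · intro a
    rw [RingHom.comp_apply, RingHom.comp_apply, MvPolynomial.map_C, rho_C, rho_C]
    show τ a ⊗ₜ[C₀] (1 : C') = τT (a ⊗ₜ[C₀] (1 : C'))
    rw [hτ]
  · intro x
    rw [RingHom.comp_apply, RingHom.comp_apply, MvPolynomial.map_X, rho_X, rho_X]
    show (1 : B) ⊗ₜ[C₀] x = τT ((1 : A) ⊗ₜ[C₀] x)
    rw [hτ, map_one]

attribute [local instance] MvPolynomial.algebraMvPolynomial

theorem isPushout_rho (sT : A ⊗[C₀] C' →ₐ[C₀] B ⊗[C₀] C')
    (hs : ∀ (a : A) (c' : C'), sT (a ⊗ₜ c') = algebraMap A B a ⊗ₜ c') :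
    IsPushout (CommRingCat.ofHom (rho (C₀ := C₀) C' A))
      (CommRingCat.ofHom (algebraMap (MvPolynomial C' A) (MvPolynomial C' B)))
      (CommRingCat.ofHom sT.toRingHom)
      (CommRingCat.ofHom (rho (C₀ := C₀) C' B)) := by
  have hL := isPushout_mvPolynomial C' (algebraMap A B)
  have hbig := isPushout_left C' sT hs
  have e1 : CommRingCat.ofHom (Algebra.TensorProduct.includeLeftRingHom : A →+* A ⊗[C₀] C') =
      CommRingCat.ofHom (MvPolynomial.C : A →+* MvPolynomial C' A) ≫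
        CommRingCat.ofHom (rho (C₀ := C₀) C' A) := by
    apply CommRingCat.hom_ext
    apply RingHom.ext
    intro a
    simp only [CommRingCat.hom_comp, CommRingCat.hom_ofHom, RingHom.comp_apply]
    rw [rho_C]
    rfl
  have e2 : CommRingCat.ofHom (Algebra.TensorProduct.includeLeftRingHom : B →+* B ⊗[C₀] C') =
      CommRingCat.ofHom (MvPolynomial.C : B →+* MvPolynomial C' B) ≫
        CommRingCat.ofHom (rho (C₀ := C₀) C' B) := by
    apply CommRingCat.hom_ext
    apply RingHom.ext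
    intro a
    simp only [CommRingCat.hom_comp, CommRingCat.hom_ofHom, RingHom.comp_apply]
    rw [rho_C]
    rfl
  have hbig' : IsPushout
      (CommRingCat.ofHom (MvPolynomial.C : A →+* MvPolynomial C' A) ≫
        CommRingCat.ofHom (rho (C₀ := C₀) C' A))
      (CommRingCat.ofHom (algebraMap A B))
      (CommRingCat.ofHom sT.toRingHom)
      (CommRingCat.ofHom (MvPolynomial.C : B →+* MvPolynomial C' B) ≫
        CommRingCat.ofHom (rho (C₀ := C₀) C' B)) := by
    rw [← e1, ← e2]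
    exact hbig
  refine hbig'.of_left ?_ hL
  apply CommRingCat.hom_ext
  simp only [CommRingCat.hom_comp, CommRingCat.hom_ofHom]
  exact (rho_comm C' (algebraMap A B) sT hs).symm

/-! ### The key lemma -/

theorem K (h : RG t e p0 p1 c)
    (hC : ∀ a : A, algebraMap A B a = t a → a ∈ Set.range (algebraMap C₀ A))
    (sT tT : A ⊗[C₀] C' →ₐ[C₀] B ⊗[C₀] C')
    (hs : ∀ (a : A) (c' : C'), sT (a ⊗ₜ c') = algebraMap A B a ⊗ₜ c')
    (ht : ∀ (a : A) (c' : C'), tT (a ⊗ₜ c') = t a ⊗ₜ c')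
    [Algebra (A ⊗[C₀] C') (B ⊗[C₀] C')]
    (halg : algebraMap (A ⊗[C₀] C') (B ⊗[C₀] C') = sT.toRingHom)
    {n : ℕ} (i : B →ₗ[A] (Fin n → A)) (r : (Fin n → A) →ₗ[A] B) (hri : r ∘ₗ i = LinearMap.id)
    (g : A ⊗[C₀] C') (hg : sT g = tT g)
    (i' : B ⊗[C₀] C' →ₗ[A ⊗[C₀] C'] (Fin n → A ⊗[C₀] C'))
    (r' : (Fin n → A ⊗[C₀] C') →ₗ[A ⊗[C₀] C'] B ⊗[C₀] C') (hri' : r' ∘ₗ i' = LinearMap.id) :
    mchar i' r' (LinearMap.mulLeft (A ⊗[C₀] C') (sT g)) ∈
      Polynomial.lifts (Algebra.TensorProduct.includeRight : C' →ₐ[C₀] A ⊗[C₀] C').toRingHom := by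
  classical
  obtain ⟨F, hF⟩ := rho_surjective (C₀ := C₀) (A := A) C' g
  have hL := isPushout_mvPolynomial C' (algebraMap A B)
  obtain ⟨i2, r2, hri2, -⟩ := exists_retract_of_isPushout_cat
    (MvPolynomial.C : A →+* MvPolynomial C' A) (MvPolynomial.C : B →+* MvPolynomial C' B) hL i r hri 1
  have h'' := h.poly C'
  have hcoef := fun k => h''.coeff_mem i2 r2 hri2 F k
  have hS2 := isPushout_rho C' sT hs
  rw [← halg] at hS2
  obtain ⟨i3, r3, hri3, e3⟩ := exists_retract_of_isPushout_cat (rho (C₀ := C₀) C' A)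
    (rho (C₀ := C₀) C' B) hS2 i2 r2 hri2 (MvPolynomial.map t F)
  have hy' : rho (C₀ := C₀) C' B (MvPolynomial.map t F) = sT g := by
    have h1 := congrArg (fun φ => φ F) (rho_comm C' t tT ht)
    simp only [RingHom.comp_apply] at h1
    rw [h1, hF]
    exact hg.symm
  rw [hy'] at e3
  rw [mchar_indep i' r' i3 r3 hri' hri3, e3, Polynomial.lifts_iff_coeff_lifts]
  intro k
  rw [Polynomial.coeff_map]
  have hk := hcoef k
  obtain ⟨x, hx⟩ : ∃ x, x = (mchar i2 r2 (LinearMap.mulLeft (MvPolynomial C' A)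
      (MvPolynomial.map t F))).coeff k := ⟨_, rfl⟩
  rw [← hx] at hk ⊢
  have hxm : ∀ m, x.coeff m ∈ Set.range (algebraMap C₀ A) := by
    intro m
    apply hC
    have h1 : algebraMap (MvPolynomial C' A) (MvPolynomial C' B) x = MvPolynomial.map t x := hk
    have h2 := congrArg (MvPolynomial.coeff m) h1
    rw [MvPolynomial.algebraMap_def, MvPolynomial.coeff_map, MvPolynomial.coeff_map] at h2
    exact h2
  obtain ⟨x₀, rfl⟩ : x ∈ Set.range (MvPolynomial.map (algebraMap C₀ A)) := by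
    rw [MvPolynomial.mem_range_map_iff_coeffs_subset]
    intro a ha
    obtain ⟨m, -, rfl⟩ := MvPolynomial.mem_coeffs_iff.mp ha
    exact hxm m
  refine ⟨MvPolynomial.eval₂Hom (algebraMap C₀ C') id x₀, ?_⟩
  have hcomp : (Algebra.TensorProduct.includeRight : C' →ₐ[C₀] A ⊗[C₀] C').toRingHom.comp
      (MvPolynomial.eval₂Hom (algebraMap C₀ C') id) =
      (rho (C₀ := C₀) C' A).comp (MvPolynomial.map (algebraMap C₀ A)) := by
    apply MvPolynomial.ringHom_ext
    · intro c₀
      rw [RingHom.comp_apply, RingHom.comp_apply, MvPolynomial.eval₂Hom_C, MvPolynomial.map_C,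
        rho_C]
      exact (Algebra.TensorProduct.tmul_one_eq_one_tmul c₀).symm
    · intro x
      rw [RingHom.comp_apply, RingHom.comp_apply, MvPolynomial.eval₂Hom_X', MvPolynomial.map_X,
        rho_X]
      rfl
  exact congrArg (fun φ => φ x₀) hcomp

/-! ### Main theorem -/

theorem main [Module.Finite A B] [Module.Projective A B] (h : RG t e p0 p1 c)
    (hinj : Function.Injective (algebraMap C₀ A))
    (hC : ∀ a : A, algebraMap A B a = t a ↔ a ∈ Set.range (algebraMap C₀ A))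
    (sT tT : A ⊗[C₀] C' →ₐ[C₀] B ⊗[C₀] C')
    (hs : ∀ (a : A) (c' : C'), sT (a ⊗ₜ c') = algebraMap A B a ⊗ₜ c')
    (ht : ∀ (a : A) (c' : C'), tT (a ⊗ₜ c') = t a ⊗ₜ c') :
    (∀ f : A ⊗[C₀] C', sT f = tT f → ∃ (n : ℕ) (P : Polynomial C'), 0 < n ∧
      Polynomial.map (Algebra.TensorProduct.includeRight : C' →ₐ[C₀] A ⊗[C₀] C').toRingHom P =
        (Polynomial.X - Polynomial.C f) ^ n) ∧
    (∀ c' : C', (Algebra.TensorProduct.includeRight : C' →ₐ[C₀] A ⊗[C₀] C') c' = 0 →
      IsNilpotent c') ∧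
    (Module.Flat C₀ C' →
      Function.Injective (Algebra.TensorProduct.includeRight : C' →ₐ[C₀] A ⊗[C₀] C') ∧
      ∀ f : A ⊗[C₀] C', sT f = tT f →
        f ∈ Set.range (Algebra.TensorProduct.includeRight : C' →ₐ[C₀] A ⊗[C₀] C')) := by
  obtain ⟨n, r, i, -, -, hri⟩ := Module.Finite.exists_comp_eq_id_of_projective A B
  refine ⟨?_, ?_, ?_⟩
  · intro f hf
    letI : Algebra (A ⊗[C₀] C') (B ⊗[C₀] C') := sT.toRingHom.toAlgebra
    have hP1 := isPushout_left C' sT hs
    obtain ⟨i', r', hri', -⟩ := exists_retract_of_isPushout_cat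
      (Algebra.TensorProduct.includeLeftRingHom : A →+* A ⊗[C₀] C')
      (Algebra.TensorProduct.includeLeftRingHom : B →+* B ⊗[C₀] C') hP1 i r hri 1
    obtain ⟨E, hE⟩ : ∃ E, E = LinearMap.toMatrix' (i' ∘ₗ r') := ⟨_, rfl⟩
    have hEE : E * E = E := by
      rw [hE, ← LinearMap.toMatrix'_comp]
      congr 1
      rw [LinearMap.comp_assoc, ← LinearMap.comp_assoc r' i' r', hri', LinearMap.id_comp]
    have hKg : ∀ g : A ⊗[C₀] C', sT g = tT g → (g • E).charpoly ∈
        Polynomial.lifts (Algebra.TensorProduct.includeRight : C' →ₐ[C₀] A ⊗[C₀] C').toRingHom := by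
      intro g hg
      have hK := K C' h (fun a ha => (hC a).mp ha) sT tT hs ht rfl i r hri g hg i' r' hri'
      have e0 : i' ∘ₗ LinearMap.mulLeft (A ⊗[C₀] C') (sT g) ∘ₗ r' = g • (i' ∘ₗ r') := by
        refine LinearMap.ext fun v => ?_
        simp only [LinearMap.comp_apply, LinearMap.mulLeft_apply, LinearMap.smul_apply]
        rw [show sT g * r' v = g • r' v from (Algebra.smul_def g (r' v)).symm, map_smul]
      have e1 : mchar i' r' (LinearMap.mulLeft (A ⊗[C₀] C') (sT g)) = (g • E).charpoly := by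
        unfold mchar
        rw [e0, map_smul, hE]
      rw [← e1]
      exact hK
    have h1 : sT 1 = tT 1 := by rw [map_one, map_one]
    -- the unit section
    let eAlg : B →ₐ[C₀] A :=
      { e with
        commutes' := fun c₀ => by
          show e (algebraMap C₀ B c₀) = algebraMap C₀ A c₀
          rw [IsScalarTower.algebraMap_apply C₀ A B, h.hes] }
    let eT : B ⊗[C₀] C' →ₐ[C₀] A ⊗[C₀] C' := Algebra.TensorProduct.map eAlg (AlgHom.id C₀ C')
    have heT : ∀ z : A ⊗[C₀] C', eT (sT z) = z := by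
      intro z
      induction z using TensorProduct.induction_on with
      | zero => rw [map_zero, map_zero]
      | tmul a x =>
        rw [hs, Algebra.TensorProduct.map_tmul]
        show e (algebraMap A B a) ⊗ₜ[C₀] x = a ⊗ₜ[C₀] x
        rw [h.hes]
      | add z w hz hw => rw [map_add, map_add, hz, hw]
    let lam : B ⊗[C₀] C' →ₗ[A ⊗[C₀] C'] A ⊗[C₀] C' :=
      { toFun := eT
        map_add' := map_add eT
        map_smul' := fun a' b' => by
          rw [RingHom.id_apply, Algebra.smul_def, map_mul, smul_eq_mul]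
          congr 1
          exact heT a' }
    have hlam : lam 1 = 1 := map_one eT
    have h0 : (1 - E).det = 0 := by
      rw [hE]
      exact det_one_sub_eq_zero i' r' hri' 1 lam hlam
    obtain ⟨N, hN, hmem⟩ := exists_pow_mem_lifts
      (Algebra.TensorProduct.includeRight : C' →ₐ[C₀] A ⊗[C₀] C').toRingHom E hEE h0 f
      (hKg 1 h1) (hKg f hf)
    obtain ⟨P, hP⟩ := (Polynomial.mem_lifts _).mp hmem
    exact ⟨N, P, hN, hP⟩
  · intro c' hc'
    haveI hint : Algebra.IsIntegral C₀ A := by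
      constructor
      intro a
      have hcoef : ∀ k, (mchar i r (LinearMap.mulLeft A (t a))).coeff k ∈
          Set.range (algebraMap C₀ A) := fun k => (hC _).mp (h.coeff_mem i r hri a k)
      have hl : mchar i r (LinearMap.mulLeft A (t a)) ∈ Polynomial.lifts (algebraMap C₀ A) :=
        (Polynomial.lifts_iff_coeff_lifts _).mpr hcoef
      obtain ⟨q, hq, -, hqm⟩ := Polynomial.lifts_and_natDegree_eq_and_monic hl (mchar_monic _ _ _)
      refine ⟨q, hqm, ?_⟩
      rw [← Polynomial.eval_map, hq]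
      exact h.eval_self i r hri a
    exact partB C' hinj c' hc'
  · intro hflat
    exact partC C' hinj hC sT tT hs ht

end Main

end Groth.Agent.Helper3.InvBC
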