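import Mathlib

set_option autoImplicit false

namespace Groth.Agent.Helper3.InvTame

open scoped Pointwise

universe u v

noncomputable def eqv {Γ : Type v} [Group Γ] (I : Subgroup Γ) : (Γ ⧸ I) × I ≃ Γ where
  toFun x := x.1.out * x.2
  invFun γ := (QuotientGroup.mk γ, ⟨(QuotientGroup.mk γ : Γ ⧸ I).out⁻¹ * γ, by
      rw [← QuotientGroup.eq]; exact QuotientGroup.out_eq' _⟩)
  left_inv x := by
    have h : (QuotientGroup.mk (x.1.out * x.2) : Γ ⧸ I) = x.1 := by
      rw [QuotientGroup.mk_mul_of_mem _ x.2.2, QuotientGroup.out_eq']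
    apply Prod.ext
    · exact h
    · apply Subtype.ext
      simp only [h]
      group
  right_inv γ := by simp

variable (B : Type u) [CommRing B] (Γ : Type v) [Group Γ] [Fintype Γ] [MulSemiringAction Γ B]

/-- trace 1 implies tame at every prime -/
theorem tame_of_trace {b : B} (hb : ∑ γ : Γ, γ • b = 1) (P : Ideal B) [P.IsPrime] :
    ((Nat.card (P.inertia Γ) : ℕ) : B ⧸ P) ≠ 0 := by
  classical
  intro h0
  have hne : (1 : B ⧸ P) ≠ 0 := one_ne_zero
  apply hne
  have h1 : ∑ γ : Γ, γ⁻¹ • b = 1 := by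
    rw [← hb]
    exact Equiv.sum_comp (Equiv.inv Γ) (fun γ => γ • b)
  have h2 : (1 : B ⧸ P) = ∑ γ : Γ, Ideal.Quotient.mk P (γ⁻¹ • b) := by
    rw [← map_sum, h1, map_one]
  rw [h2, ← Equiv.sum_comp (eqv (P.inertia Γ)), Fintype.sum_prod_type]
  apply Finset.sum_eq_zero
  intro q _
  have hconst : ∀ i : P.inertia Γ, Ideal.Quotient.mk P ((eqv (P.inertia Γ) (q, i))⁻¹ • b) =
      Ideal.Quotient.mk P ((q.out)⁻¹ • b) := by
    intro i
    have h3 : eqv (P.inertia Γ) (q, i) = q.out * (i : Γ) := rfl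
    rw [h3, mul_inv_rev, mul_smul, Ideal.Quotient.eq]
    exact (P.inertia Γ).inv_mem i.2 _
  rw [Finset.sum_congr rfl (fun i _ => hconst i), Finset.sum_const, Finset.card_univ,
    ← Nat.card_eq_fintype_card, nsmul_eq_mul, h0, zero_mul]

/-- at a tame prime some trace is outside the prime -/
theorem exists_trace_notMem (P : Ideal B) [P.IsPrime]
    (h : ((Nat.card (P.inertia Γ) : ℕ) : B ⧸ P) ≠ 0) : ∃ b : B, ∑ γ : Γ, γ • b ∉ P := by
  classical
  by_contra hcon
  push Not at hcon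
  apply h
  let ψ : Γ → (B →* (B ⧸ P)) := fun γ =>
    ((Ideal.Quotient.mk P).comp (MulSemiringAction.toRingHom Γ B γ)).toMonoidHom
  have hψ : ∀ γ b, ψ γ b = Ideal.Quotient.mk P (γ • b) := fun γ b => rfl
  have hli := linearIndependent_monoidHom B (B ⧸ P)
  have hsum : ∑ χ ∈ Finset.univ.image ψ,
      ((Finset.univ.filter (fun γ => ψ γ = χ)).card : B ⧸ P) • (χ : B → B ⧸ P) = 0 := by
    funext b
    have h1 := Finset.sum_comp (s := (Finset.univ : Finset Γ)) (fun χ : B →* (B ⧸ P) => χ b) ψ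
    simp only [Finset.sum_apply, Pi.smul_apply, Pi.zero_apply, smul_eq_mul]
    simp only [nsmul_eq_mul] at h1
    rw [← h1]
    simp only [hψ]
    rw [← map_sum]
    exact Ideal.Quotient.eq_zero_iff_mem.mpr (hcon b)
  have h0 := linearIndependent_iff'.mp hli _ _ hsum (ψ 1) (Finset.mem_image_of_mem ψ (Finset.mem_univ 1))
  have hcard : (Finset.univ.filter (fun γ => ψ γ = ψ 1)).card = Nat.card (P.inertia Γ) := by
    rw [Nat.card_eq_fintype_card, Fintype.card_subtype]
    congr 1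
    ext γ
    simp only [Finset.mem_filter, Finset.mem_univ, true_and]
    constructor
    · intro hγ b
      have := DFunLike.congr_fun hγ b
      rw [hψ, hψ, one_smul, Ideal.Quotient.eq] at this
      exact this
    · intro hγ
      ext b
      rw [hψ, hψ, one_smul, Ideal.Quotient.eq]
      exact hγ b
  rw [← hcard]
  exact h0

theorem trace_of_tame
    (h : ∀ P : Ideal B, P.IsPrime → ((Nat.card (P.inertia Γ) : ℕ) : B ⧸ P) ≠ 0) :
    ∃ b : B, ∑ γ : Γ, γ • b = 1 := by
  classical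
  let A := FixedPoints.subring B Γ
  haveI : Algebra.IsInvariant A B Γ := ⟨fun b hb => ⟨⟨b, hb⟩, rfl⟩⟩
  haveI : Algebra.IsIntegral A B := Algebra.IsInvariant.isIntegral A B Γ
  let J : Ideal A :=
    { carrier := {a | ∃ b : B, ∑ γ : Γ, γ • b = (a : B)}
      add_mem' := by
        rintro a a' ⟨b, hb⟩ ⟨b', hb'⟩
        refine ⟨b + b', ?_⟩
        simp only [smul_add, Finset.sum_add_distrib, hb, hb']
        rfl
      zero_mem' := ⟨0, by simp⟩
      smul_mem' := by
        rintro c a ⟨b, hb⟩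
        refine ⟨(c : B) * b, ?_⟩
        have hc : ∀ γ : Γ, γ • (c : B) = c := fun γ => c.2 γ
        simp only [smul_mul', hc, ← Finset.mul_sum, hb]
        rfl }
  by_cases hJ : J = ⊤
  · have h1 : (1 : A) ∈ J := by rw [hJ]; trivial
    obtain ⟨b, hb⟩ := h1
    exact ⟨b, hb⟩
  · exfalso
    obtain ⟨n, hn, hJn⟩ := Ideal.exists_le_maximal J hJ
    have hker : RingHom.ker (algebraMap A B) ≤ n := by
      intro x hx
      have : x = 0 := Subtype.ext (by simpa using hx)
      rw [this]; exact zero_mem _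
    obtain ⟨Q, hQ, hQn⟩ := Ideal.exists_ideal_over_maximal_of_isIntegral n hker
    haveI := hQ.isPrime
    obtain ⟨b, hb⟩ := exists_trace_notMem B Γ Q (h Q inferInstance)
    apply hb
    have hfix : ∀ γ' : Γ, γ' • (∑ γ : Γ, γ • b) = ∑ γ : Γ, γ • b := by
      intro γ'
      rw [Finset.smul_sum]
      simp only [← mul_smul]
      exact Equiv.sum_comp (Equiv.mulLeft γ') (fun γ => γ • b)
    have hmem : (⟨∑ γ : Γ, γ • b, hfix⟩ : A) ∈ J := ⟨b, rfl⟩
    have := hJn hmem
    rw [← hQn] at this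
    exact this

end Groth.Agent.Helper3.InvTame
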