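import Mathlib

set_option autoImplicit false

namespace Groth.Agent.Helper3.InvWild

open IsLocalRing

universe u v

variable {B : Type u} [CommRing B] [IsLocalRing B]
  {Γ : Type v} [Group Γ] [MulSemiringAction Γ B]

section Basic

variable (hin : ∀ (γ : Γ) (b : B), γ • b - b ∈ maximalIdeal B)

include hin in
lemma residue_smul (γ : Γ) (b : B) : residue B (γ • b) = residue B b := by
  rw [← sub_eq_zero, ← map_sub]
  exact (residue_eq_zero_iff _).mpr (hin γ b)

include hin in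
lemma smul_mem_max (γ : Γ) {x : B} (hx : x ∈ maximalIdeal B) : γ • x ∈ maximalIdeal B := by
  rw [← residue_eq_zero_iff] at hx ⊢
  rw [residue_smul hin, hx]

omit [MulSemiringAction Γ B] in
lemma residue_eq_of_mul_eq {b u u' : B} (hb : b ≠ 0) (h : b * u = b * u') :
    residue B u = residue B u' := by
  rw [← sub_eq_zero, ← map_sub, residue_eq_zero_iff]
  by_contra hmem
  have hu : IsUnit (u - u') := by
    by_contra hnu
    exact hmem ((mem_maximalIdeal _).mpr hnu)
  have : b * (u - u') = 0 := by rw [mul_sub, h, sub_self]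
  exact hb (hu.mul_left_eq_zero.mp this)

end Basic

section Main

variable (hin : ∀ (γ : Γ) (b : B), γ • b - b ∈ maximalIdeal B)
  (hst : ∀ (γ : Γ) (b : B), ∃ u : B, γ • b = b * u)

/-- the character value of `γ` at `b` -/
noncomputable def zeta (hst : ∀ (γ : Γ) (b : B), ∃ u : B, γ • b = b * u) (γ : Γ) (b : B) :
    ResidueField B := residue B (hst γ b).choose

lemma zeta_eq {γ : Γ} {b u : B} (hb : b ≠ 0) (h : γ • b = b * u) :
    zeta hst γ b = residue B u := by
  unfold zeta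
  apply residue_eq_of_mul_eq hb
  rw [← (hst γ b).choose_spec, h]

lemma zeta_one {b : B} (hb : b ≠ 0) : zeta hst (1 : Γ) b = 1 := by
  rw [zeta_eq hst hb (u := 1) (by simp), map_one]

include hin in
lemma zeta_mul (γ δ : Γ) {b : B} (hb : b ≠ 0) :
    zeta hst (γ * δ) b = zeta hst γ b * zeta hst δ b := by
  obtain ⟨uδ, hδ⟩ := hst δ b
  obtain ⟨uγ, hγ⟩ := hst γ b
  have h : (γ * δ) • b = b * (uγ * γ • uδ) := by
    rw [mul_smul, hδ, smul_mul', hγ]; ring
  rw [zeta_eq hst hb h, zeta_eq hst hb hγ, zeta_eq hst hb hδ, map_mul, residue_smul hin]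

include hin in
lemma zeta_pow (γ : Γ) {b : B} (hb : b ≠ 0) (n : ℕ) :
    zeta hst (γ ^ n) b = zeta hst γ b ^ n := by
  induction n with
  | zero => simp [zeta_one hst hb]
  | succ n ih => rw [pow_succ, zeta_mul hin hst _ _ hb, ih, pow_succ]

include hin in
lemma zeta_inv (γ : Γ) {b : B} (hb : b ≠ 0) :
    zeta hst γ⁻¹ b * zeta hst γ b = 1 := by
  rw [← zeta_mul hin hst _ _ hb, inv_mul_cancel, zeta_one hst hb]

/-- the wild condition -/
def Wild (γ : Γ) : Prop := ∀ b : B, ∃ x ∈ maximalIdeal B, γ • b = b + b * x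

lemma wild_iff (γ : Γ) : Wild (B := B) γ ↔ ∀ b : B, b ≠ 0 → zeta hst γ b = 1 := by
  constructor
  · intro h b hb
    obtain ⟨x, hx, hbx⟩ := h b
    have h' : γ • b = b * (1 + x) := by rw [hbx]; ring
    rw [zeta_eq hst hb h', map_add, map_one, (residue_eq_zero_iff _).mpr hx, add_zero]
  · intro h b
    by_cases hb : b = 0
    · exact ⟨0, zero_mem _, by simp [hb]⟩
    · obtain ⟨u, hu⟩ := hst γ b
      have h1 := h b hb
      rw [zeta_eq hst hb hu] at h1
      refine ⟨u - 1, ?_, by rw [hu]; ring⟩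
      rw [← residue_eq_zero_iff, map_sub, h1, map_one, sub_self]

/-- the wild subgroup -/
def wildSubgroup (hin : ∀ (γ : Γ) (b : B), γ • b - b ∈ maximalIdeal B)
    (hst : ∀ (γ : Γ) (b : B), ∃ u : B, γ • b = b * u) : Subgroup Γ where
  carrier := {γ | Wild (B := B) γ}
  one_mem' := by
    rw [Set.mem_setOf_eq, wild_iff hst]
    intro b hb; exact zeta_one hst hb
  mul_mem' := by
    intro γ δ hγ hδ
    rw [Set.mem_setOf_eq, wild_iff hst] at hγ hδ ⊢
    intro b hb
    rw [zeta_mul hin hst _ _ hb, hγ b hb, hδ b hb, one_mul]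
  inv_mem' := by
    intro γ hγ
    rw [Set.mem_setOf_eq, wild_iff hst] at hγ ⊢
    intro b hb
    have := zeta_inv hin hst γ hb
    rwa [hγ b hb, mul_one] at this

lemma mem_wildSubgroup (γ : Γ) : γ ∈ wildSubgroup hin hst ↔ Wild (B := B) γ := Iff.rfl

lemma commutator_mem (γ δ : Γ) : γ * δ * γ⁻¹ * δ⁻¹ ∈ wildSubgroup hin hst := by
  rw [mem_wildSubgroup, wild_iff hst]
  intro b hb
  rw [zeta_mul hin hst _ _ hb, zeta_mul hin hst _ _ hb, zeta_mul hin hst _ _ hb]
  have h1 := zeta_inv hin hst γ hb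
  have h2 := zeta_inv hin hst δ hb
  calc zeta hst γ b * zeta hst δ b * zeta hst γ⁻¹ b * zeta hst δ⁻¹ b
      = (zeta hst γ⁻¹ b * zeta hst γ b) * (zeta hst δ⁻¹ b * zeta hst δ b) := by ring
    _ = 1 := by rw [h1, h2, one_mul]

lemma wild_normal : (wildSubgroup hin hst).Normal := by
  constructor
  intro γ hγ g
  have h1 := commutator_mem hin hst g γ
  have : g * γ * g⁻¹ = (g * γ * g⁻¹ * γ⁻¹) * γ := by group
  rw [this]
  exact Subgroup.mul_mem _ h1 hγ

end Main


section Second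

variable (hin : ∀ (γ : Γ) (b : B), γ • b - b ∈ maximalIdeal B)
  (hst : ∀ (γ : Γ) (b : B), ∃ u : B, γ • b = b * u)

/-- the character value as a unit of the residue field -/
noncomputable def zu (γ : Γ) {b : B} (hb : b ≠ 0) : (ResidueField B)ˣ :=
  Units.mkOfMulEqOne (zeta hst γ b) (zeta hst γ⁻¹ b) (by rw [mul_comm]; exact zeta_inv hin hst γ hb)

lemma zu_val (γ : Γ) {b : B} (hb : b ≠ 0) : (zu hin hst γ hb : ResidueField B) = zeta hst γ b := rfl

theorem exists_primitiveRoot (γ : Γ) (n : ℕ) (hn : 0 < n) (hγn : γ ^ n ∈ wildSubgroup hin hst)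
    (hmin : ∀ i : ℕ, 0 < i → i < n → γ ^ i ∉ wildSubgroup hin hst) :
    ∃ ζ : ResidueField B, IsPrimitiveRoot ζ n := by
  classical
  haveI : NeZero n := ⟨hn.ne'⟩
  let H : Subgroup (ResidueField B)ˣ :=
    Subgroup.closure {z | ∃ (b : B) (hb : b ≠ 0), z = zu hin hst γ hb}
  have hzn : ∀ (b : B) (hb : b ≠ 0), zu hin hst γ hb ^ n = 1 := by
    intro b hb
    apply Units.ext
    rw [Units.val_pow_eq_pow_val, zu_val, ← zeta_pow hin hst γ hb n, Units.val_one]
    exact (wild_iff hst _).mp hγn b hb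
  have hHle : H ≤ rootsOfUnity n (ResidueField B) := by
    rw [Subgroup.closure_le]
    rintro z ⟨b, hb, rfl⟩
    exact (mem_rootsOfUnity _ _).mpr (hzn b hb)
  haveI : Finite H := Finite.of_injective (Subgroup.inclusion hHle) (Subgroup.inclusion_injective hHle)
  haveI : IsCyclic H := inferInstance
  obtain ⟨g, hg⟩ := IsCyclic.exists_generator (α := H)
  set r := Nat.card H with hr
  have hr0 : 0 < r := Nat.card_pos
  have hgr : orderOf g = r := orderOf_eq_card_of_forall_mem_zpowers hg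
  have hall : ∀ (b : B) (hb : b ≠ 0), zu hin hst γ hb ^ r = 1 := by
    intro b hb
    have hmem : zu hin hst γ hb ∈ H := Subgroup.subset_closure ⟨b, hb, rfl⟩
    have := pow_card_eq_one' (G := H) (x := ⟨_, hmem⟩)
    exact congrArg Subtype.val this
  have hγr : γ ^ r ∈ wildSubgroup hin hst := by
    rw [mem_wildSubgroup, wild_iff hst]
    intro b hb
    rw [zeta_pow hin hst γ hb r, ← zu_val hin hst γ hb, ← Units.val_pow_eq_pow_val, hall b hb,
      Units.val_one]
  have hrn : r ∣ n := by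
    rw [← hgr]
    apply orderOf_dvd_of_pow_eq_one
    have := (mem_rootsOfUnity _ _).mp (hHle g.2)
    exact Subtype.ext this
  have hrn' : r = n := by
    rcases lt_or_eq_of_le (Nat.le_of_dvd hn hrn) with h | h
    · exact absurd hγr (hmin r hr0 h)
    · exact h
  refine ⟨((g : (ResidueField B)ˣ) : ResidueField B), ?_⟩
  rw [IsPrimitiveRoot.iff_orderOf, orderOf_units, Subgroup.orderOf_coe, hgr, hrn']

lemma sum_pow_smul {γ : Γ} (hγ : γ ∈ wildSubgroup hin hst) (c : B) (n : ℕ) :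
    ∃ y ∈ maximalIdeal B, ∑ i ∈ Finset.range n, γ ^ i • c = c * (n + y) := by
  induction n with
  | zero => exact ⟨0, zero_mem _, by simp⟩
  | succ n ih =>
    obtain ⟨y, hy, hsum⟩ := ih
    obtain ⟨x, hx, hxc⟩ := (Subgroup.pow_mem _ hγ n : γ ^ n ∈ wildSubgroup hin hst) c
    refine ⟨y + x, add_mem hy hx, ?_⟩
    rw [Finset.sum_range_succ, hsum, hxc]; push_cast; ring

lemma smul_eq_of_wild {γ : Γ} (hγ : γ ∈ wildSubgroup hin hst) {n : ℕ} (hn : γ ^ n = 1)
    (hu : (n : B) ∉ maximalIdeal B) (b : B) : γ • b = b := by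
  obtain ⟨y, hy, hsum⟩ := sum_pow_smul hin hst hγ (γ • b - b) n
  have htel : ∑ i ∈ Finset.range n, γ ^ i • (γ • b - b) = γ ^ n • b - γ ^ 0 • b := by
    rw [← Finset.sum_range_sub (fun i => γ ^ i • b) n]
    apply Finset.sum_congr rfl
    intro i _
    rw [smul_sub, ← mul_smul, ← pow_succ]
  rw [htel, hn, pow_zero, sub_self] at hsum
  have hunit : IsUnit ((n : B) + y) := by
    by_contra h
    have h1 : (n : B) + y ∈ maximalIdeal B := (mem_maximalIdeal _).mpr h
    exact hu (by simpa using sub_mem h1 hy)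
  have := hunit.mul_left_eq_zero.mp hsum.symm
  exact sub_eq_zero.mp this

lemma natCast_notMem {p r : ℕ} [CharP (ResidueField B) p] (hr : ¬ p ∣ r) :
    (r : B) ∉ maximalIdeal B := by
  intro h
  have h0 : ((r : ResidueField B)) = 0 := by
    have := (residue_eq_zero_iff _).mpr h
    simpa using this
  exact hr ((CharP.cast_eq_zero_iff (ResidueField B) p r).mp h0)

variable [Finite Γ] [FaithfulSMul Γ B]

lemma isPGroup_wild (p : ℕ) (hp : p.Prime) [CharP (ResidueField B) p] :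
    IsPGroup p (wildSubgroup hin hst) := by
  rintro ⟨σ, hσ⟩
  obtain ⟨a, r, hr, hn⟩ := Nat.exists_eq_pow_mul_and_not_dvd (orderOf_pos σ).ne' p hp.ne_one
  refine ⟨a, Subtype.ext ?_⟩
  simp only [SubgroupClass.coe_pow, Subgroup.coe_one]
  have hτ := Subgroup.pow_mem _ hσ (p ^ a)
  apply FaithfulSMul.eq_of_smul_eq_smul (α := B)
  intro b
  rw [one_smul]
  refine smul_eq_of_wild hin hst hτ (n := r) ?_ (natCast_notMem hr) b
  rw [← pow_mul, ← hn, pow_orderOf_eq_one]

lemma wild_eq_bot [CharZero (ResidueField B)] : wildSubgroup hin hst = ⊥ := by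
  rw [eq_bot_iff]
  intro σ hσ
  rw [Subgroup.mem_bot]
  haveI : CharP (ResidueField B) 0 := CharP.ofCharZero _
  apply FaithfulSMul.eq_of_smul_eq_smul (α := B)
  intro b
  rw [one_smul]
  refine smul_eq_of_wild hin hst hσ (n := orderOf σ) (pow_orderOf_eq_one σ) (natCast_notMem ?_) b
  rw [zero_dvd_iff]
  exact (orderOf_pos σ).ne'

lemma not_dvd_index (p : ℕ) [hp : Fact p.Prime] [CharP (ResidueField B) p] :
    ¬ p ∣ (wildSubgroup hin hst).index := by
  intro hdvd
  haveI := wild_normal hin hst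
  rw [Subgroup.index_eq_card] at hdvd
  obtain ⟨x, hx⟩ := exists_prime_orderOf_dvd_card' p hdvd
  obtain ⟨γ, rfl⟩ := QuotientGroup.mk_surjective x
  have h1 : γ ^ p ∈ wildSubgroup hin hst := by
    rw [← QuotientGroup.eq_one_iff, QuotientGroup.mk_pow, ← hx, pow_orderOf_eq_one]
  have h2 : ∀ i : ℕ, 0 < i → i < p → γ ^ i ∉ wildSubgroup hin hst := by
    intro i hi hip hmem
    rw [← QuotientGroup.eq_one_iff, QuotientGroup.mk_pow] at hmem
    have := orderOf_dvd_of_pow_eq_one hmem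
    rw [hx] at this
    exact absurd (Nat.le_of_dvd hi this) (not_le.mpr hip)
  obtain ⟨ζ, hζ⟩ := exists_primitiveRoot hin hst γ p hp.out.pos h1 h2
  have h3 : ζ = 1 := by
    apply frobenius_inj (ResidueField B) p
    simp only [frobenius_def, one_pow]
    exact hζ.pow_eq_one
  rw [h3, IsPrimitiveRoot.one_left_iff] at hζ
  exact hp.out.ne_one hζ

include hin hst in
theorem main (S : Set Γ)
    (hS : ∀ γ : Γ, γ ∈ S ↔ ∀ b : B, ∃ x ∈ IsLocalRing.maximalIdeal B, γ • b = b + b * x) :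
    (ringChar (IsLocalRing.ResidueField B) = 0 → S = {1}) ∧
      (∀ (p : ℕ) [Fact p.Prime], ringChar (IsLocalRing.ResidueField B) = p →
        ∃ Q : Sylow p Γ, (Q : Set Γ) = S) ∧
      (∀ γ δ : Γ, γ * δ * γ⁻¹ * δ⁻¹ ∈ S) ∧
      (∀ (γ : Γ) (n : ℕ), 0 < n → γ ^ n ∈ S → (∀ i : ℕ, 0 < i → i < n → γ ^ i ∉ S) →
        ∃ ζ : IsLocalRing.ResidueField B, IsPrimitiveRoot ζ n) := by
  have hSeq : S = (wildSubgroup hin hst : Set Γ) := by
    ext γ
    rw [hS]; rfl
  subst hSeq
  refine ⟨?_, ?_, ?_, ?_⟩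
  · intro h0
    haveI : CharP (ResidueField B) 0 := ringChar.of_eq h0
    haveI : CharZero (ResidueField B) := CharP.charP_to_charZero _
    rw [wild_eq_bot hin hst]; rfl
  · intro p hp hchar
    haveI : CharP (ResidueField B) p := ringChar.of_eq hchar
    refine ⟨(isPGroup_wild hin hst p hp.out).toSylow (not_dvd_index hin hst p), ?_⟩
    ext γ
    exact IsPGroup.mem_toSylow _ _
  · intro γ δ
    exact commutator_mem hin hst γ δ
  · intro γ n hn hγn hmin
    exact exists_primitiveRoot hin hst γ n hn hγn hmin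

end Second

end Groth.Agent.Helper3.InvWild
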