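import Mathlib

/-!
# Pointwise Jacobian criterion for smoothness of a quotient `A/I` at a prime
-/

set_option autoImplicit false
universe u

open TensorProduct IsLocalRing

namespace Groth.Agent.Helper3.JacPt

section nak
variable {Rl : Type*} [CommRing Rl] [IsLocalRing Rl] {M : Type*} [AddCommGroup M] [Module Rl M]
  {W : Type*} [AddCommGroup W] [Module (ResidueField Rl) W]
  (Ψ : ResidueField Rl ⊗[Rl] M →ₗ[ResidueField Rl] W)

/-- span of `1 ⊗ g` over the residue field is everything if the `g` span `M`. -/
lemma span_one_tmul_eq_top {G : Set M} (hG : Submodule.span Rl G = ⊤) :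
    Submodule.span (ResidueField Rl) ((fun g => (1 : ResidueField Rl) ⊗ₜ[Rl] g) '' G) = ⊤ := by
  rw [eq_top_iff]
  rintro z -
  induction z using TensorProduct.induction_on with
  | zero => exact Submodule.zero_mem _
  | add x y hx hy => exact Submodule.add_mem _ hx hy
  | tmul c x =>
    have hx : x ∈ Submodule.span Rl G := hG ▸ Submodule.mem_top
    induction hx using Submodule.span_induction with
    | mem y hy =>
      have : c ⊗ₜ[Rl] y = c • ((1 : ResidueField Rl) ⊗ₜ[Rl] y) := by
        rw [TensorProduct.smul_tmul', smul_eq_mul, mul_one]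
      rw [this]
      exact Submodule.smul_mem _ _ (Submodule.subset_span ⟨y, hy, rfl⟩)
    | zero => rw [tmul_zero]; exact Submodule.zero_mem _
    | add y z _ _ hy hz => rw [tmul_add]; exact Submodule.add_mem _ hy hz
    | smul a y _ hy =>
      rw [← TensorProduct.smul_tmul, ← algebraMap_smul (ResidueField Rl) a c, smul_eq_mul,
        mul_comm]
      have : (c * algebraMap Rl (ResidueField Rl) a) ⊗ₜ[Rl] y
          = (algebraMap Rl (ResidueField Rl) a) • (c ⊗ₜ[Rl] y) := by
        rw [TensorProduct.smul_tmul', smul_eq_mul, mul_comm]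
      rw [this]
      exact Submodule.smul_mem _ _ hy

/-- If the `g i` span `M` and the `Ψ (1 ⊗ g i)` are linearly independent, `Ψ` is injective. -/
lemma injective_of_linearIndependent {ι : Type*} (g : ι → M)
    (hg : Submodule.span Rl (Set.range g) = ⊤)
    (hli : LinearIndependent (ResidueField Rl) (fun i => Ψ ((1 : ResidueField Rl) ⊗ₜ[Rl] g i))) :
    Function.Injective Ψ := by
  have hspan := span_one_tmul_eq_top (Rl := Rl) hg
  rw [← Set.range_comp] at hspan
  exact LinearMap.injective_of_linearIndependent hspan hli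

/-- If `Ψ` is injective and the family `g` spans the finite module `M`, a finite subfamily
spans `M` with `Ψ (1 ⊗ g i)` linearly independent. -/
lemma exists_finite_linearIndepOn [Module.Finite Rl M] (hΨ : Function.Injective Ψ) {ι : Type*}
    (g : ι → M) (hg : Submodule.span Rl (Set.range g) = ⊤) :
    ∃ b : Set ι, b.Finite ∧ Submodule.span Rl (g '' b) = ⊤ ∧
      LinearIndepOn (ResidueField Rl) (fun i => Ψ ((1 : ResidueField Rl) ⊗ₜ[Rl] g i)) b := by
  set v : ι → ResidueField Rl ⊗[Rl] M := fun i => (1 : ResidueField Rl) ⊗ₜ[Rl] g i with hv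
  obtain ⟨b, -, -, hspan, hli⟩ := exists_linearIndepOn_extension
    (K := ResidueField Rl) (v := v) (s := ∅) (t := Set.univ) (linearIndepOn_empty _ _)
    (Set.empty_subset _)
  have hfin : b.Finite := by
    have : Finite b := hli.linearIndependent.finite
    exact Set.toFinite b
  have hspan' : Submodule.span (ResidueField Rl) (v '' b) = ⊤ := by
    have h1 := span_one_tmul_eq_top (Rl := Rl) hg
    rw [← Set.range_comp] at h1
    rw [eq_top_iff, ← h1]
    rw [Set.image_univ] at hspan
    exact Submodule.span_le.mpr hspan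
  refine ⟨b, hfin, ?_, ?_⟩
  · -- Nakayama
    have hli' : LinearIndependent (ResidueField Rl) (fun i : b => v i) := hli
    have hsp2 : ⊤ ≤ Submodule.span (ResidueField Rl) (Set.range fun i : b => v i) := by
      rw [← hspan', Set.image_eq_range]
    let B := Module.Basis.mk hli' hsp2
    have := IsLocalRing.span_eq_top_of_tmul_eq_basis (R := Rl) (fun i : b => g i) B
      (fun i => by simp [B, hv])
    rw [Set.image_eq_range]
    exact this
  · exact hli.map_injOn Ψ hΨ.injOn

end nak


open KaehlerDifferential

section main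
variable (R : Type u) {A : Type u} [CommRing R] [CommRing A] [Algebra R A] (I : Ideal A)
  (P : Ideal (A ⧸ I)) [P.IsPrime]

/-- the preimage of `P` in `A` -/
abbrev q : Ideal A := P.comap (Ideal.Quotient.mk I)

/-- the local ring of `A` at `q` -/
abbrev Aq := Localization.AtPrime (q I P)

/-- the extension of `I` to `A_q` -/
abbrev J : Ideal (Aq I P) := I.map (algebraMap A (Aq I P))

/-- `A_q / I A_q` -/
abbrev S := Aq I P ⧸ J I P

omit [P.IsPrime] in
lemma I_le_q : I ≤ q I P := fun a ha => by
  simp [Ideal.mem_comap, Ideal.Quotient.eq_zero_iff_mem.mpr ha]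

lemma J_le : J I P ≤ maximalIdeal (Aq I P) := by
  rw [Ideal.map_le_iff_le_comap]
  exact (I_le_q I P).trans (Localization.AtPrime.under_maximalIdeal (I := q I P)).ge

instance : Nontrivial (S I P) :=
  Ideal.Quotient.nontrivial_iff.mpr
    (ne_top_of_le_ne_top (IsLocalRing.maximalIdeal.isMaximal _).ne_top (J_le I P))

instance : IsLocalRing (S I P) :=
  .of_surjective' (Ideal.Quotient.mk (J I P)) Ideal.Quotient.mk_surjective

instance : IsScalarTower R (A ⧸ I) (S I P) :=
  IsScalarTower.of_algebraMap_eq (fun _ => rfl)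

lemma isLocalization_quot : IsLocalization P.primeCompl (S I P) := by
  have h : Algebra.algebraMapSubmonoid (A ⧸ I) (q I P).primeCompl = P.primeCompl := by
    ext x
    obtain ⟨a, rfl⟩ := Ideal.Quotient.mk_surjective x
    simp only [Algebra.algebraMapSubmonoid, Submonoid.mem_map, Ideal.mem_primeCompl_iff]
    constructor
    · rintro ⟨a', ha', h⟩
      rw [← h]
      exact ha'
    · intro h
      exact ⟨a, h, rfl⟩
  rw [← h]
  infer_instance

lemma isSmoothAt_iff_quot : Algebra.IsSmoothAt R P ↔ Algebra.FormallySmooth R (S I P) := by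
  haveI := isLocalization_quot I P
  let e : Localization.AtPrime P ≃ₐ[A ⧸ I] S I P := IsLocalization.algEquiv P.primeCompl _ _
  constructor
  · intro h
    haveI : Algebra.FormallySmooth R (Localization.AtPrime P) := h
    exact .of_equiv (e.restrictScalars R)
  · intro h
    exact .of_equiv (e.symm.restrictScalars R)


/-- `A_q / I A_q → κ(q)` -/
noncomputable def toRes : S I P →+* ResidueField (Aq I P) :=
  Ideal.Quotient.lift (J I P) (residue (Aq I P))
    (fun _ ha => (residue_eq_zero_iff _).mpr (J_le I P ha))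

/-- comparison `κ ⊗_{A_q} Ω_{A_q/R} ≃ κ ⊗_A Ω_{A/R}` -/
noncomputable def compE :
    ResidueField (Aq I P) ⊗[Aq I P] Ω[Aq I P⁄R] ≃ₗ[ResidueField (Aq I P)]
      ResidueField (Aq I P) ⊗[A] Ω[A⁄R] :=
  (AlgebraTensorModule.congr (LinearEquiv.refl (ResidueField (Aq I P)) (ResidueField (Aq I P)))
    (tensorKaehlerEquivOfFormallyEtale R A (Aq I P)).symm) ≪≫ₗ
  AlgebraTensorModule.cancelBaseChange A (Aq I P) (ResidueField (Aq I P))
    (ResidueField (Aq I P)) Ω[A⁄R]

lemma compE_tmul_D (x : ResidueField (Aq I P)) (a : A) :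
    compE R I P (x ⊗ₜ[Aq I P] D R (Aq I P) (algebraMap A (Aq I P) a)) = x ⊗ₜ[A] D R A a := by
  have h : (tensorKaehlerEquivOfFormallyEtale R A (Aq I P)).symm
      (D R (Aq I P) (algebraMap A (Aq I P) a)) = (1 : Aq I P) ⊗ₜ[A] D R A a := by
    rw [LinearEquiv.symm_apply_eq]
    show _ = mapBaseChange R A (Aq I P) _
    rw [mapBaseChange_tmul, one_smul, map_D]
  simp only [compE, LinearEquiv.trans_apply, AlgebraTensorModule.congr_tmul, LinearEquiv.refl_apply,
    h, AlgebraTensorModule.cancelBaseChange_tmul, one_smul]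


/-- **Pointwise Jacobian criterion** (local quotient form). -/
theorem formallySmooth_quot_iff (hJ : (J I P).FG) [Algebra.FormallySmooth R (Aq I P)]
    [Module.Finite (Aq I P) Ω[Aq I P⁄R]] :
    Algebra.FormallySmooth R (S I P) ↔
      ∃ s : Finset A, (↑s : Set A) ⊆ (I : Set A) ∧
        J I P = Ideal.span (algebraMap A (Aq I P) '' (↑s : Set A)) ∧
        LinearIndependent (q I P).ResidueField
          (fun g : ↥s => (1 : (q I P).ResidueField) ⊗ₜ[A] D R A (g : A)) := by
  classical
  letI : Algebra (S I P) (ResidueField (Aq I P)) := (toRes I P).toAlgebra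
  haveI : IsScalarTower (Aq I P) (S I P) (ResidueField (Aq I P)) := by
    have := IsScalarTower.of_algebraMap_eq (R := Aq I P) (S := S I P)
      (A := ResidueField (Aq I P)) (fun x => rfl)
    exact this
  haveI : Module.Free (Aq I P) Ω[Aq I P⁄R] := Module.free_of_flat_of_isLocalRing
  have h₁ : Function.Surjective (algebraMap (Aq I P) (S I P)) := Ideal.Quotient.mk_surjective
  have hker : RingHom.ker (algebraMap (Aq I P) (S I P)) = J I P := Ideal.mk_ker
  have h₂ : (RingHom.ker (algebraMap (Aq I P) (S I P))).FG := by rw [hker]; exact hJ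
  have h₃ : maximalIdeal (S I P) ≤ RingHom.ker (algebraMap (S I P) (ResidueField (Aq I P))) := by
    intro x hx
    obtain ⟨a, rfl⟩ := Ideal.Quotient.mk_surjective x
    rw [RingHom.mem_ker]
    show residue (Aq I P) a = 0
    rw [residue_eq_zero_iff]
    by_contra ha
    have hu : IsUnit a := by
      by_contra h
      exact ha ((IsLocalRing.mem_maximalIdeal a).mpr h)
    exact (IsLocalRing.mem_maximalIdeal _).mp hx (hu.map (Ideal.Quotient.mk (J I P)))
  rw [Algebra.FormallySmooth.iff_injective_cotangentComplexBaseChange (R := R) (S := S I P)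
    (Aq I P) (ResidueField (Aq I P)) h₁ h₂ h₃]
  haveI : Module.Finite (Aq I P) (RingHom.ker (algebraMap (Aq I P) (S I P))) :=
    Module.Finite.iff_fg.mpr h₂
  set Φ := cotangentComplexBaseChange R (S I P) (Aq I P) (ResidueField (Aq I P)) with hΦ
  set Ψ := (compE R I P).toLinearMap ∘ₗ Φ with hΨ
  have hΨΦ : Function.Injective Ψ ↔ Function.Injective Φ := by
    rw [hΨ, LinearMap.coe_comp]
    exact Function.Injective.of_comp_iff (compE R I P).injective _
  have hval : ∀ (a : A) (ha : algebraMap A (Aq I P) a ∈ RingHom.ker (algebraMap (Aq I P) (S I P))),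
      Ψ ((1 : ResidueField (Aq I P)) ⊗ₜ[Aq I P] ⟨algebraMap A (Aq I P) a, ha⟩) =
        (1 : ResidueField (Aq I P)) ⊗ₜ[A] D R A a := by
    intro a ha
    rw [hΨ, LinearMap.comp_apply, hΦ, cotangentComplexBaseChange_tmul, one_smul,
      kerToTensor_apply]
    exact compE_tmul_D R I P 1 a
  have hmemI : ∀ a ∈ I, algebraMap A (Aq I P) a ∈ RingHom.ker (algebraMap (Aq I P) (S I P)) := by
    intro a ha
    rw [hker]
    exact Ideal.mem_map_of_mem _ ha
  -- general spanning transfer
  have hspan_transfer : ∀ (T : Set A) (hT : T ⊆ (I : Set A)),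
      J I P = Ideal.span (algebraMap A (Aq I P) '' T) →
      Submodule.span (Aq I P) (Set.range
        (fun a : T => (⟨algebraMap A (Aq I P) a, hmemI a (hT a.2)⟩ :
          RingHom.ker (algebraMap (Aq I P) (S I P))))) = ⊤ := by
    intro T hT hJT
    apply Submodule.map_injective_of_injective
      (f := (RingHom.ker (algebraMap (Aq I P) (S I P))).subtype) (Submodule.injective_subtype _)
    rw [Submodule.map_span, Submodule.map_subtype_top, ← Set.range_comp]
    have hset : Set.range ((RingHom.ker (algebraMap (Aq I P) (S I P))).subtype ∘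
        (fun a : T => (⟨algebraMap A (Aq I P) a, hmemI a (hT a.2)⟩ :
          RingHom.ker (algebraMap (Aq I P) (S I P))))) = algebraMap A (Aq I P) '' T := by
      ext x
      simp only [Set.mem_range, Function.comp_apply, Submodule.coe_subtype, Set.mem_image,
        Subtype.exists, exists_prop]
    rw [hset]
    exact hJT.symm.trans hker.symm
  rw [← hΨΦ]
  constructor
  · intro hinj
    have hg := hspan_transfer (I : Set A) subset_rfl (by rfl)
    obtain ⟨b, hbfin, hbspan, hbli⟩ := exists_finite_linearIndepOn Ψ hinj _ hg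
    refine ⟨(hbfin.image Subtype.val).toFinset, ?_, ?_, ?_⟩
    · intro a ha
      simp only [Set.Finite.coe_toFinset, Set.mem_image] at ha
      obtain ⟨a', -, rfl⟩ := ha
      exact a'.2
    · have := congrArg (Submodule.map (RingHom.ker (algebraMap (Aq I P) (S I P))).subtype) hbspan
      rw [Submodule.map_span, Submodule.map_subtype_top, Set.image_image] at this
      rw [Set.Finite.coe_toFinset, Set.image_image]
      exact hker.symm.trans this.symm
    · have h1 : LinearIndepOn (ResidueField (Aq I P))
          ((fun a : A => (1 : ResidueField (Aq I P)) ⊗ₜ[A] D R A a) ∘ Subtype.val) b := by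
        refine hbli.congr ?_
        intro i _
        exact hval i.1 _
      have h2 := h1.image_of_comp Subtype.val
        (fun a : A => (1 : ResidueField (Aq I P)) ⊗ₜ[A] D R A a)
      have h3 : ((hbfin.image Subtype.val).toFinset : Set A) = Subtype.val '' b :=
        Set.Finite.coe_toFinset _
      rw [← h3] at h2
      exact h2
  · rintro ⟨s, hsI, hJs, hli⟩
    have hg := hspan_transfer (↑s : Set A) hsI hJs
    refine injective_of_linearIndependent Ψ _ hg ?_
    have : (fun i : (↑s : Set A) => Ψ ((1 : ResidueField (Aq I P)) ⊗ₜ[Aq I P]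
        (⟨algebraMap A (Aq I P) i, hmemI i (hsI i.2)⟩ :
          RingHom.ker (algebraMap (Aq I P) (S I P))))) =
        fun i : (↑s : Set A) => (1 : ResidueField (Aq I P)) ⊗ₜ[A] D R A (i : A) := by
      funext i
      exact hval i.1 _
    rw [this]
    exact hli


/-- **Pointwise Jacobian criterion**: if `A` is smooth over `R` at `q` (with `Ω_{A_q/R}` finite
and `I A_q` finitely generated), `A/I` is smooth at `P` iff `I A_q` is generated by elements of
`I` whose differentials are linearly independent in `κ(q) ⊗ Ω_{A/R}`. -/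
theorem isSmoothAt_quot_iff (hJ : (J I P).FG) (hq : Algebra.IsSmoothAt R (q I P))
    [Module.Finite (Aq I P) Ω[Aq I P⁄R]] :
    Algebra.IsSmoothAt R P ↔
      ∃ s : Finset A, (↑s : Set A) ⊆ (I : Set A) ∧
        J I P = Ideal.span (algebraMap A (Aq I P) '' (↑s : Set A)) ∧
        LinearIndependent (q I P).ResidueField
          (fun g : ↥s => (1 : (q I P).ResidueField) ⊗ₜ[A] D R A (g : A)) := by
  haveI : Algebra.FormallySmooth R (Aq I P) := hq
  rw [isSmoothAt_iff_quot R I P]
  exact formallySmooth_quot_iff R I P hJ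

/-- Noetherian finite type version. -/
theorem isSmoothAt_quot_iff_of_finiteType [IsNoetherianRing R] [Algebra.FiniteType R A]
    (hq : Algebra.IsSmoothAt R (q I P)) :
    Algebra.IsSmoothAt R P ↔
      ∃ s : Finset A, (↑s : Set A) ⊆ (I : Set A) ∧
        J I P = Ideal.span (algebraMap A (Aq I P) '' (↑s : Set A)) ∧
        LinearIndependent (q I P).ResidueField
          (fun g : ↥s => (1 : (q I P).ResidueField) ⊗ₜ[A] D R A (g : A)) := by
  haveI : IsNoetherianRing A := Algebra.FiniteType.isNoetherianRing R A
  haveI : IsNoetherianRing (Aq I P) := IsLocalization.isNoetherianRing (q I P).primeCompl _ ‹_›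
  haveI : Algebra.EssFiniteType R (Aq I P) := Algebra.EssFiniteType.comp R A (Aq I P)
  exact isSmoothAt_quot_iff R I P (IsNoetherian.noetherian _) hq

end main

end Groth.Agent.Helper3.JacPt
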