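import Mathlib
import Groth.Agent.Lib.Helper3.JacPt

/-!
# Pointwise Jacobian criterion, injectivity form
-/

set_option autoImplicit false
universe u

open TensorProduct IsLocalRing KaehlerDifferential

namespace Groth.Agent.Helper3.JacPt

variable (R : Type u) {A : Type u} [CommRing R] [CommRing A] [Algebra R A] (I : Ideal A)
variable (P : Ideal (A ⧸ I)) [P.IsPrime]

/-- injectivity form of the pointwise Jacobian criterion -/
theorem exists_psi (hJ : (J I P).FG) [Algebra.FormallySmooth R (Aq I P)]
    [Module.Finite (Aq I P) Ω[Aq I P⁄R]] :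
    ∃ Ψ : ResidueField (Aq I P) ⊗[Aq I P] ↥(RingHom.ker (algebraMap (Aq I P) (S I P)))
        →ₗ[ResidueField (Aq I P)] ResidueField (Aq I P) ⊗[A] Ω[A⁄R],
      (∀ (a : A) (ha : algebraMap A (Aq I P) a ∈ RingHom.ker (algebraMap (Aq I P) (S I P))),
        Ψ ((1 : ResidueField (Aq I P)) ⊗ₜ[Aq I P] ⟨algebraMap A (Aq I P) a, ha⟩) =
          (1 : ResidueField (Aq I P)) ⊗ₜ[A] D R A a) ∧
      (Algebra.FormallySmooth R (S I P) ↔ Function.Injective Ψ) := by
  classical
  letI : Algebra (S I P) (ResidueField (Aq I P)) := (toRes I P).toAlgebra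
  haveI : IsScalarTower (Aq I P) (S I P) (ResidueField (Aq I P)) := by
    have := IsScalarTower.of_algebraMap_eq (R := Aq I P) (S := S I P)
      (A := ResidueField (Aq I P)) (fun x => rfl)
    exact this
  haveI : Module.Free (Aq I P) Ω[Aq I P⁄R] := Module.free_of_flat_of_isLocalRing
  have h₁ : Function.Surjective (algebraMap (Aq I P) (S I P)) := Ideal.Quotient.mk_surjective
  have hker : RingHom.ker (algebraMap (Aq I P) (S I P)) = J I P := Ideal.mk_ker
  have h₂ : (RingHom.ker (algebraMap (Aq I P) (S I P))).FG := by rw [hker]; exact hJ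
  have h₃ : maximalIdeal (S I P) ≤ RingHom.ker (algebraMap (S I P) (ResidueField (Aq I P))) := by
    intro x hx
    obtain ⟨a, rfl⟩ := Ideal.Quotient.mk_surjective x
    rw [RingHom.mem_ker]
    show residue (Aq I P) a = 0
    rw [residue_eq_zero_iff]
    by_contra ha
    have hu : IsUnit a := by
      by_contra h
      exact ha ((IsLocalRing.mem_maximalIdeal a).mpr h)
    exact (IsLocalRing.mem_maximalIdeal _).mp hx (hu.map (Ideal.Quotient.mk (J I P)))
  have hiff := Algebra.FormallySmooth.iff_injective_cotangentComplexBaseChange (R := R)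
    (S := S I P) (Aq I P) (ResidueField (Aq I P)) h₁ h₂ h₃
  set Φ := cotangentComplexBaseChange R (S I P) (Aq I P) (ResidueField (Aq I P)) with hΦ
  refine ⟨(compE R I P).toLinearMap ∘ₗ Φ, ?_, ?_⟩
  · intro a ha
    rw [LinearMap.comp_apply, hΦ, cotangentComplexBaseChange_tmul, one_smul,
      kerToTensor_apply]
    exact compE_tmul_D R I P 1 a
  · rw [hiff, LinearMap.coe_comp]
    exact (Function.Injective.of_comp_iff (compE R I P).injective _).symm

end Groth.Agent.Helper3.JacPt
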