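import Groth.Agent.Lib.Helper3.KF2

/-!
# `evalHom` and the chain-level map `ψ`, general form (helper3)
-/

set_option autoImplicit false

open CategoryTheory CategoryTheory.Limits MonoidalCategory

universe u

attribute [local instance] HasDerivedCategory.standard

namespace Groth.Agent.Helper3.KF

open Groth.Agent.Helper11.LDer Groth.Agent.Helper11.DC Groth.Agent.Helper11.Tel
open Groth.Agent.Helper3.HT Groth.Agent.Helper3.DT Groth.Agent.Helper3.RH Groth.Agent.Helper3.DS
open Groth.Agent.Helper3.TH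

variable {A : Type u} [CommRing A]
variable [DTen.HasLTen A] [DTen.HasLTen₃ A] [DTen.IsSymMonoidal A] [DTen.HasRHom A]

omit [DTen.HasLTen₃ A] [DTen.IsSymMonoidal A] in
theorem inv_rhoInv_spec (P W : DRing.Cx A) [IsIso (rhoInv P W)] :
    tR(inv (rhoInv P W), DerivedCategory.Q.obj P) ≫ evD P W =
      DTen.ev (DerivedCategory.Q.obj P) (DerivedCategory.Q.obj W) := by
  rw [← rhoInv_spec P W, ← tR_comp_assoc, IsIso.inv_hom_id, tR_id, Category.id_comp]

/-- translation: `evalHom` on images of complexes is an isomorphism as soon as the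
chain-level map `ψ` is a quasi-isomorphism and the relevant Hom complexes and tensor product
compute the derived ones -/
theorem isIso_evalHom_of_quasiIso' (E P W : DRing.Cx A)
    (hP : IsIso (rhoInv P W)) (hE : IsIso (rhoInv E P)) (hH : IsIso (rhoInv (DRing.homCx E P) W))
    (hε : IsIso ((DTen.ε A).app (DRing.homCx P W, E)))
    (hψ : QuasiIso (ψ E P W)) :
    IsIso (DTen.evalHom (DerivedCategory.Q.obj E) (DerivedCategory.Q.obj P)
      (DerivedCategory.Q.obj W)) := by
  haveI : IsIso (DerivedCategory.Q.map (ψ E P W)) :=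
    (DerivedCategory.isIso_Q_map_iff_quasiIso (φ := ψ E P W)).mpr hψ
  obtain ⟨ρ', hρ'iso, hρ⟩ : ∃ ρ' : (DTen.RHomR A (DerivedCategory.Q.obj P)).obj
      (DerivedCategory.Q.obj W) ⟶ DerivedCategory.Q.obj (DRing.homCx P W), IsIso ρ' ∧
      tR(ρ', DerivedCategory.Q.obj P) ≫ evD P W =
        DTen.ev (DerivedCategory.Q.obj P) (DerivedCategory.Q.obj W) :=
    ⟨inv (rhoInv P W), inferInstance, inv_rhoInv_spec P W⟩
  haveI := isIso_tR ρ' (DerivedCategory.Q.obj E)
  obtain ⟨ρ₁, hρ₁iso, hρ₁⟩ : ∃ ρ₁ : (DTen.RHomR A (DerivedCategory.Q.obj E)).obj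
      (DerivedCategory.Q.obj P) ⟶ DerivedCategory.Q.obj (DRing.homCx E P), IsIso ρ₁ ∧
      tR(ρ₁, DerivedCategory.Q.obj E) ≫ evD E P =
        DTen.ev (DerivedCategory.Q.obj E) (DerivedCategory.Q.obj P) :=
    ⟨inv (rhoInv E P), inferInstance, inv_rhoInv_spec E P⟩
  haveI := isIso_RHomMap ρ₁ (DerivedCategory.Q.obj W)
  have key : DTen.evalHom (DerivedCategory.Q.obj E) (DerivedCategory.Q.obj P)
      (DerivedCategory.Q.obj W) = tR(ρ', DerivedCategory.Q.obj E) ≫
    (DTen.ε A).app (DRing.homCx P W, E) ≫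
    DerivedCategory.Q.map (ψ E P W) ≫ rhoInv (DRing.homCx E P) W ≫
    DTen.RHomMap ρ₁ (DerivedCategory.Q.obj W) := by
    apply adj_ext
    rw [DTen.evalHom_fac]
    -- the two evaluations
    have hev : DTen.ev (DerivedCategory.Q.obj P) (DerivedCategory.Q.obj W) =
        tR(ρ', DerivedCategory.Q.obj P) ≫ (DTen.ε A).app (DRing.homCx P W, P) ≫
          DerivedCategory.Q.map (evH P W) := by
      rw [← hρ, evD]
    have hsf := DTen.symm_fac A (DRing.homCx E P) E
    have hev1 : (DTen.symm A).app ((DTen.RHomR A (DerivedCategory.Q.obj E)).obj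
        (DerivedCategory.Q.obj P), DerivedCategory.Q.obj E) ≫
        DTen.ev (DerivedCategory.Q.obj E) (DerivedCategory.Q.obj P) =
        tL(DerivedCategory.Q.obj E, ρ₁) ≫ (DTen.ε A).app (E, DRing.homCx E P) ≫
          DerivedCategory.Q.map ((DTen.braidCx E (DRing.homCx E P)).hom ≫ evH E P) := by
      rw [← hρ₁, ← symm_nat_left_assoc, evD, reassoc_of% hsf, ← Functor.map_comp]
    have hL : DTen.evalHomAux (DerivedCategory.Q.obj E) (DerivedCategory.Q.obj P)
        (DerivedCategory.Q.obj W) =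
        tL((DTen.LTen₂ A).obj ((DTen.RHomR A (DerivedCategory.Q.obj P)).obj
          (DerivedCategory.Q.obj W), DerivedCategory.Q.obj E), ρ₁) ≫
        tR(tR(ρ', DerivedCategory.Q.obj E), DerivedCategory.Q.obj (DRing.homCx E P)) ≫
        tR((DTen.ε A).app (DRing.homCx P W, E), DerivedCategory.Q.obj (DRing.homCx E P)) ≫
        (DTen.ε A).app (DRing.homCx P W ⊗ E, DRing.homCx E P) ≫
        DerivedCategory.Q.map (χ E P W) := by
      rw [DTen.evalHomAux, hev1, hev, tL_comp, tL_comp]
      simp only [Category.assoc]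
      rw [← associator_nat_right_assoc]
      rw [← tR_tL_assoc ρ' (DerivedCategory.Q.map
        ((DTen.braidCx E (DRing.homCx E P)).hom ≫ evH E P))]
      erw [← tR_tL_assoc ρ' ((DTen.ε A).app (E, DRing.homCx E P))]
      erw [← associator_nat_left_assoc]
      rw [ε_nat_right_assoc]
      erw [associator_ε_assoc]
      rw [← Functor.map_comp, ← Functor.map_comp]
      rfl
    rw [hL, tR_comp, tR_comp, tR_comp, tR_comp]
    simp only [Category.assoc]
    rw [RHomMap_ev', tR_tL_assoc, rhoInv_spec, tR_tL_assoc, tR_Q_evD, uncH_ψ]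
    erw [tR_tL_assoc, tR_tL_assoc]
    rfl
  rw [key]
  infer_instance

end Groth.Agent.Helper3.KF
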