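import Groth.Agent.Lib.Helper3.KF4
import Mathlib.Algebra.Homology.DerivedCategory.TStructure

/-!
# S13890: `RHom(L, M) ⊗^L K ⟶ RHom(RHom(K, L), M)` is an isomorphism for `K` pseudo-coherent,
`L` bounded below and `M` of finite injective dimension (helper3)
-/

set_option autoImplicit false

open CategoryTheory CategoryTheory.Limits MonoidalCategory CochainComplex HomComplex
open scoped TensorProduct

universe u

attribute [local instance] HasDerivedCategory.standard

namespace Groth.Agent.Helper3.KF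

open Groth.Agent.Helper11.LDer Groth.Agent.Helper11.DC Groth.Agent.Helper11.Tel
open Groth.Agent.Helper3.HT Groth.Agent.Helper3.DT Groth.Agent.Helper3.RH Groth.Agent.Helper3.DS
open Groth.Agent.Helper3.TH

variable {A : Type u} [CommRing A]

theorem isZero_homCx_X_of_bounds (P I : DRing.Cx A) (n d q : ℤ)
    (hP : ∀ r : ℤ, r < n → IsZero (P.X r)) (hI : ∀ k : ℤ, d < k → IsZero (I.X k))
    (hq : d - n < q) : IsZero ((DRing.homCx P I).X q) := by
  haveI : Subsingleton ((DRing.homCx P I).X q) := by
    constructor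
    intro (z : Cochain P I q) (z' : Cochain P I q)
    refine Cochain.ext _ _ (fun r k hrk => ?_)
    by_cases hr : r < n
    · exact (hP r hr).eq_of_src _ _
    · exact (hI k (by omega)).eq_of_tgt _ _
  exact ModuleCat.isZero_of_subsingleton _

/-- `ψ F P I` is an isomorphism of complexes for `F` bounded above with finite projective terms,
`P` bounded below and `I` bounded above -/
theorem isIso_ψ_of_bounds (F P I : DRing.Cx A) (b n d : ℤ) (hF : DRing.VanishesAbove F b)
    (hFfp : ∀ i : ℤ, Module.Finite A (F.X i) ∧ Module.Projective A (F.X i))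
    (hP : ∀ r : ℤ, r < n → IsZero (P.X r)) (hI : ∀ k : ℤ, d < k → IsZero (I.X k)) :
    IsIso (ψ F P I) := by
  haveI : ∀ m, IsIso ((ψ F P I).f m) := by
    intro m
    obtain ⟨a, ha⟩ : ∃ a : ℤ, a = n - d + m := ⟨_, rfl⟩
    haveI := isIso_ψ_f_of_perfect (sigmaGE F a) a b (sigmaGE_vanishesOutside F a b hF)
      (sigmaGE_termwiseFiniteProjective F a hFfp) P I m
    have hnat := congrArg (fun φ => φ.f m) (ψ_nat_E (sigmaGEι F a) P I)
    simp only [HomologicalComplex.comp_f] at hnat
    haveI : IsIso ((DRing.homCx P I ◁ sigmaGEι F a).f m) := by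
      apply isIso_whiskerLeft_f
      intro q p hqp
      by_cases hp : a ≤ p
      · exact Or.inr (isIso_sigmaGEι_f F a p hp)
      · exact Or.inl (isZero_homCx_X_of_bounds P I n d q hP hI (by omega))
    haveI : IsIso ((homCxPre (homCxPre (sigmaGEι F a) P) I).f m) := by
      apply isIso_homCxPre_f
      intro i
      by_cases hi : d < i + m
      · exact Or.inr (hI _ hi)
      · refine Or.inl ?_
        apply isIso_homCxPre_f
        intro p
        by_cases hp : a ≤ p
        · exact Or.inl (isIso_sigmaGEι_f F a p hp)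
        · exact Or.inr (hP _ (by omega))
    exact isIso_of_square' hnat
  exact HomologicalComplex.Hom.isIso_of_components _

/-- a bounded below object of `D(A)` is represented by a strictly bounded below complex -/
theorem exists_strictlyGE_rep (L : Dual.D A) (n : ℤ) (hL : DerivedCategory.IsGE L n) :
    ∃ P : DRing.Cx A, (∀ r : ℤ, r < n → IsZero (P.X r)) ∧
      Nonempty (DerivedCategory.Q.obj P ≅ L) := by
  obtain ⟨L₀, ⟨e⟩⟩ : ∃ L₀ : DRing.Cx A, Nonempty (DerivedCategory.Q.obj L₀ ≅ L) :=
    ⟨_, ⟨DerivedCategory.Q.objObjPreimageIso L⟩⟩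
  haveI : (DerivedCategory.Q.obj L₀).IsGE n :=
    DerivedCategory.TStructure.t.isGE_of_iso e.symm n
  haveI : L₀.IsGE n := (DerivedCategory.isGE_Q_obj_iff L₀ n).mp inferInstance
  haveI : IsIso (DerivedCategory.Q.map (L₀.πTruncGE n)) :=
    (DerivedCategory.isIso_Q_map_iff_quasiIso (φ := L₀.πTruncGE n)).mpr inferInstance
  refine ⟨L₀.truncGE n, fun r hr => CochainComplex.isZero_of_isStrictlyGE _ n r hr,
    ⟨(asIso (DerivedCategory.Q.map (L₀.πTruncGE n))).symm ≪≫ e⟩⟩

theorem isKInjective_of_bounded (I : DRing.Cx A) (c d : ℤ) (hI : DRing.VanishesOutside I c d)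
    (hinj : DRing.TermwiseInjective I) : CochainComplex.IsKInjective I := by
  haveI : I.IsStrictlyGE c := by
    rw [CochainComplex.isStrictlyGE_iff]
    intro i hi
    exact hI i (Or.inl hi)
  haveI : ∀ k : ℤ, Injective (I.X k) := fun k =>
    (Module.injective_iff_injective_object A (I.X k)).mp (hinj k)
  exact isKInjective_of_injective I c

variable [DTen.HasLTen A] [DTen.HasLTen₃ A] [DTen.IsSymMonoidal A] [DTen.HasRHom A]

theorem isIso_evalHom_of_pseudoCoherent (K L M : Dual.D A) (hK : DRing.IsPseudoCoherent' A K)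
    (n : ℤ) (hL : DerivedCategory.IsGE L n) (hM : DRing.HasFiniteInjDim A M) :
    IsIso (DTen.evalHom K L M) := by
  obtain ⟨F, b, hFb, hFf, ⟨eK⟩⟩ := hK
  obtain ⟨c, d, I, hI, hinj, ⟨eM⟩⟩ := hM
  obtain ⟨P, hP, ⟨eL⟩⟩ := exists_strictlyGE_rep L n hL
  have hFfp : ∀ i : ℤ, Module.Finite A (F.X i) ∧ Module.Projective A (F.X i) := fun i =>
    ⟨(hFf i).1, by haveI := (hFf i).2; infer_instance⟩
  haveI : F.IsKProjective := isKProjective_of_vanishesAbove F b hFb (fun i => (hFfp i).2)
  haveI := isKInjective_of_bounded I c d hI hinj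
  haveI := isIso_ψ_of_bounds F P I b n d hFb hFfp hP (fun k hk => hI k (Or.inr hk))
  have h := isIso_evalHom_of_quasiIso' F P I (isIso_rhoInv_of_isKInjective P I)
    (isIso_rhoInv_of_isKProjective F P) (isIso_rhoInv_of_isKInjective (DRing.homCx F P) I)
    (isIso_ε_right (DRing.homCx P I) F) inferInstance
  exact isIso_evalHom_of_iso eK.symm eL.symm eM.symm h

end Groth.Agent.Helper3.KF
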