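import Groth.Agent.Lib.Helper5.KFlat11

/-!
# Tensoring with bounded above flat complexes preserves quasi-isomorphisms (helper3)
-/

set_option autoImplicit false

universe u

open CategoryTheory CategoryTheory.Limits MonoidalCategory HomologicalComplex

namespace Groth.Agent.Helper3.KT

open Groth.Agent.Helper5.KF

variable {A : Type u} [CommRing A]

/-- tensoring on the left with a bounded above complex of flat modules preserves
quasi-isomorphisms -/
theorem quasiIso_whiskerLeft_of_flat_bddAbove (L : DRing.Cx A) (b : ℤ)
    (hb : ∀ i : ℤ, b < i → IsZero (L.X i)) (hL : ∀ i : ℤ, Module.Flat A (L.X i))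
    {M Q : DRing.Cx A} (η : M ⟶ Q) (hη : QuasiIso η) : QuasiIso (L ◁ η) := by
  have hS : (tensorSC L (facSC η)).ShortExact :=
    shortExact_tensorSC_of_splitting L (facSC η) (facSplitting η)
  have hac : ∀ i, IsZero ((tensorSC L (facSC η)).X₃.homology i) := fun i =>
    (HomologicalComplex.exactAt_iff_isZero_homology _ _).mp
      (exactAt_tensor_of_flat_bddAbove_left L _ b hb hL
        (fun j => (HomologicalComplex.exactAt_iff_isZero_homology _ _).mpr
          (facSC_acyclic η hη j)) i)
  have h1 : QuasiIso (L ◁ facι η) := quasiIso_f_of_acyclic _ hS hac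
  have h2 : QuasiIso (L ◁ facπ M Q) := (whiskerLeftHomotopyEquiv L (facEquiv M Q)).quasiIso_hom
  have : L ◁ η = L ◁ facι η ≫ L ◁ facπ M Q := by
    rw [← MonoidalCategory.whiskerLeft_comp, facι_facπ]
  rw [this]
  infer_instance

end Groth.Agent.Helper3.KT
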