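import Mathlib

/-!
# Differentials of a smooth local `k`-algebra of relative dimension one (helper3, S6555)

* `core`: `A` local Noetherian formally smooth `k`-algebra with `Ω[A⁄k]` free of rank one and
  residue field separable (algebraic) over `k`; for an irreducible `s`, `a ↦ a • ds` is bijective;
* `chart`: the same for `A` a localization at a prime of a standard smooth `k`-algebra of relative
  dimension one.
-/

set_option autoImplicit false
universe u

open TensorProduct IsLocalRing KaehlerDifferential

namespace Groth.Agent.Helper3.KaehlerUnif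

theorem nonempty_cotangent_equiv {R : Type*} [CommRing R] {I J : Ideal R} (h : I = J) :
    Nonempty (I.Cotangent ≃ₗ[R] J.Cotangent) := by
  subst h
  exact ⟨LinearEquiv.refl _ _⟩

theorem core (k A κ : Type u) [Field k] [CommRing A] [IsLocalRing A] [IsNoetherianRing A]
    [Algebra k A] [Algebra.FormallySmooth k A] [Module.Free A Ω[A⁄k]] [Module.Finite A Ω[A⁄k]]
    (hrank : Module.finrank A Ω[A⁄k] = 1)
    [Field κ] [Algebra k κ] [Algebra A κ] [IsScalarTower k A κ]
    (hsurj : Function.Surjective (algebraMap A κ)) [Algebra.IsSeparable k κ]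
    (s : A) (hs : Irreducible s) :
    Function.Bijective (fun a : A => a • KaehlerDifferential.D k A s) := by
  haveI : Algebra.FormallyUnramified k κ := Algebra.FormallyUnramified.of_isSeparable k κ
  haveI : Algebra.FormallyEtale k κ := Algebra.FormallyEtale.of_isSeparable k κ
  haveI : Algebra.FormallySmooth k κ := inferInstance
  -- the map `m/m² → κ ⊗ Ω` is bijective
  have hinj : Function.Injective (KaehlerDifferential.kerCotangentToTensor k A κ) := by
    obtain ⟨l, hl⟩ := (Algebra.FormallySmooth.iff_split_injection (R := k) (P := A) (A := κ)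
      hsurj).mp inferInstance
    have hli : Function.LeftInverse l (KaehlerDifferential.kerCotangentToTensor k A κ) := by
      intro x
      have h1 := LinearMap.congr_fun hl x
      simpa using h1
    exact hli.injective
  have hsur : Function.Surjective (KaehlerDifferential.kerCotangentToTensor k A κ) := by
    have hex := KaehlerDifferential.exact_kerCotangentToTensor_mapBaseChange k A κ hsurj
    intro y
    exact (hex y).mp (Subsingleton.elim _ _)
  have hker : RingHom.ker (algebraMap A κ) = maximalIdeal A := by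
    haveI : (RingHom.ker (algebraMap A κ)).IsMaximal :=
      RingHom.ker_isMaximal_of_surjective _ hsurj
    exact IsLocalRing.eq_maximalIdeal inferInstance
  -- the maximal ideal is principal
  obtain ⟨e1⟩ := nonempty_cotangent_equiv hker
  have hl1 : Module.length A (CotangentSpace A) = Module.length A (κ ⊗[A] Ω[A⁄k]) := by
    rw [← e1.length_eq]
    exact (LinearEquiv.ofBijective _ ⟨hinj, hsur⟩).length_eq
  have hlA : Module.length A (CotangentSpace A) =
      Module.length (ResidueField A) (CotangentSpace A) :=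
    Module.length_eq_of_surjective (R := ResidueField A) (M := CotangentSpace A) (S := A)
      IsLocalRing.residue_surjective
  have hlB : Module.length A (κ ⊗[A] Ω[A⁄k]) = Module.length κ (κ ⊗[A] Ω[A⁄k]) :=
    Module.length_eq_of_surjective (R := κ) (M := κ ⊗[A] Ω[A⁄k]) (S := A) hsurj
  have hfr : Module.finrank κ (κ ⊗[A] Ω[A⁄k]) = 1 := by
    rw [Module.finrank_baseChange, hrank]
  rw [hlA, hlB, Module.length_eq_finrank, Module.length_eq_finrank, hfr] at hl1
  have h1 : Module.finrank (ResidueField A) (CotangentSpace A) = 1 := by exact_mod_cast hl1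
  have hprin : (maximalIdeal A).IsPrincipal :=
    IsLocalRing.finrank_cotangentSpace_le_one_iff.mp h1.le
  obtain ⟨t, ht⟩ := hprin.principal
  have htm : t ∈ maximalIdeal A := by
    rw [ht]
    exact Submodule.mem_span_singleton_self t
  have hsm : s ∈ maximalIdeal A := hs.not_isUnit
  have hsm' := hsm
  rw [ht, Submodule.mem_span_singleton] at hsm'
  obtain ⟨u, hu⟩ := hsm'
  have hu' : s = u * t := by rw [← hu, smul_eq_mul]
  have huu : IsUnit u := (hs.isUnit_or_isUnit hu').resolve_right (fun h => htm h)
  obtain ⟨u', hu''⟩ := huu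
  have hmul : ∀ a ∈ RingHom.ker (algebraMap A κ), ∃ c : A, a = c * s := by
    intro a ha
    rw [hker, ht, Submodule.mem_span_singleton] at ha
    obtain ⟨b, hb⟩ := ha
    refine ⟨b * ↑u'⁻¹, ?_⟩
    rw [hu', ← hu'', ← hb, smul_eq_mul, mul_assoc, Units.inv_mul_cancel_left]
  have hs0 : algebraMap A κ s = 0 := by
    have h2 : s ∈ RingHom.ker (algebraMap A κ) := by rw [hker]; exact hsm
    exact h2
  have htm' : ∀ (r : A) (ω : Ω[A⁄k]),
      (1 : κ) ⊗ₜ[A] (r • ω) = (algebraMap A κ r) • ((1 : κ) ⊗ₜ[A] ω) := by
    intro r ω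
    have e1 : (1 : κ) ⊗ₜ[A] (r • ω) = (r • (1 : κ)) ⊗ₜ[A] ω :=
      (TensorProduct.smul_tmul r (1 : κ) ω).symm
    have e2 : (algebraMap A κ r) • ((1 : κ) ⊗ₜ[A] ω) =
        ((algebraMap A κ r) • (1 : κ)) ⊗ₜ[A] ω := TensorProduct.smul_tmul' _ _ _
    have e3 : r • (1 : κ) = (algebraMap A κ r) • (1 : κ) := (algebraMap_smul κ r (1 : κ)).symm
    rw [e1, e2, e3]
  have hspan : ∀ ω : κ ⊗[A] Ω[A⁄k],
      ∃ c : κ, ω = c • ((1 : κ) ⊗ₜ[A] KaehlerDifferential.D k A s) := by
    intro ω
    obtain ⟨z, rfl⟩ := hsur ω
    obtain ⟨x, rfl⟩ := Ideal.toCotangent_surjective _ z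
    obtain ⟨c, hc⟩ := hmul x.1 x.2
    refine ⟨algebraMap A κ c, ?_⟩
    rw [KaehlerDifferential.kerCotangentToTensor_toCotangent, hc, Derivation.leibniz,
      TensorProduct.tmul_add, htm', htm', hs0, zero_smul, add_zero]
  haveI : Nontrivial (κ ⊗[A] Ω[A⁄k]) :=
    Module.nontrivial_of_finrank_pos (R := κ) (by omega)
  let b : Module.Basis (Fin 1) A Ω[A⁄k] := Module.finBasisOfFinrankEq A Ω[A⁄k] hrank
  have hrepr : ∀ r : A, b.repr (r • b 0) 0 = r := by
    intro r
    simp [map_smul, Finsupp.smul_apply, Module.Basis.repr_self]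
  have hsum : ∀ ω : Ω[A⁄k], ω = (b.repr ω 0) • b 0 := by
    intro ω
    conv_lhs => rw [← b.sum_repr ω]
    rw [Fin.sum_univ_one]
  obtain ⟨c, hc⟩ : ∃ c : A, KaehlerDifferential.D k A s = c • b 0 := ⟨_, hsum _⟩
  have hcu : IsUnit c := by
    by_contra hcn
    have hcm : algebraMap A κ c = 0 := by
      have h2 : c ∈ RingHom.ker (algebraMap A κ) := by rw [hker]; exact hcn
      exact h2
    have h0 : (1 : κ) ⊗ₜ[A] KaehlerDifferential.D k A s = 0 := by
      rw [hc, htm', hcm, zero_smul]
    obtain ⟨x, y, hxy⟩ := exists_pair_ne (κ ⊗[A] Ω[A⁄k])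
    obtain ⟨c1, h1⟩ := hspan x
    obtain ⟨c2, h2⟩ := hspan y
    rw [h0, smul_zero] at h1 h2
    exact hxy (h1.trans h2.symm)
  obtain ⟨cu, rfl⟩ := hcu
  constructor
  · intro a a' haa
    have haa' : a • KaehlerDifferential.D k A s = a' • KaehlerDifferential.D k A s := haa
    rw [hc, smul_smul, smul_smul] at haa'
    have h2 := congrArg (fun ω => b.repr ω 0) haa'
    simp only [hrepr] at h2
    exact (Units.mul_left_inj cu).mp h2
  · intro ω
    refine ⟨b.repr ω 0 * ↑cu⁻¹, ?_⟩
    show (b.repr ω 0 * ↑cu⁻¹) • KaehlerDifferential.D k A s = ω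
    rw [hc, smul_smul, mul_assoc, Units.inv_mul, mul_one]
    exact (hsum ω).symm

theorem chart (k B A κ : Type u) [Field k] [CommRing B] [Algebra k B]
    [Algebra.IsStandardSmoothOfRelativeDimension 1 k B]
    [CommRing A] [IsLocalRing A] [Algebra k A] [Algebra B A] [IsScalarTower k B A]
    (q : Ideal B) [q.IsPrime] [IsLocalization.AtPrime A q]
    [Field κ] [Algebra k κ] [Algebra A κ] [IsScalarTower k A κ]
    (hsurj : Function.Surjective (algebraMap A κ)) [Algebra.IsSeparable k κ]
    (s : A) (hs : Irreducible s) :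
    Function.Bijective (fun a : A => a • KaehlerDifferential.D k A s) := by
  haveI : Algebra.IsStandardSmooth k B :=
    Algebra.IsStandardSmoothOfRelativeDimension.isStandardSmooth 1
  haveI : Algebra.FinitePresentation k B := inferInstance
  haveI : IsNoetherianRing B := Algebra.FiniteType.isNoetherianRing k B
  haveI : IsNoetherianRing A := IsLocalization.isNoetherianRing q.primeCompl A inferInstance
  haveI : Algebra.FormallyEtale B A := Algebra.FormallyEtale.of_isLocalization (Rₘ := A) q.primeCompl
  haveI : Algebra.FormallySmooth k A := Algebra.FormallySmooth.comp k B A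
  haveI : Nontrivial B := (algebraMap B A).domain_nontrivial
  have hrankB : Module.finrank B Ω[B⁄k] = 1 :=
    Module.finrank_eq_of_rank_eq (Algebra.IsStandardSmoothOfRelativeDimension.rank_kaehlerDifferential 1)
  haveI : Module.Free A Ω[A⁄k] :=
    Module.Free.of_equiv (KaehlerDifferential.tensorKaehlerEquivOfFormallyEtale k B A)
  haveI : Module.Finite A Ω[A⁄k] :=
    Module.Finite.equiv (KaehlerDifferential.tensorKaehlerEquivOfFormallyEtale k B A)
  have hrank : Module.finrank A Ω[A⁄k] = 1 := by
    rw [← (KaehlerDifferential.tensorKaehlerEquivOfFormallyEtale k B A).finrank_eq,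
      Module.finrank_baseChange, hrankB]
  exact core k A κ hrank hsurj s hs

end Groth.Agent.Helper3.KaehlerUnif
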