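import Mathlib
import Groth.Prelude.Def_CurvBase
import Groth.Agent.Lib.Helper14.FieldSchemeBridge
import Groth.Agent.Lib.Helper3.KaehlerUnif

/-!
# `Ω_{O_{X,x}/k}` is free on `ds` for a uniformizer `s` at a smooth point of a curve (S6555)
-/

set_option autoImplicit false
universe u

open CategoryTheory CategoryTheory.Limits AlgebraicGeometry TopologicalSpace

attribute [local instance] Curv2.resAlgebra Curv2.stalkAlgebra

namespace Groth.Agent.Helper3.KaehlerUnifSch

open Groth.Agent.Helper14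

theorem main (k : Type u) [Field k] (X : Scheme.{u}) [X.Over (Spec (CommRingCat.of k))]
    (x : X)
    (hsm : ∃ U : X.Opens, x ∈ U ∧
      SmoothOfRelativeDimension 1 (U.ι ≫ (X ↘ (Spec (CommRingCat.of k)))))
    (hsep : Algebra.IsSeparable k (X.residueField x))
    (s : X.presheaf.stalk x) (hs : Irreducible s) :
    Function.Bijective
      (fun a : X.presheaf.stalk x => a • KaehlerDifferential.D k (X.presheaf.stalk x) s) := by
  obtain ⟨U, hxU, hsmU⟩ := hsm
  obtain ⟨W, hW, V', hV', hx'V', e, hstd⟩ :=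
    hsmU.exists_isStandardSmoothOfRelativeDimension (⟨x, hxU⟩ : U)
  haveI : Subsingleton ↥(Spec (CommRingCat.of k)) :=
    inferInstanceAs (Subsingleton (PrimeSpectrum k))
  have hWtop : W = ⊤ := by
    ext p
    simp only [Opens.coe_top, Set.mem_univ, iff_true]
    have hp : p = (U.ι ≫ (X ↘ (Spec (CommRingCat.of k)))) (⟨x, hxU⟩ : U) :=
      Subsingleton.elim _ _
    rw [hp]
    exact e hx'V'
  subst hWtop
  have hV : IsAffineOpen (U.ι ''ᵁ V') := hV'.image_of_isOpenImmersion U.ι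
  have hxV : x ∈ U.ι ''ᵁ V' := ⟨⟨x, hxU⟩, hx'V', rfl⟩
  have e2 : V' ≤ U.ι ⁻¹ᵁ (U.ι ''ᵁ V') := (U.ι.preimage_image_eq V').ge
  have hfac : (X ↘ (Spec (CommRingCat.of k))).appLE ⊤ (U.ι ''ᵁ V') le_top ≫
      U.ι.appLE (U.ι ''ᵁ V') V' e2 =
      (U.ι ≫ (X ↘ (Spec (CommRingCat.of k)))).appLE ⊤ V' e :=
    Scheme.Hom.appLE_comp_appLE U.ι (X ↘ (Spec (CommRingCat.of k))) ⊤ (U.ι ''ᵁ V') V' le_top e2
  haveI hiso : IsIso (U.ι.appLE (U.ι ''ᵁ V') V' e2) := by
    rw [← Scheme.Hom.appIso_hom']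
    infer_instance
  have hstd2 : ((X ↘ (Spec (CommRingCat.of k))).appLE ⊤ (U.ι ''ᵁ V')
      le_top).hom.IsStandardSmoothOfRelativeDimension 1 := by
    rw [← hfac, CommRingCat.hom_comp] at hstd
    exact (RingHom.isStandardSmoothOfRelativeDimension_respectsIso.cancel_right_isIso _ _).mp hstd
  have hkU : (FieldSchemeBridge.kU k X (U.ι ''ᵁ V')).IsStandardSmoothOfRelativeDimension 1 := by
    have h2 : FieldSchemeBridge.kU k X (U.ι ''ᵁ V') =
        ((X ↘ (Spec (CommRingCat.of k))).appLE ⊤ (U.ι ''ᵁ V') le_top).hom.comp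
          (Scheme.ΓSpecIso (CommRingCat.of k)).inv.hom := by
      ext r
      rfl
    rw [h2]
    exact (RingHom.isStandardSmoothOfRelativeDimension_respectsIso.cancel_left_isIso
      (Scheme.ΓSpecIso (CommRingCat.of k)).inv _).mpr hstd2
  letI algB : Algebra k Γ(X, U.ι ''ᵁ V') := (FieldSchemeBridge.kU k X (U.ι ''ᵁ V')).toAlgebra
  haveI : Algebra.IsStandardSmoothOfRelativeDimension 1 k Γ(X, U.ι ''ᵁ V') := hkU
  letI algBA : Algebra Γ(X, U.ι ''ᵁ V') (X.presheaf.stalk x) :=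
    TopCat.Presheaf.algebra_section_stalk X.presheaf (U := U.ι ''ᵁ V') ⟨x, hxV⟩
  haveI : (hV.primeIdealOf ⟨x, hxV⟩).asIdeal.IsPrime := (hV.primeIdealOf ⟨x, hxV⟩).isPrime
  haveI : IsLocalization.AtPrime (X.presheaf.stalk x) (hV.primeIdealOf ⟨x, hxV⟩).asIdeal :=
    hV.isLocalization_stalk ⟨x, hxV⟩
  haveI : IsScalarTower k Γ(X, U.ι ''ᵁ V') (X.presheaf.stalk x) := by
    refine IsScalarTower.of_algebraMap_eq fun c => ?_
    show (Curv2.stalkMap k X x) c =
      (X.presheaf.germ (U.ι ''ᵁ V') x hxV).hom ((FieldSchemeBridge.kU k X (U.ι ''ᵁ V')) c)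
    simp only [FieldSchemeBridge.kU, Curv2.stalkMap, RingHom.comp_apply]
    exact (TopCat.Presheaf.germ_res_apply X.presheaf (homOfLE le_top) x hxV _).symm
  letI algAκ : Algebra (X.presheaf.stalk x) (X.residueField x) := (X.residue x).hom.toAlgebra
  haveI : IsScalarTower k (X.presheaf.stalk x) (X.residueField x) :=
    IsScalarTower.of_algebraMap_eq fun c => rfl
  have hsurj : Function.Surjective (algebraMap (X.presheaf.stalk x) (X.residueField x)) :=
    IsLocalRing.residue_surjective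
  haveI := hsep
  exact KaehlerUnif.chart k Γ(X, U.ι ''ᵁ V') (X.presheaf.stalk x) (X.residueField x)
    (hV.primeIdealOf ⟨x, hxV⟩).asIdeal hsurj s hs

end Groth.Agent.Helper3.KaehlerUnifSch
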