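import Mathlib
import Groth.Agent.S5999
import Groth.Agent.Lib.Helper3.ResTensor
import Groth.Agent.Lib.Helper14.RegSmooth
import Groth.Agent.Lib.Lead.RLR1

/-!
# Smoothness of hypersurfaces in smooth algebras over a field, elementwise criterion;
Kummer covers `A[t]/(t^e - s)`.
-/

universe u

namespace Groth.Agent.Helper3.Kummer

open TensorProduct KaehlerDifferential Polynomial

section nzd

/-- In a Noetherian ring all of whose localizations at maximal ideals are domains,
an irreducible element is a nonzerodivisor. -/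
lemma eq_zero_of_mul_irreducible {A : Type*} [CommRing A] [IsNoetherianRing A]
    (hdom : ∀ (p : Ideal A) [p.IsMaximal], IsDomain (Localization.AtPrime p)) {s : A}
    (hs : Irreducible s) : ∀ x : A, x * s = 0 → x = 0 := by
  let N : Ideal A := (Submodule.span A {s}).annihilator
  have hN : ∀ x, x ∈ N ↔ x * s = 0 := fun x => by
    show x ∈ (Submodule.span A {s}).annihilator ↔ _
    rw [Submodule.mem_annihilator_span_singleton, smul_eq_mul]
  have hle : N ≤ N * N := by
    apply Ideal.le_of_localization_maximal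
    intro P hP
    haveI := hdom P
    rw [Ideal.map_mul]
    by_cases h0 : algebraMap A (Localization.AtPrime P) s = 0
    · obtain ⟨t, ht⟩ := (IsLocalization.map_eq_zero_iff P.primeCompl _ _).mp h0
      have htN : (t : A) ∈ N := (hN _).mpr ht
      have : Ideal.map (algebraMap A (Localization.AtPrime P)) N = ⊤ := by
        apply Ideal.eq_top_of_isUnit_mem _ (Ideal.mem_map_of_mem _ htN)
        exact IsLocalization.map_units _ t
      rw [this, Ideal.top_mul]
    · have : Ideal.map (algebraMap A (Localization.AtPrime P)) N = ⊥ := by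
        rw [eq_bot_iff, Ideal.map_le_iff_le_comap]
        intro x hx
        rw [Ideal.mem_comap, Ideal.mem_bot]
        have := (hN x).mp hx
        have h2 : algebraMap A (Localization.AtPrime P) x * algebraMap A _ s = 0 := by
          rw [← map_mul, this, map_zero]
        exact (mul_eq_zero.mp h2).resolve_right h0
      rw [this]
      exact bot_le
  have hidem : IsIdempotentElem N := le_antisymm Ideal.mul_le_right hle
  obtain ⟨e, he, hNe⟩ := (Ideal.isIdempotentElem_iff_of_fg N (IsNoetherian.noetherian N)).mp hidem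
  have hes : e * s = 0 := (hN e).mp (hNe ▸ Ideal.mem_span_singleton_self e)
  have h1 : s = s * (1 - e) := by rw [mul_sub, mul_one, mul_comm s e, hes, sub_zero]
  have hu : IsUnit (1 - e) := (hs.isUnit_or_isUnit h1).resolve_left hs.not_isUnit
  have he0 : e = 0 := by
    have : e * (1 - e) = 0 := by rw [mul_sub, mul_one, he.eq, sub_self]
    exact (hu.mul_left_eq_zero).mp this
  intro x hx
  have : x ∈ N := (hN x).mpr hx
  rw [hNe, he0] at this
  simpa using this

end nzd

section crit

variable (k : Type u) {A : Type u} [Field k] [CommRing A] [Algebra k A]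

/-- The differential `dg` vanishes in `κ(q) ⊗ Ω_{A/k}` (elementwise form). -/
def Crit (q : Ideal A) (g : A) : Prop :=
  ∃ t, t ∉ q ∧ t • D k A g ∈ q • (⊤ : Submodule A Ω[A⁄k])

lemma crit_iff (q : Ideal A) [q.IsPrime] (g : A) :
    Crit k q g ↔ (1 : q.ResidueField) ⊗ₜ[A] D k A g = 0 :=
  (Groth.Agent.Helper3.ResTensor.one_tmul_eq_zero_iff q (D k A g)).symm

variable [Algebra.Smooth k A]

/-- hypersurface in a smooth algebra over a field cut out by a nonzerodivisor: smooth iff
`dg ≠ 0` at all points of `V(g)`. -/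
theorem smooth_quotient_iff (g : A) (hg : ∀ x : A, x * g = 0 → x = 0) :
    Algebra.Smooth k (A ⧸ Ideal.span {g}) ↔
      ∀ (Q : Ideal A) [Q.IsPrime], g ∈ Q → ¬ Crit k Q g := by
  haveI : Algebra.FinitePresentation k A := Algebra.Smooth.finitePresentation
  haveI : Algebra.FormallySmooth k A := Algebra.Smooth.formallySmooth
  haveI : Algebra.FinitePresentation k (A ⧸ Ideal.span {g}) :=
    Algebra.FinitePresentation.quotient (Submodule.fg_span_singleton g)
  have hsm : ∀ (Q : Ideal A) [Q.IsPrime], Algebra.IsSmoothAt k Q := fun Q _ => by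
    have := Algebra.smoothLocus_eq_univ (R := k) (A := A)
    exact this.ge (Set.mem_univ ⟨Q, inferInstance⟩)
  have hpt : ∀ (P : Ideal (A ⧸ Ideal.span {g})) [P.IsPrime],
      Algebra.IsSmoothAt k P ↔ ¬ Crit k (P.comap (Ideal.Quotient.mk (Ideal.span {g}))) g := by
    intro P _
    rw [Groth.Agent.S5999.result k A g P (hsm _), crit_iff]
    constructor
    · rintro (h | h)
      · exfalso
        obtain ⟨t, ht⟩ := (IsLocalization.map_eq_zero_iff
          (P.comap (Ideal.Quotient.mk (Ideal.span {g}))).primeCompl _ _).mp h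
        have := hg _ ht
        exact t.2 (this ▸ Ideal.zero_mem _)
      · exact h
    · intro h
      exact Or.inr h
  have h1 : Algebra.Smooth k (A ⧸ Ideal.span {g}) ↔
      ∀ (P : Ideal (A ⧸ Ideal.span {g})) [P.IsPrime], Algebra.IsSmoothAt k P := by
    constructor
    · intro h P _
      have := Algebra.smoothLocus_eq_univ (R := k) (A := A ⧸ Ideal.span {g})
      exact this.ge (Set.mem_univ ⟨P, inferInstance⟩)
    · intro h
      refine ⟨?_, inferInstance⟩
      rw [← Algebra.smoothLocus_eq_univ_iff]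
      ext x
      simp only [Set.mem_univ, iff_true]
      exact h x.asIdeal
  rw [h1]
  constructor
  · intro h Q _ hgQ
    have hker : RingHom.ker (Ideal.Quotient.mk (Ideal.span {g})) ≤ Q := by
      rw [Ideal.mk_ker, Ideal.span_singleton_le_iff_mem]; exact hgQ
    haveI : (Q.map (Ideal.Quotient.mk (Ideal.span {g}))).IsPrime :=
      Ideal.map_isPrime_of_surjective Ideal.Quotient.mk_surjective hker
    have hQ : (Q.map (Ideal.Quotient.mk (Ideal.span {g}))).comap (Ideal.Quotient.mk _) = Q := by
      rw [Ideal.comap_map_of_surjective _ Ideal.Quotient.mk_surjective]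
      exact sup_eq_left.mpr hker
    have := (hpt _).mp (h (Q.map (Ideal.Quotient.mk (Ideal.span {g}))))
    rw [hQ] at this
    exact this
  · intro h P _
    rw [hpt]
    apply h
    show Ideal.Quotient.mk _ g ∈ P
    rw [Ideal.Quotient.eq_zero_iff_mem.mpr (Ideal.mem_span_singleton_self g)]
    exact Ideal.zero_mem _

end crit

section kummer

variable (k : Type u) {A : Type u} [Field k] [CommRing A] [Algebra k A]

lemma map_mem_smul_top (q : Ideal A) (Q : Ideal A[X]) (hC : ∀ a ∈ q, C a ∈ Q)
    (ω : Ω[A⁄k]) (hω : ω ∈ q • (⊤ : Submodule A Ω[A⁄k])) :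
    KaehlerDifferential.map k k A A[X] ω ∈ Q • (⊤ : Submodule A[X] Ω[A[X]⁄k]) := by
  refine Submodule.smul_induction_on hω ?_ ?_
  · intro a ha m _
    rw [map_smul, ← algebraMap_smul A[X] a, Polynomial.algebraMap_eq]
    exact Submodule.smul_mem_smul (hC a ha) trivial
  · intro x y hx hy
    rw [map_add]
    exact add_mem hx hy

lemma crit_up (s : A) (e : ℕ) (he : 2 ≤ e) (q : Ideal A) (Q : Ideal A[X])
    (hQ : ∀ f : A[X], f ∈ Q ↔ f.coeff 0 ∈ q) (h : Crit k q s) : Crit k Q (X ^ e - C s) := by
  obtain ⟨t, ht, hts⟩ := h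
  have hX : (X : A[X]) ∈ Q := by rw [hQ, coeff_X_zero]; exact q.zero_mem
  have hC : ∀ a ∈ q, C a ∈ Q := fun a ha => by rw [hQ, coeff_C_zero]; exact ha
  refine ⟨C t, ?_, ?_⟩
  · rw [hQ, coeff_C_zero]; exact ht
  · rw [map_sub, smul_sub]
    apply sub_mem
    · rw [Derivation.leibniz_pow]
      apply Submodule.smul_mem
      apply Submodule.smul_of_tower_mem
      exact Submodule.smul_mem_smul (Ideal.pow_mem_of_mem Q hX (e - 1) (by omega)) trivial
    · have h1 : C t • D k A[X] (C s) = KaehlerDifferential.map k k A A[X] (t • D k A s) := by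
        rw [map_smul, KaehlerDifferential.map_D, Polynomial.algebraMap_eq,
          ← algebraMap_smul A[X] t, Polynomial.algebraMap_eq]
      rw [h1]
      exact map_mem_smul_top k q Q hC _ hts

lemma not_crit_of_X_notMem (s : A) (e : ℕ) (hek : (e : k) ≠ 0) (Q : Ideal A[X]) [Q.IsPrime]
    (hX : X ∉ Q) : ¬ Crit k Q (X ^ e - C s) := by
  rintro ⟨t, ht, h⟩
  let δ : Ω[A[X]⁄k] →ₗ[A[X]] A[X] :=
    ((derivative' : Derivation A A[X] A[X]).restrictScalars k).liftKaehlerDifferential
  have hδ : ∀ f, δ (D k A[X] f) = derivative f := fun f =>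
    Derivation.liftKaehlerDifferential_comp_D _ f
  have h1 : δ (t • D k A[X] (X ^ e - C s)) ∈ Q := by
    have : ∀ ω ∈ Q • (⊤ : Submodule A[X] Ω[A[X]⁄k]), δ ω ∈ Q := by
      intro ω hω
      refine Submodule.smul_induction_on hω ?_ ?_
      · intro a ha m _
        rw [map_smul, smul_eq_mul]
        exact Q.mul_mem_right _ ha
      · intro x y hx hy
        rw [map_add]
        exact Q.add_mem hx hy
    exact this _ h
  rw [map_smul, hδ, smul_eq_mul, derivative_sub, derivative_C, sub_zero, derivative_X_pow] at h1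
  have h2 := (Ideal.IsPrime.mem_or_mem ‹_› h1).resolve_left ht
  have hu : IsUnit (C (e : A) : A[X]) := by
    have : (C (e : A) : A[X]) = algebraMap k A[X] (e : k) := by
      rw [map_natCast, map_natCast]
    rw [this]
    exact (IsUnit.mk0 _ hek).map _
  have h3 : X ^ (e - 1) ∈ Q := (Ideal.IsPrime.mem_or_mem ‹_› h2).resolve_left
    (fun h => ‹Q.IsPrime›.ne_top (Ideal.eq_top_of_isUnit_mem _ h hu))
  exact hX (Ideal.IsPrime.mem_of_pow_mem ‹_› _ h3)

lemma crit_down (s : A) (e : ℕ) (he : 1 ≤ e) (Q : Ideal A[X]) (hX : X ∈ Q)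
    (h : Crit k Q (X ^ e - C s)) : Crit k (Q.comap C) s := by
  obtain ⟨t, ht, h⟩ := h
  letI : Algebra A[X] A := (Polynomial.constantCoeff : A[X] →+* A).toAlgebra
  have halg : ∀ f : A[X], algebraMap A[X] A f = f.coeff 0 := fun f => rfl
  haveI : IsScalarTower k A[X] A := IsScalarTower.of_algebraMap_eq (fun r => by
    rw [halg, IsScalarTower.algebraMap_apply k A A[X], Polynomial.algebraMap_eq, coeff_C_zero])
  let ε : Ω[A[X]⁄k] →ₗ[A[X]] Ω[A⁄k] := KaehlerDifferential.map k k A[X] A
  have hcoeff : ∀ a ∈ Q, C (a.coeff 0) ∈ Q := fun a ha => by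
    have : C (a.coeff 0) = a - X * divX a := by
      rw [eq_sub_iff_add_eq, add_comm, X_mul_divX_add]
    rw [this]
    exact Q.sub_mem ha (Q.mul_mem_right _ hX)
  have hε : ∀ ω ∈ Q • (⊤ : Submodule A[X] Ω[A[X]⁄k]),
      ε ω ∈ (Q.comap C) • (⊤ : Submodule A Ω[A⁄k]) := by
    intro ω hω
    refine Submodule.smul_induction_on hω ?_ ?_
    · intro a ha m _
      rw [map_smul, ← algebraMap_smul A a, halg]
      exact Submodule.smul_mem_smul (hcoeff a ha) trivial
    · intro x y hx hy
      rw [map_add]
      exact add_mem hx hy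
  refine ⟨t.coeff 0, ?_, ?_⟩
  · intro h0
    apply ht
    rw [← X_mul_divX_add t]
    exact Q.add_mem (Q.mul_mem_right _ hX) h0
  · have h1 := hε _ h
    rw [map_smul, KaehlerDifferential.map_D, halg, ← algebraMap_smul A t, halg] at h1
    have h2 : (X ^ e - C s : A[X]).coeff 0 = -s := by
      rw [coeff_sub, coeff_X_pow, coeff_C_zero, if_neg (by omega), zero_sub]
    rw [h2, map_neg, smul_neg] at h1
    exact (Submodule.neg_mem_iff _).mp h1

theorem smooth_iff [Algebra.Smooth k A] (s : A) (hs : Irreducible s) (e : ℕ) (he : 2 ≤ e)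
    (hek : (e : k) ≠ 0) :
    Algebra.Smooth k (A[X] ⧸ Ideal.span {(X ^ e - C s : A[X])}) ↔
      Algebra.Smooth k (A ⧸ Ideal.span {s}) := by
  haveI : Algebra.FinitePresentation k A := Algebra.Smooth.finitePresentation
  haveI : Algebra.FormallySmooth k A := Algebra.Smooth.formallySmooth
  haveI : Algebra.FormallySmooth A A[X] := .of_equiv (MvPolynomial.uniqueAlgEquiv A Unit)
  haveI : Algebra.FormallySmooth k A[X] := Algebra.FormallySmooth.comp k A A[X]
  haveI : Algebra.Smooth k A[X] := ⟨inferInstance, inferInstance⟩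
  haveI : IsNoetherianRing A := Algebra.FiniteType.isNoetherianRing k A
  have hdom : ∀ (p : Ideal A) [p.IsMaximal], IsDomain (Localization.AtPrime p) := by
    intro p _
    haveI : Algebra.IsSmoothAt k p := by
      have := Algebra.smoothLocus_eq_univ (R := k) (A := A)
      exact this.ge (Set.mem_univ ⟨p, inferInstance⟩)
    haveI := Groth.Agent.Helper14.RegSmooth.isRegularLocalRing_of_isSmoothAt k A p
    exact Groth.Agent.Lead.RLR.isDomain _
  have hsnzd := eq_zero_of_mul_irreducible hdom hs
  have hFnzd : ∀ x : A[X], x * (X ^ e - C s) = 0 → x = 0 := fun x hx =>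
    (monic_X_pow_sub_C s (by omega)).mul_left_eq_zero_iff.mp hx
  rw [smooth_quotient_iff k _ hFnzd, smooth_quotient_iff k s hsnzd]
  constructor
  · intro h q _ hsq hc
    have hQ : ∀ f : A[X], f ∈ q.comap (constantCoeff : A[X] →+* A) ↔ f.coeff 0 ∈ q :=
      fun f => Iff.rfl
    refine h (q.comap (constantCoeff : A[X] →+* A)) ?_ (crit_up k s e he q _ hQ hc)
    rw [hQ, coeff_sub, coeff_X_pow, coeff_C_zero, if_neg (by omega), zero_sub]
    exact q.neg_mem hsq
  · intro h Q _ hFQ hc
    by_cases hX : X ∈ Q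
    · have := crit_down k s e (by omega) Q hX hc
      refine h (Q.comap C) ?_ this
      show C s ∈ Q
      have : C s = X ^ e - (X ^ e - C s) := by ring
      rw [this]
      exact Q.sub_mem (Ideal.pow_mem_of_mem Q hX e (by omega)) hFQ
    · exact not_crit_of_X_notMem k s e hek Q hX hc

end kummer

end Groth.Agent.Helper3.Kummer
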