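import Mathlib

/-!
# Kummer covers with integral special fibre (helper3)
-/

set_option autoImplicit false

namespace Groth.Agent.Helper3.KummerNorm

open Polynomial

lemma isUnit_of_mul_eq_pow {A : Type*} [CommRing A] [IsDomain A] {p : A} (hp : Prime p) :
    ∀ (k : ℕ) (u g : A), ¬ p ∣ u → u * g = p ^ k → IsUnit u := by
  intro k
  induction k with
  | zero =>
    intro u g _ h
    rw [pow_zero] at h
    exact IsUnit.of_mul_eq_one _ h
  | succ k ih =>
    intro u g hu h
    have h1 : p ∣ u * g := by rw [h, pow_succ]; exact dvd_mul_left _ _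
    rcases hp.dvd_or_dvd h1 with h2 | h2
    · exact absurd h2 hu
    · obtain ⟨g', rfl⟩ := h2
      apply ih u g' hu
      have : p * (u * g') = p * p ^ k := by rw [← pow_succ', ← h]; ring
      exact mul_left_cancel₀ hp.ne_zero this

/-- `f = p^a * u` with `u` a unit, if `f` becomes a unit after inverting the prime `p` -/
lemma exists_eq_pow_mul_unit {A : Type*} [CommRing A] [IsDomain A] [IsNoetherianRing A] {p : A}
    (hp : Prime p) (A' : Type*) [CommRing A'] [Algebra A A'] [IsLocalization.Away p A'] (f : A)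
    (hf : IsUnit (algebraMap A A' f)) : ∃ (a : ℕ) (u : Aˣ), f = p ^ a * (u : A) := by
  have hinj : Function.Injective (algebraMap A A') :=
    IsLocalization.injective A' (powers_le_nonZeroDivisors_of_noZeroDivisors hp.ne_zero)
  obtain ⟨v, hv⟩ := hf.exists_right_inv
  obtain ⟨n, g, hg⟩ := IsLocalization.Away.surj p v
  have hfg : f * g = p ^ n := by
    apply hinj
    rw [map_mul, ← hg, ← mul_assoc, hv, one_mul, map_pow]
  have hf0 : f ≠ 0 := by
    rintro rfl
    rw [zero_mul] at hfg
    exact pow_ne_zero n hp.ne_zero hfg.symm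
  obtain ⟨a, u, hu, hfu⟩ := WfDvdMonoid.max_power_factor hf0 hp.irreducible
  have hunit : IsUnit u := by
    rcases le_or_gt a n with han | han
    · apply isUnit_of_mul_eq_pow hp (n - a) u g hu
      have : p ^ a * (u * g) = p ^ a * p ^ (n - a) := by
        rw [← pow_add, Nat.add_sub_cancel' han, ← hfg, hfu]; ring
      exact mul_left_cancel₀ (pow_ne_zero a hp.ne_zero) this
    · exfalso
      apply hp.not_isUnit
      have : p ^ n * (p ^ (a - n) * (u * g)) = p ^ n * 1 := by
        rw [mul_one, ← mul_assoc, ← pow_add, Nat.add_sub_cancel' han.le, ← hfg, hfu]; ring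
      have h2 := mul_left_cancel₀ (pow_ne_zero n hp.ne_zero) this
      have h3 : a - n ≠ 0 := by omega
      obtain ⟨j, hj⟩ := Nat.exists_eq_succ_of_ne_zero h3
      rw [hj, pow_succ', mul_assoc] at h2
      exact IsUnit.of_mul_eq_one _ h2
  exact ⟨a, hunit.unit, by rw [hfu]; rfl⟩

/-- if `Z^m = p^a u` in a domain `S ⊇ A[1/p]` and `p` generates a prime ideal of the integral
closure of `A` in `S`, then `m ∣ a` -/
lemma dvd_exponent {A : Type*} [CommRing A] (S : Type*) [CommRing S] [IsDomain S] [Algebra A S]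
    (p : A) (hpS : IsUnit (algebraMap A S p))
    (hsp : (Ideal.span {algebraMap A (integralClosure A S) p}).IsPrime)
    (m : ℕ) (hm : 0 < m) (Z : S) (a : ℕ) (u : Aˣ)
    (hZ : Z ^ m = algebraMap A S (p ^ a * (u : A))) : m ∣ a := by
  obtain ⟨w, hw⟩ := hpS.exists_right_inv
  set q := a / m with hq
  set r := a % m with hr
  have har : a = m * q + r := (Nat.div_add_mod a m).symm
  have hrm : r < m := Nat.mod_lt a hm
  rw [Nat.dvd_iff_mod_eq_zero]
  by_contra hr0
  change r ≠ 0 at hr0
  set Y : S := Z * w ^ q with hY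
  have hYm : Y ^ m = algebraMap A S (p ^ r * (u : A)) := by
    rw [hY, mul_pow, hZ, har, pow_add, map_mul, map_mul, map_pow, map_pow, map_mul, map_pow,
      ← pow_mul, pow_mul]
    have : (algebraMap A S p) ^ m * w ^ m = 1 := by rw [← mul_pow, hw, one_pow]
    calc ((algebraMap A S p) ^ m) ^ q * (algebraMap A S p) ^ r * algebraMap A S u * w ^ (q * m)
        = ((algebraMap A S p) ^ m * w ^ m) ^ q * ((algebraMap A S p) ^ r * algebraMap A S u) := by
          ring
      _ = (algebraMap A S p) ^ r * algebraMap A S u := by rw [this, one_pow, one_mul]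
  have hYint : IsIntegral A Y := by
    apply IsIntegral.of_pow hm
    rw [hYm]
    exact isIntegral_algebraMap
  let Yb : integralClosure A S := ⟨Y, hYint⟩
  set pB : integralClosure A S := algebraMap A (integralClosure A S) p with hpB
  have hYbm : Yb ^ m = pB ^ r * algebraMap A (integralClosure A S) u := by
    apply Subtype.ext
    rw [hpB, ← map_pow, ← map_mul]
    exact hYm
  have hmem : Yb ^ m ∈ Ideal.span {pB} := by
    rw [hYbm]
    obtain ⟨j, hj⟩ := Nat.exists_eq_succ_of_ne_zero hr0
    rw [hj, pow_succ', mul_assoc]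
    exact Ideal.mul_mem_right _ _ (Ideal.subset_span rfl)
  have hYb : Yb ∈ Ideal.span {pB} := hsp.mem_of_pow_mem m hmem
  obtain ⟨Y₁, hY₁⟩ := Ideal.mem_span_singleton'.mp hYb
  have hpB0 : pB ≠ 0 := by
    intro h0
    have : algebraMap A S p = 0 := by
      have := congrArg (Subtype.val) h0
      exact this
    rw [this, zero_mul] at hw
    exact zero_ne_one hw
  have hcancel : pB ^ (m - r) * Y₁ ^ m = algebraMap A (integralClosure A S) u := by
    have h1 : pB ^ r * (pB ^ (m - r) * Y₁ ^ m) = pB ^ r * algebraMap A (integralClosure A S) u := by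
      rw [← hYbm, ← hY₁, ← mul_assoc, ← pow_add, Nat.add_sub_cancel' hrm.le]
      ring
    exact mul_left_cancel₀ (pow_ne_zero r hpB0) h1
  have hunit : IsUnit pB := by
    have h2 : m - r ≠ 0 := by omega
    obtain ⟨j, hj⟩ := Nat.exists_eq_succ_of_ne_zero h2
    have h3 : pB * (pB ^ j * Y₁ ^ m * algebraMap A (integralClosure A S) ((u⁻¹ : Aˣ) : A)) = 1 := by
      have : pB * (pB ^ j * Y₁ ^ m * algebraMap A (integralClosure A S) ((u⁻¹ : Aˣ) : A)) =
          (pB ^ (m - r) * Y₁ ^ m) * algebraMap A (integralClosure A S) ((u⁻¹ : Aˣ) : A) := by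
        rw [hj, pow_succ']; ring
      rw [this, hcancel, ← map_mul, Units.mul_inv, map_one]
    exact IsUnit.of_mul_eq_one _ h3
  exact hsp.ne_top (Ideal.span_singleton_eq_top.mpr hunit)

end Groth.Agent.Helper3.KummerNorm
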