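import Mathlib
import Groth.Agent.Lib.Helper3.InIn1

/-!
# Lagrange interpolation over the cosets of a subgroup (helper3)

A group `G` acts on a ring `R`, `H` a subgroup of finite index, `E` an `H`-invariant element,
`F = ∏_{σ ∈ G/H} (X - σE)` (`InIn.cosetPoly H E`) and `L_σ = ∏_{τ ≠ σ} (X - τE)`.
* `derivative_cosetPoly`: `F' = ∑_σ L_σ`.
* `interp`: `P_w = ∑_σ σ(w) L_σ` is `G`-invariant and `P_w(E) = w F'(E)` for `H`-invariant `w`.
* `cosetPoly_dvd`: if `c(σE) F'(σE)^m = 0` for all `σ`, then `F ∣ c F'^(m+1)`.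
-/

set_option autoImplicit false
universe u v

namespace Groth.Agent.Helper3.LagEt

open Polynomial Groth.Agent.Helper3.InIn Groth.Agent.Helper3
open scoped Classical

variable {R : Type u} [CommRing R] {G : Type v} [Group G] [MulSemiringAction G R]
  (H : Subgroup G) [Fintype (G ⧸ H)]

/-- the Lagrange basis polynomial `∏_{τ ≠ σ} (X - τE)` -/
noncomputable def lag (E : R) (σ : G ⧸ H) : R[X] :=
  ∏ τ ∈ Finset.univ.erase σ, (X - C ((Quotient.out τ : G) • E))

lemma X_sub_C_mul_lag (E : R) (σ : G ⧸ H) :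
    (X - C ((Quotient.out σ : G) • E)) * lag H E σ = cosetPoly H E :=
  Finset.mul_prod_erase Finset.univ (fun τ : G ⧸ H => X - C ((Quotient.out τ : G) • E))
    (Finset.mem_univ σ)

lemma derivative_cosetPoly (E : R) : derivative (cosetPoly H E) = ∑ σ : G ⧸ H, lag H E σ := by
  unfold cosetPoly
  rw [derivative_prod_finset]
  apply Finset.sum_congr rfl
  intro σ _
  rw [derivative_sub, derivative_X, derivative_C, sub_zero, mul_one]
  rfl

lemma smul_out_smul {E : R} (hE : ∀ h ∈ H, h • E = E) (γ : G) (τ : G ⧸ H) :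
    γ • (Quotient.out τ : G) • E = (Quotient.out (γ • τ) : G) • E := by
  obtain ⟨g, rfl⟩ := QuotientGroup.mk_surjective τ
  have : γ • (QuotientGroup.mk g : G ⧸ H) = QuotientGroup.mk (γ * g) := rfl
  rw [this, InvSep.out_smul_eq H hE, InvSep.out_smul_eq H hE, mul_smul]

lemma smul_lag {E : R} (hE : ∀ h ∈ H, h • E = E) (γ : G) (σ : G ⧸ H) :
    γ • lag H E σ = lag H E (γ • σ) := by
  unfold lag
  rw [Finset.smul_prod']
  simp only [smul_sub, smul_X, smul_C, smul_out_smul H hE]
  refine Finset.prod_equiv (MulAction.toPerm γ : Equiv.Perm (G ⧸ H)) ?_ ?_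
  · intro τ
    simp only [Finset.mem_erase, Finset.mem_univ, and_true, ne_eq, MulAction.toPerm_apply]
    exact (smul_left_cancel_iff γ).not.symm
  · intro τ _
    rfl

lemma eval_lag_of_ne {E : R} (hE : ∀ h ∈ H, h • E = E) (g : G) (σ : G ⧸ H)
    (hσ : σ ≠ QuotientGroup.mk g) : (lag H E σ).eval (g • E) = 0 := by
  unfold lag
  rw [eval_prod]
  apply Finset.prod_eq_zero (i := (QuotientGroup.mk g : G ⧸ H))
  · exact Finset.mem_erase.mpr ⟨hσ.symm, Finset.mem_univ _⟩
  · rw [InvSep.out_smul_eq H hE, eval_sub, eval_X, eval_C, sub_self]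

lemma eval_derivative_cosetPoly {E : R} (hE : ∀ h ∈ H, h • E = E) (g : G) :
    (derivative (cosetPoly H E)).eval (g • E) =
      (lag H E (QuotientGroup.mk g)).eval (g • E) := by
  rw [derivative_cosetPoly, eval_finset_sum]
  apply Finset.sum_eq_single
  · intro σ _ hσ
    exact eval_lag_of_ne H hE g σ hσ
  · intro h; exact absurd (Finset.mem_univ _) h

/-- the interpolation polynomial `∑_σ σ(w) L_σ` -/
noncomputable def interp (E w : R) : R[X] :=
  ∑ σ : G ⧸ H, C ((Quotient.out σ : G) • w) * lag H E σ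

lemma smul_interp {E w : R} (hE : ∀ h ∈ H, h • E = E) (hw : ∀ h ∈ H, h • w = w) (γ : G) :
    γ • interp H E w = interp H E w := by
  unfold interp
  rw [Finset.smul_sum]
  simp only [smul_mul', smul_C, smul_lag H hE, smul_out_smul H hw]
  exact Equiv.sum_comp (MulAction.toPerm γ : Equiv.Perm (G ⧸ H))
    (fun σ => C ((Quotient.out σ : G) • w) * lag H E σ)

lemma smul_coeff_interp {E w : R} (hE : ∀ h ∈ H, h • E = E) (hw : ∀ h ∈ H, h • w = w) (γ : G)
    (n : ℕ) : γ • (interp H E w).coeff n = (interp H E w).coeff n := by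
  rw [← Polynomial.coeff_smul, smul_interp H hE hw]

lemma eval_interp {E w : R} (hE : ∀ h ∈ H, h • E = E) (hw : ∀ h ∈ H, h • w = w) :
    (interp H E w).eval E = w * (derivative (cosetPoly H E)).eval E := by
  have h1 := eval_derivative_cosetPoly H hE (1 : G)
  rw [one_smul] at h1
  rw [h1]
  unfold interp
  rw [eval_finset_sum]
  rw [Finset.sum_eq_single (QuotientGroup.mk (1 : G) : G ⧸ H)]
  · rw [eval_mul, eval_C, InvSep.out_smul_eq H hw, one_smul]
  · intro σ _ hσ
    have := eval_lag_of_ne H hE (1 : G) σ hσ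
    rw [one_smul] at this
    rw [eval_mul, this, mul_zero]
  · intro h; exact absurd (Finset.mem_univ _) h

/-- the key divisibility -/
theorem cosetPoly_dvd {E : R} (c : R[X]) (m : ℕ)
    (h : ∀ σ : G ⧸ H, c.eval ((Quotient.out σ : G) • E) *
      (derivative (cosetPoly H E)).eval ((Quotient.out σ : G) • E) ^ m = 0) :
    cosetPoly H E ∣ c * derivative (cosetPoly H E) ^ (m + 1) := by
  set F := cosetPoly H E with hF
  set p := c * derivative F ^ m with hp
  have key : ∀ σ : G ⧸ H, F ∣ (p - C (p.eval ((Quotient.out σ : G) • E))) * lag H E σ := by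
    intro σ
    rw [hF, ← X_sub_C_mul_lag H E σ]
    exact mul_dvd_mul_right X_sub_C_dvd_sub_C_eval _
  have h0 : ∀ σ : G ⧸ H, p.eval ((Quotient.out σ : G) • E) = 0 := by
    intro σ
    rw [hp, eval_mul, eval_pow]
    exact h σ
  have e : c * derivative F ^ (m + 1) = ∑ σ : G ⧸ H, p * lag H E σ := by
    rw [← Finset.mul_sum, ← derivative_cosetPoly, hp, pow_succ, mul_assoc]
  rw [e]
  apply Finset.dvd_sum
  intro σ _
  have := key σ
  rwa [h0 σ, C_0, sub_zero] at this

end Groth.Agent.Helper3.LagEt
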