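import Mathlib
import Groth.Agent.Lib.Helper3.LagEt1

/-!
# Invariants of a subgroup are standard étale over the full invariants after inverting `F'(E)`
(helper3)

A finite group `G` acts on `R`, `H ≤ G`, `E ∈ R^H`, `F = ∏_{σ ∈ G/H} (X - σE)`, `u = F'(E) ∈ R^H`.
Then `R^H[1/u] ≅ R^G[X]/(F)[1/F']` is (standard) étale over `R^G`.
-/

set_option autoImplicit false
set_option linter.style.haveILetI false
universe u v

namespace Groth.Agent.Helper3.LagEt

open Polynomial Groth.Agent.Helper3.InIn Groth.Agent.Helper3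

section

variable {R : Type u} [CommRing R] {G : Type v} [Group G] [Finite G] [MulSemiringAction G R]
  (H : Subgroup G)

variable [Algebra (FixedPoints.subring R G) (FixedPoints.subring R H)]
  (hcompat : ∀ a : FixedPoints.subring R G,
    ((algebraMap (FixedPoints.subring R G) (FixedPoints.subring R H) a :
      FixedPoints.subring R H) : R) = (a : R))

local notation "𝒜" => FixedPoints.subring R G
local notation "𝒞" => FixedPoints.subring R H

include hcompat in
lemma coe_aeval (E : 𝒞) (p : (𝒜)[X]) :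
    ((aeval E p : 𝒞) : R) = (p.map (𝒜).subtype).eval (E : R) := by
  have h1 : ((aeval E p : 𝒞) : R) = (𝒞).subtype (eval₂ (algebraMap 𝒜 𝒞) E p) := rfl
  rw [h1, hom_eval₂, eval_map]
  congr 1
  ext a
  exact hcompat a

lemma smul_map_subtype (p : (𝒜)[X]) (γ : G) : γ • p.map (𝒜).subtype = p.map (𝒜).subtype := by
  ext n
  rw [coeff_smul, coeff_map]
  exact (p.coeff n).2 γ

lemma exists_lift_of_invariant (P : R[X]) (hP : ∀ (γ : G) (n : ℕ), γ • P.coeff n = P.coeff n) :
    P ∈ lifts (𝒜).subtype := by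
  rw [lifts_iff_coeff_lifts]
  intro n
  exact ⟨⟨P.coeff n, fun γ => hP γ n⟩, rfl⟩

include hcompat in
theorem etale_away [Fintype (G ⧸ H)] (E u : 𝒞)
    (hu : (u : R) = (derivative (cosetPoly H (E : R))).eval (E : R))
    (T : Type u) [CommRing T] [Algebra 𝒞 T] [Algebra 𝒜 T] [IsScalarTower 𝒜 𝒞 T]
    [IsLocalization.Away u T] : Algebra.Etale 𝒜 T := by
  classical
  have hE : ∀ h ∈ H, h • (E : R) = E := fun h hh => E.2 ⟨h, hh⟩
  set F : R[X] := cosetPoly H (E : R) with hF
  have hFmonic : F.Monic := by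
    rw [hF]; unfold cosetPoly
    exact monic_prod_of_monic _ _ fun σ _ => monic_X_sub_C _
  have hFlift : F ∈ lifts (𝒜).subtype :=
    exists_lift_of_invariant F fun γ n => smul_coeff_cosetPoly H hE γ n
  obtain ⟨F₀, hF₀map, -, hF₀monic⟩ := lifts_and_natDegree_eq_and_monic hFlift hFmonic
  have hinjA : Function.Injective (𝒜).subtype := Subtype.val_injective
  -- the map `A[X]/(F₀) → R^H`
  have hroot : eval₂ (Algebra.ofId 𝒜 𝒞) E F₀ = 0 := by
    apply Subtype.ext
    have := coe_aeval H hcompat E F₀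
    rw [hF₀map, hF, eval_cosetPoly H hE] at this
    exact this
  let ψ : AdjoinRoot F₀ →ₐ[𝒜] 𝒞 := AdjoinRoot.liftAlgHom F₀ (Algebra.ofId 𝒜 𝒞) E hroot
  have hψmk : ∀ p : (𝒜)[X], ((ψ (AdjoinRoot.mk F₀ p) : 𝒞) : R) =
      (p.map (𝒜).subtype).eval (E : R) := fun p => coe_aeval H hcompat E p
  set v : AdjoinRoot F₀ := AdjoinRoot.mk F₀ (derivative F₀) with hv
  have hψv : ψ v = u := by
    apply Subtype.ext
    rw [hv, hψmk, hu, ← hF₀map, derivative_map]
  letI algT : Algebra (AdjoinRoot F₀) T := ((algebraMap 𝒞 T).comp ψ.toRingHom).toAlgebra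
  have halgT : ∀ x : AdjoinRoot F₀, algebraMap (AdjoinRoot F₀) T x = algebraMap 𝒞 T (ψ x) :=
    fun _ => rfl
  haveI : IsScalarTower 𝒜 (AdjoinRoot F₀) T := IsScalarTower.of_algebraMap_eq fun a => by
    rw [halgT, AlgHom.commutes, ← IsScalarTower.algebraMap_apply]
  -- invariance of evaluations
  have hev : ∀ (p : (𝒜)[X]) (γ : G),
      γ • (p.map (𝒜).subtype).eval (E : R) = (p.map (𝒜).subtype).eval (γ • (E : R)) := by
    intro p γ
    rw [← smul_eval_smul, smul_map_subtype]
  haveI : IsLocalization.Away v T := by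
    refine IsLocalization.Away.mk v ?_ ?_ ?_
    · rw [halgT, hψv]
      exact IsLocalization.Away.algebraMap_isUnit u
    · intro z
      obtain ⟨n, a, hna⟩ := IsLocalization.Away.surj u z
      have ha : ∀ h ∈ H, h • (a : R) = a := fun h hh => a.2 ⟨h, hh⟩
      have hlift : interp H (E : R) (a : R) ∈ lifts (𝒜).subtype :=
        exists_lift_of_invariant _ fun γ k => smul_coeff_interp H hE ha γ k
      obtain ⟨pw, hpw⟩ := (mem_lifts _).mp hlift
      refine ⟨n + 1, AdjoinRoot.mk F₀ pw, ?_⟩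
      have h1 : ψ (AdjoinRoot.mk F₀ pw) = a * u := by
        apply Subtype.ext
        rw [hψmk, hpw, eval_interp H hE ha, Subring.coe_mul, hu]
      rw [halgT, halgT, hψv, h1, map_mul, ← hna, pow_succ, mul_assoc]
    · intro x y hxy
      obtain ⟨c, hc⟩ := AdjoinRoot.mk_surjective (x - y)
      have h0 : algebraMap 𝒞 T (ψ (AdjoinRoot.mk F₀ c)) = 0 := by
        rw [hc, map_sub, map_sub, sub_eq_zero]
        exact hxy
      obtain ⟨⟨_, m, rfl⟩, hm⟩ := (IsLocalization.map_eq_zero_iff (Submonoid.powers u) T _).mp h0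
      have hmR : (u : R) ^ m * (c.map (𝒜).subtype).eval (E : R) = 0 := by
        have := congrArg (fun z : 𝒞 => (z : R)) hm
        simpa [hψmk] using this
      have hF' : derivative F = (derivative F₀).map (𝒜).subtype := by
        rw [← hF₀map, derivative_map]
      have hdvd : F ∣ c.map (𝒜).subtype * derivative F ^ (m + 1) := by
        apply cosetPoly_dvd H
        intro σ
        rw [hF', ← hev, ← hev, ← smul_pow', ← smul_mul', ← hF', ← hu, mul_comm, hmR, smul_zero]
      rw [hF', ← Polynomial.map_pow, ← Polynomial.map_mul, ← hF₀map,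
        map_dvd_map _ hinjA hF₀monic] at hdvd
      refine ⟨m + 1, ?_⟩
      rw [← sub_eq_zero, ← mul_sub, ← hc, hv, ← map_pow, ← map_mul, mul_comm]
      exact AdjoinRoot.mk_eq_zero.mpr hdvd
  -- conclude
  let P : StandardEtalePair 𝒜 :=
    { f := F₀, monic_f := hF₀monic, g := derivative F₀, cond := ⟨1, 0, 1, by ring⟩ }
  let e1 : P.Ring ≃ₐ[𝒜] Localization.Away v := P.equivAwayAdjoinRoot
  let e2 : Localization.Away v ≃ₐ[𝒜] T :=
    (IsLocalization.algEquiv (Submonoid.powers v) (Localization.Away v) T).restrictScalars 𝒜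
  exact Algebra.Etale.of_equiv (e1.trans e2)

end

end Groth.Agent.Helper3.LagEt
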