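import Mathlib
import Groth.Agent.Lib.Helper3.LagEt1

/-!
# Elements adapted to a prime under a finite group action (helper3)

`G` finite acting on `R`, `q` a prime, `D` its stabilizer, `I` its inertia group.
* `exists_E1`: a `D`-invariant `E₁ ∉ q` with `γ E₁ ∈ q` for `γ ∉ D`.
* `mem_inertia_of_trivial_on_invariants'`: `δ` acting trivially mod `q` on `R^I` lies in `I`
  (`q` prime).
-/

set_option autoImplicit false
universe u v

namespace Groth.Agent.Helper3.LagEt

open Polynomial
open scoped Pointwise Classical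

variable {R : Type u} [CommRing R] {G : Type v} [Group G] [Finite G] [MulSemiringAction G R]
  (q : Ideal R) [q.IsPrime]

omit [q.IsPrime] in
theorem smul_eq_of_smul_le (g : G) (h : g • q ≤ q) : g • q = q := by
  apply le_antisymm h
  have hpow : ∀ k : ℕ, g ^ k • q ≤ q := by
    intro k
    induction k with
    | zero => rw [pow_zero, one_smul]
    | succ k ih =>
      rw [pow_succ', mul_smul]
      exact (Ideal.pointwise_smul_le_pointwise_smul_iff.mpr ih).trans h
  have hfin : IsOfFinOrder g := isOfFinOrder_of_finite g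
  have hpos : 0 < orderOf g := hfin.orderOf_pos
  have h1 : g ^ (orderOf g - 1) • q ≤ q := hpow _
  have h2 : g * g ^ (orderOf g - 1) = 1 := by
    rw [← pow_succ', Nat.sub_add_cancel hpos, pow_orderOf_eq_one]
  have h3 : g • (g ^ (orderOf g - 1) • q) ≤ g • q :=
    Ideal.pointwise_smul_le_pointwise_smul_iff.mpr h1
  rwa [← mul_smul, h2, one_smul] at h3

theorem exists_E1 : ∃ E₁ : R, (∀ δ ∈ MulAction.stabilizer G q, δ • E₁ = E₁) ∧ E₁ ∉ q ∧
    (∀ γ ∉ MulAction.stabilizer G q, γ • E₁ ∈ q) := by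
  haveI : Fintype G := Fintype.ofFinite G
  let D := MulAction.stabilizer G q
  let 𝔟 : Ideal R := (Finset.univ.filter (fun γ : G => γ ∉ D)).inf (fun γ => γ⁻¹ • q)
  have hnle : ¬ 𝔟 ≤ q := by
    intro hle
    obtain ⟨γ, hγ, hγle⟩ := (Ideal.IsPrime.inf_le' (inferInstance : q.IsPrime)).mp hle
    simp only [Finset.mem_filter, Finset.mem_univ, true_and] at hγ
    apply hγ
    have h1 := smul_eq_of_smul_le q γ⁻¹ hγle
    have h2 := congrArg (fun J => γ • J) h1
    simp only [smul_inv_smul] at h2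
    exact MulAction.mem_stabilizer_iff.mpr h2.symm
  obtain ⟨e₀, he₀, he₀q⟩ := Set.not_subset.mp hnle
  refine ⟨∏ δ : D, (δ : G) • e₀, ?_, ?_, ?_⟩
  · intro δ' hδ'
    rw [Finset.smul_prod']
    simp only [← mul_smul]
    exact Equiv.prod_comp (Equiv.mulLeft (⟨δ', hδ'⟩ : D)) (fun δ : D => (δ : G) • e₀)
  · intro hmem
    obtain ⟨δ, -, hδ⟩ := (Ideal.IsPrime.prod_mem_iff).mp hmem
    apply he₀q
    have h1 : (δ : G)⁻¹ • ((δ : G) • e₀) ∈ (δ : G)⁻¹ • q :=
      Ideal.smul_mem_pointwise_smul _ _ q hδ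
    rw [inv_smul_smul] at h1
    have h2 : (δ : G)⁻¹ • q = q := MulAction.mem_stabilizer_iff.mp (D.inv_mem δ.2)
    rwa [h2] at h1
  · intro γ hγ
    rw [Finset.smul_prod']
    have hdvd : γ • ((1 : D) : G) • e₀ ∣ ∏ δ : D, γ • (δ : G) • e₀ :=
      Finset.dvd_prod_of_mem (fun δ : D => γ • (δ : G) • e₀) (Finset.mem_univ 1)
    apply Ideal.mem_of_dvd _ hdvd
    rw [Subgroup.coe_one, one_smul, ← Ideal.mem_inv_pointwise_smul_iff]
    have : 𝔟 ≤ γ⁻¹ • q := Finset.inf_le (f := fun γ : G => γ⁻¹ • q)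
      (Finset.mem_filter.mpr ⟨Finset.mem_univ γ, hγ⟩)
    exact this he₀

/-- an element acting trivially mod `q` on the inertia invariants lies in the inertia group -/
theorem mem_inertia_of_trivial_on_invariants' (δ : G)
    (h : ∀ z : R, (∀ t ∈ q.inertia G, t • z = z) →
      Ideal.Quotient.mk q (δ • z) = Ideal.Quotient.mk q z) :
    δ ∈ q.inertia G := by
  haveI : Fintype G := Fintype.ofFinite G
  intro b
  let T := q.inertia G
  let φ : R →+* R ⧸ q := (Ideal.Quotient.mk q).comp (MulSemiringAction.toRingHom G R δ)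
  have hφ : ∀ z, φ z = Ideal.Quotient.mk q (δ • z) := fun z => rfl
  let hpoly := MulSemiringAction.charpoly T b
  have hmap : hpoly.map φ = hpoly.map (Ideal.Quotient.mk q) := by
    ext n
    rw [coeff_map, coeff_map, hφ]
    apply h
    intro t ht
    exact MulSemiringAction.smul_coeff_charpoly b n (⟨t, ht⟩ : T)
  have h0 : eval (φ b) (hpoly.map φ) = 0 := by
    rw [eval_map, eval₂_at_apply, MulSemiringAction.eval_charpoly, map_zero]
  rw [hmap] at h0
  simp only [hpoly] at h0
  rw [MulSemiringAction.charpoly_eq, Polynomial.map_prod, eval_prod] at h0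
  simp only [Polynomial.map_sub, map_X, map_C, eval_sub, eval_X, eval_C] at h0
  obtain ⟨t, _, ht⟩ := Finset.prod_eq_zero_iff.mp h0
  have ht' : Ideal.Quotient.mk q ((t : G) • b) = Ideal.Quotient.mk q b := by
    rw [Ideal.Quotient.eq]; exact t.2 b
  change φ b - Ideal.Quotient.mk q ((t : G) • b) = 0 at ht
  rw [ht', sub_eq_zero, hφ, Ideal.Quotient.eq] at ht
  exact ht

end Groth.Agent.Helper3.LagEt
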