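import Mathlib
import Groth.Agent.Lib.Helper3.LagEt3

/-!
# A separating inertia-invariant element (helper3)

`exists_theta`: `G` finite acting on `R`, `q` prime with stabilizer `D` and inertia group `I`:
there is `θ ∈ R^I`, `θ ∉ q`, with `σ θ - θ ∉ q` for all `σ ∈ D \ I`.
-/

set_option autoImplicit false
universe u v

namespace Groth.Agent.Helper3.LagEt

open Polynomial
open scoped Pointwise Classical

variable {R : Type u} [CommRing R] {G : Type v} [Group G] [Finite G] [MulSemiringAction G R]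
  (q : Ideal R) [q.IsPrime]

omit [Finite G] [q.IsPrime] in
lemma smul_mem_of_mem_stabilizer {σ : G} (hσ : σ ∈ MulAction.stabilizer G q) {x : R}
    (hx : x ∈ q) : σ • x ∈ q := by
  have := Ideal.smul_mem_pointwise_smul σ x q hx
  rwa [MulAction.mem_stabilizer_iff.mp hσ] at this

omit [Finite G] [q.IsPrime] in
lemma mk_smul_congr {σ : G} (hσ : σ ∈ MulAction.stabilizer G q) {x y : R}
    (hxy : Ideal.Quotient.mk q x = Ideal.Quotient.mk q y) :
    Ideal.Quotient.mk q (σ • x) = Ideal.Quotient.mk q (σ • y) := by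
  rw [Ideal.Quotient.eq] at hxy ⊢
  rw [← smul_sub]
  exact smul_mem_of_mem_stabilizer q hσ hxy

omit [Finite G] [q.IsPrime] in
lemma inertia_le_stab : q.inertia G ≤ MulAction.stabilizer G q := Ideal.inertia_le_stabilizer q

/-- for `σ ∈ D \ I` some inertia invariant is moved mod `q` -/
lemma exists_moved {σ : G} (hσ : σ ∉ q.inertia G) :
    ∃ c : R, (∀ ι ∈ q.inertia G, ι • c = c) ∧
      Ideal.Quotient.mk q (σ • c) ≠ Ideal.Quotient.mk q c := by
  by_contra hcon
  push Not at hcon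
  exact hσ (mem_inertia_of_trivial_on_invariants' q σ hcon)

/-- the set of residues of inertia invariants is finite if the set of residues of decomposition
invariants is -/
lemma finite_image_inertia_invariants
    (hT : (Ideal.Quotient.mk q '' {a : R | ∀ δ ∈ MulAction.stabilizer G q, δ • a = a}).Finite) :
    (Ideal.Quotient.mk q '' {z : R | ∀ ι ∈ q.inertia G, ι • z = z}).Finite := by
  haveI : Fintype G := Fintype.ofFinite G
  let D := MulAction.stabilizer G q
  have hfin := bUnion_roots_finite (RingHom.id (R ⧸ q)) (Fintype.card D) hT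
  refine hfin.subset ?_
  rintro _ ⟨z, -, rfl⟩
  let χ : R[X] := ∏ δ : D, (X - C ((δ : G) • z))
  have hχinv : ∀ δ' ∈ D, δ' • χ = χ := by
    intro δ' hδ'
    simp only [χ]
    rw [Finset.smul_prod']
    simp only [smul_sub, smul_X, smul_C, ← mul_smul]
    exact Equiv.prod_comp (Equiv.mulLeft (⟨δ', hδ'⟩ : D)) (fun δ : D => X - C ((δ : G) • z))
  have hχmonic : χ.Monic := monic_prod_of_monic _ _ fun δ _ => monic_X_sub_C _
  have hχdeg : χ.natDegree ≤ Fintype.card D := by
    simp only [χ]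
    refine (natDegree_prod_le _ _).trans ?_
    refine (Finset.sum_le_card_nsmul _ _ 1 (fun δ _ => natDegree_X_sub_C_le _)).trans ?_
    simp
  simp only [Set.mem_iUnion, Finset.mem_coe, Multiset.mem_toFinset]
  refine ⟨χ.map (Ideal.Quotient.mk q), ⟨?_, ?_⟩, ?_⟩
  · exact (natDegree_map_le).trans hχdeg
  · intro i
    rw [coeff_map]
    refine ⟨χ.coeff i, ?_, rfl⟩
    intro δ hδ
    rw [← coeff_smul, hχinv δ hδ]
  · rw [Polynomial.map_id, mem_roots (hχmonic.map _).ne_zero, IsRoot, eval_map, eval₂_hom]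
    have : χ.eval z = 0 := by
      simp only [χ]
      rw [eval_prod]
      apply Finset.prod_eq_zero (Finset.mem_univ (1 : D))
      rw [Subgroup.coe_one, one_smul, eval_sub, eval_X, eval_C, sub_self]
    rw [this, map_zero]

/-- finite case: a generator of the multiplicative group of the residues of invariants -/
lemma exists_theta_of_finite
    (hS : (Ideal.Quotient.mk q '' {z : R | ∀ ι ∈ q.inertia G, ι • z = z}).Finite) :
    ∃ θ : R, (∀ ι ∈ q.inertia G, ι • θ = θ) ∧
      ∀ σ ∈ MulAction.stabilizer G q, σ ∉ q.inertia G → σ • θ - θ ∉ q := by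
  let I := q.inertia G
  let S : Subring R := FixedPoints.subring R I
  have hSmem : ∀ z : R, z ∈ S ↔ ∀ ι ∈ I, ι • z = z := by
    intro z
    constructor
    · intro h ι hι; exact h ⟨ι, hι⟩
    · intro h ι; exact h ι.1 ι.2
  let S' : Subring (R ⧸ q) := S.map (Ideal.Quotient.mk q)
  have hS'set : (S' : Set (R ⧸ q)) =
      Ideal.Quotient.mk q '' {z : R | ∀ ι ∈ q.inertia G, ι • z = z} := by
    ext x
    constructor
    · rintro ⟨z, hz, rfl⟩; exact ⟨z, (hSmem z).mp hz, rfl⟩
    · rintro ⟨z, hz, rfl⟩; exact ⟨z, (hSmem z).mpr hz, rfl⟩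
  haveI : Finite S' := by
    have : (S' : Set (R ⧸ q)).Finite := hS'set ▸ hS
    exact this.to_subtype
  obtain ⟨g, hg⟩ := IsCyclic.exists_generator (α := (S')ˣ)
  obtain ⟨z, hzS, hzg⟩ : ∃ z ∈ S, Ideal.Quotient.mk q z = ((g : S') : R ⧸ q) := (g : S').2
  refine ⟨z, (hSmem z).mp hzS, ?_⟩
  intro σ hσD hσI hcon
  obtain ⟨c, hcI, hcne⟩ := exists_moved q hσI
  apply hcne
  have hσz : Ideal.Quotient.mk q (σ • z) = Ideal.Quotient.mk q z := Ideal.Quotient.eq.mpr hcon
  by_cases hc0 : Ideal.Quotient.mk q c = 0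
  · have h1 := mk_smul_congr q hσD (hc0.trans (map_zero (Ideal.Quotient.mk q)).symm)
    rw [h1, smul_zero, map_zero, hc0]
  · -- `mk c` is a unit of `S'`, hence a power of the generator
    let c' : S' := ⟨Ideal.Quotient.mk q c, c, (hSmem c).mpr hcI, rfl⟩
    have hc'0 : c' ≠ 0 := fun h => hc0 (congrArg Subtype.val h)
    obtain ⟨d', hd'⟩ := (mul_right_bijective_of_finite₀ hc'0).2 1
    have hunit : IsUnit c' := .of_mul_eq_one d' hd'
    obtain ⟨n, hn⟩ : ∃ n : ℕ, g ^ n = hunit.unit :=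
      (mem_powers_iff_mem_zpowers).mpr (hg hunit.unit)
    have h2 : Ideal.Quotient.mk q c = Ideal.Quotient.mk q (z ^ n) := by
      have := congrArg (fun x : (S')ˣ => ((x : S') : R ⧸ q)) hn
      simp only [Units.val_pow_eq_pow_val, Subring.coe_pow, IsUnit.unit_spec] at this
      rw [map_pow, hzg, this]
    have h3 := mk_smul_congr q hσD h2
    rw [h3, smul_pow', map_pow, hσz, ← map_pow, ← h2]

/-- infinite case: a generic combination -/
lemma exists_theta_of_infinite
    (hT : ¬ (Ideal.Quotient.mk q ''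
      {a : R | ∀ δ ∈ MulAction.stabilizer G q, δ • a = a}).Finite) :
    ∃ θ : R, (∀ ι ∈ q.inertia G, ι • θ = θ) ∧
      ∀ σ ∈ MulAction.stabilizer G q, σ ∉ q.inertia G → σ • θ - θ ∉ q := by
  haveI : Fintype G := Fintype.ofFinite G
  let D := MulAction.stabilizer G q
  let I := q.inertia G
  let Bad : Finset G := Finset.univ.filter (fun σ => σ ∈ D ∧ σ ∉ I)
  have hBad : ∀ σ, σ ∈ Bad ↔ σ ∈ D ∧ σ ∉ I := by
    intro σ; simp [Bad]
  have hex : ∀ σ : G, ∃ c : R, (∀ ι ∈ I, ι • c = c) ∧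
      (σ ∉ I → Ideal.Quotient.mk q (σ • c) ≠ Ideal.Quotient.mk q c) := by
    intro σ
    by_cases hσ : σ ∈ I
    · exact ⟨0, fun ι _ => smul_zero ι, fun h => absurd hσ h⟩
    · obtain ⟨c, hc1, hc2⟩ := exists_moved q hσ
      exact ⟨c, hc1, fun _ => hc2⟩
  choose c hcI hcne using hex
  let j : G → ℕ := fun σ => (Fintype.equivFin G σ : ℕ)
  have hj : Function.Injective j := fun a b hab =>
    (Fintype.equivFin G).injective (Fin.ext hab)
  let π := Ideal.Quotient.mk q
  let p : G → (R ⧸ q)[X] := fun τ => ∑ σ ∈ Bad, C (π (τ • c σ) - π (c σ)) * X ^ j σ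
  have hpne : ∀ τ ∈ Bad, p τ ≠ 0 := by
    intro τ hτ h0
    have h1 : (p τ).coeff (j τ) = π (τ • c τ) - π (c τ) := by
      simp only [p]
      rw [finset_sum_coeff]
      rw [Finset.sum_eq_single τ]
      · rw [coeff_C_mul, coeff_X_pow, if_pos rfl, mul_one]
      · intro σ _ hστ
        rw [coeff_C_mul, coeff_X_pow, if_neg (fun h => hστ (hj h).symm), mul_zero]
      · intro h; exact absurd hτ h
    rw [h0, coeff_zero] at h1
    exact hcne τ ((hBad τ).mp hτ).2 (sub_eq_zero.mp h1.symm)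
  let P : (R ⧸ q)[X] := ∏ τ ∈ Bad, p τ
  have hPne : P ≠ 0 := Finset.prod_ne_zero_iff.mpr hpne
  have hroots : {x : R ⧸ q | P.IsRoot x}.Finite := by
    have := P.roots.toFinset.finite_toSet
    refine this.subset ?_
    intro x hx
    simpa [hPne] using hx
  obtain ⟨t, ht, htroot⟩ := Set.not_subset.mp (fun hsub => hT (hroots.subset hsub))
  obtain ⟨a, ha, rfl⟩ := ht
  refine ⟨∑ σ ∈ Bad, c σ * a ^ j σ, ?_, ?_⟩
  · intro ι hι
    rw [Finset.smul_sum]
    refine Finset.sum_congr rfl fun σ _ => ?_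
    rw [smul_mul', smul_pow', hcI σ ι hι, ha ι (inertia_le_stab q hι)]
  · intro τ hτD hτI hmem
    apply htroot
    have hτBad : τ ∈ Bad := (hBad τ).mpr ⟨hτD, hτI⟩
    have h1 : (p τ).eval (π a) = 0 := by
      simp only [p]
      rw [eval_finset_sum]
      have h2 : π (τ • (∑ σ ∈ Bad, c σ * a ^ j σ) - ∑ σ ∈ Bad, c σ * a ^ j σ) = 0 :=
        Ideal.Quotient.eq_zero_iff_mem.mpr hmem
      rw [Finset.smul_sum, ← Finset.sum_sub_distrib, map_sum] at h2
      rw [← h2]
      refine Finset.sum_congr rfl fun σ _ => ?_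
      rw [eval_mul, eval_C, eval_pow, eval_X, smul_mul', smul_pow', ha τ hτD, map_sub, map_mul,
        map_mul, map_pow, sub_mul]
    show P.eval (π a) = 0
    simp only [P]
    rw [eval_prod]
    exact Finset.prod_eq_zero hτBad h1

theorem exists_theta : ∃ θ : R, (∀ ι ∈ q.inertia G, ι • θ = θ) ∧ θ ∉ q ∧
    ∀ σ ∈ MulAction.stabilizer G q, σ ∉ q.inertia G → σ • θ - θ ∉ q := by
  by_cases hex : ∃ σ ∈ MulAction.stabilizer G q, σ ∉ q.inertia G
  · have key : ∃ θ : R, (∀ ι ∈ q.inertia G, ι • θ = θ) ∧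
        ∀ σ ∈ MulAction.stabilizer G q, σ ∉ q.inertia G → σ • θ - θ ∉ q := by
      by_cases hT : (Ideal.Quotient.mk q ''
          {a : R | ∀ δ ∈ MulAction.stabilizer G q, δ • a = a}).Finite
      · exact exists_theta_of_finite q (finite_image_inertia_invariants q hT)
      · exact exists_theta_of_infinite q hT
    obtain ⟨θ, h1, h2⟩ := key
    refine ⟨θ, h1, ?_, h2⟩
    intro hθ
    obtain ⟨σ, hσD, hσI⟩ := hex
    exact h2 σ hσD hσI (Ideal.sub_mem _ (smul_mem_of_mem_stabilizer q hσD hθ) hθ)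
  · push Not at hex
    refine ⟨1, fun ι _ => smul_one ι, ?_, fun σ hσD hσI => absurd (hex σ hσD) hσI⟩
    exact fun h => (inferInstance : q.IsPrime).ne_top ((Ideal.eq_top_iff_one q).mpr h)

end Groth.Agent.Helper3.LagEt
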