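import Mathlib
import Groth.Agent.Lib.Helper3.LagEt2
import Groth.Agent.Lib.Helper3.LagEt4

/-!
# The inertia invariants are étale over the full invariants near the prime (helper3)

* `exists_E`: an inertia-invariant `E` with `F'(E) ∉ q`, `F = ∏_{σ ∈ G/I} (X - σE)`.
* `smul_eval_derivative_cosetPoly`: `F'(E)` is `H`-invariant.
-/

set_option autoImplicit false
universe u v

namespace Groth.Agent.Helper3.LagEt

open Polynomial Groth.Agent.Helper3.InIn Groth.Agent.Helper3
open scoped Pointwise Classical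

section

variable {R : Type u} [CommRing R] {G : Type v} [Group G] [MulSemiringAction G R]
  (H : Subgroup G) [Fintype (G ⧸ H)]

lemma smul_derivative_cosetPoly {E : R} (hE : ∀ h ∈ H, h • E = E) (γ : G) :
    γ • derivative (cosetPoly H E) = derivative (cosetPoly H E) := by
  rw [derivative_cosetPoly, Finset.smul_sum]
  simp only [smul_lag H hE]
  exact Equiv.sum_comp (MulAction.toPerm γ : Equiv.Perm (G ⧸ H)) (fun σ => lag H E σ)

lemma smul_eval_derivative_cosetPoly {E : R} (hE : ∀ h ∈ H, h • E = E) {γ : G} (hγ : γ ∈ H) :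
    γ • (derivative (cosetPoly H E)).eval E = (derivative (cosetPoly H E)).eval E := by
  rw [← smul_eval_smul, smul_derivative_cosetPoly H hE, hE γ hγ]

end

section

variable {R : Type u} [CommRing R] {G : Type v} [Group G] [Finite G] [MulSemiringAction G R]
  (q : Ideal R) [q.IsPrime]

theorem exists_E [Fintype (G ⧸ q.inertia G)] :
    ∃ E : R, (∀ ι ∈ q.inertia G, ι • E = E) ∧
      (derivative (cosetPoly (q.inertia G) E)).eval E ∉ q := by
  obtain ⟨E₁, hE₁D, hE₁q, hE₁γ⟩ := exists_E1 (G := G) q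
  obtain ⟨θ, hθI, hθq, hθσ⟩ := exists_theta (G := G) q
  let I := q.inertia G
  have hE : ∀ ι ∈ I, ι • (E₁ * θ) = E₁ * θ := by
    intro ι hι
    rw [smul_mul', hE₁D ι (inertia_le_stab q hι), hθI ι hι]
  refine ⟨E₁ * θ, hE, ?_⟩
  have h1 := eval_derivative_cosetPoly I hE (1 : G)
  rw [one_smul] at h1
  rw [h1]
  unfold lag
  rw [eval_prod]
  intro hmem
  obtain ⟨τ, hτ, hτmem⟩ := (Ideal.IsPrime.prod_mem_iff).mp hmem
  rw [eval_sub, eval_X, eval_C] at hτmem
  have hτne : τ ≠ QuotientGroup.mk 1 := (Finset.mem_erase.mp hτ).1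
  have hout : (Quotient.out τ : G) ∉ I := by
    intro h
    apply hτne
    rw [← QuotientGroup.out_eq' τ]
    exact QuotientGroup.eq.mpr (by simpa using I.inv_mem h)
  by_cases hD : (Quotient.out τ : G) ∈ MulAction.stabilizer G q
  · have e : E₁ * θ - (Quotient.out τ : G) • (E₁ * θ) =
        -(E₁ * ((Quotient.out τ : G) • θ - θ)) := by
      rw [smul_mul', hE₁D _ hD]; ring
    rw [e, Ideal.neg_mem_iff] at hτmem
    rcases (inferInstance : q.IsPrime).mem_or_mem hτmem with h | h
    · exact hE₁q h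
    · exact hθσ _ hD hout h
  · have h2 : (Quotient.out τ : G) • (E₁ * θ) ∈ q := by
      rw [smul_mul']
      exact Ideal.mul_mem_right _ _ (hE₁γ _ hD)
    have h3 : E₁ * θ ∈ q := by
      have := Ideal.add_mem _ hτmem h2
      rwa [sub_add_cancel] at this
    rcases (inferInstance : q.IsPrime).mem_or_mem h3 with h | h
    · exact hE₁q h
    · exact hθq h

end

end Groth.Agent.Helper3.LagEt
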