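import Mathlib
import Groth.Agent.Lib.Helper3.LagEt5

/-!
# Elements adapted to a prime and a subgroup containing the decomposition group (helper3)

`G` finite acting on `R`, `q` a prime, `H ⊇ D = Stab(q)`.
* `exists_EH`: an `H`-invariant `E ∉ q` with `γ E ∈ q` for `γ ∉ H`.
* `eval_derivative_not_mem`: `F'(E) ∉ q` for `F = ∏_{σ ∈ G/H} (X - σE)`.
* `tau_mul_sub_mem`: `tr(wE) ≡ wE mod q` for `H`-invariant `w` (coset trace).
* `exists_invariant_fraction`: residue field comparison.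
-/

set_option autoImplicit false
universe u v

namespace Groth.Agent.Helper3.LagEt

open Polynomial Groth.Agent.Helper3.InIn Groth.Agent.Helper3
open scoped Pointwise Classical

variable {R : Type u} [CommRing R] {G : Type v} [Group G] [Finite G] [MulSemiringAction G R]
  (q : Ideal R) [q.IsPrime] (H : Subgroup G)

theorem exists_EH (hD : MulAction.stabilizer G q ≤ H) :
    ∃ E : R, (∀ h ∈ H, h • E = E) ∧ E ∉ q ∧ (∀ γ ∉ H, γ • E ∈ q) := by
  haveI : Fintype G := Fintype.ofFinite G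
  let 𝔟 : Ideal R := (Finset.univ.filter (fun γ : G => γ ∉ H)).inf (fun γ => γ⁻¹ • q)
  let s : Finset G := Finset.univ.filter (fun h : G => h ∈ H)
  have hnsub : ¬ ((𝔟 : Set R) ⊆ ⋃ h ∈ (↑s : Set G), ((h⁻¹ • q : Ideal R) : Set R)) := by
    intro hsub
    rw [Ideal.subset_union_prime (f := fun h : G => h⁻¹ • q) 1 1
      (fun i _ _ _ => inferInstance)] at hsub
    obtain ⟨h, hh, hle⟩ := hsub
    simp only [s, Finset.mem_filter, Finset.mem_univ, true_and] at hh
    obtain ⟨γ, hγ, hγle⟩ := (Ideal.IsPrime.inf_le' (inferInstance : (h⁻¹ • q).IsPrime)).mp hle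
    simp only [Finset.mem_filter, Finset.mem_univ, true_and] at hγ
    apply hγ
    have h1 : (h * γ⁻¹) • q ≤ q := by
      rw [mul_smul]
      have := (Ideal.pointwise_smul_le_pointwise_smul_iff (a := h)).mpr hγle
      rwa [smul_inv_smul] at this
    have h2 := smul_eq_of_smul_le q _ h1
    have h3 : h * γ⁻¹ ∈ H := hD (MulAction.mem_stabilizer_iff.mpr h2)
    have h4 : γ⁻¹ ∈ H := by
      have := H.mul_mem (H.inv_mem hh) h3
      rwa [inv_mul_cancel_left] at this
    exact inv_inv γ ▸ H.inv_mem h4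
  obtain ⟨e₀, he₀, he₀q⟩ := Set.not_subset.mp hnsub
  have hno : ∀ h ∈ H, h • e₀ ∉ q := by
    intro h hh hmem
    apply he₀q
    simp only [Set.mem_iUnion]
    refine ⟨h, ?_, ?_⟩
    · simp only [s, Finset.coe_filter, Finset.mem_univ, true_and, Set.mem_setOf_eq]; exact hh
    · rw [SetLike.mem_coe, Ideal.mem_inv_pointwise_smul_iff]; exact hmem
  refine ⟨∏ δ : H, (δ : G) • e₀, ?_, ?_, ?_⟩
  · intro δ' hδ'
    rw [Finset.smul_prod']
    simp only [← mul_smul]
    exact Equiv.prod_comp (Equiv.mulLeft (⟨δ', hδ'⟩ : H)) (fun δ : H => (δ : G) • e₀)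
  · intro hmem
    obtain ⟨δ, -, hδ⟩ := (Ideal.IsPrime.prod_mem_iff).mp hmem
    exact hno δ δ.2 hδ
  · intro γ hγ
    rw [Finset.smul_prod']
    have hdvd : γ • ((1 : H) : G) • e₀ ∣ ∏ δ : H, γ • (δ : G) • e₀ :=
      Finset.dvd_prod_of_mem (fun δ : H => γ • (δ : G) • e₀) (Finset.mem_univ 1)
    apply Ideal.mem_of_dvd _ hdvd
    rw [Subgroup.coe_one, one_smul, ← Ideal.mem_inv_pointwise_smul_iff]
    have : 𝔟 ≤ γ⁻¹ • q := Finset.inf_le (f := fun γ : G => γ⁻¹ • q)
      (Finset.mem_filter.mpr ⟨Finset.mem_univ γ, hγ⟩)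
    exact this he₀

omit [Finite G] in
theorem eval_derivative_not_mem [Fintype (G ⧸ H)] {E : R} (hE : ∀ h ∈ H, h • E = E)
    (hEq : E ∉ q) (hγ : ∀ γ ∉ H, γ • E ∈ q) :
    (derivative (cosetPoly H E)).eval E ∉ q := by
  have h1 := eval_derivative_cosetPoly H hE (1 : G)
  rw [one_smul] at h1
  rw [h1]
  unfold lag
  rw [eval_prod]
  intro hmem
  obtain ⟨τ, hτ, hτmem⟩ := (Ideal.IsPrime.prod_mem_iff).mp hmem
  rw [eval_sub, eval_X, eval_C] at hτmem
  have hτne : τ ≠ QuotientGroup.mk 1 := (Finset.mem_erase.mp hτ).1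
  have hout : (Quotient.out τ : G) ∉ H := by
    intro hin
    apply hτne
    rw [← QuotientGroup.out_eq' τ, QuotientGroup.eq, mul_one]
    exact H.inv_mem hin
  apply hEq
  have := q.add_mem hτmem (hγ _ hout)
  rwa [sub_add_cancel] at this

omit [Finite G] [q.IsPrime] in
theorem tau_sub_mem [Fintype (G ⧸ H)] {E w : R} (hE : ∀ h ∈ H, h • E = E)
    (hw : ∀ h ∈ H, h • w = w) (hγ : ∀ γ ∉ H, γ • E ∈ q) :
    InvSep.tau H (w * E) - w * E ∈ q := by
  have hz : ∀ h ∈ H, h • (w * E) = w * E := fun h hh => by rw [smul_mul', hE h hh, hw h hh]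
  unfold InvSep.tau
  rw [← Finset.add_sum_erase Finset.univ _ (Finset.mem_univ (QuotientGroup.mk 1 : G ⧸ H)),
    InvSep.out_smul_eq H hz 1, one_smul, add_sub_cancel_left]
  apply Ideal.sum_mem
  intro τ hτ
  have hτne : τ ≠ QuotientGroup.mk 1 := (Finset.mem_erase.mp hτ).1
  have hout : (Quotient.out τ : G) ∉ H := by
    intro hin
    apply hτne
    rw [← QuotientGroup.out_eq' τ, QuotientGroup.eq, mul_one]
    exact H.inv_mem hin
  rw [smul_mul']
  exact Ideal.mul_mem_left _ _ (hγ _ hout)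

omit [Finite G] in
/-- residue field comparison: any fraction `c/s` of `H`-invariants is congruent to a fraction
`a/b` of `G`-invariants -/
theorem exists_invariant_fraction [Fintype (G ⧸ H)] {E : R} (hE : ∀ h ∈ H, h • E = E)
    (hEq : E ∉ q) (hγ : ∀ γ ∉ H, γ • E ∈ q) (c s : R) (hc : ∀ h ∈ H, h • c = c)
    (hs : ∀ h ∈ H, h • s = s) (hsq : s ∉ q) :
    ∃ a b : R, (∀ g : G, g • a = a) ∧ (∀ g : G, g • b = b) ∧ b ∉ q ∧ c * b - a * s ∈ q := by
  have hzc : ∀ h ∈ H, h • (c * E) = c * E := fun h hh => by rw [smul_mul', hE h hh, hc h hh]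
  have hzs : ∀ h ∈ H, h • (s * E) = s * E := fun h hh => by rw [smul_mul', hE h hh, hs h hh]
  have h1 := tau_sub_mem q H hE hc hγ
  have h2 := tau_sub_mem q H hE hs hγ
  refine ⟨InvSep.tau H (c * E), InvSep.tau H (s * E), fun g => InvSep.smul_tau H hzc g,
    fun g => InvSep.smul_tau H hzs g, ?_, ?_⟩
  · intro hmem
    have : s * E ∈ q := by
      have := q.sub_mem hmem h2
      rwa [sub_sub_cancel] at this
    rcases (Ideal.IsPrime.mem_or_mem inferInstance this) with h | h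
    · exact hsq h
    · exact hEq h
  · have e : c * InvSep.tau H (s * E) - InvSep.tau H (c * E) * s =
        c * (InvSep.tau H (s * E) - s * E) - s * (InvSep.tau H (c * E) - c * E) := by ring
    rw [e]
    exact q.sub_mem (Ideal.mul_mem_left _ _ h2) (Ideal.mul_mem_left _ _ h1)

end Groth.Agent.Helper3.LagEt
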