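import Mathlib
import Groth.Agent.Lib.Helper3.SectionPoly

/-!
# Local homomorphisms that are étale with trivial residue extension induce isomorphisms on
truncations (helper3)

`local_main`: `A → C`, primes `p = P ∩ A`; some `u ∉ P` with `C_u` étale over `A`; residue field
condition. Then `A_p → C_P / m^n` is surjective with kernel `m_p^n`.
-/

set_option autoImplicit false
universe u

namespace Groth.Agent.Helper3.LagEt

open IsLocalRing

theorem local_main {A C : Type u} [CommRing A] [CommRing C] [Algebra A C]
    (p : Ideal A) [p.IsPrime] (P : Ideal C) [P.IsPrime] (hp : p = P.comap (algebraMap A C))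
    (u : C) (hu : u ∉ P) [Algebra.Etale A (Localization.Away u)]
    (hres : ∀ c s : C, s ∉ P →
      ∃ a b : A, b ∉ p ∧ c * algebraMap A C b - algebraMap A C a * s ∈ P) (n : ℕ) :
    Function.Surjective ((Ideal.Quotient.mk (maximalIdeal (Localization.AtPrime P) ^ n)).comp
        (Localization.localRingHom p P (algebraMap A C) hp)) ∧
      Ideal.comap (Localization.localRingHom p P (algebraMap A C) hp)
          (maximalIdeal (Localization.AtPrime P) ^ n) =
        maximalIdeal (Localization.AtPrime p) ^ n := by
  set φ := Localization.localRingHom p P (algebraMap A C) hp with hφ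
  let LA := Localization.AtPrime p
  let LC := Localization.AtPrime P
  let Cu := Localization.Away u
  have huu : IsUnit (algebraMap C LC u) := IsLocalization.map_units LC (⟨u, hu⟩ : P.primeCompl)
  letI : Algebra Cu LC := (IsLocalization.Away.lift (S := Cu) u huu).toAlgebra
  haveI : IsScalarTower C Cu LC := IsScalarTower.of_algebraMap_eq
    (fun c => (IsLocalization.Away.lift_eq u huu c).symm)
  haveI hloc : IsLocalization ((P.primeCompl).map (algebraMap C Cu)) LC :=
    IsLocalization.isLocalization_of_submonoid_le Cu LC (Submonoid.powers u) P.primeCompl (by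
      rw [Submonoid.powers_le]; exact hu)
  haveI : Module.Flat Cu LC := IsLocalization.flat LC ((P.primeCompl).map (algebraMap C Cu))
  haveI : Algebra.FormallyUnramified Cu LC :=
    Algebra.FormallyUnramified.of_isLocalization ((P.primeCompl).map (algebraMap C Cu))
  haveI : Algebra.EssFiniteType Cu LC :=
    Algebra.EssFiniteType.of_isLocalization LC ((P.primeCompl).map (algebraMap C Cu))
  haveI : IsScalarTower A Cu LC := IsScalarTower.of_algebraMap_eq (fun a => by
    rw [IsScalarTower.algebraMap_apply A C LC, IsScalarTower.algebraMap_apply A C Cu,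
      ← IsScalarTower.algebraMap_apply C Cu LC])
  haveI : Module.Flat A Cu := inferInstance
  haveI : Module.Flat A LC := Module.Flat.trans A Cu LC
  haveI : Algebra.FormallyUnramified A LC := Algebra.FormallyUnramified.comp A Cu LC
  haveI : Algebra.EssFiniteType A LC := Algebra.EssFiniteType.comp A Cu LC
  letI : Algebra LA LC := φ.toAlgebra
  haveI : IsScalarTower A LA LC := IsScalarTower.of_algebraMap_eq
    (fun a => (Localization.localRingHom_to_map p P (algebraMap A C) hp a).symm)
  haveI : IsLocalHom (algebraMap LA LC) :=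
    Localization.isLocalHom_localRingHom p P (algebraMap A C) hp
  haveI : Module.Flat LA LC := (Module.flat_iff_of_isLocalization LA p.primeCompl LC).mpr
    inferInstance
  haveI : Algebra.FormallyUnramified LA LC := Algebra.FormallyUnramified.of_restrictScalars A LA LC
  haveI : Algebra.EssFiniteType LA LC := Algebra.EssFiniteType.of_comp A LA LC
  have hmax : (maximalIdeal LA).map (algebraMap LA LC) = maximalIdeal LC :=
    Algebra.FormallyUnramified.map_maximalIdeal
  have halg : ∀ y : LA, algebraMap LA LC y = φ y := fun _ => rfl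
  -- residue fields
  have h1 : ∀ x : LC, ∃ y : LA, x - algebraMap LA LC y ∈ maximalIdeal LC := by
    intro x
    obtain ⟨c, s, rfl⟩ := IsLocalization.exists_mk'_eq P.primeCompl x
    obtain ⟨a, b, hb, hab⟩ := hres c s s.2
    refine ⟨IsLocalization.mk' LA a (⟨b, hb⟩ : p.primeCompl), ?_⟩
    rw [halg, hφ, Localization.localRingHom_mk', ← IsLocalization.mk'_sub (S := LC),
      IsLocalization.AtPrime.mk'_mem_maximal_iff (S := LC) (I := P)]
    exact hab
  have h3 : (maximalIdeal LA).map (algebraMap LA LC) ≤ maximalIdeal LC := hmax.le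
  have h2 : ∀ v ∈ maximalIdeal LC, ∃ j ∈ maximalIdeal LA,
      v - algebraMap LA LC j ∈ maximalIdeal LC ^ 2 := by
    intro v hv
    rw [← hmax, Ideal.map] at hv
    refine Submodule.span_induction ?_ ?_ ?_ ?_ hv
    · rintro _ ⟨j, hj, rfl⟩
      exact ⟨j, hj, by rw [sub_self]; exact Ideal.zero_mem _⟩
    · exact ⟨0, Ideal.zero_mem _, by rw [map_zero, sub_self]; exact Ideal.zero_mem _⟩
    · rintro x y _ _ ⟨j₁, hj₁, h₁⟩ ⟨j₂, hj₂, h₂⟩
      refine ⟨j₁ + j₂, Ideal.add_mem _ hj₁ hj₂, ?_⟩
      have e : x + y - algebraMap LA LC (j₁ + j₂) =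
          (x - algebraMap LA LC j₁) + (y - algebraMap LA LC j₂) := by rw [map_add]; ring
      rw [e]; exact Ideal.add_mem _ h₁ h₂
    · rintro l x _ ⟨j, hj, hjx⟩
      obtain ⟨y, hy⟩ := h1 l
      refine ⟨y * j, Ideal.mul_mem_left _ _ hj, ?_⟩
      have e : l • x - algebraMap LA LC (y * j) =
          l * (x - algebraMap LA LC j) + (l - algebraMap LA LC y) * algebraMap LA LC j := by
        rw [map_mul, smul_eq_mul]; ring
      rw [e]
      apply Ideal.add_mem
      · exact Ideal.mul_mem_left _ _ hjx
      · rw [pow_two]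
        exact Ideal.mul_mem_mul hy (h3 (Ideal.mem_map_of_mem _ hj))
  constructor
  · intro z
    obtain ⟨x, rfl⟩ := Ideal.Quotient.mk_surjective z
    obtain ⟨y, hy⟩ := SectionPoly.exists_sub_mem_pow (maximalIdeal LA) (maximalIdeal LC)
      h3 h1 h2 n x
    refine ⟨y, ?_⟩
    rw [RingHom.comp_apply]
    exact (Ideal.Quotient.eq.mpr hy).symm
  · haveI : Module.FaithfullyFlat LA LC := Module.FaithfullyFlat.of_flat_of_isLocalHom
    have := Ideal.comap_map_eq_self_of_faithfullyFlat (B := LC) (maximalIdeal LA ^ n)
    rw [Ideal.map_pow, hmax] at this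
    exact this

end Groth.Agent.Helper3.LagEt
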