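import Mathlib.RingTheory.Length
import Mathlib.RingTheory.Ideal.Quotient.Basic
import Mathlib.RingTheory.Ideal.Operations
import Mathlib.Algebra.BigOperators.Fin
import Mathlib.Tactic.LinearCombination
import Mathlib.Tactic.Ring
import Mathlib.RingTheory.SimpleModule.Basic
import Mathlib.RingTheory.LocalRing.MaximalIdeal.Basic

/-!
# Lech's lemma on independent families

`Indep f` : every linear relation `∑ a_i f_i = 0` has its coefficients in the ideal `(f_i)`.
If `f` with `f_i = b * c` is independent, so are the families with `f_i` replaced by `b`,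
and `length A/(.., bc, ..) = length A/(.., c, ..) + length A/(.., b, ..)`.
-/

namespace Groth.Agent.Helper3

open Finset Function

variable {A : Type*} [CommRing A] {ι : Type*} [Fintype ι] [DecidableEq ι]

/-- Independence in the sense of Lech. -/
def Indep (f : ι → A) : Prop :=
  ∀ a : ι → A, ∑ i, a i * f i = 0 → ∀ i, a i ∈ Ideal.span (Set.range f)

/-- the partial sum away from `i`, as a linear map in the coefficients -/
noncomputable def awaySum (f : ι → A) (i : ι) : (ι → A) →ₗ[A] A :=
  ∑ j ∈ univ.erase i, f j • LinearMap.proj j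

lemma awaySum_apply (f : ι → A) (i : ι) (a : ι → A) :
    awaySum f i a = ∑ j ∈ univ.erase i, a j * f j := by
  simp [awaySum, LinearMap.sum_apply, mul_comm]

lemma sum_mul_update (f a : ι → A) (i : ι) (v : A) :
    ∑ j, a j * update f i v j = a i * v + awaySum f i a := by
  rw [awaySum_apply, ← Finset.add_sum_erase _ _ (mem_univ i)]
  congr 1
  · simp
  · refine sum_congr rfl fun j hj => ?_
    rw [update_of_ne (ne_of_mem_erase hj)]

lemma awaySum_update (f a : ι → A) (i : ι) (z : A) :
    awaySum f i (update a i z) = awaySum f i a := by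
  rw [awaySum_apply, awaySum_apply]
  refine sum_congr rfl fun j hj => ?_
  rw [update_of_ne (ne_of_mem_erase hj)]

lemma mem_span_update_iff (f : ι → A) (i : ι) (v x : A) :
    x ∈ Ideal.span (Set.range (update f i v)) ↔
      ∃ (z : A) (a : ι → A), z * v + awaySum f i a = x := by
  rw [Ideal.mem_span_range_iff_exists_fun]
  constructor
  · rintro ⟨c, hc⟩
    exact ⟨c i, c, by rw [← hc, sum_mul_update]⟩
  · rintro ⟨z, a, h⟩
    refine ⟨update a i z, ?_⟩
    rw [sum_mul_update, update_self, awaySum_update, h]

lemma indep_update_iff (f : ι → A) (i : ι) (v : A) :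
    Indep (update f i v) ↔ ∀ (z : A) (a : ι → A), z * v + awaySum f i a = 0 →
      z ∈ Ideal.span (Set.range (update f i v)) ∧
        ∀ j, j ≠ i → a j ∈ Ideal.span (Set.range (update f i v)) := by
  constructor
  · intro h z a hza
    have := h (update a i z) (by rw [sum_mul_update, update_self, awaySum_update, hza])
    refine ⟨by simpa using this i, fun j hj => by simpa [update_of_ne hj] using this j⟩
  · intro h a ha j
    rw [sum_mul_update] at ha
    obtain ⟨h1, h2⟩ := h (a i) a ha
    by_cases hj : j = i
    · subst hj; exact h1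
    · exact h2 j hj

lemma span_update_mul_le_left (f : ι → A) (i : ι) (b c : A) :
    Ideal.span (Set.range (update f i (b * c))) ≤ Ideal.span (Set.range (update f i b)) := by
  intro x hx
  rw [mem_span_update_iff] at hx ⊢
  obtain ⟨z, a, rfl⟩ := hx
  exact ⟨z * c, a, by ring⟩

lemma span_update_mul_le_right (f : ι → A) (i : ι) (b c : A) :
    Ideal.span (Set.range (update f i (b * c))) ≤ Ideal.span (Set.range (update f i c)) := by
  intro x hx
  rw [mem_span_update_iff] at hx ⊢
  obtain ⟨z, a, rfl⟩ := hx
  exact ⟨z * b, a, by ring⟩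

omit [Fintype ι] in
lemma self_mem_span_update (f : ι → A) (i : ι) (v : A) :
    v ∈ Ideal.span (Set.range (update f i v)) :=
  Ideal.subset_span ⟨i, update_self ..⟩

lemma lech_aux {f : ι → A} {i : ι} {b c : A} (h : Indep (update f i (b * c))) (z : A)
    (a : ι → A) (hza : z * b + awaySum f i a = 0) :
    z ∈ Ideal.span (Set.range (update f i (b * c))) :=
  ((indep_update_iff f i (b * c)).1 h z (c • a)
    (by rw [map_smul, smul_eq_mul]; linear_combination c * hza)).1

/-- Lech: if `(.., b c, ..)` is independent then so is `(.., b, ..)`. -/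
lemma lech_indep_left {f : ι → A} {i : ι} {b c : A} (h : Indep (update f i (b * c))) :
    Indep (update f i b) := by
  rw [indep_update_iff]
  intro z a hza
  have hz := lech_aux h z a hza
  refine ⟨span_update_mul_le_left f i b c hz, fun j hj => ?_⟩
  obtain ⟨w, y, hw⟩ := (mem_span_update_iff ..).1 hz
  have := ((indep_update_iff f i (b * c)).1 h (w * b) (b • y + a)
    (by rw [map_add, map_smul, smul_eq_mul]; linear_combination hza + b * hw)).2 j hj
  have h1 := span_update_mul_le_left f i b c this
  have h2 : b * y j ∈ Ideal.span (Set.range (update f i b)) :=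
    Ideal.mul_mem_right _ _ (self_mem_span_update f i b)
  simpa using Ideal.sub_mem _ h1 h2

lemma lech_indep_right {f : ι → A} {i : ι} {b c : A} (h : Indep (update f i (b * c))) :
    Indep (update f i c) := by
  rw [mul_comm] at h
  exact lech_indep_left h

lemma lech_colon {f : ι → A} {i : ι} {b c : A} (h : Indep (update f i (b * c))) (x : A)
    (hx : b * x ∈ Ideal.span (Set.range (update f i (b * c)))) :
    x ∈ Ideal.span (Set.range (update f i c)) := by
  obtain ⟨w, y, hw⟩ := (mem_span_update_iff ..).1 hx
  have := lech_aux h (x - c * w) (-y) (by rw [map_neg]; linear_combination -hw)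
  have h1 := span_update_mul_le_right f i b c this
  have h2 : c * w ∈ Ideal.span (Set.range (update f i c)) :=
    Ideal.mul_mem_right _ _ (self_mem_span_update f i c)
  simpa using Ideal.add_mem _ h1 h2

/-- Lech's lemma: additivity of length. -/
theorem lech_length {f : ι → A} {i : ι} {b c : A} (h : Indep (update f i (b * c))) :
    Module.length A (A ⧸ Ideal.span (Set.range (update f i (b * c)))) =
      Module.length A (A ⧸ Ideal.span (Set.range (update f i c))) +
        Module.length A (A ⧸ Ideal.span (Set.range (update f i b))) := by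
  set Ibc := Ideal.span (Set.range (update f i (b * c))) with hIbc
  set Ib := Ideal.span (Set.range (update f i b)) with hIb
  set Ic := Ideal.span (Set.range (update f i c)) with hIc
  have hle : Ibc ≤ Ib := span_update_mul_le_left f i b c
  have hmul : ∀ x ∈ Ic, b * x ∈ Ibc := by
    intro x hx
    rw [hIc, mem_span_update_iff] at hx
    obtain ⟨z, a, rfl⟩ := hx
    rw [hIbc, mem_span_update_iff]
    exact ⟨z, b • a, by rw [map_smul, smul_eq_mul]; ring⟩
  let φ : (A ⧸ Ic) →ₗ[A] (A ⧸ Ibc) :=
    Submodule.liftQ Ic ((Submodule.mkQ Ibc).comp (LinearMap.mulLeft A b)) (by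
      intro x hx
      rw [LinearMap.mem_ker, LinearMap.comp_apply, Submodule.mkQ_apply,
        Submodule.Quotient.mk_eq_zero]
      exact hmul x hx)
  let ψ : (A ⧸ Ibc) →ₗ[A] (A ⧸ Ib) := Submodule.mapQ Ibc Ib LinearMap.id (by
    intro x hx; exact hle hx)
  have hφ : ∀ x : A, φ (Submodule.Quotient.mk x) = Submodule.Quotient.mk (b * x) := fun x => rfl
  have hψ : ∀ x : A, ψ (Submodule.Quotient.mk x) = Submodule.Quotient.mk x := fun x => rfl
  apply Module.length_eq_add_of_exact φ ψ
  · rw [← LinearMap.ker_eq_bot, LinearMap.ker_eq_bot']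
    intro x hx
    obtain ⟨x, rfl⟩ := Submodule.Quotient.mk_surjective _ x
    rw [hφ, Submodule.Quotient.mk_eq_zero] at hx
    rw [Submodule.Quotient.mk_eq_zero]
    exact lech_colon h x hx
  · intro y
    obtain ⟨y, rfl⟩ := Submodule.Quotient.mk_surjective _ y
    exact ⟨Submodule.Quotient.mk y, hψ y⟩
  · intro y
    obtain ⟨y, rfl⟩ := Submodule.Quotient.mk_surjective _ y
    rw [hψ, Submodule.Quotient.mk_eq_zero]
    constructor
    · intro hy
      rw [hIb, mem_span_update_iff] at hy
      obtain ⟨z, a, rfl⟩ := hy
      refine ⟨Submodule.Quotient.mk z, ?_⟩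
      rw [hφ, Submodule.Quotient.eq, hIbc, mem_span_update_iff]
      exact ⟨0, -a, by rw [map_neg]; ring⟩
    · rintro ⟨x, hx⟩
      obtain ⟨x, rfl⟩ := Submodule.Quotient.mk_surjective _ x
      rw [hφ, Submodule.Quotient.eq] at hx
      have h1 := hle hx
      have h2 : b * x ∈ Ib := Ideal.mul_mem_right _ _ (self_mem_span_update f i b)
      simpa using Ideal.sub_mem _ h2 h1


/-- If the maximal ideal of a local ring is `(x_i)` and the `x_i ^ e_i` are independent,
then `A/(x_i^{e_i})` has length `∏ e_i`. -/
theorem length_pow_of_indep [IsLocalRing A] (x : ι → A)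
    (hx : Ideal.span (Set.range x) = IsLocalRing.maximalIdeal A) :
    ∀ (N : ℕ) (e : ι → ℕ), (∑ i, e i = N) → (∀ i, 0 < e i) → Indep (fun i => x i ^ e i) →
      Module.length A (A ⧸ Ideal.span (Set.range (fun i => x i ^ e i))) = ∏ i, (e i : ℕ∞) := by
  intro N
  induction N using Nat.strong_induction_on with
  | _ N ih =>
  intro e hN he hind
  by_cases hall : ∀ i, e i = 1
  · have h1 : (fun i => x i ^ e i) = x := by funext i; rw [hall i, pow_one]
    rw [h1, hx]
    have : Module.length A (A ⧸ IsLocalRing.maximalIdeal A) = 1 :=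
      Module.length_eq_one_iff.mpr
        (isSimpleModule_iff_quot_maximal.mpr ⟨_, inferInstance, ⟨LinearEquiv.refl _ _⟩⟩)
    rw [this]
    simp [hall]
  · push Not at hall
    obtain ⟨i, hi⟩ := hall
    have h2 : 2 ≤ e i := by have := he i; omega
    obtain ⟨k, hk⟩ : ∃ k, e i = k + 1 := ⟨e i - 1, by omega⟩
    have hk1 : 1 ≤ k := by omega
    have hfun : (fun j => x j ^ e j) = update (fun j => x j ^ e j) i (x i * x i ^ k) := by
      rw [← pow_succ', ← hk, update_eq_self]
    have hb : update (fun j => x j ^ e j) i (x i) = fun j => x j ^ (update e i 1 j) := by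
      funext j
      by_cases hj : j = i
      · subst hj; simp
      · simp [update_of_ne hj]
    have hc : update (fun j => x j ^ e j) i (x i ^ k) = fun j => x j ^ (update e i k j) := by
      funext j
      by_cases hj : j = i
      · subst hj; simp
      · simp [update_of_ne hj]
    have hsum : ∀ v : ℕ, ∑ j, update e i v j = v + ∑ j ∈ univ.erase i, e j := by
      intro v
      rw [← Finset.add_sum_erase _ _ (mem_univ i), update_self]
      congr 1
      refine sum_congr rfl fun j hj => ?_
      rw [update_of_ne (ne_of_mem_erase hj)]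
    have hsum' : ∑ j, e j = e i + ∑ j ∈ univ.erase i, e j :=
      (Finset.add_sum_erase _ _ (mem_univ i)).symm
    have hpos : ∀ v : ℕ, 0 < v → ∀ j, 0 < update e i v j := by
      intro v hv j
      by_cases hj : j = i
      · subst hj; simpa using hv
      · simpa [update_of_ne hj] using he j
    rw [hfun] at hind
    rw [hfun, lech_length hind, hb, hc]
    rw [ih _ (by rw [hsum k, ← hN, hsum']; omega) (update e i k) rfl (hpos k hk1)
        (by rw [← hc]; exact lech_indep_right hind),
      ih _ (by rw [hsum 1, ← hN, hsum']; omega) (update e i 1) rfl (hpos 1 Nat.one_pos)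
        (by rw [← hb]; exact lech_indep_left hind)]
    have key : ∀ v : ℕ, ∏ j, ((update e i v j : ℕ) : ℕ∞) =
        v * ∏ j ∈ univ.erase i, (e j : ℕ∞) := by
      intro v
      rw [← Finset.mul_prod_erase _ _ (mem_univ i), update_self]
      congr 1
      refine prod_congr rfl fun j hj => ?_
      rw [update_of_ne (ne_of_mem_erase hj)]
    have key' : ∏ j, (e j : ℕ∞) = e i * ∏ j ∈ univ.erase i, (e j : ℕ∞) :=
      (Finset.mul_prod_erase _ _ (mem_univ i)).symm
    rw [key, key, key', hk]
    push_cast
    ring

end Groth.Agent.Helper3
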