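import Mathlib

/-!
# Surjections of local rings with small kernel
-/

set_option autoImplicit false
universe u

open IsLocalRing

namespace Groth.Agent.Helper3.LocSurj

variable {R R' : Type*} [CommRing R] [CommRing R']

/-- If `φ : R → R'` is surjective onto a local ring with kernel in the Jacobson radical, then `R`
is local. -/
theorem isLocalRing_of_surjective [IsLocalRing R'] (φ : R →+* R') (hφ : Function.Surjective φ)
    (hker : RingHom.ker φ ≤ Ideal.jacobson ⊥) : IsLocalRing R := by
  haveI : IsLocalHom φ := by
    constructor
    intro a ha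
    obtain ⟨b', hb'⟩ := ha.exists_right_inv
    obtain ⟨b, rfl⟩ := hφ b'
    have h1 : a * b - 1 ∈ RingHom.ker φ := by
      rw [RingHom.mem_ker, map_sub, map_mul, hb', map_one, sub_self]
    have h2 := (Ideal.mem_jacobson_bot.mp (hker h1)) 1
    rw [mul_one, sub_add_cancel] at h2
    exact isUnit_of_mul_isUnit_left h2
  exact RingHom.domain_isLocalRing φ

variable [IsLocalRing R] [IsLocalRing R']

lemma map_maximalIdeal (φ : R →+* R') (hφ : Function.Surjective φ) :
    (maximalIdeal R).map φ = maximalIdeal R' := by
  haveI : IsLocalHom φ := hφ.isLocalHom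
  apply le_antisymm
  · rw [Ideal.map_le_iff_le_comap]
    intro x hx
    exact (IsLocalRing.mem_maximalIdeal _).mpr
      (fun h => ((IsLocalRing.mem_maximalIdeal _).mp hx) (isUnit_of_map_unit φ x h))
  · intro y hy
    obtain ⟨x, rfl⟩ := hφ y
    apply Ideal.mem_map_of_mem
    rw [IsLocalRing.mem_maximalIdeal, mem_nonunits_iff] at hy ⊢
    exact fun h => hy (h.map φ)

/-- A surjection of Noetherian local rings with kernel in `m²` preserves the minimal number of
generators of the maximal ideal. -/
theorem spanFinrank_maximalIdeal_eq [IsNoetherianRing R] (φ : R →+* R')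
    (hφ : Function.Surjective φ) (hker : RingHom.ker φ ≤ maximalIdeal R ^ 2) :
    (maximalIdeal R).spanFinrank = (maximalIdeal R').spanFinrank := by
  have hfg : (maximalIdeal R).FG := IsNoetherian.noetherian _
  have hmap := map_maximalIdeal φ hφ
  apply le_antisymm
  · have hfg' : (maximalIdeal R').FG := by
      rw [← hmap]; exact hfg.map _
    obtain ⟨s', hs'card, hs'span⟩ := Submodule.FG.exists_span_finset_card_eq_spanFinrank hfg'
    classical
    have hsub : ∀ y ∈ s', ∃ x ∈ maximalIdeal R, φ x = y := by
      intro y hy
      have hy' : y ∈ (maximalIdeal R).map φ := by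
        rw [hmap, ← hs'span]; exact Submodule.subset_span hy
      exact (Ideal.mem_map_iff_of_surjective φ hφ).mp hy'
    choose! g hg1 hg2 using hsub
    let s : Finset R := s'.image g
    have hsle : Ideal.span (s : Set R) ≤ maximalIdeal R := by
      rw [Ideal.span_le]
      intro x hx
      obtain ⟨y, hy, rfl⟩ := Finset.mem_image.mp hx
      exact hg1 y hy
    have hmaps : (Ideal.span (s : Set R)).map φ = maximalIdeal R' := by
      rw [Ideal.map_span, ← hs'span]
      congr 1
      ext y
      simp only [s, Finset.coe_image, Set.mem_image, Finset.mem_coe]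
      constructor
      · rintro ⟨x, ⟨y', hy', rfl⟩, rfl⟩
        rw [hg2 y' hy']; exact hy'
      · intro hy
        exact ⟨g y, ⟨y, hy, rfl⟩, hg2 y hy⟩
    have hle : maximalIdeal R ≤ Ideal.span (s : Set R) := by
      apply Submodule.le_of_le_smul_of_le_jacobson_bot hfg
        (IsLocalRing.maximalIdeal_le_jacobson ⊥)
      intro x hx
      have hx' : φ x ∈ (Ideal.span (s : Set R)).map φ := by
        rw [hmaps, ← hmap]; exact Ideal.mem_map_of_mem _ hx
      obtain ⟨n, hn, hnx⟩ := (Ideal.mem_map_iff_of_surjective φ hφ).mp hx'
      have h1 : x - n ∈ maximalIdeal R ^ 2 := hker (by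
        rw [RingHom.mem_ker, map_sub, hnx, sub_self])
      rw [pow_two] at h1
      have : x = n + (x - n) := by ring
      rw [this]
      exact Submodule.add_mem_sup hn h1
    have heq : maximalIdeal R = Ideal.span (s : Set R) := le_antisymm hle hsle
    calc (maximalIdeal R).spanFinrank = (Ideal.span (s : Set R)).spanFinrank := by rw [← heq]
      _ ≤ (s : Set R).ncard := Submodule.spanFinrank_span_le_ncard_of_finite s.finite_toSet
      _ = s.card := Set.ncard_coe_finset s
      _ ≤ s'.card := Finset.card_image_le
      _ = (maximalIdeal R').spanFinrank := hs'card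
  · rw [← hmap]
    exact Ideal.spanFinrank_map_le_of_fg φ hfg

end Groth.Agent.Helper3.LocSurj
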