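import Mathlib

/-!
# Residue lemma for logarithmic differentials (helper3)

Let `S` be a local domain, formally smooth and essentially of finite type over a field `k` of
characteristic zero, whose maximal ideal is generated by a nonzero element `π`; `K = Frac S`.
If `a • π⁻¹ dπ` (with `a : ℤ`) lies in the image of `Ω[S⁄k] → Ω[K⁄k]`, then `a = 0`.
-/

namespace Groth.Agent.Helper3.LogRes

open KaehlerDifferential TensorProduct

universe u

theorem map_injective_of_formallySmooth
    {k S K : Type u} [Field k] [CommRing S] [IsDomain S]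
    [Algebra k S] [Algebra.FormallySmooth k S]
    [Field K] [Algebra S K] [IsFractionRing S K] [Algebra k K] [IsScalarTower k S K] :
    Function.Injective (KaehlerDifferential.map k k S K) := by
  haveI : Module.Projective S Ω[S⁄k] := inferInstance
  haveI : Module.Flat S Ω[S⁄k] := inferInstance
  haveI : IsLocalizedModule (nonZeroDivisors S) (KaehlerDifferential.map k k S K) :=
    KaehlerDifferential.isLocalizedModule_map k S K (nonZeroDivisors S)
  intro x y hxy
  obtain ⟨c, hc⟩ := (IsLocalizedModule.eq_iff_exists (nonZeroDivisors S)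
    (KaehlerDifferential.map k k S K)).mp hxy
  exact Module.Flat.isSMulRegular_of_nonZeroDivisors c.2 hc

theorem int_eq_zero_of_smul_dlog_mem_range
    {k S K : Type u} [Field k] [CharZero k] [CommRing S] [IsDomain S] [IsLocalRing S]
    [Algebra k S] [Algebra.FormallySmooth k S] [Algebra.EssFiniteType k S]
    [Field K] [Algebra S K] [IsFractionRing S K] [Algebra k K] [IsScalarTower k S K]
    (π : S) (hπ : IsLocalRing.maximalIdeal S = Ideal.span {π}) (hπ0 : π ≠ 0)
    (a : ℤ) (θ : Ω[S⁄k])
    (h : (a : K) • (algebraMap S K π)⁻¹ • D k K (algebraMap S K π) = map k k S K θ) :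
    a = 0 := by
  have hπK : algebraMap S K π ≠ 0 := by
    simpa using (IsFractionRing.injective S K).ne hπ0
  -- Step 1: identity in Ω[S⁄k]
  have h1 : ((a : ℤ) : S) • D k S π = π • θ := by
    apply map_injective_of_formallySmooth (k := k) (S := S) (K := K)
    rw [map_smul, map_smul, KaehlerDifferential.map_D, ← h]
    rw [← IsScalarTower.algebraMap_smul K (((a : ℤ) : S)) (D k K (algebraMap S K π)),
      ← IsScalarTower.algebraMap_smul K π]
    rw [map_intCast, smul_smul, smul_smul]
    congr 1
    field_simp
  -- Step 2: the residue field is formally smooth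
  let κ := IsLocalRing.ResidueField S
  haveI : Algebra.EssFiniteType k κ := Algebra.EssFiniteType.comp k S κ
  haveI : Algebra.FormallySmooth k κ := Algebra.FormallySmooth.of_perfectField
  have hsurj : Function.Surjective (algebraMap S κ) := IsLocalRing.residue_surjective
  obtain ⟨l, hl⟩ := (Algebra.FormallySmooth.iff_split_injection (R := k) (P := S) (A := κ)
    hsurj).mp inferInstance
  have hker : RingHom.ker (algebraMap S κ) = IsLocalRing.maximalIdeal S :=
    IsLocalRing.ker_residue
  have hπm : π ∈ RingHom.ker (algebraMap S κ) := by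
    rw [hker, hπ]; exact Ideal.mem_span_singleton_self π
  have h2 : ((a : ℤ) : S) • (1 : κ) ⊗ₜ[S] D k S π = 0 := by
    rw [← TensorProduct.tmul_smul, h1, TensorProduct.tmul_smul, TensorProduct.smul_tmul',
      Algebra.smul_def, mul_one, (RingHom.mem_ker).mp hπm, TensorProduct.zero_tmul]
  have h3 : ((a : ℤ) : S) • (RingHom.ker (algebraMap S κ)).toCotangent ⟨π, hπm⟩ = 0 := by
    have := congrArg l h2
    rw [map_smul, map_zero, ← KaehlerDifferential.kerCotangentToTensor_toCotangent k S κ ⟨π, hπm⟩]
      at this
    have h4 : l (kerCotangentToTensor k S κ ((RingHom.ker (algebraMap S κ)).toCotangent ⟨π, hπm⟩))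
        = (RingHom.ker (algebraMap S κ)).toCotangent ⟨π, hπm⟩ := by
      have := LinearMap.congr_fun hl ((RingHom.ker (algebraMap S κ)).toCotangent ⟨π, hπm⟩)
      simpa using this
    rwa [h4] at this
  rw [← map_smul, Ideal.toCotangent_eq_zero] at h3
  have h5 : ((a : ℤ) : S) * π ∈ Ideal.span {π} ^ 2 := by
    have : ((((a : ℤ) : S) • (⟨π, hπm⟩ : RingHom.ker (algebraMap S κ)) :
        RingHom.ker (algebraMap S κ)) : S) = ((a : ℤ) : S) * π := by
      simp
    rw [this, hker, hπ] at h3
    exact h3
  rw [Ideal.span_singleton_pow, Ideal.mem_span_singleton] at h5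
  obtain ⟨t, ht⟩ := h5
  have h6 : ((a : ℤ) : S) = π * t := by
    have : π * ((a : ℤ) : S) = π * (π * t) := by rw [mul_comm, ht]; ring
    exact mul_left_cancel₀ hπ0 this
  have h7 : ((a : ℤ) : S) ∈ IsLocalRing.maximalIdeal S := by
    rw [hπ, h6]; exact Ideal.mul_mem_right _ _ (Ideal.mem_span_singleton_self π)
  by_contra ha
  have hu : IsUnit (((a : ℤ) : S)) := by
    have : ((a : ℤ) : S) = algebraMap k S ((a : ℤ) : k) := by simp
    rw [this]
    exact (IsUnit.mk0 _ (by exact_mod_cast ha)).map (algebraMap k S)
  exact (IsLocalRing.mem_maximalIdeal _).mp h7 hu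

end Groth.Agent.Helper3.LogRes
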