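import Mathlib
import Groth.Agent.Lib.Helper3.LogRes1

/-!
# Residue lemma at a prime element of a smooth local domain (helper3)
-/

namespace Groth.Agent.Helper3.LogRes

open KaehlerDifferential TensorProduct

universe u

section comp

variable {k R S K : Type u} [CommRing k] [CommRing R] [CommRing S] [CommRing K]
  [Algebra k R] [Algebra k S] [Algebra k K] [Algebra R S] [Algebra S K] [Algebra R K]
  [IsScalarTower k R S] [IsScalarTower k S K] [IsScalarTower k R K] [IsScalarTower R S K]

theorem map_map (θ : Ω[R⁄k]) :
    KaehlerDifferential.map k k S K (KaehlerDifferential.map k k R S θ) =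
      KaehlerDifferential.map k k R K θ := by
  have hθ : θ ∈ Submodule.span R (Set.range (D k R)) := by
    rw [KaehlerDifferential.span_range_derivation]; trivial
  induction hθ using Submodule.span_induction with
  | mem x hx =>
    obtain ⟨y, rfl⟩ := hx
    simp only [KaehlerDifferential.map_D]
    rw [← IsScalarTower.algebraMap_apply R S K]
  | zero => simp
  | add x y _ _ hx hy => simp only [map_add, hx, hy]
  | smul a x _ hx =>
    rw [map_smul (KaehlerDifferential.map k k R K), ← hx,
      map_smul (KaehlerDifferential.map k k R S), ← IsScalarTower.algebraMap_smul S a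
      (KaehlerDifferential.map k k R S x), map_smul (KaehlerDifferential.map k k S K),
      IsScalarTower.algebraMap_smul]

end comp

variable {k R K : Type u} [Field k] [CharZero k] [CommRing R] [IsDomain R]
  [Algebra k R] [Algebra.FormallySmooth k R] [Algebra.EssFiniteType k R]
  [Field K] [Algebra R K] [IsFractionRing R K] [Algebra k K] [IsScalarTower k R K]

/-- Residue lemma at a prime element `q` of `R`. -/
theorem int_eq_zero_of_mem_reg (q : R) (hq : Prime q) (n : ℤ) (s : R) (hs : ¬ q ∣ s)
    (θ : Ω[R⁄k])
    (h : algebraMap R K s • ((n : K) • (algebraMap R K q)⁻¹ • D k K (algebraMap R K q)) =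
      KaehlerDifferential.map k k R K θ) : n = 0 := by
  let P : Ideal R := Ideal.span {q}
  haveI hP : P.IsPrime := (Ideal.span_singleton_prime hq.ne_zero).mpr hq
  let S := Localization.AtPrime P
  have hle : P.primeCompl ≤ nonZeroDivisors R := Ideal.primeCompl_le_nonZeroDivisors P
  haveI : IsDomain S := IsLocalization.isDomain_localization hle
  have hunits : ∀ y : P.primeCompl, IsUnit (algebraMap R K (y : R)) := fun y =>
    IsUnit.mk0 _ (by
      have : (y : R) ≠ 0 := nonZeroDivisors.ne_zero (hle y.2)
      simpa using (IsFractionRing.injective R K).ne this)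
  letI : Algebra S K := (IsLocalization.lift (M := P.primeCompl) (g := algebraMap R K)
    hunits).toAlgebra
  haveI : IsScalarTower R S K := IsScalarTower.of_algebraMap_eq (fun x => by
    rw [RingHom.algebraMap_toAlgebra, IsLocalization.lift_eq])
  haveI : IsFractionRing S K :=
    IsFractionRing.isFractionRing_of_isDomain_of_isLocalization P.primeCompl S K
  haveI : IsScalarTower k S K := IsScalarTower.of_algebraMap_eq (fun x => by
    rw [IsScalarTower.algebraMap_apply k R K, IsScalarTower.algebraMap_apply R S K,
      ← IsScalarTower.algebraMap_apply k R S])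
  haveI : Algebra.EssFiniteType k S := Algebra.EssFiniteType.comp k R S
  haveI : Algebra.FormallySmooth k S := inferInstance
  have hπ : IsLocalRing.maximalIdeal S = Ideal.span {algebraMap R S q} := by
    rw [← IsLocalization.AtPrime.map_eq_maximalIdeal P S, Ideal.map_span, Set.image_singleton]
  have hπ0 : algebraMap R S q ≠ 0 := by
    have := (IsLocalization.injective S hle).ne hq.ne_zero
    simpa using this
  have hsP : s ∈ P.primeCompl := by
    change s ∉ P
    rw [Ideal.mem_span_singleton]; exact hs
  have hu : IsUnit (algebraMap R S s) := IsLocalization.map_units S ⟨s, hsP⟩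
  obtain ⟨u, hu'⟩ := hu
  have hsK : algebraMap R K s ≠ 0 := (hunits ⟨s, hsP⟩).ne_zero
  refine int_eq_zero_of_smul_dlog_mem_range (k := k) (S := S) (K := K) (algebraMap R S q) hπ hπ0 n
    ((↑u⁻¹ : S) • KaehlerDifferential.map k k R S θ) ?_
  have : algebraMap S K (↑u⁻¹ : S) * algebraMap R K s = 1 := by
    rw [IsScalarTower.algebraMap_apply R S K s, ← hu', ← map_mul, Units.inv_mul, map_one]
  rw [map_smul, map_map, ← h, ← IsScalarTower.algebraMap_apply R S K,
    ← IsScalarTower.algebraMap_smul K (↑u⁻¹ : S), ← mul_smul (algebraMap S K (↑u⁻¹ : S)),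
    this, one_smul]

end Groth.Agent.Helper3.LogRes
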