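import Mathlib
import Groth.Agent.Lib.Helper3.LogRes2

/-!
# Logarithmic differentials of rational functions on a smooth factorial domain (helper3)
-/

namespace Groth.Agent.Helper3.LogRes

open KaehlerDifferential TensorProduct

universe u

section dlog

variable (k : Type u) {K : Type u} [Field k] [Field K] [Algebra k K]

/-- logarithmic differential -/
noncomputable def dlog (x : K) : Ω[K⁄k] := x⁻¹ • D k K x

theorem dlog_one : dlog k (1 : K) = 0 := by simp [dlog]

theorem dlog_mul {x y : K} (hx : x ≠ 0) (hy : y ≠ 0) :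
    dlog k (x * y) = dlog k x + dlog k y := by
  simp only [dlog, Derivation.leibniz, smul_add, smul_smul]
  rw [add_comm]
  congr 1
  · congr 1; field_simp
  · congr 1; field_simp

theorem dlog_pow {x : K} (hx : x ≠ 0) (n : ℕ) : dlog k (x ^ n) = n • dlog k x := by
  induction n with
  | zero => simp [dlog_one]
  | succ n ih => rw [pow_succ, dlog_mul k (pow_ne_zero n hx) hx, ih, succ_nsmul]

theorem dlog_prod {ι : Type*} (s : Finset ι) (f : ι → K) (hf : ∀ i ∈ s, f i ≠ 0) :
    dlog k (∏ i ∈ s, f i) = ∑ i ∈ s, dlog k (f i) := by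
  classical
  induction s using Finset.induction_on with
  | empty => simp [dlog_one]
  | insert a s ha ih =>
    rw [Finset.prod_insert ha, Finset.sum_insert ha,
      dlog_mul k (hf a (Finset.mem_insert_self a s))
        (Finset.prod_ne_zero_iff.mpr (fun i hi => hf i (Finset.mem_insert_of_mem hi))),
      ih (fun i hi => hf i (Finset.mem_insert_of_mem hi))]

theorem dlog_div {x y : K} (hx : x ≠ 0) (hy : y ≠ 0) :
    dlog k (x / y) = dlog k x - dlog k y := by
  have := dlog_mul k (div_ne_zero hx hy) hy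
  rw [div_mul_cancel₀ x hy] at this
  rw [this]; abel

end dlog

section factor

variable {R : Type u} [CommRing R] [IsDomain R] [UniqueFactorizationMonoid R]

theorem exists_eq_unit_mul_prod {r : ℕ} (f : Fin r → R) (x : R) (hx : x ≠ 0)
    (hgood : ∀ q, Prime q → q ∣ x → ∃ i, Associated q (f i)) :
    ∃ (v : Rˣ) (e : Fin r → ℕ), x = v * ∏ i, f i ^ e i := by
  induction x using UniqueFactorizationMonoid.induction_on_prime with
  | h₁ => exact absurd rfl hx
  | h₂ x hxu =>
    obtain ⟨v, rfl⟩ := hxu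
    exact ⟨v, fun _ => 0, by simp⟩
  | h₃ a p ha hp ih =>
    obtain ⟨i, u, hu⟩ := hgood p hp (dvd_mul_right p a)
    obtain ⟨v, e, hve⟩ := ih ha (fun q hq hqa => hgood q hq (hqa.mul_left p))
    refine ⟨u⁻¹ * v, e + Pi.single i 1, ?_⟩
    have h1 : ∏ j, f j ^ ((e + Pi.single i 1 : Fin r → ℕ) j) = (∏ j, f j ^ e j) * f i := by
      simp only [Pi.add_apply, pow_add, Finset.prod_mul_distrib]
      congr 1
      rw [Finset.prod_eq_single i]
      · simp
      · intro j _ hji
        simp [Pi.single_apply, hji]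
      · intro hi; exact absurd (Finset.mem_univ i) hi
    have h2 : p = f i * ↑u⁻¹ := by
      rw [← hu, mul_assoc, Units.mul_inv, mul_one]
    rw [h1, h2, hve]
    push_cast
    ring

end factor

section main

variable {k R K : Type u} [Field k] [CharZero k] [CommRing R] [IsDomain R]
  [Algebra k R] [Algebra.FormallySmooth k R] [Algebra.EssFiniteType k R]
  [Field K] [Algebra R K] [IsFractionRing R K] [Algebra k K] [IsScalarTower k R K]

/-- Forms on `K` which are regular at the prime element `q`. -/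
def Reg (k : Type u) {R K : Type u} [Field k] [CommRing R] [Algebra k R]
    [Field K] [Algebra R K] [Algebra k K] [IsScalarTower k R K]
    (q : R) (hq : Prime q) : Submodule R Ω[K⁄k] where
  carrier := {ω | ∃ s : R, ¬ q ∣ s ∧ ∃ θ : Ω[R⁄k],
    algebraMap R K s • ω = KaehlerDifferential.map k k R K θ}
  add_mem' := by
    rintro ω₁ ω₂ ⟨s₁, hs₁, θ₁, h₁⟩ ⟨s₂, hs₂, θ₂, h₂⟩
    refine ⟨s₁ * s₂, fun h => (hq.dvd_or_dvd h).elim hs₁ hs₂, s₂ • θ₁ + s₁ • θ₂, ?_⟩
    rw [map_add, map_smul, map_smul, ← h₁, ← h₂, map_mul, smul_add,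
      ← IsScalarTower.algebraMap_smul K s₂, ← IsScalarTower.algebraMap_smul K s₁, smul_smul,
      smul_smul, mul_comm]
  zero_mem' := ⟨1, hq.not_dvd_one, 0, by simp⟩
  smul_mem' := by
    rintro c ω ⟨s, hs, θ, h⟩
    refine ⟨s, hs, c • θ, ?_⟩
    rw [map_smul, ← h, smul_comm]

theorem map_mem_reg (q : R) (hq : Prime q) (θ : Ω[R⁄k]) :
    KaehlerDifferential.map k k R K θ ∈ Reg k (K := K) q hq :=
  ⟨1, hq.not_dvd_one, θ, by simp⟩

theorem dlog_mem_reg (q : R) (hq : Prime q) (x : R) (hx : ¬ q ∣ x) :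
    dlog k (algebraMap R K x) ∈ Reg k (K := K) q hq := by
  have hx0 : x ≠ 0 := fun h => hx (h ▸ dvd_zero q)
  have hxK : algebraMap R K x ≠ 0 := by
    simpa using (IsFractionRing.injective R K).ne hx0
  refine ⟨x, hx, D k R x, ?_⟩
  rw [KaehlerDifferential.map_D, dlog, smul_smul, mul_inv_cancel₀ hxK, one_smul]

theorem eq_zero_of_zsmul_dlog_mem_reg (q : R) (hq : Prime q) (n : ℤ)
    (h : n • dlog k (algebraMap R K q) ∈ Reg k (K := K) q hq) : n = 0 := by
  obtain ⟨s, hs, θ, hθ⟩ := h
  refine int_eq_zero_of_mem_reg (k := k) (K := K) q hq n s hs θ ?_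
  rw [← hθ, dlog, Int.cast_smul_eq_zsmul]

variable [UniqueFactorizationMonoid R]

theorem dlog_eq_of_mem {r : ℕ} (f : Fin r → R) (hf : ∀ i, Prime (f i)) (g : Kˣ)
    (η : Ω[R⁄k]) (c : Fin r → R)
    (h : dlog k (g : K) = KaehlerDifferential.map k k R K η +
      ∑ i, c i • dlog k (algebraMap R K (f i))) :
    ∃ (v : Rˣ) (b : Fin r → ℤ), dlog k (g : K) =
      dlog k (algebraMap R K (v : R)) + ∑ i, b i • dlog k (algebraMap R K (f i)) := by
  have hinj : Function.Injective (algebraMap R K) := IsFractionRing.injective R K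
  have hne : ∀ x : R, x ≠ 0 → algebraMap R K x ≠ 0 := fun x hx => by
    simpa using hinj.ne hx
  obtain ⟨a, b, hrel, hab⟩ := IsFractionRing.exists_reduced_fraction R (g : K)
  rw [IsFractionRing.mk'_eq_div] at hab
  have hb0 : (b : R) ≠ 0 := nonZeroDivisors.ne_zero b.2
  have ha0 : a ≠ 0 := by
    rintro rfl
    rw [map_zero, zero_div] at hab
    exact g.ne_zero hab.symm
  have hg : dlog k (g : K) = dlog k (algebraMap R K a) - dlog k (algebraMap R K (b : R)) := by
    rw [← hab, dlog_div k (hne a ha0) (hne _ hb0)]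
  -- regularity of `dlog g` at bad primes
  have hH : ∀ q (hq : Prime q), (∀ i, ¬ Associated q (f i)) →
      dlog k (g : K) ∈ Reg k (K := K) q hq := by
    intro q hq hbad
    rw [h]
    refine add_mem (map_mem_reg q hq η) (Submodule.sum_mem _ fun i _ => ?_)
    exact Submodule.smul_mem _ _ (dlog_mem_reg q hq (f i)
      (fun hdvd => hbad i (hq.associated_of_dvd (hf i) hdvd)))
  -- bad primes divide neither `a` nor `b`
  have hbad : ∀ q, Prime q → (∀ i, ¬ Associated q (f i)) → ¬ q ∣ a ∧ ¬ q ∣ (b : R) := by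
    intro q hq hq'
    have hqK : algebraMap R K q ≠ 0 := hne q hq.ne_zero
    constructor
    · intro hqa
      have hqb : ¬ q ∣ (b : R) := fun hqb => hq.not_isUnit (hrel hqa hqb)
      obtain ⟨n, a', hna', ha'⟩ := WfDvdMonoid.max_power_factor ha0 hq.irreducible
      have ha'0 : a' ≠ 0 := fun h => hna' (h ▸ dvd_zero q)
      have h1 : dlog k (algebraMap R K a) =
          n • dlog k (algebraMap R K q) + dlog k (algebraMap R K a') := by
        rw [ha', map_mul, map_pow, dlog_mul k (pow_ne_zero n hqK) (hne a' ha'0),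
          dlog_pow k hqK]
      have h2 : (n : ℤ) • dlog k (algebraMap R K q) =
          dlog k (g : K) - dlog k (algebraMap R K a') + dlog k (algebraMap R K (b : R)) := by
        rw [hg, h1, natCast_zsmul]; abel
      have h3 : (n : ℤ) = 0 := by
        apply eq_zero_of_zsmul_dlog_mem_reg (k := k) (K := K) q hq
        rw [h2]
        exact add_mem (sub_mem (hH q hq hq') (dlog_mem_reg q hq a' hna')) (dlog_mem_reg q hq _ hqb)
      have h4 : n = 0 := by exact_mod_cast h3
      rw [h4, pow_zero, one_mul] at ha'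
      exact hna' (ha' ▸ hqa)
    · intro hqb
      have hqa : ¬ q ∣ a := fun hqa => hq.not_isUnit (hrel hqa hqb)
      obtain ⟨n, b', hnb', hb'⟩ := WfDvdMonoid.max_power_factor hb0 hq.irreducible
      have hb'0 : b' ≠ 0 := fun h => hnb' (h ▸ dvd_zero q)
      have h1 : dlog k (algebraMap R K (b : R)) =
          n • dlog k (algebraMap R K q) + dlog k (algebraMap R K b') := by
        rw [hb', map_mul, map_pow, dlog_mul k (pow_ne_zero n hqK) (hne b' hb'0),
          dlog_pow k hqK]
      have h2 : (n : ℤ) • dlog k (algebraMap R K q) =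
          dlog k (algebraMap R K a) - dlog k (algebraMap R K b') - dlog k (g : K) := by
        rw [hg, h1, natCast_zsmul]; abel
      have h3 : (n : ℤ) = 0 := by
        apply eq_zero_of_zsmul_dlog_mem_reg (k := k) (K := K) q hq
        rw [h2]
        exact sub_mem (sub_mem (dlog_mem_reg q hq a hqa) (dlog_mem_reg q hq b' hnb')) (hH q hq hq')
      have h4 : n = 0 := by exact_mod_cast h3
      rw [h4, pow_zero, one_mul] at hb'
      exact hnb' (hb' ▸ hqb)
  -- factor `a` and `b`
  obtain ⟨v₁, e₁, h₁⟩ := exists_eq_unit_mul_prod f a ha0 (fun q hq hqa => by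
    by_contra hcon
    push Not at hcon
    exact (hbad q hq hcon).1 hqa)
  obtain ⟨v₂, e₂, h₂⟩ := exists_eq_unit_mul_prod f (b : R) hb0 (fun q hq hqb => by
    by_contra hcon
    push Not at hcon
    exact (hbad q hq hcon).2 hqb)
  have hfK : ∀ i, algebraMap R K (f i) ≠ 0 := fun i => hne _ (hf i).ne_zero
  have hunit : ∀ v : Rˣ, algebraMap R K (v : R) ≠ 0 := fun v => hne _ v.ne_zero
  have hdl : ∀ (x : R) (v : Rˣ) (e : Fin r → ℕ), x = v * ∏ i, f i ^ e i →
      dlog k (algebraMap R K x) = dlog k (algebraMap R K (v : R)) +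
        ∑ i, e i • dlog k (algebraMap R K (f i)) := by
    intro x v e hx
    rw [hx, map_mul, map_prod, dlog_mul k (hunit v)
      (Finset.prod_ne_zero_iff.mpr fun i _ => by rw [map_pow]; exact pow_ne_zero _ (hfK i)),
      dlog_prod k _ _ (fun i _ => by rw [map_pow]; exact pow_ne_zero _ (hfK i))]
    congr 1
    refine Finset.sum_congr rfl fun i _ => ?_
    rw [map_pow, dlog_pow k (hfK i)]
  refine ⟨v₁ * v₂⁻¹, fun i => (e₁ i : ℤ) - (e₂ i : ℤ), ?_⟩
  have hv : algebraMap R K ((v₁ * v₂⁻¹ : Rˣ) : R) =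
      algebraMap R K (v₁ : R) / algebraMap R K (v₂ : R) := by
    rw [Units.val_mul, map_mul, div_eq_mul_inv]
    congr 1
    apply eq_inv_of_mul_eq_one_left
    rw [← map_mul, Units.inv_mul, map_one]
  rw [hg, hdl a v₁ e₁ h₁, hdl (b : R) v₂ e₂ h₂, hv, dlog_div k (hunit v₁) (hunit v₂)]
  simp only [sub_smul, natCast_zsmul, Finset.sum_sub_distrib]
  abel

end main

end Groth.Agent.Helper3.LogRes
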