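import Mathlib
import Groth.Agent.Lib.Helper3.MonicTower2

/-!
# Quotients `A[T_1..T_r]/(G_1(T_1), …, G_r(T_r))` for arbitrary monic `G_i`
-/

set_option autoImplicit false
universe u

namespace Groth.Agent.Helper3.MonicTower5

open Groth.Agent.Helper3.MonicTower

variable {A : Type u} [CommRing A] {r : ℕ} (G : Fin r → Polynomial A)

/-- the polynomials `G_i(T_i)`. -/
noncomputable def FG : Fin r → MvPolynomial (Fin r) A := fun i =>
  Polynomial.aeval (MvPolynomial.X i : MvPolynomial (Fin r) A) (G i)

/-- the quotient ring. -/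
abbrev QG := MvPolynomial (Fin r) A ⧸ Ideal.span (Set.range (FG G))

lemma aeval_mk_X (i : Fin r) :
    Polynomial.aeval (Ideal.Quotient.mk (Ideal.span (Set.range (FG G))) (MvPolynomial.X i)) (G i)
      = 0 := by
  have h : Ideal.Quotient.mk (Ideal.span (Set.range (FG G))) (FG G i) = 0 :=
    Ideal.Quotient.eq_zero_iff_mem.mpr (Ideal.subset_span ⟨i, rfl⟩)
  rw [← h]
  unfold FG
  have := Polynomial.aeval_algHom_apply (Ideal.Quotient.mkₐ A (Ideal.span (Set.range (FG G))))
    (MvPolynomial.X i : MvPolynomial (Fin r) A) (G i)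
  exact this

theorem algebraMap_injective [Nontrivial A] (hG : ∀ i, (G i).Monic ∧ 1 ≤ (G i).natDegree) :
    Function.Injective (algebraMap A (QG G)) := by
  obtain ⟨B, _, _, hinj, hroot⟩ := exists_roots r G hG
  choose x hx using hroot
  let φ : MvPolynomial (Fin r) A →ₐ[A] B := MvPolynomial.aeval x
  have hφ : ∀ a ∈ Ideal.span (Set.range (FG G)), φ a = 0 := by
    intro a ha
    have : Ideal.span (Set.range (FG G)) ≤ RingHom.ker φ.toRingHom := by
      rw [Ideal.span_le]
      rintro _ ⟨i, rfl⟩
      show φ (FG G i) = 0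
      unfold FG
      rw [← Polynomial.aeval_algHom_apply]
      simp only [φ, MvPolynomial.aeval_X]
      exact hx i
    exact this ha
  let φ' : QG G →ₐ[A] B := Ideal.Quotient.liftₐ _ φ hφ
  intro a b hab
  apply hinj
  have := congrArg φ' hab
  simpa using this

theorem isIntegral (hG : ∀ i, (G i).Monic) : Algebra.IsIntegral A (QG G) := by
  have hXint : ∀ i, IsIntegral A (Ideal.Quotient.mk (Ideal.span (Set.range (FG G)))
      (MvPolynomial.X i)) := by
    intro i
    refine ⟨G i, hG i, ?_⟩
    rw [← Polynomial.aeval_def, aeval_mk_X]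
  have htop : Algebra.adjoin A (Set.range fun i : Fin r =>
      (Ideal.Quotient.mk (Ideal.span (Set.range (FG G))) (MvPolynomial.X i))) = ⊤ := by
    have h1 := MvPolynomial.adjoin_range_X (R := A) (σ := Fin r)
    have h2 : (Algebra.adjoin A (Set.range (MvPolynomial.X : Fin r → MvPolynomial (Fin r) A))).map
        (Ideal.Quotient.mkₐ A (Ideal.span (Set.range (FG G)))) = ⊤ := by
      rw [h1, Algebra.map_top, AlgHom.range_eq_top]
      exact Ideal.Quotient.mkₐ_surjective _ _
    rw [AlgHom.map_adjoin, ← Set.range_comp] at h2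
    exact h2
  have : (⊤ : Subalgebra A (QG G)) ≤ integralClosure A (QG G) := by
    rw [← htop]
    apply Algebra.adjoin_le
    rintro _ ⟨i, rfl⟩
    exact hXint i
  exact ⟨fun y => this Algebra.mem_top⟩

theorem ringKrullDim_eq [Nontrivial A] (hG : ∀ i, (G i).Monic ∧ 1 ≤ (G i).natDegree) :
    ringKrullDim (QG G) = ringKrullDim A := by
  haveI := isIntegral G (fun i => (hG i).1)
  exact Groth.Agent.Helper7.IntDim.ringKrullDim_eq_of_isIntegral_of_injective
    (algebraMap_injective G hG)

end Groth.Agent.Helper3.MonicTower5
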