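import Mathlib
import Groth.Agent.Lib.Helper11.MPC6

/-!
Noncommutative version of the chain-level step used to build bounded above finite free resolutions
(ported from `Helper11.MPC5`): complexes of left modules over an arbitrary ring `R`.
-/

open CategoryTheory Category Limits Pretriangulated DerivedCategory ZeroObject

attribute [local instance] HasDerivedCategory.standard

universe u

namespace Groth.Agent.Helper3.NC

variable {R : Type u} [Ring R]

/-- cochain complexes of left `R`-modules -/
abbrev Cx (R : Type u) [Ring R] : Type (u + 1) := CochainComplex (ModuleCat.{u} R) ℤ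

theorem isZero_homology_of_isZero_X (C : Cx R) (i : ℤ) (hi : IsZero (C.X i)) :
    IsZero (C.homology i) :=
  (HomologicalComplex.exactAt_iff_isZero_homology _ _).mp (ShortComplex.exact_of_isZero_X₂ _ hi)

section Single

variable (m : ℤ) (F : ModuleCat.{u} R)

/-- the complex with `F` in degree `m` -/
noncomputable abbrev sgl : Cx R :=
  (HomologicalComplex.single (ModuleCat.{u} R) (ComplexShape.up ℤ) m).obj F

theorem sgl_isZero (j : ℤ) (hj : j ≠ m) : IsZero ((sgl m F).X j) :=
  HomologicalComplex.isZero_single_obj_X _ _ _ _ hj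

theorem sgl_finite_free [Module.Finite R F] [Module.Free R F] (j : ℤ) :
    Module.Finite R ((sgl m F).X j) ∧ Module.Free R ((sgl m F).X j) := by
  by_cases hj : j = m
  · subst hj
    let e : (sgl j F).X j ≃ₗ[R] F :=
      (HomologicalComplex.singleObjXSelf (ComplexShape.up ℤ) j F).toLinearEquiv
    exact ⟨Module.Finite.equiv e.symm, Module.Free.of_equiv e.symm⟩
  · haveI : Subsingleton ((sgl m F).X j) := ModuleCat.subsingleton_of_isZero (sgl_isZero m F j hj)
    exact ⟨inferInstance, inferInstance⟩

theorem sgl_isZero_homology (j : ℤ) (hj : j ≠ m) : IsZero ((sgl m F).homology j) :=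
  isZero_homology_of_isZero_X _ j (sgl_isZero m F j hj)

end Single

/-- chain-level top cover -/
theorem exists_top_cover_cx (C : Cx R) (m : ℤ) (hfin : Module.Finite R (C.homology m)) :
    ∃ (k : ℕ) (τ : sgl m (ModuleCat.of R (Fin k → R)) ⟶ C),
      Epi (HomologicalComplex.homologyMap τ m) := by
  obtain ⟨k, p, hp⟩ := Module.Finite.exists_fin' R (C.homology m)
  let F : ModuleCat.{u} R := ModuleCat.of R (Fin k → R)
  haveI : Projective F := (IsProjective.iff_projective (R := R) (P := Fin k → R)).mp inferInstance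
  let p' : F ⟶ C.homology m := ModuleCat.ofHom p
  haveI : Epi p' := (ModuleCat.epi_iff_surjective _).mpr hp
  let l : F ⟶ C.cycles m := Projective.factorThru p' (C.homologyπ m)
  have hl : l ≫ C.homologyπ m = p' := Projective.factorThru_comp _ _
  let φ : F ⟶ C.X m := l ≫ C.iCycles m
  let τ : sgl m F ⟶ C := HomologicalComplex.mkHomFromSingle φ (by
    intro j _
    simp [φ])
  refine ⟨k, τ, ?_⟩
  have hτ : τ.f m = (HomologicalComplex.singleObjXSelf (ComplexShape.up ℤ) m F).hom ≫ φ :=
    HomologicalComplex.mkHomFromSingle_f _ _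
  haveI : IsIso ((sgl m F).iCycles m) :=
    HomologicalComplex.isIso_iCycles _ m (m + 1) (by simp) (by simp)
  have h1 : HomologicalComplex.cyclesMap τ m =
      ((sgl m F).iCycles m ≫ (HomologicalComplex.singleObjXSelf (ComplexShape.up ℤ) m F).hom) ≫
        l := by
    rw [← cancel_mono (C.iCycles m), HomologicalComplex.cyclesMap_i, hτ]
    simp [φ]
  have h2 : (sgl m F).homologyπ m ≫ HomologicalComplex.homologyMap τ m =
      ((sgl m F).iCycles m ≫ (HomologicalComplex.singleObjXSelf (ComplexShape.up ℤ) m F).hom) ≫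
        p' := by
    rw [HomologicalComplex.homologyπ_naturality, h1, assoc, hl]
  haveI : Epi ((sgl m F).homologyπ m ≫ HomologicalComplex.homologyMap τ m) := by
    rw [h2]
    infer_instance
  exact epi_of_epi_fac (f := (sgl m F).homologyπ m) rfl

/-- transfer of `IsZero` between complex homology and derived-category homology -/
theorem isZero_homologyFunctor_Q_iff (C : Cx R) (i : ℤ) :
    IsZero ((homologyFunctor (ModuleCat.{u} R) i).obj (Q.obj C)) ↔ IsZero (C.homology i) :=
  ((homologyFunctorFactors (ModuleCat.{u} R) i).app C).isZero_iff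

theorem epi_homologyFunctor_Q_map_iff {C D : Cx R} (f : C ⟶ D) (i : ℤ) :
    Epi ((homologyFunctor (ModuleCat.{u} R) i).map (Q.map f)) ↔
      Epi (HomologicalComplex.homologyMap f i) :=
  Groth.Agent.Helper11.MPC.epi_map_iff_of_natIso (homologyFunctorFactors (ModuleCat.{u} R) i) f

/-- the cone of a top cover has no cohomology in degrees `≥ m` -/
theorem cone_homology_isZero (C : Cx R) (m : ℤ) {F : ModuleCat.{u} R} (τ : sgl m F ⟶ C)
    (hC : ∀ i : ℤ, m < i → IsZero (C.homology i))
    (hτ : Epi (HomologicalComplex.homologyMap τ m)) (i : ℤ) (hi : m - 1 < i) :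
    IsZero ((CochainComplex.mappingCone τ).homology i) := by
  rw [← isZero_homologyFunctor_Q_iff]
  have hT := DerivedCategory.mappingCone_triangle_distinguished τ
  have hex := HomologySequence.exact₃ _ hT i (i + 1) rfl
  refine hex.isZero_X₂ ?_ ?_
  · refine (HomologySequence.epi_homologyMap_mor₁_iff _ hT i).mp ?_
    change Epi ((homologyFunctor (ModuleCat.{u} R) i).map (Q.map τ))
    rw [epi_homologyFunctor_Q_map_iff]
    by_cases him : i = m
    · subst him; exact hτ
    · have h1 : IsZero (C.homology i) := hC i (by omega)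
      exact ⟨fun _ _ _ => h1.eq_of_src _ _⟩
  · refine (HomologySequence.mono_homologyMap_mor₁_iff _ hT i (i + 1) rfl).mp ?_
    change Mono ((homologyFunctor (ModuleCat.{u} R) (i + 1)).map (Q.map τ))
    have h1 : IsZero ((homologyFunctor (ModuleCat.{u} R) (i + 1)).obj (Q.obj (sgl m F))) := by
      rw [isZero_homologyFunctor_Q_iff]
      exact sgl_isZero_homology m F (i + 1) (by omega)
    exact ⟨fun _ _ _ => h1.eq_of_tgt _ _⟩

section ConeEquiv

variable {F₁ F₂ : Cx R} (φ : F₁ ⟶ F₂) (i : ℤ)

open CochainComplex HomComplex in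
/-- terms of the mapping cone as a product -/
noncomputable def coneEquiv :
    (CochainComplex.mappingCone φ).X i ≃ₗ[R] (F₁.X (i + 1) × F₂.X i) :=
  LinearEquiv.ofLinearMap
    (LinearMap.prod ((mappingCone.fst φ).1.v i (i + 1) rfl).hom
      ((mappingCone.snd φ).v i i (add_zero i)).hom)
    (LinearMap.coprod ((mappingCone.inl φ).v (i + 1) i (by omega)).hom
      ((mappingCone.inr φ).f i).hom)
    (by
      apply LinearMap.ext
      rintro ⟨y, z⟩
      have h1 := congr($(mappingCone.inl_v_fst_v φ (i + 1) i rfl).hom y)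
      have h2 := congr($(mappingCone.inl_v_snd_v φ (i + 1) i (by omega)).hom y)
      have h3 := congr($(mappingCone.inr_f_fst_v φ i (i + 1) rfl).hom z)
      have h4 := congr($(mappingCone.inr_f_snd_v φ i).hom z)
      simp only [ModuleCat.hom_comp, LinearMap.comp_apply, ModuleCat.hom_id, LinearMap.id_apply,
        ModuleCat.hom_zero, LinearMap.zero_apply] at h1 h2 h3 h4
      simp [h1, h2, h3, h4])
    (by
      apply LinearMap.ext
      intro x
      have h := congr($(mappingCone.id_X φ i (i + 1) rfl).hom x)
      simpa using h)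

open CochainComplex in
theorem coneEquiv_inr (z : F₂.X i) :
    coneEquiv φ i (((mappingCone.inr φ).f i).hom z) = (0, z) := by
  have h3 := congr($(mappingCone.inr_f_fst_v φ i (i + 1) rfl).hom z)
  have h4 := congr($(mappingCone.inr_f_snd_v φ i).hom z)
  simp only [ModuleCat.hom_comp, LinearMap.comp_apply, ModuleCat.hom_id, LinearMap.id_apply,
    ModuleCat.hom_zero, LinearMap.zero_apply] at h3 h4
  simp [coneEquiv, LinearEquiv.ofLinearMap, h3, h4]

open CochainComplex in
theorem isIso_inr_f (h : IsZero (F₁.X (i + 1))) : IsIso ((mappingCone.inr φ).f i) := by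
  refine ⟨⟨(mappingCone.snd φ).v i i (add_zero i), mappingCone.inr_f_snd_v φ i, ?_⟩⟩
  have h1 := mappingCone.id_X φ i (i + 1) rfl
  rw [h.eq_of_tgt ((mappingCone.fst φ).1.v i (i + 1) rfl) 0, zero_comp, zero_add] at h1
  exact h1

end ConeEquiv

/-- `A × (B × C) ≃ B × (A × C)` -/
def prodSwapMid (A B C : Type*) [AddCommGroup A] [AddCommGroup B] [AddCommGroup C]
    [Module R A] [Module R B] [Module R C] : (A × (B × C)) ≃ₗ[R] (B × (A × C)) where
  toFun x := (x.2.1, (x.1, x.2.2))
  invFun y := (y.2.1, (y.1, y.2.2))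
  map_add' _ _ := rfl
  map_smul' _ _ := rfl
  left_inv _ := rfl
  right_inv _ := rfl

/-- the third term of a short exact sequence with a compatible splitting of the middle term -/
theorem X₃_equiv_of_splitting {S : ShortComplex (ModuleCat.{u} R)} (hS : S.ShortExact)
    (G : Type u) [AddCommGroup G] [Module R G] (E : S.X₂ ≃ₗ[R] (S.X₁ × G))
    (hE : ∀ x, E (S.f.hom x) = (x, 0)) : Nonempty (S.X₃ ≃ₗ[R] G) := by
  let q : S.X₂ →ₗ[R] G := (LinearMap.snd R S.X₁ G).comp E.toLinearMap
  have hq : Function.Surjective q := fun g => ⟨E.symm (0, g), by simp [q]⟩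
  have hg : Function.Surjective S.g.hom := by
    haveI := hS.epi_g
    exact (ModuleCat.epi_iff_surjective _).mp inferInstance
  have hker : LinearMap.ker S.g.hom = LinearMap.ker q := by
    have hex := (ShortComplex.moduleCat_exact_iff_range_eq_ker S).mp hS.exact
    rw [← hex]
    ext y
    constructor
    · rintro ⟨x, rfl⟩
      simp [q, hE]
    · intro hy
      refine ⟨(E y).1, ?_⟩
      apply E.injective
      rw [hE]
      have : (E y).2 = 0 := hy
      exact Prod.ext rfl this.symm
  exact ⟨(LinearMap.quotKerEquivOfSurjective S.g.hom hg).symm ≪≫ₗ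
    Submodule.quotEquivOfEq _ _ hker ≪≫ₗ LinearMap.quotKerEquivOfSurjective q hq⟩

end Groth.Agent.Helper3.NC
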