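import Groth.Agent.Lib.Helper3.NC1

/-!
Noncommutative tower construction (ported from `Helper11.MPC6`) with an abstract invariant:
a complex `K'` of left `R`-modules with bounded above cohomology such that, along the tower of
mapping cones, the top cohomology stays finitely generated, is quasi-isomorphic to a bounded above
complex of finite free `R`-modules.
-/

open CategoryTheory Category Limits Pretriangulated DerivedCategory ZeroObject

attribute [local instance] HasDerivedCategory.standard

universe u

namespace Groth.Agent.Helper3.NC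

open Groth.Agent.Helper11.MPC (isEventuallyConstantFrom_of_succ)

variable {R : Type u} [Ring R]

/-- an invariant of complexes guaranteeing finite generation of top cohomology, stable under
attaching finite free modules -/
structure Inv (R : Type u) [Ring R] where
  P : Cx R → Prop
  finite : ∀ (C : Cx R) (m : ℤ), P C → (∀ i : ℤ, m < i → IsZero (C.homology i)) →
    Module.Finite R (C.homology m)
  cone : ∀ (C : Cx R) (m : ℤ) (k : ℕ) (τ : sgl m (ModuleCat.of R (Fin k → R)) ⟶ C), P C →
    P (CochainComplex.mappingCone τ)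

variable (I : Inv R)

/-- the step: killing the top cohomology -/
theorem step_exists (C : Cx R) (m : ℤ) (hle : ∀ i : ℤ, m < i → IsZero (C.homology i))
    (hP : I.P C) :
    ∃ (k : ℕ) (τ : sgl m (ModuleCat.of R (Fin k → R)) ⟶ C),
      (∀ i : ℤ, m - 1 < i → IsZero ((CochainComplex.mappingCone τ).homology i)) ∧
        I.P (CochainComplex.mappingCone τ) := by
  have hfin := I.finite C m hP hle
  obtain ⟨k, τ, hτ⟩ := exists_top_cover_cx C m hfin
  exact ⟨k, τ, cone_homology_isZero C m τ hle hτ, I.cone C m k τ hP⟩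

section Tower

variable (K' : Cx R) (b : ℤ)

/-- a stage of the tower -/
structure Stage (n : ℕ) where
  C : Cx R
  ι : K' ⟶ C
  isLE : ∀ i : ℤ, b - n < i → IsZero (C.homology i)
  inv : I.P C
  term : ∀ i : ℤ, ∃ (G : ModuleCat.{u} R), Module.Finite R G ∧ Module.Free R G ∧
    (b ≤ i → Subsingleton G) ∧
      ∃ e : C.X i ≃ₗ[R] (K'.X i × G), ∀ x, e ((ι.f i).hom x) = (x, 0)

variable {I K' b}

namespace Stage

variable {n : ℕ} (s : Stage I K' b n)

noncomputable def rk : ℕ := (step_exists I s.C (b - n) s.isLE s.inv).choose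

noncomputable def τ : sgl (b - n) (ModuleCat.of R (Fin s.rk → R)) ⟶ s.C :=
  (step_exists I s.C (b - n) s.isLE s.inv).choose_spec.choose

theorem τ_spec : (∀ i : ℤ, b - n - 1 < i →
      IsZero ((CochainComplex.mappingCone s.τ).homology i)) ∧
    I.P (CochainComplex.mappingCone s.τ) :=
  (step_exists I s.C (b - n) s.isLE s.inv).choose_spec.choose_spec

noncomputable def next : Stage I K' b (n + 1) where
  C := CochainComplex.mappingCone s.τ
  ι := s.ι ≫ CochainComplex.mappingCone.inr s.τ
  isLE := by
    intro i hi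
    exact s.τ_spec.1 i (by push_cast at hi; omega)
  inv := s.τ_spec.2
  term := fun i => by
    obtain ⟨G, hfin, hfree, hsub, e, he⟩ := s.term i
    obtain ⟨hSfin, hSfree⟩ :=
      sgl_finite_free (b - n) (ModuleCat.of R (Fin s.rk → R)) (i + 1)
    refine ⟨ModuleCat.of R ((sgl (b - n) (ModuleCat.of R (Fin s.rk → R))).X (i + 1) × G),
      inferInstance, inferInstance, ?_, ?_⟩
    · intro hi
      haveI := hsub hi
      haveI : Subsingleton ((sgl (b - n) (ModuleCat.of R (Fin s.rk → R))).X (i + 1)) :=
        ModuleCat.subsingleton_of_isZero (sgl_isZero _ _ _ (by omega))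
      change Subsingleton ((sgl (b - n) (ModuleCat.of R (Fin s.rk → R))).X (i + 1) × G)
      infer_instance
    · refine ⟨(coneEquiv s.τ i) ≪≫ₗ (LinearEquiv.prodCongr (LinearEquiv.refl R _) e) ≪≫ₗ
        prodSwapMid _ _ _, ?_⟩
      intro x
      have h1 : ((s.ι ≫ CochainComplex.mappingCone.inr s.τ).f i).hom x =
          ((CochainComplex.mappingCone.inr s.τ).f i).hom ((s.ι.f i).hom x) := rfl
      rw [h1]
      simp only [LinearEquiv.trans_apply, coneEquiv_inr]
      simp [prodSwapMid, he]

end Stage

/-- the initial stage -/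
noncomputable def stage0 (I : Inv R) (K' : Cx R) (b : ℤ)
    (hle : ∀ i : ℤ, b < i → IsZero (K'.homology i)) (hP : I.P K') : Stage I K' b 0 where
  C := K'
  ι := 𝟙 K'
  isLE := by
    intro i hi
    exact hle i (by simpa using hi)
  inv := hP
  term := fun i => ⟨ModuleCat.of R PUnit.{u + 1}, inferInstance, inferInstance,
    fun _ => inferInstance,
    ⟨{ toFun := fun x => (x, 0)
       invFun := fun y => y.1
       map_add' := fun _ _ => by simp
       map_smul' := fun _ _ => by simp
       left_inv := fun _ => rfl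
       right_inv := fun y => Prod.ext rfl (Subsingleton.elim _ _) }, fun _ => rfl⟩⟩

variable (s0 : Stage I K' b 0)

/-- the stages -/
noncomputable def stage : (n : ℕ) → Stage I K' b n
  | 0 => s0
  | n + 1 => (stage n).next

/-- the tower -/
noncomputable def tower : ℕ ⥤ Cx R :=
  Functor.ofSequence (X := fun n => (stage s0 n).C)
    (fun n => CochainComplex.mappingCone.inr (stage s0 n).τ)

theorem tower_map_succ (n : ℕ) : (tower s0).map (homOfLE (Nat.le_succ n)) =
    CochainComplex.mappingCone.inr (stage s0 n).τ :=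
  Functor.ofSequence_map_homOfLE_succ _ n

/-- the maps from `K'` to the tower -/
noncomputable def towerι (n : ℕ) : K' ⟶ (tower s0).obj n := (stage s0 n).ι

theorem towerι_succ (n : ℕ) : towerι s0 (n + 1) =
    towerι s0 n ≫ (tower s0).map (homOfLE (Nat.le_succ n)) := by
  rw [tower_map_succ]
  rfl

theorem tower_term (n : ℕ) (i : ℤ) : ∃ (G : ModuleCat.{u} R), Module.Finite R G ∧
    Module.Free R G ∧ (b ≤ i → Subsingleton G) ∧
      ∃ e : ((tower s0).obj n).X i ≃ₗ[R] (K'.X i × G),
        ∀ x, e (((towerι s0 n).f i).hom x) = (x, 0) :=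
  (stage s0 n).term i

theorem tower_isLE (n : ℕ) (i : ℤ) (hi : b - n < i) : IsZero (((tower s0).obj n).homology i) :=
  (stage s0 n).isLE i hi

/-- the map to the colimit -/
noncomputable def ιinf : K' ⟶ colimit (tower s0) := towerι s0 0 ≫ colimit.ι (tower s0) 0

theorem ιinf_eq (n : ℕ) : ιinf s0 = towerι s0 n ≫ colimit.ι (tower s0) n := by
  induction n with
  | zero => rfl
  | succ n ih =>
    rw [towerι_succ, assoc, colimit.w]
    exact ih

theorem isIso_tower_map_succ (i : ℤ) (n : ℕ) (hn : b - i ≤ n) :
    IsIso (((tower s0).map (homOfLE (Nat.le_succ n))).f i) := by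
  rw [tower_map_succ]
  exact isIso_inr_f _ i (sgl_isZero _ _ _ (by omega))

theorem isIso_colimit_ι_f (i : ℤ) (n : ℕ) (hn : b - i ≤ n) :
    IsIso ((colimit.ι (tower s0) n).f i) := by
  have hev : ((tower s0) ⋙ HomologicalComplex.eval _ _ i).IsEventuallyConstantFrom
      (b - i).toNat := isEventuallyConstantFrom_of_succ _ _ (fun n hn => by
    change IsIso (((tower s0).map (homOfLE (Nat.le_succ n))).f i)
    exact isIso_tower_map_succ s0 i n (by omega))
  exact hev.isIso_ι_of_isColimit'
    (isColimitOfPreserves (HomologicalComplex.eval _ _ i) (colimit.isColimit (tower s0))) n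
    (homOfLE (by omega))

theorem colimit_exactAt (i : ℤ) : (colimit (tower s0)).ExactAt i := by
  let N := (b - i + 1).toNat
  have hN : b - i + 1 ≤ N := Int.self_le_toNat _
  let ι := colimit.ι (tower s0) N
  haveI h1 : IsIso (ι.f (i - 1)) := isIso_colimit_ι_f s0 (i - 1) N (by omega)
  haveI h2 : IsIso (ι.f i) := isIso_colimit_ι_f s0 i N (by omega)
  haveI h3 : IsIso (ι.f (i + 1)) := isIso_colimit_ι_f s0 (i + 1) N (by omega)
  have hq : QuasiIsoAt ι i := by
    rw [quasiIsoAt_iff' ι (i - 1) i (i + 1) (by simp) (by simp)]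
    haveI : IsIso ((HomologicalComplex.shortComplexFunctor' _ _ (i - 1) i (i + 1)).map ι) := by
      apply (config := { allowSynthFailures := true }) ShortComplex.isIso_of_isIso
      · exact h1
      · exact h2
      · exact h3
    infer_instance
  have hex : ((tower s0).obj N).ExactAt i :=
    (HomologicalComplex.exactAt_iff_isZero_homology _ _).mpr (tower_isLE s0 N i (by omega))
  exact (quasiIsoAt_iff_exactAt ι i hex).mp hq

theorem colimit_Q_isZero : IsZero (Q.obj (colimit (tower s0))) := by
  have h : ∀ n : ℤ, IsZero ((homologyFunctor (ModuleCat.{u} R) n).obj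
      (Q.obj (colimit (tower s0)))) := by
    intro n
    rw [isZero_homologyFunctor_Q_iff]
    exact (HomologicalComplex.exactAt_iff_isZero_homology _ _).mp (colimit_exactAt s0 n)
  have h1 : (Q.obj (colimit (tower s0))).IsLE (-1) := by
    rw [DerivedCategory.isLE_iff]
    intro i _
    exact h i
  have h2 : (Q.obj (colimit (tower s0))).IsGE 0 := by
    rw [DerivedCategory.isGE_iff]
    intro i _
    exact h i
  exact TStructure.t.isZero _ (-1) 0 (by norm_num)

theorem ιinf_term (i : ℤ) : ∃ (G : ModuleCat.{u} R), Module.Finite R G ∧ Module.Free R G ∧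
    (b ≤ i → Subsingleton G) ∧
      ∃ E : (colimit (tower s0)).X i ≃ₗ[R] (K'.X i × G),
        ∀ x, E (((ιinf s0).f i).hom x) = (x, 0) := by
  let N := (b - i).toNat
  obtain ⟨G, hfin, hfree, hsub, e, he⟩ := tower_term s0 N i
  haveI : IsIso ((colimit.ι (tower s0) N).f i) := isIso_colimit_ι_f s0 i N (by omega)
  let j := (asIso ((colimit.ι (tower s0) N).f i)).toLinearEquiv
  refine ⟨G, hfin, hfree, hsub, j.symm ≪≫ₗ e, fun x => ?_⟩
  have h1 : ((ιinf s0).f i).hom x = j (((towerι s0 N).f i).hom x) := by
    rw [ιinf_eq s0 N]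
    rfl
  rw [h1, LinearEquiv.trans_apply, LinearEquiv.symm_apply_apply, he]

instance : Mono (ιinf s0) := by
  apply (config := { allowSynthFailures := true }) HomologicalComplex.mono_of_mono_f
  intro i
  rw [ModuleCat.mono_iff_injective]
  obtain ⟨G, -, -, -, E, hE⟩ := ιinf_term s0 i
  intro x y hxy
  have := congrArg E hxy
  rw [hE, hE] at this
  exact congrArg Prod.fst this

/-- the short complex `K' → C∞ → W` -/
noncomputable def wSC : ShortComplex (Cx R) :=
  ShortComplex.mk (ιinf s0) (cokernel.π (ιinf s0)) (cokernel.condition _)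

theorem wSC_shortExact : (wSC s0).ShortExact :=
  { exact := ShortComplex.exact_cokernel _
    mono_f := by dsimp [wSC]; infer_instance
    epi_g := by dsimp [wSC]; infer_instance }

theorem wSC_X₃_term (i : ℤ) : Module.Finite R ((wSC s0).X₃.X i) ∧ Module.Free R ((wSC s0).X₃.X i) ∧
    (b ≤ i → IsZero ((wSC s0).X₃.X i)) := by
  have hS : ((wSC s0).map (HomologicalComplex.eval _ _ i)).ShortExact :=
    (wSC_shortExact s0).map_of_exact _
  obtain ⟨G, hfin, hfree, hsub, E, hE⟩ := ιinf_term s0 i
  obtain ⟨e⟩ := X₃_equiv_of_splitting hS G E hE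
  have e' : (wSC s0).X₃.X i ≃ₗ[R] G := e
  refine ⟨Module.Finite.equiv e'.symm, Module.Free.of_equiv e'.symm, fun hi => ?_⟩
  haveI := hsub hi
  haveI : Subsingleton ((wSC s0).X₃.X i) := e'.toEquiv.subsingleton
  exact ModuleCat.isZero_of_subsingleton _

include s0 in
/-- the conclusion: `K'` is represented by a bounded above complex of finite free modules -/
theorem exists_resolution_of_stage0 :
    ∃ (F : Cx R), (∀ i : ℤ, b < i → IsZero (F.X i)) ∧
      (∀ i : ℤ, Module.Finite R (F.X i) ∧ Module.Free R (F.X i)) ∧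
        Nonempty (Q.obj F ≅ Q.obj K') := by
  have hT := triangleOfSES_distinguished (wSC_shortExact s0)
  haveI : IsIso (triangleOfSESδ (wSC_shortExact s0)) :=
    (Triangle.isZero₂_iff_isIso₃ _ hT).mp (colimit_Q_isZero s0)
  let W := (wSC s0).X₃
  refine ⟨(shiftFunctor (Cx R) (-1 : ℤ)).obj W, ?_, ?_, ⟨?_⟩⟩
  · intro i hi
    exact (wSC_X₃_term s0 (i + -1)).2.2 (by omega)
  · intro i
    exact ⟨(wSC_X₃_term s0 (i + -1)).1, (wSC_X₃_term s0 (i + -1)).2.1⟩
  · exact (Q.commShiftIso (-1 : ℤ)).app W ≪≫
      (shiftFunctor (DerivedCategory (ModuleCat.{u} R)) (-1 : ℤ)).mapIso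
        (asIso (triangleOfSESδ (wSC_shortExact s0))) ≪≫
      shiftShiftNeg _ (1 : ℤ)

end Tower

/-- **Main construction**: a complex with cohomology bounded above satisfying the invariant is
represented by a bounded above complex of finite free modules. -/
theorem exists_resolution (I : Inv R) (K' : Cx R) (b : ℤ)
    (hle : ∀ i : ℤ, b < i → IsZero (K'.homology i)) (hP : I.P K') :
    ∃ (F : Cx R), (∀ i : ℤ, b < i → IsZero (F.X i)) ∧
      (∀ i : ℤ, Module.Finite R (F.X i) ∧ Module.Free R (F.X i)) ∧
        Nonempty (Q.obj F ≅ Q.obj K') :=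
  exists_resolution_of_stage0 (stage0 I K' b hle hP)

end Groth.Agent.Helper3.NC
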