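import Groth.Agent.Lib.Helper3.NC2
import Groth.Agent.Lib.Helper11.MPC9

/-!
Pseudo-coherence over a (noncommutative) algebra `R` which is finite free over a commutative
ring `A` can be tested after restriction of scalars to `A`.
-/

open CategoryTheory Category Limits Pretriangulated DerivedCategory ZeroObject

attribute [local instance] HasDerivedCategory.standard

universe u

namespace Groth.Agent.Helper3.NC

open Groth.Agent.Helper11.MPC Groth.Agent.Helper11.DC

variable (A : Type u) [CommRing A] (R : Type u) [Ring R] [Algebra A R]

/-- restriction of scalars -/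
noncomputable abbrev res : ModuleCat.{u} R ⥤ ModuleCat.{u} A :=
  ModuleCat.restrictScalars.{u} (algebraMap A R)

variable {A R}

theorem finite_of_res (N : ModuleCat.{u} R) (h : Module.Finite A ((res A R).obj N)) :
    Module.Finite R N := by
  letI : Module A N := Module.compHom N (algebraMap A R)
  haveI : IsScalarTower A R N := ⟨fun a b n => by
    rw [Algebra.smul_def, mul_smul]
    rfl⟩
  haveI : Module.Finite A N := h
  exact Module.Finite.of_restrictScalars_finite A R N

theorem res_finite_free [Module.Finite A R] [Module.Free A R] (N : ModuleCat.{u} R)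
    [Module.Finite R N] [Module.Free R N] :
    Module.Finite A ((res A R).obj N) ∧ Module.Free A ((res A R).obj N) := by
  letI : Module A N := Module.compHom N (algebraMap A R)
  haveI : IsScalarTower A R N := ⟨fun a b n => by
    rw [Algebra.smul_def, mul_smul]
    rfl⟩
  have h1 : Module.Finite A N := Module.Finite.trans R N
  have h2 : Module.Free A N := Module.Free.trans (R := A) (S := R) (M := N)
  exact ⟨h1, h2⟩

theorem isZero_of_isZero_res (N : ModuleCat.{u} R) (h : IsZero ((res A R).obj N)) : IsZero N := by
  have h2 : Subsingleton ((res A R).obj N) := ModuleCat.subsingleton_of_isZero h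
  haveI : Subsingleton N := h2
  exact ModuleCat.isZero_of_subsingleton _

variable [PreservesFiniteLimits (res A R)] [PreservesFiniteColimits (res A R)]

variable (A R) in
/-- restriction of scalars on derived categories -/
noncomputable abbrev resD : DerivedCategory (ModuleCat.{u} R) ⥤ DerivedCategory (ModuleCat.{u} A) :=
  (res A R).mapDerivedCategory

/-- restriction of a complex -/
noncomputable abbrev resC (C : Cx R) : DRing.Cx A :=
  ((res A R).mapHomologicalComplex (ComplexShape.up ℤ)).obj C

/-- cohomology commutes with restriction of scalars -/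
noncomputable def homologyResIso (C : Cx R) (i : ℤ) :
    (homologyFunctor (ModuleCat.{u} A) i).obj ((resD A R).obj (Q.obj C)) ≅
      (res A R).obj (C.homology i) :=
  (homologyFunctor (ModuleCat.{u} A) i).mapIso ((res A R).mapDerivedCategoryFactors.app C) ≪≫
    (homologyFunctorFactors (ModuleCat.{u} A) i).app _ ≪≫ (C.sc i).mapHomologyIso (res A R)

variable (A R) in
/-- the invariant: all the restrictions to `A` are `m`-pseudo-coherent -/
noncomputable def inv [Module.Finite A R] [Module.Free A R] : Inv R where
  P C := ∀ j : ℤ, DRing.IsPseudoCoherent A j ((resD A R).obj (Q.obj C))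
  finite := by
    intro C m hP hle
    haveI : ((resD A R).obj (Q.obj C)).IsLE m := by
      rw [DerivedCategory.isLE_iff]
      intro i hi
      exact IsZero.of_iso ((res A R).map_isZero (hle i hi)) (homologyResIso C i)
    have h1 : Module.Finite A ((Hf A m).obj ((resD A R).obj (Q.obj C))) :=
      finite_top_homology (hP m)
    have h2 : Module.Finite A ((res A R).obj (C.homology m)) :=
      Module.Finite.equiv (homologyResIso C m).toLinearEquiv
    exact finite_of_res _ h2
  cone := by
    intro C m k τ hP j
    have hT := (resD A R).map_distinguished _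
      (DerivedCategory.mappingCone_triangle_distinguished τ)
    refine mpc_third _ hT j ?_ (hP j)
    refine mpc_of_iso ((res A R).mapDerivedCategoryFactors.app _).symm
      (mpc_of_bounded_free (resC (sgl m (ModuleCat.of R (Fin k → R)))) m m ?_ ?_ (j + 1))
    · intro i hi
      exact (res A R).map_isZero (sgl_isZero m _ i (by omega))
    · intro i
      obtain ⟨h1, h2⟩ := sgl_finite_free m (ModuleCat.of R (Fin k → R)) i
      exact res_finite_free ((sgl m (ModuleCat.of R (Fin k → R))).X i)

/-- **Main theorem.** -/
theorem main [Module.Finite A R] [Module.Free A R] (M : DerivedCategory (ModuleCat.{u} R))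
    (hM : DRing.IsPseudoCoherent' A ((resD A R).obj M)) :
    ∃ (F : CochainComplex (ModuleCat.{u} R) ℤ) (b : ℤ), (∀ i : ℤ, b < i → IsZero (F.X i)) ∧
      (∀ i : ℤ, Module.Finite R (F.X i) ∧ Module.Free R (F.X i)) ∧
        Nonempty (DerivedCategory.Q.obj F ≅ M) := by
  let K' := Q.objPreimage M
  let e : Q.obj K' ≅ M := Q.objObjPreimageIso M
  have hpc : DRing.IsPseudoCoherent' A ((resD A R).obj (Q.obj K')) := by
    obtain ⟨E, b, hb, hff, ⟨e'⟩⟩ := hM
    exact ⟨E, b, hb, hff, ⟨e' ≪≫ (resD A R).mapIso e.symm⟩⟩
  have hP : (inv A R).P K' := fun j => mpc_of_pc' hpc j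
  obtain ⟨E, b, hb, hff, ⟨e'⟩⟩ := hpc
  have hle : ∀ i : ℤ, b < i → IsZero (K'.homology i) := by
    intro i hi
    apply isZero_of_isZero_res (A := A)
    refine IsZero.of_iso ?_ (homologyResIso K' i).symm
    refine IsZero.of_iso ?_ ((homologyFunctor (ModuleCat.{u} A) i).mapIso e'.symm)
    exact Groth.Agent.Helper11.DC.isZero_homology_of_isZero_X E i (hb i hi)
  obtain ⟨F, h1, h2, ⟨e''⟩⟩ := exists_resolution (inv A R) K' b hle hP
  exact ⟨F, b, h1, h2, ⟨e'' ≪≫ e⟩⟩

end Groth.Agent.Helper3.NC
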