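import Mathlib
set_option autoImplicit false
universe u v w u'
open TensorProduct IsLocalRing

namespace Groth.Agent.Helper3.NilFlat
/-- Core lemma: a spanning family of a flat module which is "independent modulo a nilpotent ideal"
is linearly independent. -/
theorem linearIndependent_of_flat {C : Type u} [CommRing C] {N : Type v} [AddCommGroup N] [Module C N]
    [Module.Flat C N] (𝔞 : Ideal C) (n : ℕ) (h𝔞 : 𝔞 ^ n = ⊥) {I : Type w} (x : I → N)
    (hspan : Submodule.span C (Set.range x) = ⊤)
    (h1 : ∀ z : I →₀ C, Finsupp.linearCombination C x z = 0 → ∀ l, z l ∈ 𝔞) :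
    LinearIndependent C x := by
  classical
  have hsurj : Function.Surjective (Finsupp.linearCombination C x) := by
    rw [← LinearMap.range_eq_top, Finsupp.range_linearCombination, hspan]
  have key : ∀ t : ℕ, ∀ z : I →₀ C, Finsupp.linearCombination C x z = 0 → ∀ l, z l ∈ 𝔞 ^ (t + 1) := by
    intro t
    induction t with
    | zero => intro z hz l; simpa using h1 z hz l
    | succ t ih =>
      intro z hz l
      have hrel : ∑ i : z.support, z i • x i = 0 := by
        rw [Finsupp.linearCombination_apply, Finsupp.sum] at hz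
        rw [← hz, ← Finset.sum_coe_sort z.support (fun i => z i • x i)]
      obtain ⟨k, a, y, hxy, haz⟩ := Module.Flat.isTrivialRelation_of_sum_smul_eq_zero hrel
      choose b hb using fun j => hsurj (y j)
      let ε : z.support → (I →₀ C) := fun i => Finsupp.single (i : I) 1 - ∑ j, a i j • b j
      have hε : ∀ i, Finsupp.linearCombination C x (ε i) = 0 := by
        intro i
        simp only [ε, map_sub, map_sum, map_smul, hb, Finsupp.linearCombination_single, one_smul]
        have := hxy i
        simp only at this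
        rw [this, sub_self]
      have hεl : ∀ i l, ε i l ∈ 𝔞 ^ (t + 1) := fun i l => ih (ε i) (hε i) l
      have hzl : ∀ i, z i ∈ 𝔞 ^ (t + 1) := fun i => ih z hz i
      have hexp : z l = ∑ i : z.support, z i * ε i l := by
        have h2 : ∀ i : z.support, z i * ε i l =
            z i * (Finsupp.single (i : I) (1 : C) l) - ∑ j, (z i * a i j) * b j l := by
          intro i
          simp only [ε, Finsupp.coe_sub, Pi.sub_apply, Finsupp.coe_finsetSum, Finset.sum_apply,
            Finsupp.coe_smul, Pi.smul_apply, smul_eq_mul, mul_sub, Finset.mul_sum, mul_assoc]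
        rw [Finset.sum_congr rfl (fun i _ => h2 i), Finset.sum_sub_distrib, Finset.sum_comm]
        have h3 : ∑ j, ∑ i : z.support, z i * a i j * b j l = 0 := by
          apply Finset.sum_eq_zero
          intro j _
          rw [← Finset.sum_mul, haz j, zero_mul]
        rw [h3, sub_zero]
        rw [Finset.sum_coe_sort z.support (fun i => z i * (Finsupp.single i (1 : C) l))]
        by_cases hl : l ∈ z.support
        · rw [Finset.sum_eq_single l]
          · simp
          · intro i _ hi; simp [hi]
          · intro h; exact absurd hl h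
        · rw [Finsupp.notMem_support_iff.mp hl]
          symm
          apply Finset.sum_eq_zero
          intro i hi
          have : i ≠ l := fun h => hl (h ▸ hi)
          simp [this]
      rw [hexp]
      apply Ideal.sum_mem
      intro i _
      have : 𝔞 ^ (t + 1) * 𝔞 ^ (t + 1) ≤ 𝔞 ^ (t + 1 + 1) := by
        rw [← pow_add]
        exact Ideal.pow_le_pow_right (by omega)
      exact this (Ideal.mul_mem_mul (hzl i) (hεl i l))
  rw [linearIndependent_iff]
  intro z hz
  ext l
  have := key n z hz l
  have h2 : 𝔞 ^ (n + 1) ≤ 𝔞 ^ n := Ideal.pow_le_pow_right (Nat.le_succ n)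
  have := h2 this
  rw [h𝔞] at this
  simpa using this


/-- nilpotent Nakayama. -/
theorem eq_top_of_sup_smul_eq_top {R : Type u} [CommRing R] {M : Type v} [AddCommGroup M] [Module R M]
    (J : Ideal R) (n : ℕ) (hJ : J ^ n = ⊥) (X : Submodule R M) (h : X ⊔ J • (⊤ : Submodule R M) = ⊤) :
    X = ⊤ := by
  have key : ∀ t : ℕ, X ⊔ (J ^ t) • (⊤ : Submodule R M) = ⊤ := by
    intro t
    induction t with
    | zero => simp
    | succ t ih =>
      rw [eq_top_iff]
      calc (⊤ : Submodule R M) = X ⊔ J • (⊤ : Submodule R M) := h.symm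
        _ = X ⊔ J • (X ⊔ (J ^ t) • (⊤ : Submodule R M)) := by rw [ih]
        _ ≤ X ⊔ (J ^ (t + 1)) • (⊤ : Submodule R M) := by
          rw [Submodule.smul_sup, ← Submodule.mul_smul, ← pow_succ']
          refine sup_le le_sup_left (sup_le ?_ le_sup_right)
          exact le_trans Submodule.smul_le_right le_sup_left
  have := key n
  rwa [hJ, Submodule.bot_smul, sup_bot_eq] at this

theorem flat_of_local {A₀ : Type u} [CommRing A₀] [IsLocalRing A₀] (n : ℕ)
    (hn : maximalIdeal A₀ ^ n = ⊥)
    (M₀ : Type v) [AddCommGroup M₀] [Module A₀ M₀]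
    {ι : Type w} (C : ι → Type u') [∀ i, CommRing (C i)] [∀ i, Algebra A₀ (C i)]
    (hC : ∀ a : A₀, (∀ i, algebraMap A₀ (C i) a = 0) → a = 0)
    (hflat : ∀ i, Module.Flat (C i) (C i ⊗[A₀] M₀)) : Module.Flat A₀ M₀ := by
  classical
  letI := Ideal.Quotient.field (maximalIdeal A₀)
  let b := Module.Free.chooseBasis (A₀ ⧸ maximalIdeal A₀) (M₀ ⧸ (maximalIdeal A₀ • ⊤ : Submodule A₀ M₀))
  have hlift : ∀ i : Module.Free.ChooseBasisIndex (A₀ ⧸ maximalIdeal A₀) (M₀ ⧸ (maximalIdeal A₀ • ⊤ : Submodule A₀ M₀)), ∃ y : M₀, ((maximalIdeal A₀) • ⊤ : Submodule A₀ M₀).mkQ y = b i :=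
    fun i => Submodule.mkQ_surjective _ (b i)
  choose x hx using hlift
  let ξ : Module.Free.ChooseBasisIndex (A₀ ⧸ maximalIdeal A₀) (M₀ ⧸ (maximalIdeal A₀ • ⊤ : Submodule A₀ M₀)) → (M₀ →ₗ[A₀] (A₀ ⧸ maximalIdeal A₀)) := fun l => ((b.coord l).restrictScalars A₀) ∘ₗ ((maximalIdeal A₀) • ⊤ : Submodule A₀ M₀).mkQ
  have hξ : ∀ l i, ξ l (x i) = if i = l then 1 else 0 := by
    intro l i
    simp only [ξ, LinearMap.comp_apply, LinearMap.restrictScalars_apply, hx]
    rw [Module.Basis.coord_apply, Module.Basis.repr_self, Finsupp.single_apply]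
  -- spanning
  have hspan : Submodule.span A₀ (Set.range x) = ⊤ := by
    apply eq_top_of_sup_smul_eq_top (maximalIdeal A₀) n hn
    rw [sup_comm, ← Submodule.map_mkQ_eq_top, Submodule.map_span, ← Set.range_comp]
    have h1 : (Submodule.span (A₀ ⧸ maximalIdeal A₀) (Set.range b)).restrictScalars A₀ = Submodule.span A₀ (Set.range b) :=
      Submodule.restrictScalars_span A₀ (A₀ ⧸ maximalIdeal A₀) Ideal.Quotient.mk_surjective _
    rw [b.span_eq, Submodule.restrictScalars_top] at h1
    rw [h1]
    congr 2
    ext i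
    exact hx i
  -- linear independence
  have hli : LinearIndependent A₀ x := by
    rw [linearIndependent_iff]
    intro z hz
    ext l
    apply hC
    intro j
    haveI := hflat j
    let x' : Module.Free.ChooseBasisIndex (A₀ ⧸ maximalIdeal A₀) (M₀ ⧸ (maximalIdeal A₀ • ⊤ : Submodule A₀ M₀)) → C j ⊗[A₀] M₀ := fun i => (1 : C j) ⊗ₜ[A₀] x i
    have hspan' : Submodule.span (C j) (Set.range x') = ⊤ := by
      have := Submodule.baseChange_span (R := A₀) (A := C j) (Set.range x)
      rw [hspan, Submodule.baseChange_top, ← Set.range_comp] at this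
      exact this.symm
    have h𝔞 : ((maximalIdeal A₀).map (algebraMap A₀ (C j))) ^ n = ⊥ := by
      rw [← Ideal.map_pow, hn, Ideal.map_bot]
    have h1 : ∀ z : Module.Free.ChooseBasisIndex (A₀ ⧸ maximalIdeal A₀) (M₀ ⧸ (maximalIdeal A₀ • ⊤ : Submodule A₀ M₀)) →₀ C j, Finsupp.linearCombination (C j) x' z = 0 →
        ∀ l, z l ∈ (maximalIdeal A₀).map (algebraMap A₀ (C j)) := by
      intro z hz l
      have h2 := congrArg ((ξ l).baseChange (C j)) hz
      rw [map_zero, Finsupp.linearCombination_apply, Finsupp.sum, map_sum] at h2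
      have h3 : ∀ i ∈ z.support, ((ξ l).baseChange (C j)) (z i • x' i) =
          if i = l then (z i) ⊗ₜ[A₀] (1 : A₀ ⧸ maximalIdeal A₀) else 0 := by
        intro i _
        rw [map_smul]
        simp only [x', LinearMap.baseChange_tmul, hξ]
        split_ifs
        · rw [TensorProduct.smul_tmul', smul_eq_mul, mul_one]
        · rw [TensorProduct.tmul_zero, smul_zero]
      rw [Finset.sum_congr rfl h3, Finset.sum_ite_eq'] at h2
      by_cases hl : l ∈ z.support
      · rw [if_pos hl] at h2
        have h4 := congrArg (TensorProduct.tensorQuotEquivQuotSMul (C j) (maximalIdeal A₀)) h2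
        have : (1 : A₀ ⧸ maximalIdeal A₀) = Ideal.Quotient.mk (maximalIdeal A₀) 1 := rfl
        rw [this, TensorProduct.tensorQuotEquivQuotSMul_tmul_mk, map_zero, one_smul,
          Submodule.Quotient.mk_eq_zero, Ideal.smul_top_eq_map] at h4
        exact h4
      · rw [Finsupp.notMem_support_iff.mp hl]; exact Ideal.zero_mem _
    have hli' := linearIndependent_of_flat ((maximalIdeal A₀).map (algebraMap A₀ (C j))) n h𝔞 x' hspan' h1
    rw [linearIndependent_iff] at hli'
    have h5 := hli' (z.mapRange (algebraMap A₀ (C j)) (map_zero _)) (by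
      rw [Finsupp.linearCombination_apply, Finsupp.sum_mapRange_index (by simp)]
      have h6 : ∀ i, (algebraMap A₀ (C j) (z i)) • x' i = (1 : C j) ⊗ₜ[A₀] (z i • x i) := by
        intro i
        simp only [x', TensorProduct.tmul_smul, algebraMap_smul]
      simp only [h6, Finsupp.sum]
      rw [← TensorProduct.tmul_sum]
      rw [Finsupp.linearCombination_apply, Finsupp.sum] at hz
      rw [hz, TensorProduct.tmul_zero])
    have := DFunLike.congr_fun h5 l
    simpa using this
  haveI := Module.Free.of_basis (Module.Basis.mk hli (by rw [hspan]))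
  infer_instance

/-- Step A: an element outside `P` killing a power of `P`. -/
theorem exists_kill {A : Type u} [CommRing A] [Finite (MaximalSpectrum A)]
    (N : ℕ) (hN : (Ring.jacobson A) ^ N = ⊥) (P : Ideal A) [hP : P.IsMaximal] :
    ∃ e : A, e ∉ P ∧ ∀ y ∈ P ^ N, e * y = 0 := by
  classical
  haveI := Fintype.ofFinite (MaximalSpectrum A)
  have hex : ∀ m : MaximalSpectrum A, m.asIdeal ≠ P → ∃ t, t ∈ m.asIdeal ∧ t ∉ P := by
    intro m hm
    by_contra h
    push Not at h
    exact hm (m.isMaximal.eq_of_le hP.ne_top h)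
  choose! t ht using hex
  let T : A := ∏ m ∈ Finset.univ.filter (fun m : MaximalSpectrum A => m.asIdeal ≠ P), t m
  have hTP : T ∉ P := by
    intro h
    obtain ⟨m, hm, hmP⟩ := (Ideal.IsPrime.prod_mem_iff (hp := hP.isPrime)).mp h
    exact (ht m (Finset.mem_filter.mp hm).2).2 hmP
  have hTJ : ∀ y ∈ P, T * y ∈ Ring.jacobson A := by
    intro y hy
    rw [Ring.jacobson_eq_sInf_isMaximal, Ideal.mem_sInf]
    intro m hm
    by_cases hmP : m = P
    · rw [hmP]; exact Ideal.mul_mem_left _ _ hy
    · apply Ideal.mul_mem_right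
      have hm' : (⟨m, hm⟩ : MaximalSpectrum A) ∈
          Finset.univ.filter (fun m : MaximalSpectrum A => m.asIdeal ≠ P) := by
        simp [hmP]
      exact Ideal.prod_mem m hm' (ht ⟨m, hm⟩ hmP).1
  refine ⟨T ^ N, fun h => hTP (hP.isPrime.mem_of_pow_mem _ h), ?_⟩
  have hle : Ideal.span {T} * P ≤ Ring.jacobson A := by
    rw [Ideal.mul_le]
    intro a ha y hy
    obtain ⟨c, rfl⟩ := Ideal.mem_span_singleton'.mp ha
    rw [mul_assoc]
    exact Ideal.mul_mem_left _ _ (hTJ y hy)
  intro y hy
  have : T ^ N * y ∈ (Ideal.span {T} * P) ^ N := by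
    rw [mul_pow]
    exact Ideal.mul_mem_mul (Ideal.pow_mem_pow (Ideal.mem_span_singleton_self T) N) hy
  have := Ideal.pow_right_mono hle N this
  rwa [hN, Ideal.mem_bot] at this

theorem main {A : Type u} [CommRing A]
    [Finite (MaximalSpectrum A)] (hnil : IsNilpotent (Ring.jacobson A))
    {ι : Type u} (B : ι → Type u) [∀ i, CommRing (B i)] [∀ i, Algebra A (B i)]
    (hB : ∀ a : A, (∀ i, algebraMap A (B i) a = 0) → a = 0)
    (M : Type u) [AddCommGroup M] [Module A M] :
    Module.Flat A M ↔ ∀ i, Module.Flat (B i) (B i ⊗[A] M) := by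
  constructor
  · intro h i; infer_instance
  intro hflat
  obtain ⟨N, hN⟩ := hnil
  have hN' : (Ring.jacobson A) ^ N = ⊥ := hN
  refine Module.flat_of_isLocalized_maximal A M (fun P _ => Localization.AtPrime P ⊗[A] M)
    (fun P _ => TensorProduct.mk A (Localization.AtPrime P) M 1) (fun P hP => ?_)
  obtain ⟨e, heP, he⟩ := exists_kill N hN' P
  -- nilpotency of the maximal ideal
  have hmax : maximalIdeal (Localization.AtPrime P) ^ N = ⊥ := by
    rw [← Localization.AtPrime.map_eq_maximalIdeal, ← Ideal.map_pow, eq_bot_iff,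
      Ideal.map_le_iff_le_comap]
    intro y hy
    rw [Ideal.mem_comap, Ideal.mem_bot, IsLocalization.map_eq_zero_iff P.primeCompl]
    exact ⟨⟨e, heP⟩, he y hy⟩
  -- units mod P^N
  have hunit : ∀ s : A, s ∉ P → ∃ u : A, e * (u * s) = e := by
    intro s hs
    obtain ⟨y, i, hi, hyi⟩ := hP.exists_inv hs
    have hx : (1 - y * s) ^ N ∈ P ^ N := by
      apply Ideal.pow_mem_pow
      have : 1 - y * s = i := by rw [← hyi]; ring
      rw [this]; exact hi
    refine ⟨y * ∑ k ∈ Finset.range N, (1 - y * s) ^ k, ?_⟩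
    have h1 : (y * ∑ k ∈ Finset.range N, (1 - y * s) ^ k) * s = 1 - (1 - y * s) ^ N := by
      have := geom_sum_mul (1 - y * s) N
      have h2 : (∑ k ∈ Finset.range N, (1 - y * s) ^ k) * (y * s) = 1 - (1 - y * s) ^ N := by
        have h3 : (∑ k ∈ Finset.range N, (1 - y * s) ^ k) * (y * s) =
            -((∑ k ∈ Finset.range N, (1 - y * s) ^ k) * ((1 - y * s) - 1)) := by ring
        rw [h3, this]; ring
      rw [← h2]; ring
    rw [h1, mul_sub, mul_one, he _ hx, sub_zero]
  haveI : Module.Flat (Localization.AtPrime P) (Localization.AtPrime P ⊗[A] M) := by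
    refine flat_of_local N hmax (Localization.AtPrime P ⊗[A] M)
      (fun i => Localization (Algebra.algebraMapSubmonoid (B i) P.primeCompl)) ?_ ?_
    · intro a₀ ha₀
      obtain ⟨a, s, rfl⟩ := IsLocalization.exists_mk'_eq P.primeCompl a₀
      rw [IsLocalization.mk'_eq_zero_iff]
      refine ⟨⟨e, heP⟩, ?_⟩
      apply hB
      intro i
      have h1 := ha₀ i
      rw [localizationAlgebraMap_def, IsLocalization.map_mk', IsLocalization.mk'_eq_zero_iff] at h1
      obtain ⟨⟨m, t, ht, rfl⟩, hm⟩ := h1
      obtain ⟨u, hu⟩ := hunit t ht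
      simp only at hm
      show algebraMap A (B i) (e * a) = 0
      rw [← hu, mul_assoc, mul_assoc, map_mul, map_mul, map_mul, hm, mul_zero, mul_zero]
    · intro i
      let e1 := AlgebraTensorModule.cancelBaseChange A (Localization.AtPrime P)
        (Localization (Algebra.algebraMapSubmonoid (B i) P.primeCompl))
        (Localization (Algebra.algebraMapSubmonoid (B i) P.primeCompl)) M
      let e2 := AlgebraTensorModule.cancelBaseChange A (B i)
        (Localization (Algebra.algebraMapSubmonoid (B i) P.primeCompl))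
        (Localization (Algebra.algebraMapSubmonoid (B i) P.primeCompl)) M
      haveI := hflat i
      haveI : Module.Flat (Localization (Algebra.algebraMapSubmonoid (B i) P.primeCompl))
          (Localization (Algebra.algebraMapSubmonoid (B i) P.primeCompl) ⊗[A] M) :=
        Module.Flat.of_linearEquiv e2.symm
      exact Module.Flat.of_linearEquiv e1
  exact Module.Flat.trans A (Localization.AtPrime P) _

end Groth.Agent.Helper3.NilFlat
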