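import Mathlib
import Groth.Prelude
import Groth.Agent.Lib.Helper3.NodeCompl3

/-!
# Completed local rings of nodes: the isomorphism `Â[[x,y]]/(xy - α) ≃ B̂` (helper3)
-/

set_option autoImplicit false
set_option linter.style.haveILetI false
universe u

namespace Groth.Agent.Helper3.NodeCompl

open IsLocalRing Groth.Agent.Helper14 Groth.Agent.Lib.Helper6.ComplMapLib

section

variable (A B : Type u) [CommRing A] [IsLocalRing A] [IsNoetherianRing A] [CommRing B]
  [IsLocalRing B] [IsNoetherianRing B] [Algebra A B] [IsLocalHom (algebraMap A B)]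

theorem node_aux (hres : Function.Bijective (ResidueField.map (algebraMap A B)))
    (u v : B) (hu : u ∈ maximalIdeal B) (hv : v ∈ maximalIdeal B)
    (huv : u * v ∈ (maximalIdeal A).map (algebraMap A B))
    (hgen : maximalIdeal B = Ideal.span {u, v} ⊔ (maximalIdeal A).map (algebraMap A B)) :
    ∃ (α : AdicCompletion (maximalIdeal A) A)
      (f : MvPowerSeries (Fin 2) (AdicCompletion (maximalIdeal A) A) →+*
        AdicCompletion (maximalIdeal B) B),
      α ∈ maximalIdeal (AdicCompletion (maximalIdeal A) A) ∧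
      Function.Surjective f ∧ (∀ c, f (MvPowerSeries.C c) = ψ₀ A B c) ∧
      f (MvPowerSeries.X 0 * MvPowerSeries.X 1 - MvPowerSeries.C α) = 0 ∧
      f (MvPowerSeries.X 0) - algebraMap B (AdicCompletion (maximalIdeal B) B) u ∈
          (maximalIdeal A).map (algebraMap A (AdicCompletion (maximalIdeal B) B)) ∧
      f (MvPowerSeries.X 1) - algebraMap B (AdicCompletion (maximalIdeal B) B) v ∈
          (maximalIdeal A).map (algebraMap A (AdicCompletion (maximalIdeal B) B)) := by
  classical
  set ψ := ψ₀ A B with hψdef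
  have hψ := ψ₀_comp A B
  rw [← hψdef] at hψ
  letI : Algebra (AdicCompletion (maximalIdeal A) A) (AdicCompletion (maximalIdeal B) B) :=
    ψ.toAlgebra
  have halg : ∀ x, algebraMap (AdicCompletion (maximalIdeal A) A)
      (AdicCompletion (maximalIdeal B) B) x = ψ x := fun _ => rfl
  have hψA : ∀ a : A, ψ (algebraMap A (AdicCompletion (maximalIdeal A) A) a) =
      algebraMap A (AdicCompletion (maximalIdeal B) B) a := by
    intro a
    have := congrArg (fun f => f a) hψ
    simp only [RingHom.comp_apply] at this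
    rw [this]; rfl
  haveI : IsScalarTower A (AdicCompletion (maximalIdeal A) A)
      (AdicCompletion (maximalIdeal B) B) :=
    IsScalarTower.of_algebraMap_eq (fun a => by rw [halg, hψA])
  set 𝔟 : Ideal (AdicCompletion (maximalIdeal B) B) :=
    Ideal.map ψ (maximalIdeal (AdicCompletion (maximalIdeal A) A)) with h𝔟
  have h𝔟1 : 𝔟 = ((maximalIdeal A).map (algebraMap A B)).map
      (algebraMap B (AdicCompletion (maximalIdeal B) B)) :=
    ComplMap.map_maximalIdeal_eq A B ψ hψ
  have h𝔟2 : 𝔟 = (maximalIdeal A).map (algebraMap A (AdicCompletion (maximalIdeal B) B)) := by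
    rw [h𝔟1, Ideal.map_map]; rfl
  have h𝔟le : 𝔟 ≤ maximalIdeal (AdicCompletion (maximalIdeal B) B) :=
    ComplMap.map_maximalIdeal_le A B ψ hψ
  set uh := algebraMap B (AdicCompletion (maximalIdeal B) B) u with huh
  set vh := algebraMap B (AdicCompletion (maximalIdeal B) B) v with hvh
  have hmB : maximalIdeal (AdicCompletion (maximalIdeal B) B) = Ideal.span {uh, vh} ⊔ 𝔟 := by
    rw [AdicCompletion.maximalIdeal_eq_map (R := B)]
    have := congrArg (Ideal.map (algebraMap B (AdicCompletion (maximalIdeal B) B))) hgen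
    rw [this, Ideal.map_sup, Ideal.map_span, Set.image_pair, ← h𝔟1]
  have huhm : uh ∈ maximalIdeal (AdicCompletion (maximalIdeal B) B) := by
    rw [AdicCompletion.maximalIdeal_eq_map (R := B)]; exact Ideal.mem_map_of_mem _ hu
  have hvhm : vh ∈ maximalIdeal (AdicCompletion (maximalIdeal B) B) := by
    rw [AdicCompletion.maximalIdeal_eq_map (R := B)]; exact Ideal.mem_map_of_mem _ hv
  -- residue fields
  have hresid : ∀ b : AdicCompletion (maximalIdeal B) B, ∃ a : A,
      b - algebraMap A (AdicCompletion (maximalIdeal B) B) a ∈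
        maximalIdeal (AdicCompletion (maximalIdeal B) B) := by
    intro b
    obtain ⟨y, hy⟩ := (AdicCompletion.residueField_map_bijective B).2
      (residue (AdicCompletion (maximalIdeal B) B) b)
    obtain ⟨x, rfl⟩ := hres.2 y
    obtain ⟨a, rfl⟩ := residue_surjective x
    refine ⟨a, ?_⟩
    rw [← IsLocalRing.residue_eq_zero_iff, map_sub, sub_eq_zero, ← hy, ResidueField.map_residue,
      ResidueField.map_residue]
    rfl
  have hE : ∀ b : AdicCompletion (maximalIdeal B) B,
      ∃ (c : AdicCompletion (maximalIdeal A) A) (p q : AdicCompletion (maximalIdeal B) B),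
        b - ψ c - uh * p - vh * q ∈ 𝔟 := by
    intro b
    obtain ⟨a, ha⟩ := hresid b
    rw [hmB] at ha
    obtain ⟨x, hx, y, hy, hxy⟩ := Submodule.mem_sup.mp ha
    obtain ⟨p, q, rfl⟩ := Ideal.mem_span_pair.mp hx
    refine ⟨algebraMap A _ a, p, q, ?_⟩
    rw [hψA]
    have e : b - algebraMap A (AdicCompletion (maximalIdeal B) B) a - uh * p - vh * q = y := by
      rw [← hxy]; ring
    rw [e]; exact hy
  have h0 : uh * vh ∈ 𝔟 := by
    rw [h𝔟1, huh, hvh, ← map_mul]; exact Ideal.mem_map_of_mem _ huv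
  haveI : IsAdicComplete 𝔟 (AdicCompletion (maximalIdeal B) B) :=
    Groth.Agent.Helper1.isAdicComplete_of_le_of_fg 𝔟
      (maximalIdeal (AdicCompletion (maximalIdeal B) B)) h𝔟le (IsNoetherian.noetherian 𝔟) _
  obtain ⟨α, u', v', hα, hu', hv', huv'⟩ :=
    main ψ (maximalIdeal (AdicCompletion (maximalIdeal A) A)) uh vh hE h0
  have hu'm : u' ∈ maximalIdeal (AdicCompletion (maximalIdeal B) B) := by
    have : u' = (u' - uh) + uh := by ring
    rw [this]; exact Ideal.add_mem _ (h𝔟le hu') huhm
  have hv'm : v' ∈ maximalIdeal (AdicCompletion (maximalIdeal B) B) := by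
    have : v' = (v' - vh) + vh := by ring
    rw [this]; exact Ideal.add_mem _ (h𝔟le hv') hvhm
  let g : Fin 2 → AdicCompletion (maximalIdeal B) B := ![u', v']
  have hg0 : g 0 = u' := rfl
  have hg1 : g 1 = v' := rfl
  have hg : ∀ i, g i ∈ maximalIdeal (AdicCompletion (maximalIdeal B) B) := by
    intro i
    fin_cases i
    · exact hu'm
    · exact hv'm
  obtain ⟨f, hf⟩ := PowerSeriesComplete.exists_algHom_complete
    (Λ := AdicCompletion (maximalIdeal A) A)
    (maximalIdeal (AdicCompletion (maximalIdeal B) B)) g hg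
  have hf0 : f (MvPowerSeries.X 0) = u' := hf 0
  have hf1 : f (MvPowerSeries.X 1) = v' := hf 1
  have hfC : f (MvPowerSeries.C α) = ψ α := by
    have : (MvPowerSeries.C α : MvPowerSeries (Fin 2) (AdicCompletion (maximalIdeal A) A)) =
        algebraMap (AdicCompletion (maximalIdeal A) A) _ α := by
      rw [MvPowerSeries.algebraMap_apply]; simp
    rw [this, f.commutes]
    exact halg α
  -- surjectivity
  have hspan : (maximalIdeal (AdicCompletion (maximalIdeal A) A)).map
      (algebraMap (AdicCompletion (maximalIdeal A) A) (AdicCompletion (maximalIdeal B) B)) ⊔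
        Ideal.span (Set.range g) = maximalIdeal (AdicCompletion (maximalIdeal B) B) := by
    apply le_antisymm
    · apply sup_le h𝔟le
      rw [Ideal.span_le]
      rintro _ ⟨i, rfl⟩
      exact hg i
    · rw [hmB]
      apply sup_le _ le_sup_left
      rw [Ideal.span_le]
      rintro x hx
      rcases hx with rfl | rfl
      · have : uh = u' - (u' - uh) := by ring
        rw [this]
        exact Ideal.sub_mem _ (Ideal.mem_sup_right (Ideal.subset_span ⟨0, hg0⟩))
          (Ideal.mem_sup_left hu')
      · have : vh = v' - (v' - vh) := by ring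
        rw [this]
        exact Ideal.sub_mem _ (Ideal.mem_sup_right (Ideal.subset_span ⟨1, hg1⟩))
          (Ideal.mem_sup_left hv')
  have hres' : Function.Surjective ((residue (AdicCompletion (maximalIdeal B) B)).comp
      (algebraMap (AdicCompletion (maximalIdeal A) A) (AdicCompletion (maximalIdeal B) B))) := by
    intro y
    obtain ⟨b, rfl⟩ := residue_surjective y
    obtain ⟨a, ha⟩ := hresid b
    refine ⟨algebraMap A _ a, ?_⟩
    rw [RingHom.comp_apply, halg, hψA]
    symm
    rw [← sub_eq_zero, ← map_sub, IsLocalRing.residue_eq_zero_iff]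
    exact ha
  have hfsurj : Function.Surjective f :=
    PowerSeriesComplete.surjective_of_residue' g hspan hres' f hf
  refine ⟨α, f.toRingHom, hα, hfsurj, ?_, ?_, ?_, ?_⟩
  · intro c
    have : (MvPowerSeries.C c : MvPowerSeries (Fin 2) (AdicCompletion (maximalIdeal A) A)) =
        algebraMap (AdicCompletion (maximalIdeal A) A) _ c := by
      rw [MvPowerSeries.algebraMap_apply]; simp
    change f (MvPowerSeries.C c) = _
    rw [this, f.commutes]
    exact halg c
  · change f _ = 0
    rw [map_sub, map_mul, hf0, hf1, hfC, huv', sub_self]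
  · change f (MvPowerSeries.X 0) - uh ∈ _
    rw [hf0, ← h𝔟2]; exact hu'
  · change f (MvPowerSeries.X 1) - vh ∈ _
    rw [hf1, ← h𝔟2]; exact hv'


local notation "Ah" => AdicCompletion (maximalIdeal A) A
local notation "Bh" => AdicCompletion (maximalIdeal B) B
local notation "PA" => MvPowerSeries (Fin 2) (AdicCompletion (maximalIdeal A) A)
local notation "kA" => ResidueField A
local notation "𝔪B" => Ideal.map (algebraMap A B) (maximalIdeal A)
local notation "Ch" => AdicCompletion (Ideal.map (Ideal.Quotient.mk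
  (Ideal.map (algebraMap A B) (maximalIdeal A))) (maximalIdeal B))
  (B ⧸ Ideal.map (algebraMap A B) (maximalIdeal A))
local notation "TT" => (MvPowerSeries (Fin 2) (ResidueField A) ⧸
  Ideal.span {(MvPowerSeries.X 0 * MvPowerSeries.X 1 : MvPowerSeries (Fin 2) (ResidueField A))})

theorem node_inj [Module.Flat A B] (e : Ch ≃+* TT)
    (he : ∀ a : A, e (algebraMap (B ⧸ (maximalIdeal A).map (algebraMap A B)) _
          (Ideal.Quotient.mk _ (algebraMap A B a))) =
        Ideal.Quotient.mk _ (MvPowerSeries.C (residue A a)))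
    (α : Ah) (f : PA →+* Bh) (hα : α ∈ maximalIdeal Ah) (hf : Function.Surjective f)
    (hfC : ∀ c, f (MvPowerSeries.C c) = ψ₀ A B c)
    (hrel : f (MvPowerSeries.X 0 * MvPowerSeries.X 1 - MvPowerSeries.C α) = 0) :
    RingHom.ker f ≤ Ideal.span {(MvPowerSeries.X 0 * MvPowerSeries.X 1 - MvPowerSeries.C α : PA)} := by
  classical
  haveI : Module.Flat A Bh := Module.Flat.trans A B Bh
  let ι : A →+* PA := (MvPowerSeries.C (σ := Fin 2) (R := Ah)).comp (algebraMap A Ah)
  have hfι : ∀ a, f (ι a) = algebraMap A Bh a := by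
    intro a
    change f (MvPowerSeries.C (algebraMap A Ah a)) = _
    rw [hfC]
    have := congrArg (fun g => g a) (ψ₀_comp A B)
    simp only [RingHom.comp_apply] at this
    rw [this]; rfl
  have hmap : Ideal.map ι (maximalIdeal A) = Ideal.map MvPowerSeries.C (maximalIdeal Ah) := by
    rw [AdicCompletion.maximalIdeal_eq_map (R := A), Ideal.map_map]
  -- the residue map of the completion
  let E : kA ≃+* ResidueField Ah := RingEquiv.ofBijective (ResidueField.map (algebraMap A Ah))
    (AdicCompletion.residueField_map_bijective A)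
  let ρ : Ah →+* kA := E.symm.toRingHom.comp (residue Ah)
  have hρsurj : Function.Surjective ρ := E.symm.surjective.comp residue_surjective
  have hρker : RingHom.ker ρ ≤ maximalIdeal Ah := by
    intro x hx
    rw [RingHom.mem_ker] at hx
    change E.symm (residue Ah x) = 0 at hx
    rw [map_eq_zero_iff _ E.symm.injective] at hx
    rwa [IsLocalRing.residue_eq_zero_iff] at hx
  -- θ
  let Jk : Ideal (MvPowerSeries (Fin 2) kA) :=
    Ideal.span {(MvPowerSeries.X 0 * MvPowerSeries.X 1 : MvPowerSeries (Fin 2) kA)}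
  let θ : PA →+* TT := (Ideal.Quotient.mk Jk).comp (MvPowerSeries.map ρ)
  have hθsurj : Function.Surjective θ :=
    Ideal.Quotient.mk_surjective.comp (map_surjective ρ hρsurj)
  have hθker : ∀ z, θ z = 0 → z ∈ Ideal.span
      {(MvPowerSeries.X 0 * MvPowerSeries.X 1 - MvPowerSeries.C α : PA)} ⊔
        Ideal.map ι (maximalIdeal A) := by
    intro z hz
    change Ideal.Quotient.mk Jk (MvPowerSeries.map ρ z) = 0 at hz
    rw [Ideal.Quotient.eq_zero_iff_mem, Ideal.mem_span_singleton'] at hz
    obtain ⟨g, hg⟩ := hz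
    obtain ⟨g', rfl⟩ := map_surjective ρ hρsurj g
    have h1 : MvPowerSeries.map ρ (z - g' * (MvPowerSeries.X 0 * MvPowerSeries.X 1)) = 0 := by
      rw [map_sub, map_mul, map_mul, MvPowerSeries.map_X, MvPowerSeries.map_X, hg, sub_self]
    have h2 := mem_map_C_of_map_eq_zero ρ (maximalIdeal Ah) (IsNoetherian.noetherian _) hρker _ h1
    have h3 : z = g' * (MvPowerSeries.X 0 * MvPowerSeries.X 1 - MvPowerSeries.C α) +
        (g' * MvPowerSeries.C α + (z - g' * (MvPowerSeries.X 0 * MvPowerSeries.X 1))) := by ring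
    rw [h3]
    refine Ideal.add_mem _ (Ideal.mem_sup_left (Ideal.mul_mem_left _ _ (Ideal.subset_span rfl)))
      (Ideal.mem_sup_right ?_)
    rw [hmap]
    exact Ideal.add_mem _ (Ideal.mul_mem_left _ _ (Ideal.mem_map_of_mem _ hα)) h2
  -- σ
  let mC : Ideal (B ⧸ 𝔪B) := (maximalIdeal B).map (Ideal.Quotient.mk 𝔪B)
  let σ : Bh →+* Ch := FSch.complMap (maximalIdeal B) mC (Ideal.Quotient.mk 𝔪B) le_rfl
  have hσsurj : Function.Surjective σ :=
    complMap_surjective_of_surjective _ _ _ Ideal.Quotient.mk_surjective le_rfl le_rfl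
  have hσB : ∀ b, σ (algebraMap B Bh b) = algebraMap (B ⧸ 𝔪B) Ch (Ideal.Quotient.mk 𝔪B b) := by
    intro b
    rw [algebraMap_eq_of, algebraMap_eq_of]
    exact complMap_of _ _ _ _ b
  -- Φ
  let Φ : PA →+* TT := e.toRingHom.comp (σ.comp f)
  have hΦsurj : Function.Surjective Φ := e.surjective.comp (hσsurj.comp hf)
  have hΦι : ∀ a, Φ (ι a) = Ideal.Quotient.mk Jk (MvPowerSeries.C (residue A a)) := by
    intro a
    change e (σ (f (ι a))) = _
    rw [hfι, IsScalarTower.algebraMap_apply A B Bh, hσB, he]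
  have hΦJ : Φ (MvPowerSeries.X 0 * MvPowerSeries.X 1 - MvPowerSeries.C α) = 0 := by
    change e (σ (f _)) = 0
    rw [hrel, map_zero, map_zero]
  have hΦ𝔪 : Ideal.map ι (maximalIdeal A) ≤ RingHom.ker Φ := by
    rw [Ideal.map_le_iff_le_comap]
    intro a ha
    rw [Ideal.mem_comap, RingHom.mem_ker, hΦι, (IsLocalRing.residue_eq_zero_iff a).mpr ha,
      map_zero, map_zero]
  have hker : RingHom.ker θ ≤ RingHom.ker Φ := by
    intro z hz
    obtain ⟨j, hj, w, hw, rfl⟩ := Submodule.mem_sup.mp (hθker z hz)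
    obtain ⟨t, rfl⟩ := Ideal.mem_span_singleton'.mp hj
    rw [RingHom.mem_ker, map_add, map_mul, hΦJ, mul_zero, zero_add]
    exact hΦ𝔪 hw
  let Φbar : TT →+* TT := θ.liftOfSurjective hθsurj ⟨Φ, hker⟩
  have hΦbar : ∀ z, Φbar (θ z) = Φ z := fun z =>
    RingHom.liftOfSurjective_comp_apply θ hθsurj ⟨Φ, hker⟩ z
  have hΦbarsurj : Function.Surjective Φbar := by
    intro t
    obtain ⟨z, rfl⟩ := hΦsurj t
    exact ⟨θ z, hΦbar z⟩
  have hΦbarinj := injective_of_surjective_endo Φbar hΦbarsurj
  -- Step 1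
  have step1 : ∀ z, f z = 0 → z ∈ Ideal.span
      {(MvPowerSeries.X 0 * MvPowerSeries.X 1 - MvPowerSeries.C α : PA)} ⊔
        Ideal.map ι (maximalIdeal A) := by
    intro z hz
    apply hθker
    apply hΦbarinj
    rw [hΦbar, map_zero]
    change e (σ (f z)) = 0
    rw [hz, map_zero, map_zero]
  -- Step 2
  have step2 : RingHom.ker f ≤ Ideal.span
      {(MvPowerSeries.X 0 * MvPowerSeries.X 1 - MvPowerSeries.C α : PA)} ⊔
        Ideal.map ι (maximalIdeal A) • RingHom.ker f := by
    intro z hz
    obtain ⟨j, hj, w, hw, rfl⟩ := Submodule.mem_sup.mp (step1 z hz)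
    have hfw : f w = 0 := by
      have hfj : f j = 0 := by
        obtain ⟨t, rfl⟩ := Ideal.mem_span_singleton'.mp hj
        rw [map_mul, hrel, mul_zero]
      rw [RingHom.mem_ker, map_add, hfj, zero_add] at hz
      exact hz
    refine Submodule.add_mem_sup hj ?_
    rw [smul_eq_mul]
    exact mem_mul_ker_of_flat ι f hfι hf (maximalIdeal A) (IsNoetherian.noetherian _) w hw hfw
  -- Nakayama
  have hjac : Ideal.map ι (maximalIdeal A) ≤ Ideal.jacobson ⊥ := by
    rw [IsLocalRing.jacobson_eq_maximalIdeal ⊥ bot_ne_top, Ideal.map_le_iff_le_comap]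
    intro a ha
    rw [Ideal.mem_comap, IsLocalRing.mem_maximalIdeal, mem_nonunits_iff]
    intro hunit
    have h1 : IsUnit (algebraMap A Bh a) := by rw [← hfι]; exact hunit.map f
    have h2 : algebraMap A Bh a ∈ maximalIdeal Bh := by
      rw [IsScalarTower.algebraMap_apply A B Bh, AdicCompletion.maximalIdeal_eq_map (R := B)]
      apply Ideal.mem_map_of_mem
      exact map_le A B (Ideal.mem_map_of_mem _ ha)
    exact (IsLocalRing.mem_maximalIdeal _).mp h2 h1
  exact Submodule.le_of_le_smul_of_le_jacobson_bot (IsNoetherian.noetherian _) hjac step2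

theorem node_iso [Module.Flat A B]
    (hres : Function.Bijective (ResidueField.map (algebraMap A B)))
    (u v : B) (hu : u ∈ maximalIdeal B) (hv : v ∈ maximalIdeal B)
    (huv : u * v ∈ (maximalIdeal A).map (algebraMap A B))
    (hgen : maximalIdeal B = Ideal.span {u, v} ⊔ (maximalIdeal A).map (algebraMap A B))
    (hfib : ∃ e : Ch ≃+* TT,
      ∀ a : A, e (algebraMap (B ⧸ (maximalIdeal A).map (algebraMap A B)) _
          (Ideal.Quotient.mk _ (algebraMap A B a))) =
        Ideal.Quotient.mk _ (MvPowerSeries.C (residue A a))) :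
    ∃ (α : Ah) (_ : α ∈ (maximalIdeal A).map (algebraMap A Ah))
      (ψ : (PA ⧸ Ideal.span
          {(MvPowerSeries.X 0 * MvPowerSeries.X 1 - MvPowerSeries.C α : PA)}) ≃ₐ[A] Bh),
      ψ (Ideal.Quotient.mk _ (MvPowerSeries.X 0)) - algebraMap B Bh u ∈
          (maximalIdeal A).map (algebraMap A Bh) ∧
        ψ (Ideal.Quotient.mk _ (MvPowerSeries.X 1)) - algebraMap B Bh v ∈
          (maximalIdeal A).map (algebraMap A Bh) := by
  obtain ⟨e, he⟩ := hfib
  obtain ⟨α, f, hα, hf, hfC, hrel, hu', hv'⟩ := node_aux A B hres u v hu hv huv hgen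
  have hinj := node_inj A B e he α f hα hf hfC hrel
  have hker : ∀ x ∈ Ideal.span
      {(MvPowerSeries.X 0 * MvPowerSeries.X 1 - MvPowerSeries.C α : PA)}, f x = 0 := by
    intro x hx
    obtain ⟨t, rfl⟩ := Ideal.mem_span_singleton'.mp hx
    rw [map_mul, hrel, mul_zero]
  let F : (PA ⧸ Ideal.span
      {(MvPowerSeries.X 0 * MvPowerSeries.X 1 - MvPowerSeries.C α : PA)}) →+* Bh :=
    Ideal.Quotient.lift _ f hker
  have hFmk : ∀ x, F (Ideal.Quotient.mk _ x) = f x := fun x => rfl
  have hFinj : Function.Injective F := RingHom.lift_injective_of_ker_le_ideal _ hker hinj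
  have hFsurj : Function.Surjective F := by
    intro y
    obtain ⟨x, rfl⟩ := hf y
    exact ⟨Ideal.Quotient.mk _ x, rfl⟩
  let G : (PA ⧸ Ideal.span
      {(MvPowerSeries.X 0 * MvPowerSeries.X 1 - MvPowerSeries.C α : PA)}) →ₐ[A] Bh :=
    { F with
      commutes' := by
        intro a
        change F (algebraMap A (PA ⧸ Ideal.span
          {(MvPowerSeries.X 0 * MvPowerSeries.X 1 - MvPowerSeries.C α : PA)}) a) = _
        have e1 : algebraMap A (PA ⧸ Ideal.span
            {(MvPowerSeries.X 0 * MvPowerSeries.X 1 - MvPowerSeries.C α : PA)}) a =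
            Ideal.Quotient.mk _ (MvPowerSeries.C (algebraMap A Ah a)) := by
          rw [IsScalarTower.algebraMap_apply A PA, MvPowerSeries.algebraMap_apply]
          rfl
        rw [e1, hFmk, hfC]
        have := congrArg (fun g => g a) (ψ₀_comp A B)
        simp only [RingHom.comp_apply] at this
        rw [this]; rfl }
  have hα' : α ∈ (maximalIdeal A).map (algebraMap A Ah) := by
    rw [← AdicCompletion.maximalIdeal_eq_map (R := A)]; exact hα
  refine ⟨α, hα', AlgEquiv.ofBijective G ⟨hFinj, hFsurj⟩, ?_, ?_⟩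
  · change f (MvPowerSeries.X 0) - _ ∈ _
    exact hu'
  · change f (MvPowerSeries.X 1) - _ ∈ _
    exact hv'

end

end Groth.Agent.Helper3.NodeCompl
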