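import Mathlib
import Groth.Agent.Lib.Helper3.NodeCompl1

/-!
# Equivariant successive approximation for `u v = ψ α` (helper3)
-/

set_option autoImplicit false
universe u v

namespace Groth.Agent.Helper3.NodeCompl

variable {Λ : Type u} {S : Type v} [CommRing Λ] [CommRing S] (ψ : Λ →+* S) (𝔞 : Ideal Λ)

local notation "𝔟" => Ideal.map ψ 𝔞

section Equiv

variable (σ : S →+* S) (hσψ : ∀ a, σ (ψ a) = ψ a)

include hσψ in
theorem sigma_mem_pow (n : ℕ) {x : S} (hx : x ∈ 𝔟 ^ n) : σ x ∈ 𝔟 ^ n := by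
  have h1 : Ideal.map σ 𝔟 = 𝔟 := by
    rw [Ideal.map_map]
    congr 1
    ext a
    exact hσψ a
  have h2 := Ideal.mem_map_of_mem σ hx
  rw [Ideal.map_pow, h1] at h2
  exact h2

variable (hσ2 : ∀ s, σ (σ s) = s)
  (ξ η h ε : S) (hξ : ξ * ξ = 1) (hη : η * η = 1) (hσξ : σ ξ = ξ) (hση : σ η = η)
  (hσh : σ h = h) (hh : h + h = 1) (hε : ε = ξ * η) (δ : Λ) (hδ : ψ δ = h * (1 + ε))
  (hδ2 : δ * δ = δ)

include hσψ hσ2 hξ hη hσξ hση hσh hh hε hδ hδ2 in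
/-- one equivariant step of the approximation -/
theorem exists_step_equiv (u₀ v₀ : S)
    (hE : ∀ b : S, ∃ (c : Λ) (p q : S), b - ψ c - u₀ * p - v₀ * q ∈ 𝔟) (n : ℕ)
    (u v : S) (α : Λ) (hu : u - u₀ ∈ 𝔟) (hv : v - v₀ ∈ 𝔟)
    (hσu : σ u = ξ * u) (hσv : σ v = η * v) (hδα : δ * α = α)
    (hn : u * v - ψ α ∈ 𝔟 ^ (n + 1)) :
    ∃ (u' v' : S) (α' : Λ), u' - u ∈ 𝔟 ^ (n + 1) ∧ v' - v ∈ 𝔟 ^ (n + 1) ∧ α' - α ∈ 𝔞 ^ (n + 1) ∧
      σ u' = ξ * u' ∧ σ v' = η * v' ∧ δ * α' = α' ∧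
      u' * v' - ψ α' ∈ 𝔟 ^ (n + 2) := by
  have hE' : ∀ b : S, ∃ (c : Λ) (p q : S), b - ψ c - u * p - v * q ∈ 𝔟 := by
    intro b
    obtain ⟨c, p, q, hb⟩ := hE b
    refine ⟨c, p, q, ?_⟩
    have e : b - ψ c - u * p - v * q =
        (b - ψ c - u₀ * p - v₀ * q) - (u - u₀) * p - (v - v₀) * q := by ring
    rw [e]
    exact Ideal.sub_mem _ (Ideal.sub_mem _ hb (Ideal.mul_mem_right _ _ hu))
      (Ideal.mul_mem_right _ _ hv)
  obtain ⟨a, ha, p, hp, q, hq, hr⟩ := exists_decomp ψ 𝔞 u v hE' (n + 1) _ hn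
  have hεε : ε * ε = 1 := by rw [hε]; linear_combination (η * η) * hξ + hη
  have hεξ : ε * ξ = η := by rw [hε]; linear_combination η * hξ
  have hεη : ε * η = ξ := by rw [hε]; linear_combination ξ * hη
  have hσε : σ ε = ε := by rw [hε, map_mul, hσξ, hση]
  have hh2 : h * 2 = 1 := by linear_combination hh
  have hψα : ε * ψ α = ψ α := by
    have h1 : ψ α = h * (1 + ε) * ψ α := by rw [← hδ, ← map_mul, hδα]
    linear_combination (ε - 1) * h1 + (h * ψ α) * hεε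
  obtain ⟨E, hEdef⟩ : ∃ E, E = u * v - ψ α := ⟨_, rfl⟩
  rw [← hEdef] at hr
  have hσE : σ E = ε * E := by
    rw [hEdef, map_sub, map_mul, hσu, hσv, hσψ]
    linear_combination (-(u * v)) * hε + hψα
  obtain ⟨r, hrdef⟩ : ∃ r, r = E - ψ a - u * p - v * q := ⟨_, rfl⟩
  rw [← hrdef] at hr
  have hσr : σ r ∈ 𝔟 ^ (n + 1 + 1) := sigma_mem_pow ψ 𝔞 σ hσψ _ hr
  obtain ⟨p', hp'def⟩ : ∃ p', p' = h * (p + η * σ p) := ⟨_, rfl⟩
  obtain ⟨q', hq'def⟩ : ∃ q', q' = h * (q + ξ * σ q) := ⟨_, rfl⟩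
  have hp'mem : p' ∈ 𝔟 ^ (n + 1) := by
    rw [hp'def]
    exact Ideal.mul_mem_left _ _ (Ideal.add_mem _ hp
      (Ideal.mul_mem_left _ _ (sigma_mem_pow ψ 𝔞 σ hσψ _ hp)))
  have hq'mem : q' ∈ 𝔟 ^ (n + 1) := by
    rw [hq'def]
    exact Ideal.mul_mem_left _ _ (Ideal.add_mem _ hq
      (Ideal.mul_mem_left _ _ (sigma_mem_pow ψ 𝔞 σ hσψ _ hq)))
  have hσp' : σ p' = η * p' := by
    rw [hp'def, map_mul, map_add, map_mul, hσh, hση, hσ2]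
    linear_combination (-(h * σ p)) * hη
  have hσq' : σ q' = ξ * q' := by
    rw [hq'def, map_mul, map_add, map_mul, hσh, hσξ, hσ2]
    linear_combination (-(h * σ q)) * hξ
  have key : E - ψ (δ * a) - u * p' - v * q' = h * (r + ε * σ r) := by
    rw [hrdef, map_sub σ, map_sub σ, map_sub σ, map_mul σ, map_mul σ, hσE, hσψ, hσu, hσv,
      map_mul ψ, hδ, hp'def, hq'def]
    linear_combination (-E) * hh2 + (-(h * E)) * hεε + (u * h * σ p) * hεξ +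
      (v * h * σ q) * hεη
  refine ⟨u - q', v - p', α + δ * a, ?_, ?_, ?_, ?_, ?_, ?_, ?_⟩
  · rw [sub_sub_cancel_left]; exact Ideal.neg_mem_iff _ |>.mpr hq'mem
  · rw [sub_sub_cancel_left]; exact Ideal.neg_mem_iff _ |>.mpr hp'mem
  · rw [add_sub_cancel_left]; exact Ideal.mul_mem_left _ _ ha
  · rw [map_sub, hσu, hσq']; ring
  · rw [map_sub, hσv, hσp']; ring
  · rw [mul_add, hδα, ← mul_assoc, hδ2]
  · have e : (u - q') * (v - p') - ψ (α + δ * a) =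
        (E - ψ (δ * a) - u * p' - v * q') + q' * p' := by rw [hEdef, map_add]; ring
    rw [e, key]
    apply Ideal.add_mem
    · exact Ideal.mul_mem_left _ _ (Ideal.add_mem _ hr (Ideal.mul_mem_left _ _ hσr))
    · have : 𝔟 ^ (n + 1) * 𝔟 ^ (n + 1) ≤ 𝔟 ^ (n + 2) := by
        rw [← pow_add]; exact Ideal.pow_le_pow_right (by omega)
      exact this (Ideal.mul_mem_mul hq'mem hp'mem)

include hσψ hσ2 hξ hη hσξ hση hσh hh hε hδ hδ2 in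
theorem main_equiv [IsAdicComplete 𝔟 S] [IsAdicComplete 𝔞 Λ] (u₀ v₀ : S)
    (hE : ∀ b : S, ∃ (c : Λ) (p q : S), b - ψ c - u₀ * p - v₀ * q ∈ 𝔟)
    (h0 : u₀ * v₀ ∈ 𝔟) (hσu₀ : σ u₀ = ξ * u₀) (hσv₀ : σ v₀ = η * v₀) :
    ∃ (α : Λ) (u v : S), α ∈ 𝔞 ∧ u - u₀ ∈ 𝔟 ∧ v - v₀ ∈ 𝔟 ∧ u * v = ψ α ∧
      σ u = ξ * u ∧ σ v = η * v ∧ δ * α = α := by
  let P : ℕ → S × S × Λ → Prop := fun n t =>
    t.1 - u₀ ∈ 𝔟 ∧ t.2.1 - v₀ ∈ 𝔟 ∧ t.2.2 ∈ 𝔞 ∧ σ t.1 = ξ * t.1 ∧ σ t.2.1 = η * t.2.1 ∧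
      δ * t.2.2 = t.2.2 ∧ t.1 * t.2.1 - ψ t.2.2 ∈ 𝔟 ^ (n + 1)
  have hstep : ∀ (n : ℕ) (t : {t // P n t}), ∃ t' : {t // P (n + 1) t},
      t'.1.1 - t.1.1 ∈ 𝔟 ^ (n + 1) ∧ t'.1.2.1 - t.1.2.1 ∈ 𝔟 ^ (n + 1) ∧
        t'.1.2.2 - t.1.2.2 ∈ 𝔞 ^ (n + 1) := by
    rintro n ⟨⟨u, v, α⟩, hu, hv, hα, hσu, hσv, hδα, h'⟩
    obtain ⟨u', v', α', hu', hv', hα', hσu', hσv', hδα', h''⟩ :=
      exists_step_equiv ψ 𝔞 σ hσψ hσ2 ξ η h ε hξ hη hσξ hση hσh hh hε δ hδ hδ2 u₀ v₀ hE n u v α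
        hu hv hσu hσv hδα h'
    have hle : 𝔟 ^ (n + 1) ≤ 𝔟 := Ideal.pow_le_self (Nat.succ_ne_zero n)
    have hleA : 𝔞 ^ (n + 1) ≤ 𝔞 := Ideal.pow_le_self (Nat.succ_ne_zero n)
    refine ⟨⟨(u', v', α'), ?_, ?_, ?_, hσu', hσv', hδα', h''⟩, hu', hv', hα'⟩
    · have : u' - u₀ = (u' - u) + (u - u₀) := by ring
      rw [this]; exact Ideal.add_mem _ (hle hu') hu
    · have : v' - v₀ = (v' - v) + (v - v₀) := by ring
      rw [this]; exact Ideal.add_mem _ (hle hv') hv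
    · have : α' = (α' - α) + α := by ring
      rw [this]; exact Ideal.add_mem _ (hleA hα') hα
  choose nxt hnxt using hstep
  let t0 : {t // P 0 t} := ⟨(u₀, v₀, 0), by
    refine ⟨by simp, by simp, Ideal.zero_mem _, hσu₀, hσv₀, mul_zero _, ?_⟩
    simpa using h0⟩
  let sq : (n : ℕ) → {t // P n t} := fun n => Nat.rec t0 (fun n t => nxt n t) n
  have hsq : ∀ n, sq (n + 1) = nxt n (sq n) := fun n => rfl
  let us : ℕ → S := fun n => (sq n).1.1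
  let vs : ℕ → S := fun n => (sq n).1.2.1
  let αs : ℕ → Λ := fun n => (sq n).1.2.2
  have hus : ∀ n, us (n + 1) - us n ∈ 𝔟 ^ (n + 1) := fun n => by
    change (sq (n + 1)).1.1 - (sq n).1.1 ∈ _
    rw [hsq]; exact (hnxt n (sq n)).1
  have hvs : ∀ n, vs (n + 1) - vs n ∈ 𝔟 ^ (n + 1) := fun n => by
    change (sq (n + 1)).1.2.1 - (sq n).1.2.1 ∈ _
    rw [hsq]; exact (hnxt n (sq n)).2.1
  have hαs : ∀ n, αs (n + 1) - αs n ∈ 𝔞 ^ (n + 1) := fun n => by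
    change (sq (n + 1)).1.2.2 - (sq n).1.2.2 ∈ _
    rw [hsq]; exact (hnxt n (sq n)).2.2
  obtain ⟨u, hu⟩ := exists_limit 𝔟 us hus
  obtain ⟨v, hv⟩ := exists_limit 𝔟 vs hvs
  obtain ⟨α, hα⟩ := exists_limit 𝔞 αs hαs
  have hP : ∀ n, P n (us n, vs n, αs n) := fun n => (sq n).2
  have hHS : IsHausdorff 𝔟 S := inferInstance
  have hHΛ : IsHausdorff 𝔞 Λ := inferInstance
  refine ⟨α, u, v, ?_, ?_, ?_, ?_, ?_, ?_, ?_⟩
  · have h1 := hα 1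
    rw [pow_one] at h1
    have : α = (α - αs 1) + αs 1 := by ring
    rw [this]; exact Ideal.add_mem _ h1 (hP 1).2.2.1
  · have h1 := hu 1
    rw [pow_one] at h1
    have : u - u₀ = (u - us 1) + (us 1 - u₀) := by ring
    rw [this]; exact Ideal.add_mem _ h1 (hP 1).1
  · have h1 := hv 1
    rw [pow_one] at h1
    have : v - v₀ = (v - vs 1) + (vs 1 - v₀) := by ring
    rw [this]; exact Ideal.add_mem _ h1 (hP 1).2.1
  · rw [← sub_eq_zero]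
    refine hHS.haus' _ fun n => ?_
    rw [SModEq.zero, smul_eq_mul, Ideal.mul_top]
    have e : u * v - ψ α = (u - us n) * v + us n * (v - vs n) +
        (us n * vs n - ψ (αs n)) - ψ (α - αs n) := by rw [map_sub]; ring
    rw [e]
    have h4 : ψ (α - αs n) ∈ 𝔟 ^ n := by
      rw [← Ideal.map_pow]; exact Ideal.mem_map_of_mem _ (hα n)
    have h3 : us n * vs n - ψ (αs n) ∈ 𝔟 ^ n :=
      Ideal.pow_le_pow_right (Nat.le_succ n) (hP n).2.2.2.2.2.2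
    exact Ideal.sub_mem _ (Ideal.add_mem _ (Ideal.add_mem _ (Ideal.mul_mem_right _ _ (hu n))
      (Ideal.mul_mem_left _ _ (hv n))) h3) h4
  · rw [← sub_eq_zero]
    refine hHS.haus' _ fun n => ?_
    rw [SModEq.zero, smul_eq_mul, Ideal.mul_top]
    have e : σ u - ξ * u = σ (u - us n) - ξ * (u - us n) := by
      rw [map_sub, (hP n).2.2.2.1]; ring
    rw [e]
    exact Ideal.sub_mem _ (sigma_mem_pow ψ 𝔞 σ hσψ _ (hu n)) (Ideal.mul_mem_left _ _ (hu n))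
  · rw [← sub_eq_zero]
    refine hHS.haus' _ fun n => ?_
    rw [SModEq.zero, smul_eq_mul, Ideal.mul_top]
    have e : σ v - η * v = σ (v - vs n) - η * (v - vs n) := by
      rw [map_sub, (hP n).2.2.2.2.1]; ring
    rw [e]
    exact Ideal.sub_mem _ (sigma_mem_pow ψ 𝔞 σ hσψ _ (hv n)) (Ideal.mul_mem_left _ _ (hv n))
  · rw [← sub_eq_zero]
    refine hHΛ.haus' _ fun n => ?_
    rw [SModEq.zero, smul_eq_mul, Ideal.mul_top]
    have e : δ * α - α = δ * (α - αs n) - (α - αs n) := by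
      have := (hP n).2.2.2.2.2.1
      linear_combination this
    rw [e]
    exact Ideal.sub_mem _ (Ideal.mul_mem_left _ _ (hα n)) (hα n)

end Equiv

end Groth.Agent.Helper3.NodeCompl
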