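import Mathlib
import Groth.Agent.Lib.Helper3.NodeCompl3

/-!
# Injectivity of `R[[x,y]]/(xy - t) → S` from flatness and the closed fibre (helper3)
-/

set_option autoImplicit false
set_option linter.style.haveILetI false
universe u

namespace Groth.Agent.Helper3.NodeCompl

open IsLocalRing MvPowerSeries

theorem ker_le_of_flat_of_fibre {R S N : Type u} [CommRing R] [IsLocalRing R] [IsNoetherianRing R]
    [CommRing S] [Algebra R S] [Module.Flat R S] [CommRing N] [IsNoetherianRing N]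
    (t : R) (f : MvPowerSeries (Fin 2) R →+* S) (hf : Function.Surjective f)
    (hfC : ∀ r, f (C r) = algebraMap R S r)
    (hrel : f (X 0 * X 1 - C t) = 0)
    (θ₀ : MvPowerSeries (Fin 2) R →+* N) (hθ₀ : Function.Surjective θ₀)
    (hker₀ : RingHom.ker θ₀ ≤ Ideal.span {(X 0 * X 1 - C t : MvPowerSeries (Fin 2) R)} ⊔
      Ideal.map C (maximalIdeal R))
    (θ : S →+* N) (hθ : Function.Surjective θ)
    (hθm : ∀ r ∈ maximalIdeal R, θ (algebraMap R S r) = 0) :
    RingHom.ker f ≤ Ideal.span {(X 0 * X 1 - C t : MvPowerSeries (Fin 2) R)} := by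
  classical
  let Φ : MvPowerSeries (Fin 2) R →+* N := θ.comp f
  have hΦsurj : Function.Surjective Φ := hθ.comp hf
  have hΦJ : Φ (X 0 * X 1 - C t) = 0 := by
    change θ (f _) = 0
    rw [hrel, map_zero]
  have hΦ𝔪 : Ideal.map (C : R →+* MvPowerSeries (Fin 2) R) (maximalIdeal R) ≤ RingHom.ker Φ := by
    rw [Ideal.map_le_iff_le_comap]
    intro a ha
    rw [Ideal.mem_comap, RingHom.mem_ker]
    change θ (f (C a)) = 0
    rw [hfC, hθm a ha]
  have hker : RingHom.ker θ₀ ≤ RingHom.ker Φ := by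
    intro z hz
    obtain ⟨j, hj, w, hw, rfl⟩ := Submodule.mem_sup.mp (hker₀ hz)
    obtain ⟨s, rfl⟩ := Ideal.mem_span_singleton'.mp hj
    rw [RingHom.mem_ker, map_add, map_mul, hΦJ, mul_zero, zero_add]
    exact hΦ𝔪 hw
  let Φbar : N →+* N := θ₀.liftOfSurjective hθ₀ ⟨Φ, hker⟩
  have hΦbar : ∀ z, Φbar (θ₀ z) = Φ z := fun z =>
    RingHom.liftOfSurjective_comp_apply θ₀ hθ₀ ⟨Φ, hker⟩ z
  have hΦbarsurj : Function.Surjective Φbar := by
    intro n
    obtain ⟨z, rfl⟩ := hΦsurj n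
    exact ⟨θ₀ z, hΦbar z⟩
  have hΦbarinj := injective_of_surjective_endo Φbar hΦbarsurj
  have step1 : ∀ z, f z = 0 → z ∈ Ideal.span {(X 0 * X 1 - C t : MvPowerSeries (Fin 2) R)} ⊔
      Ideal.map C (maximalIdeal R) := by
    intro z hz
    apply hker₀
    rw [RingHom.mem_ker]
    apply hΦbarinj
    rw [hΦbar, map_zero]
    change θ (f z) = 0
    rw [hz, map_zero]
  have step2 : RingHom.ker f ≤ Ideal.span {(X 0 * X 1 - C t : MvPowerSeries (Fin 2) R)} ⊔
      Ideal.map (C : R →+* MvPowerSeries (Fin 2) R) (maximalIdeal R) • RingHom.ker f := by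
    intro z hz
    obtain ⟨j, hj, w, hw, rfl⟩ := Submodule.mem_sup.mp (step1 z hz)
    have hfw : f w = 0 := by
      have hfj : f j = 0 := by
        obtain ⟨s, rfl⟩ := Ideal.mem_span_singleton'.mp hj
        rw [map_mul, hrel, mul_zero]
      rw [RingHom.mem_ker, map_add, hfj, zero_add] at hz
      exact hz
    refine Submodule.add_mem_sup hj ?_
    rw [smul_eq_mul]
    exact mem_mul_ker_of_flat (C : R →+* MvPowerSeries (Fin 2) R) f hfC hf (maximalIdeal R)
      (IsNoetherian.noetherian _) w hw hfw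
  have hjac : Ideal.map (C : R →+* MvPowerSeries (Fin 2) R) (maximalIdeal R) ≤
      Ideal.jacobson ⊥ := by
    rw [IsLocalRing.jacobson_eq_maximalIdeal ⊥ bot_ne_top, Ideal.map_le_iff_le_comap]
    intro a ha
    rw [Ideal.mem_comap, IsLocalRing.mem_maximalIdeal, mem_nonunits_iff,
      MvPowerSeries.isUnit_iff_constantCoeff, constantCoeff_C]
    exact (IsLocalRing.mem_maximalIdeal _).mp ha
  exact Submodule.le_of_le_smul_of_le_jacobson_bot (IsNoetherian.noetherian _) hjac step2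

/-- the kernel of reduction of coefficients followed by the quotient by `xy` -/
theorem ker_reduction_le {R k : Type u} [CommRing R] [IsLocalRing R] [IsNoetherianRing R]
    [Field k] (ρ : R →+* k) (hρ : Function.Surjective ρ)
    (hρker : RingHom.ker ρ ≤ maximalIdeal R) (t : R) (ht : t ∈ maximalIdeal R)
    (J₀ : Ideal (MvPowerSeries (Fin 2) k))
    (hJ₀ : J₀ = Ideal.span {(X 0 * X 1 - C 0 : MvPowerSeries (Fin 2) k)}) :
    RingHom.ker ((Ideal.Quotient.mk J₀).comp (MvPowerSeries.map ρ)) ≤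
      Ideal.span {(X 0 * X 1 - C t : MvPowerSeries (Fin 2) R)} ⊔
        Ideal.map C (maximalIdeal R) := by
  intro z hz
  rw [RingHom.mem_ker] at hz
  change Ideal.Quotient.mk J₀ (MvPowerSeries.map ρ z) = 0 at hz
  rw [Ideal.Quotient.eq_zero_iff_mem, hJ₀, Ideal.mem_span_singleton'] at hz
  obtain ⟨g, hg⟩ := hz
  obtain ⟨g', rfl⟩ := map_surjective ρ hρ g
  have h1 : MvPowerSeries.map ρ (z - g' * (X 0 * X 1)) = 0 := by
    rw [map_sub, map_mul, map_mul, MvPowerSeries.map_X, MvPowerSeries.map_X, ← hg, map_zero,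
      sub_zero, sub_self]
  have h2 := mem_map_C_of_map_eq_zero ρ (maximalIdeal R) (IsNoetherian.noetherian _) hρker _ h1
  have h3 : z = g' * (X 0 * X 1 - C t) + (g' * C t + (z - g' * (X 0 * X 1))) := by ring
  rw [h3]
  refine Ideal.add_mem _ (Ideal.mem_sup_left (Ideal.mul_mem_left _ _ (Ideal.subset_span rfl)))
    (Ideal.mem_sup_right ?_)
  exact Ideal.add_mem _ (Ideal.mul_mem_left _ _ (Ideal.mem_map_of_mem _ ht)) h2

end Groth.Agent.Helper3.NodeCompl
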