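import Mathlib
import Groth.Agent.Lib.Helper3.NodeDef1
import Groth.Agent.Lib.Helper3.NodeDef2
import Groth.Agent.Lib.Helper3.NodeAut5

/-!
# Equivariant deformations of the node with a branch-preserving involution (helper3)
-/

set_option autoImplicit false
set_option linter.style.haveILetI false
universe u

namespace Groth.Agent.Helper3.NodeAut

open IsLocalRing MvPowerSeries SpinCurv Groth.Agent.Helper22.NodeAlpha Groth.Agent.Helper14

section N

variable {k : Type u} [Field k]

theorem mem_span_X_of_pY_eq_zero {a : NN k} (h : pY a = 0) : a ∈ Ideal.span {XN k} := by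
  obtain ⟨c, f, g, rfl⟩ := decomp a
  rw [pY_nf] at h
  obtain ⟨hc, hg⟩ := C_add_X_mul_eq_zero h
  rw [hc, hg, alg0, oY0, mul_zero, zero_add, add_zero]
  exact Ideal.mem_span_singleton'.mpr ⟨oXN f, mul_comm _ _⟩

theorem pY_eq_zero_of_mem {a : NN k} (h : a ∈ Ideal.span {XN k}) : pY a = 0 := by
  obtain ⟨w, rfl⟩ := Ideal.mem_span_singleton'.mp h
  rw [map_mul pY, pY_X, mul_zero]

theorem isPrime_span_X : (Ideal.span {XN k}).IsPrime := by
  have h : Ideal.span {XN k} = RingHom.ker (pY (k := k)).toRingHom := by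
    ext a
    rw [RingHom.mem_ker]
    exact ⟨fun ha => pY_eq_zero_of_mem ha, fun ha => mem_span_X_of_pY_eq_zero ha⟩
  rw [h]
  exact RingHom.ker_isPrime _

theorem isPrime_span_Y : (Ideal.span {YN k}).IsPrime := by
  have h : Ideal.span {YN k} = RingHom.ker (pX (k := k)).toRingHom := by
    ext a
    rw [RingHom.mem_ker]
    exact ⟨fun ha => pX_eq_zero_of_mem ha, fun ha => mem_span_Y_of_pX_eq_zero ha⟩
  rw [h]
  exact RingHom.ker_isPrime _

theorem YN_not_mem_span_X : YN k ∉ Ideal.span {XN k} := by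
  intro h
  have h3 := pY_eq_zero_of_mem h
  rw [pY_Y] at h3
  exact PowerSeries.X_ne_zero h3

theorem XN_not_mem_span_Y : XN k ∉ Ideal.span {YN k} := by
  intro h
  have h3 := pX_eq_zero_of_mem h
  rw [pX_X] at h3
  exact PowerSeries.X_ne_zero h3

/-- the residue map of the node -/
noncomputable def resN : NN k →+* k :=
  (PowerSeries.constantCoeff (R := k)).comp (pX (k := k)).toRingHom

theorem resN_apply (a : NN k) : resN a = PowerSeries.constantCoeff (pX a) := rfl

theorem resN_alg (c : k) : resN (algebraMap k (NN k) c) = c := by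
  rw [resN_apply, AlgHom.commutes]
  exact PowerSeries.constantCoeff_C c

theorem resN_X : resN (XN k) = 0 := by
  rw [resN_apply, pX_X, PowerSeries.constantCoeff_X]

theorem resN_Y : resN (YN k) = 0 := by
  rw [resN_apply, pX_Y]
  exact map_zero _

theorem resN_eq_zero_of_mem {a : NN k} (ha : a ∈ maximalIdeal (NN k)) : resN a = 0 := by
  rw [maximalIdeal_NN, Ideal.mem_span_pair] at ha
  obtain ⟨p, q, rfl⟩ := ha
  rw [map_add resN, map_mul resN, map_mul resN, resN_X, resN_Y, mul_zero, mul_zero, add_zero]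

theorem sub_resN_mem (a : NN k) : a - algebraMap k (NN k) (resN a) ∈ maximalIdeal (NN k) := by
  obtain ⟨c, hc⟩ := exists_sub_mem_quot (k := k) _ a
  have h := resN_eq_zero_of_mem hc
  rw [map_sub resN, resN_alg, sub_eq_zero] at h
  rw [h]; exact hc

theorem isUnit_of_resN_ne_zero {a : NN k} (ha : resN a ≠ 0) : IsUnit a := by
  by_contra hnu
  have hm : a ∈ maximalIdeal (NN k) := (IsLocalRing.mem_maximalIdeal _).mpr hnu
  exact ha (resN_eq_zero_of_mem hm)

end N

section S

variable {k R S : Type u} [Field k] [CommRing R] [IsLocalRing R] [IsNoetherianRing R]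
  [CommRing S] [IsLocalRing S] [IsNoetherianRing S]
  [Algebra k R] [Algebra R S] [Algebra k S] [IsScalarTower k R S] [IsLocalHom (algebraMap R S)]
  (θ : S →ₐ[k] NN k) (hθ : Function.Surjective θ)
  (hker : ∀ s, θ s = 0 ↔ s ∈ Ideal.map (algebraMap R S) (maximalIdeal R))
  (σ : S ≃ₐ[R] S) (hσ : ∀ s, σ (σ s) = s)

include hker in
theorem theta_sigma_eq_zero {s : S} (h : θ s = 0) : θ (σ s) = 0 := by
  rw [hker] at h ⊢
  have hle : Ideal.map (algebraMap R S) (maximalIdeal R) ≤
      Ideal.comap (σ : S →+* S) (Ideal.map (algebraMap R S) (maximalIdeal R)) := by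
    rw [Ideal.map_le_iff_le_comap]
    intro r hr
    rw [Ideal.mem_comap, Ideal.mem_comap]
    change σ (algebraMap R S r) ∈ _
    rw [σ.commutes]
    exact Ideal.mem_map_of_mem _ hr
  exact hle h

include hθ hker in
theorem theta_mem_max_iff (s : S) : θ s ∈ maximalIdeal (NN k) ↔ s ∈ maximalIdeal S := by
  have hle : Ideal.map (algebraMap R S) (maximalIdeal R) ≤ maximalIdeal S :=
    NodeCompl.map_le R S
  constructor
  · intro h
    rw [IsLocalRing.mem_maximalIdeal, mem_nonunits_iff] at h ⊢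
    exact fun hu => h (hu.map θ)
  · intro h
    rw [IsLocalRing.mem_maximalIdeal, mem_nonunits_iff] at h ⊢
    intro hu
    apply h
    obtain ⟨n, hn⟩ := hu.exists_right_inv
    obtain ⟨s', rfl⟩ := hθ n
    have h0 : θ (s * s' - 1) = 0 := by rw [map_sub, map_mul, hn, map_one, sub_self]
    have h1 : s * s' - 1 ∈ maximalIdeal S := hle ((hker _).mp h0)
    have h2 : IsUnit (s * s') := isUnit_of_sub_one_mem h1
    exact isUnit_of_mul_isUnit_left h2

include hσ in
theorem sigma_mem_max {s : S} (h : s ∈ maximalIdeal S) : σ s ∈ maximalIdeal S := by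
  rw [IsLocalRing.mem_maximalIdeal, mem_nonunits_iff] at h ⊢
  intro hu
  apply h
  have := hu.map σ
  rwa [hσ] at this

include hθ hker hσ in
theorem resN_theta_sigma (s : S) : resN (θ (σ s)) = resN (θ s) := by
  obtain ⟨c, hc⟩ : ∃ c, c = resN (θ s) := ⟨_, rfl⟩
  rw [← hc]
  have h1 : θ (s - algebraMap k S c) ∈ maximalIdeal (NN k) := by
    rw [map_sub, AlgHom.commutes, hc]
    exact sub_resN_mem (θ s)
  have h2 : s - algebraMap k S c ∈ maximalIdeal S := (theta_mem_max_iff θ hθ hker _).mp h1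
  have h3 := sigma_mem_max σ hσ h2
  have h4 : σ (algebraMap k S c) = algebraMap k S c := by
    rw [IsScalarTower.algebraMap_apply k R S, σ.commutes]
  rw [map_sub, h4] at h3
  have h5 := (theta_mem_max_iff θ hθ hker _).mpr h3
  rw [map_sub, AlgHom.commutes] at h5
  have h6 := resN_eq_zero_of_mem h5
  rw [map_sub resN, resN_alg, sub_eq_zero] at h6
  exact h6

include hθ hker hσ in
theorem exists_equivariant_lift (h2 : (2 : k) ≠ 0) (z : NN k) (hz : z ≠ 0)
    (hQ : ∀ s, θ s ∈ Ideal.span {z} → θ (σ s) ∈ Ideal.span {z}) :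
    ∃ (ξ : k) (u₁ : S) (ε : NN k), ξ * ξ = 1 ∧ IsUnit ε ∧ θ u₁ = z * ε ∧
      σ u₁ = algebraMap k S ξ * u₁ := by
  obtain ⟨u₀, hu₀⟩ := hθ z
  have hz0 : θ u₀ ∈ Ideal.span {z} := by rw [hu₀]; exact Ideal.subset_span rfl
  obtain ⟨w, hw⟩ := Ideal.mem_span_singleton'.mp (hQ u₀ hz0)
  obtain ⟨a, ha⟩ := hθ w
  obtain ⟨ξ, hξdef⟩ : ∃ ξ, ξ = resN w := ⟨_, rfl⟩
  have hfix : ∀ c : k, σ (algebraMap k S c) = algebraMap k S c := fun c => by
    rw [IsScalarTower.algebraMap_apply k R S, σ.commutes]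
  have h0 : θ (σ u₀ - a * u₀) = 0 := by
    rw [map_sub, map_mul, ha, hu₀, ← hw, sub_self]
  have h1 := theta_sigma_eq_zero θ hker σ h0
  rw [map_sub σ, map_mul σ, hσ, map_sub θ, map_mul θ, hu₀, ← hw, sub_eq_zero] at h1
  have hrel : z = z * w * θ (σ a) := by
    linear_combination h1
  have hb : θ (σ a) - algebraMap k (NN k) ξ ∈ maximalIdeal (NN k) := by
    have := sub_resN_mem (θ (σ a))
    rwa [resN_theta_sigma θ hθ hker σ hσ, ha, ← hξdef] at this
  have hξ2 : ξ ^ 2 = 1 :=
    sq_eq_one_of_eq_mul hz hrel ξ (by rw [hξdef]; exact sub_resN_mem w) hb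
  have hξ : ξ * ξ = 1 := by rw [← sq]; exact hξ2
  refine ⟨ξ, algebraMap k S 2⁻¹ * (u₀ + algebraMap k S ξ * σ u₀),
    algebraMap k (NN k) 2⁻¹ * (1 + algebraMap k (NN k) ξ * w), hξ, ?_, ?_, ?_⟩
  · apply isUnit_of_resN_ne_zero
    rw [map_mul resN, map_add resN, map_one resN, map_mul resN, resN_alg, resN_alg, ← hξdef, hξ]
    have : (2⁻¹ : k) * (1 + 1) = 1 := by rw [one_add_one_eq_two]; exact inv_mul_cancel₀ h2
    rw [this]; exact one_ne_zero
  · rw [map_mul θ, map_add θ, map_mul θ, AlgHom.commutes, AlgHom.commutes, hu₀, ← hw]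
    ring
  · rw [map_mul σ, map_add σ, map_mul σ, hσ, hfix, hfix]
    have hS : algebraMap k S ξ * algebraMap k S ξ = 1 := by rw [← map_mul, hξ, map_one]
    linear_combination (-(algebraMap k S 2⁻¹ * σ u₀)) * hS

include hθ hker in
theorem comap_span_mem_minimalPrimes (z z' : NN k) (hzz : z * z' = 0)
    (hp : (Ideal.span {z}).IsPrime) (hnot : z' ∉ Ideal.span {z}) :
    Ideal.comap θ.toRingHom (Ideal.span {z}) ∈
      (Ideal.map (algebraMap R S) (maximalIdeal R)).minimalPrimes := by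
  obtain ⟨u₀, hu₀⟩ := hθ z
  obtain ⟨v₀, hv₀⟩ := hθ z'
  refine And.intro (And.intro (Ideal.comap_isPrime _ _) ?_) ?_
  · intro s hs
    rw [Ideal.mem_comap]
    change θ s ∈ _
    rw [(hker s).mpr hs]; exact Ideal.zero_mem _
  · rintro Q ⟨hQp, hQ⟩ hQle
    intro s hs
    have huv : u₀ * v₀ ∈ Q := hQ ((hker _).mp (by rw [map_mul, hu₀, hv₀, hzz]))
    have hu : u₀ ∈ Q := by
      rcases hQp.mem_or_mem huv with h | h
      · exact h
      · exfalso
        have := hQle h
        rw [Ideal.mem_comap] at this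
        change θ v₀ ∈ _ at this
        rw [hv₀] at this
        exact hnot this
    rw [Ideal.mem_comap] at hs
    change θ s ∈ _ at hs
    obtain ⟨w, hw⟩ := Ideal.mem_span_singleton'.mp hs
    obtain ⟨w', rfl⟩ := hθ w
    have hmem : s - w' * u₀ ∈ Q :=
      hQ ((hker _).mp (by rw [map_sub, map_mul, hu₀, hw, sub_self]))
    have e : s = (s - w' * u₀) + w' * u₀ := by ring
    rw [e]; exact Q.add_mem hmem (Q.mul_mem_left _ hu)

end S

end Groth.Agent.Helper3.NodeAut
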