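import Mathlib
import Groth.Agent.Lib.Helper3.NodeDef3

/-!
# Equivariant deformations of the node with a branch-preserving involution: main theorem (helper3)
-/

set_option autoImplicit false
set_option linter.style.haveILetI false
universe u

namespace Groth.Agent.Helper3.NodeAut

open IsLocalRing MvPowerSeries SpinCurv Groth.Agent.Helper22.NodeAlpha Groth.Agent.Helper14

theorem node_involution {k R S : Type u} [Field k] (h2 : (2 : k) ≠ 0)
    [CommRing R] [IsLocalRing R] [IsNoetherianRing R] [IsAdicComplete (maximalIdeal R) R]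
    [CommRing S] [IsLocalRing S] [IsNoetherianRing S] [IsAdicComplete (maximalIdeal S) S]
    [Algebra k R] [Algebra R S] [Algebra k S] [IsScalarTower k R S]
    [IsLocalHom (algebraMap R S)] [Module.Flat R S]
    (θ : S →ₐ[k] NN k) (hθ : Function.Surjective θ)
    (hker : ∀ s, θ s = 0 ↔ s ∈ Ideal.map (algebraMap R S) (maximalIdeal R))
    (σ : S ≃ₐ[R] S) (hσ : ∀ s, σ (σ s) = s)
    (hbr : ∀ P ∈ (Ideal.map (algebraMap R S) (maximalIdeal R)).minimalPrimes,
      Ideal.map (σ : S →+* S) P = P) :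
    ∃ (t : R) (ξ₁ ξ₂ : k), ξ₁ ^ 2 = 1 ∧ ξ₂ ^ 2 = 1 ∧ (ξ₁ = -ξ₂ → t = 0) ∧
      ∃ f : S ≃ₐ[R] (MvPowerSeries (Fin 2) R ⧸
          Ideal.span {(MvPowerSeries.X 0 * MvPowerSeries.X 1 - MvPowerSeries.C t :
            MvPowerSeries (Fin 2) R)}),
        f (σ (f.symm (Ideal.Quotient.mk _ (MvPowerSeries.X 0)))) =
          algebraMap k R ξ₂ • Ideal.Quotient.mk _ (MvPowerSeries.X 0) ∧
        f (σ (f.symm (Ideal.Quotient.mk _ (MvPowerSeries.X 1)))) =
          algebraMap k R ξ₁ • Ideal.Quotient.mk _ (MvPowerSeries.X 1) := by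
  classical
  -- stability of the branches
  have hQX : ∀ s, θ s ∈ Ideal.span {XN k} → θ (σ s) ∈ Ideal.span {XN k} := by
    intro s hs
    have hP := hbr _ (comap_span_mem_minimalPrimes θ hθ hker (XN k) (YN k) (XN_mul_YN k)
      isPrime_span_X YN_not_mem_span_X)
    have hmem : s ∈ Ideal.comap θ.toRingHom (Ideal.span {XN k}) := hs
    have := Ideal.mem_map_of_mem (σ : S →+* S) hmem
    rw [hP] at this
    exact this
  have hQY : ∀ s, θ s ∈ Ideal.span {YN k} → θ (σ s) ∈ Ideal.span {YN k} := by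
    intro s hs
    have hP := hbr _ (comap_span_mem_minimalPrimes θ hθ hker (YN k) (XN k)
      (by rw [mul_comm]; exact XN_mul_YN k) isPrime_span_Y XN_not_mem_span_Y)
    have hmem : s ∈ Ideal.comap θ.toRingHom (Ideal.span {YN k}) := hs
    have := Ideal.mem_map_of_mem (σ : S →+* S) hmem
    rw [hP] at this
    exact this
  obtain ⟨ξ, u₁, εX, hξ, hεX, hθu₁, hσu₁⟩ :=
    exists_equivariant_lift θ hθ hker σ hσ h2 (XN k) XN_ne_zero hQX
  obtain ⟨η, v₁, εY, hη, hεY, hθv₁, hσv₁⟩ :=
    exists_equivariant_lift θ hθ hker σ hσ h2 (YN k) YN_ne_zero hQY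
  obtain ⟨εX', hεX'⟩ := hεX.exists_right_inv
  obtain ⟨εY', hεY'⟩ := hεY.exists_right_inv
  have hle : Ideal.map (algebraMap R S) (maximalIdeal R) ≤ maximalIdeal S := NodeCompl.map_le R S
  haveI : IsAdicComplete (Ideal.map (algebraMap R S) (maximalIdeal R)) S :=
    Groth.Agent.Helper1.isAdicComplete_of_le_of_fg _ (maximalIdeal S) hle
      (IsNoetherian.noetherian _) S
  have hfix : ∀ c : k, σ (algebraMap k S c) = algebraMap k S c := fun c => by
    rw [IsScalarTower.algebraMap_apply k R S, σ.commutes]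
  have h0 : u₁ * v₁ ∈ Ideal.map (algebraMap R S) (maximalIdeal R) := by
    apply (hker _).mp
    rw [map_mul, hθu₁, hθv₁]
    linear_combination (εX * εY) * XN_mul_YN k
  have hE : ∀ b : S, ∃ (c : R) (p q : S),
      b - algebraMap R S c - u₁ * p - v₁ * q ∈ Ideal.map (algebraMap R S) (maximalIdeal R) := by
    intro b
    obtain ⟨c₀, f, g, hb⟩ := decomp (θ b)
    obtain ⟨p, hp⟩ := hθ (εX' * oXN f)
    obtain ⟨q, hq⟩ := hθ (εY' * oYN g)
    refine ⟨algebraMap k R c₀, p, q, (hker _).mp ?_⟩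
    rw [map_sub θ, map_sub θ, map_sub θ, map_mul θ, map_mul θ, hθu₁, hθv₁, hp, hq, hb,
      ← IsScalarTower.algebraMap_apply k R S, AlgHom.commutes]
    linear_combination (-(XN k * oXN f)) * hεX' + (-(YN k * oYN g)) * hεY'
  -- the constants
  obtain ⟨δ₀, hδ₀def⟩ : ∃ d : k, d = 2⁻¹ * (1 + ξ * η) := ⟨_, rfl⟩
  have h4 : (2 : k) * 2⁻¹ = 1 := mul_inv_cancel₀ h2
  have hδ₀ : δ₀ * δ₀ = δ₀ := by
    rw [hδ₀def]
    linear_combination (2⁻¹ * (1 + ξ * η)) * h4 + ((2⁻¹ : k) ^ 2 * η * η) * hξ + (2⁻¹ : k) ^ 2 * hη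
  have hδ2 : algebraMap k R δ₀ * algebraMap k R δ₀ = algebraMap k R δ₀ := by
    rw [← map_mul, hδ₀]
  have hδ : algebraMap R S (algebraMap k R δ₀) =
      algebraMap k S 2⁻¹ * (1 + algebraMap k S ξ * algebraMap k S η) := by
    rw [← IsScalarTower.algebraMap_apply k R S, hδ₀def, map_mul, map_add, map_one, map_mul]
  have hh : algebraMap k S 2⁻¹ + algebraMap k S 2⁻¹ = 1 := by
    rw [← map_add, ← two_mul, h4, map_one]
  have hξS : algebraMap k S ξ * algebraMap k S ξ = 1 := by rw [← map_mul, hξ, map_one]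
  have hηS : algebraMap k S η * algebraMap k S η = 1 := by rw [← map_mul, hη, map_one]
  obtain ⟨α, u, v, hα, hu, hv, huv, hσu, hσv, hδα⟩ :=
    NodeCompl.main_equiv (algebraMap R S) (maximalIdeal R) (σ : S →+* S) (fun a => σ.commutes a) hσ
      (algebraMap k S ξ) (algebraMap k S η) (algebraMap k S 2⁻¹)
      (algebraMap k S ξ * algebraMap k S η)
      hξS hηS (hfix ξ) (hfix η) (hfix 2⁻¹) hh rfl (algebraMap k R δ₀) hδ hδ2 u₁ v₁ hE h0 hσu₁ hσv₁
  have hσu' : σ u = algebraMap k S ξ * u := hσu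
  have hσv' : σ v = algebraMap k S η * v := hσv
  have hθu : θ u = XN k * εX := by
    have h : θ (u - u₁) = 0 := (hker _).mpr hu
    rw [map_sub, sub_eq_zero] at h
    rw [h, hθu₁]
  have hθv : θ v = YN k * εY := by
    have h : θ (v - v₁) = 0 := (hker _).mpr hv
    rw [map_sub, sub_eq_zero] at h
    rw [h, hθv₁]
  have hum : u ∈ maximalIdeal S :=
    (theta_mem_max_iff θ hθ hker u).mp (by rw [hθu]; exact Ideal.mul_mem_right _ _ (XN_mem k))
  have hvm : v ∈ maximalIdeal S :=
    (theta_mem_max_iff θ hθ hker v).mp (by rw [hθv]; exact Ideal.mul_mem_right _ _ (YN_mem k))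
  have hg : ∀ i, (![u, v] : Fin 2 → S) i ∈ maximalIdeal S := by
    intro i
    fin_cases i
    · exact hum
    · exact hvm
  obtain ⟨F, hF⟩ := PowerSeriesComplete.exists_algHom_complete (Λ := R) (maximalIdeal S)
    ![u, v] hg
  have hF0 : F (X 0) = u := hF 0
  have hF1 : F (X 1) = v := hF 1
  have hspan : (maximalIdeal R).map (algebraMap R S) ⊔ Ideal.span (Set.range ![u, v]) =
      maximalIdeal S := by
    apply le_antisymm
    · refine sup_le hle (Ideal.span_le.mpr ?_)
      rintro _ ⟨i, rfl⟩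
      exact hg i
    · intro s hs
      have h1 := (theta_mem_max_iff θ hθ hker s).mpr hs
      rw [maximalIdeal_NN, Ideal.mem_span_pair] at h1
      obtain ⟨a, b, hab⟩ := h1
      obtain ⟨p, hp⟩ := hθ (a * εX')
      obtain ⟨q, hq⟩ := hθ (b * εY')
      have h3 : s - (p * u + q * v) ∈ Ideal.map (algebraMap R S) (maximalIdeal R) := by
        apply (hker _).mp
        rw [map_sub θ, map_add θ, map_mul θ, map_mul θ, hp, hq, hθu, hθv, ← hab]
        linear_combination (-(a * XN k)) * hεX' + (-(b * YN k)) * hεY'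
      have e : s = (s - (p * u + q * v)) + (p * u + q * v) := by ring
      rw [e]
      refine Ideal.add_mem _ (Ideal.mem_sup_left h3) (Ideal.mem_sup_right ?_)
      exact Ideal.add_mem _ (Ideal.mul_mem_left _ _ (Ideal.subset_span ⟨0, rfl⟩))
        (Ideal.mul_mem_left _ _ (Ideal.subset_span ⟨1, rfl⟩))
  have hres : Function.Surjective ((IsLocalRing.residue S).comp (algebraMap R S)) := by
    intro y
    obtain ⟨s, rfl⟩ := IsLocalRing.residue_surjective y
    obtain ⟨c, hc⟩ : ∃ c, c = resN (θ s) := ⟨_, rfl⟩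
    have h1 : θ (s - algebraMap k S c) ∈ maximalIdeal (NN k) := by
      rw [map_sub, AlgHom.commutes, hc]; exact sub_resN_mem (θ s)
    have h2' := (theta_mem_max_iff θ hθ hker _).mp h1
    refine ⟨algebraMap k R c, ?_⟩
    rw [RingHom.comp_apply, ← IsScalarTower.algebraMap_apply k R S]
    symm
    rw [← sub_eq_zero, ← map_sub, IsLocalRing.residue_eq_zero_iff]
    exact h2'
  have Fsurj : Function.Surjective F :=
    PowerSeriesComplete.surjective_of_residue' ![u, v] hspan hres F hF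
  have hfC : ∀ r, F (C r) = algebraMap R S r := by
    intro r
    have : (C r : MvPowerSeries (Fin 2) R) = algebraMap R _ r := by
      rw [MvPowerSeries.algebraMap_apply]; simp
    rw [this, F.commutes]
  have hrel : F (X 0 * X 1 - C α) = 0 := by
    rw [map_sub, map_mul, hF0, hF1, hfC, huv, sub_self]
  -- the residue map of `R`
  let ρ : R →+* k := (resN (k := k)).comp (θ.toRingHom.comp (algebraMap R S))
  have hρk : ∀ c : k, ρ (algebraMap k R c) = c := by
    intro c
    change resN (θ (algebraMap R S (algebraMap k R c))) = c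
    rw [← IsScalarTower.algebraMap_apply k R S, AlgHom.commutes, resN_alg]
  have hρ : Function.Surjective ρ := fun c => ⟨_, hρk c⟩
  have hρker : RingHom.ker ρ ≤ maximalIdeal R := by
    intro r hr
    rw [RingHom.mem_ker] at hr
    rw [IsLocalRing.mem_maximalIdeal, mem_nonunits_iff]
    intro hu
    have := hu.map ρ
    rw [hr] at this
    exact not_isUnit_zero this
  haveI : IsNoetherianRing (NN k) := isNoetherianRing_of_surjective S (NN k) θ.toRingHom hθ
  let θ₀ : MvPowerSeries (Fin 2) R →+* NN k :=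
    (Ideal.Quotient.mk _).comp (MvPowerSeries.map ρ)
  have hθ₀ : Function.Surjective θ₀ :=
    Ideal.Quotient.mk_surjective.comp (NodeCompl.map_surjective ρ hρ)
  have hker₀ := NodeCompl.ker_reduction_le ρ hρ hρker α hα _ rfl
  have hθm : ∀ r ∈ maximalIdeal R, θ.toRingHom (algebraMap R S r) = 0 :=
    fun r hr => (hker _).mpr (Ideal.mem_map_of_mem _ hr)
  have hkerF : RingHom.ker (F : MvPowerSeries (Fin 2) R →+* S) ≤
      Ideal.span {(X 0 * X 1 - C α : MvPowerSeries (Fin 2) R)} :=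
    NodeCompl.ker_le_of_flat_of_fibre α (F : MvPowerSeries (Fin 2) R →+* S) Fsurj hfC hrel θ₀ hθ₀
      hker₀ θ.toRingHom hθ hθm
  have hFI : ∀ a ∈ Ideal.span {(X 0 * X 1 - C α : MvPowerSeries (Fin 2) R)}, F a = 0 := by
    intro a ha
    obtain ⟨w, rfl⟩ := Ideal.mem_span_singleton'.mp ha
    rw [map_mul, hrel, mul_zero]
  let Fbar : (MvPowerSeries (Fin 2) R ⧸
      Ideal.span {(X 0 * X 1 - C α : MvPowerSeries (Fin 2) R)}) →ₐ[R] S :=
    Ideal.Quotient.liftₐ _ F hFI
  have hbij : Function.Bijective Fbar := by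
    constructor
    · rw [injective_iff_map_eq_zero]
      intro q hq
      obtain ⟨p, rfl⟩ := Ideal.Quotient.mk_surjective q
      rw [Ideal.Quotient.eq_zero_iff_mem]
      apply hkerF
      rw [RingHom.mem_ker]
      exact hq
    · intro s
      obtain ⟨p, rfl⟩ := Fsurj s
      exact ⟨Ideal.Quotient.mk _ p, rfl⟩
  let g : (MvPowerSeries (Fin 2) R ⧸
      Ideal.span {(X 0 * X 1 - C α : MvPowerSeries (Fin 2) R)}) ≃ₐ[R] S :=
    AlgEquiv.ofBijective Fbar hbij
  have hgX : g (Ideal.Quotient.mk _ (X 0)) = u := hF 0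
  have hgY : g (Ideal.Quotient.mk _ (X 1)) = v := hF 1
  refine ⟨α, η, ξ, by rw [sq]; exact hη, by rw [sq]; exact hξ, ?_, g.symm, ?_, ?_⟩
  · intro hηξ
    have hz : δ₀ = 0 := by
      rw [hδ₀def, hηξ]
      linear_combination (-(2⁻¹ : k)) * hξ
    rw [← hδα, hz, map_zero, zero_mul]
  · rw [AlgEquiv.symm_symm, hgX, hσu']
    have h : algebraMap k S ξ * u = algebraMap k R ξ • u := by
      rw [Algebra.smul_def, ← IsScalarTower.algebraMap_apply k R S]
    rw [h, map_smul, ← hgX, AlgEquiv.symm_apply_apply]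
  · rw [AlgEquiv.symm_symm, hgY, hσv']
    have h : algebraMap k S η * v = algebraMap k R η • v := by
      rw [Algebra.smul_def, ← IsScalarTower.algebraMap_apply k R S]
    rw [h, map_smul, ← hgY, AlgEquiv.symm_apply_apply]

end Groth.Agent.Helper3.NodeAut
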