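import Mathlib

universe u

open CategoryTheory CategoryTheory.Limits AlgebraicGeometry TopologicalSpace Order

namespace Groth.Agent.Helper3.OrdLocFin

/-- A height one prime containing a nonzero element `g` of a domain is minimal over `(g)`. -/
lemma mem_minimalPrimes_span_of_height_one {A : Type*} [CommRing A] [IsDomain A] (p : Ideal A)
    [p.IsPrime] (hp : p.height = 1) (g : A) (hg : g ≠ 0) (hgp : g ∈ p) :
    p ∈ (Ideal.span {g}).minimalPrimes := by
  refine ⟨⟨inferInstance, (Ideal.span_singleton_le_iff_mem p).mpr hgp⟩, ?_⟩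
  rintro q ⟨hq, hgq⟩ hqp
  by_contra hnot
  have hlt : q < p := lt_of_le_not_ge hqp hnot
  have hfin : p.FiniteHeight := ⟨Or.inr (by rw [hp]; exact ENat.one_ne_top)⟩
  have : q.IsPrime := hq
  have h1 : q.height < p.height := Ideal.height_strict_mono_of_isPrime_of_isPrime hlt
  rw [hp, Order.lt_one_iff, Ideal.height_eq_zero_iff_eq_bot] at h1
  rw [h1] at hgq
  exact hg (by simpa using hgq)

theorem main (X : Scheme.{u}) [IsIntegral X] [IsLocallyNoetherian X] (f : ↑X.functionField)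
    (hf : f ≠ 0) :
    LocallyFinite (fun ξ : {ξ : ↥X // Order.coheight ξ = 1 ∧ Scheme.ord f ξ ≠ 0} =>
      closure ({ξ.1} : Set ↥X)) := by
  classical
  obtain ⟨U₀, hU₀, f', hne, hff', hunit⟩ := exists_isUnit_germ_eq X f hf
  have hord : ∀ ξ : X, ξ ∈ U₀ → Scheme.ord f ξ = 0 := by
    intro ξ hξ
    rw [← hff']
    exact Scheme.ord_of_isUnit hunit hξ
  intro x
  obtain ⟨_, ⟨W, hW, rfl⟩, hxW, -⟩ :=
    X.isBasis_affineOpens.exists_subset_of_mem_open (Set.mem_univ x) isOpen_univ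
  refine ⟨W, W.2.mem_nhds hxW, ?_⟩
  -- generic point in both
  have hgenW : genericPoint X ∈ W :=
    ((genericPoint_spec X).mem_open_set_iff W.isOpen).mpr ⟨x, trivial, hxW⟩
  have hgenU : genericPoint X ∈ U₀ :=
    ((genericPoint_spec X).mem_open_set_iff U₀.isOpen).mpr (by
      obtain ⟨y⟩ := hne
      exact ⟨y.1, trivial, y.2⟩)
  obtain ⟨g, hgle, hgmem⟩ := hW.exists_basicOpen_le (V := U₀) ⟨genericPoint X, hgenU⟩ hgenW
  have hg0 : g ≠ 0 := by
    rintro rfl
    rw [Scheme.basicOpen_zero] at hgmem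
    exact hgmem
  have hnoeth : IsNoetherianRing Γ(X, W) := IsLocallyNoetherian.component_noetherian ⟨W, hW⟩
  have hdom : IsDomain Γ(X, W) := by
    have : Nonempty W := ⟨⟨x, hxW⟩⟩
    infer_instance
  have hfinite : ((Ideal.span {g}).minimalPrimes).Finite :=
    Ideal.finite_minimalPrimes_of_isNoetherianRing _ _
  -- the map to minimal primes
  have key : ∀ ξ : {ξ : ↥X // Order.coheight ξ = 1 ∧ Scheme.ord f ξ ≠ 0},
      (closure ({ξ.1} : Set X) ∩ (W : Set X)).Nonempty → ∃ hξW : ξ.1 ∈ W,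
        (hW.primeIdealOf ⟨ξ.1, hξW⟩).asIdeal ∈ (Ideal.span {g}).minimalPrimes := by
    rintro ⟨ξ, hξ1, hξ2⟩ ⟨y, hy1, hy2⟩
    have hsp : ξ ⤳ y := specializes_iff_mem_closure.mpr hy1
    have hξW : ξ ∈ W := hsp.mem_open W.isOpen hy2
    refine ⟨hξW, ?_⟩
    let _ := X.presheaf.algebra_section_stalk (U := W) ⟨ξ, hξW⟩
    have hloc := hW.isLocalization_stalk ⟨ξ, hξW⟩
    have hht : (hW.primeIdealOf ⟨ξ, hξW⟩).asIdeal.height = 1 := by
      have h1 := IsLocalization.AtPrime.ringKrullDim_eq_height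
        (hW.primeIdealOf ⟨ξ, hξW⟩).asIdeal (X.presheaf.stalk ξ)
      rw [ringKrullDim_stalk_eq_coheight, hξ1] at h1
      exact_mod_cast h1.symm
    apply mem_minimalPrimes_span_of_height_one _ hht g hg0
    by_contra hgnot
    apply hξ2
    apply hord
    apply hgle
    rw [Scheme.mem_basicOpen X g ξ hξW]
    exact (IsLocalization.AtPrime.isUnit_to_map_iff (X.presheaf.stalk ξ)
      (hW.primeIdealOf ⟨ξ, hξW⟩).asIdeal g).mpr hgnot
  -- finiteness
  let S := {ξ : {ξ : ↥X // Order.coheight ξ = 1 ∧ Scheme.ord f ξ ≠ 0} |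
    (closure ({ξ.1} : Set X) ∩ (W : Set X)).Nonempty}
  let φ : S → (Ideal.span {g}).minimalPrimes := fun ξ =>
    ⟨(hW.primeIdealOf ⟨ξ.1.1, (key ξ.1 ξ.2).choose⟩).asIdeal, (key ξ.1 ξ.2).choose_spec⟩
  have hφ : Function.Injective φ := by
    intro ξ₁ ξ₂ h
    have h1 : (hW.primeIdealOf ⟨ξ₁.1.1, (key ξ₁.1 ξ₁.2).choose⟩) =
        (hW.primeIdealOf ⟨ξ₂.1.1, (key ξ₂.1 ξ₂.2).choose⟩) := by
      apply PrimeSpectrum.ext
      exact congrArg Subtype.val h
    have h2 := congrArg hW.fromSpec h1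
    rw [hW.fromSpec_primeIdealOf, hW.fromSpec_primeIdealOf] at h2
    exact Subtype.ext (Subtype.ext h2)
  have : Finite (Ideal.span {g}).minimalPrimes := hfinite.to_subtype
  have hS : Finite S := Finite.of_injective φ hφ
  exact Set.toFinite S

end Groth.Agent.Helper3.OrdLocFin
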