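import Mathlib

/-!
# Pulling apart a punctual ideal of the plane: abstract form over `k[s][x]` (helper3)
-/

set_option autoImplicit false
set_option linter.style.haveILetI false

universe u

open Polynomial

namespace Groth.Agent.Helper3.PA1

variable {k : Type u} [Field k]

/-- reduction mod `s` -/
noncomputable def π₀ : k[X][X] →+* k[X] := mapRingHom (evalRingHom (0 : k))

/-- section of `π₀` -/
noncomputable def σ₀ : k[X] →+* k[X][X] := mapRingHom (C : k →+* k[X])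

lemma π₀_σ₀ (q : k[X]) : π₀ (σ₀ q) = q := by
  simp only [π₀, σ₀, coe_mapRingHom, Polynomial.map_map]
  have : (evalRingHom (0 : k)).comp (C : k →+* k[X]) = RingHom.id k := by
    ext a; simp
  rw [this, Polynomial.map_id]

lemma π₀_X : π₀ (X : k[X][X]) = X := by simp [π₀]

lemma π₀_CX : π₀ (C X : k[X][X]) = 0 := by simp [π₀]

lemma ker_π₀ (h : k[X][X]) (hh : π₀ h = 0) : ∃ h', h = C X * h' := by
  have : (C (X : k[X]) : k[X][X]) ∣ h := by
    rw [Polynomial.C_dvd_iff_dvd_coeff]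
    intro i
    rw [Polynomial.X_dvd_iff, Polynomial.coeff_zero_eq_eval_zero]
    have := congrArg (fun p => p.coeff i) hh
    simpa [π₀, Polynomial.coeff_map] using this
  exact this

lemma degree_σ₀_le (q : k[X]) : (σ₀ q).degree ≤ q.degree := by
  simp only [σ₀, coe_mapRingHom]
  exact Polynomial.degree_map_le

lemma degree_π₀_le (q : k[X][X]) : (π₀ q).degree ≤ q.degree := by
  simp only [π₀, coe_mapRingHom]
  exact Polynomial.degree_map_le

theorem image_eq (𝔞 : Ideal k[X][X]) (N : ℕ) (hxN : (X : k[X][X]) ^ N ∈ 𝔞) :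
    ∃ m, Ideal.map π₀ 𝔞 = Ideal.span {(X : k[X]) ^ m} := by
  obtain ⟨g, hg⟩ := (IsPrincipalIdealRing.principal (Ideal.map π₀ 𝔞)).principal
  have h1 : (X : k[X]) ^ N ∈ Ideal.map π₀ 𝔞 := by
    have := Ideal.mem_map_of_mem π₀ hxN
    rwa [map_pow, π₀_X] at this
  rw [hg] at h1
  have h2 : g ∣ X ^ N := Ideal.mem_span_singleton.mp h1
  obtain ⟨i, -, hi⟩ := (dvd_prime_pow Polynomial.prime_X N).mp h2
  refine ⟨i, ?_⟩
  rw [hg]
  exact Ideal.span_singleton_eq_span_singleton.mpr hi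

theorem reduce (𝔞 : Ideal k[X][X]) (N m : ℕ) (hyN : (C X : k[X][X]) ^ N ∈ 𝔞)
    (hI : Ideal.map π₀ 𝔞 = Ideal.span {(X : k[X]) ^ m}) (h : k[X][X]) :
    ∃ r : k[X][X], r.degree < m ∧ h - r ∈ 𝔞 := by
  have hπ : Function.Surjective (π₀ : k[X][X] →+* k[X]) := fun q => ⟨σ₀ q, π₀_σ₀ q⟩
  have key : ∀ j : ℕ, ∀ h : k[X][X], ∃ r h' : k[X][X], r.degree < m ∧
      h - r - (C X) ^ j * h' ∈ 𝔞 := by
    intro j
    induction j with
    | zero =>
      intro h
      refine ⟨0, h, ?_, by simp⟩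
      rw [degree_zero]; exact WithBot.bot_lt_coe _
    | succ j ih =>
      intro h
      obtain ⟨r, h', hr, hmem⟩ := ih h
      set u := π₀ h' with hu
      have hmon : (X ^ m : k[X]).Monic := monic_X_pow m
      have hdiv : u %ₘ X ^ m + X ^ m * (u /ₘ X ^ m) = u := modByMonic_add_div u (X ^ m)
      have hdeg : (u %ₘ X ^ m).degree < m := by
        have := degree_modByMonic_lt u hmon
        rwa [degree_X_pow] at this
      have h3 : X ^ m * (u /ₘ X ^ m) ∈ Ideal.map π₀ 𝔞 := by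
        rw [hI]; exact Ideal.mul_mem_right _ _ (Ideal.subset_span rfl)
      obtain ⟨a, ha, hπa⟩ := (Ideal.mem_map_iff_of_surjective π₀ hπ).mp h3
      obtain ⟨h'', hh''⟩ := ker_π₀ (h' - σ₀ (u %ₘ X ^ m) - a) (by
        rw [map_sub, map_sub, π₀_σ₀, hπa, ← hu]
        nth_rewrite 1 [← hdiv]
        ring)
      refine ⟨r + (C X) ^ j * σ₀ (u %ₘ X ^ m), h'', ?_, ?_⟩
      · refine lt_of_le_of_lt (degree_add_le _ _) (max_lt hr ?_)
        rw [← C_pow]
        refine lt_of_le_of_lt (degree_mul_le _ _) ?_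
        have h0 : (C ((X : k[X]) ^ j) : k[X][X]).degree ≤ 0 := degree_C_le
        have h1 : (σ₀ (u %ₘ X ^ m)).degree < m := lt_of_le_of_lt (degree_σ₀_le _) hdeg
        calc (C ((X : k[X]) ^ j) : k[X][X]).degree + (σ₀ (u %ₘ X ^ m)).degree
            ≤ 0 + (σ₀ (u %ₘ X ^ m)).degree := add_le_add_left h0 _
          _ = (σ₀ (u %ₘ X ^ m)).degree := zero_add _
          _ < m := h1
      · have : h - (r + (C X) ^ j * σ₀ (u %ₘ X ^ m)) - (C X) ^ (j + 1) * h'' =
            (h - r - (C X) ^ j * h') + (C X) ^ j * a := by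
          have e : h' = σ₀ (u %ₘ X ^ m) + a + C X * h'' := by rw [← hh'']; ring
          rw [pow_succ]
          have e2 : C X ^ j * h' = C X ^ j * (σ₀ (u %ₘ X ^ m) + a + C X * h'') := by rw [← e]
          rw [e2]
          ring
        rw [this]
        exact 𝔞.add_mem hmem (𝔞.mul_mem_left _ ha)
  obtain ⟨r, h', hr, hmem⟩ := key N h
  refine ⟨r, hr, ?_⟩
  have : h - r = (h - r - (C X) ^ N * h') + (C X) ^ N * h' := by ring
  rw [this]
  exact 𝔞.add_mem hmem (𝔞.mul_mem_right _ hyN)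

theorem exists_f (𝔞 : Ideal k[X][X]) (N m : ℕ) (hyN : (C X : k[X][X]) ^ N ∈ 𝔞)
    (hI : Ideal.map π₀ 𝔞 = Ideal.span {(X : k[X]) ^ m}) :
    ∃ f ∈ 𝔞, f.Monic ∧ π₀ f = X ^ m := by
  obtain ⟨r, hr, hmem⟩ := reduce 𝔞 N m hyN hI (X ^ m)
  refine ⟨X ^ m - r, hmem, monic_X_pow_sub hr, ?_⟩
  have h1 : π₀ (X ^ m - r) ∈ Ideal.map π₀ 𝔞 := Ideal.mem_map_of_mem _ hmem
  rw [hI, Ideal.mem_span_singleton, map_sub, map_pow, π₀_X] at h1
  have h2 : (X : k[X]) ^ m ∣ π₀ r := by
    have := dvd_sub (dvd_refl _) h1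
    simpa using this
  have h3 : π₀ r = 0 := by
    by_contra hne
    have := degree_le_of_dvd h2 hne
    rw [degree_X_pow] at this
    exact absurd (lt_of_le_of_lt this (lt_of_le_of_lt (degree_π₀_le r) hr)) (lt_irrefl _)
  rw [map_sub, map_pow, π₀_X, h3, sub_zero]

end Groth.Agent.Helper3.PA1
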