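import Mathlib
import Groth.Agent.Lib.Helper3.PA1

/-!
# Pulling apart a punctual ideal of the plane: the family (helper3)
-/

set_option autoImplicit false
set_option linter.style.haveILetI false
set_option maxSynthPendingDepth 3

universe u

open Polynomial

namespace Groth.Agent.Helper3.PA2

open Groth.Agent.Helper3.PA1

variable {k : Type u} [Field k]

section General

variable {R S : Type*} [CommRing R] [CommRing S]

theorem flat_of_tf [IsDomain R] [IsDedekindDomain R] (φ : R →+* S)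
    (h : ∀ r : R, r ≠ 0 → ∀ s : S, φ r * s = 0 → s = 0) : φ.Flat := by
  letI := φ.toAlgebra
  haveI : Module.IsTorsionFree R S := by
    apply Module.IsTorsionFree.of_smul_eq_zero
    intro r s hrs
    by_cases hr : r = 0
    · exact Or.inl hr
    · right
      rw [Algebra.smul_def] at hrs
      exact h r hr s hrs
  change Module.Flat R S
  infer_instance

theorem finite_of_integral_gen (φ : R →+* S) (s : Set S) (hs : s.Finite)
    (hint : ∀ x ∈ s, φ.IsIntegralElem x)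
    (hgen : ∀ T : Subring S, (∀ r, φ r ∈ T) → s ⊆ T → ∀ z, z ∈ T) : φ.Finite := by
  letI := φ.toAlgebra
  change Module.Finite R S
  have hfg := fg_adjoin_of_finite (R := R) (s := s) hs (fun x hx => hint x hx)
  have htop : Algebra.adjoin R s = ⊤ := by
    rw [eq_top_iff]
    rintro z -
    exact hgen (Algebra.adjoin R s).toSubring (fun r => (Algebra.adjoin R s).algebraMap_mem r)
      (fun x hx => Algebra.subset_adjoin hx) z
  rw [htop, Algebra.top_toSubmodule] at hfg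
  exact Module.finite_def.mpr hfg

end General

/-- evaluation at the point `(x₀, c)` -/
noncomputable def εp (x₀ c : k) : k[X][X] →+* k := (evalRingHom c).comp (evalRingHom (C x₀))

lemma sub_mem_span (x₀ c : k) (h : k[X][X]) :
    h - C (C (εp x₀ c h)) ∈ Ideal.span {(X : k[X][X]) - C (C x₀), C X - C (C c)} := by
  have h1 : (X : k[X][X]) - C (C x₀) ∣ h - C (h.eval (C x₀)) := X_sub_C_dvd_sub_C_eval
  have h2 : (X : k[X]) - C c ∣ h.eval (C x₀) - C ((h.eval (C x₀)).eval c) :=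
    X_sub_C_dvd_sub_C_eval
  obtain ⟨w1, hw1⟩ := h1
  obtain ⟨w2, hw2⟩ := h2
  rw [Ideal.mem_span_pair]
  refine ⟨w1, C w2, ?_⟩
  have h3 := congrArg (C : k[X] → k[X][X]) hw2
  simp only [map_sub, map_mul] at h3
  have h4 : εp x₀ c h = (h.eval (C x₀)).eval c := rfl
  rw [h4]
  linear_combination (-1 : k[X][X]) * hw1 - h3

lemma mem_span_of_εp (x₀ c : k) (h : k[X][X]) (hε : εp x₀ c h = 0) :
    h ∈ Ideal.span {(X : k[X][X]) - C (C x₀), C X - C (C c)} := by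
  have := sub_mem_span x₀ c h
  rwa [hε, map_zero, map_zero, sub_zero] at this

lemma mem_span₀ (h : k[X][X]) (hε : εp 0 0 h = 0) :
    h ∈ Ideal.span {(X : k[X][X]), C X} := by
  have := mem_span_of_εp 0 0 h hε
  simpa using this

/-- the colon ideal `(𝔞 : s)` -/
noncomputable def colonY (𝔞 : Ideal k[X][X]) : Ideal k[X][X] :=
  Submodule.comap (LinearMap.mulLeft k[X][X] (C X : k[X][X])) 𝔞

lemma mem_colonY (𝔞 : Ideal k[X][X]) (b : k[X][X]) : b ∈ colonY 𝔞 ↔ C X * b ∈ 𝔞 := by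
  rw [colonY, Submodule.mem_comap, LinearMap.mulLeft_apply]

lemma le_colonY (𝔞 : Ideal k[X][X]) : 𝔞 ≤ colonY 𝔞 := fun a ha =>
  (mem_colonY 𝔞 a).mpr (𝔞.mul_mem_left _ ha)

lemma colonY_ne_top (𝔞 : Ideal k[X][X]) (hy : (C X : k[X][X]) ∉ 𝔞) : colonY 𝔞 ≠ ⊤ := by
  rw [Ideal.ne_top_iff_one, mem_colonY, mul_one]; exact hy

lemma colonY_le (𝔞 : Ideal k[X][X]) (hy : (C X : k[X][X]) ∉ 𝔞) (N : ℕ)
    (hxN : (X : k[X][X]) ^ N ∈ 𝔞) (hyN : (C X : k[X][X]) ^ N ∈ 𝔞) :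
    colonY 𝔞 ≤ Ideal.span {(X : k[X][X]), C X} := by
  obtain ⟨𝔐, h𝔐max, h𝔟𝔐⟩ := Ideal.exists_le_maximal (colonY 𝔞) (colonY_ne_top 𝔞 hy)
  have hx𝔐 : (X : k[X][X]) ∈ 𝔐 := h𝔐max.isPrime.mem_of_pow_mem N (h𝔟𝔐 (le_colonY 𝔞 hxN))
  have hy𝔐 : (C X : k[X][X]) ∈ 𝔐 := h𝔐max.isPrime.mem_of_pow_mem N (h𝔟𝔐 (le_colonY 𝔞 hyN))
  intro b hb
  by_contra hbn
  have hε : εp 0 0 b ≠ 0 := fun h0 => hbn (mem_span₀ b h0)
  have h2 := sub_mem_span 0 0 b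
  have h3 : b - C (C (εp 0 0 b)) ∈ 𝔐 := by
    have : Ideal.span {(X : k[X][X]) - C (C 0), C X - C (C 0)} ≤ 𝔐 := by
      rw [Ideal.span_le]
      rintro _ (rfl | rfl)
      · simpa using hx𝔐
      · simpa using hy𝔐
    exact this h2
  have h4 : C (C (εp 0 0 b)) ∈ 𝔐 := by
    have := 𝔐.sub_mem (h𝔟𝔐 hb) h3
    simpa using this
  have hunit : IsUnit (C (C (εp 0 0 b)) : k[X][X]) :=
    isUnit_C.mpr (isUnit_C.mpr (IsUnit.mk0 _ hε))
  exact h𝔐max.ne_top (Ideal.eq_top_of_isUnit_mem _ h4 hunit)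

lemma decomp (𝔞 : Ideal k[X][X]) (m : ℕ) (hI : Ideal.map π₀ 𝔞 = Ideal.span {(X : k[X]) ^ m})
    (f : k[X][X]) (hf𝔞 : f ∈ 𝔞) (hπf : π₀ f = X ^ m) :
    ∀ h ∈ 𝔞, ∃ u b, b ∈ colonY 𝔞 ∧ h = u * f + C X * b := by
  intro h hh
  have h1 : π₀ h ∈ Ideal.map π₀ 𝔞 := Ideal.mem_map_of_mem _ hh
  rw [hI, Ideal.mem_span_singleton] at h1
  obtain ⟨q, hq⟩ := h1
  obtain ⟨b, hb⟩ := ker_π₀ (h - σ₀ q * f) (by
    rw [map_sub, map_mul, π₀_σ₀, hπf, hq]; ring)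
  refine ⟨σ₀ q, b, ?_, by rw [← hb]; ring⟩
  rw [mem_colonY, ← hb]
  exact 𝔞.sub_mem hh (𝔞.mul_mem_left _ hf𝔞)

/-- reduction of coefficients mod the colon ideal -/
noncomputable def Φ (𝔞 : Ideal k[X][X]) : k[X][X][X] →+* (k[X][X] ⧸ colonY 𝔞)[X] :=
  mapRingHom (Ideal.Quotient.mk (colonY 𝔞))

lemma Φ_C (𝔞 : Ideal k[X][X]) (b : k[X][X]) (hb : b ∈ colonY 𝔞) : Φ 𝔞 (C b) = 0 := by
  simp only [Φ, coe_mapRingHom, map_C]
  rw [Ideal.Quotient.eq_zero_iff_mem.mpr hb, C_0]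

lemma mem_map_C_iff_Φ (𝔞 : Ideal k[X][X]) (q : k[X][X][X]) :
    q ∈ Ideal.map (C : k[X][X] →+* k[X][X][X]) (colonY 𝔞) ↔ Φ 𝔞 q = 0 := by
  rw [← RingHom.mem_ker, Φ, Polynomial.ker_mapRingHom, Ideal.mk_ker]

/-- the family -/
noncomputable def fam (𝔞 : Ideal k[X][X]) (f : k[X][X]) : Ideal k[X][X][X] :=
  Ideal.comap (evalRingHom (C X : k[X][X])) (Ideal.span {f}) ⊓ Ideal.map C (colonY 𝔞)

lemma mem_fam (𝔞 : Ideal k[X][X]) (f : k[X][X]) (h : k[X][X][X]) :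
    h ∈ fam 𝔞 f ↔ (f ∣ eval (C X) h ∧ Φ 𝔞 h = 0) := by
  simp only [fam, Ideal.mem_inf, Ideal.mem_comap, Ideal.mem_span_singleton, mem_map_C_iff_Φ,
    coe_evalRingHom]

lemma C_mem_fam (𝔞 : Ideal k[X][X]) (f : k[X][X]) (hf𝔞 : f ∈ 𝔞) : (C f : k[X][X][X]) ∈ fam 𝔞 f := by
  rw [mem_fam]
  exact ⟨by simp, Φ_C 𝔞 f (le_colonY 𝔞 hf𝔞)⟩

lemma mul_mem_fam (𝔞 : Ideal k[X][X]) (f : k[X][X]) (b : k[X][X]) (hb : b ∈ colonY 𝔞) :
    ((C (C X) : k[X][X][X]) - X) * C b ∈ fam 𝔞 f := by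
  rw [mem_fam]
  refine ⟨by simp, ?_⟩
  rw [map_mul, Φ_C 𝔞 b hb, mul_zero]

lemma fam_struct (𝔞 : Ideal k[X][X]) (f : k[X][X]) (hf𝔞 : f ∈ 𝔞) (h : k[X][X][X])
    (hh : h ∈ fam 𝔞 f) : ∃ (u : k[X][X]) (q : k[X][X][X]), Φ 𝔞 q = 0 ∧
      h = C (u * f) + (X - C (C X)) * q := by
  obtain ⟨⟨u, hu⟩, hΦh⟩ := (mem_fam 𝔞 f h).mp hh
  have hdiv := modByMonic_add_div h (X - C (C X : k[X][X]))
  rw [modByMonic_X_sub_C_eq_C_eval, hu] at hdiv
  refine ⟨u, h /ₘ (X - C (C X)), ?_, ?_⟩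
  · have hm : (X - C (Ideal.Quotient.mk (colonY 𝔞) (C X)) :
        (k[X][X] ⧸ colonY 𝔞)[X]).Monic := monic_X_sub_C _
    have h1 : Φ 𝔞 (X - C (C X)) * Φ 𝔞 (h /ₘ (X - C (C X))) = 0 := by
      rw [← map_mul]
      have : (X - C (C X)) * (h /ₘ (X - C (C X))) = h - C (f * u) := by
        rw [eq_sub_iff_add_eq']; exact hdiv
      rw [this, map_sub, hΦh, zero_sub, neg_eq_zero]
      exact Φ_C 𝔞 _ (le_colonY 𝔞 (𝔞.mul_mem_right _ hf𝔞))
    have h2 : Φ 𝔞 (X - C (C X)) = X - C (Ideal.Quotient.mk (colonY 𝔞) (C X)) := by simp [Φ]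
    rw [h2] at h1
    exact (hm.mul_right_eq_zero_iff).mp h1
  · rw [mul_comm u f]; exact hdiv.symm

lemma eval_mem_colonY (𝔞 : Ideal k[X][X]) (a : k[X][X]) (q : k[X][X][X]) (hq : Φ 𝔞 q = 0) :
    eval a q ∈ colonY 𝔞 := by
  rw [← Ideal.Quotient.eq_zero_iff_mem]
  have h1 : Ideal.Quotient.mk (colonY 𝔞) (eval a q) =
      (q.map (Ideal.Quotient.mk (colonY 𝔞))).eval (Ideal.Quotient.mk (colonY 𝔞) a) := by
    rw [eval_map, eval₂_hom]
  rw [h1]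
  have : q.map (Ideal.Quotient.mk (colonY 𝔞)) = 0 := hq
  rw [this, eval_zero]

lemma fib (𝔞 : Ideal k[X][X]) (f : k[X][X]) (hf𝔞 : f ∈ 𝔞) (a : k[X][X]) (h : k[X][X][X])
    (hh : h ∈ fam 𝔞 f) : ∃ u b, b ∈ colonY 𝔞 ∧ eval a h = u * f + (a - C X) * b := by
  obtain ⟨u, q, hq, rfl⟩ := fam_struct 𝔞 f hf𝔞 h hh
  exact ⟨u, eval a q, eval_mem_colonY 𝔞 a q hq, by simp⟩

lemma fib0 (𝔞 : Ideal k[X][X]) (f : k[X][X]) (hf𝔞 : f ∈ 𝔞)
    (hdecomp : ∀ h ∈ 𝔞, ∃ u b, b ∈ colonY 𝔞 ∧ h = u * f + C X * b) :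
    Ideal.map (evalRingHom (0 : k[X][X])) (fam 𝔞 f) = 𝔞 := by
  apply le_antisymm
  · rw [Ideal.map_le_iff_le_comap]
    intro h hh
    obtain ⟨u, b, hb, he⟩ := fib 𝔞 f hf𝔞 0 h hh
    rw [Ideal.mem_comap, coe_evalRingHom, he]
    refine 𝔞.add_mem (𝔞.mul_mem_left _ hf𝔞) ?_
    rw [zero_sub, neg_mul]; exact 𝔞.neg_mem ((mem_colonY 𝔞 b).mp hb)
  · intro h hh
    obtain ⟨u, b, hb, rfl⟩ := hdecomp h hh
    have : u * f + C X * b =
        evalRingHom (0 : k[X][X]) (C u * C f + (C (C X) - X) * C b) := by simp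
    rw [this]
    exact Ideal.mem_map_of_mem _ ((fam 𝔞 f).add_mem ((fam 𝔞 f).mul_mem_left _ (C_mem_fam 𝔞 f hf𝔞))
      (mul_mem_fam 𝔞 f b hb))

lemma fibc [IsAlgClosed k] (𝔞 : Ideal k[X][X]) (hy : (C X : k[X][X]) ∉ 𝔞)
    (h𝔞 : 𝔞 ≤ Ideal.span {(X : k[X][X]), C X})
    (h𝔟𝔪 : colonY 𝔞 ≤ Ideal.span {(X : k[X][X]), C X})
    (f : k[X][X]) (hf𝔞 : f ∈ 𝔞) (hfmon : f.Monic) (c : k) :
    Ideal.map (evalRingHom (C (C c) : k[X][X])) (fam 𝔞 f) ≤ Ideal.span {(X : k[X][X]), C X} ∧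
    ∃ x₀ : k, Ideal.map (evalRingHom (C (C c) : k[X][X])) (fam 𝔞 f) ≤
      Ideal.span {(X : k[X][X]) - C (C x₀), C X - C (C c)} := by
  have hfnd : f.natDegree ≠ 0 := by
    intro h0
    have : f = 1 := (Polynomial.Monic.natDegree_eq_zero hfmon).mp h0
    rw [this] at hf𝔞
    exact hy (by simpa using 𝔞.mul_mem_left (C X) hf𝔞)
  constructor
  · rw [Ideal.map_le_iff_le_comap]
    intro h hh
    obtain ⟨u, b, hb, he⟩ := fib 𝔞 f hf𝔞 (C (C c)) h hh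
    rw [Ideal.mem_comap, coe_evalRingHom, he]
    exact Ideal.add_mem _ (Ideal.mul_mem_left _ _ (h𝔞 hf𝔞)) (Ideal.mul_mem_left _ _ (h𝔟𝔪 hb))
  · have hfc : (f.map (evalRingHom c)).degree ≠ 0 := by
      rw [degree_eq_natDegree (hfmon.map _).ne_zero, hfmon.natDegree_map]
      exact_mod_cast hfnd
    obtain ⟨x₀, hx₀⟩ := IsAlgClosed.exists_root _ hfc
    have hεf : εp x₀ c f = 0 := by
      have : εp x₀ c = (evalRingHom x₀).comp (mapRingHom (evalRingHom c)) := by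
        apply Polynomial.ringHom_ext
        · intro a; simp [εp]
        · simp [εp]
      rw [this]; exact hx₀
    refine ⟨x₀, ?_⟩
    rw [Ideal.map_le_iff_le_comap]
    intro h hh
    obtain ⟨u, b, hb, he⟩ := fib 𝔞 f hf𝔞 (C (C c)) h hh
    rw [Ideal.mem_comap, coe_evalRingHom, he]
    apply mem_span_of_εp
    rw [map_add, map_mul, map_mul, hεf, map_sub]
    simp [εp]

/-- the structure map -/
noncomputable def ι : k[X] →+* k[X][X][X] := mapRingHom ((C : k[X] →+* k[X][X]).comp C)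

lemma evy_comp_ι : (evalRingHom (C X : k[X][X])).comp (ι (k := k)) = (C : k[X] →+* k[X][X]) := by
  apply Polynomial.ringHom_ext
  · intro a; simp [ι]
  · simp [ι]

lemma eval_ι (p : k[X]) : eval (C X : k[X][X]) (ι p) = C p := RingHom.congr_fun evy_comp_ι p

lemma Φ_ι (𝔞 : Ideal k[X][X]) (q : k[X]) :
    Φ 𝔞 (ι q) = q.map ((Ideal.Quotient.mk (colonY 𝔞)).comp ((C : k[X] →+* k[X][X]).comp C)) := by
  simp only [Φ, ι, coe_mapRingHom, Polynomial.map_map]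

lemma tf (𝔞 : Ideal k[X][X]) (f : k[X][X]) (hfmon : f.Monic) (p : k[X]) (hp : p ≠ 0)
    (h : k[X][X][X]) (hh : ι p * h ∈ fam 𝔞 f) : h ∈ fam 𝔞 f := by
  rw [mem_fam] at hh ⊢
  obtain ⟨h1, h2⟩ := hh
  constructor
  · rw [eval_mul, eval_ι] at h1
    rw [← modByMonic_eq_zero_iff_dvd hfmon] at h1 ⊢
    rw [← smul_eq_C_mul, smul_modByMonic] at h1
    exact (smul_eq_zero.mp h1).resolve_left hp
  · rw [map_mul] at h2
    have hp₁mon : (p * C p.leadingCoeff⁻¹).Monic := monic_mul_leadingCoeff_inv hp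
    have h3 : Φ 𝔞 (ι (p * C p.leadingCoeff⁻¹)) * Φ 𝔞 h = 0 := by
      rw [map_mul, map_mul, mul_right_comm, h2, zero_mul]
    rw [Φ_ι] at h3
    exact ((hp₁mon.map _).mul_right_eq_zero_iff).mp h3

theorem flat_fam (𝔞 : Ideal k[X][X]) (f : k[X][X]) (hfmon : f.Monic) :
    RingHom.Flat (R := k[X]) (S := k[X][X][X] ⧸ fam 𝔞 f)
      ((Ideal.Quotient.mk (fam 𝔞 f)).comp ι) := by
  apply flat_of_tf
  intro p hp z hz
  obtain ⟨h, rfl⟩ := Ideal.Quotient.mk_surjective z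
  rw [RingHom.comp_apply, ← map_mul, Ideal.Quotient.eq_zero_iff_mem] at hz
  exact Ideal.Quotient.eq_zero_iff_mem.mpr (tf 𝔞 f hfmon p hp h hz)

lemma xint (𝔞 : Ideal k[X][X]) (f : k[X][X]) (hfmon : f.Monic) (N : ℕ)
    (hxN : (X : k[X][X]) ^ N ∈ 𝔞) :
    ((Ideal.Quotient.mk (fam 𝔞 f)).comp ι).IsIntegralElem (Ideal.Quotient.mk (fam 𝔞 f) (C X)) := by
  refine ⟨f * X ^ N, hfmon.mul (monic_X_pow N), ?_⟩
  rw [← Polynomial.hom_eval₂, Ideal.Quotient.eq_zero_iff_mem, mem_fam, eval₂_mul, eval₂_pow,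
    eval₂_X]
  constructor
  · rw [eval_mul]
    refine Dvd.dvd.mul_right ?_ _
    have : eval (C X : k[X][X]) (eval₂ ι (C X) f) = f := by
      have h1 := Polynomial.hom_eval₂ f (ι (k := k)) (evalRingHom (C X : k[X][X])) (C X)
      rw [coe_evalRingHom] at h1
      rw [h1, evy_comp_ι]
      simp
    rw [this]
  · rw [map_mul, ← C_pow, Φ_C 𝔞 _ (le_colonY 𝔞 hxN), mul_zero]

lemma yint (𝔞 : Ideal k[X][X]) (f : k[X][X]) (N : ℕ) (hyN : (C X : k[X][X]) ^ N ∈ 𝔞) :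
    ((Ideal.Quotient.mk (fam 𝔞 f)).comp ι).IsIntegralElem
      (Ideal.Quotient.mk (fam 𝔞 f) (C (C X))) := by
  refine ⟨(X - C X) * X ^ N, (monic_X_sub_C _).mul (monic_X_pow N), ?_⟩
  rw [← Polynomial.hom_eval₂, Ideal.Quotient.eq_zero_iff_mem]
  have h1 : eval₂ (ι (k := k)) (C (C X)) ((X - C X) * X ^ N) =
      ((C (C X) : k[X][X][X]) - X) * C ((C X) ^ N) := by
    simp [ι]
  rw [h1]
  exact mul_mem_fam 𝔞 f _ (le_colonY 𝔞 hyN)

lemma gen (I : Ideal k[X][X][X]) (T : Subring (k[X][X][X] ⧸ I))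
    (hT : ∀ r, ((Ideal.Quotient.mk I).comp ι) r ∈ T)
    (hx : Ideal.Quotient.mk I (C X) ∈ T) (hy' : Ideal.Quotient.mk I (C (C X)) ∈ T)
    (h : k[X][X][X]) : Ideal.Quotient.mk I h ∈ T := by
  have hk : ∀ a : k, Ideal.Quotient.mk I (C (C (C a))) ∈ T := by
    intro a
    have : Ideal.Quotient.mk I (C (C (C a))) = ((Ideal.Quotient.mk I).comp ι) (C a) := by
      simp [ι]
    rw [this]; exact hT _
  have ht : Ideal.Quotient.mk I (X : k[X][X][X]) ∈ T := by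
    have : Ideal.Quotient.mk I (X : k[X][X][X]) = ((Ideal.Quotient.mk I).comp ι) X := by
      simp [ι]
    rw [this]; exact hT _
  have h1 : ∀ r : k[X], Ideal.Quotient.mk I (C (C r)) ∈ T := by
    intro r
    induction r using Polynomial.induction_on' with
    | add p q hp hq => simp only [map_add]; exact T.add_mem hp hq
    | monomial n a =>
      rw [← C_mul_X_pow_eq_monomial]
      simp only [map_mul, map_pow]
      exact T.mul_mem (hk a) (T.pow_mem hy' n)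
  have h2 : ∀ g : k[X][X], Ideal.Quotient.mk I (C g) ∈ T := by
    intro g
    induction g using Polynomial.induction_on' with
    | add p q hp hq => simp only [map_add]; exact T.add_mem hp hq
    | monomial n a =>
      rw [← C_mul_X_pow_eq_monomial]
      simp only [map_mul, map_pow]
      exact T.mul_mem (h1 a) (T.pow_mem hx n)
  induction h using Polynomial.induction_on' with
  | add p q hp hq => simp only [map_add]; exact T.add_mem hp hq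
  | monomial n a =>
    rw [← C_mul_X_pow_eq_monomial]
    simp only [map_mul, map_pow]
    exact T.mul_mem (h2 a) (T.pow_mem ht n)

theorem finite_fam (𝔞 : Ideal k[X][X]) (f : k[X][X]) (hfmon : f.Monic) (N : ℕ)
    (hxN : (X : k[X][X]) ^ N ∈ 𝔞) (hyN : (C X : k[X][X]) ^ N ∈ 𝔞) :
    RingHom.Finite (A := k[X]) (B := k[X][X][X] ⧸ fam 𝔞 f)
      ((Ideal.Quotient.mk (fam 𝔞 f)).comp ι) := by
  refine finite_of_integral_gen _ ({Ideal.Quotient.mk (fam 𝔞 f) (C X),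
      Ideal.Quotient.mk (fam 𝔞 f) (C (C X))} : Set (k[X][X][X] ⧸ fam 𝔞 f)) (Set.toFinite _) ?_ ?_
  · rintro _ (rfl | rfl)
    · exact xint 𝔞 f hfmon N hxN
    · exact yint 𝔞 f N hyN
  · intro T hT hsT z
    obtain ⟨h, rfl⟩ := Ideal.Quotient.mk_surjective z
    exact gen _ T hT (hsT (by simp)) (hsT (by simp)) h

theorem main [IsAlgClosed k] (𝔞 : Ideal k[X][X]) (hy : (C X : k[X][X]) ∉ 𝔞) (N : ℕ)
    (hxN : (X : k[X][X]) ^ N ∈ 𝔞) (hyN : (C X : k[X][X]) ^ N ∈ 𝔞)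
    (h𝔞 : 𝔞 ≤ Ideal.span {(X : k[X][X]), C X}) :
    ∃ 𝔞' : Ideal k[X][X][X],
      RingHom.Flat (R := k[X]) (S := k[X][X][X] ⧸ 𝔞') ((Ideal.Quotient.mk 𝔞').comp ι) ∧
      RingHom.Finite (A := k[X]) (B := k[X][X][X] ⧸ 𝔞') ((Ideal.Quotient.mk 𝔞').comp ι) ∧
      Ideal.map (evalRingHom (0 : k[X][X])) 𝔞' = 𝔞 ∧
      ∀ c : k, c ≠ 0 →
        Ideal.map (evalRingHom (C (C c) : k[X][X])) 𝔞' ≤ Ideal.span {(X : k[X][X]), C X} ∧
        ∃ x₀ : k, Ideal.map (evalRingHom (C (C c) : k[X][X])) 𝔞' ≤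
          Ideal.span {(X : k[X][X]) - C (C x₀), C X - C (C c)} := by
  obtain ⟨m, hI⟩ := image_eq 𝔞 N hxN
  obtain ⟨f, hf𝔞, hfmon, hπf⟩ := exists_f 𝔞 N m hyN hI
  exact ⟨fam 𝔞 f, flat_fam 𝔞 f hfmon, finite_fam 𝔞 f hfmon N hxN hyN,
    fib0 𝔞 f hf𝔞 (decomp 𝔞 m hI f hf𝔞 hπf),
    fun c _ => fibc 𝔞 hy h𝔞 (colonY_le 𝔞 hy N hxN hyN) f hf𝔞 hfmon c⟩

end Groth.Agent.Helper3.PA2
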