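import Mathlib
import Groth.Agent.Lib.Helper3.PA2

/-!
# Pulling apart a punctual ideal of the plane: transport to `MvPolynomial (Fin 2) k` (helper3)
-/

set_option autoImplicit false
set_option linter.style.haveILetI false
set_option maxSynthPendingDepth 3

universe u

open Polynomial

namespace Groth.Agent.Helper3.PA3

open Groth.Agent.Helper3.PA1 Groth.Agent.Helper3.PA2

variable {k : Type u} [Field k]

/-- `A → k[s][x]`, `X i ↦ x`, the other variable `↦ s` -/
noncomputable def E (i : Fin 2) : MvPolynomial (Fin 2) k →+* k[X][X] :=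
  (MvPolynomial.aeval (R := k) (fun l : Fin 2 => if l = i then (X : k[X][X]) else C X)).toRingHom

/-- the inverse -/
noncomputable def F (i j : Fin 2) : k[X][X] →+* MvPolynomial (Fin 2) k :=
  Polynomial.eval₂RingHom (Polynomial.eval₂RingHom (MvPolynomial.C) (MvPolynomial.X j))
    (MvPolynomial.X i)

lemma E_X_self (i : Fin 2) : E (k := k) i (MvPolynomial.X i) = X := by
  simp [E]

lemma E_X_other (i j : Fin 2) (hij : i ≠ j) : E (k := k) i (MvPolynomial.X j) = C X := by
  simp [E, hij.symm]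

lemma E_C (i : Fin 2) (a : k) : E (k := k) i (MvPolynomial.C a) = C (C a) := by
  simp [E, Polynomial.algebraMap_apply]

lemma F_X (i j : Fin 2) : F (k := k) i j X = MvPolynomial.X i := by simp [F]

lemma F_CX (i j : Fin 2) : F (k := k) i j (C X) = MvPolynomial.X j := by simp [F]

lemma F_CC (i j : Fin 2) (a : k) : F (k := k) i j (C (C a)) = MvPolynomial.C a := by simp [F]

lemma F_comp_E (i j : Fin 2) (hij : i ≠ j) :
    (F (k := k) i j).comp (E i) = RingHom.id _ := by
  apply MvPolynomial.ringHom_ext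
  · intro a
    rw [RingHom.comp_apply, E_C, F_CC, RingHom.id_apply]
  · intro l
    rw [RingHom.comp_apply, RingHom.id_apply]
    by_cases hl : l = i
    · rw [hl, E_X_self, F_X]
    · have hlj : l = j := by
        fin_cases i <;> fin_cases j <;> fin_cases l <;> simp_all
      rw [hlj, E_X_other i j hij, F_CX]

lemma E_comp_F (i j : Fin 2) (hij : i ≠ j) :
    (E (k := k) i).comp (F i j) = RingHom.id _ := by
  apply Polynomial.ringHom_ext
  · intro r
    rw [RingHom.comp_apply, RingHom.id_apply]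
    induction r using Polynomial.induction_on' with
    | add p q hp hq => rw [map_add, map_add, map_add, hp, hq]
    | monomial n a =>
      rw [← C_mul_X_pow_eq_monomial]
      simp only [map_mul, map_pow, F_CC, F_CX, E_C, E_X_other i j hij]
  · rw [RingHom.comp_apply, RingHom.id_apply, F_X, E_X_self]

/-- the ring isomorphism -/
noncomputable def e (i j : Fin 2) (hij : i ≠ j) : MvPolynomial (Fin 2) k ≃+* k[X][X] :=
  RingEquiv.ofRingHom (E i) (F i j) (E_comp_F i j hij) (F_comp_E i j hij)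

lemma FE (i j : Fin 2) (hij : i ≠ j) (a : MvPolynomial (Fin 2) k) : F i j (E i a) = a :=
  RingHom.congr_fun (F_comp_E i j hij) a

lemma EF (i j : Fin 2) (hij : i ≠ j) (p : k[X][X]) : E i (F i j p) = p :=
  RingHom.congr_fun (E_comp_F i j hij) p

lemma F_surj (i j : Fin 2) (hij : i ≠ j) : Function.Surjective (F (k := k) i j) :=
  fun a => ⟨E i a, FE i j hij a⟩

lemma E_X_mem (i : Fin 2) (l : Fin 2) :
    E (k := k) i (MvPolynomial.X l) ∈ Ideal.span {(X : k[X][X]), C X} := by
  by_cases hl : l = i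
  · rw [hl, E_X_self]; exact Ideal.subset_span (by simp)
  · have : E (k := k) i (MvPolynomial.X l) = C X := by simp [E, hl]
    rw [this]; exact Ideal.subset_span (by simp)

lemma X_mem_span (l : Fin 2) :
    (MvPolynomial.X l : MvPolynomial (Fin 2) k) ∈
      Ideal.span {(MvPolynomial.X 0 : MvPolynomial (Fin 2) k), MvPolynomial.X 1} := by
  fin_cases l
  · exact Ideal.subset_span (by simp)
  · exact Ideal.subset_span (by simp)

lemma eval_comp (i j : Fin 2) (hij : i ≠ j) (a : MvPolynomial (Fin 2) k) :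
    (evalRingHom a).comp (mapRingHom (F (k := k) i j)) =
      (F i j).comp (evalRingHom (E i a)) := by
  apply Polynomial.ringHom_ext
  · intro p; simp
  · simp [FE i j hij]

set_option maxHeartbeats 1600000 in
theorem transport [IsAlgClosed k] (i j : Fin 2) (hij : i ≠ j)
    (𝔞 : Ideal (MvPolynomial (Fin 2) k)) (hj : MvPolynomial.X j ∉ 𝔞)
    (hsupp : 𝔞.radical = Ideal.span {MvPolynomial.X 0, MvPolynomial.X 1}) :
    ∃ 𝔞' : Ideal (MvPolynomial (Fin 2) k)[X],
      RingHom.Flat (R := k[X]) (S := (MvPolynomial (Fin 2) k)[X] ⧸ 𝔞')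
        ((Ideal.Quotient.mk 𝔞').comp
          (Polynomial.mapRingHom (algebraMap k (MvPolynomial (Fin 2) k)))) ∧
      RingHom.Finite (A := k[X]) (B := (MvPolynomial (Fin 2) k)[X] ⧸ 𝔞')
        ((Ideal.Quotient.mk 𝔞').comp
          (Polynomial.mapRingHom (algebraMap k (MvPolynomial (Fin 2) k)))) ∧
      Ideal.map (Polynomial.evalRingHom (0 : MvPolynomial (Fin 2) k)) 𝔞' = 𝔞 ∧
      ∀ c : k, c ≠ 0 →
        Ideal.map (Polynomial.evalRingHom (MvPolynomial.C c)) 𝔞' ≤
          Ideal.span {MvPolynomial.X 0, MvPolynomial.X 1} ∧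
        ∃ p : Fin 2 → k, p ≠ 0 ∧
          Ideal.map (Polynomial.evalRingHom (MvPolynomial.C c)) 𝔞' ≤
            Ideal.span (Set.range (fun l : Fin 2 => MvPolynomial.X l - MvPolynomial.C (p l))) := by
  classical
  have hmem : ∀ l : Fin 2, (MvPolynomial.X l : MvPolynomial (Fin 2) k) ∈ 𝔞.radical := by
    intro l; rw [hsupp]; exact X_mem_span l
  obtain ⟨n₁, hn₁⟩ := hmem i
  obtain ⟨n₂, hn₂⟩ := hmem j
  set N := n₁ + n₂ with hN
  have hiN : (MvPolynomial.X i : MvPolynomial (Fin 2) k) ^ N ∈ 𝔞 :=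
    𝔞.pow_mem_of_pow_mem hn₁ (Nat.le_add_right _ _)
  have hjN : (MvPolynomial.X j : MvPolynomial (Fin 2) k) ^ N ∈ 𝔞 :=
    𝔞.pow_mem_of_pow_mem hn₂ (Nat.le_add_left _ _)
  set 𝔞P : Ideal k[X][X] := Ideal.comap (F i j) 𝔞 with h𝔞P
  have hyP : (C X : k[X][X]) ∉ 𝔞P := by
    rw [h𝔞P, Ideal.mem_comap, F_CX]; exact hj
  have hxNP : (X : k[X][X]) ^ N ∈ 𝔞P := by
    rw [h𝔞P, Ideal.mem_comap, map_pow, F_X]; exact hiN
  have hyNP : (C X : k[X][X]) ^ N ∈ 𝔞P := by
    rw [h𝔞P, Ideal.mem_comap, map_pow, F_CX]; exact hjN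
  have hle : 𝔞P ≤ Ideal.span {(X : k[X][X]), C X} := by
    intro p hp
    have h1 : F i j p ∈ Ideal.span {(MvPolynomial.X 0 : MvPolynomial (Fin 2) k),
        MvPolynomial.X 1} := by
      rw [← hsupp]; exact Ideal.le_radical hp
    have h2 : E i (F i j p) ∈ Ideal.map (E (k := k) i) (Ideal.span
        {(MvPolynomial.X 0 : MvPolynomial (Fin 2) k), MvPolynomial.X 1}) :=
      Ideal.mem_map_of_mem _ h1
    rw [EF i j hij] at h2
    have h3 : Ideal.map (E (k := k) i) (Ideal.span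
        {(MvPolynomial.X 0 : MvPolynomial (Fin 2) k), MvPolynomial.X 1}) ≤
        Ideal.span {(X : k[X][X]), C X} := by
      rw [Ideal.map_span, Ideal.span_le]
      rintro _ ⟨_, (rfl | rfl), rfl⟩
      · exact E_X_mem i 0
      · exact E_X_mem i 1
    exact h3 h2
  obtain ⟨𝔞'P, hflat, hfin, h0, hc⟩ := PA2.main 𝔞P hyP N hxNP hyNP hle
  -- the isomorphism of polynomial rings
  let ê : (MvPolynomial (Fin 2) k)[X] ≃+* k[X][X][X] :=
    RingEquiv.ofRingHom (mapRingHom (E i)) (mapRingHom (F i j))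
      (by rw [mapRingHom_comp, E_comp_F i j hij, mapRingHom_id])
      (by rw [mapRingHom_comp, F_comp_E i j hij, mapRingHom_id])
  set 𝔞' : Ideal (MvPolynomial (Fin 2) k)[X] := Ideal.comap (ê : _ →+* _) 𝔞'P with h𝔞'
  have h𝔞'map : 𝔞' = Ideal.map (ê.symm : _ →+* _) 𝔞'P := by
    rw [h𝔞']; exact (Ideal.map_symm ê).symm
  have h𝔞'map2 : 𝔞' = Ideal.map (mapRingHom (F (k := k) i j)) 𝔞'P := h𝔞'map
  let ψ : (k[X][X][X] ⧸ 𝔞'P) ≃+* ((MvPolynomial (Fin 2) k)[X] ⧸ 𝔞') :=
    Ideal.quotientEquiv 𝔞'P 𝔞' ê.symm h𝔞'map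
  have hφ : (Ideal.Quotient.mk 𝔞').comp
      (Polynomial.mapRingHom (algebraMap k (MvPolynomial (Fin 2) k))) =
      (ψ : _ →+* _).comp ((Ideal.Quotient.mk 𝔞'P).comp ι) := by
    ext r
    · simp only [RingHom.comp_apply, RingEquiv.coe_toRingHom]
      rw [Ideal.quotientEquiv_mk]
      congr 1
      change _ = mapRingHom (F i j) (ι (C r))
      simp [ι, F_CC, MvPolynomial.algebraMap_eq]
    · simp only [RingHom.comp_apply, RingEquiv.coe_toRingHom]
      rw [Ideal.quotientEquiv_mk]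
      congr 1
      change _ = mapRingHom (F i j) (ι X)
      simp [ι]
  have hfibre : ∀ a : MvPolynomial (Fin 2) k,
      Ideal.map (evalRingHom a) 𝔞' = Ideal.map (F i j) (Ideal.map (evalRingHom (E i a)) 𝔞'P) := by
    intro a
    rw [h𝔞'map2, Ideal.map_map, Ideal.map_map, eval_comp i j hij]
  refine ⟨𝔞', ?_, ?_, ?_, ?_⟩
  · rw [hφ]
    exact RingHom.Flat.comp hflat (RingHom.Flat.of_bijective ψ.bijective)
  · rw [hφ]
    exact RingHom.Finite.comp (RingHom.Finite.of_surjective _ ψ.surjective) hfin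
  · rw [hfibre, map_zero, h0, h𝔞P, Ideal.map_comap_of_surjective _ (F_surj i j hij)]
  · intro c hc0
    obtain ⟨hc1, x₀, hc2⟩ := hc c hc0
    rw [hfibre, E_C]
    constructor
    · refine le_trans (Ideal.map_mono hc1) ?_
      rw [Ideal.map_span, Ideal.span_le]
      rintro _ ⟨_, (rfl | rfl), rfl⟩
      · rw [F_X]; exact X_mem_span i
      · rw [F_CX]; exact X_mem_span j
    · refine ⟨fun l => if l = i then x₀ else c, ?_, ?_⟩
      · intro h
        have := congrFun h j
        simp only [Pi.zero_apply, if_neg hij.symm] at this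
        exact hc0 this
      · refine le_trans (Ideal.map_mono hc2) ?_
        rw [Ideal.map_span, Ideal.span_le]
        rintro _ ⟨_, (rfl | rfl), rfl⟩
        · refine Ideal.subset_span ⟨i, ?_⟩
          simp [F_X, F_CC]
        · refine Ideal.subset_span ⟨j, ?_⟩
          simp [F_CX, F_CC, hij.symm]

theorem final [IsAlgClosed k]
    (𝔞 : Ideal (MvPolynomial (Fin 2) k))
    (hn : 2 ≤ Module.finrank k (MvPolynomial (Fin 2) k ⧸ 𝔞))
    (hsupp : 𝔞.radical = Ideal.span {MvPolynomial.X 0, MvPolynomial.X 1}) :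
    ∃ 𝔞' : Ideal (MvPolynomial (Fin 2) k)[X],
      RingHom.Flat (R := k[X]) (S := (MvPolynomial (Fin 2) k)[X] ⧸ 𝔞')
        ((Ideal.Quotient.mk 𝔞').comp
          (Polynomial.mapRingHom (algebraMap k (MvPolynomial (Fin 2) k)))) ∧
      RingHom.Finite (A := k[X]) (B := (MvPolynomial (Fin 2) k)[X] ⧸ 𝔞')
        ((Ideal.Quotient.mk 𝔞').comp
          (Polynomial.mapRingHom (algebraMap k (MvPolynomial (Fin 2) k)))) ∧
      Ideal.map (Polynomial.evalRingHom (0 : MvPolynomial (Fin 2) k)) 𝔞' = 𝔞 ∧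
      ∀ c : k, c ≠ 0 →
        Ideal.map (Polynomial.evalRingHom (MvPolynomial.C c)) 𝔞' ≤
          Ideal.span {MvPolynomial.X 0, MvPolynomial.X 1} ∧
        ∃ p : Fin 2 → k, p ≠ 0 ∧
          Ideal.map (Polynomial.evalRingHom (MvPolynomial.C c)) 𝔞' ≤
            Ideal.span (Set.range (fun l : Fin 2 => MvPolynomial.X l - MvPolynomial.C (p l))) := by
  by_cases h1 : (MvPolynomial.X 1 : MvPolynomial (Fin 2) k) ∈ 𝔞
  · by_cases h0 : (MvPolynomial.X 0 : MvPolynomial (Fin 2) k) ∈ 𝔞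
    · exfalso
      have h01 : (0 : Fin 2) ≠ 1 := by decide
      have hle : Module.finrank k (MvPolynomial (Fin 2) k ⧸ 𝔞) ≤ 1 := by
        apply finrank_le_one (1 : MvPolynomial (Fin 2) k ⧸ 𝔞)
        intro w
        obtain ⟨h, rfl⟩ := Ideal.Quotient.mk_surjective w
        refine ⟨εp 0 0 (E 0 h), ?_⟩
        have h2 := sub_mem_span 0 0 (E (k := k) 0 h)
        have h3 := Ideal.mem_map_of_mem (F (k := k) 0 1) h2
        rw [map_sub, FE 0 1 h01, F_CC] at h3
        have h4 : Ideal.map (F (k := k) 0 1)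
            (Ideal.span {(X : k[X][X]) - C (C 0), C X - C (C 0)}) ≤ 𝔞 := by
          rw [Ideal.map_span, Ideal.span_le]
          rintro _ ⟨_, (rfl | rfl), rfl⟩
          · simpa [F_X] using h0
          · simpa [F_CX] using h1
        have h5 := h4 h3
        rw [Algebra.smul_def, mul_one]
        have : algebraMap k (MvPolynomial (Fin 2) k ⧸ 𝔞) (εp 0 0 (E 0 h)) =
            Ideal.Quotient.mk 𝔞 (MvPolynomial.C (εp 0 0 (E 0 h))) := rfl
        rw [this]
        exact (Ideal.Quotient.eq.mpr h5).symm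
      omega
    · exact transport 1 0 (by decide) 𝔞 h0 hsupp
  · exact transport 0 1 (by decide) 𝔞 h1 hsupp

end Groth.Agent.Helper3.PA3
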