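import Groth.Prelude.Def_DRing2
import Mathlib.Algebra.Homology.DerivedCategory.HomologySequence
import Mathlib.CategoryTheory.Triangulated.Pretriangulated
import Mathlib.RingTheory.Finiteness.Defs
import Mathlib.Algebra.Module.FinitePresentation
import Mathlib.Algebra.Homology.ShortComplex.ModuleCat

/-! Cohomology of pseudo-coherent complexes: finiteness. -/

universe u

open CategoryTheory

namespace Groth.Agent.Helper3.PCohFin

section Alg

variable {A : Type u} [CommRing A]

/-- The kernel of a surjection from a finite projective module onto a projective module is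
finite projective. -/
theorem ker_finite_projective {M P : Type u} [AddCommGroup M] [Module A M] [AddCommGroup P]
    [Module A P] [Module.Finite A M] [Module.Projective A M] [Module.Projective A P]
    (g : M →ₗ[A] P) (hg : Function.Surjective g) :
    Module.Finite A (LinearMap.ker g) ∧ Module.Projective A (LinearMap.ker g) := by
  obtain ⟨s, hs⟩ := Module.projective_lifting_property g LinearMap.id hg
  have hs' : ∀ p, g (s p) = p := fun p => by
    have := congrArg (fun f => f p) hs
    simpa using this
  let p : M →ₗ[A] LinearMap.ker g :=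
    (LinearMap.id - s.comp g).codRestrict (LinearMap.ker g) (fun m => by
      rw [LinearMap.mem_ker]
      simp [hs'])
  have hp : ∀ k : LinearMap.ker g, p k = k := by
    intro k
    apply Subtype.ext
    have hk : g (k : M) = 0 := k.2
    simp [p, hk]
  have hsurj : Function.Surjective p := fun k => ⟨k, hp k⟩
  refine ⟨Module.Finite.of_surjective p hsurj, ?_⟩
  exact Module.Projective.of_split (LinearMap.ker g).subtype p (by
    ext k
    simp [hp k])

/-- In a bounded above complex of finite projective modules exact in degrees `> k`, the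
module of `k`-cocycles is finite projective. -/
theorem ker_d_finite_projective (E : CochainComplex (ModuleCat.{u} A) ℤ)
    (hfp : ∀ i, Module.Finite A (E.X i) ∧ Module.Projective A (E.X i)) (b : ℤ)
    (hb : ∀ i, b < i → Limits.IsZero (E.X i)) :
    ∀ (j : ℕ) (k : ℤ), b < k + j → (∀ i, k < i → E.ExactAt i) →
      Module.Finite A (LinearMap.ker (E.d k (k + 1)).hom) ∧
        Module.Projective A (LinearMap.ker (E.d k (k + 1)).hom) := by
  intro j
  induction j with
  | zero =>
    intro k hk _
    have hz : Limits.IsZero (E.X k) := hb k (by simpa using hk)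
    haveI : Subsingleton (E.X k) := ModuleCat.subsingleton_of_isZero hz
    haveI : Subsingleton (LinearMap.ker (E.d k (k + 1)).hom) := inferInstance
    exact ⟨inferInstance, inferInstance⟩
  | succ j ih =>
    intro k hk hex
    obtain ⟨hf1, hp1⟩ := ih (k + 1) (by push_cast at hk ⊢; omega) (fun i hi => hex i (by omega))
    have hexk : (E.sc' k (k + 1) (k + 1 + 1)).Exact :=
      (E.exactAt_iff' k (k + 1) (k + 1 + 1) (by simp) (by simp)).mp (hex (k + 1) (by omega))
    have hrange := hexk.moduleCat_range_eq_ker
    change LinearMap.range (E.d k (k + 1)).hom = LinearMap.ker (E.d (k + 1) (k + 1 + 1)).hom at hrange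
    haveI := (hfp k).1
    haveI := (hfp k).2
    let g : E.X k →ₗ[A] LinearMap.ker (E.d (k + 1) (k + 1 + 1)).hom :=
      (E.d k (k + 1)).hom.codRestrict _ (fun x => by
        rw [← hrange]; exact ⟨x, rfl⟩)
    have hg : Function.Surjective g := by
      rintro ⟨y, hy⟩
      rw [← hrange] at hy
      obtain ⟨x, rfl⟩ := hy
      exact ⟨x, rfl⟩
    have hker : LinearMap.ker g = LinearMap.ker (E.d k (k + 1)).hom := by
      rw [LinearMap.ker_codRestrict]
    rw [← hker]
    exact ker_finite_projective g hg

end Alg

section Main

attribute [local instance] HasDerivedCategory.standard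

variable {A : Type u} [CommRing A]

/-- The homology of `toD E` as kernel mod image. -/
noncomputable def homologyEquiv (E : DRing.Cx A) (k : ℤ) :
    ((DerivedCategory.homologyFunctor (ModuleCat.{u} A) k).obj (DRing.toD E)) ≃ₗ[A]
      (LinearMap.ker (E.sc' (k - 1) k (k + 1)).g.hom ⧸
        LinearMap.range (E.sc' (k - 1) k (k + 1)).moduleCatToCycles) :=
  (((DerivedCategory.homologyFunctorFactors (ModuleCat.{u} A) k).app E) ≪≫
    ShortComplex.homologyMapIso (E.isoSc' (k - 1) k (k + 1) (by simp) (by simp)) ≪≫
    (E.sc' (k - 1) k (k + 1)).moduleCatHomologyIso).toLinearEquiv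

theorem main (K : Dual.D A) (m : ℤ) (hK : DRing.IsPseudoCoherent A m K) :
    ((∀ i : ℤ, m < i → Limits.IsZero ((DerivedCategory.homologyFunctor (ModuleCat.{u} A) i).obj K)) →
        Module.Finite A ((DerivedCategory.homologyFunctor (ModuleCat.{u} A) m).obj K)) ∧
      ((∀ i : ℤ, m + 1 < i → Limits.IsZero ((DerivedCategory.homologyFunctor (ModuleCat.{u} A) i).obj K)) →
        Module.FinitePresentation A ((DerivedCategory.homologyFunctor (ModuleCat.{u} A) (m + 1)).obj K)) := by
  obtain ⟨E, a, b, α, hvan, hff, hiso, hepi⟩ := hK
  have hfp : ∀ i, Module.Finite A (E.X i) ∧ Module.Projective A (E.X i) := fun i =>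
    ⟨(hff i).1, haveI := (hff i).2; inferInstance⟩
  have hb : ∀ i, b < i → Limits.IsZero (E.X i) := fun i hi => hvan i (Or.inr hi)
  have hexact : ∀ k : ℤ, m ≤ k →
      (∀ i, k < i → Limits.IsZero ((DerivedCategory.homologyFunctor (ModuleCat.{u} A) i).obj K)) →
      ∀ i, k < i → E.ExactAt i := by
    intro k hk hz i hi
    rw [HomologicalComplex.exactAt_iff_isZero_homology]
    haveI := hiso i (by omega)
    exact (hz i hi).of_iso
      (((DerivedCategory.homologyFunctorFactors (ModuleCat.{u} A) i).app E).symm ≪≫
        asIso ((DerivedCategory.homologyFunctor (ModuleCat.{u} A) i).map α))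
  constructor
  · intro hz
    obtain ⟨hf, -⟩ := ker_d_finite_projective E hfp b hb (b - m + 1).toNat m (by omega)
      (hexact m le_rfl hz)
    let e := homologyEquiv E m
    have hf' : Module.Finite A (LinearMap.ker (E.sc' (m - 1) m (m + 1)).g.hom) := hf
    let q : LinearMap.ker (E.sc' (m - 1) m (m + 1)).g.hom →ₗ[A]
        ((DerivedCategory.homologyFunctor (ModuleCat.{u} A) m).obj K) :=
      ((DerivedCategory.homologyFunctor (ModuleCat.{u} A) m).map α).hom ∘ₗ e.symm.toLinearMap ∘ₗ
        (Submodule.mkQ _)
    have hq : Function.Surjective q :=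
      ((ModuleCat.epi_iff_surjective _).mp hepi).comp
        (e.symm.surjective.comp (Submodule.mkQ_surjective _))
    exact Module.Finite.of_surjective q hq
  · intro hz
    obtain ⟨hf, hp⟩ := ker_d_finite_projective E hfp b hb (b - (m + 1) + 1).toNat (m + 1) (by omega)
      (hexact (m + 1) (by omega) hz)
    haveI := hiso (m + 1) (by omega)
    let e2 := (asIso ((DerivedCategory.homologyFunctor (ModuleCat.{u} A) (m + 1)).map α)).toLinearEquiv
    have hfpk0 : Module.FinitePresentation A (LinearMap.ker (E.d (m + 1) (m + 1 + 1)).hom) :=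
      Module.finitePresentation_of_projective _ _
    have hfpk : Module.FinitePresentation A
        (LinearMap.ker (E.sc' (m + 1 - 1) (m + 1) (m + 1 + 1)).g.hom) := hfpk0
    haveI : Module.Finite A (E.sc' (m + 1 - 1) (m + 1) (m + 1 + 1)).X₁ := (hff (m + 1 - 1)).1
    have hfpq : Module.FinitePresentation A
        (LinearMap.ker (E.sc' (m + 1 - 1) (m + 1) (m + 1 + 1)).g.hom ⧸
        LinearMap.range (E.sc' (m + 1 - 1) (m + 1) (m + 1 + 1)).moduleCatToCycles) := by
      refine Module.finitePresentation_of_surjective (h := hfpk) (Submodule.mkQ _) (Submodule.mkQ_surjective _) ?_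
      rw [Submodule.ker_mkQ, LinearMap.range_eq_map]
      exact Submodule.FG.map _ Module.Finite.fg_top
    exact .of_equiv ((homologyEquiv E (m + 1)).symm ≪≫ₗ e2)

end Main

end Groth.Agent.Helper3.PCohFin
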