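import Mathlib
import Groth.Prelude.Def_EGA41
set_option autoImplicit false
universe u
open IsLocalRing

namespace Groth.Agent.Helper3.PIndep

variable {A : Type u} [CommRing A] [IsLocalRing A] (p : ℕ) {ι : Type u} (c : ι → Fin p → A) (f : ι → A)

/-- the polynomials `F_i`. -/
noncomputable def F : ι → MvPolynomial ι A := fun i =>
  MvPolynomial.X i ^ p + (p : MvPolynomial ι A) * (Finset.univ.sum fun j : Fin p =>
    if (j : ℕ) = 0 then 0 else MvPolynomial.C (c i j) * MvPolynomial.X i ^ (p - (j : ℕ))) - MvPolynomial.C (f i)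

abbrev Q := MvPolynomial ι A ⧸ Ideal.span (Set.range (F p c f))

/-- the ideal `m A'`. -/
noncomputable def I : Ideal (Q p c f) := (maximalIdeal A).map (algebraMap A (Q p c f))

def B := Q p c f ⧸ I p c f

noncomputable instance : CommRing (B p c f) := Ideal.Quotient.commRing (I p c f)

/-- the map `A[T] → B`. -/
noncomputable def π : MvPolynomial ι A →+* B p c f :=
  (Ideal.Quotient.mk (I p c f)).comp (Ideal.Quotient.mk _)

/-- the map `A → B`. -/
noncomputable def toB : A →+* B p c f := (π p c f).comp MvPolynomial.C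

lemma π_surjective : Function.Surjective (π p c f) :=
  Ideal.Quotient.mk_surjective.comp Ideal.Quotient.mk_surjective

lemma toB_eq_zero (a : A) (ha : a ∈ maximalIdeal A) : toB p c f a = 0 := by
  refine Ideal.Quotient.eq_zero_iff_mem.mpr ?_
  exact Ideal.mem_map_of_mem (algebraMap A (Q p c f)) ha

variable [Fact p.Prime] [CharP (ResidueField A) p]

omit [Fact p.Prime] in
lemma p_mem : (p : A) ∈ maximalIdeal A := by
  rw [← residue_eq_zero_iff, map_natCast]
  exact CharP.cast_eq_zero _ _

omit [Fact p.Prime] in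
lemma natCast_B : (p : B p c f) = 0 := by
  rw [← map_natCast (toB p c f)]
  exact toB_eq_zero p c f _ (p_mem p)

omit [Fact p.Prime] in
lemma π_X_pow (i : ι) : π p c f (MvPolynomial.X i) ^ p = toB p c f (f i) := by
  have h : Ideal.Quotient.mk (Ideal.span (Set.range (F p c f))) (F p c f i) = 0 :=
    Ideal.Quotient.eq_zero_iff_mem.mpr (Ideal.subset_span ⟨i, rfl⟩)
  have h2 : π p c f (F p c f i) = 0 := by
    show Ideal.Quotient.mk (I p c f) _ = 0
    rw [h, map_zero]
  have hF : F p c f i = MvPolynomial.X i ^ p + (p : MvPolynomial ι A) * (Finset.univ.sum fun j : Fin p =>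
    if (j : ℕ) = 0 then 0 else MvPolynomial.C (c i j) * MvPolynomial.X i ^ (p - (j : ℕ))) -
      MvPolynomial.C (f i) := rfl
  rw [hF, map_sub, map_add, map_mul, map_natCast, natCast_B, map_pow, zero_mul, add_zero,
    sub_eq_zero] at h2
  exact h2

omit [Fact p.Prime] in
lemma π_C (a : A) : π p c f (MvPolynomial.C a) = toB p c f a := rfl

/-- lift ring homs out of `B`. -/
lemma exists_lift {R : Type*} [CommRing R] (φ : MvPolynomial ι A →+* R)
    (h1 : ∀ i, φ (F p c f i) = 0) (h2 : ∀ a ∈ maximalIdeal A, φ (MvPolynomial.C a) = 0) :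
    ∃ ψ : B p c f →+* R, ∀ P, ψ (π p c f P) = φ P := by
  have hφ : ∀ a ∈ Ideal.span (Set.range (F p c f)), φ a = 0 := by
    intro a ha
    have : Ideal.span (Set.range (F p c f)) ≤ RingHom.ker φ := by
      rw [Ideal.span_le]
      rintro _ ⟨i, rfl⟩
      exact h1 i
    exact this ha
  let φ1 : Q p c f →+* R := Ideal.Quotient.lift _ φ hφ
  have hφ1 : ∀ a ∈ I p c f, φ1 a = 0 := by
    intro a ha
    have : I p c f ≤ RingHom.ker φ1 := by
      unfold I
      rw [Ideal.map_le_iff_le_comap]
      intro a ha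
      exact h2 a ha
    exact this ha
  exact ⟨Ideal.Quotient.lift _ φ1 hφ1, fun P => rfl⟩

lemma nontrivial_B [Finite ι] : Nontrivial (B p c f) := by
  classical
  let K := ResidueField A
  let L := AlgebraicClosure K
  have hp : 0 < p := (Fact.out : p.Prime).pos
  choose ρ hρ using fun i : ι => IsAlgClosed.exists_pow_nat_eq (algebraMap K L (residue A (f i))) hp
  let φ : MvPolynomial ι A →+* L := MvPolynomial.eval₂Hom ((algebraMap K L).comp (residue A)) ρ
  have hpL : (p : L) = 0 := by
    rw [← map_natCast (algebraMap K L), CharP.cast_eq_zero, map_zero]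
  obtain ⟨ψ, -⟩ := exists_lift p c f φ (by
    intro i
    have hF : F p c f i = MvPolynomial.X i ^ p + (p : MvPolynomial ι A) * (Finset.univ.sum fun j : Fin p =>
      if (j : ℕ) = 0 then 0 else MvPolynomial.C (c i j) * MvPolynomial.X i ^ (p - (j : ℕ))) -
        MvPolynomial.C (f i) := rfl
    rw [hF, map_sub, map_add, map_mul, map_natCast, hpL, zero_mul, add_zero, map_pow]
    simp only [φ, MvPolynomial.eval₂Hom_X', MvPolynomial.eval₂Hom_C, RingHom.comp_apply, hρ, sub_self]) (by
    intro a ha
    simp only [φ, MvPolynomial.eval₂Hom_C, RingHom.comp_apply, (residue_eq_zero_iff a).mpr ha, map_zero])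
  exact ψ.domain_nontrivial

omit [Fact p.Prime] [CharP (ResidueField A) p] in
lemma π_monomial [Fintype ι] (e : ι →₀ ℕ) :
    π p c f (MvPolynomial.monomial e 1) = ∏ i, π p c f (MvPolynomial.X i) ^ e i := by
  rw [MvPolynomial.monomial_eq, map_mul, MvPolynomial.C_1, map_one, one_mul, map_finsuppProd,
    Finsupp.prod_fintype]
  · simp
  · intro i; simp

omit [Fact p.Prime] in
lemma mon_pow [Fintype ι] (e : ι →₀ ℕ) :
    π p c f (MvPolynomial.monomial e 1) ^ p = toB p c f (∏ i, f i ^ e i) := by
  rw [π_monomial, ← Finset.prod_pow, map_prod]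
  apply Finset.prod_congr rfl
  intro i _
  rw [← pow_mul, mul_comm, pow_mul, π_X_pow, map_pow]

lemma mon_reduce [Fintype ι] (e : ι →₀ ℕ) :
    π p c f (MvPolynomial.monomial e 1) = toB p c f (∏ i, f i ^ (e i / p)) *
      π p c f (MvPolynomial.monomial (e.mapRange (· % p) (Nat.zero_mod p)) 1) := by
  rw [π_monomial, π_monomial, map_prod, ← Finset.prod_mul_distrib]
  apply Finset.prod_congr rfl
  intro i _
  rw [Finsupp.mapRange_apply, map_pow, ← π_X_pow, ← pow_mul, ← pow_add, Nat.div_add_mod]

lemma exists_repr [Finite ι] (x : B p c f) :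
    ∃ l : {e : ι →₀ ℕ // ∀ i, e i < p} →₀ A,
      x = l.sum fun e a => toB p c f a * π p c f (MvPolynomial.monomial e.1 1) := by
  classical
  haveI := Fintype.ofFinite ι
  letI : Algebra A (B p c f) := (toB p c f).toAlgebra
  have hp : 0 < p := (Fact.out : p.Prime).pos
  let N : Submodule A (B p c f) := Submodule.span A (Set.range
    fun e : {e : ι →₀ ℕ // ∀ i, e i < p} => π p c f (MvPolynomial.monomial e.1 1))
  have hN : ∀ P : MvPolynomial ι A, π p c f P ∈ N := by
    intro P
    induction P using MvPolynomial.induction_on' with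
    | monomial e a =>
      have h1 : MvPolynomial.monomial e a = MvPolynomial.C a * MvPolynomial.monomial e 1 := by
        rw [MvPolynomial.C_mul_monomial, mul_one]
      rw [h1, map_mul, π_C, mon_reduce, ← mul_assoc, ← map_mul]
      have h2 : toB p c f (a * ∏ i, f i ^ (e i / p)) *
          π p c f (MvPolynomial.monomial (e.mapRange (· % p) (Nat.zero_mod p)) 1) =
          (a * ∏ i, f i ^ (e i / p)) •
          π p c f (MvPolynomial.monomial (e.mapRange (· % p) (Nat.zero_mod p)) 1) := by
        rw [Algebra.smul_def]; rfl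
      rw [h2]
      apply Submodule.smul_mem
      apply Submodule.subset_span
      exact ⟨⟨e.mapRange (· % p) (Nat.zero_mod p), fun i => by
        rw [Finsupp.mapRange_apply]; exact Nat.mod_lt _ hp⟩, rfl⟩
    | add P Q hP hQ => rw [map_add]; exact Submodule.add_mem _ hP hQ
  obtain ⟨P, rfl⟩ := π_surjective p c f x
  obtain ⟨l, hl⟩ := Finsupp.mem_span_range_iff_exists_finsupp.mp (hN P)
  refine ⟨l, ?_⟩
  rw [← hl]
  apply Finsupp.sum_congr
  intro e _
  rw [Algebra.smul_def]; rfl

theorem eq_zero_or_isUnit [Finite ι]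
    (hind : LinearIndependent (↥(frobenius (ResidueField A) p).fieldRange)
      (fun e : {e : ι →₀ ℕ // ∀ i, e i < p} => EGA41.pMonomial (fun i => residue A (f i)) e.1))
    (x : B p c f) : x = 0 ∨ IsUnit x := by
  classical
  haveI := Fintype.ofFinite ι
  haveI := nontrivial_B p c f
  have hp : p.Prime := Fact.out
  haveI : CharP (B p c f) p := (CharP.charP_iff_prime_eq_zero hp).mpr (natCast_B p c f)
  obtain ⟨l, rfl⟩ := exists_repr p c f x
  let y : A := ∑ e ∈ l.support, l e ^ p * ∏ i, f i ^ (e.1 i)
  have hxp : (l.sum fun e a => toB p c f a * π p c f (MvPolynomial.monomial e.1 1)) ^ p =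
      toB p c f y := by
    rw [Finsupp.sum, sum_pow_char, map_sum]
    apply Finset.sum_congr rfl
    intro e _
    rw [mul_pow, mon_pow, map_mul, map_pow]
  by_cases hy : y ∈ maximalIdeal A
  · left
    have h1 : residue A y = 0 := (residue_eq_zero_iff y).mpr hy
    have h2 := linearIndependent_iff'.mp hind l.support
      (fun e => ⟨frobenius (ResidueField A) p (residue A (l e)), ⟨_, rfl⟩⟩) (by
        rw [← h1, map_sum]
        apply Finset.sum_congr rfl
        intro e _
        rw [map_mul, map_pow, map_prod, EGA41.pMonomial, Finsupp.prod_fintype _ _ (by intro i; simp)]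
        simp only [map_pow]
        rfl)
    rw [Finsupp.sum]
    apply Finset.sum_eq_zero
    intro e he
    have h3 := congrArg Subtype.val (h2 e he)
    simp only [frobenius_def, ZeroMemClass.coe_zero] at h3
    have h4 : residue A (l e) = 0 := pow_eq_zero_iff hp.ne_zero |>.mp h3
    rw [toB_eq_zero p c f _ ((residue_eq_zero_iff _).mp h4), zero_mul]
  · right
    have h1 : IsUnit y := by
      by_contra h
      exact hy ((IsLocalRing.mem_maximalIdeal y).mpr h)
    have h2 := h1.map (toB p c f)
    rw [← hxp] at h2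
    exact (isUnit_pow_iff hp.ne_zero).mp h2

theorem isMaximal_I [Finite ι]
    (hind : LinearIndependent (↥(frobenius (ResidueField A) p).fieldRange)
      (fun e : {e : ι →₀ ℕ // ∀ i, e i < p} => EGA41.pMonomial (fun i => residue A (f i)) e.1)) :
    (I p c f).IsMaximal := by
  apply Ideal.Quotient.maximal_of_isField
  haveI := nontrivial_B p c f
  refine ⟨exists_pair_ne (B p c f), fun a b => mul_comm (G := B p c f) a b, ?_⟩
  intro a ha
  rcases eq_zero_or_isUnit p c f hind a with h | h
  · exact absurd h ha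
  · obtain ⟨b, hb⟩ := h.exists_right_inv
    exact ⟨b, hb⟩

theorem main [Finite ι] (hm : maximalIdeal A ^ 2 = ⊥)
    (hind : LinearIndependent (↥(frobenius (ResidueField A) p).fieldRange)
      (fun e : {e : ι →₀ ℕ // ∀ i, e i < p} => EGA41.pMonomial (fun i => residue A (f i)) e.1)) :
    ∃ _ : IsLocalRing (Q p c f), maximalIdeal (Q p c f) =
      (maximalIdeal A).map (algebraMap A (Q p c f)) := by
  have hmax := isMaximal_I p c f hind
  have hsq : I p c f ^ 2 = ⊥ := by
    unfold I
    rw [← Ideal.map_pow, hm, Ideal.map_bot]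
  have hle : ∀ M : Ideal (Q p c f), M.IsMaximal → I p c f ≤ M := by
    intro M hM
    apply hM.isPrime.le_of_pow_le (n := 2)
    rw [hsq]; exact bot_le
  have hloc : IsLocalRing (Q p c f) := IsLocalRing.of_unique_max_ideal
    ⟨I p c f, hmax, fun M hM => (hmax.eq_of_le hM.ne_top (hle M hM)).symm⟩
  exact ⟨hloc, (IsLocalRing.eq_maximalIdeal hmax).symm⟩

end Groth.Agent.Helper3.PIndep
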