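import Mathlib
import Groth.Agent.Lib.Helper3.MonicTower2
set_option autoImplicit false
universe u
open IsLocalRing

/-! # The algebra `B = A[T_1..T_r]/(T_i^p - f_i)` over a ring of characteristic `p`

`B` is a `def` (not an `abbrev`) so that instance search does not see the quotient structure
(which creates non-reducible instance diamonds, e.g. for `Algebra ℤ B`). -/

namespace Groth.Agent.Helper3.PRootAlg

variable {A : Type u} [CommRing A] (p : ℕ) {r : ℕ} (f : Fin r → A)

/-- the ideal `(T_i^p - f_i)`. -/
noncomputable abbrev I : Ideal (MvPolynomial (Fin r) A) :=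
  Ideal.span (Set.range fun i => (MvPolynomial.X i ^ p - MvPolynomial.C (f i) : MvPolynomial (Fin r) A))

/-- the quotient ring `B = A[T]/(T_i^p - f_i)`. -/
def B := MvPolynomial (Fin r) A ⧸ I p f

noncomputable instance : CommRing (B p f) :=
  inferInstanceAs (CommRing (MvPolynomial (Fin r) A ⧸ I p f))

noncomputable instance : Algebra A (B p f) :=
  inferInstanceAs (Algebra A (MvPolynomial (Fin r) A ⧸ I p f))

instance : Algebra.FiniteType A (B p f) :=
  inferInstanceAs (Algebra.FiniteType A (MvPolynomial (Fin r) A ⧸ I p f))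

/-- the quotient map. -/
noncomputable def mk : MvPolynomial (Fin r) A →ₐ[A] B p f := Ideal.Quotient.mkₐ A (I p f)

lemma mk_surjective : Function.Surjective (mk p f) := Ideal.Quotient.mkₐ_surjective A (I p f)

lemma mk_eq_zero_iff (q : MvPolynomial (Fin r) A) : mk p f q = 0 ↔ q ∈ I p f :=
  Ideal.Quotient.eq_zero_iff_mem

lemma mk_C (a : A) : mk p f (MvPolynomial.C a) = algebraMap A (B p f) a := by
  rw [← MvPolynomial.algebraMap_eq, AlgHom.commutes]

/-- lifting ring maps. -/
noncomputable def lift {T : Type*} [CommRing T] (g : MvPolynomial (Fin r) A →+* T)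
    (hg : ∀ q ∈ I p f, g q = 0) : B p f →+* T := Ideal.Quotient.lift (I p f) g hg

lemma lift_mk {T : Type*} [CommRing T] (g : MvPolynomial (Fin r) A →+* T)
    (hg : ∀ q ∈ I p f, g q = 0) (q : MvPolynomial (Fin r) A) : lift p f g hg (mk p f q) = g q := rfl

/-- the class of `T_i`. -/
noncomputable def x (i : Fin r) : B p f := mk p f (MvPolynomial.X i)

lemma x_pow (i : Fin r) : x p f i ^ p = algebraMap A (B p f) (f i) := by
  have h : mk p f (MvPolynomial.X i ^ p - MvPolynomial.C (f i)) = 0 :=
    (mk_eq_zero_iff p f _).mpr (Ideal.subset_span ⟨i, rfl⟩)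
  rw [map_sub, map_pow, sub_eq_zero, mk_C] at h
  exact h

lemma F_eq (hp : 1 ≤ p) :
    MonicTower.F (fun _ : Fin r => p) (fun i k => if k = 0 then - f i else 0) =
      fun i => (MvPolynomial.X i ^ p - MvPolynomial.C (f i) : MvPolynomial (Fin r) A) := by
  funext i
  unfold MonicTower.F
  rw [Finset.sum_eq_single 0]
  · simp [sub_eq_add_neg]
  · intro k _ hk
    simp [hk]
  · intro h
    exact absurd (Finset.mem_range.mpr hp) h

theorem algebraMap_injective [Nontrivial A] (hp : 1 ≤ p) :
    Function.Injective (algebraMap A (B p f)) := by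
  have := MonicTower.algebraMap_injective (A := A) (fun _ : Fin r => p) (fun _ => hp)
    (fun i k => if k = 0 then - f i else 0)
  unfold MonicTower.Q at this
  rw [F_eq p f hp] at this
  exact this

theorem isIntegral (hp : 1 ≤ p) : Algebra.IsIntegral A (B p f) := by
  have := MonicTower.isIntegral (A := A) (fun _ : Fin r => p)
    (fun i k => if k = 0 then - f i else 0)
  unfold MonicTower.Q at this
  rw [F_eq p f hp] at this
  exact this

instance finite [hp : Fact p.Prime] : Module.Finite A (B p f) := by
  haveI := isIntegral p f hp.out.one_le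
  exact Algebra.IsIntegral.finite

variable [hp : Fact p.Prime] [CharP A p]

lemma exists_pow_eq (y : B p f) : ∃ a : A, y ^ p = algebraMap A (B p f) a := by
  obtain ⟨P, rfl⟩ := mk_surjective p f y
  induction P using MvPolynomial.induction_on with
  | C a => exact ⟨a ^ p, by rw [mk_C, map_pow]⟩
  | add P Q hP hQ =>
    obtain ⟨a, ha⟩ := hP
    obtain ⟨b, hb⟩ := hQ
    refine ⟨a + b, ?_⟩
    rw [← map_pow, add_pow_char, map_add, map_pow, map_pow, ha, hb, map_add]
  | mul_X P i hP =>
    obtain ⟨a, ha⟩ := hP
    refine ⟨a * f i, ?_⟩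
    rw [map_mul, mul_pow, ha, map_mul]
    congr 1
    exact x_pow p f i

variable [IsLocalRing A]

instance nontrivial : Nontrivial (B p f) :=
  (algebraMap_injective p f hp.out.one_le).nontrivial

instance charP : CharP (B p f) p :=
  charP_of_injective_algebraMap (algebraMap_injective p f hp.out.one_le) p

lemma not_isUnit_algebraMap (hm : maximalIdeal A ^ 2 = ⊥) (a : A) (ha : a ∈ maximalIdeal A) :
    ¬ IsUnit (algebraMap A (B p f) a) := by
  intro hu
  have h2 : a ^ 2 = 0 := by
    have : a ^ 2 ∈ maximalIdeal A ^ 2 := Ideal.pow_mem_pow ha 2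
    rw [hm] at this
    exact this
  have : IsUnit ((algebraMap A (B p f) a) ^ 2) := hu.pow 2
  rw [← map_pow, h2, map_zero] at this
  exact not_isUnit_zero this

theorem isLocalRing (hm : maximalIdeal A ^ 2 = ⊥) : IsLocalRing (B p f) := by
  refine IsLocalRing.of_nonunits_add ?_
  intro y z hy hz
  obtain ⟨a, ha⟩ := exists_pow_eq p f y
  obtain ⟨b, hb⟩ := exists_pow_eq p f z
  have ha' : a ∈ maximalIdeal A := by
    by_contra h
    have hu : IsUnit a := by
      by_contra h'
      exact h ((mem_maximalIdeal a).mpr h')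
    have : IsUnit (y ^ p) := by rw [ha]; exact hu.map _
    exact hy ((isUnit_pow_iff hp.out.ne_zero).mp this)
  have hb' : b ∈ maximalIdeal A := by
    by_contra h
    have hu : IsUnit b := by
      by_contra h'
      exact h ((mem_maximalIdeal b).mpr h')
    have : IsUnit (z ^ p) := by rw [hb]; exact hu.map _
    exact hz ((isUnit_pow_iff hp.out.ne_zero).mp this)
  intro hu
  have h1 : IsUnit ((y + z) ^ p) := hu.pow p
  rw [add_pow_char, ha, hb, ← map_add] at h1
  exact not_isUnit_algebraMap p f hm (a + b) (Ideal.add_mem _ ha' hb') h1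

theorem isLocalHom (hm : maximalIdeal A ^ 2 = ⊥) : IsLocalHom (algebraMap A (B p f)) := by
  constructor
  intro a ha
  by_contra h
  exact not_isUnit_algebraMap p f hm a ((mem_maximalIdeal a).mpr h) ha

end Groth.Agent.Helper3.PRootAlg
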