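import Mathlib
import Groth.Agent.Lib.Helper9.Cartier6
import Groth.Agent.Lib.Helper9.Fredholm
set_option autoImplicit false
set_option linter.unusedSectionVars false
set_option linter.style.haveILetI false
universe u

/-! # An index count for cotangent spaces along `A → B` with residue fields `K → K'` -/

namespace Groth.Agent.Helper3.PRootIndex

open TensorProduct KaehlerDifferential Groth.Agent.Helper9 Groth.Agent.Helper9.Imperf

section ThetaGeneral

variable {a K L M : Type*} [CommRing a] [CommRing K] [CommRing L] [CommRing M]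
  [Algebra a K] [Algebra a L] [Algebra K L] [IsScalarTower a K L]
  [Algebra K M] [Algebra L M] [IsScalarTower K L M]

lemma range_theta : LinearMap.range (theta a K L M) =
    LinearMap.range ((mapBaseChange a K L).baseChange M) := by
  unfold theta
  rw [LinearMap.range_comp, LinearEquiv.range, Submodule.map_top]

lemma ker_baseChange_map : LinearMap.ker ((KaehlerDifferential.map a K L L).baseChange M) =
    LinearMap.range ((mapBaseChange a K L).baseChange M) := by
  have hex := lTensor_exact M (KaehlerDifferential.exact_mapBaseChange_map a K L)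
    (KaehlerDifferential.map_surjective a K L)
  ext z
  rw [LinearMap.mem_ker, LinearMap.mem_range]
  exact hex z

lemma surj_baseChange_map :
    Function.Surjective ((KaehlerDifferential.map a K L L).baseChange M) := by
  have := LinearMap.lTensor_surjective M (KaehlerDifferential.map_surjective a K L)
  intro z
  obtain ⟨y, hy⟩ := this z
  exact ⟨y, hy⟩

/-- The cokernel of `theta` is the base change of `Ω_{L/K}`. -/
noncomputable def cokerThetaEquiv :
    ((M ⊗[L] Ω[L⁄a]) ⧸ LinearMap.range (theta a K L M)) ≃ₗ[M] M ⊗[L] Ω[L⁄K] := by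
  have h : LinearMap.range (theta a K L M) =
      LinearMap.ker ((KaehlerDifferential.map a K L L).baseChange M) :=
    range_theta.trans ker_baseChange_map.symm
  have e1 : ((M ⊗[L] Ω[L⁄a]) ⧸ LinearMap.range (theta a K L M)) ≃ₗ[M]
      ((M ⊗[L] Ω[L⁄a]) ⧸ LinearMap.ker ((KaehlerDifferential.map a K L L).baseChange M)) :=
    Submodule.quotEquivOfEq _ _ h
  have e2 : ((M ⊗[L] Ω[L⁄a]) ⧸ LinearMap.ker ((KaehlerDifferential.map a K L L).baseChange M))
      ≃ₗ[M] M ⊗[L] Ω[L⁄K] :=
    LinearMap.quotKerEquivOfSurjective _ surj_baseChange_map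
  exact e1.trans e2

/-- The kernel of `theta` is the base change of the kernel of `mapBaseChange`, if `M` is flat
over `L`. -/
noncomputable def kerThetaEquiv [Module.Flat L M] :
    LinearMap.ker (theta a K L M) ≃ₗ[M] M ⊗[L] (LinearMap.ker (mapBaseChange a K L)) := by
  have h : LinearMap.ker (theta a K L M) =
      (LinearMap.ker ((mapBaseChange a K L).baseChange M)).comap
        ((TensorProduct.AlgebraTensorModule.cancelBaseChange K L M M Ω[K⁄a]).symm :
          M ⊗[K] Ω[K⁄a] →ₗ[M] M ⊗[L] (L ⊗[K] Ω[K⁄a])) := by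
    unfold theta
    rw [LinearMap.ker_comp]
  exact (LinearEquiv.ofEq _ _ h).trans
    ((LinearEquiv.ofSubmodule'
      (TensorProduct.AlgebraTensorModule.cancelBaseChange K L M M Ω[K⁄a]).symm _).trans
      (LinearMap.tensorKerEquiv M M (mapBaseChange a K L)).symm)

lemma comp_theta [Algebra a M] [IsScalarTower a K M] [IsScalarTower a L M] :
    mapBaseChange a L M ∘ₗ theta a K L M = mapBaseChange a K M := by
  apply LinearMap.ext
  intro z
  rw [LinearMap.comp_apply]
  exact mapBaseChange_theta z

end ThetaGeneral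

section Index

variable {A B K K' : Type u} [CommRing A] [CommRing B] [Field K] [Field K']
  [Algebra A B] [Algebra A K] [Algebra B K'] [Algebra K K'] [Algebra A K']
  [IsScalarTower A K K'] [IsScalarTower A B K']

/-- the index count. -/
theorem index_count (hK : Function.Surjective (algebraMap A K))
    (hK' : Function.Surjective (algebraMap B K')) [Module.Finite K K']
    [Module.Finite K (LinearMap.ker (mapBaseChange ℤ A K))]
    [Module.Finite K' (LinearMap.ker (mapBaseChange ℤ B K'))]
    [Module.Finite K' (K' ⊗[B] Ω[B⁄A])]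
    [Module.Finite K' (LinearMap.ker (theta ℤ A B K'))] :
    Module.finrank K' (LinearMap.ker (mapBaseChange ℤ B K')) +
        Module.finrank K' (LinearMap.ker (theta ℤ A B K')) =
      Module.finrank K (LinearMap.ker (mapBaseChange ℤ A K)) +
        Module.finrank K' (K' ⊗[B] Ω[B⁄A]) := by
  -- first factorization: θ_A = β_B ∘ φ
  have h1 : mapBaseChange ℤ B K' ∘ₗ theta ℤ A B K' = mapBaseChange ℤ A K' := comp_theta
  have h2 : mapBaseChange ℤ K K' ∘ₗ theta ℤ A K K' = mapBaseChange ℤ A K' := comp_theta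
  -- cokernels
  haveI i2 : Module.Finite K' ((K' ⊗[B] Ω[B⁄ℤ]) ⧸ LinearMap.range (theta ℤ A B K')) :=
    Module.Finite.equiv (cokerThetaEquiv (a := ℤ) (K := A) (L := B) (M := K')).symm
  have hβsurj : Function.Surjective (mapBaseChange ℤ B K') :=
    KaehlerDifferential.mapBaseChange_surjective ℤ B K' hK'
  have hβrange : LinearMap.range (mapBaseChange ℤ B K') = ⊤ := LinearMap.range_eq_top.mpr hβsurj
  haveI i4s : Subsingleton (Ω[K'⁄ℤ] ⧸ LinearMap.range (mapBaseChange ℤ B K')) := by
    rw [hβrange]; infer_instance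
  haveI i4 : Module.Finite K' (Ω[K'⁄ℤ] ⧸ LinearMap.range (mapBaseChange ℤ B K')) := inferInstance
  have hind1 := Fredholm.index_comp (theta ℤ A B K') (mapBaseChange ℤ B K')
  rw [h1] at hind1
  -- second factorization: θ_A = ψ ∘ α_A
  haveI j1 : Module.Finite K' (LinearMap.ker (theta ℤ A K K')) :=
    Module.Finite.equiv (kerThetaEquiv (a := ℤ) (K := A) (L := K) (M := K')).symm
  haveI : Subsingleton (Ω[K⁄A]) := KaehlerDifferential.subsingleton_of_surjective A K hK
  haveI j2s : Subsingleton ((K' ⊗[K] Ω[K⁄ℤ]) ⧸ LinearMap.range (theta ℤ A K K')) :=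
    (cokerThetaEquiv (a := ℤ) (K := A) (L := K) (M := K')).toEquiv.subsingleton
  haveI j2 : Module.Finite K' ((K' ⊗[K] Ω[K⁄ℤ]) ⧸ LinearMap.range (theta ℤ A K K')) :=
    inferInstance
  obtain ⟨hPΩ, hPΥ, hPt, hPe⟩ := Cartier.P.of_essFiniteType K K'
  haveI j3 : Module.Finite K' (LinearMap.ker (mapBaseChange ℤ K K')) := hPΥ
  haveI j4 : Module.Finite K' (Ω[K'⁄ℤ] ⧸ LinearMap.range (mapBaseChange ℤ K K')) :=
    Module.Finite.equiv (Cartier.cokerEquiv ℤ K K').symm
  have hind2 := Fredholm.index_comp (theta ℤ A K K') (mapBaseChange ℤ K K')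
  rw [h2] at hind2
  -- evaluate the terms
  have e1 : Module.finrank K' ((K' ⊗[B] Ω[B⁄ℤ]) ⧸ LinearMap.range (theta ℤ A B K')) =
      Module.finrank K' (K' ⊗[B] Ω[B⁄A]) :=
    (cokerThetaEquiv (a := ℤ) (K := A) (L := B) (M := K')).finrank_eq
  have e2 : Module.finrank K' (Ω[K'⁄ℤ] ⧸ LinearMap.range (mapBaseChange ℤ B K')) = 0 :=
    Module.finrank_zero_of_subsingleton
  have e3 : Module.finrank K' ((K' ⊗[K] Ω[K⁄ℤ]) ⧸ LinearMap.range (theta ℤ A K K')) = 0 :=
    Module.finrank_zero_of_subsingleton
  haveI : Module.Free K (LinearMap.ker (mapBaseChange ℤ A K)) :=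
    Module.Free.of_divisionRing K ↥(LinearMap.ker (mapBaseChange ℤ A K))
  have e4 : Module.finrank K' (LinearMap.ker (theta ℤ A K K')) =
      Module.finrank K (LinearMap.ker (mapBaseChange ℤ A K)) := by
    rw [(kerThetaEquiv (a := ℤ) (K := A) (L := K) (M := K')).finrank_eq, Module.finrank_baseChange]
  have e5 : Module.finrank K' (Ω[K'⁄ℤ] ⧸ LinearMap.range (mapBaseChange ℤ K K')) =
      Module.finrank K' (Ω[K'⁄K]) := (Cartier.cokerEquiv ℤ K K').finrank_eq
  have e6 : Module.finrank K' (LinearMap.ker (mapBaseChange ℤ K K')) =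
      Module.finrank K' (EGA41.imperfection ℤ K K') := rfl
  have htr : Cardinal.toNat (Algebra.trdeg K K') = 0 := by
    rw [trdeg_eq_zero]; simp
  rw [htr] at hPe
  omega

end Index

end Groth.Agent.Helper3.PRootIndex
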