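import Mathlib
import Groth.Agent.Lib.Helper3.PRootAlg
import Groth.Agent.Lib.Helper9.Imperf2
set_option autoImplicit false
set_option linter.unusedSectionVars false
universe u

/-! # Differentials of `B = A[T_1..T_r]/(T_i^p - f_i)` in characteristic `p` -/

namespace Groth.Agent.Helper3.PRootOmega


open TensorProduct KaehlerDifferential Groth.Agent.Helper9.Imperf Groth.Agent.Helper3.PRootAlg

variable {A : Type u} [CommRing A] (p : ℕ) [hp : Fact p.Prime] [CharP A p] {r : ℕ} (f : Fin r → A)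

lemma D_pow_eq_zero {R : Type*} [CommRing R] (n : ℕ) (hn : ((n : ℕ) : R) = 0) (y : R) :
    D ℤ R (y ^ n) = 0 := by
  rw [Derivation.leibniz_pow, ← Nat.cast_smul_eq_nsmul R, hn, zero_smul]

section Relative

lemma pderiv_gen (i j : Fin r) :
    MvPolynomial.pderiv j (MvPolynomial.X i ^ p - MvPolynomial.C (f i) : MvPolynomial (Fin r) A) = 0 := by
  rw [map_sub, MvPolynomial.pderiv_C, sub_zero, Derivation.leibniz_pow]
  have : ((p : ℕ) : MvPolynomial (Fin r) A) = 0 := CharP.cast_eq_zero _ p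
  rw [← Nat.cast_smul_eq_nsmul (MvPolynomial (Fin r) A), this, zero_smul]

lemma pderiv_mem (j : Fin r) (q : MvPolynomial (Fin r) A) (hq : q ∈ I p f) :
    MvPolynomial.pderiv j q ∈ I p f := by
  induction hq using Submodule.span_induction with
  | mem q hq =>
    obtain ⟨i, rfl⟩ := hq
    rw [pderiv_gen]
    exact Ideal.zero_mem _
  | zero => rw [map_zero]; exact Ideal.zero_mem _
  | add q q' _ _ h h' => rw [map_add]; exact Ideal.add_mem _ h h'
  | smul a q hq h =>
    rw [smul_eq_mul, Derivation.leibniz]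
    refine Ideal.add_mem _ ?_ ?_
    · rw [smul_eq_mul]; exact Ideal.mul_mem_left _ _ h
    · rw [smul_eq_mul]; exact Ideal.mul_mem_right _ _ hq

lemma hd_pderiv (j : Fin r) : ∀ q : MvPolynomial (Fin r) A,
    mk p f q = 0 → mk p f (MvPolynomial.pderiv j q) = 0 := by
  intro q hq
  rw [mk_eq_zero_iff] at hq ⊢
  exact pderiv_mem p f j q hq

/-- the partial derivatives on `B`. -/
noncomputable def partialD (j : Fin r) : Derivation A (B p f) (B p f) :=
  Derivation.liftOfSurjective (f := mk p f) (mk_surjective p f) (d := MvPolynomial.pderiv j)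
    (hd_pderiv p f j)

lemma partialD_mk (j : Fin r) (q : MvPolynomial (Fin r) A) :
    partialD p f j (mk p f q) = mk p f (MvPolynomial.pderiv j q) :=
  Derivation.liftOfSurjective_apply (f := mk p f) (mk_surjective p f) (hd_pderiv p f j) q

lemma partialD_x (i j : Fin r) : partialD p f j (x p f i) = if i = j then 1 else 0 := by
  unfold x
  rw [partialD_mk]
  classical
  rw [MvPolynomial.pderiv_X, Pi.single_apply]
  split_ifs <;> simp

/-- the map `B^r → Ω_{B/A}`. -/
noncomputable def G : (Fin r → B p f) →ₗ[B p f] Ω[B p f⁄A] :=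
  Fintype.linearCombination (B p f) (fun j => D A (B p f) (x p f j))

/-- the map `Ω_{B/A} → B^r`. -/
noncomputable def H : Ω[B p f⁄A] →ₗ[B p f] (Fin r → B p f) :=
  LinearMap.pi fun j => (partialD p f j).liftKaehlerDifferential

lemma H_G (v : Fin r → B p f) : H p f (G p f v) = v := by
  funext j
  unfold H G
  rw [LinearMap.pi_apply, Fintype.linearCombination_apply, map_sum]
  simp only [map_smul, Derivation.liftKaehlerDifferential_comp_D, partialD_x, smul_eq_mul,
    mul_ite, mul_one, mul_zero]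
  rw [Finset.sum_ite_eq' Finset.univ j]
  simp

lemma G_surjective : Function.Surjective (G p f) := by
  rw [← LinearMap.range_eq_top, eq_top_iff, ← KaehlerDifferential.span_range_derivation,
    Submodule.span_le]
  rintro _ ⟨b, rfl⟩
  obtain ⟨q, rfl⟩ := mk_surjective p f b
  induction q using MvPolynomial.induction_on with
  | C a =>
    rw [mk_C, Derivation.map_algebraMap]
    exact Submodule.zero_mem _
  | add q q' h h' =>
    rw [map_add, map_add]
    exact Submodule.add_mem _ h h'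
  | mul_X q i h =>
    rw [map_mul, Derivation.leibniz]
    refine Submodule.add_mem _ (Submodule.smul_mem _ _ ?_) (Submodule.smul_mem _ _ h)
    refine ⟨Pi.single i 1, ?_⟩
    unfold G
    rw [Fintype.linearCombination_apply_single, one_smul]
    rfl

/-- `Ω_{B/A}` is free of rank `r`. -/
noncomputable def omegaEquiv : (Fin r → B p f) ≃ₗ[B p f] Ω[B p f⁄A] :=
  LinearEquiv.ofBijective (G p f)
    ⟨Function.LeftInverse.injective (g := H p f) (H_G p f), G_surjective p f⟩

variable {K' : Type u} [Field K'] [Algebra (B p f) K']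

instance finite_tensor : Module.Finite K' (K' ⊗[B p f] Ω[B p f⁄A]) :=
  Module.Finite.equiv ((omegaEquiv p f).baseChange (B p f) K' _ _)

lemma finrank_tensor : Module.finrank K' (K' ⊗[B p f] Ω[B p f⁄A]) = r := by
  rw [← ((omegaEquiv p f).baseChange (B p f) K' _ _).finrank_eq]
  haveI : Nontrivial (B p f) := (algebraMap (B p f) K').domain_nontrivial
  rw [Module.finrank_baseChange, Module.finrank_fin_fun]

end Relative

section Absolute

variable {K' : Type u} [Field K'] [Algebra (B p f) K'] [Algebra A K'] [IsScalarTower A (B p f) K']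

/-- the span of the `1 ⊗ d f_i`. -/
noncomputable def W : Submodule K' (K' ⊗[A] Ω[A⁄ℤ]) :=
  Submodule.span K' (Set.range fun i => (1 : K') ⊗ₜ[A] D ℤ A (f i))

lemma W_le_ker : W f (K' := K') ≤ LinearMap.ker (theta ℤ A (B p f) K') := by
  unfold W
  rw [Submodule.span_le]
  rintro _ ⟨i, rfl⟩
  have : ((p : ℕ) : B p f) = 0 := by
    have h : ((p : ℕ) : A) = 0 := CharP.cast_eq_zero _ p
    rw [← map_natCast (algebraMap A (B p f)) p, h, map_zero]
  rw [SetLike.mem_coe, LinearMap.mem_ker, theta_tmul_D, ← x_pow, D_pow_eq_zero p this, tmul_zero]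

section Lift

variable (π : K' ⊗[A] Ω[A⁄ℤ] →ₗ[K'] K' ⊗[A] Ω[A⁄ℤ])

/-- the ring map `A → K' ⊕ X` attached to the derivation `a ↦ π (1 ⊗ da)`. -/
noncomputable def ΦA : A →+* TrivSqZeroExt K' (K' ⊗[A] Ω[A⁄ℤ]) where
  toFun a := TrivSqZeroExt.inl (algebraMap A K' a) + TrivSqZeroExt.inr (π ((1 : K') ⊗ₜ[A] D ℤ A a))
  map_one' := by simp
  map_zero' := by simp
  map_add' a b := by
    simp only [map_add, tmul_add, TrivSqZeroExt.inl_add, TrivSqZeroExt.inr_add]
    abel
  map_mul' a b := by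
    apply TrivSqZeroExt.ext
    · simp
    · simp only [Derivation.leibniz, tmul_add, map_add, TrivSqZeroExt.snd_add,
        TrivSqZeroExt.snd_inl, TrivSqZeroExt.snd_inr, zero_add, TrivSqZeroExt.snd_mul,
        TrivSqZeroExt.fst_add, TrivSqZeroExt.fst_inl, TrivSqZeroExt.fst_inr, add_zero,
        op_smul_eq_smul]
      have h1 : (1 : K') ⊗ₜ[A] (a • D ℤ A b) = algebraMap A K' a • ((1 : K') ⊗ₜ[A] D ℤ A b) := by
        rw [tmul_smul, algebraMap_smul]
      have h2 : (1 : K') ⊗ₜ[A] (b • D ℤ A a) = algebraMap A K' b • ((1 : K') ⊗ₜ[A] D ℤ A a) := by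
        rw [tmul_smul, algebraMap_smul]
      rw [h1, h2, map_smul, map_smul]

lemma fst_ΦA (a : A) : (ΦA π a).fst = algebraMap A K' a := by simp [ΦA]
lemma snd_ΦA (a : A) : (ΦA π a).snd = π ((1 : K') ⊗ₜ[A] D ℤ A a) := by simp [ΦA]

/-- the ring map `A[T] → K' ⊕ X`. -/
noncomputable def ΦP : MvPolynomial (Fin r) A →+* TrivSqZeroExt K' (K' ⊗[A] Ω[A⁄ℤ]) :=
  MvPolynomial.eval₂Hom (ΦA π) (fun i => TrivSqZeroExt.inl (algebraMap (B p f) K' (x p f i)))

lemma ΦP_gen (hπ : ∀ w ∈ W f (K' := K'), π w = 0) (i : Fin r) :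
    ΦP p f π (MvPolynomial.X i ^ p - MvPolynomial.C (f i)) = 0 := by
  unfold ΦP
  rw [map_sub, map_pow, MvPolynomial.eval₂Hom_X', MvPolynomial.eval₂Hom_C]
  apply TrivSqZeroExt.ext
  · rw [TrivSqZeroExt.fst_sub, fst_ΦA, TrivSqZeroExt.inl_pow, TrivSqZeroExt.fst_inl, ← map_pow,
      x_pow, ← IsScalarTower.algebraMap_apply, sub_self, TrivSqZeroExt.fst_zero]
  · rw [TrivSqZeroExt.snd_sub, snd_ΦA, TrivSqZeroExt.inl_pow, TrivSqZeroExt.snd_inl, zero_sub,
      TrivSqZeroExt.snd_zero, neg_eq_zero]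
    exact hπ _ (Submodule.subset_span ⟨i, rfl⟩)

/-- the ring map `B → K' ⊕ X`. -/
noncomputable def Φ (hπ : ∀ w ∈ W f (K' := K'), π w = 0) :
    B p f →+* TrivSqZeroExt K' (K' ⊗[A] Ω[A⁄ℤ]) :=
  lift p f (ΦP p f π) (by
    intro a ha
    have : I p f ≤ RingHom.ker (ΦP p f π) := by
      rw [Ideal.span_le]
      rintro _ ⟨i, rfl⟩
      exact ΦP_gen p f π hπ i
    exact this ha)

lemma Φ_mk (hπ : ∀ w ∈ W f (K' := K'), π w = 0) (q : MvPolynomial (Fin r) A) :
    Φ p f π hπ (mk p f q) = ΦP p f π q := rfl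

lemma Φ_algebraMap (hπ : ∀ w ∈ W f (K' := K'), π w = 0) (a : A) :
    Φ p f π hπ (algebraMap A (B p f) a) = ΦA π a := by
  rw [← mk_C, Φ_mk]
  simp [ΦP]

lemma fst_Φ (hπ : ∀ w ∈ W f (K' := K'), π w = 0) (b : B p f) :
    (Φ p f π hπ b).fst = algebraMap (B p f) K' b := by
  obtain ⟨q, rfl⟩ := mk_surjective p f b
  rw [Φ_mk]
  have : (TrivSqZeroExt.fstHom K' K' (K' ⊗[A] Ω[A⁄ℤ])).toRingHom.comp (ΦP p f π) =
      (algebraMap (B p f) K').comp (mk p f).toRingHom := by
    apply MvPolynomial.ringHom_ext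
    · intro a
      simp only [ΦP, RingHom.comp_apply, MvPolynomial.eval₂Hom_C]
      change (ΦA π a).fst = algebraMap (B p f) K' (mk p f (MvPolynomial.C a))
      rw [fst_ΦA, mk_C, ← IsScalarTower.algebraMap_apply]
    · intro i
      simp only [ΦP, RingHom.comp_apply, MvPolynomial.eval₂Hom_X']
      rfl
  exact congrArg (fun g => g q) this

/-- the derivation `B → X`. -/
noncomputable def δ (hπ : ∀ w ∈ W f (K' := K'), π w = 0) :
    Derivation ℤ (B p f) (K' ⊗[A] Ω[A⁄ℤ]) where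
  toLinearMap := ((TrivSqZeroExt.sndHom K' (K' ⊗[A] Ω[A⁄ℤ])).toAddMonoidHom.comp
    (Φ p f π hπ).toAddMonoidHom).toIntLinearMap
  map_one_eq_zero' := by
    change (Φ p f π hπ 1).snd = 0
    rw [map_one, TrivSqZeroExt.snd_one]
  leibniz' a b := by
    change (Φ p f π hπ (a * b)).snd = a • (Φ p f π hπ b).snd + b • (Φ p f π hπ a).snd
    rw [map_mul, TrivSqZeroExt.snd_mul, fst_Φ, fst_Φ, op_smul_eq_smul, algebraMap_smul,
      algebraMap_smul]

lemma δ_apply (hπ : ∀ w ∈ W f (K' := K'), π w = 0) (b : B p f) :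
    δ p f π hπ b = (Φ p f π hπ b).snd := rfl

lemma δ_algebraMap (hπ : ∀ w ∈ W f (K' := K'), π w = 0) (a : A) :
    δ p f π hπ (algebraMap A (B p f) a) = π ((1 : K') ⊗ₜ[A] D ℤ A a) := by
  rw [δ_apply, Φ_algebraMap, snd_ΦA]

/-- the left inverse. -/
noncomputable def ℓ (hπ : ∀ w ∈ W f (K' := K'), π w = 0) :
    K' ⊗[B p f] Ω[B p f⁄ℤ] →ₗ[K'] K' ⊗[A] Ω[A⁄ℤ] :=
  (δ p f π hπ).liftKaehlerDifferential.liftBaseChange K'

lemma ℓ_theta (hπ : ∀ w ∈ W f (K' := K'), π w = 0) (z : K' ⊗[A] Ω[A⁄ℤ]) :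
    ℓ p f π hπ (theta ℤ A (B p f) K' z) = π z := by
  have h : ((ℓ p f π hπ).toAddMonoidHom.comp (theta ℤ A (B p f) K').toAddMonoidHom) =
      π.toAddMonoidHom := by
    apply addHom_ext_tmul_D'
    intro c a
    change ℓ p f π hπ (theta ℤ A (B p f) K' (c ⊗ₜ[A] D ℤ A a)) = π (c ⊗ₜ[A] D ℤ A a)
    rw [theta_tmul_D]
    unfold ℓ
    rw [LinearMap.liftBaseChange_tmul, Derivation.liftKaehlerDifferential_comp_D, δ_algebraMap,
      ← map_smul, smul_tmul', smul_eq_mul, mul_one]
  exact DFunLike.congr_fun h z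

end Lift

theorem ker_theta : LinearMap.ker (theta ℤ A (B p f) K') = W f (K' := K') := by
  apply le_antisymm _ (W_le_ker p f)
  intro z hz
  obtain ⟨C, hC⟩ := Submodule.exists_isCompl (W f (K' := K'))
  let π : K' ⊗[A] Ω[A⁄ℤ] →ₗ[K'] K' ⊗[A] Ω[A⁄ℤ] :=
    C.subtype ∘ₗ Submodule.projectionOnto C (W f (K' := K')) hC.symm
  have hπ : ∀ w ∈ W f (K' := K'), π w = 0 := by
    intro w hw
    change (C.subtype (Submodule.projectionOnto C (W f (K' := K')) hC.symm w)) = 0
    rw [(Submodule.projectionOnto_apply_eq_zero_iff hC.symm).mpr hw, map_zero]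
  have h1 := ℓ_theta p f π hπ z
  rw [LinearMap.mem_ker.mp hz, map_zero] at h1
  have h2 : Submodule.projectionOnto C (W f (K' := K')) hC.symm z = 0 := by
    have : C.subtype (Submodule.projectionOnto C (W f (K' := K')) hC.symm z) = 0 := h1.symm
    exact (Submodule.injective_subtype C) (by rw [this, map_zero])
  exact (Submodule.projectionOnto_apply_eq_zero_iff hC.symm).mp h2

end Absolute

end Groth.Agent.Helper3.PRootOmega
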