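import Mathlib
import Groth.Agent.Lib.Helper3.PRootAlg
import Groth.Agent.Lib.Helper3.PRootOmega
import Groth.Agent.Lib.Helper3.PRootIndex
import Groth.Agent.Lib.Helper9.RankOmega4
import Groth.Agent.S7150
set_option autoImplicit false
set_option linter.unusedSectionVars false
set_option linter.style.haveILetI false
universe u

/-! # EGA 0_IV 22: `dim m = dim m'/m'^2` iff the `d f_i` are linearly independent -/

namespace Groth.Agent.Helper3.PRootMain

/- make `Algebra ℤ R` always resolve to `Ring.toIntAlgebra` (consistent with generic lemmas). -/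
attribute [local instance 100000] Ring.toIntAlgebra

open TensorProduct KaehlerDifferential IsLocalRing Groth.Agent.Helper9 Groth.Agent.Helper9.Imperf
open Groth.Agent.Helper3.PRootAlg

section Gamma

variable (R : Type u) [CommRing R] [IsLocalRing R]

lemma range_gamma : LinearMap.range (RankOmega.gamma R) =
    LinearMap.ker (mapBaseChange ℤ R (ResidueField R)) := by
  apply le_antisymm
  · rintro _ ⟨y, rfl⟩
    obtain ⟨x, rfl⟩ := Ideal.toCotangent_surjective _ y
    rw [RankOmega.gamma_toCotangent, LinearMap.mem_ker, mapBaseChange_tmul, one_smul,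
      KaehlerDifferential.map_D]
    have : algebraMap R (ResidueField R) (x : R) = 0 := (residue_eq_zero_iff _).mpr x.2
    rw [this, map_zero]
  · intro z hz
    have hex := KaehlerDifferential.exact_kerCotangentToTensor_mapBaseChange ℤ R (ResidueField R)
      residue_surjective
    obtain ⟨y, rfl⟩ := (hex z).mp (LinearMap.mem_ker.mp hz)
    obtain ⟨x, rfl⟩ := Ideal.toCotangent_surjective _ y
    have hx : (x : R) ∈ maximalIdeal R := by
      rw [← residue_eq_zero_iff]
      exact RingHom.mem_ker.mp x.2
    refine ⟨(maximalIdeal R).toCotangent ⟨(x : R), hx⟩, ?_⟩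
    rw [RankOmega.gamma_toCotangent, kerCotangentToTensor_toCotangent]

variable {R} in
/-- with a coefficient field, the kernel of `K ⊗ Ω_R → Ω_K` is the cotangent space. -/
noncomputable def kerEquiv (s : ResidueField R →+* R) (hs : ∀ x, residue R (s x) = x) :
    CotangentSpace R ≃ₗ[ResidueField R] LinearMap.ker (mapBaseChange ℤ R (ResidueField R)) :=
  (LinearEquiv.ofInjective (RankOmega.gamma R) (RankOmega.gamma_injective s hs)).trans
    (LinearEquiv.ofEq _ _ (range_gamma R))

end Gamma

section LI

variable {A K K' V : Type*} [CommRing A] [Field K] [Field K'] [Algebra A K] [Algebra K K']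
  [Algebra A K'] [IsScalarTower A K K'] [AddCommGroup V] [Module A V] {ι : Type*}

lemma linearIndependent_tmul_iff (v : ι → V) :
    LinearIndependent K' (fun i => (1 : K') ⊗ₜ[A] v i) ↔
      LinearIndependent K (fun i => (1 : K) ⊗ₜ[A] v i) := by
  let e := TensorProduct.AlgebraTensorModule.cancelBaseChange A K K' K' V
  have h1 : (fun i => (1 : K') ⊗ₜ[A] v i) =
      e.toLinearMap ∘ (fun i => (1 : K') ⊗ₜ[K] ((1 : K) ⊗ₜ[A] v i)) := by
    funext i
    simp [e, TensorProduct.AlgebraTensorModule.cancelBaseChange_tmul]
  rw [h1, e.toLinearMap.linearIndependent_iff_of_injOn e.injective.injOn]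
  constructor
  · intro h
    have h2 : LinearIndependent K (fun i => (1 : K') ⊗ₜ[K] ((1 : K) ⊗ₜ[A] v i)) :=
      h.restrict_scalars' (R := K)
    exact LinearIndependent.of_comp (TensorProduct.mk K K' (K ⊗[A] V) 1) h2
  · intro h
    exact Module.Flat.linearIndependent_one_tmul h

end LI

section Main

variable {A : Type u} [CommRing A] [IsArtinianRing A] [IsLocalRing A]
  (hm : maximalIdeal A ^ 2 = ⊥) (p : ℕ) [hp : Fact p.Prime] [CharP A p] {r : ℕ} (f : Fin r → A)

include hm in
/-- the main count, for an abstract `B'`. -/
theorem main_generic (B' : Type u) [CommRing B'] [Algebra A B'] [IsLocalRing B']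
    [IsLocalHom (algebraMap A B')] [Module.Finite A B'] [CharP B' p]
    [Module.Finite (ResidueField B') (ResidueField B' ⊗[B'] Ω[B'⁄A])]
    (hrel : Module.finrank (ResidueField B') (ResidueField B' ⊗[B'] Ω[B'⁄A]) = r)
    (hker : LinearMap.ker (theta ℤ A B' (ResidueField B')) =
      Submodule.span (ResidueField B')
        (Set.range fun i => (1 : ResidueField B') ⊗ₜ[A] D ℤ A (f i))) :
    (Module.finrank (ResidueField A) (CotangentSpace A) =
          Module.finrank (ResidueField B') (CotangentSpace B') ↔
        LinearIndependent (ResidueField A)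
          (fun i => (1 : ResidueField A) ⊗ₜ[A] KaehlerDifferential.D ℤ A (f i))) := by
  haveI : IsArtinianRing B' := IsArtinianRing.of_finite A B'
  -- sections
  obtain ⟨σA, hσA⟩ := (Groth.Agent.S7150.result p hp.out A ⟨2, hm⟩).1
  have hnilB : ∃ n : ℕ, maximalIdeal B' ^ n = ⊥ := by
    have h := IsArtinianRing.isNilpotent_jacobson_bot (R := B')
    rw [IsLocalRing.jacobson_eq_maximalIdeal ⊥ bot_ne_top] at h
    obtain ⟨n, hn⟩ := h
    exact ⟨n, hn⟩
  obtain ⟨σB, hσB⟩ := (Groth.Agent.S7150.result p hp.out B' hnilB).1
  have hsA : ∀ x, residue A (σA x) = x := fun x => congrArg (fun g => g x) hσA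
  have hsB : ∀ x, residue B' (σB x) = x := fun x => congrArg (fun g => g x) hσB
  -- kernels of the conormal maps
  let eA := kerEquiv σA hsA
  let eB := kerEquiv σB hsB
  haveI : Module.Finite (ResidueField A)
      (LinearMap.ker (mapBaseChange ℤ A (ResidueField A))) := Module.Finite.equiv eA
  haveI : Module.Finite (ResidueField B')
      (LinearMap.ker (mapBaseChange ℤ B' (ResidueField B'))) := Module.Finite.equiv eB
  -- kernel of theta
  haveI : Module.Finite (ResidueField B')
      (LinearMap.ker (theta ℤ A B' (ResidueField B'))) := by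
    rw [hker]
    exact Module.Finite.span_of_finite _ (Set.finite_range _)
  have hcount := PRootIndex.index_count (A := A) (B := B') (K := ResidueField A)
    (K' := ResidueField B') residue_surjective residue_surjective
  rw [← eA.finrank_eq, ← eB.finrank_eq, hrel, hker] at hcount
  rw [← linearIndependent_tmul_iff (K' := ResidueField B'),
    linearIndependent_iff_card_eq_finrank_span, Fintype.card_fin]
  have : (Set.range fun i => (1 : ResidueField B') ⊗ₜ[A] D ℤ A (f i)).finrank
      (ResidueField B') = Module.finrank (ResidueField B')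
        (Submodule.span (ResidueField B')
          (Set.range fun i => (1 : ResidueField B') ⊗ₜ[A] D ℤ A (f i))) := rfl
  rw [this]
  omega

include hm in
theorem main :
    ∃ _ : IsLocalRing (B p f),
      (Module.finrank (ResidueField A) (CotangentSpace A) =
          Module.finrank (ResidueField (B p f)) (CotangentSpace (B p f)) ↔
        LinearIndependent (ResidueField A)
          (fun i => (1 : ResidueField A) ⊗ₜ[A] KaehlerDifferential.D ℤ A (f i))) := by
  haveI hloc : IsLocalRing (B p f) := PRootAlg.isLocalRing p f hm
  haveI : IsLocalHom (algebraMap A (B p f)) := PRootAlg.isLocalHom p f hm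
  refine ⟨hloc, ?_⟩
  exact main_generic hm p f (B p f) (PRootOmega.finrank_tensor p f) (PRootOmega.ker_theta p f)

end Main

end Groth.Agent.Helper3.PRootMain
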