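import Mathlib
import Groth.Agent.Lib.Helper9.Imperf2

/-!
# Injectivity of `K' ⊗_A Ω_A → K' ⊗_{A₀} Ω_{A₀}` for a surjection `A → A₀` whose kernel lies in
the square of the kernel of `A → K'`.
-/

set_option autoImplicit false
universe u

open TensorProduct KaehlerDifferential Groth.Agent.Helper9.Imperf

namespace Groth.Agent.Helper3.ThetaInj

variable {A A₀ K' : Type*} [CommRing A] [CommRing A₀] [Field K'] [Algebra A A₀] [Algebra A₀ K']
  [Algebra A K'] [IsScalarTower A A₀ K']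

/-- the ring map `A → K' ⊕ (K' ⊗ Ω_A)` attached to the derivation `a ↦ 1 ⊗ da`. -/
noncomputable def ΦA : A →+* TrivSqZeroExt K' (K' ⊗[A] Ω[A⁄ℤ]) where
  toFun a := TrivSqZeroExt.inl (algebraMap A K' a) + TrivSqZeroExt.inr ((1 : K') ⊗ₜ[A] D ℤ A a)
  map_one' := by simp
  map_zero' := by simp
  map_add' a b := by
    simp only [map_add, tmul_add, TrivSqZeroExt.inl_add, TrivSqZeroExt.inr_add]
    abel
  map_mul' a b := by
    apply TrivSqZeroExt.ext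
    · simp
    · simp only [Derivation.leibniz, tmul_add, TrivSqZeroExt.snd_add,
        TrivSqZeroExt.snd_inl, TrivSqZeroExt.snd_inr, zero_add, TrivSqZeroExt.snd_mul,
        TrivSqZeroExt.fst_add, TrivSqZeroExt.fst_inl, TrivSqZeroExt.fst_inr, add_zero,
        op_smul_eq_smul]
      have h1 : (1 : K') ⊗ₜ[A] (a • D ℤ A b) = algebraMap A K' a • ((1 : K') ⊗ₜ[A] D ℤ A b) := by
        rw [tmul_smul, algebraMap_smul]
      have h2 : (1 : K') ⊗ₜ[A] (b • D ℤ A a) = algebraMap A K' b • ((1 : K') ⊗ₜ[A] D ℤ A a) := by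
        rw [tmul_smul, algebraMap_smul]
      rw [h1, h2]

lemma fst_ΦA (a : A) : (ΦA (K' := K') a).fst = algebraMap A K' a := by simp [ΦA]
lemma snd_ΦA (a : A) : (ΦA (K' := K') a).snd = (1 : K') ⊗ₜ[A] D ℤ A a := by simp [ΦA]

lemma ΦA_eq_zero_of_mem_sq {x : A} (hx : x ∈ (RingHom.ker (algebraMap A K')) ^ 2) :
    ΦA (K' := K') x = 0 := by
  rw [pow_two] at hx
  refine Submodule.mul_induction_on hx ?_ ?_
  · intro y hy z hz
    rw [RingHom.mem_ker] at hy hz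
    rw [map_mul]
    apply TrivSqZeroExt.ext
    · rw [TrivSqZeroExt.fst_mul, fst_ΦA, hy, zero_mul, TrivSqZeroExt.fst_zero]
    · rw [TrivSqZeroExt.snd_mul, fst_ΦA, fst_ΦA, hy, hz, zero_smul, TrivSqZeroExt.snd_zero]
      simp
  · intro y z hy hz
    rw [map_add, hy, hz, add_zero]

variable (hsurj : Function.Surjective (algebraMap A A₀))
  (hker : RingHom.ker (algebraMap A A₀) ≤ (RingHom.ker (algebraMap A K')) ^ 2)

/-- the ring map `A₀ → K' ⊕ (K' ⊗ Ω_A)`. -/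
noncomputable def Φ₀ : A₀ →+* TrivSqZeroExt K' (K' ⊗[A] Ω[A⁄ℤ]) :=
  RingHom.liftOfSurjective (algebraMap A A₀) hsurj
    ⟨ΦA (K' := K'), fun x hx => ΦA_eq_zero_of_mem_sq (hker hx)⟩

lemma Φ₀_algebraMap (a : A) : Φ₀ hsurj hker (algebraMap A A₀ a) = ΦA (K' := K') a :=
  RingHom.liftOfRightInverse_comp_apply _ _ _ _ _

lemma fst_Φ₀ (b : A₀) : (Φ₀ hsurj hker b).fst = algebraMap A₀ K' b := by
  obtain ⟨a, rfl⟩ := hsurj b
  rw [Φ₀_algebraMap, fst_ΦA, ← IsScalarTower.algebraMap_apply]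

/-- the derivation `A₀ → K' ⊗ Ω_A`. -/
noncomputable def δ₀ : Derivation ℤ A₀ (K' ⊗[A] Ω[A⁄ℤ]) where
  toLinearMap := ((TrivSqZeroExt.sndHom K' (K' ⊗[A] Ω[A⁄ℤ])).toAddMonoidHom.comp
    (Φ₀ hsurj hker).toAddMonoidHom).toIntLinearMap
  map_one_eq_zero' := by
    change (Φ₀ hsurj hker 1).snd = 0
    rw [map_one, TrivSqZeroExt.snd_one]
  leibniz' a b := by
    change (Φ₀ hsurj hker (a * b)).snd = a • (Φ₀ hsurj hker b).snd + b • (Φ₀ hsurj hker a).snd
    rw [map_mul, TrivSqZeroExt.snd_mul, fst_Φ₀, fst_Φ₀, op_smul_eq_smul, algebraMap_smul,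
      algebraMap_smul]

lemma δ₀_algebraMap (a : A) :
    δ₀ hsurj hker (algebraMap A A₀ a) = (1 : K') ⊗ₜ[A] D ℤ A a := by
  change (Φ₀ hsurj hker (algebraMap A A₀ a)).snd = _
  rw [Φ₀_algebraMap, snd_ΦA]

/-- the left inverse of `theta`. -/
noncomputable def ℓ : K' ⊗[A₀] Ω[A₀⁄ℤ] →ₗ[K'] K' ⊗[A] Ω[A⁄ℤ] :=
  (δ₀ hsurj hker).liftKaehlerDifferential.liftBaseChange K'

lemma ℓ_theta (z : K' ⊗[A] Ω[A⁄ℤ]) : ℓ hsurj hker (theta ℤ A A₀ K' z) = z := by
  have h : ((ℓ hsurj hker).toAddMonoidHom.comp (theta ℤ A A₀ K').toAddMonoidHom) =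
      AddMonoidHom.id _ := by
    apply addHom_ext_tmul_D'
    intro c a
    change ℓ hsurj hker (theta ℤ A A₀ K' (c ⊗ₜ[A] D ℤ A a)) = c ⊗ₜ[A] D ℤ A a
    rw [theta_tmul_D]
    unfold ℓ
    rw [LinearMap.liftBaseChange_tmul, Derivation.liftKaehlerDifferential_comp_D, δ₀_algebraMap,
      smul_tmul', smul_eq_mul, mul_one]
  exact DFunLike.congr_fun h z

include hsurj hker in
theorem theta_injective : Function.Injective (theta ℤ A A₀ K') :=
  Function.LeftInverse.injective (g := ℓ hsurj hker) (ℓ_theta hsurj hker)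

end Groth.Agent.Helper3.ThetaInj
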