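import Mathlib
import Groth.Agent.Lib.Helper3.ThetaInj
import Groth.Agent.Lib.Helper3.LocSurj
import Groth.Agent.Lib.Helper3.MonicTower5
import Groth.Agent.Lib.Helper3.PRootMain
import Groth.Agent.Lib.Lead.RLR1
import Groth.Agent.S4595

/-!
# EGA 0_IV 22.5-type criterion: regularity of `A[T_i]/(T_i^p + p(…) − f_i)`
-/

set_option autoImplicit false
universe u

open TensorProduct KaehlerDifferential IsLocalRing Groth.Agent.Helper9.Imperf

namespace Groth.Agent.Helper3.PRootReg

section LI

variable {A A₀ : Type u} [CommRing A] [CommRing A₀] [IsLocalRing A] [IsLocalRing A₀]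
  [Algebra A A₀] {ι : Type*}

/-- linear independence of the `1 ⊗ d f_i` can be tested modulo `m²`. -/
theorem li_iff_generic (hsurj : Function.Surjective (algebraMap A A₀))
    (hker : RingHom.ker (algebraMap A A₀) ≤ maximalIdeal A ^ 2) (f : ι → A) :
    LinearIndependent (ResidueField A₀)
        (fun i => (1 : ResidueField A₀) ⊗ₜ[A₀] D ℤ A₀ (algebraMap A A₀ (f i))) ↔
      LinearIndependent (ResidueField A) (fun i => (1 : ResidueField A) ⊗ₜ[A] D ℤ A (f i)) := by
  haveI : IsLocalHom (algebraMap A A₀) := hsurj.isLocalHom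
  have hkerK : RingHom.ker (algebraMap A (ResidueField A₀)) = maximalIdeal A := by
    ext x
    rw [RingHom.mem_ker, IsScalarTower.algebraMap_apply A A₀ (ResidueField A₀)]
    change residue A₀ (algebraMap A A₀ x) = 0 ↔ _
    rw [residue_eq_zero_iff]
    constructor
    · intro h
      rw [mem_maximalIdeal, mem_nonunits_iff] at h ⊢
      exact fun hu => h (hu.map _)
    · intro h
      rw [mem_maximalIdeal, mem_nonunits_iff] at h ⊢
      exact fun hu => h (isUnit_of_map_unit (algebraMap A A₀) x hu)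
  have hinj : Function.Injective (theta ℤ A A₀ (ResidueField A₀)) :=
    ThetaInj.theta_injective hsurj (by rw [hkerK]; exact hker)
  rw [← PRootMain.linearIndependent_tmul_iff (A := A) (K := ResidueField A)
    (K' := ResidueField A₀) (V := Ω[A⁄ℤ])]
  have h1 : (fun i => (1 : ResidueField A₀) ⊗ₜ[A₀] D ℤ A₀ (algebraMap A A₀ (f i))) =
      (theta ℤ A A₀ (ResidueField A₀)) ∘
        (fun i => (1 : ResidueField A₀) ⊗ₜ[A] D ℤ A (f i)) := by
    funext i
    rw [Function.comp_apply, theta_tmul_D]
  rw [h1]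
  exact (theta ℤ A A₀ (ResidueField A₀)).linearIndependent_iff_of_injOn hinj.injOn

end LI

section Poly

variable {A : Type u} [CommRing A] (p : ℕ) {r : ℕ} (c : Fin r → Fin p → A) (f : Fin r → A)

/-- the univariate polynomials. -/
noncomputable def Gs (i : Fin r) : Polynomial A :=
  Polynomial.X ^ p + (p : Polynomial A) * (Finset.univ.sum fun j : Fin p =>
    if (j : ℕ) = 0 then 0 else Polynomial.C (c i j) * Polynomial.X ^ (p - (j : ℕ))) -
      Polynomial.C (f i)

/-- the multivariate polynomials of the statement. -/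
noncomputable def Fs : Fin r → MvPolynomial (Fin r) A := fun i =>
  MvPolynomial.X i ^ p + (p : MvPolynomial (Fin r) A) * (Finset.univ.sum fun j : Fin p =>
    if (j : ℕ) = 0 then 0 else MvPolynomial.C (c i j) * MvPolynomial.X i ^ (p - (j : ℕ))) -
      MvPolynomial.C (f i)

lemma Fs_eq : Fs p c f = MonicTower5.FG (Gs p c f) := by
  funext i
  unfold Fs MonicTower5.FG Gs
  simp only [map_sub, map_add, map_pow, map_mul, map_natCast, map_sum, Polynomial.aeval_X,
    Polynomial.aeval_C, MvPolynomial.algebraMap_eq]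
  congr 3
  apply Finset.sum_congr rfl
  intro j _
  split_ifs with h
  · simp
  · simp

lemma degree_rest_lt (hp : 0 < p) (i : Fin r) :
    ((p : Polynomial A) * (Finset.univ.sum fun j : Fin p =>
      if (j : ℕ) = 0 then 0 else Polynomial.C (c i j) * Polynomial.X ^ (p - (j : ℕ))) -
        Polynomial.C (f i)).degree < (p : WithBot ℕ) := by
  apply (Polynomial.degree_sub_le _ _).trans_lt
  rw [max_lt_iff]
  constructor
  · rw [← Polynomial.C_eq_natCast, Polynomial.C_mul']
    apply (Polynomial.degree_smul_le _ _).trans_lt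
    apply (Polynomial.degree_sum_le _ _).trans_lt
    rw [Finset.sup_lt_iff (WithBot.bot_lt_coe _)]
    intro j _
    split_ifs with h
    · rw [Polynomial.degree_zero]; exact WithBot.bot_lt_coe _
    · apply (Polynomial.degree_C_mul_X_pow_le _ _).trans_lt
      have : p - (j : ℕ) < p := by omega
      exact_mod_cast this
  · apply (Polynomial.degree_C_le).trans_lt
    exact_mod_cast hp

lemma Gs_monic (hp : 0 < p) (i : Fin r) : (Gs p c f i).Monic := by
  unfold Gs
  rw [add_sub_assoc]
  exact Polynomial.monic_X_pow_add (degree_rest_lt p c f hp i)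

lemma Gs_natDegree [Nontrivial A] (hp : 0 < p) (i : Fin r) : (Gs p c f i).natDegree = p := by
  unfold Gs
  rw [add_sub_assoc, Polynomial.natDegree_add_eq_left_of_degree_lt]
  · simp
  · rw [Polynomial.degree_X_pow]
    exact degree_rest_lt p c f hp i

end Poly

section Main

variable {A : Type u} [CommRing A] [IsRegularLocalRing A] (p : ℕ) [hpf : Fact p.Prime]
  {r : ℕ} (c : Fin r → Fin p → A) (f : Fin r → A)

local notation "A₀" => A ⧸ (maximalIdeal A ^ 2)
local notation "B" => MonicTower5.QG (Gs p c f)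
local notation "B₀" => MvPolynomial (Fin r) A₀ ⧸ Ideal.span (Set.range fun i =>
  (MvPolynomial.X i ^ p - MvPolynomial.C (algebraMap A A₀ (f i)) : MvPolynomial (Fin r) A₀))

lemma natCast_A₀ (hp : (p : A) ∈ maximalIdeal A ^ 2) : (p : A₀) = 0 := by
  rw [← map_natCast (Ideal.Quotient.mk (maximalIdeal A ^ 2))]
  exact Ideal.Quotient.eq_zero_iff_mem.mpr hp

lemma map_FG (hp : (p : A) ∈ maximalIdeal A ^ 2) (i : Fin r) :
    MvPolynomial.map (algebraMap A A₀) (MonicTower5.FG (Gs p c f) i) =
      MvPolynomial.X i ^ p - MvPolynomial.C (algebraMap A A₀ (f i)) := by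
  rw [← Fs_eq]
  unfold Fs
  have h0 : ((p : ℕ) : MvPolynomial (Fin r) A₀) = 0 := by
    rw [← map_natCast (MvPolynomial.C : A₀ →+* MvPolynomial (Fin r) A₀), natCast_A₀ p hp, map_zero]
  simp only [map_sub, map_add, map_pow, map_mul, map_natCast, MvPolynomial.map_X,
    MvPolynomial.map_C, h0, zero_mul, add_zero]

/-- the comparison map `B → B₀`. -/
noncomputable def ψ (hp : (p : A) ∈ maximalIdeal A ^ 2) : B →+* B₀ :=
  Ideal.quotientMap _ (MvPolynomial.map (algebraMap A A₀)) (by
    rw [Ideal.span_le]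
    rintro _ ⟨i, rfl⟩
    rw [SetLike.mem_coe, Ideal.mem_comap, map_FG p c f hp]
    exact Ideal.subset_span ⟨i, rfl⟩)

lemma ψ_surjective (hp : (p : A) ∈ maximalIdeal A ^ 2) : Function.Surjective (ψ p c f hp) :=
  Ideal.quotientMap_surjective
    (MvPolynomial.map_surjective _ Ideal.Quotient.mk_surjective)

lemma ker_ψ_le (hp : (p : A) ∈ maximalIdeal A ^ 2) :
    RingHom.ker (ψ p c f hp) ≤ Ideal.map (algebraMap A B) (maximalIdeal A ^ 2) := by
  intro x hx
  obtain ⟨q, rfl⟩ := Ideal.Quotient.mk_surjective x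
  rw [RingHom.mem_ker] at hx
  unfold ψ at hx
  rw [Ideal.quotientMap_mk, Ideal.Quotient.eq_zero_iff_mem] at hx
  have hμ : Function.Surjective (MvPolynomial.map (σ := Fin r) (algebraMap A A₀)) :=
    MvPolynomial.map_surjective _ Ideal.Quotient.mk_surjective
  have hJ : Ideal.span (Set.range fun i => (MvPolynomial.X i ^ p -
      MvPolynomial.C (algebraMap A A₀ (f i)) : MvPolynomial (Fin r) A₀)) =
      Ideal.map (MvPolynomial.map (algebraMap A A₀))
        (Ideal.span (Set.range (MonicTower5.FG (Gs p c f)))) := by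
    rw [Ideal.map_span, ← Set.range_comp]
    congr 2
    funext i
    rw [Function.comp_apply, map_FG p c f hp]
  rw [hJ] at hx
  obtain ⟨j, hj, hjq⟩ := (Ideal.mem_map_iff_of_surjective _ hμ).mp hx
  have h1 : q - j ∈ RingHom.ker (MvPolynomial.map (σ := Fin r) (algebraMap A A₀)) := by
    rw [RingHom.mem_ker, map_sub, hjq, sub_self]
  rw [MvPolynomial.ker_map] at h1
  have h2 : RingHom.ker (algebraMap A A₀) = maximalIdeal A ^ 2 := Ideal.mk_ker
  rw [h2] at h1
  have h3 : Ideal.Quotient.mk (Ideal.span (Set.range (MonicTower5.FG (Gs p c f)))) q =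
      Ideal.Quotient.mk _ (q - j) := by
    rw [map_sub, Ideal.Quotient.eq_zero_iff_mem.mpr hj, sub_zero]
  rw [h3]
  have h4 := Ideal.mem_map_of_mem
    (Ideal.Quotient.mk (Ideal.span (Set.range (MonicTower5.FG (Gs p c f))))) h1
  rw [Ideal.map_map] at h4
  exact h4


theorem main [CharP (ResidueField A) p] (hp : (p : A) ∈ maximalIdeal A ^ 2) :
    IsLocalRing B ∧ (IsRegularRing B ↔
      LinearIndependent (ResidueField A)
        (fun i => (1 : ResidueField A) ⊗ₜ[A] KaehlerDifferential.D ℤ A (f i))) := by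
  have hp0 : 0 < p := hpf.out.pos
  haveI : IsDomain A := Groth.Agent.Lead.RLR.isDomain A
  have hG : ∀ i, (Gs p c f i).Monic ∧ 1 ≤ (Gs p c f i).natDegree := fun i =>
    ⟨Gs_monic p c f hp0 i, by rw [Gs_natDegree p c f hp0 i]; exact hp0⟩
  haveI hint : Algebra.IsIntegral A B := MonicTower5.isIntegral _ (fun i => (hG i).1)
  have hdim : ringKrullDim B = ringKrullDim A := MonicTower5.ringKrullDim_eq _ hG
  -- the ring A₀
  have hne : maximalIdeal A ^ 2 ≠ ⊤ := by
    intro h
    have : maximalIdeal A ^ 2 ≤ maximalIdeal A := Ideal.pow_le_self two_ne_zero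
    rw [h] at this
    exact (maximalIdeal.isMaximal A).ne_top (top_le_iff.mp this)
  haveI hlocA₀ : IsLocalRing A₀ := Groth.Agent.Lead.RLR.isLocalRing_quotient hne
  have hπsurj : Function.Surjective (algebraMap A A₀) := Ideal.Quotient.mk_surjective
  have hmA₀ : maximalIdeal A₀ = (maximalIdeal A).map (algebraMap A A₀) :=
    (LocSurj.map_maximalIdeal (algebraMap A A₀) hπsurj).symm
  have hm : maximalIdeal A₀ ^ 2 = ⊥ := by
    rw [hmA₀, ← Ideal.map_pow]
    exact Ideal.map_quotient_self _
  haveI : IsArtinianRing A₀ := by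
    rw [isArtinianRing_iff_isNilpotent_maximalIdeal]
    exact ⟨2, hm⟩
  haveI : CharP A₀ p := (CharP.charP_iff_prime_eq_zero hpf.out).mpr (natCast_A₀ p hp)
  obtain ⟨hlocB₀, hiff⟩ := Groth.Agent.S4595.result (A := A₀) hm p
    (fun i => algebraMap A A₀ (f i))
  -- B is local
  have hψ := ψ_surjective p c f hp
  have hker := ker_ψ_le p c f hp
  have hmB : ∀ M : Ideal B, M.IsMaximal → Ideal.map (algebraMap A B) (maximalIdeal A) ≤ M := by
    intro M hM
    rw [Ideal.map_le_iff_le_comap]
    have := Ideal.isMaximal_comap_of_isIntegral_of_isMaximal (R := A) M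
    exact (IsLocalRing.eq_maximalIdeal this).ge
  have hjac : Ideal.map (algebraMap A B) (maximalIdeal A) ≤ Ideal.jacobson ⊥ := by
    rw [Ideal.jacobson, le_sInf_iff]
    rintro M ⟨-, hM⟩
    exact hmB M hM
  have hk' : RingHom.ker (ψ p c f hp) ≤ Ideal.jacobson ⊥ :=
    hker.trans ((Ideal.map_mono (Ideal.pow_le_self two_ne_zero)).trans hjac)
  have hlocB : IsLocalRing B :=
    @LocSurj.isLocalRing_of_surjective _ _ _ _ hlocB₀ (ψ p c f hp) hψ hk'
  refine ⟨hlocB, ?_⟩
  have hker2 : RingHom.ker (ψ p c f hp) ≤ maximalIdeal B ^ 2 := by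
    refine hker.trans ?_
    rw [Ideal.map_pow]
    exact Ideal.pow_right_mono (hmB _ (maximalIdeal.isMaximal B)) 2
  -- numbers of generators
  haveI hnoeB : IsNoetherianRing B := inferInstance
  have hsB : (maximalIdeal B).spanFinrank = (maximalIdeal B₀).spanFinrank :=
    @LocSurj.spanFinrank_maximalIdeal_eq _ _ _ _ hlocB hlocB₀ hnoeB (ψ p c f hp) hψ hker2
  have hsA : (maximalIdeal A).spanFinrank = (maximalIdeal A₀).spanFinrank :=
    LocSurj.spanFinrank_maximalIdeal_eq (algebraMap A A₀) hπsurj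
      (by rw [show RingHom.ker (algebraMap A A₀) = maximalIdeal A ^ 2 from Ideal.mk_ker])
  have hregA : ((maximalIdeal A).spanFinrank : WithBot ℕ∞) = ringKrullDim A :=
    IsRegularLocalRing.spanFinrank_maximalIdeal
  -- regularity of B
  have h1 : IsRegularRing B ↔ IsRegularLocalRing B := by
    constructor
    · intro h
      exact @IsRegularLocalRing.of_isRegularRing_of_isLocalRing B _ hlocB h
    · intro h
      rw [isRegularRing_iff]
      intro P hP
      exact Groth.Agent.Lead.Hom.isRegularLocalRing_localization P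
  have h2 : IsRegularLocalRing B ↔
      (maximalIdeal B).spanFinrank = (maximalIdeal A).spanFinrank := by
    rw [@isRegularLocalRing_iff B _ hlocB hnoeB, hdim, ← hregA]
    exact Nat.cast_inj
  haveI hnoeB₀ : IsNoetherianRing B₀ := inferInstance
  have h3 : (maximalIdeal B₀).spanFinrank =
      Module.finrank (ResidueField B₀) (CotangentSpace B₀) :=
    @spanFinrank_maximalIdeal_eq_finrank_cotangentSpace B₀ _ hlocB₀ hnoeB₀
  have h4 : (maximalIdeal A₀).spanFinrank =
      Module.finrank (ResidueField A₀) (CotangentSpace A₀) :=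
    spanFinrank_maximalIdeal_eq_finrank_cotangentSpace _
  rw [h1, h2, hsB, hsA, h3, h4, eq_comm, hiff]
  exact li_iff_generic hπsurj
    (by rw [show RingHom.ker (algebraMap A A₀) = maximalIdeal A ^ 2 from Ideal.mk_ker]) f

end Main

end Groth.Agent.Helper3.PRootReg
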