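import Groth.Prelude.Def_DRing2
import Mathlib.LinearAlgebra.Trace
import Mathlib.Algebra.Ring.NegOnePow
import Mathlib.Algebra.BigOperators.Group.Finset.Basic
import Mathlib.Data.Int.Interval
import Mathlib.Algebra.Homology.DerivedCategory.KProjective

/-!
# The trace of an endomorphism of a perfect complex is well defined
-/

universe u

open CategoryTheory

namespace Groth.Agent.Helper3.PerfTrace

attribute [local instance] HasDerivedCategory.standard

variable {Λ : Type u} [CommRing Λ]

/-- alternating trace -/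
noncomputable def altTr (P : DRing.Cx Λ) (a b : ℤ) (f : P ⟶ P) : Λ :=
  ∑ i ∈ Finset.Icc a b, ((i.negOnePow : ℤˣ) : ℤ) • LinearMap.trace Λ (P.X i) (f.f i).hom

section

variable {P Q : DRing.Cx Λ} {a b : ℤ}

lemma trace_eq_zero_of_isZero {M : ModuleCat.{u} Λ} (hM : Limits.IsZero M) (φ : M ⟶ M) :
    LinearMap.trace Λ M φ.hom = 0 := by
  have : φ = 0 := hM.eq_of_src _ _
  rw [this]; simp

lemma altTr_comm (hP : DRing.VanishesOutside P a b) (hQ : DRing.VanishesOutside Q a b)
    (hPf : DRing.TermwiseFiniteFree P) (hQf : DRing.TermwiseFiniteFree Q) (u : P ⟶ Q) (v : Q ⟶ P) :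
    altTr P a b (u ≫ v) = altTr Q a b (v ≫ u) := by
  unfold altTr
  refine Finset.sum_congr rfl fun i _ => ?_
  congr 1
  haveI := (hPf i).1; haveI := (hPf i).2; haveI := (hQf i).1; haveI := (hQf i).2
  simp only [HomologicalComplex.comp_f, ModuleCat.hom_comp]
  exact LinearMap.trace_comp_comm' _ _

lemma altTr_homotopy (hP : DRing.VanishesOutside P a b)
    (hPf : DRing.TermwiseFiniteFree P) (f₁ f₂ : P ⟶ P) (H : Homotopy f₁ f₂) :
    altTr P a b f₁ = altTr P a b f₂ := by
  haveI := fun i => (hPf i).1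
  haveI := fun i => (hPf i).2
  -- s i j = trace on P.X i of (h i j ≫ d j i)
  set s : ℤ → ℤ → Λ := fun i j => LinearMap.trace Λ (P.X i) (H.hom i j ≫ P.d j i).hom with hs
  have key : ∀ i : ℤ, LinearMap.trace Λ (P.X i) (f₁.f i).hom =
      s (i + 1) i + s i (i - 1) + LinearMap.trace Λ (P.X i) (f₂.f i).hom := by
    intro i
    have h1 := H.comm i
    rw [dNext_eq H.hom (show (ComplexShape.up ℤ).Rel i (i + 1) from rfl),
      prevD_eq H.hom (show (ComplexShape.up ℤ).Rel (i - 1) i by simp)] at h1
    rw [h1]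
    simp only [ModuleCat.hom_add, map_add, ModuleCat.hom_comp, hs]
    congr 2
    exact LinearMap.trace_comp_comm' _ _
  set T : ℤ → Λ := fun i => ((i.negOnePow : ℤˣ) : ℤ) • s i (i - 1) with hT
  have hTz : ∀ i, (i ≤ a ∨ b < i) → T i = 0 := by
    intro i hi
    simp only [hT, hs]
    rcases hi with hi | hi
    · have : H.hom i (i - 1) = 0 := (hP (i - 1) (Or.inl (by omega))).eq_of_tgt _ _
      rw [this]; simp
    · rw [trace_eq_zero_of_isZero (hP i (Or.inr hi))]; simp
  have hterm : ∀ i : ℤ, ((i.negOnePow : ℤˣ) : ℤ) • LinearMap.trace Λ (P.X i) (f₁.f i).hom =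
      (T i - T (i + 1)) + ((i.negOnePow : ℤˣ) : ℤ) • LinearMap.trace Λ (P.X i) (f₂.f i).hom := by
    intro i
    rw [key i]
    simp only [hT, smul_add]
    have : ((i + 1).negOnePow : ℤˣ) = - (i.negOnePow : ℤˣ) := by
      rw [Int.negOnePow_succ]
    rw [this]
    simp only [Units.val_neg, neg_smul, add_sub_cancel_right]
    abel
  unfold altTr
  rw [Finset.sum_congr rfl (fun i _ => hterm i), Finset.sum_add_distrib, Finset.sum_sub_distrib]
  have e1 : ∑ i ∈ Finset.Icc a b, T i = ∑ i ∈ Finset.Icc a (b + 1), T i := by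
    apply Finset.sum_subset
    · intro x hx; rw [Finset.mem_Icc] at hx ⊢; omega
    · intro x hx hx'
      rw [Finset.mem_Icc] at hx hx'
      exact hTz x (Or.inr (by omega))
  have e2 : ∑ i ∈ Finset.Icc a b, T (i + 1) = ∑ i ∈ Finset.Icc a (b + 1), T i := by
    have : ∑ i ∈ Finset.Icc a b, T (i + 1) = ∑ j ∈ Finset.Icc (a + 1) (b + 1), T j := by
      rw [← Finset.map_add_right_Icc, Finset.sum_map]
      rfl
    rw [this]
    apply Finset.sum_subset
    · intro x hx; rw [Finset.mem_Icc] at hx ⊢; omega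
    · intro x hx hx'
      rw [Finset.mem_Icc] at hx hx'
      exact hTz x (Or.inl (by omega))
  rw [e1, e2, sub_self, zero_add]

end

end Groth.Agent.Helper3.PerfTrace

namespace Groth.Agent.Helper3.PerfTrace

attribute [local instance] HasDerivedCategory.standard

open DerivedCategory

variable {Λ : Type u} [CommRing Λ]

lemma isKProjective_of (P : DRing.Cx Λ) (a b : ℤ) (hP : DRing.VanishesOutside P a b)
    (hPf : DRing.TermwiseFiniteFree P) : CochainComplex.IsKProjective P := by
  haveI : P.IsStrictlyLE b := (CochainComplex.isStrictlyLE_iff P b).2 fun i hi => hP i (Or.inr hi)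
  haveI : ∀ n, Projective (P.X n) := fun n => by
    haveI := (hPf n).2
    infer_instance
  exact CochainComplex.isKProjective_of_projective P b

theorem main (P Q : DRing.Cx Λ) (a b : ℤ) (hP : DRing.VanishesOutside P a b)
    (hQ : DRing.VanishesOutside Q a b) (hPf : DRing.TermwiseFiniteFree P)
    (hQf : DRing.TermwiseFiniteFree Q) (f : P ⟶ P) (g : Q ⟶ Q) (α : DRing.toD P ≅ DRing.toD Q)
    (h : α.hom ≫ DerivedCategory.Q.map g = DerivedCategory.Q.map f ≫ α.hom) :
    altTr P a b f = altTr Q a b g := by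
  haveI := isKProjective_of P a b hP hPf
  haveI := isKProjective_of Q a b hQ hQf
  let C := ModuleCat.{u} Λ
  let q := HomotopyCategory.quotient C (ComplexShape.up ℤ)
  let iP := (quotientCompQhIso C).app P
  let iQ := (quotientCompQhIso C).app Q
  obtain ⟨ubar, hu⟩ := (CochainComplex.IsKProjective.Qh_map_bijective P (q.obj Q)).surjective
    (iP.hom ≫ α.hom ≫ iQ.inv)
  obtain ⟨vbar, hv⟩ := (CochainComplex.IsKProjective.Qh_map_bijective Q (q.obj P)).surjective
    (iQ.hom ≫ α.inv ≫ iP.inv)
  obtain ⟨u, rfl⟩ := q.map_surjective ubar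
  obtain ⟨v, rfl⟩ := q.map_surjective vbar
  have huv : q.map (u ≫ v) = q.map (𝟙 P) := by
    apply (CochainComplex.IsKProjective.Qh_map_bijective P (q.obj P)).injective
    rw [Functor.map_comp, Functor.map_comp, hu, hv]
    simp only [Category.assoc, Iso.inv_hom_id_assoc, Iso.hom_inv_id_assoc, Iso.hom_inv_id,
      Functor.map_id]
    exact ((congrArg Qh.map (q.map_id P)).trans (Qh.map_id _)).symm
  have hvu : q.map (v ≫ u) = q.map (𝟙 Q) := by
    apply (CochainComplex.IsKProjective.Qh_map_bijective Q (q.obj Q)).injective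
    rw [Functor.map_comp, Functor.map_comp, hu, hv]
    simp only [Category.assoc, Iso.inv_hom_id_assoc, Iso.hom_inv_id_assoc, Iso.hom_inv_id,
      Functor.map_id]
    exact ((congrArg Qh.map (q.map_id Q)).trans (Qh.map_id _)).symm
  have hfu : q.map (f ≫ u) = q.map (u ≫ g) := by
    apply (CochainComplex.IsKProjective.Qh_map_bijective P (q.obj Q)).injective
    rw [Functor.map_comp, Functor.map_comp, Functor.map_comp, Functor.map_comp, hu]
    have h1 : Qh.map (q.map f) = iP.hom ≫ DerivedCategory.Q.map f ≫ iP.inv := by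
      have := quotientCompQhIso_hom_naturality f
      simp only [iP, Iso.app_hom, Iso.app_inv]
      rw [← reassoc_of% this]
      exact ((congrArg (fun t => Qh.map (q.map f) ≫ t)
        ((quotientCompQhIso C).hom_inv_id_app P)).trans (Category.comp_id _)).symm
    have h2 : Qh.map (q.map g) = iQ.hom ≫ DerivedCategory.Q.map g ≫ iQ.inv := by
      have := quotientCompQhIso_hom_naturality g
      simp only [iQ, Iso.app_hom, Iso.app_inv]
      rw [← reassoc_of% this]
      exact ((congrArg (fun t => Qh.map (q.map g) ≫ t)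
        ((quotientCompQhIso C).hom_inv_id_app Q)).trans (Category.comp_id _)).symm
    rw [h1, h2]
    simp only [Category.assoc, Iso.inv_hom_id_assoc]
    rw [reassoc_of% h]
  have H1 : Homotopy (u ≫ v) (𝟙 P) := HomotopyCategory.homotopyOfEq _ _ huv
  have H2 : Homotopy (v ≫ u) (𝟙 Q) := HomotopyCategory.homotopyOfEq _ _ hvu
  have H3 : Homotopy (f ≫ u) (u ≫ g) := HomotopyCategory.homotopyOfEq _ _ hfu
  calc altTr P a b f = altTr P a b (f ≫ (u ≫ v)) := by
        apply altTr_homotopy hP hPf
        have := (H1.compLeft f).symm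
        rwa [Category.comp_id] at this
    _ = altTr P a b ((u ≫ g) ≫ v) := by
        rw [← Category.assoc]
        exact altTr_homotopy hP hPf _ _ (H3.compRight v)
    _ = altTr P a b (u ≫ (g ≫ v)) := by rw [Category.assoc]
    _ = altTr Q a b ((g ≫ v) ≫ u) := altTr_comm hP hQ hPf hQf _ _
    _ = altTr Q a b (g ≫ (v ≫ u)) := by rw [Category.assoc]
    _ = altTr Q a b g := by
        apply altTr_homotopy hQ hQf
        have := H2.compLeft g
        rwa [Category.comp_id] at this

end Groth.Agent.Helper3.PerfTrace
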