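import Mathlib
import Groth.Agent.Lib.Lead.Depth21
import Groth.Agent.Lib.Lead.Depth18
import Groth.Agent.Lib.Lead.Depth17
import Groth.Agent.Lib.Lead.Hom3
import Groth.Agent.Lib.Lead.Depth12
import Groth.Agent.Lib.Lead.Depth8
import Groth.Agent.Lib.Lead.Depth7
import Groth.Agent.Lib.Lead.Depth1

/-!
# Matrix factorizations for depth-one modules over a two-dimensional regular local ring (helper3)
-/

set_option autoImplicit false
set_option linter.style.haveILetI false

universe u

namespace Groth.Agent.Helper3.Planar1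

open CategoryTheory Abelian LocCoh Matrix

section Mat

variable {S : Type u} [CommRing S]

theorem mul_left_injective_of_mulVec {a : ℕ} (Φ : Matrix (Fin a) (Fin a) S)
    (hΦ : Function.Injective Φ.mulVecLin) (A B : Matrix (Fin a) (Fin a) S) (h : Φ * A = Φ * B) :
    A = B := by
  ext i j
  have h1 : Φ.mulVecLin (fun i => A i j) = Φ.mulVecLin (fun i => B i j) := by
    ext k
    have := congrFun (congrFun h k) j
    simpa [Matrix.mul_apply, Matrix.mulVec, dotProduct] using this
  exact congrFun (hΦ h1) i

/-- If `s e_j ∈ range Φ` for all `j` and `Φ` is injective, then `Φ` is invertible up to `s`. -/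
theorem exists_inv_up_to {a : ℕ} (Φ : Matrix (Fin a) (Fin a) S)
    (hΦ : Function.Injective Φ.mulVecLin) (s : S)
    (hs : ∀ j, s • (Pi.single j 1 : Fin a → S) ∈ LinearMap.range Φ.mulVecLin) :
    ∃ Θ : Matrix (Fin a) (Fin a) S, Φ * Θ = s • 1 ∧ Θ * Φ = s • 1 := by
  classical
  choose w hw using hs
  have h1 : Φ * (Matrix.of fun i j => w j i) = s • 1 := by
    ext i j
    have := congrFun (hw j) i
    simp only [Matrix.mulVecLin_apply, Matrix.mulVec, dotProduct, Pi.smul_apply, smul_eq_mul] at this
    simp only [Matrix.mul_apply, Matrix.of_apply, Matrix.smul_apply, smul_eq_mul, Matrix.one_apply]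
    rw [this, Pi.single_apply]
    try (by_cases hij : i = j <;> simp [hij])
  refine ⟨Matrix.of fun i j => w j i, h1, ?_⟩
  apply mul_left_injective_of_mulVec Φ hΦ
  rw [← Matrix.mul_assoc, h1]
  simp
end Mat

section Main

variable (S : Type u) [CommRing S] [IsRegularLocalRing S]

theorem hasProjectiveDimensionLT_two (hS : ringKrullDim S = 2)
    (M : Type u) [AddCommGroup M] [Module S M] [Module.Finite S M] [Nontrivial M]
    (x : S) (hx : x ∈ IsLocalRing.maximalIdeal S) (hxM : IsSMulRegular M x) :
    HasProjectiveDimensionLT (ModuleCat.of S M) 2 := by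
  have hn : ringKrullDim S = ((2 : ℕ) : WithBot ℕ∞) := by rw [hS]; rfl
  have hpdlt : HasProjectiveDimensionLT (ModuleCat.of S M) (2 + 1) :=
    Groth.Agent.Lead.Hom.hasProjectiveDimensionLT_of_isRegularLocalRing hn _
  have hnz : ¬ Limits.IsZero (ModuleCat.of S M) := by
    intro hz
    have := ModuleCat.isZero_of_iff_subsingleton.mp hz
    exact not_subsingleton M this
  obtain ⟨e, he, helt⟩ := Groth.Agent.Lead.Depth.exists_nat_projectiveDimension_eq hpdlt hnz
  have hAB := Groth.Agent.Lead.Depth.auslander_buchsbaum M e he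
  have hdS : LocCoh.depth S S = ((2 : ℕ) : ℕ∞) :=
    Groth.Agent.Lead.Depth.depth_eq_of_isRegularLocalRing hn
  have h1 : ((1 : ℕ) : ℕ∞) ≤ LocCoh.depth S M := by
    have hw : RingTheory.Sequence.IsWeaklyRegular M [x] :=
      (RingTheory.Sequence.isWeaklyRegular_cons_iff M x []).mpr
        ⟨hxM, RingTheory.Sequence.IsWeaklyRegular.nil _ _⟩
    have := Groth.Agent.Lead.Depth.le_idealDepth_of_isWeaklyRegular
      (IsLocalRing.maximalIdeal S) M [x] hw (by simpa using hx)
    simpa [LocCoh.depth] using this
  rw [hdS] at hAB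
  have he1 : e ≤ 1 := by
    have h2 : ((e + 1 : ℕ) : ℕ∞) ≤ ((2 : ℕ) : ℕ∞) := by
      rw [hAB]
      push_cast
      exact add_le_add le_rfl (by simpa using h1)
    have : e + 1 ≤ 2 := by exact_mod_cast h2
    omega
  rw [← projectiveDimension_lt_iff, he]
  have : e < 2 := by omega
  exact_mod_cast this

theorem exists_mf (hS : ringKrullDim S = 2) (f : S) (hf : f ≠ 0)
    (M : Type u) [AddCommGroup M] [Module S M] [Module.Finite S M] (hfM : ∀ m : M, f • m = 0)
    (x : S) (hx : x ∈ IsLocalRing.maximalIdeal S) (hxM : IsSMulRegular M x) :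
    ∃ (a : ℕ) (Φ : Matrix (Fin a) (Fin a) S) (p : (Fin a → S) →ₗ[S] M),
      Function.Surjective p ∧ LinearMap.ker p = LinearMap.range Φ.mulVecLin ∧
        Function.Injective Φ.mulVecLin := by
  classical
  rcases subsingleton_or_nontrivial M with hsub | hnt
  · refine ⟨0, 0, 0, fun m => ⟨0, Subsingleton.elim _ _⟩, ?_, fun v w _ => Subsingleton.elim _ _⟩
    ext v
    have : v = 0 := Subsingleton.elim _ _
    subst this
    simp
  haveI : IsDomain S := Groth.Agent.Lead.RLR.isDomain S
  have hpd2 := hasProjectiveDimensionLT_two S hS M x hx hxM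
  obtain ⟨b, p, hp⟩ := Module.Finite.exists_fin' S M
  have hS2 : p.shortComplexKer.ShortExact := LinearMap.shortExact_shortComplexKer hp
  have hF : HasProjectiveDimensionLT p.shortComplexKer.X₂ 1 := by
    haveI : Module.Projective S (Fin b → S) := Module.Projective.of_free
    haveI : Projective p.shortComplexKer.X₂ := (IsProjective.iff_projective _).mp inferInstance
    infer_instance
  have hK : HasProjectiveDimensionLT (ModuleCat.of S (LinearMap.ker p)) 1 :=
    hS2.hasProjectiveDimensionLT_X₁ 1 hF hpd2
  haveI hKproj : Module.Projective S (LinearMap.ker p) := by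
    have h1 : Projective (ModuleCat.of S (LinearMap.ker p)) :=
      projective_iff_hasProjectiveDimensionLT_one.mpr hK
    exact (IsProjective.iff_projective _).mpr h1
  set K := LinearMap.ker p with hKdef
  haveI : Module.Finite S K := inferInstance
  haveI : Module.Free S K := Module.free_of_flat_of_isLocalRing
  have h1 := K.finrank_quotient_add_finrank
  have h2 : Module.finrank S ((Fin b → S) ⧸ K) = 0 := by
    rw [LinearEquiv.finrank_eq (p.quotKerEquivOfSurjective hp)]
    apply Module.finrank_eq_zero_of_rank_eq_zero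
    rw [rank_eq_zero_iff]
    intro m
    exact ⟨f, hf, hfM m⟩
  rw [h2, Module.finrank_pi, Fintype.card_fin, zero_add] at h1
  let bs : Module.Basis (Fin b) S K := Module.finBasisOfFinrankEq S K h1
  have hmv : ∀ v : Fin b → S, (Matrix.of fun i c => (bs c : Fin b → S) i).mulVecLin v =
      ((∑ c, v c • bs c : K) : Fin b → S) := by
    intro v
    ext i
    simp [Matrix.mulVec, dotProduct, mul_comm]
  refine ⟨b, Matrix.of fun i c => (bs c : Fin b → S) i, p, hp, ?_, ?_⟩
  · apply le_antisymm
    · intro w hw
      refine ⟨fun c => bs.repr ⟨w, hw⟩ c, ?_⟩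
      rw [hmv]
      have := bs.sum_repr ⟨w, hw⟩
      rw [this]
    · rintro _ ⟨v, rfl⟩
      rw [hmv]
      exact (∑ c, v c • bs c : K).2
  · intro v v' hvv
    rw [hmv, hmv] at hvv
    have h4 : (∑ c, v c • bs c : K) = ∑ c, v' c • bs c := Subtype.ext hvv
    have h5 := congrArg (fun k => (bs.repr k : Fin b → S)) h4
    simp only [Module.Basis.repr_sum_self] at h5
    exact h5

end Main

end Groth.Agent.Helper3.Planar1
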