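import Mathlib
import Groth.Agent.Lib.Helper3.Planar1

/-!
# Matrix factorizations: reduction modulo `f` (helper3)
-/

set_option autoImplicit false
set_option linter.style.haveILetI false

universe u

namespace Groth.Agent.Helper3.Planar2

open Matrix Groth.Agent.Helper3.Planar1

section Red

variable {S R : Type u} [CommRing S] [CommRing R] (π : S →+* R) (hπ : Function.Surjective π)
  (f : S) (hker : RingHom.ker π = Ideal.span {f})

include hπ in
theorem exists_lift_vec {a : ℕ} (v : Fin a → R) : ∃ w : Fin a → S, π ∘ w = v := by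
  choose w hw using fun i => hπ (v i)
  exact ⟨w, funext hw⟩

theorem map_mulVec' {a : ℕ} (Φ : Matrix (Fin a) (Fin a) S) (v : Fin a → S) :
    (Φ.map π).mulVec (π ∘ v) = π ∘ (Φ.mulVec v) := by
  ext i
  exact (RingHom.map_mulVec π Φ v i).symm

include hπ hker in
theorem ker_map_eq_range {a : ℕ} (Φ Ψ : Matrix (Fin a) (Fin a) S)
    (hΦΨ : Φ * Ψ = f • 1) (hΦ : Function.Injective Φ.mulVecLin) :
    LinearMap.ker (Φ.map π).mulVecLin = LinearMap.range (Ψ.map π).mulVecLin := by
  have hf0 : π f = 0 := by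
    rw [← RingHom.mem_ker, hker]; exact Ideal.mem_span_singleton_self f
  apply le_antisymm
  · intro v hv
    rw [LinearMap.mem_ker, Matrix.mulVecLin_apply] at hv
    obtain ⟨w, rfl⟩ := exists_lift_vec π hπ v
    rw [map_mulVec'] at hv
    have h1 : ∀ i, ∃ c, Φ.mulVec w i = f * c := by
      intro i
      have : Φ.mulVec w i ∈ RingHom.ker π := by
        rw [RingHom.mem_ker]; exact congrFun hv i
      rw [hker, Ideal.mem_span_singleton'] at this
      obtain ⟨c, hc⟩ := this
      exact ⟨c, by rw [← hc, mul_comm]⟩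
    choose c hc using h1
    have h2 : Φ.mulVecLin w = Φ.mulVecLin (Ψ.mulVec c) := by
      rw [Matrix.mulVecLin_apply, Matrix.mulVecLin_apply, Matrix.mulVec_mulVec, hΦΨ]
      ext i
      rw [hc i]
      simp [Matrix.smul_mulVec]
    have h3 : w = Ψ.mulVec c := hΦ h2
    refine ⟨π ∘ c, ?_⟩
    rw [Matrix.mulVecLin_apply, map_mulVec', h3]
  · rintro _ ⟨w, rfl⟩
    rw [LinearMap.mem_ker, Matrix.mulVecLin_apply, Matrix.mulVecLin_apply, Matrix.mulVec_mulVec,
      ← Matrix.map_mul, hΦΨ]
    have : (f • (1 : Matrix (Fin a) (Fin a) S)).map π = 0 := by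
      ext i j
      by_cases hij : i = j <;> simp [Matrix.one_apply, hf0, hij]
    rw [this, Matrix.zero_mulVec]

end Red

section Data

variable (S : Type u) [CommRing S] [IsRegularLocalRing S]

theorem exists_data (hS : ringKrullDim S = 2) (f : S) (hf : f ≠ 0)
    (R : Type u) [CommRing R] [IsLocalRing R] (π : S →+* R) (hπ : Function.Surjective π)
    (hker : RingHom.ker π = Ideal.span {f})
    (M : Type u) [AddCommGroup M] [Module R M] [Module.Finite R M]
    (x : R) (hx : x ∈ IsLocalRing.maximalIdeal R) (hxM : IsSMulRegular M x) :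
    ∃ (a : ℕ) (Φ Ψ : Matrix (Fin a) (Fin a) R) (p : (Fin a → R) →ₗ[R] M),
      Function.Surjective p ∧ LinearMap.ker p = LinearMap.range Φ.mulVecLin ∧
      LinearMap.ker Φ.mulVecLin = LinearMap.range Ψ.mulVecLin ∧
      LinearMap.ker Ψ.mulVecLin = LinearMap.range Φ.mulVecLin ∧
      ∀ r : R, (∀ m : M, r • m = 0) → ∃ Θ : Matrix (Fin a) (Fin a) R,
        Φ * Θ = r • 1 ∧ Θ * Φ = r • 1 := by
  classical
  haveI : IsDomain S := Groth.Agent.Lead.RLR.isDomain S
  letI : Algebra S R := π.toAlgebra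
  letI : Module S M := Module.compHom M π
  haveI : IsScalarTower S R M := IsScalarTower.of_algebraMap_smul fun s m => rfl
  haveI : Module.Finite S R := Module.Finite.of_surjective (Algebra.linearMap S R) hπ
  haveI : Module.Finite S M := Module.Finite.trans R M
  have hsm : ∀ (s : S) (m : M), s • m = π s • m := fun s m => rfl
  have hf0 : π f = 0 := by
    rw [← RingHom.mem_ker, hker]; exact Ideal.mem_span_singleton_self f
  obtain ⟨x', rfl⟩ := hπ x
  have hx' : x' ∈ IsLocalRing.maximalIdeal S := by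
    rw [IsLocalRing.mem_maximalIdeal, mem_nonunits_iff] at hx ⊢
    intro hu
    exact hx (hu.map π)
  have hxM' : IsSMulRegular M x' := by
    intro m m' h
    exact hxM (by simpa [hsm] using h)
  obtain ⟨a, Φ, p, hp, hkp, hΦ⟩ := exists_mf S hS f hf M (fun m => by rw [hsm, hf0, zero_smul])
    x' hx' hxM'
  -- inverse up to any element killing `M`
  have hinv : ∀ s : S, (∀ m : M, s • m = 0) → ∃ Θ : Matrix (Fin a) (Fin a) S,
      Φ * Θ = s • 1 ∧ Θ * Φ = s • 1 := by
    intro s hs
    apply exists_inv_up_to Φ hΦ s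
    intro j
    rw [← hkp, LinearMap.mem_ker, map_smul]
    exact hs _
  obtain ⟨Ψ, hΦΨ, hΨΦ⟩ := hinv f (fun m => by rw [hsm, hf0, zero_smul])
  have hΨ : Function.Injective Ψ.mulVecLin := by
    intro v w hvw
    have h1 : (Φ * Ψ).mulVec v = (Φ * Ψ).mulVec w := by
      rw [← Matrix.mulVec_mulVec, ← Matrix.mulVec_mulVec]
      exact congrArg Φ.mulVec hvw
    rw [hΦΨ, Matrix.smul_mulVec, Matrix.smul_mulVec, Matrix.one_mulVec, Matrix.one_mulVec] at h1
    ext i
    have := congrFun h1 i
    simpa [hf] using this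
  -- the reduced presentation map
  let p' : (Fin a → R) →ₗ[R] M := Fintype.linearCombination R (fun i => p (Pi.single i 1))
  have hp' : ∀ v : Fin a → S, p' (π ∘ v) = p v := by
    intro v
    have h1 : v = ∑ i, v i • (Pi.single i 1 : Fin a → S) := by
      ext j
      simp [Finset.sum_apply, Pi.single_apply]
    conv_rhs => rw [h1]
    rw [map_sum]
    simp only [p', Fintype.linearCombination_apply, map_smul, hsm, Function.comp_apply]
  refine ⟨a, Φ.map π, Ψ.map π, p', ?_, ?_, ?_, ?_, ?_⟩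
  · intro m
    obtain ⟨v, rfl⟩ := hp m
    exact ⟨π ∘ v, hp' v⟩
  · apply le_antisymm
    · intro v hv
      obtain ⟨w, rfl⟩ := exists_lift_vec π hπ v
      rw [LinearMap.mem_ker, hp', ← LinearMap.mem_ker, hkp] at hv
      obtain ⟨u, rfl⟩ := hv
      refine ⟨π ∘ u, ?_⟩
      rw [Matrix.mulVecLin_apply, map_mulVec']
      rfl
    · rintro _ ⟨w, rfl⟩
      obtain ⟨u, rfl⟩ := exists_lift_vec π hπ w
      rw [LinearMap.mem_ker, Matrix.mulVecLin_apply, map_mulVec', hp', ← LinearMap.mem_ker, hkp]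
      exact ⟨u, rfl⟩
  · exact ker_map_eq_range π hπ f hker Φ Ψ hΦΨ hΦ
  · exact ker_map_eq_range π hπ f hker Ψ Φ hΨΦ hΨ
  · intro r hr
    obtain ⟨s, rfl⟩ := hπ r
    obtain ⟨Θ, h1, h2⟩ := hinv s (fun m => by rw [hsm]; exact hr m)
    refine ⟨Θ.map π, ?_, ?_⟩
    · rw [← Matrix.map_mul, h1]
      ext i j
      by_cases hij : i = j <;> simp [Matrix.one_apply, hij]
    · rw [← Matrix.map_mul, h2]
      ext i j
      by_cases hij : i = j <;> simp [Matrix.one_apply, hij]

end Data

end Groth.Agent.Helper3.Planar2
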