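import Mathlib
import Groth.Agent.Lib.Helper3.Planar2
import Groth.Agent.Lib.Helper18.Tor.Low

/-!
# Ext² and Tor₁ vanishing from a two-periodic resolution (helper3)
-/

set_option autoImplicit false
set_option linter.style.haveILetI false

universe u

namespace Groth.Agent.Helper3.Planar3

open CategoryTheory Abelian Matrix TensorProduct

section General

variable {C : Type*} [Category C] [Abelian C] [HasExt C]

lemma subsingleton_ext_X₃ {S : ShortComplex C} (hS : S.ShortExact) (Y : C) (n : ℕ)
    (h1 : Subsingleton (Ext S.X₁ Y n)) (h2 : Subsingleton (Ext S.X₂ Y (n + 1))) :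
    Subsingleton (Ext S.X₃ Y (n + 1)) := by
  have key : ∀ x : Ext S.X₃ Y (n + 1), x = 0 := by
    intro x
    obtain ⟨x₁, hx₁⟩ := Ext.contravariant_sequence_exact₃ hS Y x (Subsingleton.elim _ _)
      (add_comm 1 n)
    rw [← hx₁, Subsingleton.elim x₁ 0, Ext.comp_zero]
  exact ⟨fun x y => by rw [key x, key y]⟩

end General

section Kill

variable {R : Type u} [CommRing R] [IsLocalRing R]

theorem eq_zero_of_killed (I J : Ideal R) (n : ℕ)
    (hIJ : IsLocalRing.maximalIdeal R ^ n ≤ I ⊔ J) {N : Type*} [AddCommGroup N] [Module R N]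
    (y : R) (hy : y ∈ IsLocalRing.maximalIdeal R) (hyN : IsSMulRegular N y) (z : N)
    (hI : ∀ r ∈ I, r • z = 0) (hJ : ∀ r ∈ J, r • z = 0) : z = 0 := by
  have h1 : y ^ n ∈ I ⊔ J := hIJ (Ideal.pow_mem_pow hy n)
  obtain ⟨i, hi, j, hj, hij⟩ := Submodule.mem_sup.mp h1
  have h2 : y ^ n • z = 0 := by
    rw [← hij, add_smul, hI i hi, hJ j hj, add_zero]
  have h3 : IsSMulRegular N (y ^ n) := hyN.pow n
  exact h3 (by simpa using h2)

end Kill

section Main

variable {R : Type u} [CommRing R] {M : Type u} [AddCommGroup M] [Module R M]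
  {a : ℕ} (Φ Ψ : Matrix (Fin a) (Fin a) R) (p : (Fin a → R) →ₗ[R] M)
  (hp : Function.Surjective p) (hkp : LinearMap.ker p = LinearMap.range Φ.mulVecLin)
  (h1 : LinearMap.ker Φ.mulVecLin = LinearMap.range Ψ.mulVecLin)
  (h2 : LinearMap.ker Ψ.mulVecLin = LinearMap.range Φ.mulVecLin)

/-- the map `R^a → ker p` induced by `Φ`. -/
noncomputable def q : (Fin a → R) →ₗ[R] LinearMap.ker p :=
  Φ.mulVecLin.codRestrict (LinearMap.ker p) (fun v => by
    rw [hkp]; exact LinearMap.mem_range_self _ v)

include hkp in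
theorem q_surjective : Function.Surjective (q Φ p hkp) := by
  rintro ⟨z, hz⟩
  rw [hkp] at hz
  obtain ⟨w, rfl⟩ := hz
  exact ⟨w, Subtype.ext rfl⟩

theorem ker_q : LinearMap.ker (q Φ p hkp) = LinearMap.ker Φ.mulVecLin :=
  LinearMap.ker_codRestrict _ _ _

include hp hkp h1 h2 in
theorem ext_two_subsingleton {N : Type u} [AddCommGroup N] [Module R N]
    (hN : ∀ w : (Fin a → R) →ₗ[R] N, w ∘ₗ Φ.mulVecLin = 0 → w = 0) :
    Subsingleton (Abelian.Ext (ModuleCat.of R M) (ModuleCat.of R N) 2) := by
  have hS1 : p.shortComplexKer.ShortExact := LinearMap.shortExact_shortComplexKer hp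
  have hS2 : (q Φ p hkp).shortComplexKer.ShortExact :=
    LinearMap.shortExact_shortComplexKer (q_surjective Φ p hkp)
  haveI : Module.Projective R (Fin a → R) := Module.Projective.of_free
  haveI hP1 : Projective p.shortComplexKer.X₂ := (IsProjective.iff_projective _).mp inferInstance
  haveI hP2 : Projective (q Φ p hkp).shortComplexKer.X₂ :=
    (IsProjective.iff_projective _).mp inferInstance
  -- Step A
  have hA : Subsingleton (Ext (q Φ p hkp).shortComplexKer.X₁ (ModuleCat.of R N) 0) := by
    have key : ∀ x : Ext (q Φ p hkp).shortComplexKer.X₁ (ModuleCat.of R N) 0, x = 0 := by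
      intro x
      obtain ⟨g, rfl⟩ := (Ext.mk₀_bijective _ _).2 x
      have hg : g = 0 := by
        ext ⟨z, hz⟩
        have hz' : z ∈ LinearMap.range Ψ.mulVecLin := by
          rw [← h1, ← ker_q Φ p hkp]; exact hz
        obtain ⟨u, rfl⟩ := hz'
        let Ψ' : (Fin a → R) →ₗ[R] LinearMap.ker (q Φ p hkp) :=
          Ψ.mulVecLin.codRestrict _ (fun v => by
            rw [ker_q, h1]; exact LinearMap.mem_range_self _ v)
        have hw := hN (g.hom ∘ₗ Ψ') (by
          ext v
          have hz0 : Ψ' (Φ.mulVecLin (Pi.single v 1)) = 0 := by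
            apply Subtype.ext
            show Ψ.mulVecLin (Φ.mulVecLin (Pi.single v 1)) = 0
            rw [← LinearMap.mem_ker, h2]
            exact LinearMap.mem_range_self _ _
          simp only [LinearMap.comp_apply, LinearMap.coe_single, Function.comp_apply,
            LinearMap.zero_apply]
          rw [hz0, map_zero])
        have := LinearMap.congr_fun hw u
        exact this
      rw [hg, Ext.mk₀_zero]
    exact ⟨fun x y => by rw [key x, key y]⟩
  -- Step B
  have hB : Subsingleton (Ext (q Φ p hkp).shortComplexKer.X₃ (ModuleCat.of R N) (0 + 1)) :=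
    subsingleton_ext_X₃ hS2 _ 0 hA ⟨fun x y => by
      rw [Ext.eq_zero_of_projective x, Ext.eq_zero_of_projective y]⟩
  -- Step C
  exact subsingleton_ext_X₃ hS1 _ 1 hB ⟨fun x y => by
      rw [Ext.eq_zero_of_projective x, Ext.eq_zero_of_projective y]⟩

include hp hkp in
theorem tor_one_isZero (L : Type u) [AddCommGroup L] [Module R L]
    (hL : ∀ z : (Fin a → R) ⊗[R] L, (Φ.mulVecLin.rTensor L) z = 0 → z = 0) :
    Limits.IsZero (((Tor (ModuleCat.{u} R) 1).obj (ModuleCat.of R M)).obj (ModuleCat.of R L)) := by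
  haveI : Module.Flat R (Fin a → R) := inferInstance
  refine (Groth.Agent.Helper18.TorLib.isZero_tor_one_iff_injective (LinearMap.ker p).subtype p
    (Submodule.injective_subtype _) (LinearMap.exact_subtype_ker_map p) hp).mpr ?_
  rw [injective_iff_map_eq_zero]
  intro z hz
  obtain ⟨z', rfl⟩ := LinearMap.rTensor_surjective L (q_surjective Φ p hkp) z
  have hcomp : (LinearMap.ker p).subtype ∘ₗ q Φ p hkp = Φ.mulVecLin := by
    ext v
    rfl
  have : (Φ.mulVecLin.rTensor L) z' = 0 := by
    rw [← hcomp, LinearMap.rTensor_comp]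
    exact hz
  rw [hL z' this, map_zero]

end Main

end Groth.Agent.Helper3.Planar3
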