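import Mathlib
import Groth.Agent.Lib.Helper3.Planar3
import Groth.Agent.Lib.Lead.Depth17
import Groth.Agent.Lib.Lead.Depth5

/-!
# Planar curve singularities: `Ext²` and `Tor₁` vanishing (helper3)
-/

set_option autoImplicit false
set_option linter.style.haveILetI false

universe u

namespace Groth.Agent.Helper3.Planar4

open CategoryTheory Abelian Matrix TensorProduct LocCoh
open Groth.Agent.Helper3.Planar2 Groth.Agent.Helper3.Planar3

section Reg

variable (S : Type u) [CommRing S] [IsRegularLocalRing S]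

theorem exists_regular (hS : ringKrullDim S = 2) (f : S) (hf : f ≠ 0)
    (R : Type u) [CommRing R] [IsLocalRing R] (π : S →+* R) (hπ : Function.Surjective π)
    (hker : RingHom.ker π = Ideal.span {f}) :
    ∃ g ∈ IsLocalRing.maximalIdeal R, IsSMulRegular R g := by
  haveI : IsDomain S := Groth.Agent.Lead.RLR.isDomain S
  have hn : ringKrullDim S = ((2 : ℕ) : WithBot ℕ∞) := by rw [hS]; rfl
  have hf0 : π f = 0 := by
    rw [← RingHom.mem_ker, hker]; exact Ideal.mem_span_singleton_self f
  have hfm : f ∈ IsLocalRing.maximalIdeal S := by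
    rw [IsLocalRing.mem_maximalIdeal, mem_nonunits_iff]
    intro hu
    have := hu.map π
    rw [hf0] at this
    exact not_isUnit_zero this
  have hreg : IsSMulRegular S f := (isRegular_of_ne_zero hf).left.isSMulRegular
  have hd := Groth.Agent.Lead.Depth.idealDepth_quotient_span_singleton_self_add_one
    (IsLocalRing.maximalIdeal S) (Ideal.IsMaximal.ne_top inferInstance) f hfm hreg
  have hdS : LocCoh.depth S S = ((2 : ℕ) : ℕ∞) :=
    Groth.Agent.Lead.Depth.depth_eq_of_isRegularLocalRing hn
  rw [LocCoh.depth] at hdS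
  rw [hdS] at hd
  have h1 : ((1 : ℕ) : ℕ∞) ≤ idealDepth (IsLocalRing.maximalIdeal S) (S ⧸ Ideal.span {f}) := by
    induction hj : idealDepth (IsLocalRing.maximalIdeal S) (S ⧸ Ideal.span {f})
      using ENat.recTopCoe with
    | top => exact le_top
    | coe k =>
      rw [hj] at hd
      have : k + 1 = 2 := by exact_mod_cast hd
      have : k = 1 := by omega
      subst this
      exact le_rfl
  haveI : Nontrivial (S ⧸ Ideal.span {f}) := by
    rw [Ideal.Quotient.nontrivial_iff]
    intro h
    have : (1 : S) ∈ Ideal.span {f} := by rw [h]; trivial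
    have h1m : (1 : S) ∈ IsLocalRing.maximalIdeal S :=
      (Ideal.span_singleton_le_iff_mem _).mpr hfm this
    exact (Ideal.ne_top_iff_one _).mp (Ideal.IsMaximal.ne_top inferInstance) h1m
  have htop := Groth.Agent.Lead.Depth.maximalIdeal_smul_top_ne_top (R := S) (S ⧸ Ideal.span {f})
  obtain ⟨rs, hlen, hw, hmem⟩ := Groth.Agent.Lead.Depth.exists_of_le_idealDepth
    (IsLocalRing.maximalIdeal S) (S ⧸ Ideal.span {f}) htop 1 h1
  obtain ⟨g', rfl⟩ : ∃ g', rs = [g'] := List.length_eq_one_iff.mp hlen
  have hg'reg : IsSMulRegular (S ⧸ Ideal.span {f}) g' :=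
    ((RingTheory.Sequence.isWeaklyRegular_cons_iff _ g' []).mp hw).1
  have hg'm : g' ∈ IsLocalRing.maximalIdeal S := hmem g' (by simp)
  refine ⟨π g', ?_, ?_⟩
  · rw [← IsLocalRing.map_maximalIdeal_of_surjective π hπ]
    exact Ideal.mem_map_of_mem π hg'm
  · intro r r' hrr
    obtain ⟨s, rfl⟩ := hπ r
    obtain ⟨s', rfl⟩ := hπ r'
    simp only [smul_eq_mul] at hrr
    have h2 : g' * (s - s') ∈ Ideal.span {f} := by
      rw [← hker, RingHom.mem_ker, map_mul, map_sub, mul_sub, hrr, sub_self]
    have h3 : g' • (Ideal.Quotient.mk (Ideal.span {f}) (s - s')) = 0 := by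
      rw [← Ideal.Quotient.eq_zero_iff_mem, map_mul] at h2
      rw [Algebra.smul_def]
      exact h2
    have h4 : Ideal.Quotient.mk (Ideal.span {f}) (s - s') = 0 := hg'reg (by
      show g' • _ = g' • (0 : S ⧸ Ideal.span {f})
      rw [h3, smul_zero])
    rw [Ideal.Quotient.eq_zero_iff_mem, ← hker, RingHom.mem_ker, map_sub, sub_eq_zero] at h4
    exact h4

end Reg

section Final

theorem ext_main (S : Type u) [CommRing S] [IsRegularLocalRing S] (hS : ringKrullDim S = 2) (f : S)
    (hf : f ≠ 0) (R : Type u) [CommRing R] [IsLocalRing R] (π : S →+* R)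
    (hπ : Function.Surjective π) (hker : RingHom.ker π = Ideal.span {f}) (I J : Ideal R) (n : ℕ)
    (hIJ : IsLocalRing.maximalIdeal R ^ n ≤ I ⊔ J) (M N : Type u) [AddCommGroup M] [Module R M]
    [Module.Finite R M] [AddCommGroup N] [Module R N]
    (hI : I ≤ Module.annihilator R M) (hJ : J ≤ Module.annihilator R N) (x : R)
    (hx : x ∈ IsLocalRing.maximalIdeal R) (hxM : IsSMulRegular M x) (y : R)
    (hy : y ∈ IsLocalRing.maximalIdeal R) (hyN : IsSMulRegular N y) :
    Subsingleton (Abelian.Ext (ModuleCat.of R M) (ModuleCat.of R N) 2) := by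
  obtain ⟨a, Φ, Ψ, p, hp, hkp, h1, h2, hinv⟩ := exists_data S hS f hf R π hπ hker M x hx hxM
  apply ext_two_subsingleton Φ Ψ p hp hkp h1 h2
  intro w hw
  refine LinearMap.ext fun v => ?_
  apply eq_zero_of_killed I J n hIJ y hy hyN (w v)
  · intro r hr
    obtain ⟨Θ, hΘ, -⟩ := hinv r (fun m => Module.mem_annihilator.mp (hI hr) m)
    have : r • v = Φ.mulVecLin (Θ.mulVec v) := by
      rw [Matrix.mulVecLin_apply, Matrix.mulVec_mulVec, hΘ, Matrix.smul_mulVec, Matrix.one_mulVec]
    rw [← map_smul, this]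
    exact LinearMap.congr_fun hw _
  · intro r hr
    exact Module.mem_annihilator.mp (hJ hr) _

theorem tor_main (S : Type u) [CommRing S] [IsRegularLocalRing S] (hS : ringKrullDim S = 2) (f : S)
    (hf : f ≠ 0) (R : Type u) [CommRing R] [IsLocalRing R] (π : S →+* R)
    (hπ : Function.Surjective π) (hker : RingHom.ker π = Ideal.span {f}) (I J : Ideal R) (n : ℕ)
    (hIJ : IsLocalRing.maximalIdeal R ^ n ≤ I ⊔ J) (M N : Type u) [AddCommGroup M] [Module R M]
    [Module.Finite R M] [AddCommGroup N] [Module R N]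
    (hI : I ≤ Module.annihilator R M) (hJ : J ≤ Module.annihilator R N) (x : R)
    (hx : x ∈ IsLocalRing.maximalIdeal R) (hxM : IsSMulRegular M x) :
    Limits.IsZero (((Tor (ModuleCat.{u} R) 1).obj (ModuleCat.of R M)).obj
      (ModuleCat.of R (Module.Dual R N))) := by
  obtain ⟨a, Φ, Ψ, p, hp, hkp, h1, h2, hinv⟩ := exists_data S hS f hf R π hπ hker M x hx hxM
  obtain ⟨g, hg, hgR⟩ := exists_regular S hS f hf R π hπ hker
  apply tor_one_isZero Φ p hp hkp (Module.Dual R N)
  intro z hz
  have hgL : IsSMulRegular (Module.Dual R N) g := by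
    intro φ φ' h
    ext ν
    have := LinearMap.congr_fun h ν
    simp only [LinearMap.smul_apply] at this
    exact hgR this
  have hgT : IsSMulRegular ((Fin a → R) ⊗[R] Module.Dual R N) g :=
    IsSMulRegular.lTensor (Fin a → R) hgL
  apply eq_zero_of_killed I J n hIJ g hg hgT z
  · intro r hr
    obtain ⟨Θ, -, hΘ⟩ := hinv r (fun m => Module.mem_annihilator.mp (hI hr) m)
    have h3 : (Θ.mulVecLin ∘ₗ Φ.mulVecLin : (Fin a → R) →ₗ[R] (Fin a → R)) = r • LinearMap.id := by
      ext v i
      simp only [LinearMap.comp_apply, Matrix.mulVecLin_apply, Matrix.mulVec_mulVec, hΘ,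
        Matrix.smul_mulVec, Matrix.one_mulVec, LinearMap.smul_apply, LinearMap.id_apply]
    have : r • z = (Θ.mulVecLin.rTensor (Module.Dual R N))
        ((Φ.mulVecLin.rTensor (Module.Dual R N)) z) := by
      rw [← LinearMap.comp_apply, ← LinearMap.rTensor_comp, h3, LinearMap.rTensor_smul,
        LinearMap.rTensor_id, LinearMap.smul_apply, LinearMap.id_apply]
    rw [this, hz, map_zero]
  · intro r hr
    have hrL : ∀ l : Module.Dual R N, r • l = 0 := by
      intro l
      ext ν
      rw [LinearMap.smul_apply, ← map_smul, Module.mem_annihilator.mp (hJ hr) ν, map_zero,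
        LinearMap.zero_apply]
    have hall : ∀ z : (Fin a → R) ⊗[R] Module.Dual R N, r • z = 0 := by
      intro z
      induction z using TensorProduct.induction_on with
      | zero => simp
      | tmul v l =>
        rw [TensorProduct.smul_tmul', TensorProduct.smul_tmul, hrL, TensorProduct.tmul_zero]
      | add z z' hz1 hz2 => rw [smul_add, hz1, hz2, add_zero]
    exact hall z

end Final

end Groth.Agent.Helper3.Planar4
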