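import Mathlib
import Groth.Prelude.Def_Grpd
import Groth.Agent.Lib.Helper18.GrpdOm
import Groth.Agent.Lib.Helper18.GrpdFin
import Groth.Agent.Lib.Helper18.GrpFppf2
import Groth.Agent.Lib.Helper3.GQ8

/-!
# The groupoid induced on a monomorphism `u : U' ⟶ U` (helper3)

`V = R ×_{t,U} U'` (arrows with target in `U'`), `R' = V ×_{s,U} U'` (arrows with source and
target in `U'`), and the induced groupoid scheme `induced G u` on `U'`.
-/

set_option autoImplicit false
set_option linter.style.haveILetI false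
set_option linter.unusedSectionVars false
universe u

open CategoryTheory CategoryTheory.Limits AlgebraicGeometry
open Grpd

namespace Groth.Agent.Helper3.QS1

open Groth.Agent.Helper18.GrpdOm Groth.Agent.Helper3.GQ1

variable {S : Scheme.{u}} (G : GroupoidScheme S) {U' : Scheme.{u}} (u : U' ⟶ G.U)

/-- `V = R ×_{t,U} U'` : arrows with target in `U'` -/
noncomputable abbrev V : Scheme.{u} := pullback G.t u

/-- the arrow underlying a point of `V` -/
noncomputable def a : V G u ⟶ G.R := pullback.fst G.t u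

/-- source map on `V` -/
noncomputable def v : V G u ⟶ G.U := pullback.fst G.t u ≫ G.s

/-- target map on `V` -/
noncomputable def q : V G u ⟶ U' := pullback.snd G.t u

@[reassoc] theorem a_s : a G u ≫ G.s = v G u := rfl

@[reassoc] theorem a_t : a G u ≫ G.t = q G u ≫ u := pullback.condition

/-- lift to `V` -/
noncomputable def liftV {T : Scheme.{u}} (α : T ⟶ G.R) (b : T ⟶ U') (h : α ≫ G.t = b ≫ u) :
    T ⟶ V G u :=
  pullback.lift α b h

@[reassoc] theorem liftV_a {T : Scheme.{u}} (α : T ⟶ G.R) (b : T ⟶ U') (h : α ≫ G.t = b ≫ u) :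
    liftV G u α b h ≫ a G u = α := pullback.lift_fst _ _ _

@[reassoc] theorem liftV_q {T : Scheme.{u}} (α : T ⟶ G.R) (b : T ⟶ U') (h : α ≫ G.t = b ≫ u) :
    liftV G u α b h ≫ q G u = b := pullback.lift_snd _ _ _

@[reassoc] theorem liftV_v {T : Scheme.{u}} (α : T ⟶ G.R) (b : T ⟶ U') (h : α ≫ G.t = b ≫ u) :
    liftV G u α b h ≫ v G u = α ≫ G.s := by
  rw [← a_s G u, ← Category.assoc, liftV_a G u]

/-- `R' = V ×_{v,U} U'` : arrows with source and target in `U'` -/
noncomputable abbrev R' : Scheme.{u} := pullback (v G u) u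

/-- the arrow of `R` underlying a point of `R'` -/
noncomputable def ρ : R' G u ⟶ G.R := pullback.fst (v G u) u ≫ a G u

/-- source on `R'` -/
noncomputable def s' : R' G u ⟶ U' := pullback.snd (v G u) u

/-- target on `R'` -/
noncomputable def t' : R' G u ⟶ U' := pullback.fst (v G u) u ≫ q G u

@[reassoc] theorem ρ_s : ρ G u ≫ G.s = s' G u ≫ u := by
  unfold ρ s'
  rw [Category.assoc, a_s G u]
  exact pullback.condition

@[reassoc] theorem ρ_t : ρ G u ≫ G.t = t' G u ≫ u := by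
  unfold ρ t'
  rw [Category.assoc, a_t G u, Category.assoc]

theorem comp_ρ_s {T : Scheme.{u}} (γ : T ⟶ R' G u) :
    (γ ≫ s' G u) ≫ u = (γ ≫ ρ G u) ≫ G.s := by
  rw [Category.assoc, ← ρ_s G u, Category.assoc]

theorem comp_ρ_t {T : Scheme.{u}} (γ : T ⟶ R' G u) :
    (γ ≫ t' G u) ≫ u = (γ ≫ ρ G u) ≫ G.t := by
  rw [Category.assoc, ← ρ_t G u, Category.assoc]

/-- lift to `R'` -/
noncomputable def liftR {T : Scheme.{u}} (α : T ⟶ G.R) (x y : T ⟶ U') (hx : α ≫ G.t = x ≫ u)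
    (hy : α ≫ G.s = y ≫ u) : T ⟶ R' G u :=
  pullback.lift (liftV G u α x hx) y ((liftV_v G u α x hx).trans hy)

@[reassoc] theorem liftR_ρ {T : Scheme.{u}} (α : T ⟶ G.R) (x y : T ⟶ U') (hx : α ≫ G.t = x ≫ u)
    (hy : α ≫ G.s = y ≫ u) : liftR G u α x y hx hy ≫ ρ G u = α := by
  unfold liftR ρ
  rw [← Category.assoc, pullback.lift_fst, liftV_a G u]

@[reassoc] theorem liftR_t' {T : Scheme.{u}} (α : T ⟶ G.R) (x y : T ⟶ U') (hx : α ≫ G.t = x ≫ u)
    (hy : α ≫ G.s = y ≫ u) : liftR G u α x y hx hy ≫ t' G u = x := by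
  unfold liftR t'
  rw [← Category.assoc, pullback.lift_fst, liftV_q G u]

@[reassoc] theorem liftR_s' {T : Scheme.{u}} (α : T ⟶ G.R) (x y : T ⟶ U') (hx : α ≫ G.t = x ≫ u)
    (hy : α ≫ G.s = y ≫ u) : liftR G u α x y hx hy ≫ s' G u = y := by
  unfold liftR s'
  exact pullback.lift_snd _ _ _

theorem hom_ext_R' [Mono u] {T : Scheme.{u}} (f g : T ⟶ R' G u)
    (h : f ≫ ρ G u = g ≫ ρ G u) : f = g := by
  have ht : f ≫ t' G u = g ≫ t' G u := by
    apply (cancel_mono u).1
    rw [comp_ρ_t G u, comp_ρ_t G u, h]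
  have hs : f ≫ s' G u = g ≫ s' G u := by
    apply (cancel_mono u).1
    rw [comp_ρ_s G u, comp_ρ_s G u, h]
  apply pullback.hom_ext
  · apply pullback.hom_ext
    · have h' := h
      unfold ρ a at h'
      simpa only [Category.assoc] using h'
    · have ht' := ht
      unfold t' q at ht'
      simpa only [Category.assoc] using ht'
  · exact hs

instance mono_ρ [Mono u] : Mono (ρ G u) := ⟨fun f g h => hom_ext_R' G u f g h⟩

theorem hc_aux : (pullback.fst (s' G u) (t' G u) ≫ ρ G u) ≫ G.s =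
    (pullback.snd (s' G u) (t' G u) ≫ ρ G u) ≫ G.t := by
  rw [← comp_ρ_s G u, ← comp_ρ_t G u, pullback.condition]

/-- composition on `R'` -/
noncomputable def c' : pullback (s' G u) (t' G u) ⟶ R' G u :=
  liftR G u (cmp G (pullback.fst (s' G u) (t' G u) ≫ ρ G u)
      (pullback.snd (s' G u) (t' G u) ≫ ρ G u) (hc_aux G u))
    (pullback.fst (s' G u) (t' G u) ≫ t' G u) (pullback.snd (s' G u) (t' G u) ≫ s' G u)
    ((cmp_t G _ _ _).trans (comp_ρ_t G u _).symm) ((cmp_s G _ _ _).trans (comp_ρ_s G u _).symm)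

theorem c'_ρ : c' G u ≫ ρ G u = cmp G (pullback.fst (s' G u) (t' G u) ≫ ρ G u)
      (pullback.snd (s' G u) (t' G u) ≫ ρ G u) (hc_aux G u) := liftR_ρ _ _ _ _ _ _ _

theorem h_aux {T : Scheme.{u}} (α β : T ⟶ R' G u) (h : α ≫ s' G u = β ≫ t' G u) :
    (α ≫ ρ G u) ≫ G.s = (β ≫ ρ G u) ≫ G.t := by
  rw [← comp_ρ_s G u, ← comp_ρ_t G u, h]

theorem lift_c' {T : Scheme.{u}} (α β : T ⟶ R' G u) (h : α ≫ s' G u = β ≫ t' G u) :
    (pullback.lift α β h ≫ c' G u) ≫ ρ G u =
      cmp G (α ≫ ρ G u) (β ≫ ρ G u) (h_aux G u α β h) := by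
  rw [Category.assoc, c'_ρ G u, precomp_cmp]
  exact cmp_congr G _ (by rw [← Category.assoc, pullback.lift_fst])
    (by rw [← Category.assoc, pullback.lift_snd])

/-- identity on `R'` -/
noncomputable def e' : U' ⟶ R' G u :=
  liftR G u (u ≫ G.e) (𝟙 U') (𝟙 U')
    (by rw [Category.assoc, G.e_t, Category.comp_id, Category.id_comp])
    (by rw [Category.assoc, G.e_s, Category.comp_id, Category.id_comp])

@[reassoc] theorem e'_ρ : e' G u ≫ ρ G u = u ≫ G.e := liftR_ρ _ _ _ _ _ _ _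

/-- inverse on `R'` -/
noncomputable def i' : R' G u ⟶ R' G u :=
  liftR G u (ρ G u ≫ G.i) (s' G u) (t' G u) (by rw [Category.assoc, G.i_t, ρ_s G u])
    (by rw [Category.assoc, G.i_s, ρ_t G u])

@[reassoc] theorem i'_ρ : i' G u ≫ ρ G u = ρ G u ≫ G.i := liftR_ρ _ _ _ _ _ _ _

/-- The groupoid induced on `U'`. -/
@[reducible] noncomputable def induced [Mono u] : GroupoidScheme S where
  U := U'
  R := R' G u
  pU := u ≫ G.pU
  pR := ρ G u ≫ G.pR
  s := s' G u
  t := t' G u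
  e := e' G u
  i := i' G u
  c := c' G u
  s_over := by rw [← Category.assoc, ← ρ_s G u, Category.assoc, G.s_over]
  t_over := by rw [← Category.assoc, ← ρ_t G u, Category.assoc, G.t_over]
  comp_s := fun α β h => by
    apply (cancel_mono u).1
    rw [comp_ρ_s G u, comp_ρ_s G u, lift_c' G u]
    exact cmp_s G _ _ _
  comp_t := fun α β h => by
    apply (cancel_mono u).1
    rw [comp_ρ_t G u, comp_ρ_t G u, lift_c' G u]
    exact cmp_t G _ _ _
  assoc := fun α β γ h₁ h₂ => by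
    apply (cancel_mono (ρ G u)).1
    refine (lift_c' G u _ _ _).trans ?_
    refine Eq.trans ?_ (lift_c' G u _ _ _).symm
    refine (cmp_congr G _ (lift_c' G u α β h₁) rfl).trans ?_
    refine Eq.trans ?_ (cmp_congr G _ rfl (lift_c' G u β γ h₂)).symm
    exact cmp_assoc G _ _ _ _ _
  e_s := liftR_s' _ _ _ _ _ _ _
  e_t := liftR_t' _ _ _ _ _ _ _
  comp_e := fun α => by
    apply (cancel_mono (ρ G u)).1
    rw [lift_c' G u]
    have hβ : (α ≫ s' G u ≫ e' G u) ≫ ρ G u = (α ≫ ρ G u) ≫ G.s ≫ G.e := by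
      simp only [Category.assoc, e'_ρ G u, ρ_s_assoc G u]
    exact (cmp_congr G _ rfl hβ).trans (cmp_e G _)
  e_comp := fun α => by
    apply (cancel_mono (ρ G u)).1
    rw [lift_c' G u]
    have hα : (α ≫ t' G u ≫ e' G u) ≫ ρ G u = (α ≫ ρ G u) ≫ G.t ≫ G.e := by
      simp only [Category.assoc, e'_ρ G u, ρ_t_assoc G u]
    exact (cmp_congr G _ hα rfl).trans (e_cmp G _)
  i_s := liftR_s' _ _ _ _ _ _ _
  i_t := liftR_t' _ _ _ _ _ _ _
  comp_i := fun α => by
    apply (cancel_mono (ρ G u)).1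
    rw [lift_c' G u]
    have h1 : (α ≫ i' G u) ≫ ρ G u = (α ≫ ρ G u) ≫ G.i := by
      simp only [Category.assoc, i'_ρ G u]
    have h2 : (α ≫ t' G u ≫ e' G u) ≫ ρ G u = (α ≫ ρ G u) ≫ G.t ≫ G.e := by
      simp only [Category.assoc, e'_ρ G u, ρ_t_assoc G u]
    exact ((cmp_congr G _ rfl h1).trans (cmp_i G _)).trans h2.symm
  i_comp := fun α => by
    apply (cancel_mono (ρ G u)).1
    rw [lift_c' G u]
    have h1 : (α ≫ i' G u) ≫ ρ G u = (α ≫ ρ G u) ≫ G.i := by
      simp only [Category.assoc, i'_ρ G u]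
    have h2 : (α ≫ s' G u ≫ e' G u) ≫ ρ G u = (α ≫ ρ G u) ≫ G.s ≫ G.e := by
      simp only [Category.assoc, e'_ρ G u, ρ_s_assoc G u]
    exact ((cmp_congr G _ h1 rfl).trans (i_cmp G _)).trans h2.symm

instance s'_isFinite [IsFinite (v G u)] : IsFinite (s' G u) := by
  unfold s'; infer_instance

instance s'_flat [Flat (v G u)] : Flat (s' G u) := by
  unfold s'; infer_instance

instance s'_lfp [LocallyOfFinitePresentation (v G u)] :
    LocallyOfFinitePresentation (s' G u) := by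
  unfold s'; infer_instance

instance induced_s_isFinite [Mono u] [IsFinite (v G u)] : IsFinite (induced G u).s :=
  s'_isFinite G u

instance induced_s_flat [Mono u] [Flat (v G u)] : Flat (induced G u).s := s'_flat G u

instance induced_s_lfp [Mono u] [LocallyOfFinitePresentation (v G u)] :
    LocallyOfFinitePresentation (induced G u).s := s'_lfp G u

instance induced_mono_j [Mono u] [Mono G.j] : Mono (induced G u).j := by
  apply mono_j_of_forall
  intro T f g ht hs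
  have ht' : f ≫ t' G u = g ≫ t' G u := ht
  have hs' : f ≫ s' G u = g ≫ s' G u := hs
  apply hom_ext_R' G u
  apply eq_of_mono_j G
  · rw [← comp_ρ_t G u, ← comp_ρ_t G u, ht']
  · rw [← comp_ρ_s G u, ← comp_ρ_s G u, hs']

/-- orbits of the induced groupoid lie in affine opens, under the hypothesis of SGA 3 V 6.1 -/
theorem hb_induced [Mono u]
    (h2 : ∀ E : Set U', (∀ x ∈ E, ∀ y ∈ E, ∃ r : G.R, G.t.base r = u.base x ∧
      G.s.base r = u.base y) → ∃ W : U'.Opens, IsAffineOpen W ∧ E ⊆ (W : Set U')) :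
    Groth.Agent.Helper3.GQ5.Hb (induced G u) := by
  intro x
  obtain ⟨W, hW, hsub⟩ := h2 {y | ∃ r : R' G u, s' G u r = x ∧ t' G u r = y} (by
    rintro y₁ ⟨r₁, hs₁, rfl⟩ y₂ ⟨r₂, hs₂, rfl⟩
    have e1t : G.t (ρ G u r₁) = u (t' G u r₁) := by
      rw [← Scheme.Hom.comp_apply, ← Scheme.Hom.comp_apply, ρ_t G u]
    have e1s : G.s (ρ G u r₁) = u (s' G u r₁) := by
      rw [← Scheme.Hom.comp_apply, ← Scheme.Hom.comp_apply, ρ_s G u]
    have e2t : G.t (ρ G u r₂) = u (t' G u r₂) := by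
      rw [← Scheme.Hom.comp_apply, ← Scheme.Hom.comp_apply, ρ_t G u]
    have e2s : G.s (ρ G u r₂) = u (s' G u r₂) := by
      rw [← Scheme.Hom.comp_apply, ← Scheme.Hom.comp_apply, ρ_s G u]
    have i1 : G.s (G.i (ρ G u r₂)) = G.t (ρ G u r₂) := by
      rw [← Scheme.Hom.comp_apply, G.i_s]
    have i2 : G.t (G.i (ρ G u r₂)) = G.s (ρ G u r₂) := by
      rw [← Scheme.Hom.comp_apply, G.i_t]
    obtain ⟨r'', hs'', ht''⟩ := Groth.Agent.Helper18.GrpdFin.exists_comp G (G.i (ρ G u r₂))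
      (ρ G u r₁) (by rw [e1s, i2, e2s, hs₁, hs₂])
    exact ⟨r'', ht''.trans e1t, (hs''.trans i1).trans e2t⟩)
  exact ⟨W, hW, fun r hr => hsub ⟨r, hr, rfl⟩⟩

end Groth.Agent.Helper3.QS1
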