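import Mathlib
import Groth.Prelude.Def_Grpd
import Groth.Agent.Lib.Helper3.QS1

/-!
# Quotient by a groupoid admitting a quasi-section (SGA 3 V 6.1): descent step (helper3)

Given the quotient `p' : U' ⟶ Y` of the induced groupoid on `U'`, and `v : V ⟶ U` fppf surjective,
`p'` descends to `p : U ⟶ Y`, which is the quotient of `U` by `R`.
-/

set_option autoImplicit false
set_option linter.style.haveILetI false
set_option linter.unusedSectionVars false
universe u

open CategoryTheory CategoryTheory.Limits AlgebraicGeometry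
open Grpd

namespace Groth.Agent.Helper3.QS2

open Groth.Agent.Helper18.GrpdOm Groth.Agent.Helper3.GQ1 Groth.Agent.Helper3.QS1

variable {S : Scheme.{u}} (G : GroupoidScheme S) {U' : Scheme.{u}} (u : U' ⟶ G.U)

/-- translate a point of `V` along an arrow: `(α, z)` with `z` over `s(α)` gives `z'` over `t(α)`
with the same target in `U'`. -/
theorem exists_translate {T : Scheme.{u}} (α : T ⟶ G.R) (z : T ⟶ V G u)
    (h : z ≫ v G u = α ≫ G.s) :
    ∃ z' : T ⟶ V G u, z' ≫ v G u = α ≫ G.t ∧ z' ≫ q G u = z ≫ q G u := by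
  have h1 : (z ≫ a G u) ≫ G.s = (α ≫ G.i) ≫ G.t := by
    rw [Category.assoc, a_s G u, h, Category.assoc, G.i_t]
  have h2 : cmp G (z ≫ a G u) (α ≫ G.i) h1 ≫ G.t = (z ≫ q G u) ≫ u := by
    rw [cmp_t, Category.assoc, a_t G u, Category.assoc]
  refine ⟨liftV G u (cmp G (z ≫ a G u) (α ≫ G.i) h1) (z ≫ q G u) h2, ?_, liftV_q G u _ _ _⟩
  rw [liftV_v G u, cmp_s, Category.assoc, G.i_s]

/-- two points of `V` over the same point of `U` have `R'`-equivalent targets -/
theorem exists_R' {T : Scheme.{u}} (z₁ z₂ : T ⟶ V G u) (h : z₁ ≫ v G u = z₂ ≫ v G u) :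
    ∃ β : T ⟶ R' G u, β ≫ t' G u = z₁ ≫ q G u ∧ β ≫ s' G u = z₂ ≫ q G u := by
  have h1 : (z₁ ≫ a G u) ≫ G.s = ((z₂ ≫ a G u) ≫ G.i) ≫ G.t := by
    rw [Category.assoc, a_s G u, h, Category.assoc (z₂ ≫ a G u), G.i_t, Category.assoc, a_s G u]
  have h2 : cmp G (z₁ ≫ a G u) ((z₂ ≫ a G u) ≫ G.i) h1 ≫ G.t = (z₁ ≫ q G u) ≫ u := by
    rw [cmp_t, Category.assoc, a_t G u, Category.assoc]
  have h3 : cmp G (z₁ ≫ a G u) ((z₂ ≫ a G u) ≫ G.i) h1 ≫ G.s = (z₂ ≫ q G u) ≫ u := by
    rw [cmp_s, Category.assoc (z₂ ≫ a G u), G.i_s, Category.assoc, a_t G u, Category.assoc]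
  exact ⟨liftR G u _ _ _ h2 h3, liftR_t' G u _ _ _ _ _, liftR_s' G u _ _ _ _ _⟩

/-- from two points of `V` whose targets are `R'`-equivalent, an arrow between their sources -/
theorem exists_arrow {T : Scheme.{u}} (z₁ z₂ : T ⟶ V G u) (β : T ⟶ R' G u)
    (h1 : β ≫ t' G u = z₁ ≫ q G u) (h2 : β ≫ s' G u = z₂ ≫ q G u) :
    ∃ α : T ⟶ G.R, α ≫ G.t = z₁ ≫ v G u ∧ α ≫ G.s = z₂ ≫ v G u := by
  have e1 : ((z₁ ≫ a G u) ≫ G.i) ≫ G.s = (β ≫ ρ G u) ≫ G.t := by
    rw [← comp_ρ_t G u, h1, Category.assoc (z₁ ≫ a G u), G.i_s, Category.assoc, a_t G u,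
      Category.assoc]
  obtain ⟨c1, hc1s, hc1t⟩ : ∃ c1 : T ⟶ G.R, c1 ≫ G.s = (β ≫ ρ G u) ≫ G.s ∧
      c1 ≫ G.t = ((z₁ ≫ a G u) ≫ G.i) ≫ G.t :=
    ⟨cmp G _ _ e1, cmp_s G _ _ e1, cmp_t G _ _ e1⟩
  have e2 : c1 ≫ G.s = (z₂ ≫ a G u) ≫ G.t := by
    rw [hc1s, ← comp_ρ_s G u, h2, Category.assoc, Category.assoc, a_t G u]
  refine ⟨cmp G c1 (z₂ ≫ a G u) e2, ?_, ?_⟩
  · rw [cmp_t, hc1t, Category.assoc (z₁ ≫ a G u), G.i_t, Category.assoc, a_s G u]
  · rw [cmp_s, Category.assoc, a_s G u]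

/-- the identity section of `V` over `U'` -/
noncomputable def σ : U' ⟶ V G u :=
  liftV G u (u ≫ G.e) (𝟙 U') (by rw [Category.assoc, G.e_t, Category.comp_id, Category.id_comp])

theorem σ_v : σ G u ≫ v G u = u := by
  unfold σ
  rw [liftV_v G u, Category.assoc, G.e_s, Category.comp_id]

theorem σ_q : σ G u ≫ q G u = 𝟙 U' := liftV_q G u _ _ _

section Desc

variable {Y : Scheme.{u}} (p' : U' ⟶ Y)

theorem exists_p (w' : t' G u ≫ p' = s' G u ≫ p') [Flat (v G u)]
    [LocallyOfFinitePresentation (v G u)] [Surjective (v G u)] :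
    ∃ p : G.U ⟶ Y, v G u ≫ p = q G u ≫ p' := by
  have hd : ∀ {Z : Scheme.{u}} (g₁ g₂ : Z ⟶ V G u), g₁ ≫ v G u = g₂ ≫ v G u →
      g₁ ≫ q G u ≫ p' = g₂ ≫ q G u ≫ p' := by
    intro Z g₁ g₂ hg
    obtain ⟨β, hβt, hβs⟩ := exists_R' G u g₁ g₂ hg
    rw [← Category.assoc, ← hβt, ← Category.assoc, ← hβs, Category.assoc, w', Category.assoc]
  exact ⟨EffectiveEpi.desc (v G u) (q G u ≫ p') hd, EffectiveEpi.fac _ _ _⟩

variable (p : G.U ⟶ Y) (hp : v G u ≫ p = q G u ≫ p')

section A

include hp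

theorem u_p : u ≫ p = p' := by
  calc u ≫ p = (σ G u ≫ v G u) ≫ p := by rw [σ_v G u]
    _ = σ G u ≫ q G u ≫ p' := by rw [Category.assoc, hp]
    _ = p' := by rw [← Category.assoc, σ_q G u, Category.id_comp]

theorem w_of [Flat (v G u)] [Surjective (v G u)] : G.t ≫ p = G.s ≫ p := by
  haveI : Epi (pullback.fst G.s (v G u)) := Flat.epi_of_flat_of_surjective _
  apply (cancel_epi (pullback.fst G.s (v G u))).1
  obtain ⟨z', hz'v, hz'q⟩ := exists_translate G u (pullback.fst G.s (v G u))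
    (pullback.snd G.s (v G u)) pullback.condition.symm
  calc pullback.fst G.s (v G u) ≫ G.t ≫ p = z' ≫ v G u ≫ p := by
        rw [← Category.assoc, ← hz'v, Category.assoc]
    _ = z' ≫ q G u ≫ p' := by rw [hp]
    _ = pullback.snd G.s (v G u) ≫ q G u ≫ p' := by
        rw [← Category.assoc, hz'q, Category.assoc]
    _ = pullback.snd G.s (v G u) ≫ v G u ≫ p := by rw [hp]
    _ = pullback.fst G.s (v G u) ≫ G.s ≫ p := by
        rw [← Category.assoc, ← pullback.condition, Category.assoc]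

theorem apply_v (z : V G u) : p (v G u z) = p' (q G u z) := by
  rw [← Scheme.Hom.comp_apply, ← Scheme.Hom.comp_apply, hp]

theorem apply_u (x : U') : p (u x) = p' x := by
  rw [← Scheme.Hom.comp_apply, u_p G u p' p hp]

theorem isColimit_of [Flat (v G u)] [Surjective (v G u)] (w : G.t ≫ p = G.s ≫ p)
    (w' : t' G u ≫ p' = s' G u ≫ p') (hc : IsColimit (Cofork.ofπ p' w')) :
    Nonempty (IsColimit (Cofork.ofπ p w)) := by
  haveI : Epi (v G u) := Flat.epi_of_flat_of_surjective _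
  have hup := u_p G u p' p hp
  refine ⟨Cofork.IsColimit.ofExistsUnique (fun s => ?_)⟩
  have hs : t' G u ≫ (u ≫ s.π) = s' G u ≫ (u ≫ s.π) := by
    rw [← Category.assoc, ← ρ_t G u, Category.assoc, s.condition, ← Category.assoc, ρ_s G u,
      Category.assoc]
  obtain ⟨g, hg, hguniq⟩ := Cofork.IsColimit.existsUnique hc (u ≫ s.π) hs
  have hg' : p' ≫ g = u ≫ s.π := hg
  refine ⟨g, ?_, ?_⟩
  · show p ≫ g = s.π
    apply (cancel_epi (v G u)).1
    rw [← Category.assoc, hp, Category.assoc, hg', ← Category.assoc, ← a_t G u, Category.assoc,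
      s.condition, ← Category.assoc, a_s G u]
  · intro m hm
    have hm' : p ≫ m = s.π := hm
    apply hguniq
    show p' ≫ m = u ≫ s.π
    rw [← hup, Category.assoc, hm']

theorem surjective_of [Surjective p'] : Surjective p := by
  have hup := u_p G u p' p hp
  haveI : Surjective (u ≫ p) := by rw [hup]; infer_instance
  exact Surjective.of_comp u p

theorem isOpenMap_of [Surjective (v G u)] (w : G.t ≫ p = G.s ≫ p) (hp'o : IsOpenMap p'.base)
    (ht : IsOpenMap G.t.base) : IsOpenMap p.base := by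
  intro W hW
  have key : p.base '' W = p'.base '' (u.base ⁻¹' (G.t.base '' (G.s.base ⁻¹' W))) := by
    ext y
    constructor
    · rintro ⟨x, hx, rfl⟩
      obtain ⟨z, rfl⟩ := (v G u).surjective x
      have e1 : G.s (a G u z) = v G u z := by
        rw [← Scheme.Hom.comp_apply, a_s G u]
      have e2 : G.t (a G u z) = u (q G u z) := by
        rw [← Scheme.Hom.comp_apply, ← Scheme.Hom.comp_apply, a_t G u]
      refine ⟨q G u z, ⟨a G u z, ?_, e2⟩, (apply_v G u p' p hp z).symm⟩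
      show G.s (a G u z) ∈ W
      rw [e1]
      exact hx
    · rintro ⟨x', ⟨r, hr, hrx⟩, rfl⟩
      refine ⟨G.s r, hr, ?_⟩
      have e1 : p (G.s r) = p (G.t r) := by
        rw [← Scheme.Hom.comp_apply, ← Scheme.Hom.comp_apply, w]
      have e2 : G.t r = u x' := hrx
      show p (G.s r) = p' x'
      rw [e1, e2, apply_u G u p' p hp]
  rw [key]
  exact hp'o _ ((ht _ (hW.preimage G.s.continuous)).preimage u.continuous)

theorem universallyClosed_of [Surjective (v G u)] [UniversallyClosed p']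
    [UniversallyClosed G.t] : UniversallyClosed p := by
  haveI : UniversallyClosed (q G u) := by unfold q; infer_instance
  haveI : UniversallyClosed (v G u ≫ p) := by rw [hp]; infer_instance
  exact UniversallyClosed.of_comp_surjective (v G u) p

theorem flat_of [Flat (v G u)] [Surjective (v G u)] [Flat p'] [Flat G.t] : Flat p := by
  haveI : Flat (q G u) := by unfold q; infer_instance
  haveI : Flat (v G u ≫ p) := by rw [hp]; infer_instance
  exact Groth.Agent.Helper18.GrpFppf.flat_of_comp_of_surjective (v G u) p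

end A

/-- `θ : V ×_Y V ⟶ U' ×_Y U'` -/
noncomputable def θ : pullback (q G u ≫ p') (q G u ≫ p') ⟶ pullback p' p' :=
  pullback.map (q G u ≫ p') (q G u ≫ p') p' p' (q G u) (q G u) (𝟙 Y)
    (Category.comp_id _) (Category.comp_id _)

@[reassoc] theorem θ_fst : θ G u p' ≫ pullback.fst p' p' =
    pullback.fst (q G u ≫ p') (q G u ≫ p') ≫ q G u := pullback.lift_fst _ _ _

@[reassoc] theorem θ_snd : θ G u p' ≫ pullback.snd p' p' =
    pullback.snd (q G u ≫ p') (q G u ≫ p') ≫ q G u := pullback.lift_snd _ _ _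

/-- `κ : V ×_Y V ⟶ U ×_Y U` -/
noncomputable def κ : pullback (q G u ≫ p') (q G u ≫ p') ⟶ pullback p p :=
  pullback.map (q G u ≫ p') (q G u ≫ p') p p (v G u) (v G u) (𝟙 Y)
    ((Category.comp_id _).trans hp.symm) ((Category.comp_id _).trans hp.symm)

@[reassoc] theorem κ_fst : κ G u p' p hp ≫ pullback.fst p p =
    pullback.fst (q G u ≫ p') (q G u ≫ p') ≫ v G u := pullback.lift_fst _ _ _

@[reassoc] theorem κ_snd : κ G u p' p hp ≫ pullback.snd p p =
    pullback.snd (q G u ≫ p') (q G u ≫ p') ≫ v G u := pullback.lift_snd _ _ _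

theorem κ_P (P : MorphismProperty Scheme.{u}) [P.IsStableUnderBaseChange]
    [P.IsStableUnderComposition] (h : P (v G u)) : P (κ G u p' p hp) :=
  MorphismProperty.pullbackMap h h hp.symm hp.symm

section B

include hp

theorem surjective_lift_of [Surjective (v G u)] (w : G.t ≫ p = G.s ≫ p)
    (w' : t' G u ≫ p' = s' G u ≫ p')
    (hΛ' : Function.Surjective (pullback.lift (t' G u) (s' G u) w').base) :
    Function.Surjective (pullback.lift G.t G.s w).base := by
  haveI : Surjective (pullback.lift (t' G u) (s' G u) w') := ⟨hΛ'⟩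
  haveI : Surjective (κ G u p' p hp) := κ_P G u p' p hp @Surjective ‹_›
  have hcond := pullback.condition (f := θ G u p') (g := pullback.lift (t' G u) (s' G u) w')
  have ht : pullback.snd (θ G u p') (pullback.lift (t' G u) (s' G u) w') ≫ t' G u =
      (pullback.fst (θ G u p') (pullback.lift (t' G u) (s' G u) w') ≫
        pullback.fst (q G u ≫ p') (q G u ≫ p')) ≫ q G u := by
    have := congrArg (fun φ => φ ≫ pullback.fst p' p') hcond
    simpa only [Category.assoc, pullback.lift_fst, θ_fst] using this.symm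
  have hs : pullback.snd (θ G u p') (pullback.lift (t' G u) (s' G u) w') ≫ s' G u =
      (pullback.fst (θ G u p') (pullback.lift (t' G u) (s' G u) w') ≫
        pullback.snd (q G u ≫ p') (q G u ≫ p')) ≫ q G u := by
    have := congrArg (fun φ => φ ≫ pullback.snd p' p') hcond
    simpa only [Category.assoc, pullback.lift_snd, θ_snd] using this.symm
  obtain ⟨α, hαt, hαs⟩ := exists_arrow G u _ _ _ ht hs
  have hfac : α ≫ pullback.lift G.t G.s w =
      pullback.fst (θ G u p') (pullback.lift (t' G u) (s' G u) w') ≫ κ G u p' p hp := by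
    apply pullback.hom_ext
    · rw [Category.assoc, pullback.lift_fst, hαt, Category.assoc, Category.assoc, κ_fst]
    · rw [Category.assoc, pullback.lift_snd, hαs, Category.assoc, Category.assoc, κ_snd]
  intro ζ
  obtain ⟨x, hx⟩ := (pullback.fst (θ G u p') (pullback.lift (t' G u) (s' G u) w') ≫
    κ G u p' p hp).surjective ζ
  refine ⟨α x, ?_⟩
  show (pullback.lift G.t G.s w) (α x) = ζ
  rw [← Scheme.Hom.comp_apply, hfac]
  exact hx

theorem isPullback_of [Mono G.j] [Flat (v G u)] [LocallyOfFinitePresentation (v G u)]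
    [Surjective (v G u)] (w : G.t ≫ p = G.s ≫ p) (w' : t' G u ≫ p' = s' G u ≫ p')
    [IsIso (pullback.lift (t' G u) (s' G u) w')] : IsPullback G.t G.s p p := by
  haveI : Surjective (κ G u p' p hp) := κ_P G u p' p hp @Surjective ‹_›
  haveI : Flat (κ G u p' p hp) := κ_P G u p' p hp @Flat ‹_›
  haveI : LocallyOfFinitePresentation (κ G u p' p hp) :=
    κ_P G u p' p hp @LocallyOfFinitePresentation ‹_›
  haveI : Epi (κ G u p' p hp) := Flat.epi_of_flat_of_surjective _
  have hinv_t : inv (pullback.lift (t' G u) (s' G u) w') ≫ t' G u = pullback.fst p' p' := by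
    rw [IsIso.inv_comp_eq, pullback.lift_fst]
  have hinv_s : inv (pullback.lift (t' G u) (s' G u) w') ≫ s' G u = pullback.snd p' p' := by
    rw [IsIso.inv_comp_eq, pullback.lift_snd]
  have ht : (θ G u p' ≫ inv (pullback.lift (t' G u) (s' G u) w')) ≫ t' G u =
      pullback.fst (q G u ≫ p') (q G u ≫ p') ≫ q G u := by
    rw [Category.assoc, hinv_t, θ_fst]
  have hs : (θ G u p' ≫ inv (pullback.lift (t' G u) (s' G u) w')) ≫ s' G u =
      pullback.snd (q G u ≫ p') (q G u ≫ p') ≫ q G u := by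
    rw [Category.assoc, hinv_s, θ_snd]
  obtain ⟨α, hαt, hαs⟩ := exists_arrow G u _ _ _ ht hs
  have hfac : α ≫ pullback.lift G.t G.s w = κ G u p' p hp := by
    apply pullback.hom_ext
    · rw [Category.assoc, pullback.lift_fst, hαt, κ_fst]
    · rw [Category.assoc, pullback.lift_snd, hαs, κ_snd]
  have hdesc : ∀ {Z : Scheme.{u}} (g₁ g₂ : Z ⟶ pullback (q G u ≫ p') (q G u ≫ p')),
      g₁ ≫ κ G u p' p hp = g₂ ≫ κ G u p' p hp → g₁ ≫ α = g₂ ≫ α := by
    intro Z g₁ g₂ hg
    apply eq_of_mono_j G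
    · rw [Category.assoc, Category.assoc, hαt, ← κ_fst G u p' p hp, ← Category.assoc,
        ← Category.assoc, hg]
    · rw [Category.assoc, Category.assoc, hαs, ← κ_snd G u p' p hp, ← Category.assoc,
        ← Category.assoc, hg]
  obtain ⟨α₀, hα₀⟩ : ∃ α₀ : pullback p p ⟶ G.R, κ G u p' p hp ≫ α₀ = α :=
    ⟨EffectiveEpi.desc (κ G u p' p hp) α hdesc, EffectiveEpi.fac _ _ _⟩
  have h1 : α₀ ≫ pullback.lift G.t G.s w = 𝟙 _ := by
    apply (cancel_epi (κ G u p' p hp)).1
    rw [← Category.assoc, hα₀, hfac, Category.comp_id]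
  have e1 : α₀ ≫ G.t = pullback.fst p p := by
    have := congrArg (fun φ => φ ≫ pullback.fst p p) h1
    simpa only [Category.assoc, pullback.lift_fst, Category.id_comp] using this
  have e2 : α₀ ≫ G.s = pullback.snd p p := by
    have := congrArg (fun φ => φ ≫ pullback.snd p p) h1
    simpa only [Category.assoc, pullback.lift_snd, Category.id_comp] using this
  have h2 : pullback.lift G.t G.s w ≫ α₀ = 𝟙 _ := by
    apply eq_of_mono_j G
    · rw [Category.assoc, e1, pullback.lift_fst, Category.id_comp]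
    · rw [Category.assoc, e2, pullback.lift_snd, Category.id_comp]
  exact IsPullback.of_iso_pullback ⟨w⟩ ⟨pullback.lift G.t G.s w, α₀, h2, h1⟩
    (pullback.lift_fst _ _ _) (pullback.lift_snd _ _ _)

end B

end Desc

end Groth.Agent.Helper3.QS2
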