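import Mathlib

/-!
Helper3: a quadric in the square of an ideal of colength `> 1` of `κ[x,y]` is a scalar multiple of
the square of an affine form (S1601). Part 1: general facts and the case `2 ≠ 0`.
-/

namespace Groth.Agent.Helper3.Quad

open MvPolynomial

universe u

variable {κ : Type u} [Field κ]

local notation "R" => MvPolynomial (Fin 2) κ

/-- `p - C (eval P p)` lies in the ideal generated by the `X i - C (P i)`. -/
theorem sub_eval_mem (P : Fin 2 → κ) (p : R) :
    p - C (eval P p) ∈ Ideal.span (Set.range fun i : Fin 2 => (X i - C (P i) : R)) := by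
  induction p using MvPolynomial.induction_on with
  | C a => simp
  | add p q hp hq =>
    have : p + q - C (eval P (p + q)) = (p - C (eval P p)) + (q - C (eval P q)) := by
      rw [map_add, map_add]; ring
    rw [this]; exact Ideal.add_mem _ hp hq
  | mul_X p n hp =>
    have : p * X n - C (eval P (p * X n)) =
        (p - C (eval P p)) * X n + C (eval P p) * (X n - C (P n)) := by
      rw [map_mul, eval_X, map_mul]; ring
    rw [this]
    exact Ideal.add_mem _ (Ideal.mul_mem_right _ _ hp)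
      (Ideal.mul_mem_left _ _ (Ideal.subset_span ⟨n, rfl⟩))

theorem colength_le_one (I : Ideal R) (P : Fin 2 → κ) (h : ∀ i, (X i - C (P i) : R) ∈ I) :
    Module.Finite κ (R ⧸ I) ∧ Module.finrank κ (R ⧸ I) ≤ 1 := by
  have hle : Ideal.span (Set.range fun i : Fin 2 => (X i - C (P i) : R)) ≤ I := by
    rw [Ideal.span_le]; rintro _ ⟨i, rfl⟩; exact h i
  let φ : κ →ₗ[κ] (R ⧸ I) := (Ideal.Quotient.mkₐ κ I).toLinearMap.comp (Algebra.linearMap κ R)
  have hφ : Function.Surjective φ := by
    intro y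
    obtain ⟨p, rfl⟩ := Ideal.Quotient.mk_surjective y
    refine ⟨eval P p, ?_⟩
    show Ideal.Quotient.mk I (algebraMap κ R (eval P p)) = _
    rw [eq_comm, Ideal.Quotient.eq, MvPolynomial.algebraMap_eq]
    exact hle (sub_eval_mem P p)
  have hfin : Module.Finite κ (R ⧸ I) := Module.Finite.of_surjective φ hφ
  refine ⟨hfin, ?_⟩
  have := LinearMap.finrank_le_finrank_of_surjective hφ
  simpa using this

section Colength

variable (I : Ideal (MvPolynomial (Fin 2) κ))
  (hI : ¬ (Module.Finite κ (MvPolynomial (Fin 2) κ ⧸ I) ∧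
    Module.finrank κ (MvPolynomial (Fin 2) κ ⧸ I) ≤ 1))

include hI

theorem const_eq_zero (c : κ) (hc : (C c : R) ∈ I) : c = 0 := by
  by_contra hne
  apply hI
  have h1 : (1 : R) ∈ I := by
    have : (1 : R) = C c⁻¹ * C c := by rw [← C_mul, inv_mul_cancel₀ hne, C_1]
    rw [this]; exact Ideal.mul_mem_left _ _ hc
  have htop : I = ⊤ := (Ideal.eq_top_iff_one I).mpr h1
  exact colength_le_one I 0 (fun i => by rw [htop]; trivial)

theorem not_indep (α β γ α' β' γ' : κ)
    (h : (C α + C β * X 0 + C γ * X 1 : R) ∈ I) (h' : (C α' + C β' * X 0 + C γ' * X 1 : R) ∈ I) :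
    β * γ' - β' * γ = 0 := by
  by_contra hΔ
  apply hI
  have hunit : (C (β * γ' - β' * γ)⁻¹ : R) * (C β * C γ' - C β' * C γ) = 1 := by
    rw [← C_mul, ← C_mul, ← C_sub, ← C_mul, inv_mul_cancel₀ hΔ, C_1]
  refine colength_le_one I ![-((α * γ' - α' * γ) * (β * γ' - β' * γ)⁻¹),
    -((β * α' - β' * α) * (β * γ' - β' * γ)⁻¹)] ?_
  intro i
  fin_cases i
  · have h1 : (X 0 - C (-((α * γ' - α' * γ) * (β * γ' - β' * γ)⁻¹)) : R) =
        C (β * γ' - β' * γ)⁻¹ * (C γ' * (C α + C β * X 0 + C γ * X 1) -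
          C γ * (C α' + C β' * X 0 + C γ' * X 1)) := by
      simp only [map_neg, map_mul, map_sub]
      linear_combination (-(X 0 : R)) * hunit
    simp only [Fin.zero_eta, Fin.isValue, Matrix.cons_val_zero]
    rw [h1]
    exact Ideal.mul_mem_left _ _ (Ideal.sub_mem _ (Ideal.mul_mem_left _ _ h)
      (Ideal.mul_mem_left _ _ h'))
  · have h1 : (X 1 - C (-((β * α' - β' * α) * (β * γ' - β' * γ)⁻¹)) : R) =
        C (β * γ' - β' * γ)⁻¹ * (C β * (C α' + C β' * X 0 + C γ' * X 1) -
          C β' * (C α + C β * X 0 + C γ * X 1)) := by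
      simp only [map_neg, map_mul, map_sub]
      linear_combination (-(X 1 : R)) * hunit
    simp only [Fin.mk_one, Fin.isValue, Matrix.cons_val_one, Matrix.cons_val_zero]
    rw [h1]
    exact Ideal.mul_mem_left _ _ (Ideal.sub_mem _ (Ideal.mul_mem_left _ _ h')
      (Ideal.mul_mem_left _ _ h))

theorem minors (α β γ α' β' γ' : κ)
    (h : (C α + C β * X 0 + C γ * X 1 : R) ∈ I) (h' : (C α' + C β' * X 0 + C γ' * X 1 : R) ∈ I) :
    α * β' = α' * β ∧ α * γ' = α' * γ ∧ β * γ' = β' * γ := by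
  have h3 := not_indep I hI α β γ α' β' γ' h h'
  have h3' : (C β * C γ' - C β' * C γ : R) = 0 := by
    rw [← C_mul, ← C_mul, ← C_sub, h3, C_0]
  refine ⟨?_, ?_, sub_eq_zero.mp h3⟩
  · have h1 : (C (α * β' - α' * β) : R) ∈ I := by
      have : (C (α * β' - α' * β) : R) = C β' * (C α + C β * X 0 + C γ * X 1) -
          C β * (C α' + C β' * X 0 + C γ' * X 1) := by
        simp only [map_mul, map_sub]
        linear_combination (X 1 : R) * h3'
      rw [this]
      exact Ideal.sub_mem _ (Ideal.mul_mem_left _ _ h) (Ideal.mul_mem_left _ _ h')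
    exact sub_eq_zero.mp (const_eq_zero I hI _ h1)
  · have h1 : (C (α * γ' - α' * γ) : R) ∈ I := by
      have : (C (α * γ' - α' * γ) : R) = C γ' * (C α + C β * X 0 + C γ * X 1) -
          C γ * (C α' + C β' * X 0 + C γ' * X 1) := by
        simp only [map_mul, map_sub]
        linear_combination (-(X 0 : R)) * h3'
      rw [this]
      exact Ideal.sub_mem _ (Ideal.mul_mem_left _ _ h) (Ideal.mul_mem_left _ _ h')
    exact sub_eq_zero.mp (const_eq_zero I hI _ h1)

end Colength

/-- an additive Leibniz map sends `I ^ 2` into `I` -/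
theorem leibniz_mem (I : Ideal R) (δ : R → R) (hadd : ∀ p q, δ (p + q) = δ p + δ q)
    (hmul : ∀ p q, δ (p * q) = p * δ q + q * δ p) (p : R) (hp : p ∈ I ^ 2) : δ p ∈ I := by
  rw [pow_two] at hp
  refine Submodule.mul_induction_on hp ?_ ?_
  · intro a ha b hb
    rw [hmul]
    exact Ideal.add_mem _ (Ideal.mul_mem_right _ _ ha) (Ideal.mul_mem_right _ _ hb)
  · intro x y hx hy
    rw [hadd]; exact Ideal.add_mem _ hx hy

theorem final_eq (a b c d e f j g h i : κ) (ha : a = j * g ^ 2) (hb : b = 2 * j * g * h)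
    (hc : c = 2 * j * g * i) (hd : d = j * h ^ 2) (he : e = 2 * j * h * i) (hf : f = j * i ^ 2) :
    (C a + C b * X 0 + C c * X 1 + C d * X 0 ^ 2 + C e * X 0 * X 1 + C f * X 1 ^ 2 : R) =
      C j * (C g + C h * X 0 + C i * X 1) ^ 2 := by
  subst ha hb hc hd he hf
  simp only [map_mul, map_pow, map_ofNat]
  ring

section Main

variable (I : Ideal (MvPolynomial (Fin 2) κ))
  (hI : ¬ (Module.Finite κ (MvPolynomial (Fin 2) κ ⧸ I) ∧
    Module.finrank κ (MvPolynomial (Fin 2) κ ⧸ I) ≤ 1))
  (a b c d e f : κ)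
  (hmem : (C a + C b * X 0 + C c * X 1 + C d * X 0 ^ 2 + C e * X 0 * X 1 + C f * X 1 ^ 2 :
    MvPolynomial (Fin 2) κ) ∈ I ^ 2)

include hmem

theorem q_mem : (C a + C b * X 0 + C c * X 1 + C d * X 0 ^ 2 + C e * X 0 * X 1 + C f * X 1 ^ 2 :
    MvPolynomial (Fin 2) κ) ∈ I :=
  Ideal.pow_le_self two_ne_zero hmem

theorem r1_mem : (C b + C (2 * d) * X 0 + C e * X 1 : R) ∈ I := by
  have h := leibniz_mem I (pderiv 0) (fun p q => map_add _ p q)
    (fun p q => by rw [pderiv_mul]; ring) _ hmem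
  have hcalc : pderiv 0 (C a + C b * X 0 + C c * X 1 + C d * X 0 ^ 2 + C e * X 0 * X 1 +
      C f * X 1 ^ 2 : R) = C b + C (2 * d) * X 0 + C e * X 1 := by
    simp only [map_add, pderiv_mul, pderiv_C, pderiv_X_self, pderiv_pow,
      pderiv_X_of_ne (show (1 : Fin 2) ≠ 0 by decide), map_mul, map_ofNat]
    simp only [Nat.cast_ofNat]
    ring
  rwa [hcalc] at h

theorem r2_mem : (C c + C e * X 0 + C (2 * f) * X 1 : R) ∈ I := by
  have h := leibniz_mem I (pderiv 1) (fun p q => map_add _ p q)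
    (fun p q => by rw [pderiv_mul]; ring) _ hmem
  have hcalc : pderiv 1 (C a + C b * X 0 + C c * X 1 + C d * X 0 ^ 2 + C e * X 0 * X 1 +
      C f * X 1 ^ 2 : R) = C c + C e * X 0 + C (2 * f) * X 1 := by
    simp only [map_add, pderiv_mul, pderiv_C, pderiv_X_self, pderiv_pow,
      pderiv_X_of_ne (show (0 : Fin 2) ≠ 1 by decide), map_mul, map_ofNat]
    simp only [Nat.cast_ofNat]
    ring
  rwa [hcalc] at h

theorem r0_mem : (C (2 * a) + C b * X 0 + C c * X 1 : R) ∈ I := by
  have h1 := r1_mem I a b c d e f hmem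
  have h2 := r2_mem I a b c d e f hmem
  have h0 := q_mem I a b c d e f hmem
  have : (C (2 * a) + C b * X 0 + C c * X 1 : R) =
      2 * (C a + C b * X 0 + C c * X 1 + C d * X 0 ^ 2 + C e * X 0 * X 1 + C f * X 1 ^ 2) -
      X 0 * (C b + C (2 * d) * X 0 + C e * X 1) - X 1 * (C c + C e * X 0 + C (2 * f) * X 1) := by
    simp only [map_mul, map_ofNat]
    ring
  rw [this]
  exact Ideal.sub_mem _ (Ideal.sub_mem _ (Ideal.mul_mem_left _ _ h0) (Ideal.mul_mem_left _ _ h1))
    (Ideal.mul_mem_left _ _ h2)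

include hI

theorem minor_eqs : 2 * a * (2 * d) = b * b ∧ 2 * a * e = b * c ∧ b * e = c * (2 * d) ∧
    2 * a * (2 * f) = c * c ∧ b * (2 * f) = c * e ∧ 2 * d * (2 * f) = e * e := by
  have h0 := r0_mem I a b c d e f hmem
  have h1 := r1_mem I a b c d e f hmem
  have h2 := r2_mem I a b c d e f hmem
  obtain ⟨m1, m2, m3⟩ := minors I hI _ _ _ _ _ _ h0 h1
  obtain ⟨m4, m5, m6⟩ := minors I hI _ _ _ _ _ _ h0 h2
  obtain ⟨m7, m8, m9⟩ := minors I hI _ _ _ _ _ _ h1 h2
  exact ⟨m1, m2, m7, m5, m8, m9⟩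

/-- the case `2 ≠ 0` -/
theorem main_of_two_ne_zero (h2 : (2 : κ) ≠ 0)
    (hne : (a, b, c, d, e, f) ≠ (0, 0, 0, 0, 0, 0)) :
    ∃ j g h i : κ, (C a + C b * X 0 + C c * X 1 + C d * X 0 ^ 2 + C e * X 0 * X 1 +
      C f * X 1 ^ 2 : R) = C j * (C g + C h * X 0 + C i * X 1) ^ 2 := by
  obtain ⟨m1, m2, m3, m4, m5, m6⟩ := minor_eqs I hI a b c d e f hmem
  have h4 : (4 : κ) ≠ 0 := by
    have : (4 : κ) = 2 * 2 := by norm_num
    rw [this]; exact mul_ne_zero h2 h2
  by_cases ha : a = 0
  · by_cases hd : d = 0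
    · by_cases hf : f = 0
      · exfalso
        subst ha hd hf
        have hb : b = 0 := by
          have : b * b = 0 := by rw [← m1]; ring
          exact mul_self_eq_zero.mp this
        have hc : c = 0 := by
          have : c * c = 0 := by rw [← m4]; ring
          exact mul_self_eq_zero.mp this
        have he : e = 0 := by
          have : e * e = 0 := by rw [← m6]; ring
          exact mul_self_eq_zero.mp this
        subst hb hc he
        exact hne rfl
      · refine ⟨(4 * f)⁻¹, c, e, 2 * f, final_eq _ _ _ _ _ _ _ _ _ _ ?_ ?_ ?_ ?_ ?_ ?_⟩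
        · field_simp; linear_combination m4
        · field_simp; linear_combination 2 * m5
        · field_simp; ring
        · field_simp; linear_combination m6
        · field_simp; ring
        · field_simp; ring
    · refine ⟨(4 * d)⁻¹, b, 2 * d, e, final_eq _ _ _ _ _ _ _ _ _ _ ?_ ?_ ?_ ?_ ?_ ?_⟩
      · field_simp; linear_combination m1
      · field_simp; ring
      · field_simp; linear_combination -2 * m3
      · field_simp; ring
      · field_simp; ring
      · field_simp; linear_combination m6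
  · refine ⟨(4 * a)⁻¹, 2 * a, b, c, final_eq _ _ _ _ _ _ _ _ _ _ ?_ ?_ ?_ ?_ ?_ ?_⟩
    · field_simp; ring
    · field_simp; ring
    · field_simp; ring
    · field_simp; linear_combination m1
    · field_simp; linear_combination 2 * m2
    · field_simp; linear_combination m4

end Main

end Groth.Agent.Helper3.Quad
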