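import Mathlib
import Groth.Agent.Lib.Helper3.Quad1
import Groth.Agent.Lib.Helper9.SepFS

/-!
Helper3: S1601, part 2: derivations of the base field in characteristic `2`.
-/

namespace Groth.Agent.Helper3.Quad

open MvPolynomial

universe u

variable {κ : Type u} [Field κ]

local notation "R" => MvPolynomial (Fin 2) κ

/-- additive Leibniz maps -/
def IsDer (D : κ →+ κ) : Prop := ∀ u v, D (u * v) = u * D v + v * D u

theorem IsDer.map_one {D : κ →+ κ} (hD : IsDer D) : D 1 = 0 := by
  have h := hD 1 1
  rw [mul_one, one_mul] at h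
  have : D 1 + D 1 = D 1 + 0 := by rw [add_zero]; exact h.symm
  exact add_left_cancel this

theorem IsDer.add {D D' : κ →+ κ} (hD : IsDer D) (hD' : IsDer D') : IsDer (D + D') := by
  intro u v
  rw [AddMonoidHom.add_apply, AddMonoidHom.add_apply, AddMonoidHom.add_apply, hD, hD']
  ring

theorem IsDer.comp_self (h2 : (2 : κ) = 0) {D : κ →+ κ} (hD : IsDer D) : IsDer (D.comp D) := by
  intro u v
  rw [AddMonoidHom.comp_apply, AddMonoidHom.comp_apply, AddMonoidHom.comp_apply, hD, map_add,
    hD, hD]
  linear_combination (D u * D v) * h2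

theorem IsDer.map_sq (h2 : (2 : κ) = 0) {D : κ →+ κ} (hD : IsDer D) (u : κ) : D (u ^ 2) = 0 := by
  rw [pow_two, hD]
  linear_combination (u * D u) * h2

/-- coefficientwise extension of an additive map of `κ` to `κ[x,y]` -/
noncomputable def extD (D : κ →+ κ) (p : R) : R := AddMonoidAlgebra.map D p

theorem extD_add (D : κ →+ κ) (p q : R) : extD D (p + q) = extD D p + extD D q :=
  AddMonoidAlgebra.map_add D p q

theorem extD_monomial (D : κ →+ κ) (m : Fin 2 →₀ ℕ) (c : κ) :
    extD D (monomial m c) = monomial m (D c) :=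
  AddMonoidAlgebra.map_single D c m

theorem extD_C (D : κ →+ κ) (c : κ) : extD D (C c : R) = C (D c) :=
  extD_monomial D 0 c

theorem extD_X {D : κ →+ κ} (hD : IsDer D) (i : Fin 2) : extD D (X i : R) = 0 := by
  show extD D (monomial (Finsupp.single i 1) 1) = 0
  rw [extD_monomial, hD.map_one, map_zero]

theorem extD_mul {D : κ →+ κ} (hD : IsDer D) (p q : R) :
    extD D (p * q) = p * extD D q + q * extD D p := by
  induction p using MvPolynomial.induction_on' with
  | monomial m c =>
    induction q using MvPolynomial.induction_on' with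
    | monomial n c' =>
      rw [monomial_mul, extD_monomial, extD_monomial, extD_monomial, monomial_mul, monomial_mul,
        hD, map_add, add_comm n m]
    | add q1 q2 h1 h2 =>
      rw [mul_add, extD_add, extD_add, h1, h2]; ring
  | add p1 p2 h1 h2 =>
    rw [add_mul, extD_add, extD_add, h1, h2]; ring

theorem extD_sq {D : κ →+ κ} (hD : IsDer D) (i : Fin 2) : extD D ((X i : R) ^ 2) = 0 := by
  rw [pow_two, extD_mul hD, extD_X hD, mul_zero, add_zero]

theorem extD_C_mul {D : κ →+ κ} (hD : IsDer D) (c : κ) (p : R) :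
    extD D (C c * p) = C c * extD D p + C (D c) * p := by
  rw [extD_mul hD, extD_C, mul_comm p]

section Exists

variable [CharP κ 2]

/-- a non-square is moved by some derivation -/
theorem exists_der (a : κ) (ha : ∀ e : κ, e ^ 2 ≠ a) : ∃ D : κ →+ κ, IsDer D ∧ D a ≠ 0 := by
  have hne := Groth.Agent.Helper9.SepFS.D_ne_zero_of_forall_pow_ne 2 a ha
  set S := (frobenius κ 2).fieldRange with hS
  have : ∃ φ : Module.Dual κ (Ω[κ⁄S]), φ (KaehlerDifferential.D S κ a) ≠ 0 := by
    by_contra hcon
    simp only [not_exists, not_not] at hcon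
    exact hne ((Module.forall_dual_apply_eq_zero_iff κ _).mp hcon)
  obtain ⟨φ, hφ⟩ := this
  refine ⟨{ toFun := fun u => φ (KaehlerDifferential.D S κ u)
            map_zero' := by simp
            map_add' := fun u v => by simp }, ?_, hφ⟩
  intro u v
  show φ (KaehlerDifferential.D S κ (u * v)) = u * φ (KaehlerDifferential.D S κ v) +
    v * φ (KaehlerDifferential.D S κ u)
  rw [Derivation.leibniz, map_add, map_smul, map_smul, smul_eq_mul, smul_eq_mul]

end Exists

end Groth.Agent.Helper3.Quad
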