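import Mathlib
import Groth.Agent.Lib.Helper3.Quad1

/-!
Helper3: S1601, part 3: the local analysis at a rational point `P` with
`(x - P₀)², (y - P₁)² ∈ I`.
-/

namespace Groth.Agent.Helper3.Quad

open MvPolynomial

universe u

variable {κ : Type u} [Field κ]

local notation "R" => MvPolynomial (Fin 2) κ

/-- the maximal ideal of the point `P` -/
noncomputable def ptIdeal (P : Fin 2 → κ) : Ideal (MvPolynomial (Fin 2) κ) :=
  Ideal.span (Set.range fun i : Fin 2 => (X i - C (P i) : MvPolynomial (Fin 2) κ))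

theorem u_mem_ptIdeal (P : Fin 2 → κ) (i : Fin 2) : (X i - C (P i) : R) ∈ ptIdeal P :=
  Ideal.subset_span ⟨i, rfl⟩

theorem ptIdeal_eq (P : Fin 2 → κ) :
    ptIdeal P = Ideal.span {(X 0 - C (P 0) : R)} ⊔ Ideal.span {(X 1 - C (P 1) : R)} := by
  apply le_antisymm
  · rw [ptIdeal, Ideal.span_le]
    rintro _ ⟨i, rfl⟩
    fin_cases i
    · exact Ideal.mem_sup_left (Ideal.subset_span rfl)
    · exact Ideal.mem_sup_right (Ideal.subset_span rfl)
  · rw [sup_le_iff, Ideal.span_singleton_le_iff_mem, Ideal.span_singleton_le_iff_mem]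
    exact ⟨u_mem_ptIdeal P 0, u_mem_ptIdeal P 1⟩

/-- second order Taylor expansion at `P` -/
theorem taylor_mem (P : Fin 2 → κ) (p : R) :
    p - C (eval P p) - C (eval P (pderiv 0 p)) * (X 0 - C (P 0)) -
      C (eval P (pderiv 1 p)) * (X 1 - C (P 1)) ∈ ptIdeal P ^ 2 := by
  induction p using MvPolynomial.induction_on with
  | C a => simp
  | add p q hp hq =>
    have : p + q - C (eval P (p + q)) - C (eval P (pderiv 0 (p + q))) * (X 0 - C (P 0)) -
        C (eval P (pderiv 1 (p + q))) * (X 1 - C (P 1)) =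
        (p - C (eval P p) - C (eval P (pderiv 0 p)) * (X 0 - C (P 0)) -
          C (eval P (pderiv 1 p)) * (X 1 - C (P 1))) +
        (q - C (eval P q) - C (eval P (pderiv 0 q)) * (X 0 - C (P 0)) -
          C (eval P (pderiv 1 q)) * (X 1 - C (P 1))) := by
      simp only [map_add]; ring
    rw [this]; exact Ideal.add_mem _ hp hq
  | mul_X p n hp =>
    have hmem : (p - C (eval P p)) * (X n - C (P n)) ∈ ptIdeal P ^ 2 := by
      rw [pow_two]
      exact Ideal.mul_mem_mul (sub_eval_mem P p) (u_mem_ptIdeal P n)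
    have key : p * X n - C (eval P (p * X n)) -
        C (eval P (pderiv 0 (p * X n))) * (X 0 - C (P 0)) -
        C (eval P (pderiv 1 (p * X n))) * (X 1 - C (P 1)) =
        C (P n) * (p - C (eval P p) - C (eval P (pderiv 0 p)) * (X 0 - C (P 0)) -
          C (eval P (pderiv 1 p)) * (X 1 - C (P 1))) +
        (p - C (eval P p)) * (X n - C (P n)) := by
      fin_cases n
      · simp only [Fin.zero_eta, Fin.isValue, pderiv_mul, pderiv_X_self,
          pderiv_X_of_ne (show (0 : Fin 2) ≠ 1 by decide), map_mul, map_add, eval_X, mul_one,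
          mul_zero, add_zero]
        ring
      · simp only [Fin.mk_one, Fin.isValue, pderiv_mul, pderiv_X_self,
          pderiv_X_of_ne (show (1 : Fin 2) ≠ 0 by decide), map_mul, map_add, eval_X, mul_one,
          mul_zero, add_zero]
        ring
    rw [key]
    exact Ideal.add_mem _ (Ideal.mul_mem_left _ _ hp) hmem

/-- Nakayama-type step -/
theorem le_of_le_sup_sq (I M : Ideal R) (h1 : M ≤ I ⊔ M ^ 2) (h4 : M ^ 4 ≤ I) : M ≤ I := by
  have h2 : M ^ 2 ≤ I ⊔ M ^ 3 := by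
    calc M ^ 2 = M * M := pow_two M
      _ ≤ (I ⊔ M ^ 2) * M := Ideal.mul_mono_left h1
      _ = I * M ⊔ M ^ 2 * M := Ideal.sup_mul _ _ _
      _ ≤ I ⊔ M ^ 3 := sup_le_sup Ideal.mul_le_left (by rw [← pow_succ])
  have h3 : M ^ 3 ≤ I := by
    calc M ^ 3 = M ^ 2 * M := pow_succ M 2
      _ ≤ (I ⊔ M ^ 3) * M := Ideal.mul_mono_left h2
      _ = I * M ⊔ M ^ 3 * M := Ideal.sup_mul _ _ _
      _ ≤ I ⊔ M ^ 4 := sup_le_sup Ideal.mul_le_left (by rw [← pow_succ])
      _ ≤ I := sup_le le_rfl h4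
  calc M ≤ I ⊔ M ^ 2 := h1
    _ ≤ I ⊔ (I ⊔ M ^ 3) := sup_le_sup le_rfl h2
    _ ≤ I := sup_le le_rfl (sup_le le_rfl h3)

section Point

variable (I : Ideal (MvPolynomial (Fin 2) κ))
  (hI : ¬ (Module.Finite κ (MvPolynomial (Fin 2) κ ⧸ I) ∧
    Module.finrank κ (MvPolynomial (Fin 2) κ ⧸ I) ≤ 1))
  (P : Fin 2 → κ)
  (hu : (X 0 - C (P 0) : MvPolynomial (Fin 2) κ) ^ 2 ∈ I)
  (hv : (X 1 - C (P 1) : MvPolynomial (Fin 2) κ) ^ 2 ∈ I)

include hu hv

theorem ptIdeal_pow_four_le : ptIdeal P ^ 4 ≤ I := by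
  rw [ptIdeal_eq]
  calc (Ideal.span {(X 0 - C (P 0) : R)} ⊔ Ideal.span {(X 1 - C (P 1) : R)}) ^ (2 + 2)
      ≤ Ideal.span {(X 0 - C (P 0) : R)} ^ 2 ⊔ Ideal.span {(X 1 - C (P 1) : R)} ^ 2 :=
        Ideal.sup_pow_add_le_pow_sup_pow
    _ ≤ I := by
        rw [Ideal.span_singleton_pow, Ideal.span_singleton_pow, sup_le_iff,
          Ideal.span_singleton_le_iff_mem, Ideal.span_singleton_le_iff_mem]
        exact ⟨hu, hv⟩

include hI

theorem eval_eq_zero_of_mem (p : R) (hp : p ∈ I) : eval P p = 0 := by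
  have hmM : p - C (eval P p) ∈ ptIdeal P := sub_eval_mem P p
  have hm4 : (p - C (eval P p)) ^ 4 ∈ I :=
    ptIdeal_pow_four_le I P hu hv (Ideal.pow_mem_pow hmM 4)
  have hc4 : (C (eval P p) : R) ^ 4 ∈ I := by
    have : (C (eval P p) : R) ^ 4 = p * (p ^ 3 - 4 * p ^ 2 * (p - C (eval P p)) +
        6 * p * (p - C (eval P p)) ^ 2 - 4 * (p - C (eval P p)) ^ 3) +
        (p - C (eval P p)) ^ 4 := by ring
    rw [this]; exact I.add_mem (I.mul_mem_right _ hp) hm4
  rw [← map_pow] at hc4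
  exact (pow_eq_zero_iff (by norm_num : (4 : ℕ) ≠ 0)).mp (const_eq_zero I hI _ hc4)

theorem taylor_mem_of_mem (p : R) (hp : p ∈ I) :
    p - C (eval P (pderiv 0 p)) * (X 0 - C (P 0)) -
      C (eval P (pderiv 1 p)) * (X 1 - C (P 1)) ∈ ptIdeal P ^ 2 := by
  have h := taylor_mem P p
  rwa [eval_eq_zero_of_mem I hI P hu hv p hp, C_0, sub_zero] at h

theorem grad_det_eq_zero (p1 p2 : R) (h1 : p1 ∈ I) (h2 : p2 ∈ I) :
    eval P (pderiv 0 p1) * eval P (pderiv 1 p2) -
      eval P (pderiv 1 p1) * eval P (pderiv 0 p2) = 0 := by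
  by_contra hΔ
  apply hI
  have t1 := taylor_mem_of_mem I hI P hu hv p1 h1
  have t2 := taylor_mem_of_mem I hI P hu hv p2 h2
  generalize eval P (pderiv 0 p1) = g01 at *
  generalize eval P (pderiv 1 p1) = g11 at *
  generalize eval P (pderiv 0 p2) = g02 at *
  generalize eval P (pderiv 1 p2) = g12 at *
  have hunit : (C (g01 * g12 - g11 * g02)⁻¹ : R) * (C g01 * C g12 - C g11 * C g02) = 1 := by
    rw [← C_mul, ← C_mul, ← C_sub, ← C_mul, inv_mul_cancel₀ hΔ, C_1]
  have hM : ptIdeal P ≤ I := by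
    apply le_of_le_sup_sq I (ptIdeal P) ?_ (ptIdeal_pow_four_le I P hu hv)
    have hu' : (X 0 - C (P 0) : R) ∈ I ⊔ ptIdeal P ^ 2 := by
      have : (X 0 - C (P 0) : R) =
          C (g01 * g12 - g11 * g02)⁻¹ * (C g12 * p1 - C g11 * p2) -
          C (g01 * g12 - g11 * g02)⁻¹ *
            (C g12 * (p1 - C g01 * (X 0 - C (P 0)) - C g11 * (X 1 - C (P 1))) -
             C g11 * (p2 - C g02 * (X 0 - C (P 0)) - C g12 * (X 1 - C (P 1)))) := by
        linear_combination (-(X 0 - C (P 0) : R)) * hunit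
      rw [this]
      exact Ideal.sub_mem _
        (Ideal.mem_sup_left (Ideal.mul_mem_left _ _ (Ideal.sub_mem _ (Ideal.mul_mem_left _ _ h1)
          (Ideal.mul_mem_left _ _ h2))))
        (Ideal.mem_sup_right (Ideal.mul_mem_left _ _ (Ideal.sub_mem _ (Ideal.mul_mem_left _ _ t1)
          (Ideal.mul_mem_left _ _ t2))))
    have hv' : (X 1 - C (P 1) : R) ∈ I ⊔ ptIdeal P ^ 2 := by
      have : (X 1 - C (P 1) : R) =
          C (g01 * g12 - g11 * g02)⁻¹ * (C g01 * p2 - C g02 * p1) -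
          C (g01 * g12 - g11 * g02)⁻¹ *
            (C g01 * (p2 - C g02 * (X 0 - C (P 0)) - C g12 * (X 1 - C (P 1))) -
             C g02 * (p1 - C g01 * (X 0 - C (P 0)) - C g11 * (X 1 - C (P 1)))) := by
        linear_combination (-(X 1 - C (P 1) : R)) * hunit
      rw [this]
      exact Ideal.sub_mem _
        (Ideal.mem_sup_left (Ideal.mul_mem_left _ _ (Ideal.sub_mem _ (Ideal.mul_mem_left _ _ h2)
          (Ideal.mul_mem_left _ _ h1))))
        (Ideal.mem_sup_right (Ideal.mul_mem_left _ _ (Ideal.sub_mem _ (Ideal.mul_mem_left _ _ t2)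
          (Ideal.mul_mem_left _ _ t1))))
    rw [ptIdeal, Ideal.span_le]
    rintro _ ⟨i, rfl⟩
    fin_cases i
    · exact hu'
    · exact hv'
  exact colength_le_one I P (fun i => hM (u_mem_ptIdeal P i))

theorem exists_perp : ∃ s0 s1 : κ, (s0 ≠ 0 ∨ s1 ≠ 0) ∧
    ∀ p ∈ I, s0 * eval P (pderiv 0 p) + s1 * eval P (pderiv 1 p) = 0 := by
  by_cases hall : ∀ p ∈ I, eval P (pderiv 0 p) = 0 ∧ eval P (pderiv 1 p) = 0
  · exact ⟨1, 0, Or.inl one_ne_zero, fun p hp => by rw [(hall p hp).1]; ring⟩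
  · obtain ⟨p1, hp1, hne⟩ : ∃ p1, p1 ∈ I ∧
        (eval P (pderiv 0 p1) = 0 → eval P (pderiv 1 p1) ≠ 0) := by
      by_contra hcon
      apply hall
      intro p hp
      by_contra h
      exact hcon ⟨p, hp, fun h0 h1 => h ⟨h0, h1⟩⟩
    refine ⟨-eval P (pderiv 1 p1), eval P (pderiv 0 p1), ?_, fun p hp => ?_⟩
    · by_cases h0 : eval P (pderiv 0 p1) = 0
      · left; exact neg_ne_zero.mpr (hne h0)
      · right; exact h0
    · have := grad_det_eq_zero I hI P hu hv p1 p hp1 hp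
      linear_combination this

theorem exists_sq_of_point (h2 : (2 : κ) = 0) (f : κ)
    (hQ : (X 0 - C (P 0) : R) ^ 2 + C f * (X 1 - C (P 1)) ^ 2 ∈ I ^ 2) : ∃ i : κ, f = i ^ 2 := by
  obtain ⟨s0, s1, hs, hperp⟩ := exists_perp I hI P hu hv
  let φ : R →ₐ[κ] Polynomial κ :=
    aeval (fun i : Fin 2 => Polynomial.C (P i) + Polynomial.C (![s0, s1] i) * Polynomial.X)
  have hφC : ∀ c : κ, φ (C c) = Polynomial.C c := fun c => by
    simp only [φ, aeval_C]; rfl
  have hφ0 : φ (X 0 - C (P 0)) = Polynomial.C s0 * Polynomial.X := by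
    rw [map_sub, hφC]
    simp only [φ, aeval_X, Matrix.cons_val_zero]
    ring
  have hφ1 : φ (X 1 - C (P 1)) = Polynomial.C s1 * Polynomial.X := by
    rw [map_sub, hφC]
    simp only [φ, aeval_X, Matrix.cons_val_one, Matrix.cons_val_zero]
    ring
  have hM : (ptIdeal P).map φ ≤ Ideal.span {(Polynomial.X : Polynomial κ)} := by
    rw [ptIdeal, Ideal.map_span, Ideal.span_le]
    rintro _ ⟨_, ⟨i, rfl⟩, rfl⟩
    fin_cases i
    · show φ (X 0 - C (P 0)) ∈ _
      rw [hφ0]; exact Ideal.mul_mem_left _ _ (Ideal.subset_span rfl)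
    · show φ (X 1 - C (P 1)) ∈ _
      rw [hφ1]; exact Ideal.mul_mem_left _ _ (Ideal.subset_span rfl)
  have hI2 : I.map φ ≤ Ideal.span {(Polynomial.X : Polynomial κ) ^ 2} := by
    rw [Ideal.map_le_iff_le_comap]
    intro p hp
    rw [Ideal.mem_comap]
    have t := taylor_mem_of_mem I hI P hu hv p hp
    have hw : φ (p - C (eval P (pderiv 0 p)) * (X 0 - C (P 0)) -
        C (eval P (pderiv 1 p)) * (X 1 - C (P 1))) ∈
        Ideal.span {(Polynomial.X : Polynomial κ) ^ 2} := by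
      have h' : φ (p - C (eval P (pderiv 0 p)) * (X 0 - C (P 0)) -
          C (eval P (pderiv 1 p)) * (X 1 - C (P 1))) ∈ (ptIdeal P ^ 2).map φ :=
        Ideal.mem_map_of_mem _ t
      rw [Ideal.map_pow] at h'
      have h'' := Ideal.pow_right_mono hM 2 h'
      rwa [Ideal.span_singleton_pow] at h''
    have hp' : p = C (eval P (pderiv 0 p)) * (X 0 - C (P 0)) +
        C (eval P (pderiv 1 p)) * (X 1 - C (P 1)) +
        (p - C (eval P (pderiv 0 p)) * (X 0 - C (P 0)) -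
          C (eval P (pderiv 1 p)) * (X 1 - C (P 1))) := by ring
    rw [hp', map_add, map_add, map_mul, map_mul, hφ0, hφ1, hφC, hφC]
    have hz : Polynomial.C (eval P (pderiv 0 p)) * (Polynomial.C s0 * Polynomial.X) +
        Polynomial.C (eval P (pderiv 1 p)) * (Polynomial.C s1 * Polynomial.X) =
        Polynomial.C (s0 * eval P (pderiv 0 p) + s1 * eval P (pderiv 1 p)) * Polynomial.X := by
      simp only [map_add, map_mul]; ring
    rw [hz, hperp p hp, map_zero, zero_mul, zero_add]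
    exact hw
  have hQ' : φ ((X 0 - C (P 0) : R) ^ 2 + C f * (X 1 - C (P 1)) ^ 2) ∈
      Ideal.span {(Polynomial.X : Polynomial κ) ^ 4} := by
    have h' : φ ((X 0 - C (P 0) : R) ^ 2 + C f * (X 1 - C (P 1)) ^ 2) ∈ (I ^ 2).map φ :=
      Ideal.mem_map_of_mem _ hQ
    rw [Ideal.map_pow] at h'
    have h'' := Ideal.pow_right_mono hI2 2 h'
    rwa [Ideal.span_singleton_pow, ← pow_mul] at h''
  rw [map_add, map_mul, map_pow, map_pow, hφ0, hφ1, hφC] at hQ'
  have hform : (Polynomial.C s0 * Polynomial.X) ^ 2 +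
      Polynomial.C f * (Polynomial.C s1 * Polynomial.X) ^ 2 =
      Polynomial.C (s0 ^ 2 + f * s1 ^ 2) * (Polynomial.X : Polynomial κ) ^ 2 := by
    simp only [map_add, map_mul, map_pow]; ring
  rw [hform, Ideal.mem_span_singleton, Polynomial.X_pow_dvd_iff] at hQ'
  have hc := hQ' 2 (by norm_num)
  rw [Polynomial.coeff_C_mul_X_pow] at hc
  simp only [if_true] at hc
  have hs1 : s1 ≠ 0 := by
    intro h
    rw [h] at hc
    have h0 : s0 = 0 := by
      have : s0 ^ 2 = 0 := by linear_combination hc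
      exact pow_eq_zero_iff (two_ne_zero) |>.mp this
    rcases hs with h' | h'
    · exact h' h0
    · exact h' h
  refine ⟨s0 / s1, ?_⟩
  field_simp
  linear_combination hc - s0 ^ 2 * h2

end Point

end Groth.Agent.Helper3.Quad
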