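import Mathlib
import Groth.Agent.Lib.Helper3.Quad2
import Groth.Agent.Lib.Helper3.Quad3

/-!
Helper3: S1601, part 4: the characteristic `2` case and the main theorem.
-/

namespace Groth.Agent.Helper3.Quad

open MvPolynomial

universe u

variable {κ : Type u} [Field κ]

local notation "R" => MvPolynomial (Fin 2) κ

section Char2

variable (I : Ideal (MvPolynomial (Fin 2) κ))
  (hI : ¬ (Module.Finite κ (MvPolynomial (Fin 2) κ ⧸ I) ∧
    Module.finrank κ (MvPolynomial (Fin 2) κ ⧸ I) ≤ 1))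
  (h2 : (2 : κ) = 0)

include hI h2

/-- Step B: the constant term is a square if the rest is killed by all derivations. -/
theorem stepB (a : κ) (p0 : R) (hp0 : ∀ D : κ →+ κ, IsDer D → extD D p0 = 0)
    (hQ : C a + p0 ∈ I ^ 2) : ∃ g : κ, a = g ^ 2 := by
  haveI : CharP κ 2 := CharTwo.of_one_ne_zero_of_two_eq_zero one_ne_zero h2
  by_contra hns
  have hns' : ∀ e : κ, e ^ 2 ≠ a := fun e he => hns ⟨e, he.symm⟩
  obtain ⟨D, hD, hDa⟩ := exists_der a hns'
  have h := leibniz_mem I (extD D) (extD_add D) (extD_mul hD) _ hQ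
  rw [extD_add, extD_C, hp0 D hD, add_zero] at h
  exact hDa (const_eq_zero I hI _ h)

/-- Step A: the coefficient of `y²` is a square. -/
theorem stepA (a f : κ) (hQ : (C a + X 0 ^ 2 + C f * X 1 ^ 2 : R) ∈ I ^ 2) :
    ∃ i : κ, f = i ^ 2 := by
  haveI : CharP κ 2 := CharTwo.of_one_ne_zero_of_two_eq_zero one_ne_zero h2
  have h2R : (2 : R) = 0 := by
    have : (2 : R) = C 2 := (map_ofNat C 2).symm
    rw [this, h2, C_0]
  by_contra hns
  have hns' : ∀ e : κ, e ^ 2 ≠ f := fun e he => hns ⟨e, he.symm⟩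
  obtain ⟨D0, hD0, hD0f⟩ := exists_der f hns'
  have key : ∀ D : κ →+ κ, IsDer D → (C (D a) + C (D f) * X 1 ^ 2 : R) ∈ I := by
    intro D hD
    have h := leibniz_mem I (extD D) (extD_add D) (extD_mul hD) _ hQ
    rw [extD_add, extD_add, extD_C, extD_sq hD, extD_C_mul hD, extD_sq hD, mul_zero, add_zero,
      zero_add] at h
    exact h
  have hQI : (C a + X 0 ^ 2 + C f * X 1 ^ 2 : R) ∈ I := Ideal.pow_le_self two_ne_zero hQ
  set β := D0 a / D0 f with hβ
  have hY : (X 1 ^ 2 + C β : R) ∈ I := by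
    have : (X 1 ^ 2 + C β : R) = C (D0 f)⁻¹ * (C (D0 a) + C (D0 f) * X 1 ^ 2) := by
      have hu : (C (D0 f)⁻¹ : R) * C (D0 f) = 1 := by
        rw [← C_mul, inv_mul_cancel₀ hD0f, C_1]
      rw [hβ, div_eq_mul_inv, C_mul]
      linear_combination (-(X 1 : R) ^ 2) * hu
    rw [this]; exact Ideal.mul_mem_left _ _ (key D0 hD0)
  have hstar : ∀ D : κ →+ κ, IsDer D → D a = β * D f := by
    intro D hD
    have h1 : (C (D a - β * D f) : R) ∈ I := by
      have : (C (D a - β * D f) : R) = (C (D a) + C (D f) * X 1 ^ 2) -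
          C (D f) * (X 1 ^ 2 + C β) := by
        simp only [map_sub, map_mul]; ring
      rw [this]; exact Ideal.sub_mem _ (key D hD) (Ideal.mul_mem_left _ _ hY)
    exact sub_eq_zero.mp (const_eq_zero I hI _ h1)
  have hX : (X 0 ^ 2 + C (a - f * β) : R) ∈ I := by
    have : (X 0 ^ 2 + C (a - f * β) : R) = (C a + X 0 ^ 2 + C f * X 1 ^ 2) -
        C f * (X 1 ^ 2 + C β) := by
      simp only [map_sub, map_mul]; ring
    rw [this]; exact Ideal.sub_mem _ hQI (Ideal.mul_mem_left _ _ hY)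
  by_cases h1a : ∃ D1 : κ →+ κ, IsDer D1 ∧ D1 β ≠ 0
  · obtain ⟨D1, hD1, hD1β⟩ := h1a
    have hprod : ∀ D : κ →+ κ, IsDer D → D f * D β = 0 := by
      intro D hD
      have e1 := hstar D hD
      have e2 := hstar (D.comp D) (hD.comp_self h2)
      rw [AddMonoidHom.comp_apply, AddMonoidHom.comp_apply, e1, hD β (D f)] at e2
      linear_combination e2
    have hpol : ∀ D D' : κ →+ κ, IsDer D → IsDer D' → D f * D' β + D' f * D β = 0 := by
      intro D D' hD hD'
      have e := hprod (D + D') (hD.add hD')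
      rw [AddMonoidHom.add_apply, AddMonoidHom.add_apply] at e
      linear_combination e - hprod D hD - hprod D' hD'
    have hD1f : D1 f = 0 := by
      rcases mul_eq_zero.mp (hprod D1 hD1) with h | h
      · exact h
      · exact absurd h hD1β
    have e := hpol D0 D1 hD0 hD1
    rw [hD1f, zero_mul, add_zero] at e
    rcases mul_eq_zero.mp e with h | h
    · exact hD0f h
    · exact hD1β h
  · have hDβ : ∀ D : κ →+ κ, IsDer D → D β = 0 := by
      intro D hD
      by_contra h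
      exact h1a ⟨D, hD, h⟩
    obtain ⟨β0, hβ0⟩ : ∃ β0 : κ, β = β0 ^ 2 := by
      by_contra hns2
      obtain ⟨D, hD, hDne⟩ := exists_der β (fun e he => hns2 ⟨e, he.symm⟩)
      exact hDne (hDβ D hD)
    obtain ⟨α0, hα0⟩ : ∃ α0 : κ, a - f * β = α0 ^ 2 := by
      by_contra hns2
      obtain ⟨D, hD, hDne⟩ := exists_der (a - f * β) (fun e he => hns2 ⟨e, he.symm⟩)
      apply hDne
      rw [map_sub, hD f β, hstar D hD, hDβ D hD]
      ring
    have hu : (X 0 - C (![α0, β0] 0) : R) ^ 2 ∈ I := by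
      have : (X 0 - C (![α0, β0] 0) : R) ^ 2 = X 0 ^ 2 + C (a - f * β) := by
        simp only [Matrix.cons_val_zero]
        rw [hα0, map_pow]
        linear_combination (-(X 0 : R) * C α0) * h2R
      rw [this]; exact hX
    have hv : (X 1 - C (![α0, β0] 1) : R) ^ 2 ∈ I := by
      have : (X 1 - C (![α0, β0] 1) : R) ^ 2 = X 1 ^ 2 + C β := by
        simp only [Matrix.cons_val_one, Matrix.cons_val_zero]
        rw [hβ0, map_pow]
        linear_combination (-(X 1 : R) * C β0) * h2R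
      rw [this]; exact hY
    have hQ' : (X 0 - C (![α0, β0] 0) : R) ^ 2 + C f * (X 1 - C (![α0, β0] 1)) ^ 2 ∈ I ^ 2 := by
      have : (X 0 - C (![α0, β0] 0) : R) ^ 2 + C f * (X 1 - C (![α0, β0] 1)) ^ 2 =
          C a + X 0 ^ 2 + C f * X 1 ^ 2 := by
        simp only [Matrix.cons_val_one, Matrix.cons_val_zero]
        have e1 : (C a : R) = C α0 ^ 2 + C f * C β0 ^ 2 := by
          rw [← map_pow, ← map_pow, ← C_mul, ← C_add, ← hα0, ← hβ0]
          congr 1; ring
        rw [e1]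
        linear_combination (-(X 0 : R) * C α0 - C f * X 1 * C β0) * h2R
      rw [this]; exact hQ
    exact hns (exists_sq_of_point I hI _ hu hv h2 f hQ')

/-- the case `2 = 0` -/
theorem main_of_two_eq_zero (a b c d e f : κ)
    (hne : (a, b, c, d, e, f) ≠ (0, 0, 0, 0, 0, 0))
    (hmem : (C a + C b * X 0 + C c * X 1 + C d * X 0 ^ 2 + C e * X 0 * X 1 + C f * X 1 ^ 2 : R)
      ∈ I ^ 2) :
    ∃ j g h i : κ, (C a + C b * X 0 + C c * X 1 + C d * X 0 ^ 2 + C e * X 0 * X 1 +
      C f * X 1 ^ 2 : R) = C j * (C g + C h * X 0 + C i * X 1) ^ 2 := by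
  obtain ⟨m1, m2, m3, m4, m5, m6⟩ := minor_eqs I hI a b c d e f hmem
  have hb : b = 0 := by
    have : b * b = 0 := by rw [← m1, h2]; ring
    exact mul_self_eq_zero.mp this
  have hc : c = 0 := by
    have : c * c = 0 := by rw [← m4, h2]; ring
    exact mul_self_eq_zero.mp this
  have he : e = 0 := by
    have : e * e = 0 := by rw [← m6, h2]; ring
    exact mul_self_eq_zero.mp this
  subst hb hc he
  have hQeq : (C a + C 0 * X 0 + C 0 * X 1 + C d * X 0 ^ 2 + C 0 * X 0 * X 1 + C f * X 1 ^ 2 : R)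
      = C a + C d * X 0 ^ 2 + C f * X 1 ^ 2 := by
    simp only [C_0, zero_mul, add_zero]
  rw [hQeq] at hmem
  have h2' : ∀ x : κ, 2 * x = 0 := fun x => by rw [h2, zero_mul]
  by_cases hd : d = 0
  · by_cases hf : f = 0
    · subst hd hf
      have ha : a ≠ 0 := by
        intro ha; subst ha; exact hne rfl
      exact ⟨a, 1, 0, 0, final_eq _ _ _ _ _ _ _ _ _ _ (by ring) (by ring) (by ring) (by ring)
        (by ring) (by ring)⟩
    · subst hd
      -- normalise by `f`
      have hQ1 : (C (a / f) + (X 1 : R) ^ 2) ∈ I ^ 2 := by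
        have : (C (a / f) + (X 1 : R) ^ 2) = C f⁻¹ * (C a + C 0 * X 0 ^ 2 + C f * X 1 ^ 2) := by
          have hu : (C f⁻¹ : R) * C f = 1 := by rw [← C_mul, inv_mul_cancel₀ hf, C_1]
          rw [div_eq_mul_inv, C_mul, C_0]
          linear_combination (-(X 1 : R) ^ 2) * hu
        rw [this]; exact Ideal.mul_mem_left _ _ hmem
      obtain ⟨g, hg⟩ := stepB I hI h2 (a / f) (X 1 ^ 2) (fun D hD => extD_sq hD 1) hQ1
      have ha : a = f * g ^ 2 := by
        rw [← hg]; field_simp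
      exact ⟨f, g, 0, 1, final_eq _ _ _ _ _ _ _ _ _ _ ha (by ring) (by rw [h2' ]; ring)
        (by ring) (by ring) (by ring)⟩
  · have hQ1 : (C (a / d) + X 0 ^ 2 + C (f / d) * X 1 ^ 2 : R) ∈ I ^ 2 := by
      have : (C (a / d) + X 0 ^ 2 + C (f / d) * X 1 ^ 2 : R) =
          C d⁻¹ * (C a + C d * X 0 ^ 2 + C f * X 1 ^ 2) := by
        have hu : (C d⁻¹ : R) * C d = 1 := by rw [← C_mul, inv_mul_cancel₀ hd, C_1]
        rw [div_eq_mul_inv, div_eq_mul_inv, C_mul, C_mul]
        linear_combination (-(X 0 : R) ^ 2) * hu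
      rw [this]; exact Ideal.mul_mem_left _ _ hmem
    obtain ⟨i, hi⟩ := stepA I hI h2 (a / d) (f / d) hQ1
    have hQ2 : (C (a / d) + (X 0 ^ 2 + C (i ^ 2) * X 1 ^ 2) : R) ∈ I ^ 2 := by
      rw [← hi, ← add_assoc]; exact hQ1
    obtain ⟨g, hg⟩ := stepB I hI h2 (a / d) (X 0 ^ 2 + C (i ^ 2) * X 1 ^ 2) (fun D hD => by
      rw [extD_add, extD_sq hD, extD_C_mul hD, extD_sq hD, hD.map_sq h2, C_0, mul_zero, zero_mul,
        add_zero, add_zero]) hQ2
    have ha : a = d * g ^ 2 := by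
      rw [← hg]; field_simp
    have hf : f = d * i ^ 2 := by
      rw [← hi]; field_simp
    exact ⟨d, g, 1, i, final_eq _ _ _ _ _ _ _ _ _ _ ha (by rw [h2']; ring) (by rw [h2']; ring)
      (by ring) (by rw [h2']; ring) hf⟩

end Char2

/-- S1601 -/
theorem main1601 (κ : Type u) [Field κ] (I : Ideal (MvPolynomial (Fin 2) κ))
    (hI : ¬ (Module.Finite κ (MvPolynomial (Fin 2) κ ⧸ I) ∧
      Module.finrank κ (MvPolynomial (Fin 2) κ ⧸ I) ≤ 1))
    (a b c d e f : κ) (hne : (a, b, c, d, e, f) ≠ (0, 0, 0, 0, 0, 0))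
    (hmem : (MvPolynomial.C a + MvPolynomial.C b * MvPolynomial.X 0 +
      MvPolynomial.C c * MvPolynomial.X 1 +
      MvPolynomial.C d * MvPolynomial.X 0 ^ 2 + MvPolynomial.C e * MvPolynomial.X 0 *
      MvPolynomial.X 1 +
      MvPolynomial.C f * MvPolynomial.X 1 ^ 2 : MvPolynomial (Fin 2) κ) ∈ I ^ 2) :
    ∃ j g h i : κ, (MvPolynomial.C a + MvPolynomial.C b * MvPolynomial.X 0 +
      MvPolynomial.C c * MvPolynomial.X 1 +
      MvPolynomial.C d * MvPolynomial.X 0 ^ 2 + MvPolynomial.C e * MvPolynomial.X 0 *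
      MvPolynomial.X 1 +
      MvPolynomial.C f * MvPolynomial.X 1 ^ 2 : MvPolynomial (Fin 2) κ) =
      MvPolynomial.C j * (MvPolynomial.C g + MvPolynomial.C h * MvPolynomial.X 0 +
        MvPolynomial.C i * MvPolynomial.X 1) ^ 2 := by
  by_cases h2 : (2 : κ) = 0
  · exact main_of_two_eq_zero I hI h2 a b c d e f hne hmem
  · exact main_of_two_ne_zero I hI a b c d e f hmem h2 hne

end Groth.Agent.Helper3.Quad
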