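import Mathlib

/-!
Quotient by a finite group: étale at a closed point implies trivial stabilizer (helper3).
-/

set_option autoImplicit false
universe u v w

open scoped Pointwise

namespace Groth.Agent.Helper3.QuotEt1

section
variable {k : Type u} [Field k] [IsAlgClosed k]
  {R : Type v} [CommRing R] [Algebra k R] [Algebra.FiniteType k R]
  {G : Type w} [Group G] [MulSemiringAction G R] [SMulCommClass G k R]

omit [MulSemiringAction G R] [SMulCommClass G k R] in
/-- every maximal ideal of a f.g. algebra over an algebraically closed field is the kernel of a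
rational point -/
theorem exists_algHom_ker_eq (m : Ideal R) (hm : m.IsMaximal) :
    ∃ g : R →ₐ[k] k, ∀ a : R, g a = 0 ↔ a ∈ m := by
  letI := Ideal.Quotient.field m
  haveI : Algebra.FiniteType k (R ⧸ m) :=
    Algebra.FiniteType.of_surjective (Ideal.Quotient.mkₐ k m) (Ideal.Quotient.mkₐ_surjective k m)
  haveI : Module.Finite k (R ⧸ m) := finite_of_finite_type_of_isJacobsonRing k _
  haveI : Algebra.IsIntegral k (R ⧸ m) := inferInstance
  have hbij := IsAlgClosed.algebraMap_bijective_of_isIntegral (k := k) (K := R ⧸ m)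
  let e : k ≃ₐ[k] (R ⧸ m) := AlgEquiv.ofBijective (Algebra.ofId k (R ⧸ m)) hbij
  refine ⟨(e.symm : (R ⧸ m) →ₐ[k] k).comp (Ideal.Quotient.mkₐ k m), fun a => ?_⟩
  rw [AlgHom.comp_apply]
  constructor
  · intro h
    have h2 : (Ideal.Quotient.mkₐ k m) a = 0 := by
      have := congrArg e h
      simpa using this
    exact Ideal.Quotient.eq_zero_iff_mem.mp h2
  · intro h
    have h2 : (Ideal.Quotient.mkₐ k m) a = 0 := Ideal.Quotient.eq_zero_iff_mem.mpr h
    rw [h2, map_zero]

/-- an element of the stabilizer of a maximal ideal acts trivially mod `m` (residue field `k`). -/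
theorem smul_sub_mem (k : Type u) [Field k] [IsAlgClosed k]
    {R : Type v} [CommRing R] [Algebra k R] [Algebra.FiniteType k R]
    {G : Type w} [Group G] [MulSemiringAction G R] [SMulCommClass G k R]
    (m : Ideal R) [hm : m.IsMaximal] (σ : G) (hσ : σ • m = m) (x : R) :
    σ • x - x ∈ m := by
  obtain ⟨g, hg⟩ := exists_algHom_ker_eq (k := k) m hm
  have h1 : x - algebraMap k R (g x) ∈ m := by
    rw [← hg]; simp
  have h2 : σ • (x - algebraMap k R (g x)) ∈ m := by
    have : σ • (x - algebraMap k R (g x)) ∈ σ • m := Ideal.smul_mem_pointwise_smul _ _ _ h1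
    rwa [hσ] at this
  rw [smul_sub, smul_algebraMap] at h2
  have := m.sub_mem h2 h1
  convert this using 1
  ring

end

section
variable {R : Type v} [CommRing R] [IsDomain R] [IsNoetherianRing R]
  {G : Type w} [Group G] [MulSemiringAction G R] [FaithfulSMul G R]
  {B : Type v} [CommRing B] [Algebra B R] [SMulCommClass G B R]

theorem eq_one_of_unramified (m : Ideal R) [hm : m.IsMaximal]
    [Algebra.FormallyUnramified B (Localization.AtPrime m)]
    (σ : G) (hσ : σ • m = m) (hmod : ∀ x : R, σ • x - x ∈ m) : σ = 1 := by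
  set S := Localization.AtPrime m
  have hunit : ∀ y : m.primeCompl,
      IsUnit (((IsScalarTower.toAlgHom B R S).comp (MulSemiringAction.toAlgHom B R σ)) y) := by
    intro y
    simp only [AlgHom.comp_apply, MulSemiringAction.toAlgHom_apply, IsScalarTower.coe_toAlgHom']
    apply IsLocalization.map_units S (⟨σ • (y : R), ?_⟩ : m.primeCompl)
    intro hmem
    apply y.2
    have : σ⁻¹ • (σ • (y : R)) ∈ σ⁻¹ • m := Ideal.smul_mem_pointwise_smul _ _ _ hmem
    rw [inv_smul_smul] at this
    have h2 : σ⁻¹ • m = m := by
      conv_lhs => rw [← hσ]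
      rw [inv_smul_smul]
    rwa [h2] at this
  let σm : S →ₐ[B] S := IsLocalization.liftAlgHom (M := m.primeCompl) hunit
  have hσm : ∀ x : R, σm (algebraMap R S x) = algebraMap R S (σ • x) := by
    intro x
    simp [σm, IsLocalization.liftAlgHom_apply]
  have hI : ⨅ i, (IsLocalRing.maximalIdeal S) ^ i = ⊥ :=
    Ideal.iInf_pow_eq_bot_of_isLocalRing _ (IsLocalRing.maximalIdeal.isMaximal S).ne_top
  have key : AlgHom.id B S = σm := by
    apply Algebra.FormallyUnramified.ext_of_iInf (I := IsLocalRing.maximalIdeal S) hI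
    intro s
    have : (Ideal.Quotient.mk (IsLocalRing.maximalIdeal S)).comp (AlgHom.id B S : S →+* S)
        = (Ideal.Quotient.mk (IsLocalRing.maximalIdeal S)).comp (σm : S →+* S) := by
      apply IsLocalization.ringHom_ext m.primeCompl
      ext x
      simp only [RingHom.comp_apply, AlgHom.coe_toRingHom, AlgHom.id_apply, hσm]
      rw [Ideal.Quotient.eq, ← map_sub, IsLocalization.AtPrime.to_map_mem_maximal_iff S m]
      have := hmod x
      rw [← neg_sub]
      exact m.neg_mem this
    exact RingHom.congr_fun this s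
  have hinj : Function.Injective (algebraMap R S) :=
    IsLocalization.injective S m.primeCompl_le_nonZeroDivisors
  apply FaithfulSMul.eq_of_smul_eq_smul (α := R)
  intro x
  rw [one_smul]
  apply hinj
  rw [← hσm, ← key, AlgHom.id_apply]

end

end Groth.Agent.Helper3.QuotEt1
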