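import Mathlib

/-!
Quotient by a finite group: Galois data at a point with trivial stabilizer (helper3).
-/

set_option autoImplicit false
universe u v w

open scoped Pointwise

namespace Groth.Agent.Helper3.QuotEt2

section
variable {R : Type v} [CommRing R] {G : Type w} [Group G] [MulSemiringAction G R]

theorem isMaximal_smul (m : Ideal R) [m.IsMaximal] (σ : G) : (σ • m).IsMaximal := by
  rw [Ideal.pointwise_smul_eq_comap]; infer_instance

variable [Fintype G] [DecidableEq G]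

theorem exists_e (m : Ideal R) [m.IsMaximal] (hstab : MulAction.stabilizer G m = ⊥) :
    ∃ e : R, ∀ a ρ : G, a • e - (if a = ρ then 1 else 0) ∈ ρ • m := by
  have hne : ∀ σ τ : G, σ ≠ τ → σ • m ≠ τ • m := by
    intro σ τ hne h
    apply hne
    have : τ⁻¹ * σ ∈ MulAction.stabilizer G m := by
      rw [MulAction.mem_stabilizer_iff, mul_smul, h, inv_smul_smul]
    rw [hstab, Subgroup.mem_bot] at this
    exact (inv_mul_eq_one.mp this).symm
  have hcop : Pairwise (Function.onFun IsCoprime fun σ : G => σ • m) := by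
    intro σ τ hστ
    haveI := isMaximal_smul m σ
    haveI := isMaximal_smul m τ
    exact Ideal.isCoprime_of_isMaximal (hne σ τ hστ)
  obtain ⟨e, he⟩ := Ideal.exists_forall_sub_mem_ideal hcop (fun σ => if σ = 1 then 1 else 0)
  refine ⟨e, fun a ρ => ?_⟩
  have h1 := he (a⁻¹ * ρ)
  have h2 : a • (e - (if a⁻¹ * ρ = 1 then (1:R) else 0)) ∈ a • ((a⁻¹ * ρ) • m) :=
    Ideal.smul_mem_pointwise_smul _ _ _ h1
  rw [← mul_smul, mul_inv_cancel_left, smul_sub] at h2
  convert h2 using 2
  by_cases h : a = ρ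
  · subst h; simp
  · have : a⁻¹ * ρ ≠ 1 := by rwa [ne_eq, inv_mul_eq_one]
    simp [h, this]

/-- the matrix `Z` -/
noncomputable def Z (e : R) : Matrix G G R :=
  fun σ₁ σ => ∑ a : G, (a • e) * ((σ * σ₁⁻¹ * a) • e)

theorem mk_Z (m : Ideal R) (e : R)
    (he : ∀ a ρ : G, a • e - (if a = ρ then 1 else 0) ∈ ρ • m) (ρ : G) :
    (Ideal.Quotient.mk (ρ • m)).mapMatrix (Z (G := G) e) = 1 := by
  have hq : ∀ a : G, Ideal.Quotient.mk (ρ • m) (a • e) = if a = ρ then 1 else 0 := by
    intro a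
    have := he a ρ
    rw [← Ideal.Quotient.eq] at this
    rw [this]
    split_ifs <;> simp
  ext σ₁ σ
  simp only [RingHom.mapMatrix_apply, Matrix.map_apply, Z, map_sum, map_mul, hq]
  simp only [ite_mul, one_mul, zero_mul, Finset.sum_ite_eq', Finset.mem_univ, if_true]
  rw [Matrix.one_apply]
  have : σ * σ₁⁻¹ * ρ = ρ ↔ σ₁ = σ := by
    rw [mul_eq_right, mul_inv_eq_one]
    exact eq_comm
  simp only [this]

theorem det_Z_sub_one_mem (m : Ideal R) (e : R)
    (he : ∀ a ρ : G, a • e - (if a = ρ then 1 else 0) ∈ ρ • m) (ρ : G) :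
    (Z (G := G) e).det - 1 ∈ ρ • m := by
  rw [← Ideal.Quotient.eq, map_one, RingHom.map_det, mk_Z m e he ρ, Matrix.det_one]

/-- Galois data at a maximal ideal with trivial stabilizer -/
theorem exists_galois_data (m : Ideal R) [m.IsMaximal] (hstab : MulAction.stabilizer G m = ⊥) :
    ∃ (x y : G × G → R) (f' : R), f' ∉ m ∧ (∀ σ : G, σ • f' = f') ∧
      ∀ σ : G, ∑ i, x i * σ • y i = if σ = 1 then f' else 0 := by
  obtain ⟨e, he⟩ := exists_e m hstab
  set D := (Z (G := G) e).det with hD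
  have hD1 : ∀ ρ : G, D - 1 ∈ ρ • m := det_Z_sub_one_mem m e he
  set f' : R := ∏ τ : G, τ • D with hf'
  set c : R := ∏ τ ∈ (Finset.univ.erase (1 : G)), τ • D with hc
  have hcD : c * D = f' := by
    rw [mul_comm]
    have := Finset.mul_prod_erase (Finset.univ : Finset G) (fun τ => τ • D) (Finset.mem_univ 1)
    simpa using this
  refine ⟨fun i => c * (Z (G := G) e).adjugate 1 i.1 * (i.2 • e), fun i => (i.1⁻¹ * i.2) • e, f',
    ?_, ?_, ?_⟩
  · intro hmem
    rw [hf', Ideal.IsPrime.prod_mem_iff] at hmem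
    obtain ⟨τ, -, hτ⟩ := hmem
    have h1 : D ∈ τ⁻¹ • m := by
      rw [Ideal.mem_inv_pointwise_smul_iff]; exact hτ
    have h2 := (τ⁻¹ • m).sub_mem h1 (hD1 τ⁻¹)
    rw [sub_sub_cancel] at h2
    haveI := isMaximal_smul m τ⁻¹
    exact (Ideal.IsMaximal.ne_top ‹_›) ((Ideal.eq_top_iff_one _).mpr h2)
  · intro σ
    rw [hf', Finset.smul_prod']
    simp only [← mul_smul]
    exact Fintype.prod_equiv (Equiv.mulLeft σ) _ _ (fun τ => rfl)
  · intro σ
    rw [Fintype.sum_prod_type]
    have h1 : ∀ σ₁ : G, ∑ a : G, c * (Z (G := G) e).adjugate 1 σ₁ * (a • e) *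
        σ • ((σ₁⁻¹ * a) • e) = c * ((Z (G := G) e).adjugate 1 σ₁ * Z (G := G) e σ₁ σ) := by
      intro σ₁
      rw [Z, Finset.mul_sum, Finset.mul_sum]
      refine Finset.sum_congr rfl fun a _ => ?_
      rw [← mul_smul, ← mul_assoc σ]
      ring
    simp only [h1]
    rw [← Finset.mul_sum, ← Matrix.mul_apply, Matrix.adjugate_mul, Matrix.smul_apply,
      Matrix.one_apply, smul_eq_mul, ← hD]
    by_cases h : σ = 1
    · subst h; simp [hcD]
    · have : ¬ (1 : G) = σ := fun h' => h h'.symm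
      simp [h, this]

end

end Groth.Agent.Helper3.QuotEt2
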