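import Groth.Agent.Lib.Helper3.QuotEt1
import Groth.Agent.Lib.Helper3.QuotEt2
import Groth.Agent.Lib.Helper3.QuotEt3

/-!
Quotient by a finite group: étale at a closed point iff trivial stabilizer (helper3).
-/

set_option autoImplicit false
universe u v w

open scoped Pointwise

namespace Groth.Agent.Helper3.QuotEt4

theorem etale_of_stabilizer (k : Type u) [Field k]
    (R : Type v) [CommRing R] [Algebra k R] [Algebra.FiniteType k R]
    (G : Type w) [Group G] [Finite G] [MulSemiringAction G R]
    (B : Type v) [CommRing B] [Algebra k B] [Algebra B R] [IsScalarTower k B R] [FaithfulSMul B R]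
    [SMulCommClass G B R] [Algebra.IsInvariant B R G]
    (m : Ideal R) [m.IsMaximal] (hstab : MulAction.stabilizer G m = ⊥) :
    Algebra.IsEtaleAt B m := by
  classical
  haveI : Fintype G := Fintype.ofFinite G
  have hinj : Function.Injective (algebraMap B R) := FaithfulSMul.algebraMap_injective B R
  obtain ⟨x, y, f', hf'm, hf'inv, hdata⟩ := QuotEt2.exists_galois_data (G := G) m hstab
  obtain ⟨f, rfl⟩ := Algebra.IsInvariant.isInvariant (A := B) (G := G) f' hf'inv
  obtain ⟨tr, htr⟩ := QuotEt3.exists_tr (B := B) (R := R) (G := G) hinj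
  have E1 := QuotEt3.E1 x y f hdata tr htr
  have E2 := QuotEt3.E2 x y f hdata tr htr
  have h1 : ∑ i, x i * y i = algebraMap B R f := by
    have := hdata 1
    simpa using this
  -- finiteness
  haveI : Algebra.FiniteType B R := Algebra.FiniteType.of_restrictScalars_finiteType k B R
  haveI : Algebra.IsIntegral B R := Algebra.IsInvariant.isIntegral B R G
  haveI : Module.Finite B R := Algebra.IsIntegral.finite
  haveI : Algebra.FiniteType k B :=
    ⟨fg_of_fg_of_fg k B R (Algebra.FiniteType.out) (Module.Finite.fg_top) hinj⟩
  haveI : IsNoetherianRing B := Algebra.FiniteType.isNoetherianRing k B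
  haveI : Algebra.FinitePresentation B R := Algebra.FinitePresentation.of_finiteType.mp inferInstance
  haveI : Module.Flat B (Localization.Away (algebraMap B R f)) :=
    QuotEt3.flat_of_data f _ x y tr E1
  haveI : Algebra.FormallyUnramified B (Localization.Away (algebraMap B R f)) :=
    QuotEt3.unramified_of_data f _ x y tr E1 E2 h1
  have hE : Algebra.Etale B (Localization.Away (algebraMap B R f)) :=
    Algebra.Etale.of_formallyUnramified_of_flat
  exact (Algebra.basicOpen_subset_etaleLocus_iff_etale.mpr hE)
    (show (⟨m, inferInstance⟩ : PrimeSpectrum R) ∈ PrimeSpectrum.basicOpen (algebraMap B R f) from hf'm)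

theorem main (k : Type u) [Field k] [IsAlgClosed k]
    (R : Type v) [CommRing R] [IsDomain R] [Algebra k R] [Algebra.FiniteType k R]
    (G : Type w) [Group G] [Finite G] [MulSemiringAction G R] [FaithfulSMul G R]
    [SMulCommClass G k R]
    (B : Type v) [CommRing B] [Algebra k B] [Algebra B R] [IsScalarTower k B R] [FaithfulSMul B R]
    [SMulCommClass G B R] [Algebra.IsInvariant B R G]
    (m : Ideal R) [m.IsMaximal] :
    Algebra.IsEtaleAt B m ↔ MulAction.stabilizer G m = ⊥ := by
  constructor
  · intro h
    haveI : Algebra.FormallyEtale B (Localization.AtPrime m) := h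
    haveI : IsNoetherianRing R := Algebra.FiniteType.isNoetherianRing k R
    rw [eq_bot_iff]
    intro σ hσ
    rw [MulAction.mem_stabilizer_iff] at hσ
    rw [Subgroup.mem_bot]
    exact QuotEt1.eq_one_of_unramified (B := B) m σ hσ (QuotEt1.smul_sub_mem k m σ hσ)
  · exact etale_of_stabilizer k R G B m

end Groth.Agent.Helper3.QuotEt4
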