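import Groth.Agent.Lib.Helper3.HT3
import Groth.Agent.Lib.Helper3.DT5
import Groth.Prelude.Def_DTen3

/-!
# The Hom complex out of a K-projective complex represents the derived internal Hom (helper3)
-/

set_option autoImplicit false

open CategoryTheory CategoryTheory.Limits MonoidalCategory

universe u

attribute [local instance] HasDerivedCategory.standard

namespace Groth.Agent.Helper3.RH

open Groth.Agent.Helper11.LDer Groth.Agent.Helper11.DC Groth.Agent.Helper11.Tel
open Groth.Agent.Helper3.HT Groth.Agent.Helper3.DT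

variable {A : Type u} [CommRing A] [DTen.HasLTen A]

/-- `g ⊗^L L` -/
scoped notation:max "tR(" g ", " L ")" => CategoryTheory.Functor.map (DTen.LTen₂ _) (Prod.mkHom g (𝟙 L))

/-- `K ⊗^L g` -/
scoped notation:max "tL(" K ", " g ")" => CategoryTheory.Functor.map (DTen.LTen₂ _) (Prod.mkHom (𝟙 K) g)

@[reassoc]
theorem tR_comp {K K' K'' : Dual.D A} (g : K ⟶ K') (g' : K' ⟶ K'') (L : Dual.D A) :
    tR(g ≫ g', L) = tR(g, L) ≫ tR(g', L) := by
  rw [← Functor.map_comp]
  congr 1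

@[reassoc]
theorem tL_comp (K : Dual.D A) {L L' L'' : Dual.D A} (g : L ⟶ L') (g' : L' ⟶ L'') :
    tL(K, g ≫ g') = tL(K, g) ≫ tL(K, g') := by
  rw [← Functor.map_comp]
  congr 1

theorem tR_id (K L : Dual.D A) : tR(𝟙 K, L) = 𝟙 _ := by
  erw [← prod_id, CategoryTheory.Functor.map_id]

theorem tL_id (K L : Dual.D A) : tL(K, 𝟙 L) = 𝟙 _ := by
  erw [← prod_id, CategoryTheory.Functor.map_id]

@[reassoc]
theorem tR_tL {K K' L L' : Dual.D A} (g : K ⟶ K') (h : L ⟶ L') :
    tR(g, L) ≫ tL(K', h) = tL(K, h) ≫ tR(g, L') := by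
  rw [← Functor.map_comp, ← Functor.map_comp]
  congr 1
  ext <;> simp

@[reassoc]
theorem ε_nat {K K' L L' : DRing.Cx A} (f : K ⟶ K') (g : L ⟶ L') :
    (DTen.LTen₂ A).map (Prod.mkHom (DerivedCategory.Q.map f) (DerivedCategory.Q.map g)) ≫
      (DTen.ε A).app (K', L') = (DTen.ε A).app (K, L) ≫ DerivedCategory.Q.map (f ⊗ₘ g) := by
  have h := (DTen.ε A).naturality (Prod.mkHom f g : (K, L) ⟶ (K', L'))
  dsimp only [Functor.comp_map] at h
  rw [tensorT_map] at h
  exact h

@[reassoc]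
theorem ε_nat_left {K K' : DRing.Cx A} (f : K ⟶ K') (L : DRing.Cx A) :
    tR(DerivedCategory.Q.map f, DerivedCategory.Q.obj L) ≫ (DTen.ε A).app (K', L) =
      (DTen.ε A).app (K, L) ≫ DerivedCategory.Q.map (f ▷ L) := by
  have h := ε_nat f (𝟙 L)
  rw [CategoryTheory.Functor.map_id, MonoidalCategory.tensorHom_id] at h
  exact h

@[reassoc]
theorem ε_nat_right (K : DRing.Cx A) {L L' : DRing.Cx A} (g : L ⟶ L') :
    tL(DerivedCategory.Q.obj K, DerivedCategory.Q.map g) ≫ (DTen.ε A).app (K, L') =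
      (DTen.ε A).app (K, L) ≫ DerivedCategory.Q.map (K ◁ g) := by
  have h := ε_nat (𝟙 K) g
  rw [CategoryTheory.Functor.map_id, MonoidalCategory.id_tensorHom] at h
  exact h

/-- the derived evaluation `Q(Hom(P, W)) ⊗^L QP ⟶ QW` -/
noncomputable def evD (P W : DRing.Cx A) :
    (DTen.LTen₂ A).obj (DerivedCategory.Q.obj (DRing.homCx P W), DerivedCategory.Q.obj P) ⟶
      DerivedCategory.Q.obj W :=
  (DTen.ε A).app (DRing.homCx P W, P) ≫ DerivedCategory.Q.map (evH P W)

theorem tR_Q_evD {S : DRing.Cx A} (P W : DRing.Cx A) (ψ : S ⟶ DRing.homCx P W) :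
    tR(DerivedCategory.Q.map ψ, DerivedCategory.Q.obj P) ≫ evD P W =
      (DTen.ε A).app (S, P) ≫ DerivedCategory.Q.map (uncH ψ) := by
  rw [evD, ε_nat_left_assoc, ← Functor.map_comp, ← uncH_eq]

theorem rh_surj_Q (S P W : DRing.Cx A) [S.IsKProjective] [P.IsKProjective]
    (h : (DTen.LTen₂ A).obj (DerivedCategory.Q.obj S, DerivedCategory.Q.obj P) ⟶
      DerivedCategory.Q.obj W) :
    ∃ g : DerivedCategory.Q.obj S ⟶ DerivedCategory.Q.obj (DRing.homCx P W),
      tR(g, DerivedCategory.Q.obj P) ≫ evD P W = h := by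
  haveI := isKProjective_tensor S P
  haveI := isIso_ε S P
  obtain ⟨φ, hφ⟩ := exists_lift_of_isKProjective (S ⊗ P) W (inv ((DTen.ε A).app (S, P)) ≫ h)
  refine ⟨DerivedCategory.Q.map (curH φ), ?_⟩
  rw [tR_Q_evD, uncH_curH, hφ, IsIso.hom_inv_id_assoc]

theorem rh_inj_Q (S P W : DRing.Cx A) [S.IsKProjective] [P.IsKProjective]
    (g g' : DerivedCategory.Q.obj S ⟶ DerivedCategory.Q.obj (DRing.homCx P W))
    (h : tR(g, DerivedCategory.Q.obj P) ≫ evD P W = tR(g', DerivedCategory.Q.obj P) ≫ evD P W) :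
    g = g' := by
  haveI := isKProjective_tensor S P
  haveI := isIso_ε S P
  obtain ⟨ψ, rfl⟩ := exists_lift_of_isKProjective S _ g
  obtain ⟨ψ', rfl⟩ := exists_lift_of_isKProjective S _ g'
  rw [tR_Q_evD, tR_Q_evD, cancel_epi] at h
  obtain ⟨H⟩ := homotopy_of_Q_map_eq (S ⊗ P) W _ _ h
  have H' := curHomotopy H
  rw [curH_uncH, curH_uncH] at H'
  exact DerivedCategory.Q_map_eq_of_homotopy (h := H')

theorem rh_bijective (P W : DRing.Cx A) [P.IsKProjective] (T : Dual.D A) :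
    Function.Bijective (fun g : T ⟶ DerivedCategory.Q.obj (DRing.homCx P W) =>
      tR(g, DerivedCategory.Q.obj P) ≫ evD P W) := by
  obtain ⟨S, hS, -, ⟨e⟩⟩ := exists_kprojective_rep T
  constructor
  · intro g g' h
    dsimp only at h
    have h2 : tR(e.hom ≫ g, DerivedCategory.Q.obj P) ≫ evD P W =
        tR(e.hom ≫ g', DerivedCategory.Q.obj P) ≫ evD P W := by
      rw [tR_comp, tR_comp, Category.assoc, Category.assoc, h]
    have h3 := rh_inj_Q S P W _ _ h2
    exact (cancel_epi e.hom).mp h3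
  · intro h
    obtain ⟨g', hg'⟩ := rh_surj_Q S P W (tR(e.hom, DerivedCategory.Q.obj P) ≫ h)
    refine ⟨e.inv ≫ g', ?_⟩
    dsimp only
    rw [tR_comp, Category.assoc, hg', ← tR_comp_assoc, e.inv_hom_id, tR_id, Category.id_comp]


section Rho

variable [DTen.HasRHom A]

theorem homEquiv_symm_apply {K L M : Dual.D A} (g : K ⟶ (DTen.RHomR A L).obj M) :
    ((DTen.rhomAdj A L).homEquiv K M).symm g = tR(g, L) ≫ DTen.ev L M := by
  rw [Adjunction.homEquiv_counit]
  rfl

theorem adj_ext {K L M : Dual.D A} {g g' : K ⟶ (DTen.RHomR A L).obj M}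
    (h : tR(g, L) ≫ DTen.ev L M = tR(g', L) ≫ DTen.ev L M) : g = g' := by
  apply ((DTen.rhomAdj A L).homEquiv K M).symm.injective
  rw [homEquiv_symm_apply, homEquiv_symm_apply, h]

theorem tR_homEquiv_ev {K L M : Dual.D A} (f : (DTen.LTen₂ A).obj (K, L) ⟶ M) :
    tR(DTen.rhomHomEquiv K L M f, L) ≫ DTen.ev L M = f := by
  rw [← homEquiv_symm_apply]
  exact ((DTen.rhomAdj A L).homEquiv K M).left_inv f

/-- the comparison `RHom(QP, QW) ⟶ Q(Hom(P, W))` -/
noncomputable def rhoHom (P W : DRing.Cx A) [P.IsKProjective] :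
    (DTen.RHomR A (DerivedCategory.Q.obj P)).obj (DerivedCategory.Q.obj W) ⟶
      DerivedCategory.Q.obj (DRing.homCx P W) :=
  ((rh_bijective P W _).2 (DTen.ev (DerivedCategory.Q.obj P) (DerivedCategory.Q.obj W))).choose

@[reassoc]
theorem rhoHom_spec (P W : DRing.Cx A) [P.IsKProjective] :
    tR(rhoHom P W, DerivedCategory.Q.obj P) ≫ evD P W =
      DTen.ev (DerivedCategory.Q.obj P) (DerivedCategory.Q.obj W) :=
  ((rh_bijective P W _).2 (DTen.ev (DerivedCategory.Q.obj P) (DerivedCategory.Q.obj W))).choose_spec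

/-- the comparison `Q(Hom(P, W)) ⟶ RHom(QP, QW)` -/
noncomputable def rhoInv (P W : DRing.Cx A) :
    DerivedCategory.Q.obj (DRing.homCx P W) ⟶
      (DTen.RHomR A (DerivedCategory.Q.obj P)).obj (DerivedCategory.Q.obj W) :=
  DTen.rhomHomEquiv _ _ _ (evD P W)

@[reassoc]
theorem rhoInv_spec (P W : DRing.Cx A) :
    tR(rhoInv P W, DerivedCategory.Q.obj P) ≫
      DTen.ev (DerivedCategory.Q.obj P) (DerivedCategory.Q.obj W) = evD P W :=
  tR_homEquiv_ev _

/-- `RHom(QP, QW) ≅ Q(Hom(P, W))` for K-projective `P` -/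
noncomputable def rho (P W : DRing.Cx A) [P.IsKProjective] :
    (DTen.RHomR A (DerivedCategory.Q.obj P)).obj (DerivedCategory.Q.obj W) ≅
      DerivedCategory.Q.obj (DRing.homCx P W) where
  hom := rhoHom P W
  inv := rhoInv P W
  hom_inv_id := by
    apply adj_ext
    rw [tR_comp, Category.assoc, rhoInv_spec, rhoHom_spec, tR_id, Category.id_comp]
  inv_hom_id := by
    apply (rh_bijective P W _).1
    dsimp only
    rw [tR_comp, Category.assoc, rhoHom_spec, rhoInv_spec, tR_id, Category.id_comp]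

end Rho

end Groth.Agent.Helper3.RH
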