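import Mathlib
import Groth.Prelude.Def_BlowUp2
import Groth.Agent.Lib.Helper3.RelCartier

set_option autoImplicit false
universe u
open CategoryTheory CategoryTheory.Limits AlgebraicGeometry TensorProduct

namespace Groth.Agent.Helper3.RelCartier2

/-- Local criterion: `B` Noetherian local, `h ∈ 𝔪` a nonzerodivisor, `B/hB` flat over `A`; then
`B` is flat over `A`. -/
theorem flat_of_flat_quot_nzd {A B : Type u} [CommRing A] [CommRing B] [Algebra A B]
    [IsNoetherianRing B] [IsLocalRing B] (h : B) (hm : h ∈ IsLocalRing.maximalIdeal B)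
    (hnzd : h ∈ nonZeroDivisors B) [Module.Flat A (B ⧸ Ideal.span {h})] : Module.Flat A B := by
  rw [Module.Flat.iff_lTensor_injective]
  intro I hI
  have : Module.Finite A I := Module.Finite.iff_fg.mpr hI
  -- B-linear version
  let φ : B ⊗[A] I →ₗ[B] B ⊗[A] A := I.subtype.baseChange B
  have hφ : ∀ x, φ x = (I.subtype.lTensor B) x := fun x => rfl
  let K : Submodule B (B ⊗[A] I) := LinearMap.ker φ
  have hKfg : K.FG := IsNoetherian.noetherian K
  -- quotient map
  let q : B →ₗ[A] B ⧸ Ideal.span {h} := (Ideal.Quotient.mkₐ A (Ideal.span {h})).toLinearMap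
  let μ : B →ₗ[A] B := (LinearMap.mul B B h).restrictScalars A
  have hq : Function.Surjective q := Ideal.Quotient.mk_surjective
  have hex : Function.Exact μ q := by
    intro b
    constructor
    · intro hb
      have : b ∈ Ideal.span {h} := Ideal.Quotient.eq_zero_iff_mem.mp hb
      obtain ⟨c, rfl⟩ := Ideal.mem_span_singleton'.mp this
      exact ⟨c, mul_comm h c⟩
    · rintro ⟨c, rfl⟩
      show Ideal.Quotient.mk _ (h * c) = 0
      exact Ideal.Quotient.eq_zero_iff_mem.mpr (Ideal.mul_mem_right _ _ (Ideal.mem_span_singleton_self h))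
  have hex' := rTensor_exact I hex hq
  have hμ : ∀ x : B ⊗[A] I, (μ.rTensor I) x = h • x := by
    intro x
    induction x using TensorProduct.induction_on with
    | zero => simp
    | tmul b i => simp [μ, TensorProduct.smul_tmul']
    | add x y hx hy => rw [map_add, hx, hy, smul_add]
  have hKle : K ≤ (Ideal.span {h}) • K := by
    intro k hk
    have hk0 : (I.subtype.lTensor B) k = 0 := hk
    have h1 : (I.subtype.lTensor (B ⧸ Ideal.span {h})) ((q.rTensor I) k) = 0 := by
      have : (I.subtype.lTensor (B ⧸ Ideal.span {h})) ((q.rTensor I) k) =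
          (q.rTensor A) ((I.subtype.lTensor B) k) := by
        rw [← LinearMap.comp_apply, ← LinearMap.comp_apply, LinearMap.lTensor_comp_rTensor,
          LinearMap.rTensor_comp_lTensor]
      rw [this, hk0, map_zero]
    have h2 : (q.rTensor I) k = 0 :=
      (injective_iff_map_eq_zero _).mp
        (Module.Flat.lTensor_preserves_injective_linearMap (M := B ⧸ Ideal.span {h}) I.subtype
          Subtype.val_injective) _ h1
    obtain ⟨k', rfl⟩ := (hex' k).mp h2
    rw [hμ]
    refine Submodule.smul_mem_smul (Ideal.mem_span_singleton_self h) ?_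
    show φ k' = 0
    have h3 : h • φ k' = 0 := by
      rw [← map_smul, ← hμ]; exact hk
    -- transfer to B via rid
    have h4 : h * (TensorProduct.AlgebraTensorModule.rid A B B (φ k')) = 0 := by
      rw [← smul_eq_mul, ← map_smul, h3, map_zero]
    have h5 := (mul_left_mem_nonZeroDivisors_eq_zero_iff hnzd).mp h4
    exact (TensorProduct.AlgebraTensorModule.rid A B B).injective (by rw [h5, map_zero])
  have hK : K = ⊥ := by
    refine Submodule.eq_bot_of_le_smul_of_le_jacobson_bot (Ideal.span {h}) K hKfg hKle ?_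
    rw [IsLocalRing.jacobson_eq_maximalIdeal ⊥ bot_ne_top, Ideal.span_singleton_le_iff_mem]
    exact hm
  rw [injective_iff_map_eq_zero]
  intro x hx
  have : x ∈ K := hx
  rw [hK] at this
  exact this


theorem flat_of_local_data {A₀ B₀ A B : Type u} [CommRing A₀] [CommRing B₀] [CommRing A]
    [CommRing B] [Algebra A₀ B₀] [Algebra B₀ B] [Algebra A₀ A] [Algebra A B] [Algebra A₀ B]
    [IsScalarTower A₀ B₀ B] [IsScalarTower A₀ A B] [Module.Flat B₀ B] (M : Submonoid A₀)
    [IsLocalization M A] [IsNoetherianRing B] [IsLocalRing B] (r : B₀)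
    (hm : algebraMap B₀ B r ∈ IsLocalRing.maximalIdeal B)
    (hnzd : algebraMap B₀ B r ∈ nonZeroDivisors B)
    [Module.Flat A₀ (B₀ ⧸ Ideal.span {r})] : Module.Flat A B := by
  -- step b
  have hb : Module.Flat (B₀ ⧸ Ideal.span {r})
      (B ⧸ (Ideal.span {r}).map (algebraMap B₀ B)) :=
    Module.Flat.of_linearEquiv
      (Algebra.TensorProduct.quotIdealMapEquivQuotTensor B (Ideal.span {r})).toLinearEquiv
  -- step c
  have htower : IsScalarTower A₀ (B₀ ⧸ Ideal.span {r})
      (B ⧸ (Ideal.span {r}).map (algebraMap B₀ B)) := by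
    refine IsScalarTower.of_algebraMap_eq fun a => ?_
    show Ideal.Quotient.mk _ (algebraMap A₀ B a) =
      Ideal.Quotient.mk _ (algebraMap B₀ B (algebraMap A₀ B₀ a))
    rw [← IsScalarTower.algebraMap_apply A₀ B₀ B]
  have hc : Module.Flat A₀ (B ⧸ (Ideal.span {r}).map (algebraMap B₀ B)) :=
    Module.Flat.trans A₀ (B₀ ⧸ Ideal.span {r}) _
  have hmap : (Ideal.span {r}).map (algebraMap B₀ B) = Ideal.span {algebraMap B₀ B r} := by
    rw [Ideal.map_span, Set.image_singleton]
  rw [hmap] at hc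
  -- step d
  have hd : Module.Flat A (B ⧸ Ideal.span {algebraMap B₀ B r}) :=
    (Module.flat_iff_of_isLocalization A M _).mpr hc
  exact flat_of_flat_quot_nzd (algebraMap B₀ B r) hm hnzd

open Groth.Agent.Helper3.RelCartier in
theorem flat_stalkMap_of_mem_support {X S : Scheme.{u}} (f : X ⟶ S) (𝓘 : X.IdealSheafData)
    (hc : BlowUp.IsEffCartierIdeal 𝓘) [Flat (𝓘.subschemeι ≫ f)] (x : X) (hx : x ∈ 𝓘.support)
    [IsNoetherianRing (X.presheaf.stalk x)] : (f.stalkMap x).hom.Flat := by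
  obtain ⟨_, ⟨V, hV, rfl⟩, hxV, -⟩ :=
    S.isBasis_affineOpens.exists_subset_of_mem_open (Set.mem_univ (f x)) isOpen_univ
  obtain ⟨W, hxW, hWV, r, hr, hI⟩ := exists_local_generator 𝓘 hc x (f ⁻¹ᵁ V) hxV
  let i1 : Algebra Γ(S, V) Γ(X, W.1) := (f.appLE V W.1 hWV).hom.toAlgebra
  let i2 : Algebra Γ(X, W.1) (X.presheaf.stalk x) :=
    X.presheaf.algebra_section_stalk (U := W.1) ⟨x, hxW⟩
  let i3 : Algebra Γ(S, V) (S.presheaf.stalk (f x)) :=
    S.presheaf.algebra_section_stalk (U := V) ⟨f x, hxV⟩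
  let i4 : Algebra (S.presheaf.stalk (f x)) (X.presheaf.stalk x) := (f.stalkMap x).hom.toAlgebra
  let i5 : Algebra Γ(S, V) (X.presheaf.stalk x) :=
    ((algebraMap Γ(X, W.1) (X.presheaf.stalk x)).comp (algebraMap Γ(S, V) Γ(X, W.1))).toAlgebra
  have t1 : IsScalarTower Γ(S, V) Γ(X, W.1) (X.presheaf.stalk x) :=
    IsScalarTower.of_algebraMap_eq fun _ => rfl
  have t2 : IsScalarTower Γ(S, V) (S.presheaf.stalk (f x)) (X.presheaf.stalk x) := by
    refine IsScalarTower.of_algebraMap_eq fun a => ?_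
    show (X.presheaf.germ W.1 x hxW).hom ((f.appLE V W.1 hWV).hom a) =
      (f.stalkMap x).hom ((S.presheaf.germ V (f x) hxV).hom a)
    rw [Scheme.Hom.germ_stalkMap_apply]
    simp only [Scheme.Hom.appLE, CommRingCat.hom_comp, RingHom.comp_apply]
    exact TopCat.Presheaf.germ_res_apply _ _ _ _ _
  have hlocB := W.2.isLocalization_stalk ⟨x, hxW⟩
  have hlocA := hV.isLocalization_stalk ⟨f x, hxV⟩
  have hflatB : Module.Flat Γ(X, W.1) (X.presheaf.stalk x) :=
    IsLocalization.flat _ (W.2.primeIdealOf ⟨x, hxW⟩).asIdeal.primeCompl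
  have g := flat_mk_comp_appLE f 𝓘 W ⟨V, hV⟩ hWV
  have g' : Module.Flat Γ(S, V) (Γ(X, W.1) ⧸ 𝓘.ideal W) :=
    (ringHomFlat_mk_comp_iff (A := Γ(S, V)) (B := Γ(X, W.1)) (𝓘.ideal W)).mp g
  rw [hI] at g'
  have hnzd : algebraMap Γ(X, W.1) (X.presheaf.stalk x) r ∈
      nonZeroDivisors (X.presheaf.stalk x) :=
    nzd_of_flat (algebraMap Γ(X, W.1) (X.presheaf.stalk x)) hflatB r hr
  have hm : algebraMap Γ(X, W.1) (X.presheaf.stalk x) r ∈
      IsLocalRing.maximalIdeal (X.presheaf.stalk x) := by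
    rw [IsLocalRing.mem_maximalIdeal, mem_nonunits_iff]
    intro hu
    have h1 : x ∈ X.basicOpen r := (X.mem_basicOpen r x hxW).mpr hu
    have h2 : x ∈ X.zeroLocus (U := W.1) (𝓘.ideal W : Set Γ(X, W.1)) :=
      (Scheme.IdealSheafData.mem_support_iff_of_mem (U := W) hxW).mp hx
    rw [Scheme.mem_zeroLocus_iff] at h2
    exact h2 r (by rw [hI]; exact Ideal.mem_span_singleton_self r) h1
  exact flat_of_local_data (A₀ := Γ(S, V)) (B₀ := Γ(X, W.1))
    (hV.primeIdealOf ⟨f x, hxV⟩).asIdeal.primeCompl r hm hnzd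


/-- `S1701`. -/
theorem flat_stalkMap_of_relCartier {X S : Scheme.{u}} (f : X ⟶ S) (𝓘 : X.IdealSheafData)
    (hD : (BlowUp.IsEffCartierIdeal 𝓘 ∧ Flat (𝓘.subschemeι ≫ f))) (d : ↥𝓘.subscheme)
    [IsNoetherianRing (X.presheaf.stalk (𝓘.subschemeι d))] :
    (f.stalkMap (𝓘.subschemeι d)).hom.Flat := by
  obtain ⟨hc, hf⟩ := hD
  have hd : 𝓘.subschemeι d ∈ 𝓘.support := by
    have : 𝓘.subschemeι d ∈ Set.range 𝓘.subschemeι := ⟨d, rfl⟩
    rwa [𝓘.range_subschemeι] at this
  exact flat_stalkMap_of_mem_support f 𝓘 hc _ hd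

end Groth.Agent.Helper3.RelCartier2
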