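import Mathlib
import Groth.Prelude.Def_BlowUp2
import Groth.Agent.Lib.Helper3.RelCartier

set_option autoImplicit false
universe u
open CategoryTheory CategoryTheory.Limits AlgebraicGeometry TensorProduct

namespace Groth.Agent.Helper3.RelCartier3

section IdealComap
/-! The following four lemmas are copied from `Groth/Agent/Lib/Helper6/IdealComap.lean`
(by helper6), to keep this file independent. -/
open Scheme.IdealSheafData
variable {X Y : Scheme.{u}}

theorem ideal_comap_top_of_isAffine [IsAffine X] [IsAffine Y] (f : X ⟶ Y) (K : Y.IdealSheafData) :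
    (K.comap f).ideal ⟨⊤, isAffineOpen_top X⟩ =
      (K.ideal ⟨⊤, isAffineOpen_top Y⟩).map f.appTop.hom := by
  apply le_antisymm
  · have h1 : K.comap f ≤ ofIdealTop ((K.ideal ⟨⊤, isAffineOpen_top Y⟩).map f.appTop.hom) := by
      rw [← le_map_iff_comap_le]
      apply le_of_isAffine
      rw [ideal_map_of_isAffineHom]
      have : (ofIdealTop ((K.ideal ⟨⊤, isAffineOpen_top Y⟩).map f.appTop.hom)).ideal
          ⟨f ⁻¹ᵁ ⊤, (isAffineOpen_top Y).preimage f⟩ = (K.ideal ⟨⊤, isAffineOpen_top Y⟩).map f.appTop.hom := by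
        change (ofIdealTop ((K.ideal ⟨⊤, isAffineOpen_top Y⟩).map f.appTop.hom)).ideal
          ⟨⊤, isAffineOpen_top X⟩ = _
        simp
      rw [this]
      exact Ideal.le_comap_map
    simpa using h1 ⟨⊤, isAffineOpen_top X⟩
  · rw [Ideal.map_le_iff_le_comap]
    have h2 := le_map_comap K f ⟨⊤, isAffineOpen_top Y⟩
    rwa [ideal_map_of_isAffineHom] at h2

theorem ideal_image_top (K : X.IdealSheafData) (U : X.affineOpens) :
    (K.comap U.1.ι).ideal ⟨⊤, @isAffineOpen_top _ U.2⟩ =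
      K.ideal ⟨U.1.ι ''ᵁ ⊤, by rw [Scheme.Opens.ι_image_top]; exact U.2⟩ := by
  have : IsAffine U.1.toScheme := U.2
  rw [ideal_comap_of_isOpenImmersion]
  simp only [Scheme.Opens.ι_appIso]
  exact Ideal.comap_id _

theorem ideal_map_topIso (K : X.IdealSheafData) (U : X.affineOpens) :
    (K.ideal ⟨U.1.ι ''ᵁ ⊤, by rw [Scheme.Opens.ι_image_top]; exact U.2⟩).map U.1.topIso.hom.hom =
      K.ideal U := by
  exact K.map_ideal' (U := U) (V := ⟨U.1.ι ''ᵁ ⊤, by rw [Scheme.Opens.ι_image_top]; exact U.2⟩)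
    (eqToHom U.1.ι_image_top.symm).op

theorem ideal_comap (f : X ⟶ Y) (K : Y.IdealSheafData) (U : X.affineOpens) (V : Y.affineOpens)
    (e : U.1 ≤ f ⁻¹ᵁ V.1) :
    (K.comap f).ideal U = (K.ideal V).map (f.appLE V.1 U.1 e).hom := by
  have : IsAffine U.1.toScheme := U.2
  have : IsAffine V.1.toScheme := V.2
  have h1 : (K.comap f).comap U.1.ι = (K.comap V.1.ι).comap (f.resLE V.1 U.1 e) := by
    rw [← comap_comp, ← comap_comp, Scheme.Hom.resLE_comp_ι]
  have h2 := ideal_comap_top_of_isAffine (f.resLE V.1 U.1 e) (K.comap V.1.ι)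
  rw [← h1, ideal_image_top, ideal_image_top] at h2
  rw [← ideal_map_topIso (K.comap f) U, h2, ← ideal_map_topIso K V]
  have key : (f.resLE V.1 U.1 e).appTop ≫ U.1.topIso.hom = V.1.topIso.hom ≫ f.appLE V.1 U.1 e := by
    have h3 : (f.resLE V.1 U.1 e).appTop = V.1.topIso.hom ≫ f.appLE V.1 U.1 e ≫ U.1.topIso.inv :=
      Scheme.Hom.resLE_app_top f e
    rw [h3, Category.assoc, Category.assoc, Iso.inv_hom_id, Category.comp_id]
  refine (Ideal.map_map _ _).trans (Eq.trans ?_ (Ideal.map_map _ _).symm)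
  exact congrArg (fun φ : Γ(V.1.toScheme, ⊤) ⟶ Γ(X, U.1) => Ideal.map φ.hom _) key

end IdealComap

/-- If `r` is a nonzerodivisor of `B` with `B/(r)` flat over `A` then `r ⊗ 1` is a nonzerodivisor of
`B ⊗[A] A'`. -/
theorem tmul_one_mem_nonZeroDivisors {A B A' : Type u} [CommRing A] [CommRing B] [CommRing A']
    [Algebra A B] [Algebra A A'] (r : B) (hr : r ∈ nonZeroDivisors B)
    [Module.Flat A (B ⧸ Ideal.span {r})] : (r ⊗ₜ[A] (1 : A')) ∈ nonZeroDivisors (B ⊗[A] A') := by
  let q : B →ₗ[A] B ⧸ Ideal.span {r} := (Ideal.Quotient.mkₐ A (Ideal.span {r})).toLinearMap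
  let μ : B →ₗ[A] B := (LinearMap.mul B B r).restrictScalars A
  have hq : Function.Surjective q := Ideal.Quotient.mk_surjective
  have hμ : Function.Injective μ := by
    rw [injective_iff_map_eq_zero]
    intro b hb
    exact (mul_left_mem_nonZeroDivisors_eq_zero_iff hr).mp hb
  have hex : Function.Exact μ q := by
    intro b
    constructor
    · intro hb
      have : b ∈ Ideal.span {r} := Ideal.Quotient.eq_zero_iff_mem.mp hb
      obtain ⟨c, rfl⟩ := Ideal.mem_span_singleton'.mp this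
      exact ⟨c, mul_comm r c⟩
    · rintro ⟨c, rfl⟩
      show Ideal.Quotient.mk _ (r * c) = 0
      exact Ideal.Quotient.eq_zero_iff_mem.mpr
        (Ideal.mul_mem_right _ _ (Ideal.mem_span_singleton_self r))
  have hinj := LinearMap.lTensor_injective_of_exact_of_flat q hq μ hμ hex A'
  rw [mem_nonZeroDivisors_iff_left]
  intro x hx
  apply (TensorProduct.comm A B A').injective
  apply hinj
  have h4 : ∀ z, (μ.lTensor A') ((TensorProduct.comm A B A') z) =
      (TensorProduct.comm A B A') ((r ⊗ₜ[A] (1 : A')) * z) := by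
    intro z
    induction z using TensorProduct.induction_on with
    | zero => simp
    | tmul a b => simp [μ]
    | add a b ha hb => simp only [map_add, mul_add, ha, hb]
  rw [h4, hx, map_zero, map_zero]


theorem nzd_of_ringEquiv {R R' : Type u} [CommRing R] [CommRing R'] (e : R ≃+* R') (x : R)
    (hx : x ∈ nonZeroDivisors R) : e x ∈ nonZeroDivisors R' := by
  rw [mem_nonZeroDivisors_iff_right]
  intro y hy
  have : e.symm y * x = 0 := by
    apply e.injective
    rw [map_mul, e.apply_symm_apply, hy, map_zero]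
  have h2 := (mul_right_mem_nonZeroDivisors_eq_zero_iff hx).mp this
  have := congrArg e h2
  rwa [e.apply_symm_apply, map_zero] at this

open Groth.Agent.Helper3.RelCartier in
/-- `S1662`. -/
theorem baseChange_relCartier {X S S' : Scheme.{u}} (f : X ⟶ S) (D : X.IdealSheafData)
    (hD : BlowUp.IsEffCartierIdeal D) [Flat (D.subschemeι ≫ f)] (g : S' ⟶ S) :
    BlowUp.IsEffCartierIdeal (D.comap (pullback.fst f g)) := by
  intro z
  obtain ⟨_, ⟨V, hV, rfl⟩, hzV, -⟩ :=
    S.isBasis_affineOpens.exists_subset_of_mem_open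
      (Set.mem_univ (f (pullback.fst f g z))) isOpen_univ
  obtain ⟨U, hxU, hUV, r, hr, hI⟩ :=
    exists_local_generator D hD (pullback.fst f g z) (f ⁻¹ᵁ V) hzV
  have hqz : pullback.snd f g z ∈ g ⁻¹ᵁ V := by
    show g (pullback.snd f g z) ∈ V
    have : g (pullback.snd f g z) = f (pullback.fst f g z) := by
      rw [← Scheme.Hom.comp_apply, ← Scheme.Hom.comp_apply, pullback.condition]
    rw [this]; exact hzV
  obtain ⟨_, ⟨V', hV', rfl⟩, hzV', hV'V⟩ :=
    S'.isBasis_affineOpens.exists_subset_of_mem_open hqz (g ⁻¹ᵁ V).isOpen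
  let UY : (pullback f g).Opens := pullback.fst f g ⁻¹ᵁ U.1 ⊓ pullback.snd f g ⁻¹ᵁ V'
  have H := IsPullback.of_hasPullback f g
  have hiso := isIso_pushoutSection_of_isAffineOpen H (hUST := hV'V) (hUSX := hUV)
    (hUY := (rfl : UY = _)) hV hV' U.2
  have hpo := (isIso_pushoutSection_iff H hV'V hUV (rfl : UY = _)).mp hiso
  have hUYaff : IsAffineOpen UY := by
    have : IsAffine (V : Scheme.{u}) := hV
    have : IsAffine (V' : Scheme.{u}) := hV'
    have : IsAffine (U.1 : Scheme.{u}) := U.2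
    exact .of_isIso (Scheme.Hom.isPullback_resLE H hV'V hUV (rfl : UY = _)).isoPullback.hom
  have hle : UY ≤ pullback.fst f g ⁻¹ᵁ U.1 := inf_le_left
  refine ⟨⟨UY, hUYaff⟩, ⟨hxU, hzV'⟩, ((pullback.fst f g).appLE U.1 UY hle).hom r, ?_, ?_⟩
  · let := (f.appLE V U.1 hUV).hom.toAlgebra
    let := (g.appLE V V' hV'V).hom.toAlgebra
    have g1 := flat_mk_comp_appLE f D U ⟨V, hV⟩ hUV
    have g1' : Module.Flat Γ(S, V) (Γ(X, U.1) ⧸ D.ideal U) :=
      (ringHomFlat_mk_comp_iff (A := Γ(S, V)) (B := Γ(X, U.1)) (D.ideal U)).mp g1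
    rw [hI] at g1'
    have hnz := tmul_one_mem_nonZeroDivisors (A := Γ(S, V)) (A' := Γ(S', V')) r hr
    have hpo' := CommRingCat.isPushout_tensorProduct Γ(S, V) Γ(X, U.1) Γ(S', V')
    let e := hpo'.isoIsPushout _ _ hpo
    have he : CommRingCat.ofHom (Algebra.TensorProduct.includeLeftRingHom) ≫ e.hom =
        (pullback.fst f g).appLE U.1 UY hle := hpo'.inl_isoIsPushout_hom _ _ hpo
    have h1 := nzd_of_ringEquiv e.commRingCatIsoToRingEquiv _ hnz
    have h2 : e.commRingCatIsoToRingEquiv (r ⊗ₜ[Γ(S, V)] (1 : Γ(S', V'))) =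
        ((pullback.fst f g).appLE U.1 UY hle).hom r := by
      rw [← he]; rfl
    rw [← h2]
    exact h1
  · rw [ideal_comap (pullback.fst f g) D ⟨UY, hUYaff⟩ U hle, hI, Ideal.map_span,
      Set.image_singleton]

end Groth.Agent.Helper3.RelCartier3
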