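import Mathlib
import Groth.Agent.Lib.Helper8.SmD3
import Groth.Agent.Lib.Lead.Fib1

/-!
# Relative codimension of a smooth closed subscheme of a smooth scheme: ring-level core (helper3)

`A → B` standard smooth of relative dimension `n`, `B → C` surjective, `C_g` standard smooth of
relative dimension `m` over `A`.  For a prime `qC` of `C` (not containing `g`) and a minimal prime
`qC' ≤ qC`, with contractions `q, q'` to `B` and `p` to `A`:
`ht q' ≤ dim (B_q / p B_q)`.
-/

set_option autoImplicit false

universe u

namespace Groth.Agent.Helper3.RelCodimSm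

open Groth.Agent.Lead.Fib IsLocalRing Groth.Agent.Helper8

theorem arith (a a' : WithBot ℕ∞) (t m n : ℕ) (h1 : a + (t : WithBot ℕ∞) = (n : WithBot ℕ∞))
    (h2 : a' + (m : WithBot ℕ∞) = (n : WithBot ℕ∞)) (htm : t ≤ m) : a' ≤ a := by
  induction a using WithBot.recBotCoe with
  | bot => simp at h1
  | coe a =>
    induction a' using WithBot.recBotCoe with
    | bot => exact bot_le
    | coe a' =>
      induction a using ENat.recTopCoe with
      | top =>
        exfalso
        have : ((⊤ : ℕ∞) : WithBot ℕ∞) + ((t : ℕ∞) : WithBot ℕ∞) = ((n : ℕ∞) : WithBot ℕ∞) := h1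
        rw [← WithBot.coe_add, top_add] at this
        exact absurd (WithBot.coe_injective this) (ENat.top_ne_natCast n)
      | coe a =>
        induction a' using ENat.recTopCoe with
        | top =>
          exfalso
          have : ((⊤ : ℕ∞) : WithBot ℕ∞) + ((m : ℕ∞) : WithBot ℕ∞) = ((n : ℕ∞) : WithBot ℕ∞) := h2
          rw [← WithBot.coe_add, top_add] at this
          exact absurd (WithBot.coe_injective this) (ENat.top_ne_natCast n)
        | coe a' =>
          have e1 : a + t = n := by exact_mod_cast h1
          have e2 : a' + m = n := by exact_mod_cast h2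
          have : a' ≤ a := by omega
          exact_mod_cast this

section ring

variable {A B C : Type u} [CommRing A] [CommRing B] [CommRing C] [Algebra A B] [Algebra A C]
  [Algebra B C] [IsScalarTower A B C]

/-- the transcendence degree of `κ(p) → κ(qC)` is that of `A/p → B/q`, `q` the contraction of `qC`
along a surjection `B → C`. -/
theorem trdeg_resField (hsurj : Function.Surjective (algebraMap B C)) (p : Ideal A) [p.IsPrime]
    (qC : Ideal C) [qC.IsPrime] [hlo : qC.LiesOver p] (q : Ideal B) [q.IsPrime] [q.LiesOver p]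
    (hq : q = qC.comap (algebraMap B C)) :
    @Algebra.trdeg p.ResidueField qC.ResidueField _ _
      (Ideal.ResidueField.mapₐ p qC (Algebra.ofId A C) hlo.over).toRingHom.toAlgebra =
      Algebra.trdeg (A ⧸ p) (B ⧸ q) := by
  refine Groth.Agent.Helper14.TrdegBridge.trdeg_eq_of_fraction (A := A) (B := B) p q
    (algebraMap A p.ResidueField) (Ideal.ker_algebraMap_residueField p)
    ((algebraMap C qC.ResidueField).comp (algebraMap B C)) ?_
    (Ideal.ResidueField.mapₐ p qC (Algebra.ofId A C) hlo.over).toRingHom ?_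
    (Groth.Agent.Helper14.FibreGeneric.fraction_residueField A p) ?_
  · rw [← RingHom.comap_ker, Ideal.ker_algebraMap_residueField, hq]
  · ext r
    simp only [RingHom.comp_apply]
    change Ideal.ResidueField.mapₐ p qC (Algebra.ofId A C) hlo.over
      (algebraMap A p.ResidueField r) = _
    rw [AlgHom.commutes, IsScalarTower.algebraMap_apply A C qC.ResidueField r,
      IsScalarTower.algebraMap_apply A B C r]
  · intro z
    obtain ⟨r, s, hs, hz⟩ := Groth.Agent.Helper14.FibreGeneric.fraction_residueField C qC z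
    obtain ⟨r', rfl⟩ := hsurj r
    obtain ⟨s', rfl⟩ := hsurj s
    exact ⟨r', s', hs, hz⟩

/-- the two fibre-dimension formulas with a common transcendence degree. -/
theorem dim_FL_formula (n m : ℕ) [Algebra.IsStandardSmoothOfRelativeDimension n A B]
    (hsurj : Function.Surjective (algebraMap B C)) (g : C)
    [Algebra.IsStandardSmoothOfRelativeDimension m A (Localization.Away g)]
    (p : Ideal A) [p.IsPrime] (qC : Ideal C) [qC.IsPrime] [hlo : qC.LiesOver p] (hg : g ∉ qC)
    (q : Ideal B) [q.IsPrime] [q.LiesOver p] (hq : q = qC.comap (algebraMap B C)) :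
    ∃ t : ℕ, ringKrullDim (FL p q) + (t : WithBot ℕ∞) = (n : WithBot ℕ∞) ∧
      ringKrullDim (FL p qC) + (t : WithBot ℕ∞) = (m : WithBot ℕ∞) := by
  haveI : Algebra.FinitePresentation A B :=
    (Algebra.IsStandardSmoothOfRelativeDimension.isStandardSmooth n
      (R := A) (S := B)).finitePresentation
  haveI : Algebra.FiniteType A (B ⧸ q) := inferInstance
  haveI : Algebra.FiniteType (A ⧸ p) (B ⧸ q) :=
    Algebra.FiniteType.of_restrictScalars_finiteType A (A ⧸ p) (B ⧸ q)
  have hfin : Algebra.trdeg (A ⧸ p) (B ⧸ q) < Cardinal.aleph0 := trdeg_lt_aleph0_of_finiteType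
  obtain ⟨t, ht⟩ := Cardinal.lt_aleph0.mp hfin
  refine ⟨t, SmD.ringKrullDim_FL_add_trdeg A B n p q t ht, ?_⟩
  have key1 := trdeg_resField hsurj p qC q hq
  have h2' := SmD.trdeg_away qC g hg p t (key1.trans ht)
  haveI := SmD.away_prime qC g hg
  haveI := SmD.away_liesOver qC g hg p
  have h2 := SmD.ringKrullDim_FL_add_trdeg A (Localization.Away g) m p
    (qC.map (algebraMap C (Localization.Away g))) t h2'
  rw [ringKrullDim_eq_of_ringEquiv (SmD.flAwayEquiv qC g hg p)]
  exact h2

/-- **Key ring-level inequality.** -/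
theorem height_le_dim_FL [IsNoetherianRing A] [IsNoetherianRing B] [Module.Flat A C]
    (n m : ℕ) [Algebra.IsStandardSmoothOfRelativeDimension n A B]
    (hsurj : Function.Surjective (algebraMap B C)) (g : C)
    [Algebra.IsStandardSmoothOfRelativeDimension m A (Localization.Away g)]
    (qC : Ideal C) [qC.IsPrime] (hg : g ∉ qC) (qC' : Ideal C) (hmin : qC' ∈ minimalPrimes C)
    (hle : qC' ≤ qC)
    (p : Ideal A) [p.IsPrime] (hp : p = qC.comap (algebraMap A C))
    (q : Ideal B) [q.IsPrime] (hq : q = qC.comap (algebraMap B C))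
    (p' : Ideal A) [p'.IsPrime] (hp' : p' = qC'.comap (algebraMap A C))
    (q' : Ideal B) [q'.IsPrime] (hq' : q' = qC'.comap (algebraMap B C)) :
    ((q'.height : ℕ∞) : WithBot ℕ∞) ≤ ringKrullDim (FL p q) := by
  haveI hqC'prime : qC'.IsPrime := hmin.1.1
  haveI hlo : qC.LiesOver p := ⟨hp⟩
  haveI hloq : q.LiesOver p := ⟨by
    rw [hp, hq, Ideal.under_def, Ideal.comap_comap, ← IsScalarTower.algebraMap_eq]⟩
  haveI hlo' : qC'.LiesOver p' := ⟨hp'⟩
  haveI hloq' : q'.LiesOver p' := ⟨by
    rw [hp', hq', Ideal.under_def, Ideal.comap_comap, ← IsScalarTower.algebraMap_eq]⟩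
  have hg' : g ∉ qC' := fun h => hg (hle h)
  obtain ⟨t, h1, h2⟩ := dim_FL_formula n m hsurj g p qC hg q hq
  obtain ⟨t', h1', h2'⟩ := dim_FL_formula n m hsurj g p' qC' hg' q' hq'
  -- the fibre local ring of `C` at the minimal prime is zero-dimensional
  have hz : ringKrullDim (FL p' qC') = 0 := by
    apply le_antisymm
    · refine (ringKrullDim_quotient_le _).trans ?_
      rw [IsLocalization.AtPrime.ringKrullDim_eq_height qC' (Localization.AtPrime qC'),
        Ideal.height_eq_zero_iff.mpr hmin]
      rfl
    · exact ringKrullDim_nonneg_of_nontrivial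
  rw [hz, zero_add] at h2'
  have ht'm : t' = m := by exact_mod_cast h2'
  subst ht'm
  have htm : t ≤ t' := by
    have hnn : (0 : WithBot ℕ∞) ≤ ringKrullDim (FL p qC) := ringKrullDim_nonneg_of_nontrivial
    have : (t : WithBot ℕ∞) ≤ (t' : WithBot ℕ∞) :=
      calc (t : WithBot ℕ∞) = 0 + t := (zero_add _).symm
        _ ≤ ringKrullDim (FL p qC) + t := add_le_add_left hnn _
        _ = t' := h2
    exact_mod_cast this
  have hcomp : ringKrullDim (FL p' q') ≤ ringKrullDim (FL p q) := arith _ _ t t' n h1 h1' htm
  refine le_trans (le_of_eq ?_) hcomp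
  -- `p'` is a minimal prime of `A` (going down)
  have hp'min : p' ∈ minimalPrimes A := by
    refine ⟨⟨inferInstance, bot_le⟩, fun p'' hp'' hle'' => ?_⟩
    haveI : p''.IsPrime := hp''.1
    obtain ⟨P, hPle, hPprime, hPlo⟩ :=
      Ideal.exists_ideal_le_liesOver_of_le (p := p'') (q := p') qC' hle''
    have hPeq : P = qC' := le_antisymm hPle (hmin.2 ⟨hPprime, bot_le⟩ hPle)
    subst hPeq
    rw [hPlo.over, hlo'.over]
  haveI : Algebra.IsStandardSmooth A B :=
    Algebra.IsStandardSmoothOfRelativeDimension.isStandardSmooth n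
  haveI : Module.Flat A B := inferInstance
  have hdd := (depth_dim_eq (R := A) (S := B) p' q').2
  have e1 : (maximalIdeal (Localization.AtPrime q')).height = q'.height := by
    have := IsLocalization.AtPrime.ringKrullDim_eq_height q' (Localization.AtPrime q')
    rw [← IsLocalRing.maximalIdeal_height_eq_ringKrullDim] at this
    exact_mod_cast this
  have e2 : (maximalIdeal (Localization.AtPrime p')).height = 0 := by
    have := IsLocalization.AtPrime.ringKrullDim_eq_height p' (Localization.AtPrime p')
    rw [← IsLocalRing.maximalIdeal_height_eq_ringKrullDim, Ideal.height_eq_zero_iff.mpr hp'min]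
      at this
    exact_mod_cast this
  rw [e1, e2, zero_add] at hdd
  rw [hdd]
  exact IsLocalRing.maximalIdeal_height_eq_ringKrullDim

end ring

end Groth.Agent.Helper3.RelCodimSm
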