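import Mathlib
import Groth.Prelude.Def_CInt
import Groth.Agent.Lib.Helper3.RelCodimSm
import Groth.Agent.Lib.Helper14.FibreChart
import Groth.Agent.Lib.Helper8.SmD1
import Groth.Agent.S14103

/-!
# Relative codimension of a smooth closed subscheme of a smooth scheme (helper3)
-/

set_option autoImplicit false

universe u

namespace Groth.Agent.Helper3.RelCodimSmSch

open AlgebraicGeometry CategoryTheory Limits TopologicalSpace Groth.Agent.Lead.Fib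
  Groth.Agent.Helper14 Groth.Agent.Helper8

/-- for every point `y₀` of `Y` there is a point `y₀'` of `Y` such that
`dim O_{X, i y₀'} ≤ dim O_{X_{f(i y₀)}, i y₀}`. -/
theorem exists_point {X Y S : Scheme.{u}} [IsLocallyNoetherian X] [IsLocallyNoetherian S]
    (f : X ⟶ S) [Smooth f] (i : Y ⟶ X) [IsClosedImmersion i] [Smooth (i ≫ f)] (y0 : Y) :
    ∃ y0' : Y, ringKrullDim (X.presheaf.stalk (i.base y0')) ≤
      ringKrullDim (CInt.fiberStalk f (i.base y0)) := by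
  obtain ⟨V, hV, U, hU, hyU, e, hstd⟩ := Smooth.exists_isStandardSmooth f (i.base y0)
  have hU' : IsAffineOpen (i ⁻¹ᵁ U) := hU.preimage i
  have hy0U' : y0 ∈ i ⁻¹ᵁ U := hyU
  have e' : i ⁻¹ᵁ U ≤ (i ≫ f) ⁻¹ᵁ V := fun z hz => e hz
  letI algAB : Algebra Γ(S, V) Γ(X, U) := (f.appLE V U e).hom.toAlgebra
  letI algAC : Algebra Γ(S, V) Γ(Y, i ⁻¹ᵁ U) := ((i ≫ f).appLE V (i ⁻¹ᵁ U) e').hom.toAlgebra
  letI algBC : Algebra Γ(X, U) Γ(Y, i ⁻¹ᵁ U) := (i.appLE U (i ⁻¹ᵁ U) le_rfl).hom.toAlgebra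
  have hAB : algebraMap Γ(S, V) Γ(X, U) = (f.appLE V U e).hom := rfl
  have hAC : algebraMap Γ(S, V) Γ(Y, i ⁻¹ᵁ U) = ((i ≫ f).appLE V (i ⁻¹ᵁ U) e').hom := rfl
  have hBC : algebraMap Γ(X, U) Γ(Y, i ⁻¹ᵁ U) = (i.appLE U (i ⁻¹ᵁ U) le_rfl).hom := rfl
  haveI : IsScalarTower Γ(S, V) Γ(X, U) Γ(Y, i ⁻¹ᵁ U) := IsScalarTower.of_algebraMap_eq' (by
    rw [hAC, hBC, hAB, ← CommRingCat.hom_comp, Scheme.Hom.appLE_comp_appLE])
  haveI : IsNoetherianRing Γ(S, V) := IsLocallyNoetherian.component_noetherian ⟨V, hV⟩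
  haveI : IsNoetherianRing Γ(X, U) := IsLocallyNoetherian.component_noetherian ⟨U, hU⟩
  have hsurj : Function.Surjective (algebraMap Γ(X, U) Γ(Y, i ⁻¹ᵁ U)) := by
    rw [hBC, Scheme.Hom.appLE_eq_app]
    exact i.app_surjective U hU
  -- standard smoothness of `B`
  have hstd' : Algebra.IsStandardSmooth Γ(S, V) Γ(X, U) := hstd
  obtain ⟨ι, σ, hσ, hι, ⟨P⟩⟩ := hstd'.out
  haveI : Algebra.IsStandardSmoothOfRelativeDimension P.dimension Γ(S, V) Γ(X, U) :=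
    P.isStandardSmoothOfRelativeDimension rfl
  -- smoothness of `C`
  have hsmC : ((i ≫ f).appLE V (i ⁻¹ᵁ U) e').hom.Smooth := (i ≫ f).smooth_appLE hV hU' e'
  haveI : Module.Flat Γ(S, V) Γ(Y, i ⁻¹ᵁ U) := RingHom.Smooth.flat hsmC
  rw [RingHom.smooth_iff_locally_isStandardSmooth] at hsmC
  obtain ⟨s, hs1, hs2⟩ := hsmC
  -- the primes
  obtain ⟨PC, hPC⟩ : ∃ PC : PrimeSpectrum Γ(Y, i ⁻¹ᵁ U), PC = hU'.primeIdealOf ⟨y0, hy0U'⟩ :=
    ⟨_, rfl⟩
  obtain ⟨PB, hPB⟩ : ∃ PB : PrimeSpectrum Γ(X, U), PB = hU.primeIdealOf ⟨i.base y0, hyU⟩ :=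
    ⟨_, rfl⟩
  obtain ⟨PA, hPA⟩ : ∃ PA : PrimeSpectrum Γ(S, V),
    PA = hV.primeIdealOf ⟨f.base (i.base y0), e hyU⟩ := ⟨_, rfl⟩
  have hBCp : PB.asIdeal = PC.asIdeal.comap (algebraMap Γ(X, U) Γ(Y, i ⁻¹ᵁ U)) := by
    rw [hPB, hPC, hBC]
    exact (congrArg PrimeSpectrum.asIdeal
      (IsAffineOpen.comap_primeIdealOf_appLE U hU (i ⁻¹ᵁ U) hU' le_rfl hy0U')).symm
  have hABp : PA.asIdeal = PB.asIdeal.comap (algebraMap Γ(S, V) Γ(X, U)) := by
    rw [hPA, hPB, hAB]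
    exact (congrArg PrimeSpectrum.asIdeal
      (IsAffineOpen.comap_primeIdealOf_appLE V hV U hU e hyU)).symm
  have hACp : PA.asIdeal = PC.asIdeal.comap (algebraMap Γ(S, V) Γ(Y, i ⁻¹ᵁ U)) := by
    rw [hABp, hBCp, Ideal.comap_comap, ← IsScalarTower.algebraMap_eq]
  -- choose `g`
  obtain ⟨g, hgs, hgq⟩ : ∃ g ∈ s, g ∉ PC.asIdeal := by
    by_contra hcon
    push Not at hcon
    have h2 : Ideal.span s ≤ PC.asIdeal := Ideal.span_le.mpr hcon
    rw [hs1] at h2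
    exact PC.isPrime.ne_top (top_le_iff.mp h2)
  have hstdC : Algebra.IsStandardSmooth Γ(S, V) (Localization.Away g) := by
    rw [← RingHom.isStandardSmooth_algebraMap,
      IsScalarTower.algebraMap_eq Γ(S, V) Γ(Y, i ⁻¹ᵁ U) (Localization.Away g)]
    exact hs2 g hgs
  obtain ⟨ι', σ', hσ', hι', ⟨P'⟩⟩ := hstdC.out
  haveI : Algebra.IsStandardSmoothOfRelativeDimension P'.dimension Γ(S, V)
      (Localization.Away g) := P'.isStandardSmoothOfRelativeDimension rfl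
  -- the minimal prime
  obtain ⟨qC', hmin, hle⟩ := Ideal.exists_minimalPrimes_le
    (show (⊥ : Ideal Γ(Y, i ⁻¹ᵁ U)) ≤ PC.asIdeal from bot_le)
  haveI hqC'prime : qC'.IsPrime := hmin.1.1
  obtain ⟨y0', hy0'⟩ : ∃ y0' : Y, y0' = hU'.fromSpec ⟨qC', hqC'prime⟩ := ⟨_, rfl⟩
  have hy0'U' : y0' ∈ i ⁻¹ᵁ U := by
    have : y0' ∈ Set.range hU'.fromSpec := ⟨_, hy0'.symm⟩
    rw [hU'.range_fromSpec] at this
    exact this
  have hPC' : hU'.primeIdealOf ⟨y0', hy0'U'⟩ = ⟨qC', hqC'prime⟩ := by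
    apply hU'.fromSpec.isOpenEmbedding.injective
    rw [hU'.fromSpec_primeIdealOf ⟨y0', hy0'U'⟩]
    exact hy0'
  have hy'U : i.base y0' ∈ U := hy0'U'
  obtain ⟨PB', hPB'⟩ : ∃ PB' : PrimeSpectrum Γ(X, U), PB' = hU.primeIdealOf ⟨i.base y0', hy'U⟩ :=
    ⟨_, rfl⟩
  have hBCp' : PB'.asIdeal = qC'.comap (algebraMap Γ(X, U) Γ(Y, i ⁻¹ᵁ U)) := by
    rw [hPB', hBC]
    have := congrArg PrimeSpectrum.asIdeal
      (IsAffineOpen.comap_primeIdealOf_appLE U hU (i ⁻¹ᵁ U) hU' le_rfl hy0'U')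
    rw [hPC'] at this
    exact this.symm
  -- apply the ring-level inequality
  haveI := PA.isPrime
  haveI := PB.isPrime
  haveI := PC.isPrime
  haveI := PB'.isPrime
  have key := RelCodimSm.height_le_dim_FL (A := Γ(S, V)) (B := Γ(X, U)) (C := Γ(Y, i ⁻¹ᵁ U))
    P.dimension P'.dimension hsurj g PC.asIdeal hgq qC' hmin hle PA.asIdeal hACp PB.asIdeal hBCp
    (qC'.comap (algebraMap Γ(S, V) Γ(Y, i ⁻¹ᵁ U))) rfl PB'.asIdeal hBCp'
  refine ⟨y0', ?_⟩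
  -- left side: the stalk at `i y0'`
  have hL : ringKrullDim (X.presheaf.stalk (i.base y0')) =
      ((PB'.asIdeal.height : ℕ∞) : WithBot ℕ∞) := by
    letI := TopCat.Presheaf.algebra_section_stalk X.presheaf (U := U) ⟨i.base y0', hy'U⟩
    haveI := hU.isLocalization_stalk ⟨i.base y0', hy'U⟩
    rw [hPB']
    exact IsLocalization.AtPrime.ringKrullDim_eq_height
      (hU.primeIdealOf ⟨i.base y0', hy'U⟩).asIdeal (X.presheaf.stalk (i.base y0'))
  -- right side: the fibre stalk at `i y0`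
  have hR : ringKrullDim (CInt.fiberStalk f (i.base y0)) =
      ringKrullDim (FL PA.asIdeal PB.asIdeal) := by
    have h1 := FibreChart.ringKrullDim_fibre_stalk f hU hV e hAB (i.base y0) hyU
    have hc := FibreChart.comap_fibPrime f hU hV e hAB (i.base y0) hyU
    subst hPA hPB
    haveI := (FibreChart.fibPrime f hU hV e hAB (i.base y0) hyU).isPrime
    have h2 := SmD.ringKrullDim_FL_eq_height Γ(S, V) Γ(X, U)
      (hV.primeIdealOf ⟨f.base (i.base y0), e hyU⟩).asIdeal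
      (FibreChart.fibPrime f hU hV e hAB (i.base y0) hyU).asIdeal
      (hU.primeIdealOf ⟨i.base y0, hyU⟩).asIdeal (congrArg PrimeSpectrum.asIdeal hc)
    rw [h2]
    exact h1
  rw [hL, hR]
  exact key

theorem main {X Y S : Scheme.{u}} [IsLocallyNoetherian X]
    [IsLocallyNoetherian S] (f : X ⟶ S) [Smooth f] (i : Y ⟶ X) [IsClosedImmersion i]
    [Smooth (i ≫ f)] :
    (⨅ y : Set.range i.base, ringKrullDim ↑(CInt.fiberStalk f y.1)) =
      ⨅ y : Set.range i.base, ringKrullDim ↑(X.presheaf.stalk y.1) := by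
  apply le_antisymm
  · exact Groth.Agent.S14103.result f (Set.range i.base) i.isClosedEmbedding.isClosed_range
  · refine le_iInf fun y => ?_
    obtain ⟨y, y0, rfl⟩ := y
    obtain ⟨y0', h⟩ := exists_point f i y0
    exact (iInf_le _ (⟨i.base y0', y0', rfl⟩ : Set.range i.base)).trans h

end Groth.Agent.Helper3.RelCodimSmSch
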