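import Mathlib
import Groth.Agent.Lib.Helper3.RigClosed

/-!
# Rig-closed primes, étale reduction (helper3)
-/

set_option autoImplicit false

universe u

namespace Groth.Agent.Helper3.RigClosed

open TensorProduct

section General

variable {A : Type u} [CommRing A] [IsNoetherianRing A] (K : Ideal A) (q : Ideal A) [q.IsPrime]
  (hK : ¬ K ≤ q) (hmax : ∀ P : Ideal A, P.IsPrime → q ≤ P → ¬ K ≤ P → P = q)

include hK hmax in
/-- general form of `isArtinianRing_quot` -/
lemma isArtinianRing_quot' : IsArtinianRing (A ⧸ (q ⊔ K)) := by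
  set J := q ⊔ K with hJ
  rw [isArtinianRing_iff_isNoetherianRing_krullDimLE_zero]
  refine ⟨inferInstance, Ring.krullDimLE_zero_iff.mpr ?_⟩
  intro P' hP'
  set P := P'.comap (Ideal.Quotient.mk J) with hPdef
  haveI : P.IsPrime := Ideal.comap_isPrime _ _
  have hJP : J ≤ P := by
    intro x hx
    rw [hPdef, Ideal.mem_comap, Ideal.Quotient.eq_zero_iff_mem.mpr hx]
    exact zero_mem _
  have hqP : q < P := by
    refine lt_of_le_of_ne (le_sup_left.trans hJP) ?_
    intro h
    exact hK (h ▸ le_sup_right.trans hJP)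
  have hPmax : P.IsMaximal := isMaximal_of_lt K q hK hmax P hqP
  have : P' = P.map (Ideal.Quotient.mk J) := by
    rw [hPdef, Ideal.map_comap_of_surjective _ Ideal.Quotient.mk_surjective]
  rw [this]
  exact (Ideal.map_eq_top_or_isMaximal_of_surjective _ Ideal.Quotient.mk_surjective hPmax).resolve_left
    (by rw [← this]; exact hP'.ne_top)

end General

section FiniteSup

variable (A : Type u) [CommRing A] (I : Ideal A) [IsAdicComplete I A]
  (B : Type u) [CommRing B] [Algebra A B] [IsNoetherianRing B]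
  [IsAdicComplete (I.map (algebraMap A B)) B]

/-- if `B ⧸ (𝔟 ⊔ IB)` is finite over `A` then so is `B ⧸ 𝔟`. -/
theorem finite_quot_of_finite_quot_sup (𝔟 : Ideal B)
    (hJfin : Module.Finite A (B ⧸ (𝔟 ⊔ I.map (algebraMap A B)))) :
    Module.Finite A (B ⧸ 𝔟) := by
  set K := I.map (algebraMap A B) with hKdef
  set J := 𝔟 ⊔ K with hJ
  have hjac : K ≤ Ideal.jacobson ⊥ := IsAdicComplete.le_jacobson_bot K
  haveI : IsHausdorff K (B ⧸ 𝔟) := IsHausdorff.of_le_jacobson K (B ⧸ 𝔟) hjac
  haveI : IsHausdorff I (B ⧸ 𝔟) := IsHausdorff.map_algebraMap_iff.mp ‹IsHausdorff K (B ⧸ 𝔟)›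
  apply finite_of_finite_quotient I
  let φ : B →ₗ[A] (B ⧸ 𝔟) ⧸ (I • ⊤ : Submodule A (B ⧸ 𝔟)) :=
    (Submodule.mkQ (I • ⊤ : Submodule A (B ⧸ 𝔟))) ∘ₗ (Ideal.Quotient.mkₐ A 𝔟).toLinearMap
  have hφsurj : Function.Surjective φ :=
    (Submodule.mkQ_surjective _).comp Ideal.Quotient.mk_surjective
  have hker : J.restrictScalars A ≤ LinearMap.ker φ := by
    intro x hx
    rw [Submodule.restrictScalars_mem, hJ] at hx
    obtain ⟨y, hy, z, hz, rfl⟩ := Submodule.mem_sup.mp hx
    rw [LinearMap.mem_ker, map_add]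
    have hy0 : φ y = 0 := by
      change Submodule.mkQ _ (Ideal.Quotient.mk 𝔟 y) = 0
      rw [Ideal.Quotient.eq_zero_iff_mem.mpr hy, map_zero]
    have hz0 : φ z = 0 := by
      change Submodule.mkQ _ (Ideal.Quotient.mk 𝔟 z) = 0
      rw [Submodule.mkQ_apply, Submodule.Quotient.mk_eq_zero]
      have h1 : (Ideal.Quotient.mk 𝔟 z) ∈ (K • ⊤ : Submodule B (B ⧸ 𝔟)) := by
        have : Ideal.Quotient.mk 𝔟 z = z • (1 : B ⧸ 𝔟) := by
          rw [Algebra.smul_def, mul_one]; rfl
        rw [this]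
        exact Submodule.smul_mem_smul hz Submodule.mem_top
      have h2 := Submodule.restrictScalars_map_smul_eq (S := A) (R := B) I (⊤ : Submodule B (B ⧸ 𝔟))
      have h3 : (Ideal.Quotient.mk 𝔟 z) ∈ ((K • ⊤ : Submodule B (B ⧸ 𝔟))).restrictScalars A := h1
      rw [hKdef, h2] at h3
      simpa using h3
    rw [hy0, hz0, add_zero]
  let ψ : (B ⧸ J.restrictScalars A) →ₗ[A] (B ⧸ 𝔟) ⧸ (I • ⊤ : Submodule A (B ⧸ 𝔟)) :=
    Submodule.liftQ (J.restrictScalars A) φ hker
  have hψsurj : Function.Surjective ψ := by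
    intro y
    obtain ⟨x, rfl⟩ := hφsurj y
    exact ⟨Submodule.Quotient.mk x, rfl⟩
  let ψ' : (B ⧸ J) →ₗ[A] (B ⧸ 𝔟) ⧸ (I • ⊤ : Submodule A (B ⧸ 𝔟)) :=
    ψ ∘ₗ (Submodule.Quotient.restrictScalarsEquiv A J).symm.toLinearMap
  have hψ'surj : Function.Surjective ψ' :=
    hψsurj.comp (Submodule.Quotient.restrictScalarsEquiv A J).symm.surjective
  exact Module.Finite.of_surjective ψ' hψ'surj

end FiniteSup

section Etale

variable (A : Type u) [CommRing A] [IsNoetherianRing A] (I : Ideal A) [IsAdicComplete I A]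
  (B : Type u) [CommRing B] [Algebra A B] [IsNoetherianRing B]
  [IsAdicComplete (I.map (algebraMap A B)) B]
  (hft : Algebra.FiniteType A (B ⧸ (I.map (algebraMap A B))))
  [Algebra.Etale (A ⧸ I) (B ⧸ (I.map (algebraMap A B)))]
  (p : Ideal A) [p.IsPrime] (hI : ¬ I ≤ p)
  (hmax : ∀ P : Ideal A, P.IsPrime → p ≤ P → ¬ I ≤ P → P = p)

omit [IsNoetherianRing A] [IsAdicComplete I A] [IsNoetherianRing B]
  [IsAdicComplete (I.map (algebraMap A B)) B] in
lemma formallyUnramified_quot : Algebra.FormallyUnramified A (B ⧸ (I.map (algebraMap A B))) :=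
  Algebra.FormallyUnramified.comp A (A ⧸ I) (B ⧸ (I.map (algebraMap A B)))

include hft hI hmax in
omit [IsAdicComplete I A] [IsNoetherianRing B] [IsAdicComplete (I.map (algebraMap A B)) B] in
/-- `B ⧸ (p + I)B` is finite over `A`. -/
theorem finite_quot_map_sup : Module.Finite A (B ⧸ (p ⊔ I).map (algebraMap A B)) := by
  set K := I.map (algebraMap A B) with hKdef
  set J := (p ⊔ I).map (algebraMap A B) with hJ
  have hKJ : K ≤ J := Ideal.map_mono le_sup_right
  haveI : Algebra.FormallyUnramified A (B ⧸ K) := formallyUnramified_quot A I B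
  haveI : Algebra.FormallyUnramified A (B ⧸ J) :=
    Algebra.FormallyUnramified.of_surjective (Ideal.Quotient.factorₐ A hKJ)
      (Ideal.Quotient.factor_surjective hKJ)
  haveI : Algebra.FiniteType A (B ⧸ J) :=
    Algebra.FiniteType.of_surjective (Ideal.Quotient.factorₐ A hKJ)
      (Ideal.Quotient.factor_surjective hKJ)
  haveI : Algebra.QuasiFinite A (B ⧸ J) := inferInstance
  haveI : IsArtinianRing (A ⧸ (p ⊔ I)) := isArtinianRing_quot' I p hI hmax
  haveI : Algebra.QuasiFinite (A ⧸ (p ⊔ I)) (B ⧸ J) :=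
    Algebra.QuasiFinite.of_restrictScalars (R := A) (S := A ⧸ (p ⊔ I)) (T := B ⧸ J)
  haveI : Module.Finite (A ⧸ (p ⊔ I)) (B ⧸ J) := Module.Finite.of_quasiFinite
  exact Module.Finite.trans (A ⧸ (p ⊔ I)) (B ⧸ J)

include hft hI hmax in
/-- `B ⧸ pB` is finite over `A`. -/
theorem finite_quot_map : Module.Finite A (B ⧸ p.map (algebraMap A B)) := by
  apply finite_quot_of_finite_quot_sup A I B
  rw [← Ideal.map_sup]
  exact finite_quot_map_sup A I B hft p hI hmax

omit [IsNoetherianRing A] [IsAdicComplete I A] [IsNoetherianRing B]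
  [Algebra.Etale (A ⧸ I) (B ⧸ (I.map (algebraMap A B)))] in
lemma map_le_jacobson_quot (𝔟 : Ideal B) :
    I.map (algebraMap A (B ⧸ 𝔟)) ≤ Ideal.jacobson ⊥ := by
  have hjac : I.map (algebraMap A B) ≤ Ideal.jacobson ⊥ :=
    IsAdicComplete.le_jacobson_bot (I.map (algebraMap A B))
  have h1 : I.map (algebraMap A (B ⧸ 𝔟)) = (I.map (algebraMap A B)).map (Ideal.Quotient.mk 𝔟) := by
    rw [Ideal.map_map]; rfl
  rw [h1, Ideal.map_le_iff_le_comap]
  intro x hx
  rw [Ideal.mem_comap, Ideal.mem_jacobson_bot]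
  intro y
  obtain ⟨b, rfl⟩ := Ideal.Quotient.mk_surjective y
  have := (Ideal.mem_jacobson_bot.mp (hjac hx)) b
  rw [← map_mul, ← map_one (Ideal.Quotient.mk 𝔟), ← map_add]
  exact this.map _

include hft hI hmax in
/-- `B ⧸ pB` is formally unramified over `A`. -/
theorem formallyUnramified_quot_map :
    Algebra.FormallyUnramified A (B ⧸ p.map (algebraMap A B)) := by
  set pB := p.map (algebraMap A B) with hpB
  haveI hfin : Module.Finite A (B ⧸ pB) := finite_quot_map A I B hft p hI hmax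
  set J' : Ideal (B ⧸ pB) := I.map (algebraMap A (B ⧸ pB)) with hJ'
  have hle : I.map (algebraMap A B) ≤ J'.comap (Ideal.Quotient.mkₐ A pB) := by
    rw [Ideal.map_le_iff_le_comap]
    intro a ha
    rw [Ideal.mem_comap, Ideal.mem_comap]
    exact Ideal.mem_map_of_mem _ ha
  haveI : Algebra.FormallyUnramified A (B ⧸ (I.map (algebraMap A B))) :=
    formallyUnramified_quot A I B
  haveI : Algebra.FormallyUnramified A ((B ⧸ pB) ⧸ J') :=
    Algebra.FormallyUnramified.of_surjective (Ideal.quotientMapₐ J' (Ideal.Quotient.mkₐ A pB) hle)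
      (Ideal.quotientMap_surjective (H := hle) Ideal.Quotient.mk_surjective)
  -- the base change of Ω to the quotient vanishes
  have hsub : Subsingleton (((B ⧸ pB) ⧸ J') ⊗[B ⧸ pB] Ω[(B ⧸ pB)⁄A]) := by
    refine subsingleton_of_forall_eq 0 fun x ↦ ?_
    obtain ⟨x, rfl⟩ := (KaehlerDifferential.exact_kerCotangentToTensor_mapBaseChange A (B ⧸ pB)
      ((B ⧸ pB) ⧸ J') Ideal.Quotient.mk_surjective x).mp (Subsingleton.elim _ _)
    obtain ⟨⟨x, hx⟩, rfl⟩ := Ideal.toCotangent_surjective _ x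
    simp only [KaehlerDifferential.kerCotangentToTensor_toCotangent]
    replace hx : x ∈ Ideal.map (algebraMap A (B ⧸ pB)) I := by
      simpa [hJ'] using hx
    induction hx using Submodule.span_induction with
    | zero => simp
    | mem x h => obtain ⟨x, hx, rfl⟩ := h; simp
    | add x y hx hy _ _ => simp [*, TensorProduct.tmul_add]
    | smul a x hx _ =>
      have : Ideal.Quotient.mk J' x = 0 := Ideal.Quotient.eq_zero_iff_mem.mpr hx
      simp [*, TensorProduct.tmul_add, TensorProduct.smul_tmul', ← Algebra.algebraMap_eq_smul_one]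
  constructor
  -- Nakayama
  have e := TensorProduct.quotTensorEquivQuotSMul (Ω[(B ⧸ pB)⁄A]) J'
  have hsub2 : Subsingleton (Ω[(B ⧸ pB)⁄A] ⧸ (J' • ⊤ : Submodule (B ⧸ pB) Ω[(B ⧸ pB)⁄A])) :=
    e.symm.toEquiv.subsingleton
  have htop : (J' • ⊤ : Submodule (B ⧸ pB) Ω[(B ⧸ pB)⁄A]) = ⊤ :=
    Submodule.Quotient.subsingleton_iff.mp hsub2
  haveI : Algebra.FiniteType A (B ⧸ pB) := inferInstance
  haveI : Module.Finite (B ⧸ pB) Ω[(B ⧸ pB)⁄A] := inferInstance
  have hbot : (⊤ : Submodule (B ⧸ pB) Ω[(B ⧸ pB)⁄A]) = ⊥ :=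
    Submodule.eq_bot_of_le_smul_of_le_jacobson_bot J' ⊤ Module.Finite.fg_top (le_of_eq htop.symm)
      (map_le_jacobson_quot A I B pB)
  exact (Submodule.subsingleton_iff (B ⧸ pB)).mp (subsingleton_of_bot_eq_top hbot.symm)

end Etale

section Main8838

variable (A : Type u) [CommRing A] [IsNoetherianRing A] (I : Ideal A) [IsAdicComplete I A]
  (B : Type u) [CommRing B] [Algebra A B] [IsNoetherianRing B]
  [IsAdicComplete (I.map (algebraMap A B)) B]
  (hft : Algebra.FiniteType A (B ⧸ (I.map (algebraMap A B))))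
  [Algebra.Etale (A ⧸ I) (B ⧸ (I.map (algebraMap A B)))]

include hft in
theorem main8838 (q : PrimeSpectrum B)
    (hp : (¬ I ≤ (PrimeSpectrum.comap (algebraMap A B) q).asIdeal ∧
      ∀ y : PrimeSpectrum A, (PrimeSpectrum.comap (algebraMap A B) q) ≤ y → ¬ I ≤ y.asIdeal →
        y = (PrimeSpectrum.comap (algebraMap A B) q))) :
    ((PrimeSpectrum.comap (algebraMap A B) q).asIdeal.map (algebraMap A B)).map
      (algebraMap B (Localization.AtPrime q.asIdeal)) =
      IsLocalRing.maximalIdeal (Localization.AtPrime q.asIdeal) := by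
  set p : Ideal A := q.asIdeal.comap (algebraMap A B) with hpdef
  change (p.map (algebraMap A B)).map (algebraMap B (Localization.AtPrime q.asIdeal)) = _
  haveI : p.IsPrime := Ideal.comap_isPrime _ _
  have hI : ¬ I ≤ p := hp.1
  have hmax : ∀ P : Ideal A, P.IsPrime → p ≤ P → ¬ I ≤ P → P = p := by
    intro P hP hle hIP
    exact congrArg PrimeSpectrum.asIdeal (hp.2 ⟨P, hP⟩ hle hIP)
  set pB := p.map (algebraMap A B) with hpB
  have hpBq : pB ≤ q.asIdeal := Ideal.map_comap_le
  haveI hfin : Module.Finite A (B ⧸ pB) := finite_quot_map A I B hft p hI hmax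
  haveI hunr : Algebra.FormallyUnramified A (B ⧸ pB) :=
    formallyUnramified_quot_map A I B hft p hI hmax
  set q' : Ideal (B ⧸ pB) := q.asIdeal.map (Ideal.Quotient.mk pB) with hq'
  have hker : RingHom.ker (Ideal.Quotient.mk pB) = pB := Ideal.mk_ker
  haveI hq'prime : q'.IsPrime :=
    Ideal.map_isPrime_of_surjective Ideal.Quotient.mk_surjective (hker.le.trans hpBq)
  have hcomap : q'.comap (Ideal.Quotient.mk pB) = q.asIdeal := by
    rw [hq', Ideal.comap_map_of_surjective _ Ideal.Quotient.mk_surjective,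
      ← RingHom.ker_eq_comap_bot, hker, sup_eq_left.mpr hpBq]
  haveI : Algebra.FormallyUnramified (B ⧸ pB) (Localization.AtPrime q') :=
    Algebra.FormallyUnramified.of_isLocalization q'.primeCompl
  haveI hunrAt : Algebra.IsUnramifiedAt A q' :=
    Algebra.FormallyUnramified.comp A (B ⧸ pB) (Localization.AtPrime q')
  letI := Localization.AtPrime.algebraOfLiesOver (q'.under A) q'
  have h1 := ((Algebra.isUnramifiedAt_iff_map_eq A (q'.under A) q').mp hunrAt).2
  have h2 : (q'.under A).map (algebraMap A (Localization.AtPrime q')) = ⊥ := by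
    rw [Ideal.map_eq_bot_iff_le_ker]
    intro a ha
    rw [Ideal.under_def, Ideal.mem_comap] at ha
    have ha' : algebraMap A B a ∈ q.asIdeal := by
      rw [← hcomap, Ideal.mem_comap]
      exact ha
    have ha'' : a ∈ p := ha'
    rw [RingHom.mem_ker, IsScalarTower.algebraMap_apply A (B ⧸ pB) (Localization.AtPrime q')]
    have : algebraMap A (B ⧸ pB) a = 0 := by
      change Ideal.Quotient.mk pB (algebraMap A B a) = 0
      exact Ideal.Quotient.eq_zero_iff_mem.mpr (Ideal.mem_map_of_mem _ ha'')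
    rw [this, map_zero]
  have hmaxbot : IsLocalRing.maximalIdeal (Localization.AtPrime q') = ⊥ := by rw [← h1, h2]
  apply le_antisymm
  · rw [← Localization.AtPrime.map_eq_maximalIdeal]
    exact Ideal.map_mono hpBq
  · rw [← Localization.AtPrime.map_eq_maximalIdeal, Ideal.map_le_iff_le_comap]
    intro x hx
    rw [Ideal.mem_comap,
      IsLocalization.algebraMap_mem_map_algebraMap_iff q.asIdeal.primeCompl]
    have hx' : algebraMap (B ⧸ pB) (Localization.AtPrime q') (Ideal.Quotient.mk pB x) = 0 := by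
      have : algebraMap (B ⧸ pB) (Localization.AtPrime q') (Ideal.Quotient.mk pB x) ∈
          IsLocalRing.maximalIdeal (Localization.AtPrime q') := by
        rw [IsLocalization.AtPrime.to_map_mem_maximal_iff (Localization.AtPrime q') q']
        exact Ideal.mem_map_of_mem _ hx
      rw [hmaxbot] at this
      exact this
    rw [IsLocalization.map_eq_zero_iff q'.primeCompl] at hx'
    obtain ⟨⟨m, hm⟩, hmx⟩ := hx'
    obtain ⟨s, rfl⟩ := Ideal.Quotient.mk_surjective m
    refine ⟨s, ?_, ?_⟩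
    · intro hs
      exact hm (Ideal.mem_map_of_mem _ hs)
    · rw [← Ideal.Quotient.eq_zero_iff_mem, map_mul]
      exact hmx

end Main8838

end Groth.Agent.Helper3.RigClosed
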