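import Mathlib
import Groth.Agent.Lib.Helper17.AR5
import Groth.Agent.Lib.Helper1.LocalCriterion
import Groth.Agent.Lib.Helper3.RigClosed
import Groth.Agent.Lib.Helper3.ComplLocPrime

set_option autoImplicit false

universe u

namespace Groth.Agent.Helper3.RigFlat

open TensorProduct

/-- Abstract flatness transfer: if the maximal ideal of the Noetherian local ring `R` is generated
by the image of an ideal of `A`, and `M` is a Noetherian local `R`-algebra (local hom) flat over
`A`, then `M` is flat over `R`. -/
theorem flat_of_map_eq_maximalIdeal {A R M : Type u} [CommRing A] [CommRing R] [CommRing M]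
    [IsNoetherianRing R] [IsLocalRing R] [IsNoetherianRing M] [IsLocalRing M]
    (φ : A →+* R) (ρ : R →+* M) [IsLocalHom ρ] (p : Ideal A)
    (hp : p.map φ = IsLocalRing.maximalIdeal R) (hflat : (ρ.comp φ).Flat) : ρ.Flat := by
  algebraize [φ, ρ, ρ.comp φ]
  rw [RingHom.Flat]
  set 𝔪 := IsLocalRing.maximalIdeal R with h𝔪
  have H1 : Function.Injective (𝔪.subtype.rTensor M) := by
    have := Groth.Agent.Helper1.rTensor_map_subtype_injective_of_flat (R := A) (S := R) (M := M) p
    have hp' : p.map (algebraMap A R) = 𝔪 := hp
    rw [hp'] at this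
    exact this
  letI : Field (R ⧸ 𝔪) := Ideal.Quotient.field 𝔪
  haveI : Module.Flat (R ⧸ 𝔪) ((R ⧸ 𝔪) ⊗[R] M) := inferInstance
  apply Groth.Agent.Helper1.flat_of_flat_quotient_pow (S := M) 𝔪 ?_ ?_
  · rw [IsLocalRing.jacobson_eq_maximalIdeal ⊥ bot_ne_top]
    exact ((IsLocalRing.local_hom_TFAE (algebraMap R M)).out 0 2).mp ‹_›
  · intro n _
    exact Groth.Agent.Helper1.flat_quotient_pow 𝔪 H1 n

/-- units descend along integral extensions of domains -/
lemma isUnit_mk_comap_of_finite {R S : Type*} [CommRing R] [CommRing S] [Algebra R S]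
    (Q : Ideal S) [Q.IsPrime] [Module.Finite R (S ⧸ Q)] (x : R)
    (hx : IsUnit (Ideal.Quotient.mk Q (algebraMap R S x))) :
    IsUnit (Ideal.Quotient.mk (Q.comap (algebraMap R S)) x) := by
  by_contra h
  obtain ⟨M', hM', hxM'⟩ := exists_max_ideal_of_mem_nonunits h
  set P := M'.comap (Ideal.Quotient.mk (Q.comap (algebraMap R S))) with hP
  haveI : P.IsPrime := Ideal.comap_isPrime _ _
  haveI : Algebra.IsIntegral R (S ⧸ Q) := Algebra.IsIntegral.of_finite R (S ⧸ Q)
  have hker : RingHom.ker (algebraMap R (S ⧸ Q)) = Q.comap (algebraMap R S) := by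
    ext y
    rw [RingHom.mem_ker, Ideal.mem_comap]
    exact Ideal.Quotient.eq_zero_iff_mem
  have hle : Q.comap (algebraMap R S) ≤ P := by
    intro y hy
    rw [hP, Ideal.mem_comap, Ideal.Quotient.eq_zero_iff_mem.mpr hy]
    exact zero_mem _
  obtain ⟨Q', hQ'prime, hQ'⟩ := Ideal.exists_ideal_over_prime_of_isIntegral_of_isDomain
    (S := S ⧸ Q) P (hker.le.trans hle)
  have hxP : x ∈ P := hxM'
  have hxQ' : algebraMap R (S ⧸ Q) x ∈ Q' := by
    rw [← hQ'] at hxP
    exact hxP
  exact hQ'prime.ne_top (Ideal.eq_top_of_isUnit_mem _ hxQ' hx)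

open Groth.Agent.Helper17.AR

section Infra

variable (B : Type u) [CommRing B] [IsNoetherianRing B] (K : Ideal B) (g : B)

instance noeth_away : IsNoetherianRing (Localization.Away g) :=
  IsLocalization.isNoetherianRing (Submonoid.powers g) _ inferInstance

instance noeth_compl : IsNoetherianRing
    (AdicCompletion (K.map (algebraMap B (Localization.Away g))) (Localization.Away g)) :=
  isNoetherianRing_adicCompletion _

omit [IsNoetherianRing B] in
lemma map_eq : K.map (algebraMap B
      (AdicCompletion (K.map (algebraMap B (Localization.Away g))) (Localization.Away g))) =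
    (K.map (algebraMap B (Localization.Away g))).map (algebraMap (Localization.Away g)
      (AdicCompletion (K.map (algebraMap B (Localization.Away g))) (Localization.Away g))) := by
  rw [Ideal.map_map]
  rfl

lemma complete_compl : IsAdicComplete (K.map (algebraMap B
      (AdicCompletion (K.map (algebraMap B (Localization.Away g))) (Localization.Away g))))
    (AdicCompletion (K.map (algebraMap B (Localization.Away g))) (Localization.Away g)) := by
  rw [map_eq]
  have hfg : (K.map (algebraMap B (Localization.Away g))).FG := IsNoetherian.noetherian _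
  exact AdicCompletion.isAdicComplete_self _ hfg

lemma flat_compl : Module.Flat B
    (AdicCompletion (K.map (algebraMap B (Localization.Away g))) (Localization.Away g)) := by
  haveI : Module.Flat B (Localization.Away g) := IsLocalization.flat _ (Submonoid.powers g)
  exact Module.Flat.trans B (Localization.Away g) _

omit [IsNoetherianRing B] in
lemma isUnit_compl : IsUnit (algebraMap B
    (AdicCompletion (K.map (algebraMap B (Localization.Away g))) (Localization.Away g)) g) := by
  have := (IsLocalization.Away.algebraMap_isUnit (S := Localization.Away g) g).map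
    (algebraMap (Localization.Away g)
      (AdicCompletion (K.map (algebraMap B (Localization.Away g))) (Localization.Away g)))
  exact this

lemma ft_compl : Algebra.FiniteType B
    ((AdicCompletion (K.map (algebraMap B (Localization.Away g))) (Localization.Away g)) ⧸
      K.map (algebraMap B
        (AdicCompletion (K.map (algebraMap B (Localization.Away g))) (Localization.Away g)))) := by
  haveI : Algebra.FiniteType B (Localization.Away g) :=
    IsLocalization.finiteType_of_monoid_fg (Submonoid.powers g) _
  let φ : Localization.Away g →ₐ[B]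
      ((AdicCompletion (K.map (algebraMap B (Localization.Away g))) (Localization.Away g)) ⧸
      K.map (algebraMap B
        (AdicCompletion (K.map (algebraMap B (Localization.Away g))) (Localization.Away g)))) :=
    (Ideal.Quotient.mkₐ B _).comp (IsScalarTower.toAlgHom B (Localization.Away g) _)
  refine Algebra.FiniteType.of_surjective φ ?_
  intro y
  obtain ⟨x, rfl⟩ := Ideal.Quotient.mk_surjective y
  have hfg : (K.map (algebraMap B (Localization.Away g))).FG := IsNoetherian.noetherian _
  obtain ⟨b, hb⟩ := exists_of_sub_mem _ hfg x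
  refine ⟨b, ?_⟩
  symm
  change Ideal.Quotient.mk _ x = Ideal.Quotient.mk _ (AdicCompletion.of _ _ b)
  rw [Ideal.Quotient.eq, map_eq]
  exact hb

end Infra

section Core

open Groth.Agent.Helper3.RigClosed

variable (A : Type u) [CommRing A] [IsNoetherianRing A] (I : Ideal A) [IsAdicComplete I A]
  (B : Type u) [CommRing B] [Algebra A B] [IsNoetherianRing B] (K : Ideal B) [IsAdicComplete K B]
  (f : A) (g : B)

local notation "Af" => Localization.Away f
local notation "Bg" => Localization.Away g
local notation "A'" => AdicCompletion (Ideal.map (algebraMap A (Localization.Away f)) I)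
  (Localization.Away f)
local notation "B'" => AdicCompletion (Ideal.map (algebraMap B (Localization.Away g)) K)
  (Localization.Away g)

theorem core (hJB : IsJacobsonRing (B ⧸ K))
    (h1 : ∀ q : PrimeSpectrum B, (¬ K ≤ q.asIdeal ∧
      ∀ y : PrimeSpectrum B, q ≤ y → ¬ K ≤ y.asIdeal → y = q) →
      (algebraMap A (Localization.AtPrime q.asIdeal)).Flat ∧ Module.Finite A (B ⧸ q.asIdeal))
    (hg : algebraMap A B f = g)
    (ψ : A' →+* B')
    (hcompat : ∀ a : A, ψ (algebraMap A A' a) = algebraMap B B' (algebraMap A B a))
    (q' : PrimeSpectrum B')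
    (hq' : ¬ K.map (algebraMap B B') ≤ q'.asIdeal ∧
      ∀ y : PrimeSpectrum B', q' ≤ y → ¬ K.map (algebraMap B B') ≤ y.asIdeal → y = q') :
    ((algebraMap B' (Localization.AtPrime q'.asIdeal)).comp ψ).Flat := by
  haveI := complete_compl B K g
  have hftc := ft_compl B K g
  have hq := main8835 B K B' hftc q' hq' hJB
  have hfin1 : Module.Finite B (B' ⧸ q'.asIdeal) := ((main8829 B K B' hftc q' hq').out 1 2).mp hq
  obtain ⟨hflatq, hfin2⟩ := h1 _ hq
  -- units
  have hu1 : IsUnit (Ideal.Quotient.mk (q'.asIdeal.comap (algebraMap B B')) g) :=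
    isUnit_mk_comap_of_finite q'.asIdeal g ((isUnit_compl B K g).map _)
  have hu2 : IsUnit (Ideal.Quotient.mk
      ((q'.asIdeal.comap (algebraMap B B')).comap (algebraMap A B)) f) := by
    haveI : Module.Finite A (B ⧸ q'.asIdeal.comap (algebraMap B B')) := hfin2
    haveI : (q'.asIdeal.comap (algebraMap B B')).IsPrime := Ideal.comap_isPrime _ _
    apply isUnit_mk_comap_of_finite
    rw [hg]
    exact hu1
  set p : Ideal A := (q'.asIdeal.comap (algebraMap B B')).comap (algebraMap A B) with hp
  haveI hpprime : p.IsPrime := Ideal.comap_isPrime _ _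
  obtain ⟨hpA'prime, hbij⟩ := ComplLocPrime.main A I p f hu2
  set p' : Ideal A' := q'.asIdeal.comap ψ with hp'
  haveI hp'prime : p'.IsPrime := Ideal.comap_isPrime _ _
  have hp'comap : p'.comap (algebraMap A A') = p := by
    ext a
    rw [hp', hp, Ideal.mem_comap, Ideal.mem_comap, Ideal.mem_comap, Ideal.mem_comap, hcompat]
  have hp'eq : p' = p.map (algebraMap A A') := by
    apply le_antisymm
    · intro x hx
      obtain ⟨y, hy⟩ := hbij.2 (Ideal.Quotient.mk _ x)
      obtain ⟨a, rfl⟩ := Ideal.Quotient.mk_surjective y
      rw [Ideal.quotientMap_mk, Ideal.Quotient.eq] at hy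
      have h2 : algebraMap A A' a ∈ p' := by
        have h3 : p.map (algebraMap A A') ≤ p' := by
          rw [Ideal.map_le_iff_le_comap, hp'comap]
        have := p'.add_mem hx (h3 hy)
        rwa [add_sub_cancel] at this
      have h4 : a ∈ p := by
        rw [← hp'comap]
        exact h2
      have h5 := (p.map (algebraMap A A')).sub_mem (Ideal.mem_map_of_mem (algebraMap A A') h4) hy
      rwa [sub_sub_cancel] at h5
    · rw [Ideal.map_le_iff_le_comap, hp'comap]
  -- the local rings
  haveI : IsNoetherianRing (Localization.AtPrime p') :=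
    IsLocalization.isNoetherianRing p'.primeCompl _ inferInstance
  haveI : IsNoetherianRing (Localization.AtPrime q'.asIdeal) :=
    IsLocalization.isNoetherianRing q'.asIdeal.primeCompl _ inferInstance
  set ρ := Localization.localRingHom p' q'.asIdeal ψ rfl with hρ
  set φ : A →+* Localization.AtPrime p' :=
    (algebraMap A' (Localization.AtPrime p')).comp (algebraMap A A') with hφ
  have hpφ : p.map φ = IsLocalRing.maximalIdeal (Localization.AtPrime p') := by
    rw [hφ, ← Ideal.map_map, ← hp'eq, Localization.AtPrime.map_eq_maximalIdeal]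
  haveI hqprime : (q'.asIdeal.comap (algebraMap B B')).IsPrime := Ideal.comap_isPrime _ _
  have hcomp : ρ.comp φ = (Localization.localRingHom (q'.asIdeal.comap (algebraMap B B'))
      q'.asIdeal (algebraMap B B') rfl).comp
        (algebraMap A (Localization.AtPrime (q'.asIdeal.comap (algebraMap B B')))) := by
    ext a
    simp only [RingHom.comp_apply, hρ, hφ]
    rw [Localization.localRingHom_to_map, hcompat,
      IsScalarTower.algebraMap_apply A B (Localization.AtPrime _),
      Localization.localRingHom_to_map]
  have hflat : (ρ.comp φ).Flat := by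
    rw [hcomp]
    exact RingHom.Flat.comp hflatq (RingHom.Flat.localRingHom
      (RingHom.flat_algebraMap_iff.mpr (flat_compl B K g)) _ _ rfl)
  have hρflat : ρ.Flat := flat_of_map_eq_maximalIdeal φ ρ p hpφ hflat
  have hfinal : (algebraMap B' (Localization.AtPrime q'.asIdeal)).comp ψ =
      ρ.comp (algebraMap A' (Localization.AtPrime p')) := by
    ext x
    simp only [RingHom.comp_apply, hρ]
    rw [Localization.localRingHom_to_map]
  rw [hfinal]
  exact RingHom.Flat.comp (RingHom.flat_algebraMap_iff.mpr (IsLocalization.flat _ p'.primeCompl))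
    hρflat

end Core

open Groth.Agent.Helper3.RigClosed in
theorem main8841 (A : Type u) [CommRing A] [IsNoetherianRing A] (I : Ideal A) [IsAdicComplete I A] (B : Type u) [CommRing B] [Algebra A B] [IsNoetherianRing B] [IsAdicComplete (I.map (algebraMap A B)) B] (hft : Algebra.FiniteType A (B ⧸ (I.map (algebraMap A B)))) (hJ : IsJacobsonRing (A ⧸ I)) (hnaive : ∀ q : PrimeSpectrum B, (¬ (I.map (algebraMap A B)) ≤ q.asIdeal ∧ ∀ y : PrimeSpectrum B, q ≤ y → ¬ (I.map (algebraMap A B)) ≤ y.asIdeal → y = q) → (algebraMap A (Localization.AtPrime q.asIdeal)).Flat) (f : A) (ψ : (AdicCompletion (I.map (algebraMap A (Localization.Away f))) (Localization.Away f)) →+* (AdicCompletion ((I.map (algebraMap A B)).map (algebraMap B (Localization.Away (algebraMap A B f)))) (Localization.Away (algebraMap A B f)))) (hψ : ψ.comp (algebraMap (Localization.Away f) (AdicCompletion (I.map (algebraMap A (Localization.Away f))) (Localization.Away f))) = (algebraMap (Localization.Away (algebraMap A B f)) (AdicCompletion ((I.map (algebraMap A B)).map (algebraMap B (Localization.Away (algebraMap A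 B f)))) (Localization.Away (algebraMap A B f)))).comp (Localization.awayMap (algebraMap A B) f)) (q' : PrimeSpectrum (AdicCompletion ((I.map (algebraMap A B)).map (algebraMap B (Localization.Away (algebraMap A B f)))) (Localization.Away (algebraMap A B f)))) (hq' : (¬ ((((I.map (algebraMap A B))).map (algebraMap B (Localization.Away (algebraMap A B f)))).map (algebraMap (Localization.Away (algebraMap A B f)) (AdicCompletion ((I.map (algebraMap A B)).map (algebraMap B (Localization.Away (algebraMap A B f)))) (Localization.Away (algebraMap A B f))))) ≤ q'.asIdeal ∧ ∀ y : PrimeSpectrum (AdicCompletion ((I.map (algebraMap A B)).map (algebraMap B (Localization.Away (algebraMap A B f)))) (Localization.Away (algebraMap A B f))), q' ≤ y → ¬ ((((I.map (algebraMap A B))).map (algebraMap B (Localization.Away (algebraMap A B f)))).map (algebraMap (Localization.Away (algebraMap A B f)) (AdicCompletion ((I.map (algebraMap A B)).map (algebraMap B (Localization.Away (algebraMap A B f)))) (Localization.Away (algebraMap A B f))))) ≤ y.asIdeal → y = q')) : ((algebraMap (AdicCompletion ((I.map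 (algebraMap A B)).map (algebraMap B (Localization.Away (algebraMap A B f)))) (Localization.Away (algebraMap A B f))) (Localization.AtPrime q'.asIdeal)).comp ψ).Flat := by
  -- Step 0: B/K Jacobson
  have hJB : IsJacobsonRing (B ⧸ I.map (algebraMap A B)) := by
    have hIle : I ≤ (I.map (algebraMap A B)).comap (algebraMap A B) := Ideal.le_comap_map
    haveI : IsJacobsonRing (A ⧸ (I.map (algebraMap A B)).comap (algebraMap A B)) :=
      isJacobsonRing_of_surjective
        ⟨Ideal.Quotient.factor hIle, Ideal.Quotient.factor_surjective hIle⟩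
    haveI : Algebra.FiniteType (A ⧸ (I.map (algebraMap A B)).comap (algebraMap A B))
        (B ⧸ I.map (algebraMap A B)) :=
      Algebra.FiniteType.of_restrictScalars_finiteType A _ _
    exact isJacobsonRing_of_finiteType
      (A := A ⧸ (I.map (algebraMap A B)).comap (algebraMap A B))
  rw [← map_eq] at hq'
  refine core A I B (I.map (algebraMap A B)) f (algebraMap A B f) hJB ?_ rfl ψ ?_ q' hq'
  · intro q hq
    refine ⟨hnaive q hq, ?_⟩
    have hp := main8835 A I B hft q hq hJ
    exact ((main8829 A I B hft q hq).out 1 2).mp hp
  · intro a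
    have h := RingHom.congr_fun hψ (algebraMap A (Localization.Away f) a)
    rw [RingHom.comp_apply, RingHom.comp_apply, Localization.awayMap, IsLocalization.Away.map,
      IsLocalization.map_eq] at h
    exact h

end Groth.Agent.Helper3.RigFlat
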