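import Mathlib
import Groth.Agent.Lib.Helper3.RigFlat

set_option autoImplicit false

universe u

namespace Groth.Agent.Helper3.RigFlat

open Groth.Agent.Helper17.AR

/-- flatness at a prime passes to smaller primes -/
lemma flat_comp_of_le {R S : Type*} [CommRing R] [CommRing S] (f : R →+* S)
    (P Q : Ideal S) [P.IsPrime] [Q.IsPrime] (hPQ : P ≤ Q)
    (h : ((algebraMap S (Localization.AtPrime Q)).comp f).Flat) :
    ((algebraMap S (Localization.AtPrime P)).comp f).Flat := by
  have hle : Q.primeCompl ≤ P.primeCompl := fun x hx hxP => hx (hPQ hxP)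
  letI := IsLocalization.localizationAlgebraOfSubmonoidLe (Localization.AtPrime Q)
    (Localization.AtPrime P) Q.primeCompl P.primeCompl hle
  haveI := IsLocalization.localization_isScalarTower_of_submonoid_le (Localization.AtPrime Q)
    (Localization.AtPrime P) Q.primeCompl P.primeCompl hle
  haveI := IsLocalization.isLocalization_of_submonoid_le (Localization.AtPrime Q)
    (Localization.AtPrime P) Q.primeCompl P.primeCompl hle
  have h2 : (algebraMap (Localization.AtPrime Q) (Localization.AtPrime P)).Flat :=
    RingHom.flat_algebraMap_iff.mpr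
      (IsLocalization.flat _ (P.primeCompl.map (algebraMap S (Localization.AtPrime Q))))
  have h3 : (algebraMap S (Localization.AtPrime P)).comp f =
      (algebraMap (Localization.AtPrime Q) (Localization.AtPrime P)).comp
        ((algebraMap S (Localization.AtPrime Q)).comp f) := by
    rw [← RingHom.comp_assoc, ← IsScalarTower.algebraMap_eq]
  rw [h3]
  exact RingHom.Flat.comp h h2

/-- flatness of `S_P` over `R` implies flatness over `R_{f⁻¹P}` -/
lemma flat_localRingHom_of_comp {R S : Type*} [CommRing R] [CommRing S] (f : R →+* S)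
    (P : Ideal S) [P.IsPrime]
    (h : ((algebraMap S (Localization.AtPrime P)).comp f).Flat) :
    (Localization.localRingHom (P.comap f) P f rfl).Flat := by
  algebraize [f, Localization.localRingHom (Ideal.comap f P) P f rfl]
  have : IsScalarTower R (Localization.AtPrime (Ideal.comap f P)) (Localization.AtPrime P) :=
    .of_algebraMap_eq fun x ↦ (Localization.localRingHom_to_map _ _ _ rfl x).symm
  rw [RingHom.Flat, Module.flat_iff_of_isLocalization
    (S := (Localization.AtPrime (Ideal.comap f P))) (p := (Ideal.comap f P).primeCompl)]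
  have h' := h
  rw [RingHom.Flat] at h'
  convert h' using 1
  refine Module.ext' _ _ (fun r m => ?_)
  have h1 : r • m = (algebraMap R S r) • m := (algebraMap_smul S r m).symm
  rw [h1, Algebra.smul_def]
  rfl

/-- ring maps out of an adic completion into a Hausdorff ring are determined on the dense
subring -/
lemma ringHom_ext_of_hausdorff {P T : Type u} [CommRing P] [CommRing T] (J : Ideal P)
    (hJ : J.FG) (𝔟 : Ideal T) [IsHausdorff 𝔟 T]
    (φ1 φ2 : AdicCompletion J P →+* T)
    (h1 : (J.map (algebraMap P (AdicCompletion J P))).map φ1 ≤ 𝔟)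
    (h2 : (J.map (algebraMap P (AdicCompletion J P))).map φ2 ≤ 𝔟)
    (h : ∀ y : P, φ1 (AdicCompletion.of J P y) = φ2 (AdicCompletion.of J P y)) : φ1 = φ2 := by
  ext x
  rw [← sub_eq_zero]
  apply IsHausdorff.haus ‹IsHausdorff 𝔟 T›
  intro n
  rw [SModEq.zero]
  obtain ⟨y, hy⟩ := Ideal.Quotient.mk_surjective (AdicCompletion.evalₐ J n x)
  have hx : x - AdicCompletion.of J P y ∈ (J ^ n).map (algebraMap P (AdicCompletion J P)) := by
    rw [← ComplLocPrime.ker_evalₐ_eq_map J hJ, RingHom.mem_ker]
    change AdicCompletion.evalₐ J n (x - AdicCompletion.of J P y) = 0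
    rw [map_sub, AdicCompletion.evalₐ_of, hy, sub_self]
  rw [Ideal.map_pow] at hx
  have key : ∀ φ : AdicCompletion J P →+* T,
      (J.map (algebraMap P (AdicCompletion J P))).map φ ≤ 𝔟 →
      φ (x - AdicCompletion.of J P y) ∈ 𝔟 ^ n := by
    intro φ hφ
    have := Ideal.mem_map_of_mem φ hx
    rw [Ideal.map_pow] at this
    exact Ideal.pow_right_mono hφ n this
  have e : φ1 x - φ2 x = φ1 (x - AdicCompletion.of J P y) - φ2 (x - AdicCompletion.of J P y) := by
    rw [map_sub, map_sub, h y]
    ring
  rw [e]
  have := (𝔟 ^ n).sub_mem (key φ1 h1) (key φ2 h2)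
  simpa using this

end Groth.Agent.Helper3.RigFlat
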