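import Mathlib
import Groth.Agent.Lib.Helper3.RigFlat
import Groth.Agent.Lib.Helper3.RigFlat2a

set_option autoImplicit false

universe u

namespace Groth.Agent.Helper3.RigFlat

open Groth.Agent.Helper17.AR

section Comp

variable (A : Type u) [CommRing A] [IsNoetherianRing A] (I : Ideal A)
  (B : Type u) [CommRing B] [Algebra A B] [IsNoetherianRing B]
  (C : Type u) [CommRing C] [Algebra A C] [Algebra B C] [IsScalarTower A B C] [IsNoetherianRing C]
  (e : A)

local notation "Ae" => Localization.Away e
local notation "A'" => AdicCompletion (Ideal.map (algebraMap A (Localization.Away e)) I)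
  (Localization.Away e)
local notation "KB" => Ideal.map (algebraMap A B) I
local notation "gB" => algebraMap A B e
local notation "Bg" => Localization.Away (algebraMap A B e)
local notation "B'" => AdicCompletion (Ideal.map (algebraMap B (Localization.Away (algebraMap A B e)))
  (Ideal.map (algebraMap A B) I)) (Localization.Away (algebraMap A B e))
local notation "KC" => Ideal.map (algebraMap B C) (Ideal.map (algebraMap A B) I)
local notation "hC" => algebraMap B C (algebraMap A B e)
local notation "Ch" => Localization.Away (algebraMap B C (algebraMap A B e))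
local notation "C'" => AdicCompletion (Ideal.map (algebraMap C (Localization.Away (algebraMap B C (algebraMap A B e))))
  (Ideal.map (algebraMap B C) (Ideal.map (algebraMap A B) I))) (Localization.Away (algebraMap B C (algebraMap A B e)))

theorem core8843
    (hAB : ∀ ψf : A' →+* B', ψf.comp (algebraMap Ae A') =
        (algebraMap Bg B').comp (Localization.awayMap (algebraMap A B) e) →
      ∀ qf : PrimeSpectrum B', (¬ ((KB).map (algebraMap B Bg)).map (algebraMap Bg B') ≤ qf.asIdeal ∧
        ∀ y : PrimeSpectrum B', qf ≤ y →
          ¬ ((KB).map (algebraMap B Bg)).map (algebraMap Bg B') ≤ y.asIdeal → y = qf) →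
        ((algebraMap B' (Localization.AtPrime qf.asIdeal)).comp ψf).Flat)
    (hBC : ∀ ψg : B' →+* C', ψg.comp (algebraMap Bg B') =
        (algebraMap Ch C').comp (Localization.awayMap (algebraMap B C) gB) →
      ∀ qg : PrimeSpectrum C', (¬ ((KC).map (algebraMap C Ch)).map (algebraMap Ch C') ≤ qg.asIdeal ∧
        ∀ y : PrimeSpectrum C', qg ≤ y →
          ¬ ((KC).map (algebraMap C Ch)).map (algebraMap Ch C') ≤ y.asIdeal → y = qg) →
        ((algebraMap C' (Localization.AtPrime qg.asIdeal)).comp ψg).Flat)
    (ψe : A' →+* C')
    (hcompat : ∀ a : A, ψe (algebraMap A A' a) = algebraMap C C' (algebraMap A C a))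
    (qe : PrimeSpectrum C')
    (hqe : ¬ ((KC).map (algebraMap C Ch)).map (algebraMap Ch C') ≤ qe.asIdeal ∧
        ∀ y : PrimeSpectrum C', qe ≤ y →
          ¬ ((KC).map (algebraMap C Ch)).map (algebraMap Ch C') ≤ y.asIdeal → y = qe) :
    ((algebraMap C' (Localization.AtPrime qe.asIdeal)).comp ψe).Flat := by
  -- the canonical maps
  have hle1 : (I.map (algebraMap A Ae)).map (Localization.awayMap (algebraMap A B) e) ≤
      (KB).map (algebraMap B Bg) := by
    have h0 : (Localization.awayMap (algebraMap A B) e).comp (algebraMap A Ae) =
        (algebraMap B Bg).comp (algebraMap A B) := IsLocalization.map_comp _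
    rw [Ideal.map_map, h0, ← Ideal.map_map]
  have hle2 : ((KB).map (algebraMap B Bg)).map (Localization.awayMap (algebraMap B C) gB) ≤
      (KC).map (algebraMap C Ch) := by
    have h0 : (Localization.awayMap (algebraMap B C) gB).comp (algebraMap B Bg) =
        (algebraMap C Ch).comp (algebraMap B C) := IsLocalization.map_comp _
    rw [Ideal.map_map, h0, ← Ideal.map_map]
  set ψf : A' →+* B' := mapRingHom _ _ (Localization.awayMap (algebraMap A B) e) hle1 with hψf
  set ψg : B' →+* C' := mapRingHom _ _ (Localization.awayMap (algebraMap B C) gB) hle2 with hψg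
  have hcf : ψf.comp (algebraMap Ae A') =
      (algebraMap Bg B').comp (Localization.awayMap (algebraMap A B) e) := by
    exact RingHom.ext fun x => mapRingHom_of _ _ _ hle1 x
  have hcg : ψg.comp (algebraMap Bg B') =
      (algebraMap Ch C').comp (Localization.awayMap (algebraMap B C) gB) := by
    exact RingHom.ext fun x => mapRingHom_of _ _ _ hle2 x
  have flat1 := hBC ψg hcg qe hqe
  -- pointwise compatibilities
  have hf_alg : ∀ a : A, ψf (algebraMap A A' a) = algebraMap B B' (algebraMap A B a) := by
    intro a
    have h := RingHom.congr_fun hcf (algebraMap A Ae a)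
    rw [RingHom.comp_apply, RingHom.comp_apply, Localization.awayMap, IsLocalization.Away.map,
      IsLocalization.map_eq] at h
    exact h
  have hg_alg : ∀ b : B, ψg (algebraMap B B' b) = algebraMap C C' (algebraMap B C b) := by
    intro b
    have h := RingHom.congr_fun hcg (algebraMap B Bg b)
    rw [RingHom.comp_apply, RingHom.comp_apply, Localization.awayMap, IsLocalization.Away.map,
      IsLocalization.map_eq] at h
    exact h
  -- the prime s
  set s : Ideal B' := qe.asIdeal.comap ψg with hs
  haveI hsprime : s.IsPrime := Ideal.comap_isPrime _ _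
  have hKs : ¬ ((KB).map (algebraMap B Bg)).map (algebraMap Bg B') ≤ s := by
    intro hle
    apply hqe.1
    refine Ideal.map_le_iff_le_comap.mpr (Ideal.map_le_iff_le_comap.mpr
      (Ideal.map_le_iff_le_comap.mpr ?_))
    intro b hb
    rw [Ideal.mem_comap, Ideal.mem_comap, Ideal.mem_comap]
    have h1 : algebraMap B B' b ∈ s := by
      apply hle
      exact Ideal.mem_map_of_mem _ (Ideal.mem_map_of_mem _ hb)
    rw [hs, Ideal.mem_comap, hg_alg] at h1
    exact h1
  obtain ⟨sp, hsle, hsp⟩ := RigClosed.exists_rigClosed_ge _ _ s hKs
  have flat2 := hAB ψf hcf sp hsp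
  have flat2' := flat_comp_of_le ψf s sp.asIdeal hsle flat2
  have flat3 := flat_localRingHom_of_comp ψg qe.asIdeal flat1
  -- uniqueness: ψe = ψg ∘ ψf
  have hfgJ : (I.map (algebraMap A Ae)).FG := IsNoetherian.noetherian _
  have hfgC : ((KC).map (algebraMap C Ch)).FG := IsNoetherian.noetherian _
  haveI : IsAdicComplete (((KC).map (algebraMap C Ch)).map (algebraMap Ch C')) C' :=
    AdicCompletion.isAdicComplete_self _ hfgC
  have hmemC : ∀ a : A, a ∈ I → algebraMap C C' (algebraMap A C a) ∈
      ((KC).map (algebraMap C Ch)).map (algebraMap Ch C') := by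
    intro a ha
    rw [IsScalarTower.algebraMap_apply A B C a]
    exact Ideal.mem_map_of_mem (algebraMap Ch C') (Ideal.mem_map_of_mem (algebraMap C Ch)
      (Ideal.mem_map_of_mem (algebraMap B C) (Ideal.mem_map_of_mem (algebraMap A B) ha)))
  have huniq : ψe = ψg.comp ψf := by
    refine ringHom_ext_of_hausdorff (I.map (algebraMap A Ae)) hfgJ
      (((KC).map (algebraMap C Ch)).map (algebraMap Ch C')) ψe (ψg.comp ψf) ?_ ?_ ?_
    · refine Ideal.map_le_iff_le_comap.mpr (Ideal.map_le_iff_le_comap.mpr
        (Ideal.map_le_iff_le_comap.mpr ?_))
      intro a ha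
      rw [Ideal.mem_comap, Ideal.mem_comap, Ideal.mem_comap]
      have h1 := hcompat a
      rw [IsScalarTower.algebraMap_apply A Ae A'] at h1
      rw [h1]
      exact hmemC a ha
    · refine Ideal.map_le_iff_le_comap.mpr (Ideal.map_le_iff_le_comap.mpr
        (Ideal.map_le_iff_le_comap.mpr ?_))
      intro a ha
      rw [Ideal.mem_comap, Ideal.mem_comap, Ideal.mem_comap]
      have h1 := hf_alg a
      rw [IsScalarTower.algebraMap_apply A Ae A'] at h1
      rw [RingHom.comp_apply, h1, hg_alg, ← IsScalarTower.algebraMap_apply A B C a]
      exact hmemC a ha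
    · have h2 : ψe.comp (algebraMap Ae A') = (ψg.comp ψf).comp (algebraMap Ae A') := by
        apply IsLocalization.ringHom_ext (Submonoid.powers e)
        ext a
        have h1 := hcompat a
        rw [IsScalarTower.algebraMap_apply A Ae A'] at h1
        have h3 := hf_alg a
        rw [IsScalarTower.algebraMap_apply A Ae A'] at h3
        simp only [RingHom.comp_apply]
        rw [h1, h3, hg_alg, ← IsScalarTower.algebraMap_apply A B C a]
      intro y
      exact RingHom.congr_fun h2 y
  have hfinal : (algebraMap C' (Localization.AtPrime qe.asIdeal)).comp ψe =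
      (Localization.localRingHom s qe.asIdeal ψg rfl).comp
        ((algebraMap B' (Localization.AtPrime s)).comp ψf) := by
    rw [huniq]
    refine RingHom.ext fun x => ?_
    simp only [RingHom.comp_apply]
    rw [Localization.localRingHom_to_map]
  rw [hfinal]
  exact RingHom.Flat.comp flat2' flat3

end Comp

theorem main8843 (A : Type u) [CommRing A] [IsNoetherianRing A] (I : Ideal A) [IsAdicComplete I A] (B : Type u) [CommRing B] [Algebra A B] [IsNoetherianRing B] [IsAdicComplete (I.map (algebraMap A B)) B] (hftB : Algebra.FiniteType A (B ⧸ (I.map (algebraMap A B)))) (C : Type u) [CommRing C] [Algebra A C] [Algebra B C] [IsScalarTower A B C] [IsNoetherianRing C] [IsAdicComplete (I.map (algebraMap A C)) C] (hftC : Algebra.FiniteType B (C ⧸ (I.map (algebraMap A C)))) (hAB : (∀ f : A, ∀ ψf : (AdicCompletion (I.map (algebraMap A (Localization.Away f))) (Localization.Away f)) →+* (AdicCompletion ((I.map (algebraMap A B)).map (algebraMap B (Localization.Away (algebraMap A B f)))) (Localization.Away (algebraMap A B f))), ψf.comp (algebraMap (Localization.Away f) (AdicCompletion (I.map (algebraMap A (Localization.Away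 f))) (Localization.Away f))) = (algebraMap (Localization.Away (algebraMap A B f)) (AdicCompletion ((I.map (algebraMap A B)).map (algebraMap B (Localization.Away (algebraMap A B f)))) (Localization.Away (algebraMap A B f)))).comp (Localization.awayMap (algebraMap A B) f) → ∀ qf : PrimeSpectrum (AdicCompletion ((I.map (algebraMap A B)).map (algebraMap B (Localization.Away (algebraMap A B f)))) (Localization.Away (algebraMap A B f))), (¬ (((I.map (algebraMap A B)).map (algebraMap B (Localization.Away (algebraMap A B f)))).map (algebraMap (Localization.Away (algebraMap A B f)) (AdicCompletion ((I.map (algebraMap A B)).map (algebraMap B (Localization.Away (algebraMap A B f)))) (Localization.Away (algebraMap A B f))))) ≤ qf.asIdeal ∧ ∀ y : PrimeSpectrum (AdicCompletion ((I.map (algebraMap A B)).map (algebraMap B (Localization.Away (algebraMap A B f)))) (Localization.Away (algebraMap A B f))), qf ≤ y → ¬ (((I.map (algebraMap A B)).map (algebraMap B (Localization.Away (algebraMap A B f)))).map (algebraMap (Localization.Away (algebraMap A B f)) (AdicCompletion ((I.map (algebraMap A B)).map (algebraMap B (Localization.Away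 (algebraMap A B f)))) (Localization.Away (algebraMap A B f))))) ≤ y.asIdeal → y = qf) → ((algebraMap (AdicCompletion ((I.map (algebraMap A B)).map (algebraMap B (Localization.Away (algebraMap A B f)))) (Localization.Away (algebraMap A B f))) (Localization.AtPrime qf.asIdeal)).comp ψf).Flat)) (hBC : (∀ g : B, ∀ ψg : (AdicCompletion ((I.map (algebraMap A B)).map (algebraMap B (Localization.Away g))) (Localization.Away g)) →+* (AdicCompletion (((I.map (algebraMap A B)).map (algebraMap B C)).map (algebraMap C (Localization.Away (algebraMap B C g)))) (Localization.Away (algebraMap B C g))), ψg.comp (algebraMap (Localization.Away g) (AdicCompletion ((I.map (algebraMap A B)).map (algebraMap B (Localization.Away g))) (Localization.Away g))) = (algebraMap (Localization.Away (algebraMap B C g)) (AdicCompletion (((I.map (algebraMap A B)).map (algebraMap B C)).map (algebraMap C (Localization.Away (algebraMap B C g)))) (Localization.Away (algebraMap B C g)))).comp (Localization.awayMap (algebraMap B C) g) → ∀ qg : PrimeSpectrum (AdicCompletion (((I.map (algebraMap A B)).map (algebraMap B C)).map (algebraMap C (Localization.Away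 (algebraMap B C g)))) (Localization.Away (algebraMap B C g))), (¬ ((((I.map (algebraMap A B)).map (algebraMap B C)).map (algebraMap C (Localization.Away (algebraMap B C g)))).map (algebraMap (Localization.Away (algebraMap B C g)) (AdicCompletion (((I.map (algebraMap A B)).map (algebraMap B C)).map (algebraMap C (Localization.Away (algebraMap B C g)))) (Localization.Away (algebraMap B C g))))) ≤ qg.asIdeal ∧ ∀ y : PrimeSpectrum (AdicCompletion (((I.map (algebraMap A B)).map (algebraMap B C)).map (algebraMap C (Localization.Away (algebraMap B C g)))) (Localization.Away (algebraMap B C g))), qg ≤ y → ¬ ((((I.map (algebraMap A B)).map (algebraMap B C)).map (algebraMap C (Localization.Away (algebraMap B C g)))).map (algebraMap (Localization.Away (algebraMap B C g)) (AdicCompletion (((I.map (algebraMap A B)).map (algebraMap B C)).map (algebraMap C (Localization.Away (algebraMap B C g)))) (Localization.Away (algebraMap B C g))))) ≤ y.asIdeal → y = qg) → ((algebraMap (AdicCompletion (((I.map (algebraMap A B)).map (algebraMap B C)).map (algebraMap C (Localization.Away (algebraMap B C g)))) (Localization.Away (algebraMap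 B C g))) (Localization.AtPrime qg.asIdeal)).comp ψg).Flat)) : (∀ e : A, ∀ ψe : (AdicCompletion (I.map (algebraMap A (Localization.Away e))) (Localization.Away e)) →+* (AdicCompletion ((I.map (algebraMap A C)).map (algebraMap C (Localization.Away (algebraMap A C e)))) (Localization.Away (algebraMap A C e))), ψe.comp (algebraMap (Localization.Away e) (AdicCompletion (I.map (algebraMap A (Localization.Away e))) (Localization.Away e))) = (algebraMap (Localization.Away (algebraMap A C e)) (AdicCompletion ((I.map (algebraMap A C)).map (algebraMap C (Localization.Away (algebraMap A C e)))) (Localization.Away (algebraMap A C e)))).comp (Localization.awayMap (algebraMap A C) e) → ∀ qe : PrimeSpectrum (AdicCompletion ((I.map (algebraMap A C)).map (algebraMap C (Localization.Away (algebraMap A C e)))) (Localization.Away (algebraMap A C e))), (¬ (((I.map (algebraMap A C)).map (algebraMap C (Localization.Away (algebraMap A C e)))).map (algebraMap (Localization.Away (algebraMap A C e)) (AdicCompletion ((I.map (algebraMap A C)).map (algebraMap C (Localization.Away (algebraMap A C e)))) (Localization.Away (algebraMap A C e)))))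 ≤ qe.asIdeal ∧ ∀ y : PrimeSpectrum (AdicCompletion ((I.map (algebraMap A C)).map (algebraMap C (Localization.Away (algebraMap A C e)))) (Localization.Away (algebraMap A C e))), qe ≤ y → ¬ (((I.map (algebraMap A C)).map (algebraMap C (Localization.Away (algebraMap A C e)))).map (algebraMap (Localization.Away (algebraMap A C e)) (AdicCompletion ((I.map (algebraMap A C)).map (algebraMap C (Localization.Away (algebraMap A C e)))) (Localization.Away (algebraMap A C e))))) ≤ y.asIdeal → y = qe) → ((algebraMap (AdicCompletion ((I.map (algebraMap A C)).map (algebraMap C (Localization.Away (algebraMap A C e)))) (Localization.Away (algebraMap A C e))) (Localization.AtPrime qe.asIdeal)).comp ψe).Flat) := by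
  intro e ψe hψe qe hqe
  have hcompat : ∀ a : A, ψe (algebraMap A _ a) = algebraMap C _ (algebraMap A C a) := by
    intro a
    have h := RingHom.congr_fun hψe (algebraMap A (Localization.Away e) a)
    rw [RingHom.comp_apply, RingHom.comp_apply, Localization.awayMap, IsLocalization.Away.map,
      IsLocalization.map_eq] at h
    exact h
  clear hψe
  have key : ∀ (KC : Ideal C) (h : C) (_ : KC = (I.map (algebraMap A B)).map (algebraMap B C))
      (_ : h = algebraMap B C (algebraMap A B e))
      (ψe : (AdicCompletion (I.map (algebraMap A (Localization.Away e))) (Localization.Away e)) →+*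
        (AdicCompletion (KC.map (algebraMap C (Localization.Away h))) (Localization.Away h)))
      (_ : ∀ a : A, ψe (algebraMap A _ a) = algebraMap C _ (algebraMap A C a))
      (qe : PrimeSpectrum (AdicCompletion (KC.map (algebraMap C (Localization.Away h)))
        (Localization.Away h)))
      (_ : ¬ ((KC.map (algebraMap C (Localization.Away h))).map
          (algebraMap (Localization.Away h) (AdicCompletion (KC.map (algebraMap C
            (Localization.Away h))) (Localization.Away h)))) ≤ qe.asIdeal ∧
        ∀ y : PrimeSpectrum (AdicCompletion (KC.map (algebraMap C (Localization.Away h)))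
          (Localization.Away h)), qe ≤ y →
          ¬ ((KC.map (algebraMap C (Localization.Away h))).map
            (algebraMap (Localization.Away h) (AdicCompletion (KC.map (algebraMap C
              (Localization.Away h))) (Localization.Away h)))) ≤ y.asIdeal → y = qe),
      ((algebraMap (AdicCompletion (KC.map (algebraMap C (Localization.Away h)))
        (Localization.Away h)) (Localization.AtPrime qe.asIdeal)).comp ψe).Flat := by
    intro KC h hKC hh
    subst hKC
    subst hh
    intro ψe hcompat qe hqe
    exact core8843 A I B C e (hAB e) (hBC (algebraMap A B e)) ψe hcompat qe hqe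
  exact key (I.map (algebraMap A C)) (algebraMap A C e)
    (by rw [Ideal.map_map, ← IsScalarTower.algebraMap_eq])
    (IsScalarTower.algebraMap_apply A B C e) ψe hcompat qe hqe

end Groth.Agent.Helper3.RigFlat
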