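import Mathlib
import Groth.Agent.Lib.Helper3.RigFlat2a
import Groth.Agent.Lib.Helper7.CplFlat0
import Groth.Agent.Lib.Helper14.FFDescent

set_option autoImplicit false

universe u

namespace Groth.Agent.Helper3.RigFlat

open Groth.Agent.Helper17.AR FSch Groth.Agent.Lib.Helper6.ComplMapLib

/-- the completion of a faithfully flat map of Noetherian rings is faithfully flat -/
theorem faithfullyFlat_complMap {R S : Type u} [CommRing R] [CommRing S] [Algebra R S]
    [IsNoetherianRing R] [IsNoetherianRing S] [Module.FaithfullyFlat R S] (J : Ideal R) :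
    (complMap J (J.map (algebraMap R S)) (algebraMap R S) le_rfl).FaithfullyFlat := by
  set K := J.map (algebraMap R S) with hK
  set φ' := complMap J K (algebraMap R S) le_rfl with hφ'
  have hJfg : J.FG := IsNoetherian.noetherian J
  rw [RingHom.FaithfullyFlat]
  letI := φ'.toAlgebra
  haveI hflat : Module.Flat (AdicCompletion J R) (AdicCompletion K S) :=
    Groth.Agent.Helper7.CplFlat.flat_complMap_of_le J K le_rfl
  refine ⟨fun m hm htop => ?_⟩
  haveI : IsAdicComplete (J.map (algebraMap R (AdicCompletion J R))) (AdicCompletion J R) :=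
    AdicCompletion.isAdicComplete_self J hJfg
  have hJm : J.map (algebraMap R (AdicCompletion J R)) ≤ m :=
    (IsAdicComplete.le_jacobson_bot _).trans (sInf_le ⟨bot_le, hm⟩)
  set m0 : Ideal R := m.comap (algebraMap R (AdicCompletion J R)) with hm0
  haveI : m0.IsPrime := Ideal.comap_isPrime _ _
  obtain ⟨P', hP'⟩ := PrimeSpectrum.comap_surjective_of_faithfullyFlat (A := R) (B := S) ⟨m0, inferInstance⟩
  have hP'm0 : P'.asIdeal.comap (algebraMap R S) = m0 := congrArg PrimeSpectrum.asIdeal hP'
  have hJm0 : J ≤ m0 := Ideal.map_le_iff_le_comap.mp hJm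
  have hKP' : K ≤ P'.asIdeal := by
    rw [hK, Ideal.map_le_iff_le_comap, hP'm0]
    exact hJm0
  let θ : AdicCompletion K S →+* S ⧸ P'.asIdeal :=
    (Ideal.Quotient.factor hKP').comp (AdicCompletion.evalOneₐ K).toRingHom
  have hθof : ∀ s : S, θ (AdicCompletion.of K S s) = Ideal.Quotient.mk P'.asIdeal s := by
    intro s
    change Ideal.Quotient.factor hKP' (AdicCompletion.evalOneₐ K (AdicCompletion.of K S s)) = _
    rw [AdicCompletion.evalOneₐ_of, Ideal.Quotient.factor_mk]
  have hχof : ∀ r : R, θ (φ' (AdicCompletion.of J R r)) =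
      Ideal.Quotient.mk P'.asIdeal (algebraMap R S r) := by
    intro r
    rw [hφ', complMap_of, hθof]
  have hχJ : J.map (algebraMap R (AdicCompletion J R)) ≤ RingHom.ker (θ.comp φ') := by
    rw [Ideal.map_le_iff_le_comap]
    intro a ha
    rw [Ideal.mem_comap, RingHom.mem_ker, RingHom.comp_apply]
    have : algebraMap R (AdicCompletion J R) a = AdicCompletion.of J R a := rfl
    rw [this, hχof, Ideal.Quotient.eq_zero_iff_mem]
    exact hKP' (Ideal.mem_map_of_mem _ ha)
  have hχm : m ≤ RingHom.ker (θ.comp φ') := by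
    intro x hx
    obtain ⟨r, hr⟩ := exists_of_sub_mem J hJfg x
    have h1 : AdicCompletion.of J R r ∈ m := by
      have := m.sub_mem hx (hJm hr)
      rwa [sub_sub_cancel] at this
    have h2 : r ∈ m0 := h1
    have h3 : algebraMap R S r ∈ P'.asIdeal := by
      rw [← hP'm0] at h2
      exact h2
    have h4 : AdicCompletion.of J R r ∈ RingHom.ker (θ.comp φ') := by
      rw [RingHom.mem_ker, RingHom.comp_apply, hχof, Ideal.Quotient.eq_zero_iff_mem]
      exact h3
    have := (RingHom.ker (θ.comp φ')).add_mem (hχJ hr) h4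
    rwa [sub_add_cancel] at this
  have h1 : (1 : AdicCompletion K S) ∈ (m • ⊤ : Submodule (AdicCompletion J R) (AdicCompletion K S)) := by
    rw [htop]
    exact Submodule.mem_top
  have h2 : ∀ y ∈ (m • ⊤ : Submodule (AdicCompletion J R) (AdicCompletion K S)), θ y = 0 := by
    intro y hy
    refine Submodule.smul_induction_on hy ?_ ?_
    · intro x hx s _
      rw [Algebra.smul_def, map_mul]
      have : θ (algebraMap (AdicCompletion J R) (AdicCompletion K S) x) = 0 := hχm hx
      rw [this, zero_mul]
    · intro y z hy hz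
      rw [map_add, hy, hz, add_zero]
  have h3 := h2 1 h1
  rw [map_one] at h3
  exact one_ne_zero h3

end Groth.Agent.Helper3.RigFlat
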