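import Mathlib
import Groth.Agent.Lib.Helper3.RigFlat2a
import Groth.Agent.Lib.Helper3.RigFlat3a

set_option autoImplicit false

universe u

namespace Groth.Agent.Helper3.RigFlat

open Groth.Agent.Helper17.AR FSch Groth.Agent.Lib.Helper6.ComplMapLib

theorem faithfullyFlat_complMap' {R S : Type u} [CommRing R] [CommRing S] [Algebra R S]
    [IsNoetherianRing R] [IsNoetherianRing S] [Module.FaithfullyFlat R S] (J : Ideal R)
    (K : Ideal S) (hK : J.map (algebraMap R S) = K) :
    (complMap J K (algebraMap R S) hK.le).FaithfullyFlat := by
  subst hK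
  exact faithfullyFlat_complMap J

lemma flat_of_comp_faithfullyFlat {R S T : Type u} [CommRing R] [CommRing S] [CommRing T]
    (μ : R →+* S) (ν : S →+* T) (h1 : (ν.comp μ).Flat) (h2 : ν.FaithfullyFlat) : μ.Flat := by
  algebraize [μ, ν, ν.comp μ]
  exact Groth.Agent.Helper14.FFDescent.flat_of_comp R S T

lemma faithfullyFlat_of_flat_of_isLocalHom {S T : Type*} [CommRing S] [CommRing T]
    [IsLocalRing S] [IsLocalRing T] (ν : S →+* T) [IsLocalHom ν] (h : ν.Flat) :
    ν.FaithfullyFlat := by
  algebraize [ν]
  rw [RingHom.FaithfullyFlat]
  haveI : IsLocalHom (algebraMap S T) := ‹IsLocalHom ν›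
  exact Module.FaithfullyFlat.of_flat_of_isLocalHom


section Descent

variable (A : Type u) [CommRing A] [IsNoetherianRing A] (I : Ideal A)
  (B : Type u) [CommRing B] [Algebra A B] [IsNoetherianRing B]
  (A' : Type u) [CommRing A'] [Algebra A A'] [IsNoetherianRing A']
  (B' : Type u) [CommRing B'] [Algebra A B'] [Algebra B B'] [Algebra A' B']
  [IsScalarTower A B B'] [IsScalarTower A A' B'] [IsNoetherianRing B']
  [Module.Flat A A'] [Module.FaithfullyFlat B B']
  (f : A)

local notation "Af" => Localization.Away f
local notation "JA" => Ideal.map (algebraMap A (Localization.Away f)) I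
local notation "Ac" => AdicCompletion (Ideal.map (algebraMap A (Localization.Away f)) I)
  (Localization.Away f)
local notation "KB" => Ideal.map (algebraMap A B) I
local notation "gB" => algebraMap A B f
local notation "Bg" => Localization.Away (algebraMap A B f)
local notation "JB" => Ideal.map (algebraMap B (Localization.Away (algebraMap A B f)))
  (Ideal.map (algebraMap A B) I)
local notation "Bc" => AdicCompletion (Ideal.map (algebraMap B (Localization.Away (algebraMap A B f)))
  (Ideal.map (algebraMap A B) I)) (Localization.Away (algebraMap A B f))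
local notation "KA'" => Ideal.map (algebraMap A A') I
local notation "f'" => algebraMap A A' f
local notation "A'f" => Localization.Away (algebraMap A A' f)
local notation "JA'" => Ideal.map (algebraMap A' (Localization.Away (algebraMap A A' f)))
  (Ideal.map (algebraMap A A') I)
local notation "A'c" => AdicCompletion (Ideal.map (algebraMap A' (Localization.Away (algebraMap A A' f)))
  (Ideal.map (algebraMap A A') I)) (Localization.Away (algebraMap A A' f))
local notation "KB'" => Ideal.map (algebraMap A' B') (Ideal.map (algebraMap A A') I)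
local notation "g'" => algebraMap A' B' (algebraMap A A' f)
local notation "B'g" => Localization.Away (algebraMap A' B' (algebraMap A A' f))
local notation "JB'" => Ideal.map (algebraMap B' (Localization.Away (algebraMap A' B' (algebraMap A A' f))))
  (Ideal.map (algebraMap A' B') (Ideal.map (algebraMap A A') I))
local notation "B'c" => AdicCompletion (Ideal.map (algebraMap B' (Localization.Away (algebraMap A' B' (algebraMap A A' f))))
  (Ideal.map (algebraMap A' B') (Ideal.map (algebraMap A A') I))) (Localization.Away (algebraMap A' B' (algebraMap A A' f)))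

theorem core8844
    (hA'B' : ∀ ψ' : A'c →+* B'c, ψ'.comp (algebraMap A'f A'c) =
        (algebraMap B'g B'c).comp (Localization.awayMap (algebraMap A' B') f') →
      ∀ q' : PrimeSpectrum B'c, (¬ (JB').map (algebraMap B'g B'c) ≤ q'.asIdeal ∧
        ∀ y : PrimeSpectrum B'c, q' ≤ y →
          ¬ (JB').map (algebraMap B'g B'c) ≤ y.asIdeal → y = q') →
        ((algebraMap B'c (Localization.AtPrime q'.asIdeal)).comp ψ').Flat)
    (ψf : Ac →+* Bc)
    (hψf : ψf.comp (algebraMap Af Ac) =
        (algebraMap Bg Bc).comp (Localization.awayMap (algebraMap A B) f))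
    (qf : PrimeSpectrum Bc)
    (hqf : ¬ (JB).map (algebraMap Bg Bc) ≤ qf.asIdeal ∧
        ∀ y : PrimeSpectrum Bc, qf ≤ y →
          ¬ (JB).map (algebraMap Bg Bc) ≤ y.asIdeal → y = qf) :
    ((algebraMap Bc (Localization.AtPrime qf.asIdeal)).comp ψf).Flat := by
  -- the element equality
  have eg : algebraMap B B' gB = g' := by
    rw [← IsScalarTower.algebraMap_apply A B B', ← IsScalarTower.algebraMap_apply A A' B']
  haveI : IsLocalization.Away (algebraMap B B' gB) B'g := by
    rw [eg]; infer_instance
  -- the localized maps
  set φA : Af →+* A'f := Localization.awayMap (algebraMap A A') f with hφA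
  set φB : Bg →+* B'g := IsLocalization.Away.map Bg B'g (algebraMap B B') gB with hφB
  have hφAflat : φA.Flat :=
    RingHom.Flat.propertyIsLocal.localizationAwayPreserves (algebraMap A A') f Af A'f
      (RingHom.flat_algebraMap_iff.mpr inferInstance)
  have hφBff : φB.FaithfullyFlat :=
    RingHom.FaithfullyFlat.isStableUnderBaseChange.localizationPreserves.away (algebraMap B B') gB
      Bg B'g (RingHom.faithfullyFlat_algebraMap_iff.mpr inferInstance)
  have hφAcomp : φA.comp (algebraMap A Af) = (algebraMap A' A'f).comp (algebraMap A A') :=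
    IsLocalization.map_comp _
  have hφBcomp : φB.comp (algebraMap B Bg) = (algebraMap B' B'g).comp (algebraMap B B') :=
    IsLocalization.map_comp _
  have hKB' : (KB).map (algebraMap B B') = KB' := by
    rw [Ideal.map_map, Ideal.map_map, ← IsScalarTower.algebraMap_eq, ← IsScalarTower.algebraMap_eq]
  have hJA' : (JA).map φA = JA' := by
    rw [Ideal.map_map, hφAcomp, ← Ideal.map_map]
  have hJB' : (JB).map φB = JB' := by
    rw [Ideal.map_map, hφBcomp, ← Ideal.map_map, hKB']
  have hle3 : (JA').map (Localization.awayMap (algebraMap A' B') f') ≤ JB' := by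
    have h0 : (Localization.awayMap (algebraMap A' B') f').comp (algebraMap A' A'f) =
        (algebraMap B' B'g).comp (algebraMap A' B') := IsLocalization.map_comp _
    rw [Ideal.map_map, h0, ← Ideal.map_map]
  -- the completed maps
  set α : Ac →+* A'c := complMap (JA) (JA') φA hJA'.le with hα
  set β : Bc →+* B'c := complMap (JB) (JB') φB hJB'.le with hβ
  set ψ' : A'c →+* B'c := complMap (JA') (JB') (Localization.awayMap (algebraMap A' B') f') hle3
    with hψ'
  have hαflat : α.Flat := by
    letI := φA.toAlgebra
    haveI : Module.Flat Af A'f := hφAflat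
    exact Groth.Agent.Helper7.CplFlat.flat_complMap_of_le (JA) (JA') hJA'.le
  have hβff : β.FaithfullyFlat := by
    letI := φB.toAlgebra
    haveI : Module.FaithfullyFlat Bg B'g := hφBff
    exact faithfullyFlat_complMap' (JB) (JB') hJB'
  have hψ'c : ψ'.comp (algebraMap A'f A'c) =
      (algebraMap B'g B'c).comp (Localization.awayMap (algebraMap A' B') f') :=
    RingHom.ext fun x => complMap_of _ _ _ hle3 x
  -- pointwise formulas
  have hψf_alg : ∀ a : A, ψf (algebraMap A Ac a) = algebraMap B Bc (algebraMap A B a) := by
    intro a
    have h := RingHom.congr_fun hψf (algebraMap A Af a)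
    rw [RingHom.comp_apply, RingHom.comp_apply, Localization.awayMap, IsLocalization.Away.map,
      IsLocalization.map_eq] at h
    exact h
  have hβ_alg : ∀ b : B, β (algebraMap B Bc b) = algebraMap B' B'c (algebraMap B B' b) := by
    intro b
    have h1 : algebraMap B Bc b = AdicCompletion.of (JB) Bg (algebraMap B Bg b) := rfl
    rw [h1, hβ, complMap_of]
    have h2 : φB (algebraMap B Bg b) = algebraMap B' B'g (algebraMap B B' b) :=
      RingHom.congr_fun hφBcomp b
    rw [h2]
    rfl
  have hα_alg : ∀ a : A, α (algebraMap A Ac a) = algebraMap A' A'c (algebraMap A A' a) := by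
    intro a
    have h1 : algebraMap A Ac a = AdicCompletion.of (JA) Af (algebraMap A Af a) := rfl
    rw [h1, hα, complMap_of]
    have h2 : φA (algebraMap A Af a) = algebraMap A' A'f (algebraMap A A' a) :=
      RingHom.congr_fun hφAcomp a
    rw [h2]
    rfl
  have hψ'_alg : ∀ a : A', ψ' (algebraMap A' A'c a) = algebraMap B' B'c (algebraMap A' B' a) := by
    intro a
    have h := RingHom.congr_fun hψ'c (algebraMap A' A'f a)
    rw [RingHom.comp_apply, RingHom.comp_apply, Localization.awayMap, IsLocalization.Away.map,
      IsLocalization.map_eq] at h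
    exact h
  have htower : ∀ a : A, algebraMap A' B' (algebraMap A A' a) =
      algebraMap B B' (algebraMap A B a) := by
    intro a
    rw [← IsScalarTower.algebraMap_apply A A' B', ← IsScalarTower.algebraMap_apply A B B']
  -- commutation
  have hfgJ : (JA).FG := IsNoetherian.noetherian _
  have hfgB' : (JB').FG := IsNoetherian.noetherian _
  haveI : IsAdicComplete ((JB').map (algebraMap B'g B'c)) B'c :=
    AdicCompletion.isAdicComplete_self _ hfgB'
  have hmem : ∀ a : A, a ∈ I → algebraMap B' B'c (algebraMap B B' (algebraMap A B a)) ∈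
      (JB').map (algebraMap B'g B'c) := by
    intro a ha
    rw [← htower a]
    exact Ideal.mem_map_of_mem (algebraMap B'g B'c) (Ideal.mem_map_of_mem (algebraMap B' B'g)
      (Ideal.mem_map_of_mem (algebraMap A' B') (Ideal.mem_map_of_mem (algebraMap A A') ha)))
  have hcomm : ψ'.comp α = β.comp ψf := by
    refine ringHom_ext_of_hausdorff (JA) hfgJ ((JB').map (algebraMap B'g B'c)) _ _ ?_ ?_ ?_
    · refine Ideal.map_le_iff_le_comap.mpr (Ideal.map_le_iff_le_comap.mpr
        (Ideal.map_le_iff_le_comap.mpr ?_))
      intro a ha
      rw [Ideal.mem_comap, Ideal.mem_comap, Ideal.mem_comap]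
      have h1 := hα_alg a
      rw [IsScalarTower.algebraMap_apply A Af Ac] at h1
      rw [RingHom.comp_apply, h1, hψ'_alg, htower a]
      exact hmem a ha
    · refine Ideal.map_le_iff_le_comap.mpr (Ideal.map_le_iff_le_comap.mpr
        (Ideal.map_le_iff_le_comap.mpr ?_))
      intro a ha
      rw [Ideal.mem_comap, Ideal.mem_comap, Ideal.mem_comap]
      have h1 := hψf_alg a
      rw [IsScalarTower.algebraMap_apply A Af Ac] at h1
      rw [RingHom.comp_apply, h1, hβ_alg]
      exact hmem a ha
    · have h2 : (ψ'.comp α).comp (algebraMap Af Ac) = (β.comp ψf).comp (algebraMap Af Ac) := by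
        apply IsLocalization.ringHom_ext (Submonoid.powers f)
        ext a
        have h1 := hα_alg a
        rw [IsScalarTower.algebraMap_apply A Af Ac] at h1
        have h3 := hψf_alg a
        rw [IsScalarTower.algebraMap_apply A Af Ac] at h3
        simp only [RingHom.comp_apply]
        rw [h1, h3, hψ'_alg, hβ_alg, htower a]
      intro y
      exact RingHom.congr_fun h2 y
  -- a prime over qf
  obtain ⟨q', hq'⟩ := (RingHom.FaithfullyFlat.iff_flat_and_comap_surjective.mp hβff).2 qf
  have hq'comap : q'.asIdeal.comap β = qf.asIdeal := congrArg PrimeSpectrum.asIdeal hq'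
  have hKq' : ¬ (JB').map (algebraMap B'g B'c) ≤ q'.asIdeal := by
    intro hle
    apply hqf.1
    refine Ideal.map_le_iff_le_comap.mpr (Ideal.map_le_iff_le_comap.mpr
      (Ideal.map_le_iff_le_comap.mpr ?_))
    intro a ha
    rw [Ideal.mem_comap, Ideal.mem_comap, Ideal.mem_comap, ← hq'comap, Ideal.mem_comap]
    have h1 := hβ_alg (algebraMap A B a)
    rw [IsScalarTower.algebraMap_apply B Bg Bc] at h1
    rw [h1]
    exact hle (hmem a ha)
  obtain ⟨q'', hle'', hq''⟩ := RigClosed.exists_rigClosed_ge _ _ q'.asIdeal hKq'
  have F0 := hA'B' ψ' hψ'c q'' hq''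
  have F1 := flat_comp_of_le ψ' q'.asIdeal q''.asIdeal hle'' F0
  have F2 : (((algebraMap B'c (Localization.AtPrime q'.asIdeal)).comp ψ').comp α).Flat :=
    RingHom.Flat.comp hαflat F1
  set ν := Localization.localRingHom qf.asIdeal q'.asIdeal β hq'comap.symm with hν
  have hνflat : ν.Flat := RingHom.Flat.localRingHom hβff.flat _ _ hq'comap.symm
  have hνff : ν.FaithfullyFlat := faithfullyFlat_of_flat_of_isLocalHom ν hνflat
  have hfinal : ν.comp ((algebraMap Bc (Localization.AtPrime qf.asIdeal)).comp ψf) =
      ((algebraMap B'c (Localization.AtPrime q'.asIdeal)).comp ψ').comp α := by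
    rw [RingHom.comp_assoc, hcomm]
    refine RingHom.ext fun x => ?_
    simp only [RingHom.comp_apply]
    rw [Localization.localRingHom_to_map]
  exact flat_of_comp_faithfullyFlat _ ν (hfinal ▸ F2) hνff

end Descent

theorem main8844 (A : Type u) [CommRing A] [IsNoetherianRing A] (I : Ideal A) [IsAdicComplete I A] (B : Type u) [CommRing B] [Algebra A B] [IsNoetherianRing B] [IsAdicComplete (I.map (algebraMap A B)) B] (hftB : Algebra.FiniteType A (B ⧸ (I.map (algebraMap A B)))) (A' : Type u) [CommRing A'] [Algebra A A'] [IsNoetherianRing A'] [IsAdicComplete (I.map (algebraMap A A')) A'] (hftA' : Algebra.FiniteType A (A' ⧸ (I.map (algebraMap A A')))) (B' : Type u) [CommRing B'] [Algebra A B'] [Algebra B B'] [Algebra A' B'] [IsScalarTower A B B'] [IsScalarTower A A' B'] [IsNoetherianRing B'] [IsAdicComplete (I.map (algebraMap A B')) B'] (hftB'B : Algebra.FiniteType B (B' ⧸ (I.map (algebraMap A B')))) (hftB'A' : Algebra.FiniteType A' (B' ⧸ (I.map (algebraMap A B')))) [Module.Flat A A'] [Module.FaithfullyFlat B B'] (hA'B' : (∀ f' : A', ∀ ψf' : (AdicCompletion ((I.map (algebraMap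 A A')).map (algebraMap A' (Localization.Away f'))) (Localization.Away f')) →+* (AdicCompletion (((I.map (algebraMap A A')).map (algebraMap A' B')).map (algebraMap B' (Localization.Away (algebraMap A' B' f')))) (Localization.Away (algebraMap A' B' f'))), ψf'.comp (algebraMap (Localization.Away f') (AdicCompletion ((I.map (algebraMap A A')).map (algebraMap A' (Localization.Away f'))) (Localization.Away f'))) = (algebraMap (Localization.Away (algebraMap A' B' f')) (AdicCompletion (((I.map (algebraMap A A')).map (algebraMap A' B')).map (algebraMap B' (Localization.Away (algebraMap A' B' f')))) (Localization.Away (algebraMap A' B' f')))).comp (Localization.awayMap (algebraMap A' B') f') → ∀ qf' : PrimeSpectrum (AdicCompletion (((I.map (algebraMap A A')).map (algebraMap A' B')).map (algebraMap B' (Localization.Away (algebraMap A' B' f')))) (Localization.Away (algebraMap A' B' f'))), (¬ ((((I.map (algebraMap A A')).map (algebraMap A' B')).map (algebraMap B' (Localization.Away (algebraMap A' B' f')))).map (algebraMap (Localization.Away (algebraMap A' B' f')) (AdicCompletion (((I.map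 (algebraMap A A')).map (algebraMap A' B')).map (algebraMap B' (Localization.Away (algebraMap A' B' f')))) (Localization.Away (algebraMap A' B' f'))))) ≤ qf'.asIdeal ∧ ∀ y : PrimeSpectrum (AdicCompletion (((I.map (algebraMap A A')).map (algebraMap A' B')).map (algebraMap B' (Localization.Away (algebraMap A' B' f')))) (Localization.Away (algebraMap A' B' f'))), qf' ≤ y → ¬ ((((I.map (algebraMap A A')).map (algebraMap A' B')).map (algebraMap B' (Localization.Away (algebraMap A' B' f')))).map (algebraMap (Localization.Away (algebraMap A' B' f')) (AdicCompletion (((I.map (algebraMap A A')).map (algebraMap A' B')).map (algebraMap B' (Localization.Away (algebraMap A' B' f')))) (Localization.Away (algebraMap A' B' f'))))) ≤ y.asIdeal → y = qf') → ((algebraMap (AdicCompletion (((I.map (algebraMap A A')).map (algebraMap A' B')).map (algebraMap B' (Localization.Away (algebraMap A' B' f')))) (Localization.Away (algebraMap A' B' f'))) (Localization.AtPrime qf'.asIdeal)).comp ψf').Flat)) : (∀ f : A, ∀ ψf : (AdicCompletion (I.map (algebraMap A (Localization.Away f))) (Localization.Away f))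 →+* (AdicCompletion ((I.map (algebraMap A B)).map (algebraMap B (Localization.Away (algebraMap A B f)))) (Localization.Away (algebraMap A B f))), ψf.comp (algebraMap (Localization.Away f) (AdicCompletion (I.map (algebraMap A (Localization.Away f))) (Localization.Away f))) = (algebraMap (Localization.Away (algebraMap A B f)) (AdicCompletion ((I.map (algebraMap A B)).map (algebraMap B (Localization.Away (algebraMap A B f)))) (Localization.Away (algebraMap A B f)))).comp (Localization.awayMap (algebraMap A B) f) → ∀ qf : PrimeSpectrum (AdicCompletion ((I.map (algebraMap A B)).map (algebraMap B (Localization.Away (algebraMap A B f)))) (Localization.Away (algebraMap A B f))), (¬ (((I.map (algebraMap A B)).map (algebraMap B (Localization.Away (algebraMap A B f)))).map (algebraMap (Localization.Away (algebraMap A B f)) (AdicCompletion ((I.map (algebraMap A B)).map (algebraMap B (Localization.Away (algebraMap A B f)))) (Localization.Away (algebraMap A B f))))) ≤ qf.asIdeal ∧ ∀ y : PrimeSpectrum (AdicCompletion ((I.map (algebraMap A B)).map (algebraMap B (Localization.Away (algebraMap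 A B f)))) (Localization.Away (algebraMap A B f))), qf ≤ y → ¬ (((I.map (algebraMap A B)).map (algebraMap B (Localization.Away (algebraMap A B f)))).map (algebraMap (Localization.Away (algebraMap A B f)) (AdicCompletion ((I.map (algebraMap A B)).map (algebraMap B (Localization.Away (algebraMap A B f)))) (Localization.Away (algebraMap A B f))))) ≤ y.asIdeal → y = qf) → ((algebraMap (AdicCompletion ((I.map (algebraMap A B)).map (algebraMap B (Localization.Away (algebraMap A B f)))) (Localization.Away (algebraMap A B f))) (Localization.AtPrime qf.asIdeal)).comp ψf).Flat) := by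
  intro f ψf hψf qf hqf
  exact core8844 A I B A' B' f (hA'B' (algebraMap A A' f)) ψf hψf qf hqf

end Groth.Agent.Helper3.RigFlat
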