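import Mathlib

set_option autoImplicit false

universe u

namespace Groth.Agent.Helper3.RigFlat

/-- A field `κ` of finite type over a ring `A`: after inverting one element `f` of `A`
(nonzero in `κ`), `κ` becomes finite; in elementary terms. -/
theorem exists_finite_away_of_field (A : Type u) [CommRing A] (κ : Type u) [Field κ] [Algebra A κ]
    [Algebra.FiniteType A κ] :
    ∃ f : A, algebraMap A κ f ≠ 0 ∧ ∃ t : Finset κ, ∀ x : κ, ∃ k : ℕ,
      (f ^ k) • x ∈ Submodule.span A (t : Set κ) := by
  classical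
  set n : Ideal A := RingHom.ker (algebraMap A κ) with hn
  haveI : n.IsPrime := RingHom.ker_isPrime _
  -- the domain D = A/n and its fraction field
  letI : Algebra (A ⧸ n) κ := (RingHom.kerLift (algebraMap A κ)).toAlgebra
  haveI : IsScalarTower A (A ⧸ n) κ := IsScalarTower.of_algebraMap_eq (fun x => rfl)
  have hinj : Function.Injective (algebraMap (A ⧸ n) κ) := RingHom.kerLift_injective _
  haveI : FaithfulSMul (A ⧸ n) κ := (faithfulSMul_iff_algebraMap_injective _ _).mpr hinj
  letI : Algebra (FractionRing (A ⧸ n)) κ := (IsFractionRing.lift hinj).toAlgebra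
  haveI : IsScalarTower (A ⧸ n) (FractionRing (A ⧸ n)) κ :=
    IsScalarTower.of_algebraMap_eq (fun x => (IsFractionRing.lift_algebraMap hinj x).symm)
  haveI : IsScalarTower A (FractionRing (A ⧸ n)) κ :=
    IsScalarTower.of_algebraMap_eq (fun x => by
      rw [IsScalarTower.algebraMap_apply A (A ⧸ n) (FractionRing (A ⧸ n)),
        ← IsScalarTower.algebraMap_apply (A ⧸ n) (FractionRing (A ⧸ n)) κ,
        ← IsScalarTower.algebraMap_apply A (A ⧸ n) κ])
  haveI : Algebra.FiniteType (FractionRing (A ⧸ n)) κ :=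
    Algebra.FiniteType.of_restrictScalars_finiteType A _ _
  haveI : Module.Finite (FractionRing (A ⧸ n)) κ := finite_of_finite_type_of_isJacobsonRing _ _
  haveI : Algebra.IsIntegral A (A ⧸ n) :=
    Algebra.isIntegral_of_surjective Ideal.Quotient.mk_surjective
  -- each element has an integral multiple
  have hmult : ∀ x : κ, ∃ a : A, algebraMap A κ a ≠ 0 ∧ IsIntegral A (a • x) := by
    intro x
    have h1 : IsIntegral (FractionRing (A ⧸ n)) x := Algebra.IsIntegral.isIntegral x
    have h2 : IsAlgebraic (A ⧸ n) x :=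
      (IsFractionRing.isAlgebraic_iff (A ⧸ n) (FractionRing (A ⧸ n)) κ).mpr h1.isAlgebraic
    obtain ⟨y, hy0, hy⟩ := h2.exists_integral_multiple
    obtain ⟨a, rfl⟩ := Ideal.Quotient.mk_surjective y
    refine ⟨a, ?_, ?_⟩
    · intro h0
      apply hy0
      rw [Ideal.Quotient.eq_zero_iff_mem]
      exact h0
    · have h3 : IsIntegral A ((Ideal.Quotient.mk n a) • x) := isIntegral_trans _ hy
      have h4 : (Ideal.Quotient.mk n a) • x = a • x := by
        rw [Algebra.smul_def, Algebra.smul_def]
        rfl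
      rwa [h4] at h3
  choose a ha0 haint using hmult
  obtain ⟨s, hs⟩ := (Algebra.FiniteType.out : (⊤ : Subalgebra A κ).FG)
  set f : A := ∏ x ∈ s, a x with hf
  have hf0 : algebraMap A κ f ≠ 0 := by
    rw [hf, map_prod]
    exact Finset.prod_ne_zero_iff.mpr (fun x _ => ha0 x)
  have hfint : ∀ x ∈ s, IsIntegral A (f • x) := by
    intro x hx
    have h1 : f = (∏ y ∈ s.erase x, a y) * a x := by
      rw [hf, ← Finset.mul_prod_erase s a hx, mul_comm]
    rw [h1, mul_smul]
    exact (haint x).smul _
  set A' : Subalgebra A κ := Algebra.adjoin A ((fun x => f • x) '' (s : Set κ)) with hA'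
  have hA'fg : A'.toSubmodule.FG := by
    apply fg_adjoin_of_finite (s.finite_toSet.image _)
    rintro _ ⟨x, hx, rfl⟩
    exact hfint x hx
  obtain ⟨t, ht⟩ := hA'fg
  refine ⟨f, hf0, t, ?_⟩
  rw [ht]
  have key : ∀ x ∈ Algebra.adjoin A (s : Set κ), ∃ k : ℕ, (f ^ k) • x ∈ A' := by
    intro x hx
    induction hx using Algebra.adjoin_induction with
    | mem x hx =>
      refine ⟨1, ?_⟩
      rw [pow_one]
      exact Algebra.subset_adjoin ⟨x, hx, rfl⟩
    | algebraMap r =>
      refine ⟨0, ?_⟩
      rw [pow_zero, one_smul]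
      exact Subalgebra.algebraMap_mem _ r
    | add x y _ _ hx hy =>
      obtain ⟨k1, h1⟩ := hx
      obtain ⟨k2, h2⟩ := hy
      refine ⟨k1 + k2, ?_⟩
      rw [smul_add]
      apply Subalgebra.add_mem
      · rw [add_comm, pow_add, mul_smul]
        exact Subalgebra.smul_mem _ h1 _
      · rw [pow_add, mul_smul]
        exact Subalgebra.smul_mem _ h2 _
    | mul x y _ _ hx hy =>
      obtain ⟨k1, h1⟩ := hx
      obtain ⟨k2, h2⟩ := hy
      refine ⟨k1 + k2, ?_⟩
      have : (f ^ (k1 + k2)) • (x * y) = ((f ^ k1) • x) * ((f ^ k2) • y) := by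
        rw [pow_add, smul_mul_smul_comm]
      rw [this]
      exact Subalgebra.mul_mem _ h1 h2
  intro x
  have hx : x ∈ Algebra.adjoin A (s : Set κ) := by
    rw [hs]
    exact Algebra.mem_top
  exact key x hx

end Groth.Agent.Helper3.RigFlat
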