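import Mathlib
import Groth.Agent.Lib.Helper3.RigFlat
import Groth.Agent.Lib.Helper3.RigFlat4a
import Groth.Agent.Lib.Helper5.RigPrime

set_option autoImplicit false

universe u

namespace Groth.Agent.Helper3.RigFlat

open Groth.Agent.Helper17.AR Groth.Agent.Helper3.RigClosed

section Core40

variable (A : Type u) [CommRing A] [IsNoetherianRing A] (I : Ideal A) [IsAdicComplete I A]
  (B : Type u) [CommRing B] [Algebra A B] [IsNoetherianRing B] (K : Ideal B) [IsAdicComplete K B]
  (f : A) (g : B)

local notation "Af" => Localization.Away f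
local notation "Bg" => Localization.Away g
local notation "A'" => AdicCompletion (Ideal.map (algebraMap A (Localization.Away f)) I)
  (Localization.Away f)
local notation "B'" => AdicCompletion (Ideal.map (algebraMap B (Localization.Away g)) K)
  (Localization.Away g)

theorem core8840 (hKI : K = I.map (algebraMap A B))
    (q : Ideal B) [q.IsPrime] (hK : ¬ K ≤ q)
    (hmax : ∀ P : Ideal B, P.IsPrime → q ≤ P → ¬ K ≤ P → P = q)
    (m : Ideal B) (hm : m.IsMaximal) (hqm : q ≤ m)
    (hloc : ∀ m1 : Ideal B, m1.IsMaximal → q ≤ m1 → m1 = m)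
    (hgu : IsUnit (Ideal.Quotient.mk q g))
    (t : Finset (B ⧸ m))
    (ht : ∀ x : B ⧸ m, ∃ k : ℕ, (f ^ k) • x ∈ Submodule.span A (t : Set (B ⧸ m)))
    (ψ : A' →+* B')
    (hcompat : ∀ a : A, ψ (algebraMap A A' a) = algebraMap B B' (algebraMap A B a)) :
    ((q.map (algebraMap B B')).comap ψ).IsPrime ∧
    ¬ I.map (algebraMap A A') ≤ (q.map (algebraMap B B')).comap ψ ∧
    ∀ y : PrimeSpectrum A', (q.map (algebraMap B B')).comap ψ ≤ y.asIdeal →
      ¬ I.map (algebraMap A A') ≤ y.asIdeal → y.asIdeal = (q.map (algebraMap B B')).comap ψ := by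
  classical
  obtain ⟨hQprime, hbij⟩ := ComplLocPrime.main B K q g hgu
  set Q : Ideal B' := q.map (algebraMap B B') with hQ
  haveI := hQprime
  haveI hcB : IsAdicComplete (K.map (algebraMap B B')) B' := complete_compl B K g
  haveI hcA : IsAdicComplete (I.map (algebraMap A A')) A' := complete_compl A I f
  -- Q is rig-closed
  have hqQ : ∀ b : B, algebraMap B B' b ∈ Q → b ∈ q := by
    intro b hb
    have h1 : Ideal.quotientMap Q (algebraMap B B') Ideal.le_comap_map (Ideal.Quotient.mk q b) = 0 := by
      rw [Ideal.quotientMap_mk]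
      exact Ideal.Quotient.eq_zero_iff_mem.mpr hb
    have h2 := hbij.1 (h1.trans (map_zero _).symm)
    exact Ideal.Quotient.eq_zero_iff_mem.mp h2
  have hsurjQ : ∀ x : B', ∃ b : B, x - algebraMap B B' b ∈ Q := by
    intro x
    obtain ⟨y, hy⟩ := hbij.2 (Ideal.Quotient.mk Q x)
    obtain ⟨b, rfl⟩ := Ideal.Quotient.mk_surjective y
    refine ⟨b, ?_⟩
    rw [Ideal.quotientMap_mk] at hy
    rw [← Ideal.Quotient.eq, hy]
  have hKQ : ¬ K.map (algebraMap B B') ≤ Q := by
    intro hle
    apply hK
    intro b hb
    exact hqQ b (hle (Ideal.mem_map_of_mem _ hb))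
  have hmaxQ : ∀ P : Ideal B', P.IsPrime → Q ≤ P → ¬ K.map (algebraMap B B') ≤ P → P = Q := by
    intro P hP hQP hKP
    set P0 := P.comap (algebraMap B B') with hP0
    haveI : P0.IsPrime := Ideal.comap_isPrime _ _
    have h1 : q ≤ P0 := fun b hb => hQP (Ideal.mem_map_of_mem _ hb)
    have h2 : ¬ K ≤ P0 := fun hle => hKP (Ideal.map_le_iff_le_comap.mpr hle)
    have h3 : P0 = q := hmax P0 inferInstance h1 h2
    apply le_antisymm _ hQP
    intro x hx
    obtain ⟨b, hb⟩ := hsurjQ x
    have h4 : algebraMap B B' b ∈ P := by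
      have := P.sub_mem hx (hQP hb)
      rwa [sub_sub_cancel] at this
    have h5 : b ∈ q := by
      rw [← h3]
      exact h4
    have := Q.add_mem hb (Ideal.mem_map_of_mem (algebraMap B B') h5)
    rwa [sub_add_cancel] at this
  -- the algebra structure via ψ
  letI : Algebra A' B' := ψ.toAlgebra
  have halg : ∀ c : A', algebraMap A' B' c = ψ c := fun c => rfl
  have hmapeq : (I.map (algebraMap A A')).map (algebraMap A' B') = K.map (algebraMap B B') := by
    have h0 : (algebraMap A' B').comp (algebraMap A A') =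
        (algebraMap B B').comp (algebraMap A B) := RingHom.ext fun a => hcompat a
    rw [Ideal.map_map, h0, ← Ideal.map_map, ← hKI]
  haveI : IsAdicComplete ((I.map (algebraMap A A')).map (algebraMap A' B')) B' := by
    rw [hmapeq]
    exact hcB
  have hKQ' : ¬ (I.map (algebraMap A A')).map (algebraMap A' B') ≤ Q := by
    rw [hmapeq]
    exact hKQ
  have hmaxQ' : ∀ P : Ideal B', P.IsPrime → Q ≤ P →
      ¬ (I.map (algebraMap A A')).map (algebraMap A' B') ≤ P → P = Q := by
    rw [hmapeq]
    exact hmaxQ
  -- finiteness of residue fields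
  have h1 : ∀ M : Ideal B', M.IsMaximal → Q ≤ M → Module.Finite A' (B' ⧸ M) := by
    intro M hM hQM
    haveI := hM.isPrime
    set m' := M.comap (algebraMap B B') with hm'
    haveI : m'.IsPrime := Ideal.comap_isPrime _ _
    have hqm' : q ≤ m' := fun b hb => hQM (Ideal.mem_map_of_mem _ hb)
    have hKM : K.map (algebraMap B B') ≤ M := map_le_of_isMaximal B K B' M hM
    have hKm' : K ≤ m' := Ideal.map_le_iff_le_comap.mp hKM
    have hlt : q < m' := lt_of_le_of_ne hqm' (fun h => hK (h ▸ hKm'))
    have hm'max : m'.IsMaximal := isMaximal_of_lt K q hK hmax m' hlt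
    have hm'm : m' = m := hloc m' hm'max hqm'
    have hmle : m ≤ M.comap (algebraMap B B') := hm'm ▸ le_rfl
    let ι : B ⧸ m →+* B' ⧸ M := Ideal.quotientMap M (algebraMap B B') hmle
    have hιsurj : Function.Surjective ι := by
      intro y
      obtain ⟨x, rfl⟩ := Ideal.Quotient.mk_surjective y
      obtain ⟨b, hb⟩ := hsurjQ x
      refine ⟨Ideal.Quotient.mk m b, ?_⟩
      rw [Ideal.quotientMap_mk]
      symm
      rw [Ideal.Quotient.eq]
      exact hQM hb
    have hιsmul : ∀ (a : A) (z : B ⧸ m), ι (a • z) = (algebraMap A A' a) • ι z := by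
      intro a z
      rw [Algebra.smul_def, map_mul, Algebra.smul_def]
      congr 1
      change ι (Ideal.Quotient.mk m (algebraMap A B a)) =
        Ideal.Quotient.mk M (ψ (algebraMap A A' a))
      rw [Ideal.quotientMap_mk, hcompat]
    have hspan : ∀ z ∈ Submodule.span A (t : Set (B ⧸ m)),
        ι z ∈ Submodule.span A' ((t.image ι : Finset (B' ⧸ M)) : Set (B' ⧸ M)) := by
      intro z hz
      induction hz using Submodule.span_induction with
      | mem z hz =>
        apply Submodule.subset_span
        rw [Finset.coe_image]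
        exact ⟨z, hz, rfl⟩
      | zero => rw [map_zero]; exact Submodule.zero_mem _
      | add x y _ _ hx hy => rw [map_add]; exact Submodule.add_mem _ hx hy
      | smul a x _ hx => rw [hιsmul]; exact Submodule.smul_mem _ _ hx
    have hu : IsUnit (algebraMap A A' f) := isUnit_compl A I f
    refine ⟨t.image ι, ?_⟩
    rw [eq_top_iff]
    intro y _
    obtain ⟨x0, rfl⟩ := hιsurj y
    obtain ⟨k, hk⟩ := ht x0
    have h2 := hspan _ hk
    have h3 : ι ((f ^ k) • x0) = (algebraMap A A' f) ^ k • ι x0 := by rw [hιsmul, map_pow]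
    rw [h3] at h2
    obtain ⟨u, hu'⟩ := hu.pow k
    have h4 := Submodule.smul_mem _ (↑u⁻¹ : A') h2
    rw [← hu', smul_smul, Units.inv_mul, one_smul] at h4
    exact h4
  have hfin : Module.Finite A' (B' ⧸ Q) :=
    finite_quot_of_finite_residue A' (I.map (algebraMap A A')) B' Q hKQ' hmaxQ' h1
  obtain ⟨hr1, hr2⟩ := rigClosed_comap_of_finite A' (I.map (algebraMap A A')) B' Q hKQ' hmaxQ' hfin
  refine ⟨Ideal.comap_isPrime _ _, hr1, ?_⟩
  intro y hle hy
  exact hr2 y.asIdeal y.2 hle hy

end Core40

theorem main8840 (A : Type u) [CommRing A] [IsNoetherianRing A] (I : Ideal A) [IsAdicComplete I A] (B : Type u) [CommRing B] [Algebra A B] [IsNoetherianRing B] [IsAdicComplete (I.map (algebraMap A B)) B] (hft : Algebra.FiniteType A (B ⧸ (I.map (algebraMap A B)))) (q : PrimeSpectrum B) (hq : (¬ (I.map (algebraMap A B)) ≤ q.asIdeal ∧ ∀ y : PrimeSpectrum B, q ≤ y → ¬ (I.map (algebraMap A B)) ≤ y.asIdeal → y = q)) : ∃ f : A, IsUnit (Ideal.Quotient.mk q.asIdeal (algebraMap A B f)) ∧ ∀ ψ : (AdicCompletion (I.map (algebraMap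 A (Localization.Away f))) (Localization.Away f)) →+* (AdicCompletion ((I.map (algebraMap A B)).map (algebraMap B (Localization.Away (algebraMap A B f)))) (Localization.Away (algebraMap A B f))), ψ.comp (algebraMap (Localization.Away f) (AdicCompletion (I.map (algebraMap A (Localization.Away f))) (Localization.Away f))) = (algebraMap (Localization.Away (algebraMap A B f)) (AdicCompletion ((I.map (algebraMap A B)).map (algebraMap B (Localization.Away (algebraMap A B f)))) (Localization.Away (algebraMap A B f)))).comp (Localization.awayMap (algebraMap A B) f) → (((q.asIdeal.map (algebraMap B (AdicCompletion ((I.map (algebraMap A B)).map (algebraMap B (Localization.Away (algebraMap A B f)))) (Localization.Away (algebraMap A B f))))).comap ψ).IsPrime ∧ ¬ (I.map (algebraMap A (AdicCompletion (I.map (algebraMap A (Localization.Away f))) (Localization.Away f)))) ≤ ((q.asIdeal.map (algebraMap B (AdicCompletion ((I.map (algebraMap A B)).map (algebraMap B (Localization.Away (algebraMap A B f)))) (Localization.Away (algebraMap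 A B f))))).comap ψ) ∧ ∀ y : PrimeSpectrum (AdicCompletion (I.map (algebraMap A (Localization.Away f))) (Localization.Away f)), ((q.asIdeal.map (algebraMap B (AdicCompletion ((I.map (algebraMap A B)).map (algebraMap B (Localization.Away (algebraMap A B f)))) (Localization.Away (algebraMap A B f))))).comap ψ) ≤ y.asIdeal → ¬ (I.map (algebraMap A (AdicCompletion (I.map (algebraMap A (Localization.Away f))) (Localization.Away f)))) ≤ y.asIdeal → y.asIdeal = ((q.asIdeal.map (algebraMap B (AdicCompletion ((I.map (algebraMap A B)).map (algebraMap B (Localization.Away (algebraMap A B f)))) (Localization.Away (algebraMap A B f))))).comap ψ)) := by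
  have hmax : ∀ P : Ideal B, P.IsPrime → q.asIdeal ≤ P → ¬ I.map (algebraMap A B) ≤ P →
      P = q.asIdeal := by
    intro P hP hle hKP
    exact congrArg PrimeSpectrum.asIdeal (hq.2 ⟨P, hP⟩ hle hKP)
  -- B/q is local
  haveI : IsAdicComplete ((I.map (algebraMap A B)).map (Ideal.Quotient.mk q.asIdeal))
      (B ⧸ q.asIdeal) := ComplLocPrime.isAdicComplete_quotient (I.map (algebraMap A B)) q.asIdeal
  have hmaxD : ∀ p : Ideal (B ⧸ q.asIdeal), p.IsPrime →
      (I.map (algebraMap A B)).map (Ideal.Quotient.mk q.asIdeal) ≤ p → p.IsMaximal := by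
    intro p hp hJp
    set P := p.comap (Ideal.Quotient.mk q.asIdeal) with hP
    haveI : P.IsPrime := Ideal.comap_isPrime _ _
    have hqP : q.asIdeal ≤ P := by
      intro x hx
      rw [hP, Ideal.mem_comap, Ideal.Quotient.eq_zero_iff_mem.mpr hx]
      exact zero_mem _
    have hKP : I.map (algebraMap A B) ≤ P := Ideal.map_le_iff_le_comap.mp hJp
    have hlt : q.asIdeal < P := lt_of_le_of_ne hqP (fun h => hq.1 (h ▸ hKP))
    have hPmax : P.IsMaximal := isMaximal_of_lt (I.map (algebraMap A B)) q.asIdeal hq.1 hmax P hlt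
    have : p = P.map (Ideal.Quotient.mk q.asIdeal) := by
      rw [hP, Ideal.map_comap_of_surjective _ Ideal.Quotient.mk_surjective]
    rw [this]
    exact (Ideal.map_eq_top_or_isMaximal_of_surjective _ Ideal.Quotient.mk_surjective
      hPmax).resolve_left (by rw [← this]; exact hp.ne_top)
  haveI hloc : IsLocalRing (B ⧸ q.asIdeal) :=
    Groth.Agent.Helper5.RigPrime.isLocalRing_of_complete_domain _ hmaxD
  set m : Ideal B := (IsLocalRing.maximalIdeal (B ⧸ q.asIdeal)).comap
    (Ideal.Quotient.mk q.asIdeal) with hm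
  haveI hmmax : m.IsMaximal := Ideal.comap_isMaximal_of_surjective _ Ideal.Quotient.mk_surjective
  have hqm : q.asIdeal ≤ m := by
    intro x hx
    rw [hm, Ideal.mem_comap, Ideal.Quotient.eq_zero_iff_mem.mpr hx]
    exact zero_mem _
  have hlocm : ∀ m1 : Ideal B, m1.IsMaximal → q.asIdeal ≤ m1 → m1 = m := by
    intro m1 hm1 hqm1
    have h1 : (m1.map (Ideal.Quotient.mk q.asIdeal)).IsMaximal := by
      refine (Ideal.map_eq_top_or_isMaximal_of_surjective _ Ideal.Quotient.mk_surjective
        hm1).resolve_left ?_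
      intro htop
      have h2 := congrArg (Ideal.comap (Ideal.Quotient.mk q.asIdeal)) htop
      rw [Ideal.comap_map_of_surjective' _ Ideal.Quotient.mk_surjective, Ideal.mk_ker,
        Ideal.comap_top, sup_eq_left.mpr hqm1] at h2
      exact hm1.ne_top h2
    have h3 := IsLocalRing.eq_maximalIdeal h1
    have h4 := congrArg (Ideal.comap (Ideal.Quotient.mk q.asIdeal)) h3
    rw [Ideal.comap_map_of_surjective' _ Ideal.Quotient.mk_surjective, Ideal.mk_ker,
      sup_eq_left.mpr hqm1] at h4
    exact h4
  have hKm : I.map (algebraMap A B) ≤ m := map_le_of_isMaximal A I B m hmmax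
  letI : Field (B ⧸ m) := Ideal.Quotient.field m
  haveI : Algebra.FiniteType A (B ⧸ m) :=
    Algebra.FiniteType.of_surjective (Ideal.Quotient.factorₐ A hKm)
      (Ideal.Quotient.factor_surjective hKm)
  obtain ⟨f, hf0, t, ht⟩ := exists_finite_away_of_field A (B ⧸ m)
  have hgm : algebraMap A B f ∉ m := by
    intro h
    apply hf0
    exact Ideal.Quotient.eq_zero_iff_mem.mpr h
  have hgu : IsUnit (Ideal.Quotient.mk q.asIdeal (algebraMap A B f)) := by
    by_contra hnu
    apply hgm
    rw [hm, Ideal.mem_comap]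
    exact (IsLocalRing.mem_maximalIdeal _).mpr hnu
  refine ⟨f, hgu, ?_⟩
  intro ψ hψ
  have hcompat : ∀ a : A, ψ (algebraMap A _ a) = algebraMap B _ (algebraMap A B a) := by
    intro a
    have h := RingHom.congr_fun hψ (algebraMap A (Localization.Away f) a)
    rw [RingHom.comp_apply, RingHom.comp_apply, Localization.awayMap, IsLocalization.Away.map,
      IsLocalization.map_eq] at h
    exact h
  exact core8840 A I B (I.map (algebraMap A B)) f (algebraMap A B f) rfl q.asIdeal hq.1 hmax m
    hmmax hqm hlocm hgu t ht ψ hcompat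

end Groth.Agent.Helper3.RigFlat
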