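import Mathlib

set_option autoImplicit false

universe u

namespace Groth.Agent.Helper3.RigFlat

/-- If `R/𝔞` is a finite `A`-module then so is `R/𝔞^m`. -/
theorem finite_quot_pow (A : Type u) [CommRing A] [IsNoetherianRing A] (R : Type u) [CommRing R]
    [Algebra A R] [IsNoetherianRing R] (𝔞 : Ideal R) [hfin : Module.Finite A (R ⧸ 𝔞)] (m : ℕ) :
    Module.Finite A (R ⧸ 𝔞 ^ m) := by
  classical
  induction m with
  | zero =>
    rw [pow_zero, Ideal.one_eq_top]
    haveI : Subsingleton (R ⧸ (⊤ : Ideal R)) := Ideal.Quotient.subsingleton_iff.mpr rfl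
    exact Module.Finite.of_finite
  | succ m ih =>
    have hle : 𝔞 ^ (m + 1) ≤ 𝔞 ^ m := Ideal.pow_le_pow_right (Nat.le_succ m)
    set π : (R ⧸ 𝔞 ^ (m + 1)) →ₗ[A] (R ⧸ 𝔞 ^ m) := (Ideal.Quotient.factorₐ A hle).toLinearMap
      with hπ
    have hπsurj : Function.Surjective π := Ideal.Quotient.factor_surjective hle
    obtain ⟨G, hG⟩ := (IsNoetherian.noetherian (𝔞 ^ m) : (𝔞 ^ m).FG)
    obtain ⟨E, hE⟩ := hfin.fg_top
    have hlift : ∀ y : R ⧸ 𝔞, ∃ x : R, Ideal.Quotient.mk 𝔞 x = y := Ideal.Quotient.mk_surjective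
    choose lift hliftspec using hlift
    set S : Finset (R ⧸ 𝔞 ^ (m + 1)) :=
      (E ×ˢ G).image (fun p => Ideal.Quotient.mk (𝔞 ^ (m + 1)) (lift p.1 * p.2)) with hS
    set T : Submodule A (R ⧸ 𝔞 ^ (m + 1)) := Submodule.span A (S : Set (R ⧸ 𝔞 ^ (m + 1))) with hT
    have hcg : ∀ (c : R) (g : R), g ∈ G → Ideal.Quotient.mk (𝔞 ^ (m + 1)) (c * g) ∈ T := by
      intro c g hg
      have h1 : (Ideal.Quotient.mk 𝔞 c) ∈ Submodule.span A (E : Set (R ⧸ 𝔞)) := by
        rw [hE]; exact Submodule.mem_top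
      obtain ⟨a, ha⟩ := Submodule.mem_span_finset'.mp h1
      set c' : R := ∑ e : E, a e • lift e.1 with hc'
      have h2 : Ideal.Quotient.mk 𝔞 c' = Ideal.Quotient.mk 𝔞 c := by
        rw [hc', map_sum, ← ha]
        apply Finset.sum_congr rfl
        intro e _
        rw [Algebra.smul_def, map_mul, hliftspec, Algebra.smul_def]
        rfl
      have h3 : c - c' ∈ 𝔞 := by
        rw [← Ideal.Quotient.eq, h2]
      have hgm : g ∈ 𝔞 ^ m := by
        rw [← hG]
        exact Submodule.subset_span hg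
      have h4 : (c - c') * g ∈ 𝔞 ^ (m + 1) := by
        rw [pow_succ']
        exact Ideal.mul_mem_mul h3 hgm
      have h5 : Ideal.Quotient.mk (𝔞 ^ (m + 1)) (c * g) =
          Ideal.Quotient.mk (𝔞 ^ (m + 1)) (c' * g) := by
        rw [Ideal.Quotient.eq, ← sub_mul]
        exact h4
      rw [h5, hc', Finset.sum_mul, map_sum]
      apply Submodule.sum_mem
      intro e _
      have h6 : Ideal.Quotient.mk (𝔞 ^ (m + 1)) (a e • lift e.1 * g) =
          a e • Ideal.Quotient.mk (𝔞 ^ (m + 1)) (lift e.1 * g) := by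
        rw [smul_mul_assoc]
        rfl
      rw [h6]
      apply Submodule.smul_mem
      apply Submodule.subset_span
      rw [hS, Finset.coe_image]
      exact ⟨(e.1, g), Finset.mem_coe.mpr (Finset.mem_product.mpr ⟨e.2, hg⟩), rfl⟩
    have hker : LinearMap.ker π ≤ T := by
      intro y hy
      obtain ⟨x, rfl⟩ := Ideal.Quotient.mk_surjective y
      have hx : x ∈ 𝔞 ^ m := by
        rw [LinearMap.mem_ker] at hy
        have : π (Ideal.Quotient.mk (𝔞 ^ (m + 1)) x) = Ideal.Quotient.mk (𝔞 ^ m) x := rfl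
        rw [this] at hy
        exact Ideal.Quotient.eq_zero_iff_mem.mp hy
      rw [← hG] at hx
      obtain ⟨c, hc⟩ := Submodule.mem_span_finset'.mp hx
      rw [← hc, map_sum]
      apply Submodule.sum_mem
      intro g _
      rw [smul_eq_mul]
      exact hcg (c g) g.1 g.2
    haveI : IsNoetherian A T := isNoetherian_span_of_finite A S.finite_toSet
    haveI : Module.Finite A (LinearMap.ker π) := by
      have h1 : Module.Finite A (Submodule.comap T.subtype (LinearMap.ker π)) :=
        Module.Finite.of_injective (Submodule.subtype _) (Submodule.injective_subtype _)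
      exact Module.Finite.equiv (Submodule.comapSubtypeEquivOfLe hker)
    haveI : Module.Finite A ((R ⧸ 𝔞 ^ (m + 1)) ⧸ LinearMap.ker π) :=
      Module.Finite.equiv (LinearMap.quotKerEquivOfSurjective π hπsurj).symm
    exact Module.Finite.of_submodule_quotient (LinearMap.ker π)

end Groth.Agent.Helper3.RigFlat
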