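import Mathlib
import Groth.Agent.Lib.Helper3.RigClosed
import Groth.Agent.Lib.Helper3.ComplLocPrime

set_option autoImplicit false

universe u

namespace Groth.Agent.Helper3.RigFlat

open Groth.Agent.Helper17.AR Groth.Agent.Helper3.RigClosed

section G

variable (A : Type u) [CommRing A] [IsNoetherianRing A] (I : Ideal A) [IsAdicComplete I A]
  (P : Type u) [CommRing P] [Algebra A P] [IsNoetherianRing P]
  (𝔞 : Ideal P) [Module.Finite A (P ⧸ 𝔞)]

local notation "J" => Ideal.map (algebraMap A P) I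
local notation "B" => AdicCompletion (Ideal.map (algebraMap A P) I) P

omit [IsNoetherianRing P] in
lemma mk_mem_smul_top_of_mem_map (k : ℕ) (j : P) (hj : j ∈ (I ^ k).map (algebraMap A P)) :
    Ideal.Quotient.mk 𝔞 j ∈ (I ^ k • ⊤ : Submodule A (P ⧸ 𝔞)) := by
  have h1 : j ∈ (I ^ k • ⊤ : Submodule A P) := by
    rw [Ideal.smul_top_eq_map]
    exact hj
  have h2 : (Ideal.Quotient.mkₐ A 𝔞).toLinearMap j ∈
      (I ^ k • ⊤ : Submodule A P).map (Ideal.Quotient.mkₐ A 𝔞).toLinearMap :=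
    Submodule.mem_map_of_mem h1
  rw [Submodule.map_smul''] at h2
  exact Submodule.smul_mono le_rfl le_top h2

omit [IsNoetherianRing P] in
theorem mem_of_algebraMap_mem_map (x : P) (hx : algebraMap P B x ∈ 𝔞.map (algebraMap P B)) :
    x ∈ 𝔞 := by
  haveI : IsHausdorff I (P ⧸ 𝔞) :=
    IsHausdorff.of_le_jacobson I (P ⧸ 𝔞) (IsAdicComplete.le_jacobson_bot I)
  rw [← Ideal.Quotient.eq_zero_iff_mem]
  apply IsHausdorff.haus ‹IsHausdorff I (P ⧸ 𝔞)›
  intro k
  rw [SModEq.zero]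
  have h1 : AdicCompletion.evalₐ (J) k (algebraMap P B x) ∈
      (𝔞.map (algebraMap P B)).map (AdicCompletion.evalₐ (J) k).toRingHom :=
    Ideal.mem_map_of_mem _ hx
  have h2 : (AdicCompletion.evalₐ (J) k).toRingHom.comp (algebraMap P B) =
      Ideal.Quotient.mk ((J) ^ k) := by
    ext p
    exact AdicCompletion.evalₐ_of _ _ p
  rw [Ideal.map_map, h2] at h1
  have h3 : AdicCompletion.evalₐ (J) k (algebraMap P B x) = Ideal.Quotient.mk ((J) ^ k) x :=
    AdicCompletion.evalₐ_of _ _ x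
  rw [h3, Ideal.mem_map_iff_of_surjective _ Ideal.Quotient.mk_surjective] at h1
  obtain ⟨a, ha, hax⟩ := h1
  have h4 : x - a ∈ (J) ^ k := by
    rw [← Ideal.Quotient.eq, hax]
  have h5 : Ideal.Quotient.mk 𝔞 x = Ideal.Quotient.mk 𝔞 (x - a) := by
    rw [map_sub, Ideal.Quotient.eq_zero_iff_mem.mpr ha, sub_zero]
  rw [h5]
  apply mk_mem_smul_top_of_mem_map
  rw [Ideal.map_pow]
  exact h4

theorem exists_sub_mem_map (b : B) : ∃ x : P, b - algebraMap P B x ∈ 𝔞.map (algebraMap P B) := by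
  have hJfg : (J).FG := IsNoetherian.noetherian _
  haveI : IsNoetherianRing B := isNoetherianRing_adicCompletion _
  haveI hcB : IsAdicComplete ((J).map (algebraMap P B)) B := AdicCompletion.isAdicComplete_self _ hJfg
  have hJB : (J).map (algebraMap P B) = I.map (algebraMap A B) := by
    rw [Ideal.map_map, ← IsScalarTower.algebraMap_eq]
  -- the A-module M = B/𝔞B
  set 𝔟 : Ideal B := 𝔞.map (algebraMap P B) with h𝔟
  haveI : IsHausdorff ((J).map (algebraMap P B)) (B ⧸ 𝔟) :=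
    IsHausdorff.of_le_jacobson _ _ (IsAdicComplete.le_jacobson_bot _)
  haveI hHaus : IsHausdorff I (B ⧸ 𝔟) := by
    have : IsHausdorff (I.map (algebraMap A B)) (B ⧸ 𝔟) := hJB ▸ ‹_›
    exact IsHausdorff.map_algebraMap_iff.mp this
  -- the map P/𝔞 → B/𝔟
  let ι : P ⧸ 𝔞 →ₐ[A] B ⧸ 𝔟 :=
    Ideal.quotientMapₐ 𝔟 (IsScalarTower.toAlgHom A P B) Ideal.le_comap_map
  have hιmk : ∀ p : P, ι (Ideal.Quotient.mk 𝔞 p) = Ideal.Quotient.mk 𝔟 (algebraMap P B p) :=
    fun p => rfl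
  -- elements of (I^k)B die in M/I^k
  have hmem : ∀ (k : ℕ) (j : B), j ∈ ((J) ^ k).map (algebraMap P B) →
      Ideal.Quotient.mk 𝔟 j ∈ (I ^ k • ⊤ : Submodule A (B ⧸ 𝔟)) := by
    intro k j hj
    have h0 : ((J) ^ k).map (algebraMap P B) = (I ^ k).map (algebraMap A B) := by
      rw [← Ideal.map_pow, Ideal.map_map, ← IsScalarTower.algebraMap_eq]
    rw [h0] at hj
    have h1 : j ∈ (I ^ k • ⊤ : Submodule A B) := by
      rw [Ideal.smul_top_eq_map]
      exact hj
    have h2 : (Ideal.Quotient.mkₐ A 𝔟).toLinearMap j ∈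
        (I ^ k • ⊤ : Submodule A B).map (Ideal.Quotient.mkₐ A 𝔟).toLinearMap :=
      Submodule.mem_map_of_mem h1
    rw [Submodule.map_smul''] at h2
    exact Submodule.smul_mono le_rfl le_top h2
  have happrox : ∀ (k : ℕ) (b : B), ∃ p : P, b - algebraMap P B p ∈ ((J) ^ k).map (algebraMap P B) := by
    intro k b
    obtain ⟨p, hp⟩ := Ideal.Quotient.mk_surjective (AdicCompletion.evalₐ (J) k b)
    refine ⟨p, ?_⟩
    rw [← ComplLocPrime.ker_evalₐ_eq_map (J) hJfg, RingHom.mem_ker]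
    change AdicCompletion.evalₐ (J) k (b - AdicCompletion.of (J) P p) = 0
    rw [map_sub, AdicCompletion.evalₐ_of, hp, sub_self]
  -- M is a finite A-module
  have hMfin : Module.Finite A (B ⧸ 𝔟) := by
    apply finite_of_finite_quotient I (B ⧸ 𝔟)
    refine Module.Finite.of_surjective
      ((Submodule.mkQ (I • ⊤ : Submodule A (B ⧸ 𝔟))) ∘ₗ ι.toLinearMap) ?_
    intro y
    obtain ⟨z, rfl⟩ := Submodule.mkQ_surjective _ y
    obtain ⟨b, rfl⟩ := Ideal.Quotient.mk_surjective z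
    obtain ⟨p, hp⟩ := happrox 1 b
    refine ⟨Ideal.Quotient.mk 𝔞 p, ?_⟩
    rw [LinearMap.comp_apply]
    change Submodule.mkQ _ (ι (Ideal.Quotient.mk 𝔞 p)) = _
    rw [hιmk]
    symm
    rw [← sub_eq_zero, ← map_sub, ← map_sub, Submodule.mkQ_apply, Submodule.Quotient.mk_eq_zero]
    have := hmem 1 _ hp
    rwa [pow_one] at this
  -- the image N of P/𝔞 is closed and dense
  set N : Submodule A (B ⧸ 𝔟) := LinearMap.range ι.toLinearMap with hN
  haveI : IsHausdorff I ((B ⧸ 𝔟) ⧸ N) :=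
    IsHausdorff.of_le_jacobson I _ (IsAdicComplete.le_jacobson_bot I)
  have hzero : Submodule.mkQ N (Ideal.Quotient.mk 𝔟 b) = 0 := by
    apply IsHausdorff.haus ‹IsHausdorff I ((B ⧸ 𝔟) ⧸ N)›
    intro k
    rw [SModEq.zero]
    obtain ⟨p, hp⟩ := happrox k b
    have h1 : Submodule.mkQ N (Ideal.Quotient.mk 𝔟 b) =
        Submodule.mkQ N (Ideal.Quotient.mk 𝔟 (b - algebraMap P B p)) := by
      rw [map_sub, map_sub, sub_eq_self.mpr]
      rw [Submodule.mkQ_apply, Submodule.Quotient.mk_eq_zero]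
      exact ⟨Ideal.Quotient.mk 𝔞 p, hιmk p⟩
    rw [h1]
    have h2 := hmem k _ hp
    have h3 : Submodule.mkQ N (Ideal.Quotient.mk 𝔟 (b - algebraMap P B p)) ∈
        (I ^ k • ⊤ : Submodule A (B ⧸ 𝔟)).map (Submodule.mkQ N) := Submodule.mem_map_of_mem h2
    rw [Submodule.map_smul''] at h3
    exact Submodule.smul_mono le_rfl le_top h3
  rw [Submodule.mkQ_apply, Submodule.Quotient.mk_eq_zero] at hzero
  obtain ⟨y, hy⟩ := hzero
  obtain ⟨x, rfl⟩ := Ideal.Quotient.mk_surjective y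
  refine ⟨x, ?_⟩
  rw [← Ideal.Quotient.eq]
  exact hy.symm

end G

end Groth.Agent.Helper3.RigFlat
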