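import Mathlib
import Groth.Agent.Lib.Helper3.RigFlat5a
import Groth.Agent.Lib.Helper3.RigFlat5b

set_option autoImplicit false

universe u

namespace Groth.Agent.Helper3.RigFlat

open Groth.Agent.Helper17.AR Groth.Agent.Helper3.RigClosed

section Main39

variable (A : Type u) [CommRing A] [IsNoetherianRing A] (I : Ideal A) [IsAdicComplete I A]
  (P : Type u) [CommRing P] [Algebra A P] [IsNoetherianRing P] [Algebra.FiniteType A P]

local notation "J" => Ideal.map (algebraMap A P) I
local notation "B" => AdicCompletion (Ideal.map (algebraMap A P) I) P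

theorem core8839 (q : PrimeSpectrum B)
    (hq : ¬ I.map (algebraMap A B) ≤ q.asIdeal ∧ ∀ y : PrimeSpectrum B, q ≤ y →
      ¬ I.map (algebraMap A B) ≤ y.asIdeal → y = q)
    (hp : ¬ I ≤ (PrimeSpectrum.comap (algebraMap A B) q).asIdeal ∧
      ∀ y : PrimeSpectrum A, (PrimeSpectrum.comap (algebraMap A B) q) ≤ y →
        ¬ I ≤ y.asIdeal → y = (PrimeSpectrum.comap (algebraMap A B) q))
    (m : ℕ) (hm : 1 ≤ m) :
    (∀ x : Localization.AtPrime (PrimeSpectrum.comap (algebraMap P B) q).asIdeal,
      (Localization.localRingHom (PrimeSpectrum.comap (algebraMap P B) q).asIdeal q.asIdeal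
        (algebraMap P B) rfl) x ∈ (IsLocalRing.maximalIdeal (Localization.AtPrime q.asIdeal)) ^ m →
      x ∈ (IsLocalRing.maximalIdeal
        (Localization.AtPrime (PrimeSpectrum.comap (algebraMap P B) q).asIdeal)) ^ m) ∧
    (∀ y : Localization.AtPrime q.asIdeal,
      ∃ x : Localization.AtPrime (PrimeSpectrum.comap (algebraMap P B) q).asIdeal,
        y - (Localization.localRingHom (PrimeSpectrum.comap (algebraMap P B) q).asIdeal q.asIdeal
          (algebraMap P B) rfl) x ∈
          (IsLocalRing.maximalIdeal (Localization.AtPrime q.asIdeal)) ^ m) := by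
  have hJfg : (J).FG := IsNoetherian.noetherian _
  haveI : IsNoetherianRing B := isNoetherianRing_adicCompletion _
  have hJB : (J).map (algebraMap P B) = I.map (algebraMap A B) := by
    rw [Ideal.map_map, ← IsScalarTower.algebraMap_eq]
  haveI hcB : IsAdicComplete (I.map (algebraMap A B)) B := by
    rw [← hJB]
    exact AdicCompletion.isAdicComplete_self _ hJfg
  -- finite type
  have hft : Algebra.FiniteType A (B ⧸ I.map (algebraMap A B)) := by
    let φ : P →ₐ[A] (B ⧸ I.map (algebraMap A B)) :=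
      (Ideal.Quotient.mkₐ A _).comp (IsScalarTower.toAlgHom A P B)
    refine Algebra.FiniteType.of_surjective φ ?_
    intro y
    obtain ⟨x, rfl⟩ := Ideal.Quotient.mk_surjective y
    obtain ⟨b, hb⟩ := exists_of_sub_mem _ hJfg x
    refine ⟨b, ?_⟩
    symm
    change Ideal.Quotient.mk _ x = Ideal.Quotient.mk _ (AdicCompletion.of _ _ b)
    rw [Ideal.Quotient.eq, ← hJB]
    exact hb
  have hfinB : Module.Finite A (B ⧸ q.asIdeal) := ((main8829 A I B hft q hq).out 1 2).mp hp
  set q' : Ideal P := (PrimeSpectrum.comap (algebraMap P B) q).asIdeal with hq'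
  have hq'def : q' = q.asIdeal.comap (algebraMap P B) := rfl
  haveI : q'.IsPrime := (PrimeSpectrum.comap (algebraMap P B) q).2
  -- P/q' finite
  haveI hfinP : Module.Finite A (P ⧸ q') := by
    let ι : P ⧸ q' →ₐ[A] B ⧸ q.asIdeal :=
      Ideal.quotientMapₐ q.asIdeal (IsScalarTower.toAlgHom A P B) (le_of_eq hq'def)
    have hinj : Function.Injective ι := by
      rw [injective_iff_map_eq_zero]
      intro x hx
      obtain ⟨p, rfl⟩ := Ideal.Quotient.mk_surjective x
      have h1 : ι (Ideal.Quotient.mk q' p) = Ideal.Quotient.mk q.asIdeal (algebraMap P B p) := rfl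
      rw [h1, Ideal.Quotient.eq_zero_iff_mem] at hx
      exact Ideal.Quotient.eq_zero_iff_mem.mpr hx
    exact Module.Finite.of_injective ι.toLinearMap hinj
  -- q = q'B
  have hqq' : q.asIdeal = q'.map (algebraMap P B) := by
    apply le_antisymm
    · intro y hy
      obtain ⟨x, hx⟩ := exists_sub_mem_map A I P q' y
      have h1 : q'.map (algebraMap P B) ≤ q.asIdeal := Ideal.map_le_iff_le_comap.mpr (le_of_eq hq'def)
      have h2 : algebraMap P B x ∈ q.asIdeal := by
        have := q.asIdeal.sub_mem hy (h1 hx)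
        rwa [sub_sub_cancel] at this
      have h3 : x ∈ q' := h2
      have := (q'.map (algebraMap P B)).add_mem hx (Ideal.mem_map_of_mem (algebraMap P B) h3)
      rwa [sub_add_cancel] at this
    · exact Ideal.map_le_iff_le_comap.mpr (le_of_eq hq'def)
  -- powers
  haveI hfinPm : Module.Finite A (P ⧸ q' ^ m) := finite_quot_pow A P q' m
  have hF2 := exists_sub_mem_map A I P (q' ^ m)
  have hF3 := mem_of_algebraMap_mem_map A I P (q' ^ m)
  set 𝔠 : Ideal B := (q' ^ m).map (algebraMap P B) with h𝔠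
  have h𝔠q : 𝔠 ≤ q.asIdeal := by
    rw [h𝔠, Ideal.map_le_iff_le_comap, ← hq'def]
    exact Ideal.pow_le_self (by omega)
  have h𝔠pow : q.asIdeal ^ m = 𝔠 := by
    rw [hqq', ← Ideal.map_pow]
  have hmB : (IsLocalRing.maximalIdeal (Localization.AtPrime q.asIdeal)) ^ m =
      𝔠.map (algebraMap B (Localization.AtPrime q.asIdeal)) := by
    rw [← Localization.AtPrime.map_eq_maximalIdeal, ← Ideal.map_pow, h𝔠pow]
  have hmP : (IsLocalRing.maximalIdeal (Localization.AtPrime q')) ^ m =
      (q' ^ m).map (algebraMap P (Localization.AtPrime q')) := by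
    rw [← Localization.AtPrime.map_eq_maximalIdeal, ← Ideal.map_pow]
  rw [hmB, hmP]
  constructor
  · intro x hx
    obtain ⟨a, s, rfl⟩ := IsLocalization.exists_mk'_eq q'.primeCompl x
    rw [Localization.localRingHom_mk', IsLocalization.mk'_mem_map_algebraMap_iff] at hx
    obtain ⟨u, hu, hua⟩ := hx
    obtain ⟨u0, hu0⟩ := hF2 u
    rw [IsLocalization.mk'_mem_map_algebraMap_iff]
    have hu0q : u0 ∈ q'.primeCompl := by
      intro hmem
      apply hu
      have h1 : algebraMap P B u0 ∈ q.asIdeal := hmem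
      have := q.asIdeal.add_mem (h𝔠q hu0) h1
      rwa [sub_add_cancel] at this
    refine ⟨u0, hu0q, ?_⟩
    apply hF3
    rw [map_mul]
    have h2 : algebraMap P B u0 * algebraMap P B a =
        u * algebraMap P B a - (u - algebraMap P B u0) * algebraMap P B a := by ring
    rw [h2]
    exact 𝔠.sub_mem hua (𝔠.mul_mem_right _ hu0)
  · intro y
    obtain ⟨b, s, rfl⟩ := IsLocalization.exists_mk'_eq q.asIdeal.primeCompl y
    obtain ⟨b0, hb0⟩ := hF2 b
    obtain ⟨s0, hs0⟩ := hF2 (s : B)
    have hs0q : s0 ∈ q'.primeCompl := by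
      intro hmem
      apply s.2
      have h1 : algebraMap P B s0 ∈ q.asIdeal := hmem
      have := q.asIdeal.add_mem (h𝔠q hs0) h1
      rwa [sub_add_cancel] at this
    refine ⟨IsLocalization.mk' _ b0 (⟨s0, hs0q⟩ : q'.primeCompl), ?_⟩
    rw [Localization.localRingHom_mk', ← IsLocalization.mk'_sub,
      IsLocalization.mk'_mem_map_algebraMap_iff]
    refine ⟨1, Submonoid.one_mem _, ?_⟩
    rw [one_mul]
    have h2 : b * algebraMap P B s0 - algebraMap P B b0 * (s : B) =
        (b - algebraMap P B b0) * algebraMap P B s0 -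
          algebraMap P B b0 * ((s : B) - algebraMap P B s0) := by ring
    change b * algebraMap P B s0 - algebraMap P B b0 * (s : B) ∈ 𝔠
    rw [h2]
    exact 𝔠.sub_mem (𝔠.mul_mem_right _ hb0) (𝔠.mul_mem_left _ hs0)

end Main39

theorem main8839 (A : Type u) [CommRing A] [IsNoetherianRing A] (I : Ideal A) [IsAdicComplete I A] (n : ℕ) (q : PrimeSpectrum (AdicCompletion (I.map (algebraMap A (MvPolynomial (Fin n) A))) (MvPolynomial (Fin n) A))) (hq : (¬ (I.map (algebraMap A (AdicCompletion (I.map (algebraMap A (MvPolynomial (Fin n) A))) (MvPolynomial (Fin n) A)))) ≤ q.asIdeal ∧ ∀ y : PrimeSpectrum (AdicCompletion (I.map (algebraMap A (MvPolynomial (Fin n) A))) (MvPolynomial (Fin n) A)), q ≤ y → ¬ (I.map (algebraMap A (AdicCompletion (I.map (algebraMap A (MvPolynomial (Fin n) A))) (MvPolynomial (Fin n) A)))) ≤ y.asIdeal → y = q)) (hp : (¬ I ≤ (PrimeSpectrum.comap (algebraMap A (AdicCompletion (I.map (algebraMap A (MvPolynomial (Fin n) A))) (MvPolynomial (Fin n) A))) q).asIdeal ∧ ∀ y : PrimeSpectrum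 A, (PrimeSpectrum.comap (algebraMap A (AdicCompletion (I.map (algebraMap A (MvPolynomial (Fin n) A))) (MvPolynomial (Fin n) A))) q) ≤ y → ¬ I ≤ y.asIdeal → y = (PrimeSpectrum.comap (algebraMap A (AdicCompletion (I.map (algebraMap A (MvPolynomial (Fin n) A))) (MvPolynomial (Fin n) A))) q))) (m : ℕ) (hm : 1 ≤ m) : (∀ x : (Localization.AtPrime (PrimeSpectrum.comap (algebraMap (MvPolynomial (Fin n) A) (AdicCompletion (I.map (algebraMap A (MvPolynomial (Fin n) A))) (MvPolynomial (Fin n) A))) q).asIdeal), (Localization.localRingHom (PrimeSpectrum.comap (algebraMap (MvPolynomial (Fin n) A) (AdicCompletion (I.map (algebraMap A (MvPolynomial (Fin n) A))) (MvPolynomial (Fin n) A))) q).asIdeal q.asIdeal (algebraMap (MvPolynomial (Fin n) A) (AdicCompletion (I.map (algebraMap A (MvPolynomial (Fin n) A))) (MvPolynomial (Fin n) A))) rfl) x ∈ (IsLocalRing.maximalIdeal (Localization.AtPrime q.asIdeal)) ^ m → x ∈ (IsLocalRing.maximalIdeal (Localization.AtPrime (PrimeSpectrum.comap (algebraMap (MvPolynomial (Fin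 n) A) (AdicCompletion (I.map (algebraMap A (MvPolynomial (Fin n) A))) (MvPolynomial (Fin n) A))) q).asIdeal)) ^ m) ∧ (∀ y : (Localization.AtPrime q.asIdeal), ∃ x : (Localization.AtPrime (PrimeSpectrum.comap (algebraMap (MvPolynomial (Fin n) A) (AdicCompletion (I.map (algebraMap A (MvPolynomial (Fin n) A))) (MvPolynomial (Fin n) A))) q).asIdeal), y - (Localization.localRingHom (PrimeSpectrum.comap (algebraMap (MvPolynomial (Fin n) A) (AdicCompletion (I.map (algebraMap A (MvPolynomial (Fin n) A))) (MvPolynomial (Fin n) A))) q).asIdeal q.asIdeal (algebraMap (MvPolynomial (Fin n) A) (AdicCompletion (I.map (algebraMap A (MvPolynomial (Fin n) A))) (MvPolynomial (Fin n) A))) rfl) x ∈ (IsLocalRing.maximalIdeal (Localization.AtPrime q.asIdeal)) ^ m) :=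
  core8839 A I (MvPolynomial (Fin n) A) q hq hp m hm

end Groth.Agent.Helper3.RigFlat
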