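import Mathlib
import Groth.Agent.Lib.Helper3.HB6
import Groth.Agent.Lib.Helper11.TorAmp1

/-!
# Lifting determinantal presentations along nilpotent thickenings: tools (helper3)
-/

set_option autoImplicit false
set_option linter.style.haveILetI false

universe u

namespace Groth.Agent.Helper3.SC1

open Matrix Groth.Agent.Helper3.HB2 Groth.Agent.Helper3.HB4 Groth.Agent.Helper3.HB5
  Groth.Agent.Helper3.HB6 Groth.Agent.Helper3.HilbertBurch
open scoped Pointwise

section Flat

/-- relations in a flat quotient can be corrected to lie in the kernel -/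
theorem correct {R M M'' : Type*} [CommRing R] [AddCommGroup M] [Module R M] [AddCommGroup M'']
    [Module R M''] [Module.Flat R M''] (g : M →ₗ[R] M'') (hg : Function.Surjective g)
    {ι : Type*} [Fintype ι] (j : ι → R) (y : ι → M) (h : g (∑ i, j i • y i) = 0) :
    ∃ y' : ι → M, (∀ i, g (y' i) = 0) ∧ ∑ i, j i • y i = ∑ i, j i • y' i := by
  have h1 : ∑ i, j i • g (y i) = 0 := by
    rw [← h, map_sum]
    simp
  obtain ⟨k, a, z, hz1, hz2⟩ := Module.Flat.isTrivialRelation_of_sum_smul_eq_zero h1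
  choose zt hzt using fun p => hg (z p)
  have hz1' : ∀ i, g (y i) = ∑ p, a i p • z p := hz1
  refine ⟨fun i => y i - ∑ p, a i p • zt p, ?_, ?_⟩
  · intro i
    rw [map_sub, map_sum, hz1' i, sub_eq_zero]
    refine Finset.sum_congr rfl fun p _ => ?_
    rw [map_smul, hzt]
  · have h2 : ∑ i, j i • ∑ p, a i p • zt p = 0 := by
      simp_rw [Finset.smul_sum, smul_smul]
      rw [Finset.sum_comm]
      refine Finset.sum_eq_zero fun p _ => ?_
      rw [← Finset.sum_smul, hz2 p, zero_smul]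
    simp_rw [smul_sub]
    rw [Finset.sum_sub_distrib, h2, sub_zero]

variable {C' A' : Type u} [CommRing C'] [CommRing A'] [Algebra C' A']

/-- elements of `𝔞 A' • M` are `𝔞`-combinations -/
theorem rep_smul (𝔞 : Ideal C') {M : Type u} [AddCommGroup M] [Module A' M] [Module C' M]
    [IsScalarTower C' A' M] (r : A') (hr : r ∈ 𝔞.map (algebraMap C' A')) (m : M) :
    ∃ (ι : Type) (_ : Fintype ι) (j : ι → C') (y : ι → M),
      (∀ i, j i ∈ 𝔞) ∧ r • m = ∑ i, j i • y i := by
  classical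
  have hr' : r ∈ Ideal.span ((algebraMap C' A') '' (𝔞 : Set C')) := hr
  induction hr' using Submodule.span_induction with
  | mem r h =>
    obtain ⟨c, hc, rfl⟩ := h
    refine ⟨Unit, inferInstance, fun _ => c, fun _ => m, fun _ => hc, ?_⟩
    simp [algebraMap_smul]
  | zero =>
    exact ⟨Empty, inferInstance, Empty.elim, Empty.elim, fun i => i.elim, by simp⟩
  | add r s hr1 hs1 ihr ihs =>
    obtain ⟨ι1, _, j1, y1, hj1, h1⟩ := ihr hr1
    obtain ⟨ι2, _, j2, y2, hj2, h2⟩ := ihs hs1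
    refine ⟨ι1 ⊕ ι2, inferInstance, Sum.elim j1 j2, Sum.elim y1 y2, ?_, ?_⟩
    · rintro (i | i)
      · exact hj1 i
      · exact hj2 i
    · rw [add_smul, h1, h2, Fintype.sum_sum_type]
      simp
  | smul a r hr1 ih =>
    obtain ⟨ι1, _, j1, y1, hj1, h1⟩ := ih hr1
    refine ⟨ι1, inferInstance, j1, fun i => a • y1 i, hj1, ?_⟩
    rw [smul_eq_mul, mul_smul, h1, Finset.smul_sum]
    refine Finset.sum_congr rfl fun i _ => ?_
    rw [smul_comm]

theorem rep_module (𝔞 : Ideal C') {M : Type u} [AddCommGroup M] [Module A' M] [Module C' M]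
    [IsScalarTower C' A' M] (x : M)
    (hx : x ∈ (𝔞.map (algebraMap C' A')) • (⊤ : Submodule A' M)) :
    ∃ (ι : Type) (_ : Fintype ι) (j : ι → C') (y : ι → M), (∀ i, j i ∈ 𝔞) ∧ x = ∑ i, j i • y i := by
  classical
  refine Submodule.smul_induction_on hx ?_ ?_
  · intro r hr m _
    exact rep_smul 𝔞 r hr m
  · rintro x y ⟨ι1, _, j1, y1, hj1, h1⟩ ⟨ι2, _, j2, y2, hj2, h2⟩
    refine ⟨ι1 ⊕ ι2, inferInstance, Sum.elim j1 j2, Sum.elim y1 y2, ?_, ?_⟩
    · rintro (i | i)
      · exact hj1 i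
      · exact hj2 i
    · rw [h1, h2, Fintype.sum_sum_type]
      simp

end Flat

end Groth.Agent.Helper3.SC1
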