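import Mathlib
import Groth.Agent.Lib.Helper3.SC1

/-!
# Lifting determinantal presentations along nilpotent thickenings (helper3)
-/

set_option autoImplicit false
set_option linter.style.haveILetI false

universe u

namespace Groth.Agent.Helper3.SC2

open Matrix Groth.Agent.Helper3.HB2 Groth.Agent.Helper3.HB4 Groth.Agent.Helper3.HB5
  Groth.Agent.Helper3.HB6 Groth.Agent.Helper3.HilbertBurch Groth.Agent.Helper3.SC1
open scoped Pointwise

section HBelt

variable {R : Type u} [CommRing R] [IsNoetherianRing R]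

/-- elementwise Hilbert–Burch -/
theorem main_elt (m : ℕ) (Ψ : Matrix (Fin (m + 1)) (Fin m) R) (π : (Fin (m + 1) → R) →ₗ[R] R)
    (hΨ : LinearMap.ker Ψ.mulVecLin = ⊥) (hex : LinearMap.ker π = LinearMap.range Ψ.mulVecLin) :
    ∃ a : R, a ∈ nonZeroDivisors R ∧
      ∀ w, π w = a * Fintype.linearCombination R (sm m Ψ) w := by
  classical
  obtain ⟨x, hxJ, hx⟩ := exists_regular m (m + 1) Ψ hΨ
  have hdepth := two_le_idealDepth m (m + 1) Ψ π hΨ hex
  obtain ⟨y, hyJ, hy⟩ := exists_regular_mod m (m + 1) Ψ π hΨ hex x hx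
  obtain ⟨-, hker1, hrange1⟩ := Groth.Agent.Helper3.HilbertBurch.main m Ψ hdepth 1
    (one_mem (nonZeroDivisors R))
  have hfun : (fun i : Fin (m + 1) => (1 : R) * ((-1 : R) ^ (i : ℕ) *
      (Ψ.submatrix i.succAbove id).det)) = sm m Ψ := by
    ext i
    simp [sm]
  rw [hfun] at hker1 hrange1
  rw [Ideal.span_singleton_one, Ideal.top_mul] at hrange1
  set p := Fintype.linearCombination R (sm m Ψ) with hp
  have hk : ∀ w, p w = 0 → π w = 0 := by
    intro w hw
    have : w ∈ LinearMap.ker p := hw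
    rw [hker1, ← hex] at this
    exact this
  have hk' : ∀ w, π w = 0 → p w = 0 := by
    intro w hw
    have : w ∈ LinearMap.ker π := hw
    rw [hex, ← hker1] at this
    exact this
  obtain ⟨a, ha⟩ := exists_mul_of_ker_le p π hk x y (by rw [hrange1]; exact hxJ)
    (by rw [hrange1]; exact hyJ) hx (dvd_of_quotSMulTop_regular hy)
  obtain ⟨wx, hwx⟩ : x ∈ LinearMap.range p := by rw [hrange1]; exact hxJ
  have haz : ∀ s : R, s * a = 0 → s = 0 := by
    intro s hs
    have h1 : π (s • wx) = 0 := by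
      rw [map_smul, ha, smul_eq_mul, ← mul_assoc, hs, zero_mul]
    have h2 := hk' _ h1
    rw [map_smul, hwx, smul_eq_mul] at h2
    apply hx
    simp only [smul_eq_mul, mul_zero]
    rw [mul_comm]
    exact h2
  refine ⟨a, ?_, ha⟩
  rw [mem_nonZeroDivisors_iff]
  exact ⟨fun s hs => haz s (by rw [mul_comm]; exact hs), haz⟩

end HBelt

section Inter

variable {C' A' : Type u} [CommRing C'] [CommRing A'] [Algebra C' A']

/-- the key intersection property from flatness of the quotient -/
theorem inter (𝔞 : Ideal C') {M M'' : Type u} [AddCommGroup M] [Module A' M] [Module C' M]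
    [IsScalarTower C' A' M] [AddCommGroup M''] [Module A' M''] [Module C' M'']
    [IsScalarTower C' A' M''] [Module.Flat C' M''] (g : M →ₗ[A'] M'')
    (hg : Function.Surjective g) (x : M) (hx : g x = 0)
    (hx' : x ∈ (𝔞.map (algebraMap C' A')) • (⊤ : Submodule A' M)) :
    x ∈ (𝔞.map (algebraMap C' A')) • LinearMap.ker g := by
  obtain ⟨ι, _, j, y, hj, rfl⟩ := rep_module 𝔞 x hx'
  obtain ⟨y', hy', hsum⟩ := correct (g.restrictScalars C') hg j y hx
  rw [hsum]
  refine Submodule.sum_mem _ fun i _ => ?_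
  rw [← algebraMap_smul A' (j i) (y' i)]
  exact Submodule.smul_mem_smul (Ideal.mem_map_of_mem _ (hj i)) (hy' i)

/-- kernels of surjections between flat modules are flat -/
theorem flat_ker {M M'' : Type u} [AddCommGroup M] [Module A' M] [Module C' M]
    [IsScalarTower C' A' M] [AddCommGroup M''] [Module A' M''] [Module C' M'']
    [IsScalarTower C' A' M''] [Module.Flat C' M] [Module.Flat C' M''] (g : M →ₗ[A'] M'')
    (hg : Function.Surjective g) : Module.Flat C' (LinearMap.ker g) := by
  refine Groth.Agent.Helper11.TA.flat_of_exact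
    ((LinearMap.ker g).subtype.restrictScalars C') (g.restrictScalars C')
    (Submodule.injective_subtype _) hg ?_
  intro y
  constructor
  · intro hy
    exact ⟨⟨y, hy⟩, rfl⟩
  · rintro ⟨z, rfl⟩
    exact z.2

theorem le_jacobson (𝔞 : Ideal C') (hnil : IsNilpotent 𝔞) :
    𝔞.map (algebraMap C' A') ≤ Ideal.jacobson (⊥ : Ideal A') := by
  obtain ⟨n, hn⟩ := hnil
  refine le_trans ?_ (Ideal.radical_le_jacobson)
  intro x hx
  refine ⟨n, ?_⟩
  have h1 : x ^ n ∈ (𝔞.map (algebraMap C' A')) ^ n := Ideal.pow_mem_pow hx n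
  rw [← Ideal.map_pow, hn] at h1
  simpa using h1

end Inter

end Groth.Agent.Helper3.SC2
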