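import Mathlib
import Groth.Agent.Lib.Helper3.SC2

/-!
# Lifting determinantal presentations along nilpotent thickenings: main lemma (helper3)
-/

set_option autoImplicit false
set_option linter.style.haveILetI false

universe u

namespace Groth.Agent.Helper3.SC3

open Matrix Groth.Agent.Helper3.HB2 Groth.Agent.Helper3.HB4 Groth.Agent.Helper3.HB5
  Groth.Agent.Helper3.HB6 Groth.Agent.Helper3.HilbertBurch Groth.Agent.Helper3.SC1
  Groth.Agent.Helper3.SC2
open scoped Pointwise

variable {C' A' : Type u} [CommRing C'] [CommRing A'] [Algebra C' A'] [Module.Flat C' A']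
  [IsNoetherianRing A']

set_option maxHeartbeats 1600000 in
theorem liftDet' (𝔞 : Ideal C') (hnil : IsNilpotent 𝔞) (I' : Ideal A') [Module.Flat C' (A' ⧸ I')] (r : ℕ)
    (𝔄 : Ideal A') (h𝔄 : 𝔄 = 𝔞.map (algebraMap C' A'))
    (φ : Matrix (Fin (r + 1)) (Fin r) (A' ⧸ 𝔄))
    (hinj : Function.Injective φ.mulVecLin)
    (hex : LinearMap.range φ.mulVecLin = LinearMap.ker
      (Fintype.linearCombination (A' ⧸ 𝔄) (sm r φ)))
    (hI : I'.map (Ideal.Quotient.mk 𝔄) =
      Ideal.span (Set.range (sm r φ))) :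
    ∃ φ' : Matrix (Fin (r + 1)) (Fin r) A',
      φ'.map (Ideal.Quotient.mk 𝔄) = φ ∧
      I' = Ideal.span (Set.range (sm r φ')) ∧ Function.Injective φ'.mulVecLin ∧
      LinearMap.range φ'.mulVecLin =
        LinearMap.ker (Fintype.linearCombination A' (sm r φ')) := by
  classical
  subst h𝔄
  let q : A' →+* A' ⧸ (Ideal.map (algebraMap C' A') 𝔞) := Ideal.Quotient.mk (Ideal.map (algebraMap C' A') 𝔞)
  have hq : Function.Surjective q := Ideal.Quotient.mk_surjective
  have hq0 : ∀ x, q x = 0 ↔ x ∈ (Ideal.map (algebraMap C' A') 𝔞) := fun x => Ideal.Quotient.eq_zero_iff_mem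
  have hjac : (Ideal.map (algebraMap C' A') 𝔞) ≤ Ideal.jacobson (⊥ : Ideal A') := le_jacobson (A' := A') 𝔞 hnil
  set f := sm r φ with hf
  -- S1: lift the generators
  have hf' : ∀ i, ∃ x ∈ I', q x = f i := by
    intro i
    have : f i ∈ I'.map q := by rw [hI]; exact Ideal.subset_span ⟨i, rfl⟩
    exact (Ideal.mem_map_iff_of_surjective q hq).mp this
  choose f' hf'I hf'q using hf'
  -- S2: lift the matrix
  choose φ₁ hφ₁ using fun i c => hq (φ i c)
  -- S3
  have inter1 : ∀ x ∈ I', x ∈ (Ideal.map (algebraMap C' A') 𝔞) → x ∈ (Ideal.map (algebraMap C' A') 𝔞) * I' := by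
    intro x hxI hx𝔄
    have h1 := inter 𝔞 (Submodule.mkQ I') (Submodule.mkQ_surjective I') x
      ((Submodule.Quotient.mk_eq_zero I').mpr hxI) (by rw [Ideal.smul_eq_mul, Ideal.mul_top]; exact hx𝔄)
    rw [Submodule.ker_mkQ] at h1
    exact h1
  -- S4
  have hspan : I' = Ideal.span (Set.range f') := by
    apply le_antisymm
    · apply Submodule.le_of_le_smul_of_le_jacobson_bot (I'.fg_of_isNoetherianRing) hjac
      intro x hx
      have h1 : q x ∈ Ideal.span (Set.range f) := by
        rw [← hI]; exact Ideal.mem_map_of_mem q hx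
      obtain ⟨c, hc⟩ := Ideal.mem_span_range_iff_exists_fun.mp h1
      choose ct hct using fun i => hq (c i)
      have h2 : x - ∑ i, ct i * f' i ∈ I' :=
        sub_mem hx (sum_mem fun i _ => I'.mul_mem_left _ (hf'I i))
      have h3 : x - ∑ i, ct i * f' i ∈ (Ideal.map (algebraMap C' A') 𝔞) := by
        rw [← hq0, map_sub, map_sum]
        simp only [map_mul, hct, hf'q, hc, sub_self]
      have h4 := inter1 _ h2 h3
      have h5 : x = ∑ i, ct i * f' i + (x - ∑ i, ct i * f' i) := by ring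
      rw [h5]
      exact Submodule.add_mem_sup
        (sum_mem fun i _ => Ideal.mul_mem_left _ _ (Ideal.subset_span ⟨i, rfl⟩)) h4
    · rw [Ideal.span_le]
      rintro _ ⟨i, rfl⟩
      exact hf'I i
  -- S5: relations
  have hrel : ∀ c, ∑ i, φ i c * f i = 0 := by
    intro c
    have h1 : φ.mulVecLin (Pi.single c 1) ∈
        LinearMap.ker (Fintype.linearCombination (A' ⧸ (Ideal.map (algebraMap C' A') 𝔞)) f) := by
      rw [← hex]; exact ⟨_, rfl⟩
    rw [LinearMap.mem_ker, Fintype.linearCombination_apply] at h1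
    simpa [Matrix.mulVec_single, Matrix.col_apply] using h1
  have hρ : ∀ c, ∃ b : Fin (r + 1) → A', (∀ i, b i ∈ (Ideal.map (algebraMap C' A') 𝔞)) ∧
      ∑ i, φ₁ i c * f' i = ∑ i, b i * f' i := by
    intro c
    have h1 : ∑ i, φ₁ i c * f' i ∈ I' := sum_mem fun i _ => I'.mul_mem_left _ (hf'I i)
    have h2 : ∑ i, φ₁ i c * f' i ∈ (Ideal.map (algebraMap C' A') 𝔞) := by
      rw [← hq0, map_sum]
      simp only [map_mul, hφ₁, hf'q, hrel c]
    have h3 := inter1 _ h1 h2
    rw [hspan, ← Ideal.smul_eq_mul] at h3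
    obtain ⟨a, ha, hsum⟩ := (Submodule.mem_ideal_smul_span_iff_exists_sum (Ideal.map (algebraMap C' A') 𝔞) f' _).mp h3
    refine ⟨fun i => a i, ha, ?_⟩
    rw [← hsum, Finsupp.sum_fintype]
    · simp
    · intro i; simp
  choose b hb𝔄 hbsum using hρ
  let φ'' : Matrix (Fin (r + 1)) (Fin r) A' := Matrix.of fun i c => φ₁ i c - b c i
  have hφ''q : φ''.map q = φ := by
    ext i c
    simp [φ'', hφ₁, (hq0 _).mpr (hb𝔄 c i)]
  have hφ''rel : ∀ c, ∑ i, φ'' i c * f' i = 0 := by
    intro c
    simp only [φ'', Matrix.of_apply, sub_mul, Finset.sum_sub_distrib, hbsum c, sub_self]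
  set π' := Fintype.linearCombination A' f' with hπ'
  have hπφ : ∀ v, π' (φ''.mulVec v) = 0 := by
    intro v
    rw [hπ', Fintype.linearCombination_apply]
    simp only [Matrix.mulVec, dotProduct, smul_eq_mul, Finset.sum_mul]
    rw [Finset.sum_comm]
    refine Finset.sum_eq_zero fun c _ => ?_
    have h1 := hφ''rel c
    calc ∑ i, φ'' i c * v c * f' i = v c * ∑ i, φ'' i c * f' i := by
          rw [Finset.mul_sum]; refine Finset.sum_congr rfl fun i _ => by ring
      _ = 0 := by rw [h1, mul_zero]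
  have hrangeπ : LinearMap.range π' = I' := by
    rw [hπ', Fintype.range_linearCombination]; exact hspan.symm
  -- flatness
  haveI hflatI : Module.Flat C' I' := by
    haveI := flat_ker (C' := C') (Submodule.mkQ I') (Submodule.mkQ_surjective I')
    exact Module.Flat.of_linearEquiv
      ((LinearEquiv.ofEq _ _ (Submodule.ker_mkQ I').symm).restrictScalars C')
  haveI : Module.Flat C' (Fin (r + 1) → A') := Module.Flat.trans C' A' _
  haveI : Module.Flat C' (Fin r → A') := Module.Flat.trans C' A' _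
  let g₂ : (Fin (r + 1) → A') →ₗ[A'] I' := π'.codRestrict I' (fun w => by
    rw [← hrangeπ]; exact ⟨w, rfl⟩)
  have hg₂ : Function.Surjective g₂ := by
    rintro ⟨z, hz⟩
    rw [← hrangeπ] at hz
    obtain ⟨w, rfl⟩ := hz
    exact ⟨w, Subtype.ext rfl⟩
  have hkerg₂ : LinearMap.ker g₂ = LinearMap.ker π' := LinearMap.ker_codRestrict _ _ _
  -- S7
  have hK : LinearMap.ker π' ≤ LinearMap.range φ''.mulVecLin := by
    apply Submodule.le_of_le_smul_of_le_jacobson_bot (IsNoetherian.noetherian _) hjac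
    intro w hw
    rw [LinearMap.mem_ker] at hw
    have h1 : (fun i => q (w i)) ∈ LinearMap.ker (Fintype.linearCombination (A' ⧸ (Ideal.map (algebraMap C' A') 𝔞)) f) := by
      rw [LinearMap.mem_ker, Fintype.linearCombination_apply]
      have h := congrArg q hw
      rw [hπ', Fintype.linearCombination_apply, map_sum, map_zero] at h
      simpa [hf'q] using h
    rw [← hex] at h1
    obtain ⟨vb, hvb⟩ := h1
    choose v hv using fun c => hq (vb c)
    set w₁ := w - φ''.mulVec v with hw₁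
    have hw₁K : π' w₁ = 0 := by rw [hw₁, map_sub, hπφ, sub_zero]; exact hw
    have hw₁𝔄 : ∀ i, w₁ i ∈ (Ideal.map (algebraMap C' A') 𝔞) := by
      intro i
      rw [← hq0]
      have h2 := congrFun hvb i
      simp only [Matrix.mulVecLin_apply, Matrix.mulVec, dotProduct] at h2
      simp only [hw₁, Pi.sub_apply, Matrix.mulVec, dotProduct, map_sub, map_sum, map_mul, hv]
      rw [← h2, sub_eq_zero]
      refine Finset.sum_congr rfl fun c _ => ?_
      rw [← hφ''q]; rfl
    have hw₁top : w₁ ∈ (Ideal.map (algebraMap C' A') 𝔞) • (⊤ : Submodule A' (Fin (r + 1) → A')) := by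
      rw [pi_eq_sum_univ w₁]
      exact sum_mem fun i _ => Submodule.smul_mem_smul (hw₁𝔄 i) Submodule.mem_top
    have h2 := inter 𝔞 g₂ hg₂ w₁ (Subtype.ext hw₁K) hw₁top
    rw [hkerg₂] at h2
    have h3 : w = φ''.mulVec v + w₁ := by rw [hw₁]; abel
    rw [h3]
    exact Submodule.add_mem_sup ⟨v, rfl⟩ h2
  -- S8
  haveI hflatK : Module.Flat C' (LinearMap.ker π') := by
    haveI := flat_ker (C' := C') g₂ hg₂
    exact Module.Flat.of_linearEquiv ((LinearEquiv.ofEq _ _ hkerg₂.symm).restrictScalars C')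
  let g₃ : (Fin r → A') →ₗ[A'] LinearMap.ker π' :=
    φ''.mulVecLin.codRestrict _ (fun v => hπφ v)
  have hg₃ : Function.Surjective g₃ := by
    rintro ⟨w, hw⟩
    obtain ⟨v, hv⟩ := hK hw
    exact ⟨v, Subtype.ext hv⟩
  have hkerg₃ : LinearMap.ker g₃ = LinearMap.ker φ''.mulVecLin := LinearMap.ker_codRestrict _ _ _
  have hN : LinearMap.ker φ''.mulVecLin = ⊥ := by
    apply Submodule.eq_bot_of_le_smul_of_le_jacobson_bot (Ideal.map (algebraMap C' A') 𝔞) _ (IsNoetherian.noetherian _) _ hjac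
    intro v hv
    rw [LinearMap.mem_ker] at hv
    have h1 : ∀ c, v c ∈ (Ideal.map (algebraMap C' A') 𝔞) := by
      have h2 : φ.mulVecLin (fun c => q (v c)) = 0 := by
        ext i
        have h3 := congrArg q (congrFun hv i)
        simp only [Matrix.mulVecLin_apply, Matrix.mulVec, dotProduct, map_sum, map_mul,
          Pi.zero_apply, map_zero] at h3 ⊢
        rw [← h3]
        refine Finset.sum_congr rfl fun c _ => ?_
        rw [← hφ''q]; rfl
      have h4 := hinj (h2.trans (map_zero _).symm)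
      intro c
      rw [← hq0]
      exact congrFun h4 c
    have hvtop : v ∈ (Ideal.map (algebraMap C' A') 𝔞) • (⊤ : Submodule A' (Fin r → A')) := by
      rw [pi_eq_sum_univ v]
      exact sum_mem fun i _ => Submodule.smul_mem_smul (h1 i) Submodule.mem_top
    have h2 := inter 𝔞 g₃ hg₃ v (Subtype.ext hv) hvtop
    rwa [hkerg₃] at h2
  -- S9
  have hexA : LinearMap.ker π' = LinearMap.range φ''.mulVecLin :=
    le_antisymm hK (by rintro _ ⟨v, rfl⟩; exact hπφ v)
  obtain ⟨a, ha, hπa⟩ := main_elt r φ'' π' hN hexA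
  have hfa : ∀ i, f' i = a * sm r φ'' i := by
    intro i
    have h1 := hπa (Pi.single i 1)
    rw [hπ', Fintype.linearCombination_apply_single, Fintype.linearCombination_apply_single,
      one_smul, one_smul] at h1
    exact h1
  have hsmq : ∀ i, q (sm r φ'' i) = f i := by
    intro i
    simp only [sm, hf, map_mul, map_pow, map_neg, map_one]
    rw [RingHom.map_det, RingHom.mapMatrix_apply, ← hφ''q]
    rfl
  obtain ⟨x, hxJ, hx⟩ := exists_regular r (r + 1) φ (LinearMap.ker_eq_bot.mpr hinj)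
  have hxf : x ∈ Ideal.span (Set.range f) := by
    rw [minorIdeal_eq] at hxJ
    refine (Ideal.span_le.mpr ?_) hxJ
    rintro _ ⟨i, rfl⟩
    have h1 : (φ.submatrix i.succAbove id).det = (-1) ^ (i : ℕ) * f i := by
      simp only [hf, sm]
      rw [← mul_assoc, ← pow_add, ← two_mul, pow_mul]
      simp
    simp only
    rw [h1]
    exact Ideal.mul_mem_left _ _ (Ideal.subset_span ⟨i, rfl⟩)
  have hqa : q a = 1 := by
    have h1 : ∀ i, (1 - q a) * f i = 0 := by
      intro i
      have h2 := congrArg q (hfa i)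
      rw [hf'q, map_mul, hsmq] at h2
      linear_combination h2
    have h2 : (1 - q a) * x = 0 := by
      obtain ⟨c, hc⟩ := Ideal.mem_span_range_iff_exists_fun.mp hxf
      rw [← hc, Finset.mul_sum]
      refine Finset.sum_eq_zero fun i _ => ?_
      rw [mul_left_comm, h1, mul_zero]
    have h3 : 1 - q a = 0 := by
      apply hx
      simp only [smul_eq_mul, mul_zero]
      rw [mul_comm]; exact h2
    exact (sub_eq_zero.mp h3).symm
  have hau : IsUnit a := by
    have h1 : a - 1 ∈ (Ideal.map (algebraMap C' A') 𝔞) := by rw [← hq0, map_sub, hqa, map_one, sub_self]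
    have h2 := (Ideal.mem_jacobson_bot.mp (hjac h1)) 1
    simpa using h2
  obtain ⟨u, hu⟩ := hau.exists_left_inv
  refine ⟨φ'', hφ''q, ?_, LinearMap.ker_eq_bot.mp hN, ?_⟩
  · rw [hspan]
    apply le_antisymm
    · rw [Ideal.span_le]
      rintro _ ⟨i, rfl⟩
      rw [hfa i]
      exact Ideal.mul_mem_left _ _ (Ideal.subset_span ⟨i, rfl⟩)
    · rw [Ideal.span_le]
      rintro _ ⟨i, rfl⟩
      have h1 : sm r φ'' i = u * f' i := by rw [hfa i, ← mul_assoc, hu, one_mul]
      rw [h1]
      exact Ideal.mul_mem_left _ _ (Ideal.subset_span ⟨i, rfl⟩)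
  · rw [← hexA]
    ext w
    rw [LinearMap.mem_ker, LinearMap.mem_ker, hπa]
    constructor
    · intro h
      have h1 := congrArg (fun t => u * t) h
      simp only [mul_zero] at h1
      rwa [← mul_assoc, hu, one_mul] at h1
    · intro h; rw [h, mul_zero]


theorem liftDet (𝔞 : Ideal C') (hnil : IsNilpotent 𝔞) (I' : Ideal A') [Module.Flat C' (A' ⧸ I')] (r : ℕ)
    (φ : Matrix (Fin (r + 1)) (Fin r) (A' ⧸ 𝔞.map (algebraMap C' A')))
    (hinj : Function.Injective φ.mulVecLin)
    (hex : LinearMap.range φ.mulVecLin = LinearMap.ker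
      (Fintype.linearCombination (A' ⧸ 𝔞.map (algebraMap C' A')) (sm r φ)))
    (hI : I'.map (Ideal.Quotient.mk (𝔞.map (algebraMap C' A'))) =
      Ideal.span (Set.range (sm r φ))) :
    ∃ φ' : Matrix (Fin (r + 1)) (Fin r) A',
      φ'.map (Ideal.Quotient.mk (𝔞.map (algebraMap C' A'))) = φ ∧
      I' = Ideal.span (Set.range (sm r φ')) ∧ Function.Injective φ'.mulVecLin ∧
      LinearMap.range φ'.mulVecLin =
        LinearMap.ker (Fintype.linearCombination A' (sm r φ')) :=
  liftDet' 𝔞 hnil I' r _ rfl φ hinj hex hI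

end Groth.Agent.Helper3.SC3

namespace Groth.Agent.Helper3.SC3

open Matrix Groth.Agent.Helper3.HB2

theorem main59 (C' : Type u) [CommRing C'] [IsLocalRing C'] [IsArtinianRing C'] (J : Ideal C')
    (hJ : IsLocalRing.maximalIdeal C' * J = ⊥) (hJne : J ≠ ⊤) (A' : Type u) [CommRing A']
    [Algebra C' A'] [Module.Flat C' A'] [Algebra.FiniteType C' A']
    (r : ℕ) (φ : Matrix (Fin (r + 1)) (Fin r) (A' ⧸ J.map (algebraMap C' A')))
    (hφ : Function.Injective φ.mulVecLin ∧
      LinearMap.range φ.mulVecLin = LinearMap.ker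
        (Fintype.linearCombination (A' ⧸ J.map (algebraMap C' A')) (sm r φ)))
    (I' : Ideal A') [Module.Flat C' (A' ⧸ I')]
    (hI' : I'.map (Ideal.Quotient.mk (J.map (algebraMap C' A'))) =
      Ideal.span (Set.range (sm r φ))) :
    ∃ φ' : Matrix (Fin (r + 1)) (Fin r) A',
      φ'.map (Ideal.Quotient.mk (J.map (algebraMap C' A'))) = φ ∧
      I' = Ideal.span (Set.range (sm r φ')) := by
  haveI : IsNoetherianRing A' := Algebra.FiniteType.isNoetherianRing C' A'
  have hnil : IsNilpotent J := by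
    refine ⟨2, ?_⟩
    rw [pow_two, Ideal.zero_eq_bot, ← le_bot_iff, ← hJ]
    exact Ideal.mul_mono_left (IsLocalRing.le_maximalIdeal hJne)
  obtain ⟨φ', h1, h2, -, -⟩ := liftDet J hnil I' r φ hφ.1 hφ.2 hI'
  exact ⟨φ', h1, h2⟩

theorem main58 (C : Type u) [CommRing C] [IsLocalRing C] [IsArtinianRing C] (A : Type u)
    [CommRing A] [Algebra C A] [Module.Flat C A] [Algebra.FiniteType C A]
    (I : Ideal A) [Module.Flat C (A ⧸ I)] (r : ℕ)
    (φ₀ : Matrix (Fin (r + 1)) (Fin r)
      (A ⧸ (IsLocalRing.maximalIdeal C).map (algebraMap C A)))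
    (h₀ : Ideal.span (Set.range (sm r φ₀)) =
        I.map (Ideal.Quotient.mk ((IsLocalRing.maximalIdeal C).map (algebraMap C A))) ∧
      Function.Injective φ₀.mulVecLin ∧
      LinearMap.range φ₀.mulVecLin = LinearMap.ker (Fintype.linearCombination
        (A ⧸ (IsLocalRing.maximalIdeal C).map (algebraMap C A)) (sm r φ₀))) :
    ∃ φ : Matrix (Fin (r + 1)) (Fin r) A, Ideal.span (Set.range (sm r φ)) = I ∧
      Function.Injective φ.mulVecLin ∧
      LinearMap.range φ.mulVecLin = LinearMap.ker (Fintype.linearCombination A (sm r φ)) := by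
  haveI : IsNoetherianRing A := Algebra.FiniteType.isNoetherianRing C A
  have hnil : IsNilpotent (IsLocalRing.maximalIdeal C) := by
    have h := IsArtinianRing.isNilpotent_jacobson_bot (R := C)
    rwa [IsLocalRing.jacobson_eq_maximalIdeal ⊥ bot_ne_top] at h
  obtain ⟨φ', -, h2, h3, h4⟩ := liftDet (IsLocalRing.maximalIdeal C) hnil I r φ₀ h₀.2.1 h₀.2.2
    h₀.1.symm
  exact ⟨φ', h2.symm, h3, h4⟩

end Groth.Agent.Helper3.SC3
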