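import Mathlib.Algebra.Homology.HomotopyCategory.Pretriangulated
import Mathlib.Algebra.Homology.HomologicalComplexAbelian
import Mathlib.Algebra.Homology.HomologicalComplexBiprod

/-!
# Stable isomorphism of the source and target of a map with contractible cone

For a morphism `u : M ⟶ N` of cochain complexes in an abelian category there is a degreewise
split short exact sequence `0 → M → N ⊞ cone(𝟙 M) → cone(u) → 0`.  If `cone(u)` is
contractible, it splits, whence `N ⊞ cone(𝟙 M) ≅ M ⊞ cone(u)`.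
-/

open CategoryTheory Category Limits CochainComplex HomComplex

namespace Groth.Agent.Helper3.SI

universe v u

variable {C : Type u} [Category.{v} C] [Abelian C]
variable {M N : CochainComplex C ℤ} (u : M ⟶ N)

/-- `M ⟶ N ⊞ cone(𝟙 M)`. -/
noncomputable def ι : M ⟶ N ⊞ mappingCone (𝟙 M) := biprod.lift u (mappingCone.inr (𝟙 M))

/-- `cone(𝟙 M) ⟶ cone(u)`. -/
noncomputable def κ : mappingCone (𝟙 M) ⟶ mappingCone u :=
  mappingCone.map (𝟙 M) u (𝟙 M) u (by simp)

/-- `N ⊞ cone(𝟙 M) ⟶ cone(u)`. -/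
noncomputable def π : N ⊞ mappingCone (𝟙 M) ⟶ mappingCone u :=
  biprod.desc (mappingCone.inr u) (-(κ u))

lemma inr_κ : mappingCone.inr (𝟙 M) ≫ κ u = u ≫ mappingCone.inr u := by
  simp [κ, mappingCone.map]

lemma inl_v_κ_f (p q : ℤ) (hpq : p + (-1) = q) :
    (mappingCone.inl (𝟙 M)).v p q hpq ≫ (κ u).f q = (mappingCone.inl u).v p q hpq := by
  simp [κ, mappingCone.map]

@[reassoc]
lemma κ_f_snd_v (i : ℤ) : (κ u).f i ≫ (mappingCone.snd u).v i i (add_zero i) =
    (mappingCone.snd (𝟙 M)).v i i (add_zero i) ≫ u.f i := by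
  apply mappingCone.ext_from _ (i + 1) i rfl
  · simp [κ, mappingCone.map]
  · simp [κ, mappingCone.map]

@[reassoc]
lemma κ_f_fst_v (i j : ℤ) (hij : i + 1 = j) : (κ u).f i ≫ (mappingCone.fst u).1.v i j hij =
    (mappingCone.fst (𝟙 M)).1.v i j hij := by
  apply mappingCone.ext_from _ j i hij
  · simp [κ, mappingCone.map]
  · simp [κ, mappingCone.map]

@[reassoc]
lemma ι_π : ι u ≫ π u = 0 := by
  simp [ι, π, inr_κ]

/-- The short complex `M ⟶ N ⊞ cone(𝟙 M) ⟶ cone(u)`. -/
noncomputable def S : ShortComplex (CochainComplex C ℤ) := ShortComplex.mk (ι u) (π u) (ι_π u)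

/-- The degreewise retraction. -/
noncomputable def r (M N : CochainComplex C ℤ) (i : ℤ) : (N ⊞ mappingCone (𝟙 M)).X i ⟶ M.X i :=
  (biprod.snd : N ⊞ mappingCone (𝟙 M) ⟶ _).f i ≫ (mappingCone.snd (𝟙 M)).v i i (add_zero i)

/-- The degreewise section. -/
noncomputable def s (i : ℤ) : (mappingCone u).X i ⟶ (N ⊞ mappingCone (𝟙 M)).X i :=
  (mappingCone.snd u).v i i (add_zero i) ≫ (biprod.inl : N ⟶ N ⊞ mappingCone (𝟙 M)).f i -
    (mappingCone.fst u).1.v i (i + 1) rfl ≫ (mappingCone.inl (𝟙 M)).v (i + 1) i (by omega) ≫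
      (biprod.inr : mappingCone (𝟙 M) ⟶ N ⊞ mappingCone (𝟙 M)).f i

lemma ι_r (i : ℤ) : (ι u).f i ≫ r M N i = 𝟙 _ := by
  simp [ι, r, ← HomologicalComplex.comp_f_assoc]

lemma s_π (i : ℤ) : s u i ≫ (π u).f i = 𝟙 _ := by
  simp only [s, π, Preadditive.sub_comp, assoc, ← HomologicalComplex.comp_f, biprod.inl_desc,
    biprod.inr_desc, HomologicalComplex.neg_f_apply, Preadditive.comp_neg, sub_neg_eq_add,
    inl_v_κ_f]
  rw [add_comm]
  exact mappingCone.id_X u i (i + 1) rfl

lemma r_ι_add (i : ℤ) : r M N i ≫ (ι u).f i + (π u).f i ≫ s u i = 𝟙 _ := by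
  apply HomologicalComplex.biprodX_ext_from
  · apply HomologicalComplex.biprodX_ext_to
    · simp [r, s, π, ι, ← HomologicalComplex.comp_f_assoc, ← HomologicalComplex.comp_f]
    · simp [r, s, π, ι, ← HomologicalComplex.comp_f_assoc, ← HomologicalComplex.comp_f]
  · apply HomologicalComplex.biprodX_ext_to
    · simp [r, s, π, ι, ← HomologicalComplex.comp_f_assoc, ← HomologicalComplex.comp_f,
        κ_f_snd_v]
    · simp [r, s, π, ι, ← HomologicalComplex.comp_f_assoc, ← HomologicalComplex.comp_f,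
        κ_f_fst_v_assoc]
      rw [add_comm]
      exact mappingCone.id_X (𝟙 M) i (i + 1) rfl

/-- The degreewise splittings of `S u`. -/
noncomputable def splitting (i : ℤ) :
    ((S u).map (HomologicalComplex.eval C (ComplexShape.up ℤ) i)).Splitting where
  r := r M N i
  s := s u i
  f_r := ι_r u i
  s_g := s_π u i
  id := r_ι_add u i

lemma shortExact : (S u).ShortExact :=
  HomologicalComplex.shortExact_of_degreewise_shortExact _ (fun i => (splitting u i).shortExact)

/-- The degreewise section as a cochain. -/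
noncomputable def sC : Cochain (mappingCone u) (N ⊞ mappingCone (𝟙 M)) 0 :=
  Cochain.ofHoms (fun i => s u i)

lemma sC_π : (sC u).comp (Cochain.ofHom (π u)) (zero_add 0) = Cochain.ofHom (𝟙 _) := by
  ext i
  simp [sC, s_π]

variable (H : Homotopy (𝟙 (mappingCone u)) 0)

/-- The chain-map section built from a contraction of the cone. -/
noncomputable def σ : mappingCone u ⟶ N ⊞ mappingCone (𝟙 M) :=
  Cocycle.homOf (Cocycle.mk (δ (-1) 0 (((Cochain.equivHomotopy _ _) H).1.comp (sC u) (add_zero _)))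
    1 (by simp) (δ_δ _ _ _ _))

lemma σ_π : σ u H ≫ π u = 𝟙 _ := by
  apply (Cocycle.equivHom _ _).injective
  ext : 1
  simp only [Cocycle.equivHom_apply, Cocycle.ofHom_coe]
  have h1 := ((Cochain.equivHomotopy _ _) H).2
  rw [Cochain.ofHom_comp, σ, Cocycle.cochain_ofHom_homOf_eq_coe, Cocycle.mk_coe, ← δ_comp_ofHom,
    Cochain.comp_assoc_of_second_is_zero_cochain, sC_π, Cochain.comp_id]
  simp

/-- If the cone of `u : M ⟶ N` is contractible, then `N ⊞ cone(𝟙 M) ≅ M ⊞ cone(u)`. -/
noncomputable def stableIso : N ⊞ mappingCone (𝟙 M) ≅ M ⊞ mappingCone u :=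
  (ShortComplex.Splitting.ofExactOfSection (S u) (shortExact u).exact (σ u H) (σ_π u H)
    (shortExact u).mono_f).isoBinaryBiproduct

end Groth.Agent.Helper3.SI
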