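import Mathlib.RingTheory.Localization.Free
import Mathlib.RingTheory.Localization.Away.Basic
import Mathlib.RingTheory.LocalRing.Module
import Mathlib.RingTheory.Flat.Localization
import Mathlib.Algebra.Category.ModuleCat.ChangeOfRings
import Mathlib.Algebra.Module.FinitePresentation
import Mathlib.RingTheory.Localization.BaseChange
import Mathlib.LinearAlgebra.TensorProduct.Tower

/-!
# Simultaneous freeness of finitely many finite projective modules on a principal open
-/

open CategoryTheory TensorProduct

namespace Groth.Agent.Helper3.SI

universe u

variable {R : Type u} [CommRing R]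

/-- Freeness of `S ⊗[R] X` transfers to `(extendScalars φ).obj X` when `φ` is the algebra map. -/
theorem es_free_of_tensor {S : Type u} [CommRing S] (φ : R →+* S) [a : Algebra R S]
    (hφ : algebraMap R S = φ) (X : ModuleCat.{u} R) (h : Module.Free S (S ⊗[R] X)) :
    Module.Free S ((ModuleCat.extendScalars.{u, u, u} φ).obj X) := by
  have ha : a = φ.toAlgebra := Algebra.algebra_ext _ _ (fun r => by rw [hφ]; rfl)
  subst ha
  exact h

/-- Freeness after inverting `g` implies freeness after inverting a multiple of `g`. -/
theorem free_away_of_dvd (g f : R) (hgf : g ∣ f) (X : Type u) [AddCommGroup X] [Module R X]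
    (h : Module.Free (Localization.Away g) (Localization.Away g ⊗[R] X)) :
    Module.Free (Localization.Away f) (Localization.Away f ⊗[R] X) := by
  obtain ⟨c, rfl⟩ := hgf
  let ψ : Localization.Away g →+* Localization.Away (g * c) :=
    IsLocalization.Away.awayToAwayRight g c
  letI : Algebra (Localization.Away g) (Localization.Away (g * c)) := ψ.toAlgebra
  haveI : IsScalarTower R (Localization.Away g) (Localization.Away (g * c)) :=
    IsScalarTower.of_algebraMap_eq (fun r => (IsLocalization.Away.awayToAwayRight_eq g c r).symm)
  let e := TensorProduct.AlgebraTensorModule.cancelBaseChange R (Localization.Away g)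
    (Localization.Away (g * c)) (Localization.Away (g * c)) X
  exact Module.Free.of_equiv e

/-- A finite projective module becomes free on a principal open neighbourhood of a prime. -/
theorem exists_free_away (p : Ideal R) [p.IsPrime] (X : Type u) [AddCommGroup X] [Module R X]
    [Module.Finite R X] [Module.Projective R X] :
    ∃ g, g ∉ p ∧ Module.Free (Localization.Away g) (Localization.Away g ⊗[R] X) := by
  haveI : Module.FinitePresentation R X := Module.finitePresentation_of_projective R X
  haveI : Module.Free (Localization.AtPrime p) (LocalizedModule p.primeCompl X) :=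
    Module.free_of_flat_of_isLocalRing
  obtain ⟨r, hr, hfree, -⟩ := Module.FinitePresentation.exists_free_localizedModule_powers
    p.primeCompl (LocalizedModule.mkLinearMap p.primeCompl X) (Localization.AtPrime p)
  refine ⟨r, hr, ?_⟩
  have hb := IsLocalizedModule.isBaseChange (Submonoid.powers r) (Localization.Away r)
    (LocalizedModule.mkLinearMap (Submonoid.powers r) X)
  exact Module.Free.of_equiv hb.equiv.symm

/-- Simultaneous version for a finite family, stable under passing to multiples. -/
theorem exists_free_away_finset (p : Ideal R) [p.IsPrime] {ι : Type*} (X : ι → ModuleCat.{u} R)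
    (hX : ∀ i, Module.Finite R (X i) ∧ Module.Projective R (X i)) (s : Finset ι) :
    ∃ f, f ∉ p ∧ ∀ f', f ∣ f' → ∀ i ∈ s,
      Module.Free (Localization.Away f') (Localization.Away f' ⊗[R] X i) := by
  classical
  induction s using Finset.induction_on with
  | empty => exact ⟨1, fun h => ‹p.IsPrime›.ne_top ((Ideal.eq_top_iff_one p).2 h), by simp⟩
  | insert j s hj ih =>
    obtain ⟨f, hf, hfs⟩ := ih
    haveI := (hX j).1
    haveI := (hX j).2
    obtain ⟨g, hg, hgfree⟩ := exists_free_away p (X j)
    refine ⟨f * g, fun h => ?_, fun f' hf' i hi => ?_⟩
    · rcases ‹p.IsPrime›.mem_or_mem h with h | h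
      · exact hf h
      · exact hg h
    · rcases Finset.mem_insert.1 hi with rfl | hi
      · exact free_away_of_dvd g f' (dvd_trans (dvd_mul_left g f) hf') _ hgfree
      · exact hfs f' (dvd_trans (dvd_mul_right f g) hf') i hi

end Groth.Agent.Helper3.SI
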