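import Groth.Agent.Lib.Helper3.SI1
import Groth.Agent.Lib.Helper3.SI2
import Groth.Agent.Lib.Helper3.TH4

/-!
# Bounded complexes of finite projective modules isomorphic in `D(R)`: cones and boundaries
-/

open CategoryTheory Category Limits CochainComplex HomComplex DerivedCategory

attribute [local instance] HasDerivedCategory.standard

namespace Groth.Agent.Helper3.SI

open Groth.Agent.Helper11.DC Groth.Agent.Helper11.Tel Groth.Agent.Helper3.TH

universe u

variable {R : Type u} [CommRing R]

section cone

variable {M N : DRing.Cx R} (φ : M ⟶ N)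

/-- The terms of a mapping cone are retracts of products. -/
theorem cone_term_finite_projective (i : ℤ)
    (hM : Module.Finite R (M.X (i + 1)) ∧ Module.Projective R (M.X (i + 1)))
    (hN : Module.Finite R (N.X i) ∧ Module.Projective R (N.X i)) :
    Module.Finite R ((mappingCone φ).X i) ∧ Module.Projective R ((mappingCone φ).X i) := by
  haveI := hM.1; haveI := hM.2; haveI := hN.1; haveI := hN.2
  let incl : (mappingCone φ).X i →ₗ[R] (M.X (i + 1) × N.X i) :=
    LinearMap.prod ((mappingCone.fst φ).1.v i (i + 1) rfl).hom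
      ((mappingCone.snd φ).v i i (add_zero i)).hom
  let proj : (M.X (i + 1) × N.X i) →ₗ[R] (mappingCone φ).X i :=
    LinearMap.coprod ((mappingCone.inl φ).v (i + 1) i (by omega)).hom ((mappingCone.inr φ).f i).hom
  have h : proj ∘ₗ incl = LinearMap.id := by
    ext x
    have := congrArg (fun t => t.hom x) (mappingCone.id_X φ i (i + 1) rfl)
    simpa [proj, incl] using this
  have hsurj : Function.Surjective proj := fun x => ⟨incl x, LinearMap.congr_fun h x⟩
  exact ⟨Module.Finite.of_surjective proj hsurj, Module.Projective.of_split incl proj h⟩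

theorem cone_termwiseFiniteProjective (hM : DRing.TermwiseFiniteProjective M)
    (hN : DRing.TermwiseFiniteProjective N) :
    DRing.TermwiseFiniteProjective (mappingCone φ) :=
  fun i => cone_term_finite_projective φ i (hM (i + 1)) (hN i)

theorem cone_vanishesOutside (a b : ℤ) (hM : DRing.VanishesOutside M a b)
    (hN : DRing.VanishesOutside N a b) : DRing.VanishesOutside (mappingCone φ) (a - 1) b := by
  intro i hi
  rw [mappingCone.isZero_X_iff]
  exact ⟨hM _ (by omega), hN _ (by omega)⟩

end cone

/-- An isomorphism in `D(R)` out of a K-projective complex lifts to a quasi-isomorphism. -/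
theorem exists_quasiIso_of_iso (M N : DRing.Cx R) [M.IsKProjective]
    (e : DRing.toD M ≅ DRing.toD N) : ∃ u : M ⟶ N, QuasiIso u := by
  obtain ⟨u, hu⟩ := exists_lift_of_isKProjective M N e.hom
  refine ⟨u, ?_⟩
  rw [← DerivedCategory.isIso_Q_map_iff_quasiIso, hu]
  infer_instance

/-- A K-projective acyclic complex is contractible. -/
theorem contractible_of_isZero (C : DRing.Cx R) [C.IsKProjective] (hC : IsZero (Q.obj C)) :
    Nonempty (Homotopy (𝟙 C) 0) :=
  homotopy_of_Q_map_eq C C (𝟙 C) 0 (hC.eq_of_src _ _)

theorem isZero_Q_cone_of_quasiIso {M N : DRing.Cx R} (u : M ⟶ N) [QuasiIso u] :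
    IsZero (Q.obj (mappingCone u)) := by
  have h := DerivedCategory.mappingCone_triangle_distinguished u
  exact Pretriangulated.Triangle.isZero₃_of_isIso₁ _ h
    (by
      change IsIso (Q.map u)
      rw [DerivedCategory.isIso_Q_map_iff_quasiIso]; infer_instance)

/-- The cone of a quasi-isomorphism of bounded complexes of finite projectives is contractible. -/
theorem contractible_cone {M N : DRing.Cx R} (u : M ⟶ N) [QuasiIso u] (a b : ℤ)
    (hM : DRing.VanishesOutside M a b) (hN : DRing.VanishesOutside N a b)
    (hMp : DRing.TermwiseFiniteProjective M) (hNp : DRing.TermwiseFiniteProjective N) :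
    Nonempty (Homotopy (𝟙 (mappingCone u)) 0) := by
  haveI := isKProjective_of_bounded (mappingCone u) (a - 1) b (cone_vanishesOutside u a b hM hN)
    (cone_termwiseFiniteProjective u hMp hNp)
  exact contractible_of_isZero _ (isZero_Q_cone_of_quasiIso u)

section boundaries

variable (C : DRing.Cx R)

/-- The module of boundaries in degree `i + 1`. -/
def B (i : ℤ) : Submodule R (C.X (i + 1)) := LinearMap.range (C.d i (i + 1)).hom

variable {C} (H : Homotopy (𝟙 C) 0)

include H in
theorem d_H_d (i : ℤ) : C.d i (i + 1) ≫ H.hom (i + 1) i ≫ C.d i (i + 1) = C.d i (i + 1) := by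
  have h := H.comm i
  rw [dNext_eq H.hom (show (ComplexShape.up ℤ).Rel i (i + 1) by simp),
    prevD_eq H.hom (show (ComplexShape.up ℤ).Rel (i - 1) i by simp)] at h
  have h2 := congrArg (fun t => t ≫ C.d i (i + 1)) h
  simp only [HomologicalComplex.id_f, id_comp, HomologicalComplex.zero_f, add_zero,
    Preadditive.add_comp, assoc, HomologicalComplex.d_comp_d, comp_zero] at h2
  exact h2.symm

/-- The retraction of `C.X (i + 1)` onto the boundaries given by a contraction. -/
noncomputable def ρB (i : ℤ) : C.X (i + 1) →ₗ[R] B C i :=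
  LinearMap.codRestrict (B C i) (H.hom (i + 1) i ≫ C.d i (i + 1)).hom
    (fun y => ⟨(H.hom (i + 1) i).hom y, rfl⟩)

theorem ρB_subtype (i : ℤ) : ρB H i ∘ₗ (B C i).subtype = LinearMap.id := by
  ext ⟨y, x, rfl⟩
  have := congrArg (fun t => t.hom x) (d_H_d H i)
  simpa [ρB] using this

include H in
theorem B_finite_projective (i : ℤ)
    (hC : Module.Finite R (C.X (i + 1)) ∧ Module.Projective R (C.X (i + 1))) :
    Module.Finite R (B C i) ∧ Module.Projective R (B C i) := by
  haveI := hC.1; haveI := hC.2
  have hsurj : Function.Surjective (ρB H i) := fun x =>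
    ⟨(B C i).subtype x, LinearMap.congr_fun (ρB_subtype H i) x⟩
  exact ⟨Module.Finite.of_surjective _ hsurj,
    Module.Projective.of_split (B C i).subtype (ρB H i) (ρB_subtype H i)⟩

include H in
/-- After any base change, the boundaries of the base-changed contractible complex are the
base change of the boundaries. -/
theorem free_range_of_free_B {S : Type u} [CommRing S] (φ : R →+* S) (i : ℤ)
    (hfree : Module.Free S
      ((ModuleCat.extendScalars.{u, u, u} φ).obj (ModuleCat.of R (B C i)))) :
    Module.Free S (LinearMap.range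
      ((((ModuleCat.extendScalars.{u, u, u} φ).mapHomologicalComplex
        (ComplexShape.up ℤ)).obj C).d i (i + 1)).hom) := by
  let E := ModuleCat.extendScalars.{u, u, u} φ
  let q : C.X i ⟶ ModuleCat.of R (B C i) := ModuleCat.ofHom ((C.d i (i + 1)).hom.rangeRestrict)
  let j : ModuleCat.of R (B C i) ⟶ C.X (i + 1) := ModuleCat.ofHom (B C i).subtype
  let ρ : C.X (i + 1) ⟶ ModuleCat.of R (B C i) := ModuleCat.ofHom (ρB H i)
  have hqj : q ≫ j = C.d i (i + 1) := by
    ext x
    rfl
  have hjρ : j ≫ ρ = 𝟙 _ := ModuleCat.hom_ext (ρB_subtype H i)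
  haveI : Epi q := (ModuleCat.epi_iff_surjective _).2
    (LinearMap.surjective_rangeRestrict _)
  haveI : E.PreservesEpimorphisms :=
    Functor.preservesEpimorphisms_of_adjunction (ModuleCat.extendRestrictScalarsAdj φ)
  have hsurj : Function.Surjective (E.map q).hom := (ModuleCat.epi_iff_surjective _).1 inferInstance
  have hinj : Function.Injective (E.map j).hom := by
    have h1 : E.map j ≫ E.map ρ = 𝟙 _ := by rw [← E.map_comp, hjρ, E.map_id]
    intro x y hxy
    have hx := congrArg (fun t => t.hom x) h1
    have hy := congrArg (fun t => t.hom y) h1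
    simp only [ModuleCat.hom_comp, LinearMap.comp_apply, ModuleCat.hom_id, LinearMap.id_apply]
      at hx hy
    rw [← hx, ← hy, hxy]
  have hd : (((ModuleCat.extendScalars.{u, u, u} φ).mapHomologicalComplex
      (ComplexShape.up ℤ)).obj C).d i (i + 1) = E.map q ≫ E.map j := by
    rw [← E.map_comp, hqj]
    rfl
  have hrange : LinearMap.range ((((ModuleCat.extendScalars.{u, u, u} φ).mapHomologicalComplex
      (ComplexShape.up ℤ)).obj C).d i (i + 1)).hom = LinearMap.range (E.map j).hom := by
    apply le_antisymm
    · rintro _ ⟨x, rfl⟩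
      exact ⟨(E.map q).hom x, (congrArg (fun t => (ModuleCat.Hom.hom t) x) hd).symm⟩
    · rintro _ ⟨y, rfl⟩
      obtain ⟨x, rfl⟩ := hsurj y
      exact ⟨x, congrArg (fun t => (ModuleCat.Hom.hom t) x) hd⟩
  rw [hrange]
  exact Module.Free.of_equiv (LinearEquiv.ofInjective (E.map j).hom hinj)

end boundaries

end Groth.Agent.Helper3.SI
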