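import Groth.Agent.Lib.Helper3.SI3
import Groth.Agent.Lib.Helper11.DCFlatBC

/-!
# Bounded complexes of finite projective modules isomorphic in `D(R)` are stably isomorphic
locally
-/

open CategoryTheory Category Limits CochainComplex HomComplex DerivedCategory

attribute [local instance] HasDerivedCategory.standard

namespace Groth.Agent.Helper3.SI

open Groth.Agent.Helper11.DC Groth.Agent.Helper11.Tel Groth.Agent.Helper3.TH

universe u

variable {R : Type u} [CommRing R]

/-- Simultaneous freeness after inverting one element, for a bounded family of finite projective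
modules, in the `extendScalars` form. -/
theorem exists_free_es (p : Ideal R) [p.IsPrime] (X : ℤ → ModuleCat.{u} R)
    (hX : ∀ i, Module.Finite R (X i) ∧ Module.Projective R (X i)) (a b : ℤ)
    (hz : ∀ i, i < a ∨ b < i → IsZero (X i)) :
    ∃ f, f ∉ p ∧ ∀ f', f ∣ f' → ∀ i, Module.Free (Localization.Away f')
      ((ModuleCat.extendScalars.{u, u, u} (algebraMap R (Localization.Away f'))).obj (X i)) := by
  obtain ⟨f, hf, hfree⟩ := exists_free_away_finset p X hX (Finset.Icc a b)
  refine ⟨f, hf, fun f' hf' i => ?_⟩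
  by_cases hi : i ∈ Finset.Icc a b
  · exact es_free_of_tensor _ rfl _ (hfree f' hf' i hi)
  · have hi' : i < a ∨ b < i := by
      rw [Finset.mem_Icc] at hi
      omega
    have h0 : IsZero ((ModuleCat.extendScalars.{u, u, u}
        (algebraMap R (Localization.Away f'))).obj (X i)) := Functor.map_isZero _ (hz i hi')
    haveI := ModuleCat.subsingleton_of_isZero h0
    exact Module.Free.of_subsingleton _ _

section trivial

variable {S : Type u} [CommRing S] (φ : R →+* S) (C : DRing.Cx R) (H : Homotopy (𝟙 C) 0)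

include H in
theorem trivial_after_baseChange (a b : ℤ) (hC : DRing.VanishesOutside C a b)
    (hfin : ∀ i, Module.Finite R (C.X i))
    (hfreeX : ∀ i, Module.Free S ((ModuleCat.extendScalars.{u, u, u} φ).obj (C.X i)))
    (hfreeB : ∀ i, Module.Free S
      ((ModuleCat.extendScalars.{u, u, u} φ).obj (ModuleCat.of R (B C i)))) :
    (∃ a' b' : ℤ, DRing.VanishesOutside
      (((ModuleCat.extendScalars.{u, u, u} φ).mapHomologicalComplex (ComplexShape.up ℤ)).obj C)
        a' b') ∧
    DRing.TermwiseFiniteFree
      (((ModuleCat.extendScalars.{u, u, u} φ).mapHomologicalComplex (ComplexShape.up ℤ)).obj C) ∧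
    (∀ i : ℤ, Module.Free S (LinearMap.range
      ((((ModuleCat.extendScalars.{u, u, u} φ).mapHomologicalComplex
        (ComplexShape.up ℤ)).obj C).d i (i + 1)).hom)) ∧
    Nonempty (Homotopy (𝟙 (((ModuleCat.extendScalars.{u, u, u} φ).mapHomologicalComplex
      (ComplexShape.up ℤ)).obj C)) 0) := by
  refine ⟨⟨a, b, fun i hi => (ModuleCat.extendScalars.{u, u, u} φ).map_isZero (hC i hi)⟩, fun i => ⟨?_, hfreeX i⟩,
    fun i => free_range_of_free_B H φ i (hfreeB i), ⟨?_⟩⟩
  · haveI := hfin i
    exact es_finite φ (C.X i)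
  · have h := (ModuleCat.extendScalars.{u, u, u} φ).mapHomotopy (c := ComplexShape.up ℤ) H
    exact (Homotopy.ofEq (by simp)).trans (h.trans (Homotopy.ofEq (by simp)))

end trivial

theorem isZero_B (C : DRing.Cx R) (i : ℤ) (h : IsZero (C.X (i + 1))) :
    IsZero (ModuleCat.of R (B C i)) := by
  haveI := ModuleCat.subsingleton_of_isZero h
  haveI : Subsingleton (B C i) := inferInstance
  exact ModuleCat.isZero_of_subsingleton _

/-- The data attached to one contractible complex: an element of the complement of `p` after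
inverting any multiple of which the base change is a "trivial" complex. -/
theorem exists_trivial (p : Ideal R) [p.IsPrime] (C : DRing.Cx R) (H : Homotopy (𝟙 C) 0)
    (a b : ℤ) (hC : DRing.VanishesOutside C a b) (hCp : DRing.TermwiseFiniteProjective C) :
    ∃ f, f ∉ p ∧ ∀ f', f ∣ f' →
      (∃ a' b' : ℤ, DRing.VanishesOutside
        (((ModuleCat.extendScalars.{u, u, u} (algebraMap R (Localization.Away f'))).mapHomologicalComplex
          (ComplexShape.up ℤ)).obj C) a' b') ∧
      DRing.TermwiseFiniteFree
        (((ModuleCat.extendScalars.{u, u, u} (algebraMap R (Localization.Away f'))).mapHomologicalComplex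
          (ComplexShape.up ℤ)).obj C) ∧
      (∀ i : ℤ, Module.Free (Localization.Away f') (LinearMap.range
        ((((ModuleCat.extendScalars.{u, u, u}
          (algebraMap R (Localization.Away f'))).mapHomologicalComplex
            (ComplexShape.up ℤ)).obj C).d i (i + 1)).hom)) ∧
      Nonempty (Homotopy (𝟙 (((ModuleCat.extendScalars.{u, u, u}
        (algebraMap R (Localization.Away f'))).mapHomologicalComplex
          (ComplexShape.up ℤ)).obj C)) 0) := by
  obtain ⟨f₁, hf₁, h₁⟩ := exists_free_es p (fun i => C.X i) hCp a b hC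
  obtain ⟨f₂, hf₂, h₂⟩ := exists_free_es p (fun i => ModuleCat.of R (B C i))
    (fun i => B_finite_projective H i (hCp (i + 1))) (a - 1) b
    (fun i hi => isZero_B C i (hC _ (by omega)))
  refine ⟨f₁ * f₂, fun h => ?_, fun f' hf' => ?_⟩
  · rcases ‹p.IsPrime›.mem_or_mem h with h | h
    · exact hf₁ h
    · exact hf₂ h
  · exact trivial_after_baseChange _ C H a b hC (fun i => (hCp i).1)
      (h₁ f' (dvd_trans (dvd_mul_right f₁ f₂) hf')) (h₂ f' (dvd_trans (dvd_mul_left f₂ f₁) hf'))

/-- **Main theorem**: two bounded complexes of finite projective modules which are isomorphic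
in `D(R)` become isomorphic, near a given prime, after adding trivial complexes. -/
theorem main (R : Type u) [CommRing R] (p : Ideal R) [p.IsPrime]
    (M N : DRing.Cx R) (a b : ℤ) (hM : DRing.VanishesOutside M a b)
    (hN : DRing.VanishesOutside N a b)
    (hMp : DRing.TermwiseFiniteProjective M) (hNp : DRing.TermwiseFiniteProjective N)
    (h : Nonempty (DRing.toD M ≅ DRing.toD N)) :
    ∃ f : R, f ∉ p ∧ ∃ P Q : DRing.Cx (Localization.Away f),
      ((∃ a' b' : ℤ, DRing.VanishesOutside P a' b') ∧ DRing.TermwiseFiniteFree P ∧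
          (∀ i : ℤ, Module.Free (Localization.Away f) (LinearMap.range (P.d i (i + 1)).hom)) ∧
          Nonempty (Homotopy (𝟙 P) 0)) ∧
      ((∃ a' b' : ℤ, DRing.VanishesOutside Q a' b') ∧ DRing.TermwiseFiniteFree Q ∧
          (∀ i : ℤ, Module.Free (Localization.Away f) (LinearMap.range (Q.d i (i + 1)).hom)) ∧
          Nonempty (Homotopy (𝟙 Q) 0)) ∧
      Nonempty ((((ModuleCat.extendScalars (algebraMap R (Localization.Away f))).mapHomologicalComplex
        (ComplexShape.up ℤ)).obj M) ⊞ P ≅
        (((ModuleCat.extendScalars (algebraMap R (Localization.Away f))).mapHomologicalComplex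
          (ComplexShape.up ℤ)).obj N) ⊞ Q) := by
  obtain ⟨e⟩ := h
  haveI := isKProjective_of_bounded M a b hM hMp
  obtain ⟨u, hu⟩ := exists_quasiIso_of_iso M N e
  obtain ⟨H₁⟩ := contractible_cone u a b hM hN hMp hNp
  have H₂ := mappingCone.homotopyToZeroOfId M
  have e₀ := stableIso u H₁
  obtain ⟨f₁, hf₁, h₁⟩ := exists_trivial p (mappingCone u) H₁ (a - 1) b
    (cone_vanishesOutside u a b hM hN) (cone_termwiseFiniteProjective u hMp hNp)
  obtain ⟨f₂, hf₂, h₂⟩ := exists_trivial p (mappingCone (𝟙 M)) H₂ (a - 1) b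
    (cone_vanishesOutside (𝟙 M) a b hM hM) (cone_termwiseFiniteProjective (𝟙 M) hMp hMp)
  refine ⟨f₁ * f₂, fun h => ?_, _, _, h₁ _ (dvd_mul_right f₁ f₂), h₂ _ (dvd_mul_left f₂ f₁), ⟨?_⟩⟩
  · rcases ‹p.IsPrime›.mem_or_mem h with h | h
    · exact hf₁ h
    · exact hf₂ h
  · let F := (ModuleCat.extendScalars.{u, u, u}
      (algebraMap R (Localization.Away (f₁ * f₂)))).mapHomologicalComplex (ComplexShape.up ℤ)
    haveI : PreservesBinaryBiproducts F := preservesBinaryBiproducts_of_preservesBiproducts F
    exact (F.mapBiprod M (mappingCone u)).symm ≪≫ F.mapIso e₀.symm ≪≫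
      F.mapBiprod N (mappingCone (𝟙 M))

end Groth.Agent.Helper3.SI
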