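import Mathlib
import Groth.Prelude.Def_GSzCSA
import Groth.Prelude.Def_Curves
import Groth.Agent.Lib.Helper20.NrdU
import Groth.Agent.Lib.Helper3.H90A2

/-!
Reduced norm on `K ⊗ A`: Galois equivariance and compatibility with the reduced norm of `A`.
-/

set_option autoImplicit false

universe u v w

open scoped TensorProduct

namespace Groth.Agent.Helper3.SL1H1

variable {k : Type u} [Field k] {K : Type v} [Field K] [Algebra k K]
  {A : Type w} [Ring A] [Algebra k A]

/-- the Galois action as a ring endomorphism -/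
noncomputable def actHom (σ : K ≃ₐ[k] K) : K ⊗[k] A →ₐ[k] K ⊗[k] A :=
  Algebra.TensorProduct.map (σ : K →ₐ[k] K) (AlgHom.id k A)

theorem actHom_apply (σ : K ≃ₐ[k] K) (x : K ⊗[k] A) : actHom σ x = σ • x :=
  (CSAGal.smul_eq_map k K A σ x).symm

section norm

variable {n : ℕ} (hn : n ≠ 0) (φ : K ⊗[k] A ≃ₐ[K] Matrix (Fin n) (Fin n) K)
  (NK : (K ⊗[k] A) →* K) (hNK : CSAGal.IsRedNorm K (K ⊗[k] A) NK)
  [Algebra.IsCentral K (K ⊗[k] A)] [IsSimpleRing (K ⊗[k] A)] [FiniteDimensional K (K ⊗[k] A)]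

include hn φ in
omit [Algebra.IsCentral K (K ⊗[k] A)] [IsSimpleRing (K ⊗[k] A)]
  [FiniteDimensional K (K ⊗[k] A)] in
theorem finrank_eq : Module.finrank K (K ⊗[k] A) = n ^ 2 := by
  rw [φ.toLinearEquiv.finrank_eq, Module.finrank_matrix]
  simp [sq]

include hn φ hNK in
theorem NK_eq_det (x : K ⊗[k] A) : NK x = (φ x).det := by
  have h := Groth.Agent.Helper20.NrdU.redNorm_eq_det NK hNK (K' := K) hn φ.toAlgHom
    (finrank_eq hn φ) x
  simpa using h

/-- the twisted representation -/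
noncomputable def twRep (σ : K ≃ₐ[k] K) : K ⊗[k] A →ₐ[K] Matrix (Fin n) (Fin n) K :=
  { toRingHom := ((σ.symm : K ≃ₐ[k] K) : K →+* K).mapMatrix.comp
      ((φ : K ⊗[k] A →+* Matrix (Fin n) (Fin n) K).comp
        ((actHom σ : K ⊗[k] A →ₐ[k] K ⊗[k] A) : K ⊗[k] A →+* K ⊗[k] A))
    commutes' := fun c => by
      change ((σ.symm : K ≃ₐ[k] K) : K →+* K).mapMatrix
        (φ (actHom σ (algebraMap K (K ⊗[k] A) c))) = _
      rw [Algebra.TensorProduct.algebraMap_apply, actHom, Algebra.TensorProduct.map_tmul,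
        map_one]
      have h1 : ((σ : K →ₐ[k] K) (algebraMap K K c)) ⊗ₜ[k] (1 : A) =
          algebraMap K (K ⊗[k] A) (σ c) := by
        rw [Algebra.TensorProduct.algebraMap_apply]
        rfl
      rw [h1, AlgEquiv.commutes]
      ext i j
      by_cases hij : i = j
      · simp [Matrix.algebraMap_matrix_apply, hij]
      · simp [Matrix.algebraMap_matrix_apply, hij] }

theorem twRep_apply (σ : K ≃ₐ[k] K) (x : K ⊗[k] A) :
    twRep φ σ x = ((σ.symm : K ≃ₐ[k] K) : K →+* K).mapMatrix (φ (σ • x)) := by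
  rw [← actHom_apply]
  rfl

include hn φ hNK in
theorem NK_smul (σ : K ≃ₐ[k] K) (x : K ⊗[k] A) : NK (σ • x) = σ (NK x) := by
  have h := Groth.Agent.Helper20.NrdU.redNorm_eq_det NK hNK (K' := K) hn (twRep φ σ)
    (finrank_eq hn φ) x
  rw [twRep_apply, ← RingHom.map_det, ← NK_eq_det hn φ NK hNK] at h
  have h2 : NK x = σ.symm (NK (σ • x)) := by simpa using h
  rw [h2, AlgEquiv.apply_symm_apply]

include hn φ hNK in
theorem NK_one_tmul (N : A →* k) (hN : CSAGal.IsRedNorm k A N) [FiniteDimensional k A]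
    [Algebra.IsCentral k A] [IsSimpleRing A] (a : A) :
    NK ((1 : K) ⊗ₜ[k] a) = algebraMap k K (N a) := by
  have hdim : Module.finrank k A = n ^ 2 := by
    rw [← finrank_eq hn φ, Module.finrank_baseChange]
  have h := Groth.Agent.Helper20.NrdU.redNorm_eq_det N hN (K' := K) hn
    ((φ.toAlgHom.restrictScalars k).comp Algebra.TensorProduct.includeRight) hdim a
  rw [h, NK_eq_det hn φ NK hNK]
  rfl

end norm

end Groth.Agent.Helper3.SL1H1
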