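import Mathlib
import Groth.Agent.Lib.Helper3.SP1
import Groth.Agent.Lib.Helper3.RegSpread

/-!
# Spreading out a Hilbert–Burch presentation: scaling, lifting, and the main lemma (helper3)
-/

set_option autoImplicit false

universe u

namespace Groth.Agent.Helper3.SP2

open Matrix Groth.Agent.Helper3.HB2 Groth.Agent.Helper3.SP1

section Scale

variable {S : Type u} [CommRing S] (r : ℕ) (φ : Matrix (Fin (r + 1)) (Fin r) S) (c : S)

lemma sm_smul : sm r (c • φ) = c ^ r • sm r φ := by
  ext i
  simp only [sm, Pi.smul_apply, smul_eq_mul]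
  have : (c • φ).submatrix i.succAbove id = c • φ.submatrix i.succAbove id := rfl
  rw [this, Matrix.det_smul, Fintype.card_fin]
  ring

variable (hc : IsUnit c)
include hc

lemma span_sm_smul : Ideal.span (Set.range (sm r (c • φ))) = Ideal.span (Set.range (sm r φ)) := by
  rw [sm_smul]
  have hd : IsUnit (c ^ r) := hc.pow r
  apply le_antisymm
  · rw [Ideal.span_le]
    rintro _ ⟨i, rfl⟩
    exact Ideal.mul_mem_left _ _ (Ideal.subset_span ⟨i, rfl⟩)
  · rw [Ideal.span_le]
    rintro _ ⟨i, rfl⟩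
    obtain ⟨u, hu⟩ := hd
    have : sm r φ i = (↑u⁻¹ : S) * ((c ^ r • sm r φ) i) := by
      rw [Pi.smul_apply, smul_eq_mul, ← hu, ← mul_assoc, u.inv_mul, one_mul]
    rw [this]
    exact Ideal.mul_mem_left _ _ (Ideal.subset_span ⟨i, rfl⟩)

lemma inj_smul (h : Function.Injective φ.mulVecLin) : Function.Injective (c • φ).mulVecLin := by
  rw [injective_iff_map_eq_zero] at h ⊢
  intro v hv
  rw [Matrix.mulVecLin_apply, Matrix.smul_mulVec] at hv
  exact h v ((hc.smul_eq_zero).mp hv)

lemma range_smul : LinearMap.range (c • φ).mulVecLin = LinearMap.range φ.mulVecLin := by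
  apply le_antisymm
  · rintro _ ⟨v, rfl⟩
    exact ⟨c • v, by simp [Matrix.mulVec_smul, Matrix.smul_mulVec]⟩
  · rintro _ ⟨v, rfl⟩
    obtain ⟨u, hu⟩ := hc
    refine ⟨(↑u⁻¹ : S) • v, ?_⟩
    rw [Matrix.mulVecLin_apply, Matrix.mulVecLin_apply, Matrix.smul_mulVec, Matrix.mulVec_smul,
      smul_smul, ← hu, u.mul_inv, one_smul]

lemma ker_lc_smul : LinearMap.ker (Fintype.linearCombination S (sm r (c • φ))) =
    LinearMap.ker (Fintype.linearCombination S (sm r φ)) := by
  rw [sm_smul]
  have hd : IsUnit (c ^ r) := hc.pow r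
  ext w
  simp only [LinearMap.mem_ker, Fintype.linearCombination_apply, Pi.smul_apply, smul_eq_mul]
  have : ∑ i, w i * (c ^ r * sm r φ i) = c ^ r * ∑ i, w i * sm r φ i := by
    rw [Finset.mul_sum]; refine Finset.sum_congr rfl fun i _ => by ring
  rw [this]
  constructor
  · intro h; exact (hd.mul_right_eq_zero).mp h
  · intro h; rw [h, mul_zero]

end Scale

section Lift

variable {A : Type u} [CommRing A] (M : Submonoid A) (S : Type u) [CommRing S] [Algebra A S]
  [IsLocalization M S]

lemma exists_matrix {m n : ℕ} (φ : Matrix (Fin m) (Fin n) S) :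
    ∃ (b : M) (φ₀ : Matrix (Fin m) (Fin n) A),
      φ₀.map (algebraMap A S) = algebraMap A S b • φ := by
  obtain ⟨b, hb⟩ := IsLocalization.exist_integer_multiples_of_finite M
    (fun ij : Fin m × Fin n => φ ij.1 ij.2)
  choose v hv using hb
  refine ⟨b, Matrix.of fun i j => v (i, j), ?_⟩
  ext i j
  simp only [Matrix.map_apply, Matrix.of_apply, Matrix.smul_apply, smul_eq_mul]
  rw [hv (i, j), Algebra.smul_def]

end Lift

section Main

variable {A : Type u} [CommRing A] [IsNoetherianRing A] (p : Ideal A) [p.IsPrime]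
  (S : Type u) [CommRing S] [Algebra A S] [IsLocalization.AtPrime S p]

theorem spread_main (I : Ideal A) (r : ℕ) (φ : Matrix (Fin (r + 1)) (Fin r) S)
    (hI : Ideal.span (Set.range (sm r φ)) = I.map (algebraMap A S))
    (hinj : Function.Injective φ.mulVecLin)
    (hex : LinearMap.range φ.mulVecLin = LinearMap.ker (Fintype.linearCombination S (sm r φ))) :
    ∃ g ∉ p, ∃ φ₀ : Matrix (Fin (r + 1)) (Fin r) A,
      ∀ (S' : Type u) [CommRing S'] [Algebra A S'] [IsLocalization.Away g S'],
        Ideal.span (Set.range (sm r (φ₀.map (algebraMap A S')))) = I.map (algebraMap A S') ∧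
        Function.Injective (φ₀.map (algebraMap A S')).mulVecLin ∧
        LinearMap.range (φ₀.map (algebraMap A S')).mulVecLin =
          LinearMap.ker (Fintype.linearCombination S' (sm r (φ₀.map (algebraMap A S')))) := by
  obtain ⟨b, φ₀, hφ₀⟩ := exists_matrix p.primeCompl S φ
  have hub : IsUnit (algebraMap A S b) := IsLocalization.map_units S b
  have hI' : Ideal.span (Set.range (sm r (φ₀.map (algebraMap A S)))) = I.map (algebraMap A S) := by
    rw [hφ₀, span_sm_smul r φ _ hub, hI]
  have hinj' : Function.Injective (φ₀.map (algebraMap A S)).mulVecLin := by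
    rw [hφ₀]; exact inj_smul r φ _ hub hinj
  have hex' : LinearMap.range (φ₀.map (algebraMap A S)).mulVecLin =
      LinearMap.ker (Fintype.linearCombination S (sm r (φ₀.map (algebraMap A S)))) := by
    rw [hφ₀, range_smul r φ _ hub, ker_lc_smul r φ _ hub, hex]
  have hJ : (Ideal.span (Set.range (sm r φ₀))).map (algebraMap A S) = I.map (algebraMap A S) := by
    rw [Ideal.map_span, ← Set.range_comp, ← sm_map', hI']
  obtain ⟨g₁, hg₁, h₁⟩ := RegSpread.spread_ideal_eq p S _ _ hJ
  obtain ⟨g₂, hg₂, h₂⟩ := spread_inj p S r φ₀ hinj'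
  obtain ⟨g₃, hg₃, h₃⟩ := spread_ex p S r φ₀ hex'
  refine ⟨g₁ * (g₂ * g₃), ?_, φ₀, ?_⟩
  · intro hmem
    rcases Ideal.IsPrime.mem_or_mem ‹_› hmem with h | h
    · exact hg₁ h
    · rcases Ideal.IsPrime.mem_or_mem ‹_› h with h | h
      · exact hg₂ h
      · exact hg₃ h
  · intro S' _ _ hloc
    have hloc₂ : IsLocalization.Away (g₂ * (g₁ * g₃)) S' := by
      have : g₂ * (g₁ * g₃) = g₁ * (g₂ * g₃) := by ring
      rw [this]; exact hloc
    have hloc₃ : IsLocalization.Away (g₃ * (g₁ * g₂)) S' := by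
      have : g₃ * (g₁ * g₂) = g₁ * (g₂ * g₃) := by ring
      rw [this]; exact hloc
    refine ⟨?_, h₂ (g₁ * g₃) S', h₃ (g₁ * g₂) S'⟩
    have := h₁ (g₂ * g₃) S'
    rw [Ideal.map_span, ← Set.range_comp, ← sm_map'] at this
    exact this

end Main

end Groth.Agent.Helper3.SP2
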