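import Mathlib
import Groth.Agent.Lib.Helper3.SP2
import Groth.Agent.Lib.Helper3.HB3
import Groth.Agent.Lib.Helper3.RegImm2
import Groth.Agent.Lib.Helper4.SmoothRegSch
import Groth.Agent.Lib.Helper20.RE3

/-!
# CM codimension-two subschemes of smooth schemes are locally determinantal (helper3)
-/

set_option autoImplicit false

universe u

open CategoryTheory CategoryTheory.Limits AlgebraicGeometry TopologicalSpace

namespace Groth.Agent.Helper3.SP3

open Matrix Groth.Agent.Helper3.HB2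

set_option maxHeartbeats 1600000 in
theorem main (k : Type u) [Field k]
    (X Y : Scheme.{u}) (f : X ⟶ Spec (CommRingCat.of k)) [Smooth f] (ι : Y ⟶ X)
    [IsClosedImmersion ι]
    (hCM : ∀ y : Y, LocCoh.IsCohenMacaulayLocalRing (Y.presheaf.stalk y))
    (hcodim : ∀ y : Y, ringKrullDim (Y.presheaf.stalk y) + 2 =
      ringKrullDim (X.presheaf.stalk (ι.base y)))
    (y : Y) :
    ∃ U : X.affineOpens, ι.base y ∈ (U : X.Opens) ∧ ∃ (r : ℕ)
      (φ : Matrix (Fin (r + 1)) (Fin r) Γ(X, U)),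
      (Ideal.span (Set.range (sm r φ)) = ι.ker.ideal U ∧
        Function.Injective φ.mulVecLin ∧
        LinearMap.range φ.mulVecLin =
          LinearMap.ker (Fintype.linearCombination Γ(X, U) (sm r φ))) := by
  haveI : IsLocallyNoetherian X := LocallyOfFiniteType.isLocallyNoetherian f
  obtain ⟨_, ⟨W, hW, rfl⟩, hxW, -⟩ :=
    X.isBasis_affineOpens.exists_subset_of_mem_open (Set.mem_univ (ι.base y)) isOpen_univ
  let U₀ : X.affineOpens := ⟨W, hW⟩
  have hxU : ι y ∈ U₀.1 := hxW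
  let _ := X.presheaf.algebra_section_stalk (U := U₀.1) ⟨ι y, hxU⟩
  have hloc := U₀.2.isLocalization_stalk ⟨ι y, hxU⟩
  have hnoeth : IsNoetherianRing Γ(X, U₀.1) := IsLocallyNoetherian.component_noetherian U₀
  have hg : ∀ a : Γ(X, U₀.1), algebraMap Γ(X, U₀.1) (X.presheaf.stalk (ι y)) a =
      (X.presheaf.germ U₀.1 (ι y) hxU).hom a := fun _ => rfl
  haveI : IsRegularLocalRing (X.presheaf.stalk (ι y)) :=
    Groth.Agent.Helper4.SmoothRegSch.isRegularLocalRing_stalk k f (ι y)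
  set J : Ideal (X.presheaf.stalk (ι y)) := RingHom.ker (ι.stalkMap y).hom with hJdef
  have hJ : J = (ι.ker.ideal U₀).map (algebraMap Γ(X, U₀.1) (X.presheaf.stalk (ι y))) :=
    RegImm2.ker_stalkMap_closedImmersion ι y U₀ hxU
  have hsurj : Function.Surjective (ι.stalkMap y).hom := ι.stalkMap_surjective y
  let e : (X.presheaf.stalk (ι y) ⧸ J) ≃+* Y.presheaf.stalk y :=
    RingHom.quotientKerEquivOfSurjective hsurj
  haveI := hCM y
  haveI : LocCoh.IsCohenMacaulayLocalRing (X.presheaf.stalk (ι y) ⧸ J) :=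
    Groth.Agent.Helper20.RE.isCohenMacaulayLocalRing_of_ringEquiv e.symm
  have hdim : ringKrullDim (X.presheaf.stalk (ι y) ⧸ J) + 2 =
      ringKrullDim (X.presheaf.stalk (ι y)) := by
    rw [ringKrullDim_eq_of_ringEquiv e]; exact hcodim y
  obtain ⟨r, φ, hspan, -, hinj, hex⟩ := HB3.main (X.presheaf.stalk (ι y)) J hdim
  obtain ⟨g, hgp, φ₀, hmain⟩ := SP2.spread_main (U₀.2.primeIdealOf ⟨ι y, hxU⟩).asIdeal
    (X.presheaf.stalk (ι y)) (ι.ker.ideal U₀) r φ (hspan.trans hJ) hinj hex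
  have hV : IsAffineOpen (X.basicOpen g) := U₀.2.basicOpen _
  have hle : X.basicOpen g ≤ U₀.1 := X.basicOpen_le _
  haveI hloc' : IsLocalization.Away g Γ(X, X.basicOpen g) := U₀.2.isLocalization_basicOpen _
  obtain ⟨h1, h2, h3⟩ := hmain Γ(X, X.basicOpen g)
  refine ⟨⟨X.basicOpen g, hV⟩, ?_, r,
    φ₀.map (algebraMap Γ(X, U₀.1) Γ(X, X.basicOpen g)), ?_, h2, h3⟩
  · change ι y ∈ X.basicOpen g
    rw [Scheme.mem_basicOpen X g (ι y) hxU]
    have hnot : g ∈ (U₀.2.primeIdealOf ⟨ι y, hxU⟩).asIdeal.primeCompl := hgp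
    exact (IsLocalization.AtPrime.isUnit_to_map_iff (X.presheaf.stalk (ι y))
      (U₀.2.primeIdealOf ⟨ι y, hxU⟩).asIdeal g).mpr hnot
  · rw [h1]
    exact (ι.ker.map_ideal (U := ⟨X.basicOpen g, hV⟩) (V := U₀) hle)

end Groth.Agent.Helper3.SP3
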