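import Mathlib.RingTheory.Unramified.LocalStructure
import Mathlib.RingTheory.Unramified.LocalRing
import Mathlib.RingTheory.Spectrum.Prime.Chevalley
import Mathlib.RingTheory.Jacobson.Ring
import Mathlib.Algebra.MvPolynomial.Funext
import Mathlib.FieldTheory.Perfect
import Mathlib.FieldTheory.SeparableDegree
import Mathlib.Topology.JacobsonSpace
import Mathlib.RingTheory.Spectrum.Prime.Jacobson

/-! Closed points with separable residue field on smooth algebras over a field. -/

universe u

namespace Groth.Agent.Helper3.SepPts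

section AffSpace

variable (k : Type u) [Field k] (n : ℕ)

/-- Closed points of affine space with finite separable residue field are dense. -/
theorem exists_sep_point_mvPolynomial (W : Set (PrimeSpectrum (MvPolynomial (Fin n) k)))
    (hW : IsOpen W) (hne : W.Nonempty) :
    ∃ v ∈ W, v.asIdeal.IsMaximal ∧ Module.Finite k (MvPolynomial (Fin n) k ⧸ v.asIdeal) ∧
      Algebra.IsSeparable k (MvPolynomial (Fin n) k ⧸ v.asIdeal) := by
  rcases finite_or_infinite k with hfin | hinf
  · -- finite field: any closed point works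
    obtain ⟨v, hvW, hv⟩ := nonempty_inter_closedPoints hne hW.isLocallyClosed
    have hmax : v.asIdeal.IsMaximal := (PrimeSpectrum.isClosed_singleton_iff_isMaximal v).mp hv
    refine ⟨v, hvW, hmax, ?_⟩
    letI := Ideal.Quotient.field v.asIdeal
    have hf : Module.Finite k (MvPolynomial (Fin n) k ⧸ v.asIdeal) :=
      finite_of_finite_type_of_isJacobsonRing k _
    refine ⟨hf, ?_⟩
    haveI : Algebra.IsAlgebraic k (MvPolynomial (Fin n) k ⧸ v.asIdeal) := Algebra.IsAlgebraic.of_finite _ _
    exact Algebra.IsAlgebraic.isSeparable_of_perfectField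
  · -- infinite field: rational points
    obtain ⟨w, hw⟩ := hne
    obtain ⟨_, ⟨_, ⟨h, rfl⟩, rfl⟩, hwh, hhW⟩ :=
      PrimeSpectrum.isBasis_basic_opens.exists_subset_of_mem_open hw hW
    have hh0 : h ≠ 0 := by
      rintro rfl
      simp at hwh
    obtain ⟨a, ha⟩ : ∃ a : Fin n → k, MvPolynomial.eval a h ≠ 0 := by
      by_contra hcon
      push Not at hcon
      exact hh0 (MvPolynomial.funext (fun x => by rw [hcon x, map_zero]))
    have hsurj : Function.Surjective (MvPolynomial.aeval a : MvPolynomial (Fin n) k →ₐ[k] k) :=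
      fun c => ⟨MvPolynomial.C c, by simp⟩
    have hmax : (RingHom.ker (MvPolynomial.aeval a : MvPolynomial (Fin n) k →ₐ[k] k)).IsMaximal :=
      RingHom.ker_isMaximal_of_surjective _ hsurj
    refine ⟨⟨RingHom.ker (MvPolynomial.aeval a : MvPolynomial (Fin n) k →ₐ[k] k), hmax.isPrime⟩,
      hhW ?_, hmax, ?_⟩
    · show h ∉ RingHom.ker (MvPolynomial.aeval a : MvPolynomial (Fin n) k →ₐ[k] k)
      rw [RingHom.mem_ker]
      exact ha
    · let e : (MvPolynomial (Fin n) k ⧸ RingHom.ker (MvPolynomial.aeval a : MvPolynomial (Fin n) k →ₐ[k] k)) ≃ₐ[k] k :=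
        Ideal.quotientKerAlgEquivOfSurjective hsurj
      exact ⟨Module.Finite.equiv e.symm.toLinearEquiv, AlgEquiv.Algebra.isSeparable e.symm⟩

end AffSpace

section EtaleStep

/-- Over a maximal ideal with finite separable residue field, primes of an unramified algebra of
finite type are maximal with finite separable residue field. -/
theorem quotient_sep_of_unramified (k P C : Type u) [Field k] [CommRing P] [CommRing C]
    [Algebra k P] [Algebra P C] [Algebra k C] [IsScalarTower k P C]
    [Algebra.FormallyUnramified P C] [Algebra.FiniteType P C]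
    (v : Ideal P) [hv : v.IsMaximal] (u : Ideal C) [hu : u.IsPrime] [u.LiesOver v]
    (hfin : Module.Finite k (P ⧸ v)) (hsep : Algebra.IsSeparable k (P ⧸ v)) :
    u.IsMaximal ∧ Module.Finite k (C ⧸ u) ∧ Algebra.IsSeparable k (C ⧸ u) := by
  letI := Ideal.Quotient.field v
  haveI h1 : Algebra.FormallyUnramified P (C ⧸ u) :=
    Algebra.FormallyUnramified.of_surjective (Ideal.Quotient.mkₐ P u) Ideal.Quotient.mk_surjective
  haveI h2 : Algebra.FormallyUnramified (P ⧸ v) (C ⧸ u) :=
    Algebra.FormallyUnramified.of_restrictScalars P (P ⧸ v) (C ⧸ u)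
  haveI h3 : Algebra.FiniteType P (C ⧸ u) :=
    Algebra.FiniteType.of_surjective (Ideal.Quotient.mkₐ P u) Ideal.Quotient.mk_surjective
  haveI h4 : Algebra.FiniteType (P ⧸ v) (C ⧸ u) :=
    Algebra.FiniteType.of_restrictScalars_finiteType P (P ⧸ v) (C ⧸ u)
  haveI h5 : Module.Finite (P ⧸ v) (C ⧸ u) := Algebra.FormallyUnramified.finite_of_free _ _
  haveI h6 : Algebra.IsIntegral (P ⧸ v) (C ⧸ u) := Algebra.IsIntegral.of_finite _ _
  have hfield : IsField (C ⧸ u) :=
    isField_of_isIntegral_of_isField' (R := P ⧸ v) (Field.toIsField _)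
  have humax : u.IsMaximal := Ideal.Quotient.maximal_of_isField u hfield
  refine ⟨humax, ?_⟩
  letI := Ideal.Quotient.field u
  haveI h7 : Algebra.IsSeparable (P ⧸ v) (C ⧸ u) := Algebra.FormallyUnramified.isSeparable _ _
  exact ⟨Module.Finite.trans (P ⧸ v) (C ⧸ u), Algebra.IsSeparable.trans k (P ⧸ v) (C ⧸ u)⟩

end EtaleStep

section Main

open PrimeSpectrum in
/-- A nonzero smooth algebra over a field has a maximal ideal with finite separable residue
field. -/
theorem exists_maximal_sep (k : Type u) [Field k] (B : Type u) [CommRing B] [Algebra k B]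
    [Algebra.Smooth k B] [Nontrivial B] :
    ∃ m : Ideal B, m.IsMaximal ∧ Module.Finite k (B ⧸ m) ∧ Algebra.IsSeparable k (B ⧸ m) := by
  obtain ⟨p, hp⟩ := Ideal.exists_maximal B
  haveI := hp.isPrime
  haveI : Algebra.FormallySmooth B (Localization.AtPrime p) :=
    Algebra.FormallySmooth.of_isLocalization p.primeCompl
  haveI : Algebra.IsSmoothAt k p := Algebra.FormallySmooth.comp k B (Localization.AtPrime p)
  obtain ⟨f, hfp, n, alg, htower, hstd⟩ :=
    Algebra.IsSmoothAt.exists_isStandardEtale_mvPolynomial (R := k) (p := p)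
  letI := alg
  have hprime : (Ideal.map (algebraMap B (Localization.Away f)) p).IsPrime :=
    IsLocalization.isPrime_of_isPrime_disjoint (.powers f) _ _ ‹_›
      ((Ideal.disjoint_powers_iff_notMem_of_isPrime _).mpr hfp)
  let u₀ : PrimeSpectrum (Localization.Away f) := ⟨_, hprime⟩
  have hopen : IsOpenMap (comap (algebraMap (MvPolynomial (Fin n) k) (Localization.Away f))) :=
    isOpenMap_comap_of_hasGoingDown_of_finitePresentation
  have hWopen : IsOpen (Set.range (comap (algebraMap (MvPolynomial (Fin n) k) (Localization.Away f)))) :=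
    hopen.isOpen_range
  obtain ⟨v, ⟨u, rfl⟩, hvmax, hvfin, hvsep⟩ :=
    exists_sep_point_mvPolynomial k n _ hWopen ⟨_, u₀, rfl⟩
  haveI : u.asIdeal.LiesOver
      (comap (algebraMap (MvPolynomial (Fin n) k) (Localization.Away f)) u).asIdeal := ⟨rfl⟩
  obtain ⟨humax, hufin, husep⟩ := quotient_sep_of_unramified k (MvPolynomial (Fin n) k)
    (Localization.Away f) _ u.asIdeal hvfin hvsep
  -- descend to `B`
  let m : Ideal B := u.asIdeal.under B
  haveI : u.asIdeal.LiesOver m := ⟨rfl⟩
  haveI hmprime : m.IsPrime := Ideal.IsPrime.under B u.asIdeal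
  have hinj : Function.Injective (algebraMap (B ⧸ m) (Localization.Away f ⧸ u.asIdeal)) :=
    FaithfulSMul.algebraMap_injective _ _
  haveI : IsNoetherian k (Localization.Away f ⧸ u.asIdeal) := inferInstance
  have hmfin : Module.Finite k (B ⧸ m) :=
    Module.Finite.of_injective
      (IsScalarTower.toAlgHom k (B ⧸ m) (Localization.Away f ⧸ u.asIdeal)).toLinearMap hinj
  haveI : Algebra.IsIntegral k (B ⧸ m) := Algebra.IsIntegral.of_finite _ _
  have hfield : IsField (B ⧸ m) :=
    isField_of_isIntegral_of_isField' (R := k) (Field.toIsField _)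
  have hmmax : m.IsMaximal := Ideal.Quotient.maximal_of_isField m hfield
  refine ⟨m, hmmax, hmfin, ?_⟩
  letI := Ideal.Quotient.field m
  letI := Ideal.Quotient.field u.asIdeal
  exact Algebra.IsSeparable.of_algHom k (Localization.Away f ⧸ u.asIdeal)
    (IsScalarTower.toAlgHom k (B ⧸ m) (Localization.Away f ⧸ u.asIdeal))

end Main

end Groth.Agent.Helper3.SepPts
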