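import Mathlib

/-!
# Automorphisms of a deformation lifting a given one over a small extension

The set of lifts is a torsor under derivations of the closed fibre.
-/

set_option autoImplicit false
universe u

namespace Groth.Agent.Helper3.SmallExtAut

open IsLocalRing

variable {k : Type u} [Field k] {A : Type u} [CommRing A] [Algebra k A] [IsLocalRing A]
  (hres : ∀ a : A, ∃ c : k, a - algebraMap k A c ∈ maximalIdeal A)
  (t : A) (ht : t ∈ maximalIdeal A) (ht0 : t ≠ 0)
  (htm : ∀ a ∈ maximalIdeal A, a * t = 0)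
  {B : Type u} [CommRing B] [Algebra A B] [Module.Flat A B] [Algebra k B] [IsScalarTower k A B]

local notation "T" => algebraMap A B t
local notation "𝔪B" => Ideal.map (algebraMap A B) (maximalIdeal A)

include htm in
omit [Module.Flat A B] in
lemma T_mul_eq_zero_of_mem {x : B} (hx : x ∈ 𝔪B) : T * x = 0 := by
  have hle : 𝔪B ≤ LinearMap.ker (LinearMap.mul B B T) := by
    rw [Ideal.map_le_iff_le_comap]
    intro a ha
    rw [Ideal.mem_comap, LinearMap.mem_ker, LinearMap.mul_apply', ← map_mul, mul_comm, htm a ha,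
      map_zero]
  exact hle hx

include ht htm in
omit [Module.Flat A B] in
lemma T_mul_T : T * T = 0 := by
  rw [← map_mul, htm t ht, map_zero]

include ht0 in
lemma mem_of_T_mul_eq_zero {b : B} (hb : T * b = 0) : b ∈ 𝔪B := by
  have h0 : ∑ i : Unit, (fun _ => t) i • (fun _ => b) i = 0 := by
    simp only [Finset.univ_unique, Finset.sum_singleton]
    rw [Algebra.smul_def]; exact hb
  obtain ⟨n, a, y, hxy, ha⟩ := Module.Flat.isTrivialRelation_of_sum_smul_eq_zero
    (R := A) (M := B) (f := fun _ : Unit => t) (x := fun _ => b) h0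
  have hb' : b = ∑ j, a () j • y j := hxy ()
  rw [hb']
  refine Ideal.sum_mem _ (fun j _ => ?_)
  have haj : t * a () j = 0 := by
    have := ha j
    simpa using this
  have hmem : a () j ∈ maximalIdeal A := by
    by_contra hne
    have hu : IsUnit (a () j) := by
      by_contra hnu
      exact hne ((mem_maximalIdeal _).mpr hnu)
    exact ht0 ((hu.mul_left_eq_zero).mp haj)
  rw [Algebra.smul_def]
  exact Ideal.mul_mem_right _ _ (Ideal.mem_map_of_mem _ hmem)

section Part1

variable (τ η : B ≃ₐ[A] B)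
  (hτ0 : ∀ b : B, τ b - b ∈ Ideal.map (algebraMap A B) (maximalIdeal A))
  (hητ : ∀ b : B, η b - τ b ∈ Ideal.span {algebraMap A B t})

include hητ in
omit [IsLocalRing A] [Module.Flat A B] in
lemma exists_c (b : B) : ∃ c : B, η b - τ b = T * c := by
  obtain ⟨c, hc⟩ := Ideal.mem_span_singleton'.mp (hητ b)
  exact ⟨c, by rw [← hc, mul_comm]⟩

/-- the chosen element `c` with `η b - τ b = t c` -/
noncomputable def cOf (b : B) : B := (exists_c t τ η hητ b).choose

omit [IsLocalRing A] [Module.Flat A B] in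
lemma cOf_spec (b : B) : η b - τ b = T * cOf t τ η hητ b := (exists_c t τ η hητ b).choose_spec

include ht0 in
lemma mk_eq_of_eq {b c' : B} (h : η b - τ b = T * c') :
    Ideal.Quotient.mk 𝔪B c' = Ideal.Quotient.mk 𝔪B (cOf t τ η hητ b) := by
  rw [Ideal.Quotient.eq]
  apply mem_of_T_mul_eq_zero t ht0
  rw [mul_sub, ← h, ← cOf_spec t τ η hητ b, sub_self]

/-- the `k`-linear map `B → B/𝔪B` -/
noncomputable def D₁ : B →ₗ[k] B ⧸ 𝔪B where
  toFun b := Ideal.Quotient.mk 𝔪B (cOf t τ η hητ b)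
  map_add' b b' := by
    rw [← map_add]
    symm
    apply mk_eq_of_eq t ht0 τ η hητ
    rw [map_add, map_add, mul_add, ← cOf_spec t τ η hητ b, ← cOf_spec t τ η hητ b']
    ring
  map_smul' c b := by
    rw [RingHom.id_apply]
    have e1 : c • b = algebraMap A B (algebraMap k A c) * b := by
      rw [Algebra.smul_def, IsScalarTower.algebraMap_apply k A B]
    have e2 : c • Ideal.Quotient.mk 𝔪B (cOf t τ η hητ b) =
        Ideal.Quotient.mk 𝔪B (algebraMap A B (algebraMap k A c) * cOf t τ η hητ b) := by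
      rw [Algebra.smul_def, map_mul]
      congr 1
      rw [← IsScalarTower.algebraMap_apply k A B]
      rfl
    rw [e2]
    symm
    apply mk_eq_of_eq t ht0 τ η hητ
    rw [e1, map_mul, map_mul, AlgEquiv.commutes, AlgEquiv.commutes, ← mul_sub,
      cOf_spec t τ η hητ b]
    ring

lemma D₁_apply (b : B) : D₁ (k := k) t ht0 τ η hητ b =
    Ideal.Quotient.mk 𝔪B (cOf t τ η hητ b) := rfl

include htm hητ in
omit [Module.Flat A B] in
lemma eq_of_mem {x : B} (hx : x ∈ 𝔪B) : ∀ b' : B, η (b' * x) = τ (b' * x) := by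
  unfold Ideal.map at hx
  induction hx using Submodule.span_induction with
  | mem x hx =>
    obtain ⟨a, ha, rfl⟩ := hx
    intro b'
    obtain ⟨c, hc⟩ := exists_c t τ η hητ b'
    rw [← sub_eq_zero, map_mul, map_mul, AlgEquiv.commutes, AlgEquiv.commutes, ← sub_mul, hc,
      mul_comm, ← mul_assoc, ← map_mul, htm a ha, map_zero, zero_mul]
  | zero => intro b'; rw [mul_zero, map_zero, map_zero]
  | add x y _ _ hx hy => intro b'; rw [mul_add, map_add, map_add, hx b', hy b']
  | smul r x _ hx => intro b'; rw [smul_eq_mul, ← mul_assoc]; exact hx (b' * r)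

include htm in
lemma D₁_eq_zero_of_mem {b : B} (hb : b ∈ 𝔪B) : D₁ (k := k) t ht0 τ η hητ b = 0 := by
  rw [D₁_apply, ← map_zero (Ideal.Quotient.mk 𝔪B)]
  symm
  apply mk_eq_of_eq t ht0 τ η hητ
  rw [mul_zero, sub_eq_zero]
  have := eq_of_mem t htm τ η hητ hb 1
  rwa [one_mul] at this

/-- the `k`-linear endomorphism of `B/𝔪B` -/
noncomputable def D₂ : (B ⧸ 𝔪B) →ₗ[k] (B ⧸ 𝔪B) :=
  (Submodule.liftQ ((𝔪B).restrictScalars k) (D₁ (k := k) t ht0 τ η hητ)
    (fun b hb => D₁_eq_zero_of_mem t ht0 htm τ η hητ hb)).comp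
    (Submodule.Quotient.restrictScalarsEquiv k 𝔪B).symm.toLinearMap

lemma D₂_mk (b : B) : D₂ (k := k) t ht0 htm τ η hητ (Ideal.Quotient.mk 𝔪B b) =
    Ideal.Quotient.mk 𝔪B (cOf t τ η hητ b) := by
  rw [D₂, LinearMap.comp_apply]
  have : (Submodule.Quotient.restrictScalarsEquiv k 𝔪B).symm.toLinearMap
      (Ideal.Quotient.mk 𝔪B b) = Submodule.Quotient.mk b := rfl
  rw [this, Submodule.liftQ_apply, D₁_apply]

include hτ0 ht in
lemma leibniz (x y : B ⧸ 𝔪B) : D₂ (k := k) t ht0 htm τ η hητ (x * y) =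
    x • D₂ (k := k) t ht0 htm τ η hητ y + y • D₂ (k := k) t ht0 htm τ η hητ x := by
  obtain ⟨b, rfl⟩ := Ideal.Quotient.mk_surjective x
  obtain ⟨b', rfl⟩ := Ideal.Quotient.mk_surjective y
  rw [← map_mul, D₂_mk, D₂_mk, D₂_mk, smul_eq_mul, smul_eq_mul, ← map_mul, ← map_mul, ← map_add]
  symm
  apply mk_eq_of_eq t ht0 τ η hητ
  have h1 := cOf_spec t τ η hητ b
  have h2 := cOf_spec t τ η hητ b'
  have e1 : η b = τ b + T * cOf t τ η hητ b := by rw [← h1]; ring
  have e2 : η b' = τ b' + T * cOf t τ η hητ b' := by rw [← h2]; ring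
  have e3 : T * τ b = T * b := by
    rw [← sub_eq_zero, ← mul_sub]; exact T_mul_eq_zero_of_mem t htm (hτ0 b)
  have e4 : T * τ b' = T * b' := by
    rw [← sub_eq_zero, ← mul_sub]; exact T_mul_eq_zero_of_mem t htm (hτ0 b')
  have e5 := T_mul_T (B := B) t ht htm
  rw [map_mul, map_mul, e1, e2]
  have : (τ b + T * cOf t τ η hητ b) * (τ b' + T * cOf t τ η hητ b') - τ b * τ b' =
      (T * τ b) * cOf t τ η hητ b' + (T * τ b') * cOf t τ η hητ b +
        (T * T) * (cOf t τ η hητ b * cOf t τ η hητ b') := by ring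
  rw [this, e3, e4, e5]; ring

/-- the derivation attached to `η` -/
noncomputable def der : Derivation k (B ⧸ 𝔪B) (B ⧸ 𝔪B) :=
  Derivation.mk' (D₂ (k := k) t ht0 htm τ η hητ) (leibniz t ht ht0 htm τ η hτ0 hητ)

lemma der_mk (b : B) : der (k := k) t ht ht0 htm τ η hτ0 hητ (Ideal.Quotient.mk 𝔪B b) =
    Ideal.Quotient.mk 𝔪B (cOf t τ η hητ b) := D₂_mk t ht0 htm τ η hητ b

include ht ht0 htm hτ0 hητ in
theorem part1 : ∃! d : Derivation k (B ⧸ 𝔪B) (B ⧸ 𝔪B),
    ∀ b b' : B, Ideal.Quotient.mk 𝔪B b' = d (Ideal.Quotient.mk 𝔪B b) → η b = τ b + T * b' := by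
  refine ⟨der (k := k) t ht ht0 htm τ η hτ0 hητ, ?_, ?_⟩
  · intro b b' hb'
    rw [der_mk, Ideal.Quotient.eq] at hb'
    have h1 := cOf_spec t τ η hητ b
    have h2 := T_mul_eq_zero_of_mem t htm hb'
    rw [mul_sub, sub_eq_zero] at h2
    rw [h2, ← h1]; ring
  · intro d' hd'
    ext x
    obtain ⟨b, rfl⟩ := Ideal.Quotient.mk_surjective x
    obtain ⟨b', hb'⟩ := Ideal.Quotient.mk_surjective (d' (Ideal.Quotient.mk 𝔪B b))
    rw [der_mk, ← hb']
    apply mk_eq_of_eq t ht0 τ η hητ
    rw [hd' b b' hb']; ring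

end Part1

section Part2

variable (τ : B ≃ₐ[A] B)
  (hτ0 : ∀ b : B, τ b - b ∈ Ideal.map (algebraMap A B) (maximalIdeal A))
  (d : Derivation k (B ⧸ Ideal.map (algebraMap A B) (maximalIdeal A))
    (B ⧸ Ideal.map (algebraMap A B) (maximalIdeal A)))

/-- a chosen lift of `d (mk b)` -/
noncomputable def L (b : B) : B :=
  (Ideal.Quotient.mk_surjective (d (Ideal.Quotient.mk 𝔪B b))).choose

omit [Module.Flat A B] in
lemma L_spec (b : B) : Ideal.Quotient.mk 𝔪B (L d b) = d (Ideal.Quotient.mk 𝔪B b) :=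
  (Ideal.Quotient.mk_surjective (d (Ideal.Quotient.mk 𝔪B b))).choose_spec

include htm in
omit [Module.Flat A B] in
lemma T_mul_L {b b' : B} (h : Ideal.Quotient.mk 𝔪B b' = d (Ideal.Quotient.mk 𝔪B b)) :
    T * L d b = T * b' := by
  rw [← sub_eq_zero, ← mul_sub]
  apply T_mul_eq_zero_of_mem t htm
  rw [← Ideal.Quotient.eq, L_spec, h]

include htm hτ0 in
omit [Module.Flat A B] in
lemma T_mul_τ (b : B) : T * τ b = T * b := by
  rw [← sub_eq_zero, ← mul_sub]; exact T_mul_eq_zero_of_mem t htm (hτ0 b)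

/-- the underlying function of the new automorphism -/
noncomputable def η₀ (b : B) : B := τ b + T * L d b

include hres in
omit [Module.Flat A B] in
lemma d_mk_algebraMap (a : A) : d (Ideal.Quotient.mk 𝔪B (algebraMap A B a)) = 0 := by
  obtain ⟨c, hc⟩ := hres a
  have h1 : Ideal.Quotient.mk 𝔪B (algebraMap A B a) =
      algebraMap k (B ⧸ 𝔪B) c := by
    have h2 : algebraMap k (B ⧸ 𝔪B) c = Ideal.Quotient.mk 𝔪B (algebraMap A B (algebraMap k A c)) := by
      rw [← IsScalarTower.algebraMap_apply k A B]; rfl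
    rw [h2, Ideal.Quotient.eq, ← map_sub]
    exact Ideal.mem_map_of_mem _ hc
  rw [h1, Derivation.map_algebraMap]

/-- the new endomorphism -/
noncomputable def η₁ : B →ₐ[A] B where
  toFun := η₀ t τ d
  map_one' := by
    have h : Ideal.Quotient.mk 𝔪B (0 : B) = d (Ideal.Quotient.mk 𝔪B 1) := by
      rw [map_zero, map_one, Derivation.map_one_eq_zero]
    rw [η₀, T_mul_L t htm d h, mul_zero, add_zero, map_one]
  map_mul' b b' := by
    have h : Ideal.Quotient.mk 𝔪B (b * L d b' + b' * L d b) =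
        d (Ideal.Quotient.mk 𝔪B (b * b')) := by
      rw [map_mul, Derivation.leibniz, map_add, map_mul, map_mul, L_spec, L_spec, smul_eq_mul,
        smul_eq_mul]
    simp only [η₀]
    rw [T_mul_L t htm d h, map_mul]
    have e3 := T_mul_τ t htm τ hτ0 b
    have e4 := T_mul_τ t htm τ hτ0 b'
    have e5 := T_mul_T (B := B) t ht htm
    have : (τ b + T * L d b) * (τ b' + T * L d b') =
        τ b * τ b' + ((T * τ b) * L d b' + (T * τ b') * L d b) + (T * T) * (L d b * L d b') := by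
      ring
    rw [this, e3, e4, e5]; ring
  map_zero' := by
    have h : Ideal.Quotient.mk 𝔪B (0 : B) = d (Ideal.Quotient.mk 𝔪B 0) := by
      rw [map_zero, map_zero]
    rw [η₀, T_mul_L t htm d h, mul_zero, add_zero, map_zero]
  map_add' b b' := by
    have h : Ideal.Quotient.mk 𝔪B (L d b + L d b') = d (Ideal.Quotient.mk 𝔪B (b + b')) := by
      rw [map_add, map_add, map_add, L_spec, L_spec]
    simp only [η₀]
    rw [T_mul_L t htm d h, map_add]; ring
  commutes' a := by
    have h : Ideal.Quotient.mk 𝔪B (0 : B) = d (Ideal.Quotient.mk 𝔪B (algebraMap A B a)) := by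
      rw [map_zero, d_mk_algebraMap hres d a]
    show η₀ t τ d (algebraMap A B a) = _
    rw [η₀, T_mul_L t htm d h, mul_zero, add_zero, AlgEquiv.commutes]

omit [Module.Flat A B] in
lemma η₁_apply (b : B) : η₁ hres t ht htm τ hτ0 d b = τ b + T * L d b := rfl

omit [Module.Flat A B] in
lemma η₁_T_mul (x : B) : η₁ hres t ht htm τ hτ0 d (T * x) = T * τ x := by
  rw [map_mul, AlgHom.commutes, η₁_apply, mul_add, ← mul_assoc, T_mul_T t ht htm, zero_mul,
    add_zero]

omit [Module.Flat A B] in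
lemma η₁_bijective : Function.Bijective (η₁ hres t ht htm τ hτ0 d) := by
  constructor
  · rw [injective_iff_map_eq_zero]
    intro b hb
    rw [η₁_apply] at hb
    have h1 : τ b = T * (-(L d b)) := by
      rw [mul_neg]; exact eq_neg_of_add_eq_zero_left hb
    have h2 : b = T * τ.symm (-(L d b)) := by
      apply τ.injective
      rw [map_mul, AlgEquiv.commutes, AlgEquiv.apply_symm_apply, h1]
    have h3 : η₁ hres t ht htm τ hτ0 d b = τ b := by
      rw [h2, η₁_T_mul, map_mul, AlgEquiv.commutes]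
    rw [η₁_apply] at h3
    have h4 : τ b = 0 := by
      have : τ b + T * L d b = 0 := hb
      rw [h3] at this; exact this
    exact (map_eq_zero_iff τ τ.injective).mp h4
  · intro y
    refine ⟨τ.symm y - T * τ.symm (L d (τ.symm y)), ?_⟩
    rw [map_sub, η₁_T_mul, AlgEquiv.apply_symm_apply, η₁_apply, AlgEquiv.apply_symm_apply]
    ring

include hres ht htm hτ0 in
omit [Module.Flat A B] in
theorem part2 (σ : (B ⧸ Ideal.span {algebraMap A B t}) ≃ₐ[A] (B ⧸ Ideal.span {algebraMap A B t}))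
    (hτ : ∀ b : B, Ideal.Quotient.mk (Ideal.span {algebraMap A B t}) (τ b) =
      σ (Ideal.Quotient.mk (Ideal.span {algebraMap A B t}) b)) :
    ∃ η : B ≃ₐ[A] B, (∀ b : B, Ideal.Quotient.mk (Ideal.span {algebraMap A B t}) (η b) =
        σ (Ideal.Quotient.mk (Ideal.span {algebraMap A B t}) b)) ∧
      ∀ b b' : B, Ideal.Quotient.mk 𝔪B b' = d (Ideal.Quotient.mk 𝔪B b) →
        η b = τ b + T * b' := by
  refine ⟨AlgEquiv.ofBijective (η₁ hres t ht htm τ hτ0 d) (η₁_bijective hres t ht htm τ hτ0 d),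
    ?_, ?_⟩
  · intro b
    rw [← hτ b, Ideal.Quotient.eq]
    show η₁ hres t ht htm τ hτ0 d b - τ b ∈ _
    rw [η₁_apply, add_sub_cancel_left]
    exact Ideal.mul_mem_right _ _ (Ideal.mem_span_singleton_self _)
  · intro b b' h
    show η₁ hres t ht htm τ hτ0 d b = _
    rw [η₁_apply, T_mul_L t htm d h]

end Part2

end Groth.Agent.Helper3.SmallExtAut
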