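import Mathlib
import Groth.Agent.Lib.Helper3.JZSmooth

/-!
# Smoothness of `B → C` at `q` via injectivity of `κ(q) ⊗ (C ⊗_B Ω_{B/A} → Ω_{C/A})`
-/

set_option autoImplicit false
universe u
open TensorProduct KaehlerDifferential

namespace Groth.Agent.Helper3.SmoothFibre

section general
variable {C L κ M N : Type*} [CommRing C] [CommRing L] [CommRing κ] [Algebra C L] [Algebra L κ]
  [Algebra C κ] [IsScalarTower C L κ] [AddCommGroup M] [Module C M] [AddCommGroup N] [Module C N]

lemma cancel_lTensor_baseChange (f : M →ₗ[C] N) (x : κ ⊗[L] (L ⊗[C] M)) :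
    AlgebraTensorModule.cancelBaseChange C L κ κ N ((f.baseChange L).lTensor κ x) =
      f.lTensor κ (AlgebraTensorModule.cancelBaseChange C L κ κ M x) := by
  induction x using TensorProduct.induction_on with
  | zero => simp
  | add x y hx hy => simp only [map_add, hx, hy]
  | tmul k y =>
    induction y using TensorProduct.induction_on with
    | zero => simp
    | add x y hx hy => simp only [tmul_add, map_add, hx, hy]
    | tmul l m => simp

lemma lTensor_baseChange_injective_iff (f : M →ₗ[C] N) :
    Function.Injective ((f.baseChange L).lTensor κ) ↔ Function.Injective (f.lTensor κ) := by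
  constructor
  · intro h x y hxy
    obtain ⟨x', rfl⟩ := (AlgebraTensorModule.cancelBaseChange C L κ κ M).surjective x
    obtain ⟨y', rfl⟩ := (AlgebraTensorModule.cancelBaseChange C L κ κ M).surjective y
    rw [← cancel_lTensor_baseChange, ← cancel_lTensor_baseChange] at hxy
    rw [h ((AlgebraTensorModule.cancelBaseChange C L κ κ N).injective hxy)]
  · intro h x y hxy
    apply (AlgebraTensorModule.cancelBaseChange C L κ κ M).injective
    apply h
    rw [← cancel_lTensor_baseChange, ← cancel_lTensor_baseChange, hxy]

end general

section kaehler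
variable (A B C L : Type u) [CommRing A] [CommRing B] [CommRing C] [CommRing L] [Algebra A B]
  [Algebra B C] [Algebra A C] [IsScalarTower A B C] [Algebra A L] [Algebra B L] [Algebra C L]
  [IsScalarTower A B L] [IsScalarTower A C L] [IsScalarTower B C L]

lemma map_map (ω : Ω[B⁄A]) :
    KaehlerDifferential.map A A C L (KaehlerDifferential.map A A B C ω) =
      KaehlerDifferential.map A A B L ω := by
  have hω : ω ∈ Submodule.span B (Set.range (KaehlerDifferential.D A B)) := by
    rw [KaehlerDifferential.span_range_derivation]; trivial
  induction hω using Submodule.span_induction with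
  | mem x hx =>
    obtain ⟨b, rfl⟩ := hx
    simp [KaehlerDifferential.map_D, IsScalarTower.algebraMap_apply B C L]
  | zero => simp
  | add x y _ _ hx hy => simp only [map_add, hx, hy]
  | smul b x _ hx =>
    rw [map_smul (KaehlerDifferential.map A A B C), map_smul (KaehlerDifferential.map A A B L),
      ← algebraMap_smul C b (KaehlerDifferential.map A A B C x), map_smul,
      algebraMap_smul, hx]

lemma mapBaseChange_cancel (x : L ⊗[C] (C ⊗[B] Ω[B⁄A])) :
    mapBaseChange A B L (AlgebraTensorModule.cancelBaseChange B C L L Ω[B⁄A] x) =
      mapBaseChange A C L ((mapBaseChange A B C).baseChange L x) := by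
  induction x using TensorProduct.induction_on with
  | zero => simp
  | add x y hx hy => simp only [map_add, hx, hy]
  | tmul l y =>
    induction y using TensorProduct.induction_on with
    | zero => simp
    | add x y hx hy => simp only [tmul_add, map_add, hx, hy]
    | tmul c ω =>
      simp only [AlgebraTensorModule.cancelBaseChange_tmul, mapBaseChange_tmul,
        LinearMap.baseChange_tmul, map_smul, map_map]
      rw [smul_comm, smul_assoc]

/-- If `L` is formally étale over `C` (e.g. a localization) then for any `L`-algebra `κ`,
`κ ⊗_L (L ⊗_B Ω_{B/A} → Ω_{L/A})` is injective iff `κ ⊗_C (C ⊗_B Ω_{B/A} → Ω_{C/A})` is. -/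
lemma lTensor_mapBaseChange_injective_iff [Algebra.FormallyEtale C L] (κ : Type u) [CommRing κ]
    [Algebra L κ] [Algebra C κ] [IsScalarTower C L κ] :
    Function.Injective ((mapBaseChange A B L).lTensor κ) ↔
      Function.Injective ((mapBaseChange A B C).lTensor κ) := by
  rw [← lTensor_baseChange_injective_iff (L := L) (mapBaseChange A B C)]
  have h1 : mapBaseChange A B L ∘ₗ
      (AlgebraTensorModule.cancelBaseChange B C L L Ω[B⁄A]).toLinearMap =
      (tensorKaehlerEquivOfFormallyEtale A C L).toLinearMap ∘ₗ
        (mapBaseChange A B C).baseChange L :=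
    LinearMap.ext (mapBaseChange_cancel A B C L)
  have h2 := congrArg (LinearMap.lTensor κ) h1
  rw [LinearMap.lTensor_comp, LinearMap.lTensor_comp] at h2
  have hc : Function.Bijective
      ((AlgebraTensorModule.cancelBaseChange B C L L Ω[B⁄A]).toLinearMap.lTensor κ) :=
    (LinearEquiv.lTensor κ (AlgebraTensorModule.cancelBaseChange B C L L Ω[B⁄A])).bijective
  have he : Function.Injective
      ((tensorKaehlerEquivOfFormallyEtale A C L).toLinearMap.lTensor κ) :=
    (LinearEquiv.lTensor κ (tensorKaehlerEquivOfFormallyEtale A C L)).injective
  rw [← Function.Injective.of_comp_iff' _ hc, ← LinearMap.coe_comp, h2, LinearMap.coe_comp,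
    Function.Injective.of_comp_iff he]

end kaehler

section main
variable (A B C : Type u) [CommRing A] [CommRing B] [CommRing C] [Algebra A B]
  [Algebra B C] [Algebra A C] [IsScalarTower A B C]

theorem isSmoothAt_iff [Algebra.FiniteType A B] [Algebra.FiniteType A C] (q : Ideal C) [q.IsPrime]
    (hC : Algebra.IsSmoothAt A q) :
    Algebra.IsSmoothAt B q ↔
      Function.Injective ((mapBaseChange A B C).lTensor q.ResidueField) := by
  haveI : Algebra.FormallySmooth A (Localization.AtPrime q) := hC
  haveI : Module.Finite (Localization.AtPrime q) Ω[Localization.AtPrime q⁄A] :=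
    Module.Finite.equiv (tensorKaehlerEquivOfFormallyEtale A C (Localization.AtPrime q))
  haveI : Module.Free (Localization.AtPrime q) Ω[Localization.AtPrime q⁄A] :=
    Module.free_of_flat_of_isLocalRing
  rw [← lTensor_mapBaseChange_injective_iff A B C (Localization.AtPrime q) q.ResidueField,
    ← IsLocalRing.split_injective_iff_lTensor_residueField_injective,
    ← JZSmooth.formallySmooth_iff_retraction A B (Localization.AtPrime q)]

end main

end Groth.Agent.Helper3.SmoothFibre
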