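import Groth.Agent.Lib.Helper3.SmoothRegSch
import Groth.Agent.Lib.Lead.RLR1
import Mathlib.AlgebraicGeometry.Geometrically.Reduced

/-! Smooth schemes over a field are geometrically reduced and geometrically regular. -/

universe u

open CategoryTheory CategoryTheory.Limits AlgebraicGeometry

namespace Groth.Agent.Helper3.SmoothGeom

theorem isReduced_of_smooth (k : Type u) [Field k] (X : Scheme.{u}) [X.Over (Spec (CommRingCat.of k))]
    [Smooth (X ↘ (Spec (CommRingCat.of k)))] : IsReduced X := by
  haveI : ∀ x : X, IsReduced (X.presheaf.stalk x) := fun x => by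
    haveI := Groth.Agent.Helper3.SmoothRegSch.main k X x
    haveI := Groth.Agent.Lead.RLR.isDomain (X.presheaf.stalk x)
    infer_instance
  exact isReduced_of_isReduced_stalk X

theorem main (k : Type u) [Field k] (X : Scheme.{u}) [X.Over (Spec (CommRingCat.of k))]
    [Smooth (X ↘ (Spec (CommRingCat.of k)))] :
    GeometricallyReduced (X ↘ (Spec (CommRingCat.of k))) ∧
      ∀ x : X, Curv2.IsGeomRegularAt k X x := by
  constructor
  · constructor
    intro K _ y Z fst snd h
    haveI : Smooth snd := MorphismProperty.of_isPullback (P := @Smooth) h inferInstance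
    letI : Z.Over (Spec (CommRingCat.of K)) := ⟨snd⟩
    haveI : Smooth (Z ↘ (Spec (CommRingCat.of K))) := ‹Smooth snd›
    exact isReduced_of_smooth K Z
  · intro x k' _ _ _ x' _
    letI : (Curv2.bc k X k').Over (Spec (CommRingCat.of k')) := ⟨pullback.snd _ _⟩
    haveI : Smooth ((Curv2.bc k X k') ↘ (Spec (CommRingCat.of k'))) :=
      inferInstanceAs (Smooth (pullback.snd (X ↘ Spec (CommRingCat.of k))
        (Spec.map (CommRingCat.ofHom (algebraMap k k')))))
    exact Groth.Agent.Helper3.SmoothRegSch.main k' (Curv2.bc k X k') x'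

end Groth.Agent.Helper3.SmoothGeom
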