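import Mathlib
import Groth.Agent.Lib.Helper3.JacPt2
import Groth.Agent.Lib.Helper3.SectionCot
import Groth.Agent.Lib.Helper3.ResTensor

/-!
# Smoothness along a section of a closed subscheme of a smooth scheme with a section
-/

set_option autoImplicit false
universe u

open TensorProduct KaehlerDifferential IsLocalRing

namespace Groth.Agent.Helper3.SmoothSection

open Groth.Agent.Helper3.SectionCot

section claim

variable {R A : Type*} [CommRing R] [CommRing A] [Algebra R A] (ε : A →ₐ[R] R) (J : Ideal A)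

/-- projection `I/I² → I/(J+I²)` -/
noncomputable def pr : (RingHom.ker ε).Cotangent →ₗ[A]
    (↥(RingHom.ker ε) ⧸ Submodule.comap (RingHom.ker ε).subtype (J ⊔ RingHom.ker ε ^ 2)) :=
  Submodule.liftQ _ (Submodule.mkQ _) (by
    intro x hx
    rw [LinearMap.mem_ker, Submodule.mkQ_apply, Submodule.Quotient.mk_eq_zero,
      Submodule.mem_comap]
    apply Ideal.mem_sup_right
    exact (Ideal.toCotangent_eq_zero _ x).mp ((Submodule.Quotient.mk_eq_zero _).mpr hx))

lemma pr_toCotangent (x : ↥(RingHom.ker ε)) :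
    pr ε J ((RingHom.ker ε).toCotangent x) = Submodule.Quotient.mk x := rfl

lemma pr_surjective : Function.Surjective (pr ε J) := by
  intro y
  obtain ⟨x, rfl⟩ := Submodule.Quotient.mk_surjective _ y
  exact ⟨(RingHom.ker ε).toCotangent x, rfl⟩

lemma exists_of_pr_eq_zero (hJI : J ≤ RingHom.ker ε) (m : (RingHom.ker ε).Cotangent)
    (hm : pr ε J m = 0) :
    ∃ j, ∃ hj : j ∈ J, m = (RingHom.ker ε).toCotangent ⟨j, hJI hj⟩ := by
  obtain ⟨x, rfl⟩ := Ideal.toCotangent_surjective _ m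
  rw [pr_toCotangent, Submodule.Quotient.mk_eq_zero, Submodule.mem_comap] at hm
  obtain ⟨j, hj, z, hz, hjz⟩ := Submodule.mem_sup.mp hm
  refine ⟨j, hj, ?_⟩
  rw [Ideal.toCotangent_eq]
  show (x : A) - j ∈ _
  have : (x : A) - j = z := by
    have hjz' : j + z = (x : A) := hjz
    rw [← hjz']; ring
  rw [this]
  exact hz

lemma claim (hJI : J ≤ RingHom.ker ε) (h2 : J ⊓ RingHom.ker ε ^ 2 = RingHom.ker ε * J)
    (h3 : Module.Projective R
      (↥(RingHom.ker ε) ⧸ Submodule.comap (RingHom.ker ε).subtype (J ⊔ RingHom.ker ε ^ 2)))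
    (q : Ideal A) (hq : RingHom.ker ε ≤ q) (g : A) (hg : g ∈ J) (t : A)
    (ht : t • D R A g ∈ q • (⊤ : Submodule A Ω[A⁄R])) : t * g ∈ q * J := by
  have htg : t * g ∈ RingHom.ker ε := Ideal.mul_mem_left _ _ (hJI hg)
  -- apply rho
  have hx : (RingHom.ker ε).toCotangent ⟨t * g, htg⟩ ∈
      q • (⊤ : Submodule A (RingHom.ker ε).Cotangent) := by
    have h := Submodule.mem_map_of_mem (f := rho ε) ht
    rw [Submodule.map_smul''] at h
    have h' := Submodule.smul_mono (le_refl q) (le_top : Submodule.map (rho ε) ⊤ ≤ ⊤) h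
    rw [map_smul, rho_D_of_mem ε g (hJI hg), ← map_smul] at h'
    exact h'
  obtain ⟨s, hs⟩ := Module.projective_lifting_property ((pr ε J).restrictScalars R)
    LinearMap.id (pr_surjective ε J)
  have hs' : ∀ y, pr ε J (s y) = y := fun y => LinearMap.congr_fun hs y
  -- the projection onto the image of J
  have key : ∀ m ∈ q • (⊤ : Submodule A (RingHom.ker ε).Cotangent),
      ∃ y, ∃ hy : y ∈ q * J,
        m - s (pr ε J m) = (RingHom.ker ε).toCotangent
          ⟨y, hJI (Ideal.mul_le_right hy)⟩ := by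
    intro m hm
    refine Submodule.smul_induction_on hm ?_ ?_
    · intro a ha m' _
      have h0 : pr ε J (m' - s (pr ε J m')) = 0 := by
        rw [map_sub, hs', sub_self]
      obtain ⟨j, hj, hmj⟩ := exists_of_pr_eq_zero ε J hJI _ h0
      refine ⟨a * j, Ideal.mul_mem_mul ha hj, ?_⟩
      have e0 : s (pr ε J (a • m')) = a • s (pr ε J m') := by
        rw [smul_cotangent ε a m', LinearMap.map_smul_of_tower, map_smul, ← smul_cotangent]
      have e1 : a • m' - s (pr ε J (a • m')) = a • (m' - s (pr ε J m')) := by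
        rw [e0, smul_sub]
      rw [e1, hmj, ← map_smul]
      congr 1
    · rintro m₁ m₂ ⟨y₁, hy₁, e₁⟩ ⟨y₂, hy₂, e₂⟩
      refine ⟨y₁ + y₂, Ideal.add_mem _ hy₁ hy₂, ?_⟩
      have : m₁ + m₂ - s (pr ε J (m₁ + m₂)) =
          (m₁ - s (pr ε J m₁)) + (m₂ - s (pr ε J m₂)) := by
        rw [map_add, map_add]; abel
      rw [this, e₁, e₂, ← map_add]
      congr 1
  obtain ⟨y, hy, e⟩ := key _ hx
  have hpr0 : pr ε J ((RingHom.ker ε).toCotangent ⟨t * g, htg⟩) = 0 := by
    rw [pr_toCotangent, Submodule.Quotient.mk_eq_zero, Submodule.mem_comap]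
    exact Ideal.mem_sup_left (Ideal.mul_mem_left _ _ hg)
  rw [hpr0, map_zero, sub_zero, Ideal.toCotangent_eq] at e
  have hmem : t * g - y ∈ J ⊓ RingHom.ker ε ^ 2 :=
    ⟨J.sub_mem (Ideal.mul_mem_left _ _ hg) (Ideal.mul_le_right hy), e⟩
  rw [h2] at hmem
  have : t * g = (t * g - y) + y := by ring
  rw [this]
  exact Ideal.add_mem _ (Ideal.mul_mono_left hq hmem) hy

end claim

section main

open Groth.Agent.Helper3.JacPt

lemma one_tmul_eq_zero_of_mem_smul_top {Rl : Type*} [CommRing Rl] [IsLocalRing Rl]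
    {M : Type*} [AddCommGroup M] [Module Rl M] (x : M)
    (hx : x ∈ maximalIdeal Rl • (⊤ : Submodule Rl M)) :
    (1 : ResidueField Rl) ⊗ₜ[Rl] x = 0 := by
  refine Submodule.smul_induction_on hx ?_ ?_
  · intro r hr n _
    rw [TensorProduct.tmul_smul, TensorProduct.smul_tmul', Algebra.smul_def, mul_one]
    have : algebraMap Rl (ResidueField Rl) r = 0 := (residue_eq_zero_iff r).mpr hr
    rw [this, TensorProduct.zero_tmul]
  · intro y z hy hz
    rw [TensorProduct.tmul_add, hy, hz, add_zero]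

variable (R A : Type u) [CommRing R] [CommRing A] [Algebra R A]

theorem isSmoothAt [Algebra.Smooth R A] (ε : A →ₐ[R] R) (J : Ideal A)
    (hJI : J ≤ RingHom.ker ε) (h1 : J.FG)
    (h2 : J ⊓ RingHom.ker ε ^ 2 = RingHom.ker ε * J)
    (h3 : Module.Projective R
      (↥(RingHom.ker ε) ⧸ Submodule.comap (RingHom.ker ε).subtype (J ⊔ RingHom.ker ε ^ 2)))
    (P : Ideal (A ⧸ J)) [P.IsPrime] (hP : (RingHom.ker ε).map (Ideal.Quotient.mk J) ≤ P) :
    Algebra.IsSmoothAt R P := by
  haveI : Algebra.FinitePresentation R A := Algebra.Smooth.finitePresentation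
  haveI : Algebra.FormallySmooth R A := Algebra.Smooth.formallySmooth
  have hIq : RingHom.ker ε ≤ q J P := fun a ha => hP (Ideal.mem_map_of_mem _ ha)
  haveI : Algebra.FormallySmooth R (Aq J P) := by
    have := Algebra.smoothLocus_eq_univ (R := R) (A := A)
    exact this.ge (Set.mem_univ ⟨q J P, inferInstance⟩)
  haveI : Algebra.EssFiniteType R (Aq J P) := Algebra.EssFiniteType.comp R A (Aq J P)
  rw [isSmoothAt_iff_quot R J P]
  obtain ⟨Ψ, hΨ, hiff⟩ := exists_psi R J P (h1.map _)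
  rw [hiff, injective_iff_map_eq_zero]
  have hker : RingHom.ker (algebraMap (Aq J P) (S J P)) = JacPt.J J P := Ideal.mk_ker
  -- structure of elements
  have hstruct : ∀ z : ResidueField (Aq J P) ⊗[Aq J P]
      ↥(RingHom.ker (algebraMap (Aq J P) (S J P))),
      ∃ t : A, t ∉ q J P ∧ ∃ g : A, g ∈ J ∧
        ∃ hmem : algebraMap A (Aq J P) g ∈ RingHom.ker (algebraMap (Aq J P) (S J P)),
        (algebraMap A (Aq J P) t) • z =
          (1 : ResidueField (Aq J P)) ⊗ₜ[Aq J P] ⟨algebraMap A (Aq J P) g, hmem⟩ := by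
    intro z
    induction z using TensorProduct.induction_on with
    | zero =>
      refine ⟨1, fun h => (Ideal.IsPrime.ne_top inferInstance) ((Ideal.eq_top_iff_one _).mpr h),
        0, J.zero_mem, by rw [map_zero]; exact Ideal.zero_mem _, ?_⟩
      rw [smul_zero]
      have : (⟨algebraMap A (Aq J P) 0, by rw [map_zero]; exact Ideal.zero_mem _⟩ :
          ↥(RingHom.ker (algebraMap (Aq J P) (S J P)))) = 0 := by
        apply Subtype.ext; exact map_zero _
      rw [this, TensorProduct.tmul_zero]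
    | tmul c k =>
      obtain ⟨x, rfl⟩ := residue_surjective c
      have hk : (k : Aq J P) ∈ Ideal.map (algebraMap A (Aq J P)) J := hker.le k.2
      obtain ⟨⟨g, s⟩, hgs⟩ := (IsLocalization.mem_map_algebraMap_iff (q J P).primeCompl
        (Aq J P)).mp (Ideal.mul_mem_left _ x hk)
      have hmem : algebraMap A (Aq J P) (g : A) ∈ RingHom.ker (algebraMap (Aq J P) (S J P)) := by
        rw [hker]; exact Ideal.mem_map_of_mem _ g.2
      refine ⟨s, s.2, g, g.2, hmem, ?_⟩
      have e1 : residue (Aq J P) x ⊗ₜ[Aq J P] k = (1 : ResidueField (Aq J P)) ⊗ₜ[Aq J P] (x • k) := by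
        rw [TensorProduct.tmul_smul, TensorProduct.smul_tmul', Algebra.smul_def, mul_one]
        rfl
      rw [e1, ← TensorProduct.tmul_smul]
      congr 1
      apply Subtype.ext
      show algebraMap A (Aq J P) s * (x * (k : Aq J P)) = algebraMap A (Aq J P) g
      rw [mul_comm, hgs]
    | add z₁ z₂ h₁ h₂ =>
      obtain ⟨t₁, ht₁, g₁, hg₁, hm₁, e₁⟩ := h₁
      obtain ⟨t₂, ht₂, g₂, hg₂, hm₂, e₂⟩ := h₂
      have hmem : algebraMap A (Aq J P) (t₂ * g₁ + t₁ * g₂) ∈
          RingHom.ker (algebraMap (Aq J P) (S J P)) := by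
        rw [hker]
        exact Ideal.mem_map_of_mem _
          (J.add_mem (J.mul_mem_left _ hg₁) (J.mul_mem_left _ hg₂))
      refine ⟨t₁ * t₂, (inferInstance : (q J P).IsPrime).mul_notMem ht₁ ht₂,
        t₂ * g₁ + t₁ * g₂, J.add_mem (J.mul_mem_left _ hg₁) (J.mul_mem_left _ hg₂), hmem, ?_⟩
      have ea : algebraMap A (Aq J P) (t₁ * t₂) • (z₁ + z₂) =
          algebraMap A (Aq J P) t₂ • (algebraMap A (Aq J P) t₁ • z₁) +
            algebraMap A (Aq J P) t₁ • (algebraMap A (Aq J P) t₂ • z₂) := by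
        rw [map_mul, smul_add, mul_smul, mul_smul,
          smul_comm (algebraMap A (Aq J P) t₁) (algebraMap A (Aq J P) t₂) z₁]
      rw [ea, e₁, e₂, ← TensorProduct.tmul_smul, ← TensorProduct.tmul_smul,
        ← TensorProduct.tmul_add]
      congr 1
      apply Subtype.ext
      show algebraMap A (Aq J P) t₂ * algebraMap A (Aq J P) g₁ +
        algebraMap A (Aq J P) t₁ * algebraMap A (Aq J P) g₂ =
          algebraMap A (Aq J P) (t₂ * g₁ + t₁ * g₂)
      rw [map_add, map_mul, map_mul]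
  intro z hz
  obtain ⟨t, ht, g, hg, hmem, e⟩ := hstruct z
  have hu : IsUnit (algebraMap A (Aq J P) t) :=
    IsLocalization.map_units (Aq J P) (⟨t, ht⟩ : (q J P).primeCompl)
  rw [← hu.smul_eq_zero, e]
  -- Ψ (1 ⊗ g) = 0
  have h0 : Ψ ((1 : ResidueField (Aq J P)) ⊗ₜ[Aq J P] ⟨algebraMap A (Aq J P) g, hmem⟩) = 0 := by
    rw [← e, LinearMap.map_smul_of_tower, hz, smul_zero]
  rw [hΨ] at h0
  obtain ⟨t₂, ht₂, hts⟩ := (Groth.Agent.Helper3.ResTensor.one_tmul_eq_zero_iff (q J P)
    (D R A g)).mp h0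
  have hmul := claim ε J hJI h2 h3 (q J P) hIq g hg t₂ hts
  -- conclude
  have hu₂ : IsUnit (algebraMap A (Aq J P) t₂) :=
    IsLocalization.map_units (Aq J P) (⟨t₂, ht₂⟩ : (q J P).primeCompl)
  have hmem₂ : algebraMap A (Aq J P) (t₂ * g) ∈ RingHom.ker (algebraMap (Aq J P) (S J P)) := by
    rw [hker]; exact Ideal.mem_map_of_mem _ (J.mul_mem_left _ hg)
  have h3' : (⟨algebraMap A (Aq J P) (t₂ * g), hmem₂⟩ :
      ↥(RingHom.ker (algebraMap (Aq J P) (S J P)))) ∈
      maximalIdeal (Aq J P) • (⊤ : Submodule (Aq J P) ↥(RingHom.ker (algebraMap (Aq J P) (S J P)))) := by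
    rw [Submodule.mem_smul_top_iff]
    show algebraMap A (Aq J P) (t₂ * g) ∈
      maximalIdeal (Aq J P) • RingHom.ker (algebraMap (Aq J P) (S J P))
    rw [hker, smul_eq_mul, ← Localization.AtPrime.map_eq_maximalIdeal, ← Ideal.map_mul]
    exact Ideal.mem_map_of_mem _ hmul
  have h4 := one_tmul_eq_zero_of_mem_smul_top _ h3'
  have h5 : (⟨algebraMap A (Aq J P) (t₂ * g), hmem₂⟩ :
      ↥(RingHom.ker (algebraMap (Aq J P) (S J P)))) =
      algebraMap A (Aq J P) t₂ • ⟨algebraMap A (Aq J P) g, hmem⟩ := by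
    apply Subtype.ext
    show algebraMap A (Aq J P) (t₂ * g) = algebraMap A (Aq J P) t₂ * algebraMap A (Aq J P) g
    rw [map_mul]
  rw [h5, TensorProduct.tmul_smul, hu₂.smul_eq_zero] at h4
  exact h4

end main

end Groth.Agent.Helper3.SmoothSection
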