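import Mathlib

/-!
# Squares of smooth branches I: polynomial side (helper3)

Height-one primes of `k[x,y]` are principal; a polynomial all of whose partial derivatives vanish
is not irreducible over an algebraically closed field.
-/

set_option autoImplicit false
universe u

namespace Groth.Agent.Helper3.SqDP

open MvPolynomial

variable {k : Type u} [Field k]

theorem natCast_eq_zero_of_pderiv_eq_zero (p : MvPolynomial (Fin 2) k)
    (h : ∀ i, pderiv i p = 0) (m : Fin 2 →₀ ℕ) (hm : m ∈ p.support) (i : Fin 2) :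
    ((m i : ℕ) : k) = 0 := by
  by_cases h0 : m i = 0
  · rw [h0, Nat.cast_zero]
  · have h1 : (m - Finsupp.single i 1) + Finsupp.single i 1 = m := by
      ext j
      by_cases hj : i = j
      · subst hj
        simp only [Finsupp.coe_add, Finsupp.coe_tsub, Pi.add_apply, Pi.sub_apply,
          Finsupp.single_eq_same]
        omega
      · simp [Finsupp.single_apply, hj]
    have h2 := MvPolynomial.coeff_pderiv (i := i) p (m - Finsupp.single i 1)
    rw [h i, coeff_zero, h1] at h2
    have h3 : (((m - Finsupp.single i 1 : Fin 2 →₀ ℕ) i : ℕ) : k) + 1 = ((m i : ℕ) : k) := by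
      have h4 : (m - Finsupp.single i 1 : Fin 2 →₀ ℕ) i + 1 = m i := by
        simp only [Finsupp.coe_tsub, Pi.sub_apply, Finsupp.single_eq_same]
        omega
      rw [← h4]
      push_cast
      rfl
    rw [h3] at h2
    rcases mul_eq_zero.mp h2.symm with h4 | h4
    · exact absurd h4 (mem_support_iff.mp hm)
    · exact h4

theorem not_irreducible_of_pderiv_eq_zero [IsAlgClosed k] (p : MvPolynomial (Fin 2) k)
    (h : ∀ i, pderiv i p = 0) : ¬ Irreducible p := by
  intro hirr
  have hdvd : ∀ m ∈ p.support, ∀ i, ringChar k ∣ m i := fun m hm i =>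
    (ringChar.spec k (m i)).mp (natCast_eq_zero_of_pderiv_eq_zero p h m hm i)
  haveI : CharP k (ringChar k) := ringChar.charP k
  rcases CharP.char_is_prime_or_zero k (ringChar k) with hp | h0
  · -- prime characteristic
    set ℓ := ringChar k with hℓ
    haveI : ExpChar k ℓ := ExpChar.prime hp
    have hℓ0 : ℓ ≠ 0 := hp.ne_zero
    let q : MvPolynomial (Fin 2) k :=
      ∑ m ∈ p.support, monomial (Finsupp.equivFunOnFinite.symm (fun i => m i / ℓ)) (coeff m p)
    have hq : expand ℓ q = p := by
      rw [map_sum]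
      conv_rhs => rw [p.as_sum]
      refine Finset.sum_congr rfl (fun m hm => ?_)
      rw [expand_monomial]
      have hd : ℓ • (Finsupp.equivFunOnFinite.symm (fun i => m i / ℓ) : Fin 2 →₀ ℕ) = m := by
        ext i
        change ℓ * (m i / ℓ) = m i
        exact Nat.mul_div_cancel' (hdvd m hm i)
      rw [hd]
    have hsurj : Function.Surjective (frobenius k ℓ) := by
      intro x
      obtain ⟨z, hz⟩ := IsAlgClosed.exists_pow_nat_eq x hp.pos
      exact ⟨z, by rw [frobenius_def, hz]⟩
    obtain ⟨q', hq'⟩ := MvPolynomial.map_surjective (frobenius k ℓ) hsurj q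
    have hpow : p = q' ^ ℓ := by
      rw [← map_frobenius_expand ℓ, map_expand, hq', hq]
    have h2 : 2 ≤ ℓ := hp.two_le
    have hmul : p = q' * q' ^ (ℓ - 1) := by
      rw [hpow, ← pow_succ']
      congr 1
      omega
    rcases hirr.isUnit_or_isUnit hmul with hu | hu
    · exact hirr.not_isUnit (by rw [hpow]; exact hu.pow ℓ)
    · have hu' : IsUnit q' := (isUnit_pow_iff (by omega)).mp hu
      exact hirr.not_isUnit (by rw [hpow]; exact hu'.pow ℓ)
  · -- characteristic zero
    have hsupp : ∀ m ∈ p.support, m = 0 := by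
      intro m hm
      ext i
      have := hdvd m hm i
      rw [h0, zero_dvd_iff] at this
      simpa using this
    have hpC : p = C (coeff 0 p) := by
      ext m
      rw [coeff_C]
      by_cases hm : 0 = m
      · rw [if_pos hm, hm]
      · rw [if_neg hm]
        by_contra hne
        exact hm (hsupp m (mem_support_iff.mpr hne)).symm
    by_cases hc : coeff 0 p = 0
    · rw [hc, map_zero] at hpC
      exact hirr.ne_zero hpC
    · apply hirr.not_isUnit
      rw [hpC]
      exact (isUnit_iff_ne_zero.mpr hc).map C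

theorem pderiv_eq_zero_of_dvd (p : MvPolynomial (Fin 2) k) (i : Fin 2) (h : p ∣ pderiv i p) :
    pderiv i p = 0 := by
  by_contra hne
  obtain ⟨c, hc⟩ := h
  have hp0 : p ≠ 0 := by
    rintro rfl
    exact hne (map_zero _)
  have hc0 : c ≠ 0 := by
    rintro rfl
    rw [mul_zero] at hc
    exact hne hc
  have hkey : ∀ m ∈ (pderiv i p).support, m i < degreeOf i p := by
    intro m hm
    rw [mem_support_iff, MvPolynomial.coeff_pderiv] at hm
    have h1 : m + Finsupp.single i 1 ∈ p.support := mem_support_iff.mpr (left_ne_zero_of_mul hm)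
    have h2 := monomial_le_degreeOf i h1
    simp only [Finsupp.coe_add, Pi.add_apply, Finsupp.single_eq_same] at h2
    omega
  have hpos : 0 < degreeOf i p := by
    obtain ⟨m, hm⟩ := MvPolynomial.ne_zero_iff.mp hne
    have := hkey m (mem_support_iff.mpr hm)
    omega
  have hlt : degreeOf i (pderiv i p) < degreeOf i p := (degreeOf_lt_iff hpos).mpr hkey
  rw [hc, degreeOf_mul_eq hp0 hc0] at hlt
  omega

theorem exists_prime_span_eq (P : Ideal (MvPolynomial (Fin 2) k)) [hP : P.IsPrime] (h0 : P ≠ ⊥)
    (hmax : ¬ P.IsMaximal) :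
    ∃ π : MvPolynomial (Fin 2) k, Prime π ∧ P = Ideal.span {π} := by
  obtain ⟨π, hπP, hπ⟩ := hP.exists_mem_prime_of_ne_bot h0
  refine ⟨π, hπ, ?_⟩
  by_contra hne
  have hle : Ideal.span {π} ≤ P := (Ideal.span_singleton_le_iff_mem _).mpr hπP
  have hlt : Ideal.span {π} < P := lt_of_le_of_ne hle (Ne.symm hne)
  obtain ⟨M, hM, hPM⟩ := Ideal.exists_le_maximal P hP.ne_top
  have hlt2 : P < M := lt_of_le_of_ne hPM (by rintro rfl; exact hmax hM)
  haveI : (Ideal.span {π}).IsPrime := (Ideal.span_singleton_prime hπ.ne_zero).mpr hπ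
  haveI : M.IsPrime := hM.isPrime
  haveI : (⊥ : Ideal (MvPolynomial (Fin 2) k)).IsPrime := Ideal.isPrime_bot
  have hlt0 : (⊥ : Ideal (MvPolynomial (Fin 2) k)) < Ideal.span {π} :=
    bot_lt_iff_ne_bot.mpr (by rw [Ne, Ideal.span_singleton_eq_bot]; exact hπ.ne_zero)
  have h1 := Ideal.height_strict_mono_of_isPrime_of_isPrime hlt0
  have h2 := Ideal.height_strict_mono_of_isPrime_of_isPrime hlt
  have h3 := Ideal.height_strict_mono_of_isPrime_of_isPrime hlt2
  have h4 : (M.height : WithBot ℕ∞) ≤ 2 := by
    have := Ideal.height_le_ringKrullDim_of_isPrime (I := M)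
    rw [MvPolynomial.ringKrullDim_of_isNoetherianRing, ringKrullDim_eq_zero_of_field] at this
    simpa using this
  have h5 : M.height ≤ 2 := by
    have h4' : (M.height : WithBot ℕ∞) ≤ ((2 : ℕ∞) : WithBot ℕ∞) := h4
    exact WithBot.coe_le_coe.mp h4'
  have a1 : (1 : ℕ∞) ≤ (Ideal.span {π}).height :=
    Order.one_le_iff_pos.mpr (lt_of_le_of_lt (zero_le : (0 : ℕ∞) ≤ _) h1)
  have a2 : (2 : ℕ∞) ≤ P.height := by
    have := Order.add_one_le_of_lt h2
    calc (2 : ℕ∞) = 1 + 1 := by norm_num
      _ ≤ (Ideal.span {π}).height + 1 := by gcongr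
      _ ≤ P.height := this
  have a3 : (3 : ℕ∞) ≤ M.height := by
    have := Order.add_one_le_of_lt h3
    calc (3 : ℕ∞) = 2 + 1 := by norm_num
      _ ≤ P.height + 1 := by gcongr
      _ ≤ M.height := this
  exact absurd (a3.trans h5) (by norm_num)

end Groth.Agent.Helper3.SqDP
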