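import Mathlib
import Groth.Agent.Lib.Helper3.DP5
import Groth.Agent.Lib.Helper3.SqDP1

/-!
# Squares of smooth branches II: power series side (helper3)
-/

set_option autoImplicit false
set_option linter.style.haveILetI false
universe u

namespace Groth.Agent.Helper3.SqDP

open IsLocalRing MvPowerSeries Groth.Agent.Helper3.NodeAut Groth.Agent.Helper14
  Groth.Agent.Helper5.Morse Groth.Agent.Helper3.ArInv Groth.Agent.Helper3.DP

variable {k : Type u} [Field k]

theorem exists_lift_comm (F G : PS k) (hF0 : constantCoeff F = 0) (hG0 : constantCoeff G = 0)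
    (e : (PS k ⧸ Ideal.span {G}) ≃ₐ[k] (PS k ⧸ Ideal.span {F})) :
    ∃ Φ : PS k →ₐ[k] PS k, (∀ i, Φ (X i) ∈ maximalIdeal (PS k)) ∧
      (∀ p : PS k, Ideal.Quotient.mk (Ideal.span {F}) (Φ p) =
        e (Ideal.Quotient.mk (Ideal.span {G}) p)) ∧
      ∀ p : PS k, (1 : ℕ∞) ≤ p.order →
        ∃ c d : PS k, p - c * Φ (X 0) - d * Φ (X 1) ∈ Ideal.span {F} := by
  haveI := complete_P (k := k)
  haveI : IsLocalRing (PS k ⧸ Ideal.span {F}) := isLocalRing_quot _ (span_ne_top F hF0)
  haveI : IsLocalRing (PS k ⧸ Ideal.span {G}) := isLocalRing_quot _ (span_ne_top G hG0)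
  haveI := complete_quot (Ideal.span {F})
  haveI := complete_quot (Ideal.span {G})
  have hlift : ∀ i : Fin 2, ∃ t : PS k, Ideal.Quotient.mk (Ideal.span {F}) t =
      e (Ideal.Quotient.mk (Ideal.span {G}) (X i)) := fun i => Ideal.Quotient.mk_surjective _
  choose t ht using hlift
  have htm : ∀ i, t i ∈ maximalIdeal (PS k) := by
    intro i
    apply mem_max_of_mk_mem (Ideal.span {F})
    rw [ht]
    exact equiv_mem_max e _ (mk_X_mem _ i)
  obtain ⟨Φ, hΦ⟩ := exists_hom_P (k := k) (T := PS k) t htm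
  have hcomm := hom_ext_P ((Ideal.Quotient.mkₐ k (Ideal.span {F})).comp Φ)
    ((e : (PS k ⧸ Ideal.span {G}) →ₐ[k] (PS k ⧸ Ideal.span {F})).comp
      (Ideal.Quotient.mkₐ k (Ideal.span {G}))) (by
      intro i
      change Ideal.Quotient.mk (Ideal.span {F}) (Φ (X i)) =
        e (Ideal.Quotient.mk (Ideal.span {G}) (X i))
      rw [hΦ, ht]) (by
      intro i
      change Ideal.Quotient.mk (Ideal.span {F}) (Φ (X i)) ∈ _
      rw [hΦ]
      exact mk_mem_max _ _ (htm i))
  have hcomm' : ∀ p : PS k, Ideal.Quotient.mk (Ideal.span {F}) (Φ p) =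
      e (Ideal.Quotient.mk (Ideal.span {G}) p) := fun p => DFunLike.congr_fun hcomm p
  refine ⟨Φ, ?_, hcomm', ?_⟩
  · intro i
    rw [hΦ]
    exact htm i
  · intro p hp
    have hpm : Ideal.Quotient.mk (Ideal.span {F}) p ∈ maximalIdeal (PS k ⧸ Ideal.span {F}) :=
      mk_mem_max _ _ ((mem_max_iff_order p).mpr hp)
    have hy := equiv_mem_max e.symm _ hpm
    rw [maximalIdeal_quot_pair, Ideal.mem_span_pair] at hy
    obtain ⟨c', d', hcd⟩ := hy
    obtain ⟨c, hc⟩ := Ideal.Quotient.mk_surjective (e c')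
    obtain ⟨d, hd⟩ := Ideal.Quotient.mk_surjective (e d')
    refine ⟨c, d, ?_⟩
    rw [← Ideal.Quotient.eq_zero_iff_mem, map_sub, map_sub, map_mul, map_mul, hc, hd, hcomm',
      hcomm', ← map_mul, ← map_mul, sub_sub, ← map_add, sub_eq_zero, hcd, e.apply_symm_apply]

theorem X0_dvd_iff (p : PS k) : (X 0 : PS k) ∣ p ↔ eps p = 0 := by
  constructor
  · rintro ⟨c, rfl⟩
    rw [map_mul, eps_X0, zero_mul]
  · intro h
    have := sub_io_eps_mem p
    rw [h, map_zero, sub_zero, Ideal.mem_span_singleton] at this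
    exact this

theorem prime_X0 : Prime (X 0 : PS k) := by
  refine ⟨?_, ?_, ?_⟩
  · intro h
    have h1 := congrArg (coeff (Finsupp.single 0 1)) h
    rw [coeff_index_single_X] at h1
    simp at h1
  · rw [MvPowerSeries.isUnit_iff_constantCoeff, constantCoeff_X]
    exact not_isUnit_zero
  · intro a b hab
    rw [X0_dvd_iff] at hab
    rw [X0_dvd_iff, X0_dvd_iff]
    rw [map_mul] at hab
    exact mul_eq_zero.mp hab

theorem exists_swap : ∃ S : PS k →ₐ[k] PS k, S (X 0) = X 1 ∧ S (X 1) = X 0 ∧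
    Function.Bijective S := by
  haveI := complete_P (k := k)
  obtain ⟨S, hS⟩ := exists_hom_P (k := k) (T := PS k) ![X 1, X 0] (by
    intro i
    fin_cases i
    · change (X 1 : PS k) ∈ _
      rw [mem_maximalIdeal_P, constantCoeff_X]
    · change (X 0 : PS k) ∈ _
      rw [mem_maximalIdeal_P, constantCoeff_X])
  have h0 : S (X 0) = X 1 := by simpa using hS 0
  have h1 : S (X 1) = X 0 := by simpa using hS 1
  refine ⟨S, h0, h1, bijective_P S ?_ ?_⟩
  · intro i
    fin_cases i
    · change S (X 0) ∈ _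
      rw [h0, mem_maximalIdeal_P, constantCoeff_X]
    · change S (X 1) ∈ _
      rw [h1, mem_maximalIdeal_P, constantCoeff_X]
  · rw [h0, h1]
    refine le_sup_of_le_left ?_
    rw [maximalIdeal_P_pair, Ideal.span_le]
    rintro z (rfl | rfl)
    · exact Ideal.subset_span (by simp)
    · exact Ideal.subset_span (by simp)

theorem prime_X1 : Prime (X 1 : PS k) := by
  obtain ⟨S, hS0, hS1, hSbij⟩ := exists_swap (k := k)
  have h := (MulEquiv.prime_iff (AlgEquiv.ofBijective S hSbij) (p := (X 0 : PS k))).mpr prime_X0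
  rwa [AlgEquiv.coe_ofBijective, hS0] at h

theorem lin_coeff (G : PS k) (i : Fin 2) :
    coeff (Finsupp.single i 1) G = constantCoeff (MvPowerSeries.pderiv k i G) := by
  rw [← coeff_zero_eq_constantCoeff_apply, MvPowerSeries.coeff_pderiv, zero_add]
  simp

/-- recentring at `a` followed by the inclusion into power series -/
noncomputable def sig (a : Fin 2 → k) : MvPolynomial (Fin 2) k →ₐ[k] PS k :=
  (MvPolynomial.coeToMvPowerSeries.algHom k).comp (shift a)

theorem sig_apply (a : Fin 2 → k) (g : MvPolynomial (Fin 2) k) :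
    sig a g = ((shift a g : MvPolynomial (Fin 2) k) : PS k) := rfl

theorem constantCoeff_sig (a : Fin 2 → k) (g : MvPolynomial (Fin 2) k) :
    constantCoeff (sig a g) = MvPolynomial.eval a g := by
  rw [sig_apply, ← coeff_zero_eq_constantCoeff_apply, MvPolynomial.coeff_coe, eval_eq,
    MvPolynomial.constantCoeff_eq]

theorem pderiv_sig (a : Fin 2 → k) (i : Fin 2) (g : MvPolynomial (Fin 2) k) :
    MvPowerSeries.pderiv k i (sig a g) = sig a (MvPolynomial.pderiv i g) := by
  rw [sig_apply, MvPowerSeries.pderiv_coe, pderiv_shift]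
  rfl

theorem sig_injective (a : Fin 2 → k) : Function.Injective (sig a) := by
  intro p q h
  have h1 : shift a p = shift a q := MvPolynomial.coe_injective _ _ h
  have hinv : ∀ g, shift (-a) (shift a g) = g := by
    intro g
    have : (shift (-a)).comp (shift a) = AlgHom.id k _ := by
      apply MvPolynomial.algHom_ext
      intro i
      simp [shift]
    exact DFunLike.congr_fun this g
  rw [← hinv p, h1, hinv q]

theorem sig_X_sub (a : Fin 2 → k) (j : Fin 2) :
    sig a (MvPolynomial.X j - MvPolynomial.C (a j)) = X j := by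
  rw [sig_apply]
  simp [shift]

/-- the square of a smooth branch, times a unit, defines the double line -/
theorem iso_of_sq (F G H : PS k) (hF : F = G ^ 2 * H) (hH : IsUnit H) (hG0 : constantCoeff G = 0)
    (hG1 : ∃ i, coeff (Finsupp.single i 1) G ≠ 0) :
    Nonempty ((PS k ⧸ Ideal.span {F}) ≃ₐ[k] (PS k ⧸ Ideal.span {(X 1 : PS k) ^ 2})) := by
  haveI := complete_P (k := k)
  have hGm : G ∈ maximalIdeal (PS k) := mem_maximalIdeal_P.mpr hG0
  obtain ⟨α, β, p₂, hp₂, hG⟩ := decomp1 G ((mem_max_iff_order G).mp hGm)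
  have hp₂m : p₂ ∈ maximalIdeal (PS k) ^ 2 := (mem_pow_iff 2 p₂).mpr (by exact_mod_cast hp₂)
  have hα : coeff (Finsupp.single 0 1) G = α := by
    rw [hG, map_add, map_add, coeff_C_mul, coeff_C_mul, coeff_index_single_X,
      coeff_index_single_X, lin_eq_zero 0 p₂ hp₂]
    simp
  have hβ : coeff (Finsupp.single 1 1) G = β := by
    rw [hG, map_add, map_add, coeff_C_mul, coeff_C_mul, coeff_index_single_X,
      coeff_index_single_X, lin_eq_zero 1 p₂ hp₂]
    simp
  have key : ∃ T : PS k, T ∈ maximalIdeal (PS k) ∧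
      maximalIdeal (PS k) ≤ Ideal.span {T, G} ⊔ maximalIdeal (PS k) ^ 2 := by
    obtain ⟨i, hi⟩ := hG1
    have hmem : ∀ (T x c1 c2 c3 : PS k), x = c1 * G + c2 * T + c3 * p₂ →
        x ∈ Ideal.span {T, G} ⊔ maximalIdeal (PS k) ^ 2 := by
      intro T x c1 c2 c3 hx
      rw [hx]
      refine Ideal.add_mem _ (Ideal.mem_sup_left (Ideal.add_mem _ ?_ ?_)) (Ideal.mem_sup_right ?_)
      · exact Ideal.mul_mem_left _ _ (Ideal.subset_span (by simp))
      · exact Ideal.mul_mem_left _ _ (Ideal.subset_span (by simp))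
      · exact Ideal.mul_mem_left _ _ hp₂m
    fin_cases i
    · -- `α ≠ 0`
      have hα0 : α ≠ 0 := by rw [← hα]; exact hi
      have hC : (C α⁻¹ : PS k) * C α = 1 := by
        rw [← map_mul, inv_mul_cancel₀ hα0, map_one]
      refine ⟨X 1, by rw [mem_maximalIdeal_P, constantCoeff_X], ?_⟩
      conv_lhs => rw [maximalIdeal_P_pair]
      rw [Ideal.span_le]
      rintro z (rfl | rfl)
      · refine hmem (X 1) (X 0) (C α⁻¹) (-(C α⁻¹ * C β)) (-(C α⁻¹)) ?_
        rw [hG]
        linear_combination (-(X 0 : PS k)) * hC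
      · refine hmem (X 1) (X 1) 0 1 0 ?_
        ring
    · -- `β ≠ 0`
      have hβ0 : β ≠ 0 := by rw [← hβ]; exact hi
      have hC : (C β⁻¹ : PS k) * C β = 1 := by
        rw [← map_mul, inv_mul_cancel₀ hβ0, map_one]
      refine ⟨X 0, by rw [mem_maximalIdeal_P, constantCoeff_X], ?_⟩
      conv_lhs => rw [maximalIdeal_P_pair]
      rw [Ideal.span_le]
      rintro z (rfl | rfl)
      · refine hmem (X 0) (X 0) 0 1 0 ?_
        ring
      · refine hmem (X 0) (X 1) (C β⁻¹) (-(C β⁻¹ * C α)) (-(C β⁻¹)) ?_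
        rw [hG]
        linear_combination (-(X 1 : PS k)) * hC
  obtain ⟨T, hTm, hT⟩ := key
  obtain ⟨Φ, hΦ⟩ := exists_hom_P (k := k) (T := PS k) ![T, G] (by
    intro i
    fin_cases i
    · exact hTm
    · exact hGm)
  have h0 : Φ (X 0) = T := by simpa using hΦ 0
  have h1 : Φ (X 1) = G := by simpa using hΦ 1
  have hbij : Function.Bijective Φ := bijective_P Φ (by
    intro i
    fin_cases i
    · change Φ (X 0) ∈ _
      rw [h0]; exact hTm
    · change Φ (X 1) ∈ _
      rw [h1]; exact hGm) (by rw [h0, h1]; exact hT)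
  obtain ⟨H', hH'⟩ := hH.exists_right_inv
  have hu : IsUnit H' := IsUnit.of_mul_eq_one_right H hH'
  obtain ⟨e⟩ := quot_equiv_of_hom Φ hbij ((X 1 : PS k) ^ 2) F H' hu (by
    rw [map_pow, h1, hF]
    linear_combination (-(G ^ 2)) * hH')
  exact ⟨e.symm⟩

/-- an isomorphism with the double line exhibits the equation as a unit times the square of a
smooth branch -/
theorem exists_branch (F : PS k)
    (e : (PS k ⧸ Ideal.span {F}) ≃ₐ[k] (PS k ⧸ Ideal.span {(X 1 : PS k) ^ 2})) :
    ∃ V W : PS k, F = W * V ^ 2 ∧ IsUnit W ∧ Prime V ∧ constantCoeff V = 0 ∧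
      (∃ i, coeff (Finsupp.single i 1) V ≠ 0) ∧ ¬ (V ∣ X 0 ∧ V ∣ X 1) := by
  haveI := complete_P (k := k)
  have hY0 : constantCoeff ((X 1 : PS k) ^ 2) = 0 := by simp
  haveI : IsLocalRing (PS k ⧸ Ideal.span {(X 1 : PS k) ^ 2}) :=
    isLocalRing_quot _ (span_ne_top _ hY0)
  have hF0 : constantCoeff F = 0 := by
    by_contra h
    have hu : IsUnit F := by
      rw [MvPowerSeries.isUnit_iff_constantCoeff]
      exact isUnit_iff_ne_zero.mpr h
    have htop : Ideal.span {F} = ⊤ := Ideal.span_singleton_eq_top.mpr hu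
    have h1 : (1 : PS k ⧸ Ideal.span {F}) = 0 := by
      rw [← map_one (Ideal.Quotient.mk (Ideal.span {F})), Ideal.Quotient.eq_zero_iff_mem, htop]
      trivial
    have h2 : e 1 = e 0 := by rw [h1]
    rw [map_one, map_zero] at h2
    exact one_ne_zero h2
  obtain ⟨Ψ, hΨm, hcomm, hgen⟩ := exists_lift_comm ((X 1 : PS k) ^ 2) F hY0 hF0 e
  have hbij : Function.Bijective Ψ := bijective_P Ψ hΨm (by
    intro p hp
    obtain ⟨c, d, hcd⟩ := hgen p ((mem_max_iff_order p).mp hp)
    have hsplit : p = (c * Ψ (X 0) + d * Ψ (X 1)) + (p - c * Ψ (X 0) - d * Ψ (X 1)) := by ring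
    rw [hsplit]
    refine Ideal.add_mem _ (Ideal.mem_sup_left ?_) (Ideal.mem_sup_right ?_)
    · exact Ideal.add_mem _ (Ideal.mul_mem_left _ _ (Ideal.subset_span (by simp)))
        (Ideal.mul_mem_left _ _ (Ideal.subset_span (by simp)))
    · rw [Ideal.mem_span_singleton] at hcd
      obtain ⟨r, hr⟩ := hcd
      rw [hr]
      exact Ideal.mul_mem_right _ _
        (Ideal.pow_mem_pow (mem_maximalIdeal_P.mpr (constantCoeff_X _)) 2))
  have hmkF : Ideal.Quotient.mk (Ideal.span {F}) F = 0 :=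
    Ideal.Quotient.eq_zero_iff_mem.mpr (Ideal.subset_span (Set.mem_singleton _))
  have hmkY : Ideal.Quotient.mk (Ideal.span {(X 1 : PS k) ^ 2}) ((X 1 : PS k) ^ 2) = 0 :=
    Ideal.Quotient.eq_zero_iff_mem.mpr (Ideal.subset_span (Set.mem_singleton _))
  have hΨF : Ψ F ∈ Ideal.span {(X 1 : PS k) ^ 2} := by
    rw [← Ideal.Quotient.eq_zero_iff_mem, hcomm, hmkF, map_zero]
  obtain ⟨w', hw'⟩ := Ideal.mem_span_singleton.mp hΨF
  have hY2 : ((X 1 : PS k) ^ 2) ≠ 0 := pow_ne_zero 2 prime_X1.ne_zero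
  have hw'u : IsUnit w' := by
    obtain ⟨p, hp⟩ := hbij.2 ((X 1 : PS k) ^ 2)
    have hp0 : Ideal.Quotient.mk (Ideal.span {F}) p = 0 := by
      apply e.injective
      rw [← hcomm, hp, hmkY, map_zero]
    rw [Ideal.Quotient.eq_zero_iff_mem, Ideal.mem_span_singleton] at hp0
    obtain ⟨c, hc⟩ := hp0
    have h1 : (X 1 : PS k) ^ 2 * (w' * Ψ c) = (X 1 : PS k) ^ 2 * 1 := by
      rw [mul_one, ← mul_assoc, ← hw', ← map_mul, ← hc, hp]
    exact IsUnit.of_mul_eq_one _ (mul_left_cancel₀ hY2 h1)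
  set E : PS k ≃ₐ[k] PS k := AlgEquiv.ofBijective Ψ hbij with hE
  have hEΨ : ∀ p, E p = Ψ p := fun p => rfl
  set V : PS k := E.symm (X 1) with hV
  have hΨV : Ψ V = X 1 := by rw [← hEΨ, hV, E.apply_symm_apply]
  have hFeq : F = E.symm w' * V ^ 2 := by
    have : E.symm (Ψ F) = F := by rw [← hEΨ, E.symm_apply_apply]
    rw [← this, hw', map_mul, map_pow, mul_comm]
  have hVp : Prime V := (MulEquiv.prime_iff E.symm).mpr prime_X1
  have hV0 : constantCoeff V = 0 := by
    by_contra h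
    have hu : IsUnit V := by
      rw [MvPowerSeries.isUnit_iff_constantCoeff]
      exact isUnit_iff_ne_zero.mpr h
    have hu' := hu.map Ψ
    rw [hΨV] at hu'
    exact prime_X1.not_isUnit hu'
  have hVm : V ∈ maximalIdeal (PS k) := mem_maximalIdeal_P.mpr hV0
  have hVo : (1 : ℕ∞) ≤ V.order := (mem_max_iff_order V).mp hVm
  refine ⟨V, E.symm w', hFeq, hw'u.map E.symm, hVp, hV0, ?_, ?_⟩
  · by_contra hall
    push Not at hall
    obtain ⟨α, β, p₂, hp₂, hVd⟩ := decomp1 V hVo
    have hα : coeff (Finsupp.single 0 1) V = α := by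
      rw [hVd, map_add, map_add, coeff_C_mul, coeff_C_mul, coeff_index_single_X,
        coeff_index_single_X, lin_eq_zero 0 p₂ hp₂]
      simp
    have hβ : coeff (Finsupp.single 1 1) V = β := by
      rw [hVd, map_add, map_add, coeff_C_mul, coeff_C_mul, coeff_index_single_X,
        coeff_index_single_X, lin_eq_zero 1 p₂ hp₂]
      simp
    rw [hall 0] at hα
    rw [hall 1] at hβ
    rw [← hα, ← hβ, map_zero, zero_mul, zero_mul, zero_add, zero_add] at hVd
    have hV2 : V ∈ maximalIdeal (PS k) ^ 2 := by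
      rw [hVd]
      exact (mem_pow_iff 2 p₂).mpr (by exact_mod_cast hp₂)
    have hX2 := map_mem_pow Ψ hΨm 2 V hV2
    rw [hΨV, mem_pow_iff] at hX2
    have h1 := lin_eq_zero 1 (X 1 : PS k) (by exact_mod_cast hX2)
    rw [coeff_index_single_X] at h1
    simp at h1
  · rintro ⟨⟨c, hc⟩, ⟨d, hd⟩⟩
    apply not_principal V hVo
    intro p hp
    have hpm : p ∈ maximalIdeal (PS k) := (mem_max_iff_order p).mpr hp
    rw [maximalIdeal_P_pair, Ideal.mem_span_pair] at hpm
    obtain ⟨A, B, hAB⟩ := hpm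
    refine ⟨A * c + B * d, ?_⟩
    have h0 : p - (A * c + B * d) * V = 0 := by
      rw [← hAB]
      have e1 : A * X 0 = A * (V * c) := by rw [← hc]
      have e2 : B * X 1 = B * (V * d) := by rw [← hd]
      rw [e1, e2]
      ring
    rw [h0, order_zero]
    exact le_top

end Groth.Agent.Helper3.SqDP
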