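import Mathlib
import Groth.Agent.Lib.Helper3.SqDP2

/-!
# Squares of smooth branches III: the criterion (helper3)
-/

set_option autoImplicit false
set_option linter.style.haveILetI false
universe u

namespace Groth.Agent.Helper3.SqDP

open IsLocalRing MvPowerSeries Groth.Agent.Helper3.NodeAut Groth.Agent.Helper14
  Groth.Agent.Helper5.Morse Groth.Agent.Helper3.ArInv Groth.Agent.Helper3.DP

variable {k : Type u} [Field k]

theorem main [IsAlgClosed k] (f : MvPolynomial (Fin 2) k) (a : Fin 2 → k) :
    Nonempty ((PS k ⧸ Ideal.span {sig a f}) ≃ₐ[k] (PS k ⧸ Ideal.span {(X 1 : PS k) ^ 2})) ↔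
    ∃ g h : MvPolynomial (Fin 2) k, f = g ^ 2 * h ∧ MvPolynomial.eval a h ≠ 0 ∧
      MvPolynomial.eval a g = 0 ∧
      ∃ i : Fin 2, MvPolynomial.eval a (MvPolynomial.pderiv i g) ≠ 0 := by
  constructor
  · rintro ⟨e⟩
    obtain ⟨V, W, hF, hW, hVp, hV0, ⟨i0, hVi⟩, hVnp⟩ := exists_branch _ e
    have hV00 : V ≠ 0 := hVp.ne_zero
    haveI : (Ideal.span {V}).IsPrime := (Ideal.span_singleton_prime hV00).mpr hVp
    set P : Ideal (MvPolynomial (Fin 2) k) :=
      Ideal.comap (sig a : MvPolynomial (Fin 2) k →+* PS k) (Ideal.span {V}) with hPdef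
    haveI hPprime : P.IsPrime := Ideal.comap_isPrime _ _
    have memP : ∀ g, g ∈ P ↔ V ∣ sig a g := by
      intro g
      rw [hPdef, Ideal.mem_comap, Ideal.mem_span_singleton]
      rfl
    have hsf0 : sig a f ≠ 0 := by
      rw [hF]
      exact mul_ne_zero hW.ne_zero (pow_ne_zero 2 hV00)
    have hf0 : f ≠ 0 := by
      rintro rfl
      exact hsf0 (map_zero _)
    have hfP : f ∈ P := by
      rw [memP, hF]
      exact Dvd.dvd.mul_left (dvd_pow_self V two_ne_zero) W
    have hP0 : P ≠ ⊥ := by
      intro hbot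
      rw [hbot, Ideal.mem_bot] at hfP
      exact hf0 hfP
    have hPmax : ¬ P.IsMaximal := by
      intro hM
      apply hVnp
      have hj : ∀ j : Fin 2, V ∣ X j := by
        intro j
        by_contra hnd
        have hnP : (MvPolynomial.X j - MvPolynomial.C (a j) : MvPolynomial (Fin 2) k) ∉ P := by
          rw [memP, sig_X_sub]
          exact hnd
        obtain ⟨y, z, hz, hyz⟩ := hM.exists_inv hnP
        rw [memP] at hz
        obtain ⟨r, hr⟩ := hz
        have h1 := congrArg (sig a) hyz
        rw [map_add, map_mul, sig_X_sub, hr, map_one] at h1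
        have h2 := congrArg constantCoeff h1
        rw [map_add, map_mul, map_mul, constantCoeff_X, hV0, mul_zero, zero_mul, add_zero,
          map_one] at h2
        exact zero_ne_one h2
      exact ⟨hj 0, hj 1⟩
    obtain ⟨π, hπ, hPπ⟩ := exists_prime_span_eq P hP0 hPmax
    have memPπ : ∀ g, V ∣ sig a g → π ∣ g := by
      intro g hg
      have : g ∈ P := (memP g).mpr hg
      rw [hPπ, Ideal.mem_span_singleton] at this
      exact this
    have hπP : π ∈ P := by
      rw [hPπ]
      exact Ideal.subset_span (Set.mem_singleton _)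
    obtain ⟨u, hu⟩ := (memP π).mp hπP
    -- `V` does not divide `u`
    have hVu : ¬ V ∣ u := by
      rintro ⟨u', hu'⟩
      have hall : ∀ i, MvPolynomial.pderiv i π = 0 := by
        intro i
        apply pderiv_eq_zero_of_dvd
        apply memPπ
        rw [← pderiv_sig, hu, hu', Derivation.leibniz, Derivation.leibniz]
        simp only [smul_eq_mul]
        exact dvd_add (dvd_mul_right _ _) (Dvd.dvd.mul_right (dvd_mul_right _ _) _)
      exact not_irreducible_of_pderiv_eq_zero π hall hπ.irreducible
    obtain ⟨f₁, hf₁⟩ := memPπ f ((memP f).mp hfP)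
    have h1 : V * (u * sig a f₁) = V * (W * V) := by
      have := hF
      rw [hf₁, map_mul, hu] at this
      rw [← mul_assoc, this]
      ring
    have h2 : u * sig a f₁ = W * V := mul_left_cancel₀ hV00 h1
    have h3 : V ∣ sig a f₁ := by
      have : V ∣ u * sig a f₁ := by
        rw [h2]
        exact dvd_mul_left V W
      rcases hVp.dvd_or_dvd this with h | h
      · exact absurd h hVu
      · exact h
    obtain ⟨h, hh⟩ := memPπ f₁ h3
    have hfeq : f = π ^ 2 * h := by
      rw [hf₁, hh]
      ring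
    have h4 : V ^ 2 * (u ^ 2 * sig a h) = V ^ 2 * W := by
      have := hF
      rw [hfeq, map_mul, map_pow, hu] at this
      rw [mul_comm (V ^ 2) W, ← this]
      ring
    have h5 : u ^ 2 * sig a h = W := mul_left_cancel₀ (pow_ne_zero 2 hV00) h4
    have h6 : IsUnit (u ^ 2 * sig a h) := by rw [h5]; exact hW
    rw [IsUnit.mul_iff] at h6
    have hu1 : IsUnit u := (isUnit_pow_iff two_ne_zero).mp h6.1
    have hcu : constantCoeff u ≠ 0 := by
      have := (MvPowerSeries.isUnit_iff_constantCoeff).mp hu1
      exact isUnit_iff_ne_zero.mp this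
    refine ⟨π, h, hfeq, ?_, ?_, i0, ?_⟩
    · rw [← constantCoeff_sig]
      have := (MvPowerSeries.isUnit_iff_constantCoeff).mp h6.2
      exact isUnit_iff_ne_zero.mp this
    · rw [← constantCoeff_sig, hu, map_mul, hV0, zero_mul]
    · rw [← constantCoeff_sig, ← pderiv_sig, hu, Derivation.leibniz]
      simp only [smul_eq_mul]
      rw [map_add, map_mul, map_mul, hV0, zero_mul, zero_add, ← lin_coeff]
      exact mul_ne_zero hcu hVi
  · rintro ⟨g, h, rfl, hh, hg, i, hi⟩
    refine iso_of_sq _ (sig a g) (sig a h) (by rw [map_mul, map_pow]) ?_ ?_ ⟨i, ?_⟩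
    · rw [MvPowerSeries.isUnit_iff_constantCoeff, constantCoeff_sig]
      exact isUnit_iff_ne_zero.mpr hh
    · rw [constantCoeff_sig, hg]
    · rw [lin_coeff, pderiv_sig, constantCoeff_sig]
      exact hi

end Groth.Agent.Helper3.SqDP
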