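import Mathlib
import Groth.Prelude.Def_ArtFun5
import Groth.Agent.Lib.Helper18.Schl.PSEval
import Groth.Agent.Lib.Helper18.Schl.PSRing

/-!
T¹-lifting criterion, core: derivations of power series rings into square-zero extensions.
-/

set_option autoImplicit false

universe u

namespace Groth.Agent.Helper3.T1Lift

open MvPowerSeries IsLocalRing

section derHom

variable {k : Type u} [Field k] {r : ℕ}
variable {A : Type u} [CommRing A] [Algebra k A]
variable {M : Type u} [AddCommGroup M] [Module A M] [Module Aᵐᵒᵖ M] [IsCentralScalar A M]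
  [Module k M] [IsScalarTower k A M] [IsScalarTower k Aᵐᵒᵖ M]

/-- the `k`-linear map `h ↦ ∑ j, g (∂ⱼ h) • w j` -/
noncomputable def derLin (g : MvPowerSeries (Fin r) k →ₐ[k] A) (w : Fin r → M) :
    MvPowerSeries (Fin r) k →ₗ[k] M :=
  ∑ j, ((LinearMap.toSpanSingleton A M (w j)).restrictScalars k).comp
    (g.toLinearMap.comp (pderiv k j : MvPowerSeries (Fin r) k →ₗ[k] MvPowerSeries (Fin r) k))

theorem derLin_apply (g : MvPowerSeries (Fin r) k →ₐ[k] A) (w : Fin r → M)
    (h : MvPowerSeries (Fin r) k) : derLin g w h = ∑ j, g (pderiv k j h) • w j := by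
  simp [derLin, LinearMap.sum_apply]

theorem derLin_mul (g : MvPowerSeries (Fin r) k →ₐ[k] A) (w : Fin r → M)
    (h h' : MvPowerSeries (Fin r) k) :
    derLin g w (h * h') = g h • derLin g w h' + g h' • derLin g w h := by
  simp only [derLin_apply, Derivation.leibniz, map_add, smul_eq_mul, map_mul, add_smul,
    Finset.sum_add_distrib, Finset.smul_sum, mul_smul]

theorem derLin_one (g : MvPowerSeries (Fin r) k →ₐ[k] A) (w : Fin r → M) :
    derLin g w 1 = 0 := by
  simp [derLin_apply]

/-- the algebra map `h ↦ (g h, ∑ j, g (∂ⱼ h) • w j)` into the trivial square-zero extension -/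
noncomputable def derHom (g : MvPowerSeries (Fin r) k →ₐ[k] A) (w : Fin r → M) :
    MvPowerSeries (Fin r) k →ₐ[k] TrivSqZeroExt A M :=
  AlgHom.ofLinearMap
    ((TrivSqZeroExt.inlAlgHom k A M).toLinearMap.comp g.toLinearMap +
      ((TrivSqZeroExt.inrHom A M).restrictScalars k).comp (derLin g w))
    (by
      ext
      · simp
      · simp [derLin_one])
    (by
      intro h h'
      ext
      · simp
      · simp [derLin_mul, add_comm])

@[simp] theorem fst_derHom (g : MvPowerSeries (Fin r) k →ₐ[k] A) (w : Fin r → M)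
    (h : MvPowerSeries (Fin r) k) : (derHom g w h).fst = g h := by
  simp [derHom]

theorem snd_derHom (g : MvPowerSeries (Fin r) k →ₐ[k] A) (w : Fin r → M)
    (h : MvPowerSeries (Fin r) k) : (derHom g w h).snd = ∑ j, g (pderiv k j h) • w j := by
  rw [← derLin_apply]
  change (TrivSqZeroExt.inl (g h) + TrivSqZeroExt.inr (derLin g w h)).snd = _
  simp

theorem snd_derHom_X (g : MvPowerSeries (Fin r) k →ₐ[k] A) (w : Fin r → M) (j : Fin r) :
    (derHom g w (X j)).snd = w j := by
  classical
  rw [snd_derHom]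
  simp only [pderiv_X]
  rw [Finset.sum_eq_single j]
  · simp
  · intro i _ hij
    simp [hij.symm]
  · intro h; exact absurd (Finset.mem_univ j) h

/-- the preimage of a nilpotent ideal in a trivial square-zero extension is nilpotent -/
theorem comap_fst_pow_eq_bot (I : Ideal A) (N : ℕ) (hI : I ^ N = ⊥) :
    (Ideal.comap (TrivSqZeroExt.fstHom k A M : TrivSqZeroExt A M →+* A) I) ^ (N * 2) = ⊥ := by
  rw [pow_mul, ← le_bot_iff]
  have h1 : (Ideal.comap (TrivSqZeroExt.fstHom k A M : TrivSqZeroExt A M →+* A) I) ^ N ≤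
      RingHom.ker (TrivSqZeroExt.fstHom k A M : TrivSqZeroExt A M →+* A) := by
    refine le_trans (Ideal.le_comap_pow _ N) ?_
    rw [hI]
    exact le_of_eq (RingHom.ker_eq_comap_bot _).symm
  refine le_trans (Ideal.pow_right_mono h1 2) ?_
  rw [pow_two, Ideal.mul_le]
  intro x hx y hy
  rw [RingHom.mem_ker] at hx hy
  have hx' : x.fst = 0 := hx
  have hy' : y.fst = 0 := hy
  rw [Ideal.mem_bot]
  ext
  · simp [hx']
  · simp [hx', hy']

/-- chain rule: an algebra map from the power series ring into a trivial square-zero extension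
of a ring with nilpotent ideal `I` (containing the images of the variables) is determined by
its first component and the second components of the variables -/
theorem eq_derHom (Ψ : MvPowerSeries (Fin r) k →ₐ[k] TrivSqZeroExt A M)
    (I : Ideal A) (N : ℕ) (hI : I ^ N = ⊥) (hΨ : ∀ j, (Ψ (X j)).fst ∈ I) :
    Ψ = derHom ((TrivSqZeroExt.fstHom k A M).comp Ψ) (fun j => (Ψ (X j)).snd) := by
  apply Groth.Agent.Helper18.ps_algHom_ext Ψ _
    (Ideal.comap (TrivSqZeroExt.fstHom k A M : TrivSqZeroExt A M →+* A) I) (N * 2)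
    (comap_fst_pow_eq_bot I N hI)
  · intro j
    exact hΨ j
  · intro j
    ext
    · simp
    · rw [snd_derHom_X]

theorem snd_apply_eq (Ψ : MvPowerSeries (Fin r) k →ₐ[k] TrivSqZeroExt A M)
    (I : Ideal A) (N : ℕ) (hI : I ^ N = ⊥) (hΨ : ∀ j, (Ψ (X j)).fst ∈ I)
    (h : MvPowerSeries (Fin r) k) :
    (Ψ h).snd = ∑ j, (Ψ (pderiv k j h)).fst • (Ψ (X j)).snd := by
  have h1 := congrArg (fun F : MvPowerSeries (Fin r) k →ₐ[k] TrivSqZeroExt A M => (F h).snd)
    (eq_derHom Ψ I N hI hΨ)
  simp only [snd_derHom] at h1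
  exact h1

end derHom

section main

open ArtFun

variable {k : Type u} [Field k] {r : ℕ}

theorem mem_max_iff (f : MvPowerSeries (Fin r) k) :
    f ∈ maximalIdeal (MvPowerSeries (Fin r) k) ↔ MvPowerSeries.constantCoeff f = 0 := by
  rw [mem_maximalIdeal, mem_nonunits_iff, MvPowerSeries.isUnit_iff_constantCoeff, isUnit_iff_ne_zero,
    not_not]

/-- an ideal stable under partial derivatives and contained in the maximal ideal is zero
(characteristic zero) -/
theorem eq_bot_of_pderiv_mem [CharZero k] (J : Ideal (MvPowerSeries (Fin r) k))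
    (h0 : ∀ f ∈ J, constantCoeff f = 0) (hd : ∀ f ∈ J, ∀ j, pderiv k j f ∈ J) : J = ⊥ := by
  have key : ∀ d : ℕ, ∀ m : Fin r →₀ ℕ, m.degree = d → ∀ f ∈ J, coeff m f = 0 := by
    intro d
    induction d with
    | zero =>
      intro m hm f hf
      have hm' : m = 0 := (Finsupp.degree_eq_zero_iff m).mp hm
      subst hm'
      rw [coeff_zero_eq_constantCoeff]
      exact h0 f hf
    | succ d ih =>
      intro m hm f hf
      have hm0 : m ≠ 0 := by
        rintro rfl
        simp at hm
      obtain ⟨i, hi⟩ := Finsupp.ne_iff.mp hm0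
      have hi' : m i ≠ 0 := hi
      have hle : Finsupp.single i 1 ≤ m := by
        rw [Finsupp.single_le_iff]
        omega
      have hadd : m - Finsupp.single i 1 + Finsupp.single i 1 = m := tsub_add_cancel_of_le hle
      have hdeg : (m - Finsupp.single i 1).degree = d := by
        have h1 := congrArg Finsupp.degree hadd
        rw [map_add, Finsupp.degree_single, hm] at h1
        omega
      have h2 := ih (m - Finsupp.single i 1) hdeg (pderiv k i f) (hd f hf i)
      rw [coeff_pderiv, hadd] at h2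
      rcases mul_eq_zero.mp h2 with h | h
      · exact h
      · exfalso
        exact Nat.cast_add_one_ne_zero _ h
  rw [eq_bot_iff]
  intro f hf
  rw [Ideal.mem_bot]
  ext m
  rw [map_zero]
  exact key _ m rfl f hf

theorem pderiv_mem_of_mem_sq (f : MvPowerSeries (Fin r) k)
    (hf : f ∈ maximalIdeal (MvPowerSeries (Fin r) k) ^ 2) (j : Fin r) :
    pderiv k j f ∈ maximalIdeal (MvPowerSeries (Fin r) k) := by
  rw [pow_two] at hf
  refine Submodule.mul_induction_on hf ?_ ?_
  · intro a ha b hb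
    rw [Derivation.leibniz]
    exact Ideal.add_mem _ (Ideal.mul_mem_right _ _ ha) (Ideal.mul_mem_right _ _ hb)
  · intro x y hx hy
    rw [map_add]
    exact Ideal.add_mem _ hx hy

/-- the hypothesis used by the core: lifting along `A ⊕ A^r → A ⊕ A^r/W` -/
def T1Hyp (r : ℕ) (R : Type u) [CommRing R] [Algebra k R] : Prop :=
  ∀ (A : Art k k) (W : Submodule A (Fin r → A))
    (φ : R →ₐ[k] TrivSqZeroExt A ((Fin r → A) ⧸ W)),
    ∃ ψ : R →ₐ[k] TrivSqZeroExt A (Fin r → A),
      ∀ x, (ψ x).fst = (φ x).fst ∧ W.mkQ (ψ x).snd = (φ x).snd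

theorem pderiv_mem_ker_of_T1 (R : CRing k k) (π : MvPowerSeries (Fin r) k →ₐ[k] R.carrier)
    (hπ : Function.Surjective π)
    (hker : RingHom.ker (π : MvPowerSeries (Fin r) k →+* R.carrier) ≤
      maximalIdeal (MvPowerSeries (Fin r) k) ^ 2)
    (hT : T1Hyp (k := k) r R.carrier)
    (f : MvPowerSeries (Fin r) k) (hf : π f = 0) (j₀ : Fin r) (N : ℕ) :
    π (pderiv k j₀ f) ∈ R.mpow N := by
  classical
  -- the residue map
  have hres : ∀ x ∈ maximalIdeal (MvPowerSeries (Fin r) k), R.res (π x) = 0 := by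
    intro x hx
    have hmax : (RingHom.ker ((R.res.comp π : MvPowerSeries (Fin r) k →ₐ[k] k) :
        MvPowerSeries (Fin r) k →+* k)).IsMaximal :=
      RingHom.ker_isMaximal_of_surjective _ (R.res_surjective.comp hπ)
    rw [← IsLocalRing.eq_maximalIdeal hmax, RingHom.mem_ker] at hx
    exact hx
  set A : Art k k := R.trunc N with hA
  let q : R.carrier →ₐ[k] A := (R.truncHom N).1
  have hq : A.res.comp q = R.res := (R.truncHom N).2
  let g : MvPowerSeries (Fin r) k →ₐ[k] A := q.comp π
  have hgm : ∀ x ∈ maximalIdeal (MvPowerSeries (Fin r) k), g x ∈ maximalIdeal A := by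
    intro x hx
    rw [Art.mem_maximalIdeal_iff]
    have h1 : A.res (g x) = R.res (π x) := AlgHom.congr_fun hq (π x)
    rw [h1, hres x hx]
  let grad : MvPowerSeries (Fin r) k → (Fin r → A) := fun h j => g (pderiv k j h)
  let W : Submodule A (Fin r → A) :=
    Submodule.span A (grad '' {f | π f = 0})
  let e : Fin r → (Fin r → A) := fun j i => if j = i then 1 else 0
  have hgrad : ∀ h, grad h = ∑ j, g (pderiv k j h) • e j := fun h => pi_eq_sum_univ (grad h)
  let Φ : MvPowerSeries (Fin r) k →ₐ[k] TrivSqZeroExt A ((Fin r → A) ⧸ W) :=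
    derHom g (fun j => W.mkQ (e j))
  have hΦsnd : ∀ h, (Φ h).snd = W.mkQ (grad h) := by
    intro h
    rw [snd_derHom, hgrad, map_sum]
    simp only [map_smul]
  have hΦker : RingHom.ker π.toRingHom ≤ RingHom.ker Φ.toRingHom := by
    intro x hx
    have hx' : π x = 0 := hx
    rw [RingHom.mem_ker]
    change Φ x = 0
    ext
    · rw [fst_derHom]
      change q (π x) = 0
      rw [hx', map_zero]
    · rw [hΦsnd]
      change W.mkQ (grad x) = 0
      rw [Submodule.mkQ_apply, Submodule.Quotient.mk_eq_zero]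
      exact Submodule.subset_span ⟨x, hx', rfl⟩
  let φ : R.carrier →ₐ[k] TrivSqZeroExt A ((Fin r → A) ⧸ W) :=
    AlgHom.liftOfSurjective π hπ Φ hΦker
  have hφ : ∀ h, φ (π h) = Φ h := fun h => AlgHom.liftOfSurjective_apply π hπ Φ hΦker h
  obtain ⟨ψ, hψ⟩ := hT A W φ
  let Ψ : MvPowerSeries (Fin r) k →ₐ[k] TrivSqZeroExt A (Fin r → A) := ψ.comp π
  have hΨfst : ∀ h, (Ψ h).fst = g h := by
    intro h
    change (ψ (π h)).fst = _
    rw [(hψ (π h)).1, hφ, fst_derHom]
  obtain ⟨N', -, hN'⟩ := Groth.Agent.Helper18.exists_pow_maximalIdeal_eq_bot A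
  have hXm : ∀ j : Fin r, (X j : MvPowerSeries (Fin r) k) ∈
      maximalIdeal (MvPowerSeries (Fin r) k) := by
    intro j
    rw [mem_max_iff]
    exact MvPowerSeries.constantCoeff_X j
  have hΨeq := eq_derHom Ψ (maximalIdeal A) N' hN' (fun j => by
    rw [hΨfst]
    exact hgm _ (hXm j))
  have hg' : (TrivSqZeroExt.fstHom k A (Fin r → A)).comp Ψ = g := AlgHom.ext hΨfst
  rw [hg'] at hΨeq
  have hw : ∀ j, e j - (Ψ (X j)).snd ∈ W := by
    intro j
    have h1 : W.mkQ (Ψ (X j)).snd = W.mkQ (e j) := by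
      change W.mkQ (ψ (π (X j))).snd = _
      rw [(hψ (π (X j))).2, hφ, snd_derHom_X]
    rw [← Submodule.Quotient.mk_eq_zero, Submodule.Quotient.mk_sub]
    rw [Submodule.mkQ_apply, Submodule.mkQ_apply] at h1
    rw [h1, sub_self]
  have hΨker : ∀ x, π x = 0 → ∑ j, g (pderiv k j x) • (Ψ (X j)).snd = 0 := by
    intro x hx
    have h1 : Ψ x = 0 := by
      change ψ (π x) = 0
      rw [hx, map_zero]
    have h2 := congrArg TrivSqZeroExt.snd h1
    rw [hΨeq, snd_derHom] at h2
    simpa using h2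
  have hW : W ≤ maximalIdeal A • W := by
    rw [Submodule.span_le]
    rintro _ ⟨x, hx, rfl⟩
    have hx' : π x = 0 := hx
    have h1 : grad x = ∑ j, g (pderiv k j x) • (e j - (Ψ (X j)).snd) := by
      simp only [smul_sub, Finset.sum_sub_distrib]
      rw [hΨker x hx', sub_zero]
      exact hgrad x
    rw [h1]
    refine Submodule.sum_mem _ (fun j _ => ?_)
    refine Submodule.smul_mem_smul (hgm _ ?_) (hw j)
    exact pderiv_mem_of_mem_sq x (hker hx') j
  have hW0 : W = ⊥ :=
    Submodule.eq_bot_of_le_smul_of_le_jacobson_bot (maximalIdeal A) W (IsNoetherian.noetherian W) hW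
      (IsLocalRing.maximalIdeal_le_jacobson ⊥)
  have h3 : grad f ∈ W := Submodule.subset_span ⟨f, hf, rfl⟩
  rw [hW0, Submodule.mem_bot] at h3
  have h4 : g (pderiv k j₀ f) = 0 := congrFun h3 j₀
  have h5 : Ideal.Quotient.mk (R.mpow N) (π (pderiv k j₀ f)) = 0 := h4
  exact Ideal.Quotient.eq_zero_iff_mem.mp h5

theorem injective_of_T1 [CharZero k] (R : CRing k k)
    (π : MvPowerSeries (Fin r) k →ₐ[k] R.carrier)
    (hπ : Function.Surjective π)
    (hker : RingHom.ker (π : MvPowerSeries (Fin r) k →+* R.carrier) ≤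
      maximalIdeal (MvPowerSeries (Fin r) k) ^ 2)
    (hT : T1Hyp (k := k) r R.carrier) : Function.Injective π := by
  have hstab : ∀ f ∈ RingHom.ker (π : MvPowerSeries (Fin r) k →+* R.carrier), ∀ j,
      pderiv k j f ∈ RingHom.ker (π : MvPowerSeries (Fin r) k →+* R.carrier) := by
    intro f hf j
    rw [RingHom.mem_ker]
    change π (pderiv k j f) = 0
    have h1 : π (pderiv k j f) ∈ ⨅ i : ℕ, maximalIdeal R.carrier ^ i := by
      rw [Ideal.mem_iInf]
      intro i
      exact Ideal.pow_le_pow_right (Nat.le_succ i)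
        (pderiv_mem_ker_of_T1 R π hπ hker hT f hf j i)
    rw [Ideal.iInf_pow_eq_bot_of_isLocalRing _ (Ideal.IsMaximal.ne_top inferInstance)] at h1
    exact h1
  have h0 : ∀ f ∈ RingHom.ker (π : MvPowerSeries (Fin r) k →+* R.carrier),
      constantCoeff f = 0 := by
    intro f hf
    rw [← mem_max_iff]
    exact Ideal.pow_le_self two_ne_zero (hker hf)
  have hbot := eq_bot_of_pderiv_mem _ h0 hstab
  exact (RingHom.injective_iff_ker_eq_bot (π : MvPowerSeries (Fin r) k →+* R.carrier)).mpr hbot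

end main

end Groth.Agent.Helper3.T1Lift
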