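import Mathlib
import Groth.Agent.Lib.Helper3.T1Lift1
import Groth.Agent.Lib.Helper3.WildQuot
import Groth.Agent.Lib.Helper18.Schl.Presentation
import Groth.Agent.Lib.Helper18.Schl.ObsTransport

/-!
T¹-lifting criterion for power series rings (ring form).
-/

set_option autoImplicit false

universe u

namespace Groth.Agent.Helper3.T1Lift

open MvPowerSeries IsLocalRing ArtFun

variable {k : Type u} [Field k]

theorem finrank_cotangentSpace_of_equiv {R : Type u} [CommRing R] [IsLocalRing R]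
    [IsNoetherianRing R] (r : ℕ) (e : R ≃+* MvPowerSeries (Fin r) k) :
    Module.finrank (ResidueField R) (CotangentSpace R) = r := by
  haveI : IsNoetherianRing (MvPowerSeries (Fin r) k) :=
    isNoetherianRing_of_ringEquiv R e
  rw [← spanFinrank_maximalIdeal_eq_finrank_cotangentSpace,
    ← Ideal.spanFinrank_map_eq_of_ringEquiv e, map_ringEquiv_maximalIdeal,
    spanFinrank_maximalIdeal_eq_finrank_cotangentSpace]
  exact Groth.Agent.Helper3.WildQuot.finrank_cotangentSpace k r

/-- power series rings have the `T¹`-lifting property -/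
theorem lift_ps {r : ℕ} (A : Art k k) (M M' : Type u) [AddCommGroup M] [Module (↥A) M]
    [Module (↥A)ᵐᵒᵖ M] [IsCentralScalar (↥A) M] [Module k M] [IsScalarTower k (↥A) M]
    [IsScalarTower k (↥A)ᵐᵒᵖ M]
    [AddCommGroup M'] [Module (↥A) M'] [Module (↥A)ᵐᵒᵖ M'] [IsCentralScalar (↥A) M'] [Module k M']
    [IsScalarTower k (↥A) M'] [IsScalarTower k (↥A)ᵐᵒᵖ M'] (f : M' →ₗ[↥A] M)
    (hf : Function.Surjective f)
    (φ : MvPowerSeries (Fin r) k →ₐ[k] TrivSqZeroExt (↥A) M) :
    ∃ ψ : MvPowerSeries (Fin r) k →ₐ[k] TrivSqZeroExt (↥A) M',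
      ∀ h, (ψ h).fst = (φ h).fst ∧ f (ψ h).snd = (φ h).snd := by
  classical
  obtain ⟨N, -, hN⟩ := Groth.Agent.Helper18.exists_pow_maximalIdeal_eq_bot A
  -- variables go to the maximal ideal
  have hφm : ∀ j, (φ (X j)).fst ∈ maximalIdeal A := by
    intro j
    let ρ : MvPowerSeries (Fin r) k →ₐ[k] k :=
      (A.res.comp (TrivSqZeroExt.fstHom k A M)).comp φ
    have hρs : Function.Surjective ρ := fun c => ⟨algebraMap k _ c, by simp⟩
    have hmax : (RingHom.ker (ρ : MvPowerSeries (Fin r) k →+* k)).IsMaximal :=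
      RingHom.ker_isMaximal_of_surjective _ hρs
    have hX : (X j : MvPowerSeries (Fin r) k) ∈ maximalIdeal (MvPowerSeries (Fin r) k) := by
      rw [mem_max_iff]
      exact MvPowerSeries.constantCoeff_X j
    rw [← IsLocalRing.eq_maximalIdeal hmax, RingHom.mem_ker] at hX
    rw [Art.mem_maximalIdeal_iff]
    exact hX
  choose m' hm' using fun j => hf (φ (X j)).snd
  let a : Fin r → TrivSqZeroExt (↥A) M' := fun j =>
    TrivSqZeroExt.inl (φ (X j)).fst + TrivSqZeroExt.inr (m' j)
  have ha : ∀ j, a j ∈ Ideal.comap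
      (TrivSqZeroExt.fstHom k A M' : TrivSqZeroExt (↥A) M' →+* A) (maximalIdeal A) := by
    intro j
    rw [Ideal.mem_comap]
    change (a j).fst ∈ _
    simpa [a] using hφm j
  let ψ : MvPowerSeries (Fin r) k →ₐ[k] TrivSqZeroExt (↥A) M' :=
    Groth.Agent.Helper18.psEvalHom a _ (N * 2) (comap_fst_pow_eq_bot (k := k) (maximalIdeal A) N hN) ha
  have hψX : ∀ j, ψ (X j) = a j := fun j =>
    Groth.Agent.Helper18.psEvalHom_X a _ (N * 2) (comap_fst_pow_eq_bot (k := k) (maximalIdeal A) N hN) ha j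
  have hψm : ∀ j, (ψ (X j)).fst ∈ maximalIdeal A := by
    intro j
    rw [hψX]
    simpa [a] using hφm j
  have hfst : (TrivSqZeroExt.fstHom k A M').comp ψ = (TrivSqZeroExt.fstHom k A M).comp φ := by
    apply Groth.Agent.Helper18.ps_algHom_ext _ _ (maximalIdeal A) N hN
    · intro j
      exact hψm j
    · intro j
      change (ψ (X j)).fst = (φ (X j)).fst
      rw [hψX]
      simp [a]
  have hfst' : ∀ h, (ψ h).fst = (φ h).fst := fun h => AlgHom.congr_fun hfst h
  refine ⟨ψ, fun h => ⟨hfst' h, ?_⟩⟩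
  rw [snd_apply_eq ψ (maximalIdeal A) N hN hψm h, snd_apply_eq φ (maximalIdeal A) N hN hφm h,
    map_sum]
  refine Finset.sum_congr rfl (fun j _ => ?_)
  rw [map_smul, hfst', hψX]
  simp [a, hm']

end Groth.Agent.Helper3.T1Lift
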