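import Mathlib
import Groth.Agent.Lib.Helper3.T1Lift2
import Groth.Agent.Lib.Helper18.Schl.HullExists
import Groth.Agent.Lib.Helper18.Schl.FormalSmooth
import Groth.Agent.Lib.Helper18.ArtFunRS

/-!
T¹-lifting criterion for functors of Artin rings.
-/

set_option autoImplicit false

universe u v

namespace Groth.Agent.Helper3.T1Lift

open MvPowerSeries IsLocalRing ArtFun CategoryTheory

variable {k : Type u} [Field k]

section tszeArt

variable (A : Art k k) (M : Type u) [AddCommGroup M] [Module (↥A) M] [Module (↥A)ᵐᵒᵖ M]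
  [IsCentralScalar (↥A) M] [Module k M] [IsScalarTower k (↥A) M] [IsScalarTower k (↥A)ᵐᵒᵖ M]

omit [Module k M] [IsScalarTower k (↥A) M] [IsScalarTower k (↥A)ᵐᵒᵖ M] in
theorem tsze_mul_eq_zero (x y : TrivSqZeroExt (↥A) M) (hx : x.fst = 0) (hy : y.fst = 0) :
    x * y = 0 := by
  refine TrivSqZeroExt.ext ?_ ?_
  · rw [TrivSqZeroExt.fst_mul, hx, zero_mul]; rfl
  · rw [TrivSqZeroExt.snd_mul, hx, hy, zero_smul, MulOpposite.op_zero, zero_smul, add_zero]; rfl

theorem isLocalRing_tsze : IsLocalRing (TrivSqZeroExt (↥A) M) := by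
  haveI : Nontrivial (TrivSqZeroExt (↥A) M) :=
    ⟨⟨0, 1, fun h => zero_ne_one (congrArg TrivSqZeroExt.fst h)⟩⟩
  refine IsLocalRing.of_isUnit_or_isUnit_one_sub_self fun x => ?_
  rcases IsLocalRing.isUnit_or_isUnit_one_sub_self x.fst with h | h
  · exact Or.inl (TrivSqZeroExt.isUnit_iff_isUnit_fst.mpr h)
  · refine Or.inr (TrivSqZeroExt.isUnit_iff_isUnit_fst.mpr ?_)
    simpa using h

theorem isArtinianRing_tsze [Module.Finite (↥A) M] : IsArtinianRing (TrivSqZeroExt (↥A) M) :=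
  haveI : Module.Finite (↥A) (TrivSqZeroExt (↥A) M) :=
    inferInstanceAs (Module.Finite (↥A) (↥A × M))
  IsArtinianRing.of_finite (↥A) _

/-- the trivial square-zero extension `A ⊕ M` of an object by a finite module, as an object -/
noncomputable def tszeArt [Module.Finite (↥A) M] : Art k k :=
  { carrier := TrivSqZeroExt (↥A) M
    isLocalRing := isLocalRing_tsze A M
    isArtinianRing := isArtinianRing_tsze A M
    res := A.res.comp (TrivSqZeroExt.fstHom k (↥A) M)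
    res_surjective := fun c => by
      obtain ⟨a, ha⟩ := A.res_surjective c
      exact ⟨TrivSqZeroExt.inl a, by simpa using ha⟩ }

variable [Module.Finite (↥A) M]

/-- the projection `A ⊕ M → A` -/
noncomputable def tszeProj : tszeArt A M ⟶ A :=
  ⟨TrivSqZeroExt.fstHom k (↥A) M, rfl⟩

/-- the section `A → A ⊕ M` -/
noncomputable def tszeIncl : A ⟶ tszeArt A M :=
  ⟨TrivSqZeroExt.inlAlgHom k (↥A) M, by
    apply AlgHom.ext
    intro a
    change A.res ((TrivSqZeroExt.inl a : TrivSqZeroExt (↥A) M).fst) = A.res a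
    rw [TrivSqZeroExt.fst_inl]⟩

theorem tszeIncl_proj : tszeIncl A M ≫ tszeProj A M = 𝟙 A := by
  apply Art.hom_ext
  apply AlgHom.ext
  intro a
  change (TrivSqZeroExt.inl a : TrivSqZeroExt (↥A) M).fst = a
  rw [TrivSqZeroExt.fst_inl]

theorem ker_tszeProj_sq :
    RingHom.ker (tszeProj A M).toAlgHom * RingHom.ker (tszeProj A M).toAlgHom = ⊥ := by
  rw [← le_bot_iff, Ideal.mul_le]
  intro x hx y hy
  rw [RingHom.mem_ker] at hx hy
  have hx' : TrivSqZeroExt.fst (R := (↥A)) (M := M) x = 0 := hx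
  have hy' : TrivSqZeroExt.fst (R := (↥A)) (M := M) y = 0 := hy
  rw [Ideal.mem_bot]
  exact tsze_mul_eq_zero A M x y hx' hy'

variable {M} {M' : Type u} [AddCommGroup M'] [Module (↥A) M'] [Module (↥A)ᵐᵒᵖ M']
  [IsCentralScalar (↥A) M'] [Module k M'] [IsScalarTower k (↥A) M'] [IsScalarTower k (↥A)ᵐᵒᵖ M']
  [Module.Finite (↥A) M']

/-- the map `A ⊕ M' → A ⊕ M` induced by a linear map -/
noncomputable def tszeMap (f : M' →ₗ[↥A] M) : tszeArt A M' ⟶ tszeArt A M :=
  ⟨{ toRingHom := (TrivSqZeroExt.map f).toRingHom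
     commutes' := fun c => by
       change TrivSqZeroExt.map f (algebraMap k (TrivSqZeroExt (↥A) M') c) =
         algebraMap k (TrivSqZeroExt (↥A) M) c
       rw [TrivSqZeroExt.algebraMap_eq_inl', TrivSqZeroExt.algebraMap_eq_inl',
         TrivSqZeroExt.map_inl] }, by
    apply AlgHom.ext
    intro x
    change A.res (TrivSqZeroExt.fst (TrivSqZeroExt.map f x)) = A.res (TrivSqZeroExt.fst x)
    rw [TrivSqZeroExt.fst_map]⟩

theorem tszeMap_apply (f : M' →ₗ[↥A] M) (x : TrivSqZeroExt (↥A) M') :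
    (tszeMap A f).toAlgHom x = TrivSqZeroExt.map f x := rfl

theorem tszeMap_proj (f : M' →ₗ[↥A] M) : tszeMap A f ≫ tszeProj A M = tszeProj A M' := by
  apply Art.hom_ext
  apply AlgHom.ext
  intro x
  change TrivSqZeroExt.fst (TrivSqZeroExt.map f x) = TrivSqZeroExt.fst x
  rw [TrivSqZeroExt.fst_map]

theorem tszeIncl_map (f : M' →ₗ[↥A] M) : tszeIncl A M' ≫ tszeMap A f = tszeIncl A M := by
  apply Art.hom_ext
  apply AlgHom.ext
  intro a
  change TrivSqZeroExt.map f (TrivSqZeroExt.inl a) = TrivSqZeroExt.inl a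
  rw [TrivSqZeroExt.map_inl]

omit [Module k M] [IsScalarTower k (↥A) M] [IsScalarTower k (↥A)ᵐᵒᵖ M] [Module.Finite (↥A) M]
  [Module k M'] [IsScalarTower k (↥A) M'] [IsScalarTower k (↥A)ᵐᵒᵖ M'] [Module.Finite (↥A) M'] in
theorem tsze_map_surjective (f : M' →ₗ[↥A] M) (hf : Function.Surjective f)
    (x : TrivSqZeroExt (↥A) M) : ∃ y : TrivSqZeroExt (↥A) M', TrivSqZeroExt.map f y = x := by
  obtain ⟨m', hm'⟩ := hf x.snd
  refine ⟨TrivSqZeroExt.inl x.fst + TrivSqZeroExt.inr m', ?_⟩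
  refine TrivSqZeroExt.ext ?_ ?_
  · rw [TrivSqZeroExt.fst_map]; simp
  · rw [TrivSqZeroExt.snd_map]; simp [hm']

theorem tszeMap_surjective (f : M' →ₗ[↥A] M) (hf : Function.Surjective f) :
    Function.Surjective (tszeMap A f) := by
  intro x
  obtain ⟨y, hy⟩ := tsze_map_surjective A f hf x
  exact ⟨y, hy⟩

end tszeArt

section functor

/-- `k`-algebra maps from a coefficient ring to an object are automatically augmented -/
theorem res_comp_eq (R : CRing k k) (B : Art k k) (φ : R.carrier →ₐ[k] B) :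
    B.res.comp φ = R.res := by
  apply AlgHom.ext
  intro x
  have hmax : (RingHom.ker ((B.res.comp φ : R.carrier →ₐ[k] k) : R.carrier →+* k)).IsMaximal :=
    RingHom.ker_isMaximal_of_surjective _ (fun c => ⟨algebraMap k _ c, by simp⟩)
  have h1 := IsLocalRing.eq_maximalIdeal hmax
  have h2 : x - algebraMap k R.carrier (R.res x) ∈ maximalIdeal R.carrier := by
    rw [CRing.mem_maximalIdeal_iff]
    simp
  rw [← h1, RingHom.mem_ker] at h2
  have h3 : (B.res.comp φ) (x - algebraMap k R.carrier (R.res x)) = 0 := h2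
  rw [map_sub, AlgHom.commutes, sub_eq_zero] at h3
  rw [h3]
  rfl

variable {F : Art k k ⥤ Type v}

/-- the `T¹`-lifting hypothesis on functors -/
def T1Fun (F : Art k k ⥤ Type v) : Prop :=
  ∀ ⦃A A' A'' : Art k k⦄ (π' : A' ⟶ A) (i' : A ⟶ A') (π'' : A'' ⟶ A) (i'' : A ⟶ A'')
    (q : A'' ⟶ A'), i' ≫ π' = 𝟙 A → i'' ≫ π'' = 𝟙 A →
    RingHom.ker π'.toAlgHom * RingHom.ker π'.toAlgHom = ⊥ →
    RingHom.ker π''.toAlgHom * RingHom.ker π''.toAlgHom = ⊥ →
    q ≫ π' = π'' → i'' ≫ q = i' → Function.Surjective q → Function.Surjective (F.map q)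

theorem t1Hyp_of_versal (R : CRing k k) (ξ : Family R.carrier R.res F) (hξ : IsVersal ξ)
    (hT1 : T1Fun F) (r : ℕ) : T1Hyp (k := k) r R.carrier := by
  intro A W φ
  have hq : Function.Surjective (tszeMap A W.mkQ) :=
    tszeMap_surjective A _ (Submodule.mkQ_surjective W)
  have hF := hT1 (tszeProj A ((Fin r → A) ⧸ W)) (tszeIncl A _) (tszeProj A (Fin r → A))
    (tszeIncl A _) (tszeMap A W.mkQ) (tszeIncl_proj A _) (tszeIncl_proj A _)
    (ker_tszeProj_sq A _) (ker_tszeProj_sq A _) (tszeMap_proj A _) (tszeIncl_map A _) hq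
  let φ' : HomSet R.carrier R.res (tszeArt A ((Fin r → A) ⧸ W)) :=
    ⟨φ, res_comp_eq R (tszeArt A ((Fin r → A) ⧸ W)) φ⟩
  obtain ⟨y, hy⟩ := hF (ξ.app _ φ')
  obtain ⟨ψ, hψ, -⟩ := hξ (tszeMap A W.mkQ) hq φ' y hy
  refine ⟨ψ.1, fun x => ?_⟩
  have h1 : (tszeMap A W.mkQ).toAlgHom (ψ.1 x) = φ x :=
    AlgHom.congr_fun (congrArg Subtype.val hψ) x
  rw [tszeMap_apply] at h1
  constructor
  · rw [← h1, TrivSqZeroExt.fst_map]
    rfl
  · rw [← h1, TrivSqZeroExt.snd_map]
    rfl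

theorem isSmoothFunctor_of_T1 [CharZero k] [TangentStr F] (h0 : H0 F)
    (hRS : Groth.Agent.Helper18.RS F) (hfin : Hfin F) (hT1 : T1Fun F) : IsSmoothFunctor F := by
  have hk := Groth.Agent.Helper18.hk_field (k := k)
  obtain ⟨R, ξ, hξ, -⟩ := Groth.Agent.Helper18.exists_hull hk h0 hRS.hbar hRS.heps hfin
  rw [Groth.Agent.Helper18.isSmoothFunctor_iff_of_isVersal h0 R ξ hξ]
  obtain ⟨r, π, hπres, hπs, hπk⟩ := Groth.Agent.Helper18.exists_presentation hk R
  rw [Groth.Agent.Helper18.relI_field_eq] at hπk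
  have hinj := injective_of_T1 R π hπs hπk (t1Hyp_of_versal R ξ hξ hT1 r)
  let e : MvPowerSeries (Fin r) k ≃ₐ[k] R.carrier := AlgEquiv.ofBijective π ⟨hinj, hπs⟩
  intro B A μ hμ φ
  let φP : HomSet (Groth.Agent.Helper18.psCRing r hk).carrier
      (Groth.Agent.Helper18.psCRing r hk).res A :=
    ⟨φ.1.comp π, by rw [← AlgHom.comp_assoc, φ.2, hπres]⟩
  obtain ⟨ψP, hψP⟩ := Groth.Agent.Helper18.homSmooth_ps hk r μ hμ φP
  have hψP' : ∀ x, μ.toAlgHom (ψP.1 x) = φ.1 (π x) :=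
    fun x => AlgHom.congr_fun (congrArg Subtype.val hψP) x
  refine ⟨⟨ψP.1.comp e.symm.toAlgHom, res_comp_eq R B _⟩, ?_⟩
  apply Subtype.ext
  apply AlgHom.ext
  intro x
  change μ.toAlgHom (ψP.1 (e.symm x)) = φ.1 x
  rw [hψP']
  congr 1
  exact e.apply_symm_apply x

end functor

end Groth.Agent.Helper3.T1Lift
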