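import Mathlib
import Groth.Prelude.Def_ArtFun3
import Groth.Prelude.Def_W4c5t1liftcy3defoArt
import Groth.Agent.Lib.Helper18.ArtFunFibre

/-!
Kawamata's key lemma for `T¹`-lifting: lifting along `A_(n+2) → A_(n+1)` versus tangent lifting.
-/

set_option autoImplicit false

universe u v

namespace Groth.Agent.Helper3.T1Lift4

open ArtFun ArtFun.Art T1Lift CategoryTheory Polynomial IsLocalRing
open Groth.Agent.Helper18

variable (k : Type u) [Field k]

/-! ### basic facts on `k[t]/(t^(m+1))` -/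

theorem αAlg_mk (m : ℕ) (p : k[X]) :
    αAlg k m (AdjoinRoot.mk _ p) = AdjoinRoot.mk _ p := by
  have h1 : αAlg k m (AdjoinRoot.mk _ p) = aeval (t k m) p := by
    unfold αAlg
    rw [AdjoinRoot.liftAlgHom_mk]
    rfl
  rw [h1, AdjoinRoot.aeval_eq]

theorem αAlg_surjective (m : ℕ) : Function.Surjective (αAlg k m) := by
  intro a
  obtain ⟨p, rfl⟩ := AdjoinRoot.mk_surjective a
  exact ⟨AdjoinRoot.mk _ p, αAlg_mk k m p⟩

theorem mem_ker_αAlg (m : ℕ) (a : Tr k (m + 1)) (ha : αAlg k m a = 0) :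
    ∃ c : k, a = c • t k (m + 1) ^ (m + 1) := by
  obtain ⟨p, rfl⟩ := AdjoinRoot.mk_surjective a
  rw [αAlg_mk, AdjoinRoot.mk_eq_zero] at ha
  obtain ⟨q, rfl⟩ := ha
  obtain ⟨b, hb⟩ := eq_algebraMap_add_t_mul k (m + 1) (AdjoinRoot.mk _ q)
  generalize resA k (m + 1) (AdjoinRoot.mk _ q) = c at hb
  refine ⟨c, ?_⟩
  rw [map_mul, hb, map_pow, AdjoinRoot.mk_X, mul_add, ← mul_assoc, ← pow_succ, t_pow, zero_mul,
    add_zero, Algebra.smul_def, mul_comm]

theorem mem_max_Tr (m : ℕ) (a : Tr k m) (ha : resA k m a = 0) : ∃ b, a = t k m * b := by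
  obtain ⟨b, hb⟩ := eq_algebraMap_add_t_mul k m a
  rw [ha, map_zero, zero_add] at hb
  exact ⟨b, hb⟩

theorem t_pow_ne_zero (m : ℕ) : t k m ^ m ≠ 0 := by
  intro h
  have h1 : AdjoinRoot.mk ((X : k[X]) ^ (m + 1)) (X ^ m) = 0 := by
    rw [map_pow, AdjoinRoot.mk_X]
    exact h
  rw [AdjoinRoot.mk_eq_zero, pow_dvd_pow_iff X_ne_zero not_isUnit_X] at h1
  omega

/-! ### the maps -/

theorem α_surjective (m : ℕ) : Function.Surjective (α k m) := αAlg_surjective k m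

theorem β_surjective (m : ℕ) : Function.Surjective (β k m) :=
  fun a => ⟨TrivSqZeroExt.inl a, rfl⟩

theorem ε_β (n : ℕ) : ε k n ≫ β k n = α k n := by
  apply Art.hom_ext
  apply AdjoinRoot.algHom_ext
  change (εAlg k n (t k (n + 1))).fst = αAlg k n (t k (n + 1))
  rw [εAlg_t, αAlg_t]
  simp

theorem ξ_β (n : ℕ) : ξ k n ≫ β k n = β k (n + 1) ≫ α k n := by
  apply Art.hom_ext
  apply AlgHom.ext
  intro x
  rfl

theorem α_ε (n : ℕ) : α k (n + 1) ≫ ε k n = ε k (n + 1) ≫ ξ k n := by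
  apply Art.hom_ext
  apply AdjoinRoot.algHom_ext
  change εAlg k n (αAlg k (n + 1) (t k (n + 2))) =
    dualMap k (αAlg k n) (εAlg k (n + 1) (t k (n + 2)))
  rw [αAlg_t, εAlg_t, εAlg_t]
  refine TrivSqZeroExt.ext ?_ ?_
  · change _ = αAlg k n (TrivSqZeroExt.fst (TrivSqZeroExt.inl (t k (n + 1)) + DualNumber.eps))
    simp
  · change _ = αAlg k n (TrivSqZeroExt.snd (TrivSqZeroExt.inl (t k (n + 1)) + DualNumber.eps))
    simp

theorem α_isSemismallExt (m : ℕ) : IsSemismallExt (α k m) := by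
  refine ⟨α_surjective k m, ?_⟩
  rw [← le_bot_iff, Ideal.mul_le]
  intro x hx y hy
  rw [Art.mem_maximalIdeal_iff] at hx
  obtain ⟨b, rfl⟩ := mem_max_Tr k (m + 1) x hx
  obtain ⟨c, rfl⟩ := mem_ker_αAlg k m y hy
  rw [Ideal.mem_bot]
  change t k (m + 1) * b * (c • t k (m + 1) ^ (m + 1)) = 0
  rw [mul_smul_comm, mul_comm (t k (m + 1)) b, mul_assoc, ← pow_succ', t_pow, mul_zero, smul_zero]

/-- the fibre product `C = A_(n+1) ×_(A_n) B_n` -/
noncomputable def C (n : ℕ) : Art k k := fibreProd (α k n) (β k n) (β_surjective k n)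

noncomputable def pC' (n : ℕ) : C k n ⟶ A k (n + 1) := fibreProd.fst _ _ _
noncomputable def pC'' (n : ℕ) : C k n ⟶ B k n := fibreProd.snd _ _ _

theorem isFibreProd_C (n : ℕ) : IsFibreProd (pC' k n) (pC'' k n) (α k n) (β k n) :=
  isFibreProd_fibreProd _ _ _

theorem exists_ψ (n : ℕ) : ∃ ψ : B k (n + 1) ⟶ C k n, ψ ≫ pC' k n = β k (n + 1) ∧
    ψ ≫ pC'' k n = ξ k n :=
  fp_exists_lift (isFibreProd_C k n) (β k (n + 1)) (ξ k n) (ξ_β k n).symm

theorem exists_g (n : ℕ) : ∃ g : A k (n + 1) ⟶ C k n, g ≫ pC' k n = 𝟙 _ ∧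
    g ≫ pC'' k n = ε k n :=
  fp_exists_lift (isFibreProd_C k n) (𝟙 _) (ε k n) (by rw [Category.id_comp, ε_β])

theorem ψ_apply_eq_zero_iff (n : ℕ) (ψ : B k (n + 1) ⟶ C k n)
    (h1 : ψ ≫ pC' k n = β k (n + 1)) (h2 : ψ ≫ pC'' k n = ξ k n) (x : B k (n + 1)) :
    ψ x = 0 ↔ β k (n + 1) x = 0 ∧ ξ k n x = 0 := by
  have e1 : ∀ x, pC' k n (ψ x) = β k (n + 1) x := fun x =>
    congrArg (fun f : B k (n + 1) ⟶ A k (n + 1) => f x) h1
  have e2 : ∀ x, pC'' k n (ψ x) = ξ k n x := fun x =>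
    congrArg (fun f : B k (n + 1) ⟶ B k n => f x) h2
  constructor
  · intro h
    rw [← e1, ← e2, h]
    exact ⟨map_zero (pC' k n).toAlgHom, map_zero (pC'' k n).toAlgHom⟩
  · rintro ⟨h3, h4⟩
    apply (isFibreProd_C k n).inj
    · rw [e1, h3]
      exact (map_zero (pC' k n).toAlgHom).symm
    · rw [e2, h4]
      exact (map_zero (pC'' k n).toAlgHom).symm

theorem ψ_ker (n : ℕ) (ψ : B k (n + 1) ⟶ C k n)
    (h1 : ψ ≫ pC' k n = β k (n + 1)) (h2 : ψ ≫ pC'' k n = ξ k n) (x : B k (n + 1))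
    (hx : ψ x = 0) : ∃ c : k, x = TrivSqZeroExt.inr (c • t k (n + 1) ^ (n + 1)) := by
  rw [ψ_apply_eq_zero_iff k n ψ h1 h2] at hx
  obtain ⟨h3, h4⟩ := hx
  have h3' : TrivSqZeroExt.fst (R := Tr k (n + 1)) (M := Tr k (n + 1)) x = 0 := h3
  have h4' : αAlg k n (TrivSqZeroExt.snd (R := Tr k (n + 1)) (M := Tr k (n + 1)) x) = 0 :=
    congrArg TrivSqZeroExt.snd h4
  obtain ⟨c, hc⟩ := mem_ker_αAlg k n _ h4'
  refine ⟨c, ?_⟩
  refine TrivSqZeroExt.ext ?_ ?_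
  · rw [TrivSqZeroExt.fst_inr]
    exact h3'
  · rw [TrivSqZeroExt.snd_inr]
    exact hc

theorem dual_mul_aux (n : ℕ) (y : DualNumber (Tr k (n + 1))) (b : Tr k (n + 1))
    (hb : y.fst = t k (n + 1) * b) (c : k) :
    y * (TrivSqZeroExt.inr (c • t k (n + 1) ^ (n + 1)) : DualNumber (Tr k (n + 1))) = 0 := by
  refine TrivSqZeroExt.ext ?_ ?_
  · rw [TrivSqZeroExt.fst_mul, TrivSqZeroExt.fst_inr, mul_zero]
    rfl
  · rw [TrivSqZeroExt.snd_mul, TrivSqZeroExt.fst_inr, TrivSqZeroExt.snd_inr, MulOpposite.op_zero,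
      zero_smul, add_zero, hb, smul_eq_mul, mul_smul_comm, mul_comm (t k (n + 1)) b, mul_assoc,
      ← pow_succ', t_pow, mul_zero, smul_zero]
    rfl

theorem ψ_isSemismallExt (n : ℕ) (ψ : B k (n + 1) ⟶ C k n)
    (h1 : ψ ≫ pC' k n = β k (n + 1)) (h2 : ψ ≫ pC'' k n = ξ k n) : IsSemismallExt ψ := by
  have e1 : ∀ x, pC' k n (ψ x) = β k (n + 1) x := fun x =>
    congrArg (fun f : B k (n + 1) ⟶ A k (n + 1) => f x) h1
  have e2 : ∀ x, pC'' k n (ψ x) = ξ k n x := fun x =>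
    congrArg (fun f : B k (n + 1) ⟶ B k n => f x) h2
  constructor
  · intro z
    obtain ⟨c, hc⟩ := αAlg_surjective k n
      (TrivSqZeroExt.snd (R := Tr k n) (M := Tr k n) (pC'' k n z))
    have hw : αAlg k n (pC' k n z) =
        TrivSqZeroExt.fst (R := Tr k n) (M := Tr k n) (pC'' k n z) :=
      (isFibreProd_C k n).w_apply z
    let x : DualNumber (Tr k (n + 1)) := (pC' k n z, c)
    refine ⟨x, ?_⟩
    apply (isFibreProd_C k n).inj
    · rw [e1]
      rfl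
    · rw [e2]
      refine TrivSqZeroExt.ext ?_ ?_
      · exact hw
      · exact hc
  · rw [← le_bot_iff, Ideal.mul_le]
    intro y hy x hx
    rw [Art.mem_maximalIdeal_iff] at hy
    have hy' : resA k (n + 1) (TrivSqZeroExt.fst (R := Tr k (n + 1)) (M := Tr k (n + 1)) y) = 0 :=
      hy
    obtain ⟨b, hb⟩ := mem_max_Tr k (n + 1) _ hy'
    obtain ⟨c, rfl⟩ := ψ_ker k n ψ h1 h2 x hx
    rw [Ideal.mem_bot]
    exact dual_mul_aux k n y b hb c

theorem square_comm (n : ℕ) (ψ : B k (n + 1) ⟶ C k n) (g : A k (n + 1) ⟶ C k n)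
    (h1 : ψ ≫ pC' k n = β k (n + 1)) (h2 : ψ ≫ pC'' k n = ξ k n)
    (g1 : g ≫ pC' k n = 𝟙 _) (g2 : g ≫ pC'' k n = ε k n) :
    α k (n + 1) ≫ g = ε k (n + 1) ≫ ψ := by
  apply fp_hom_ext (isFibreProd_C k n)
  · rw [Category.assoc, Category.assoc, g1, h1, Category.comp_id, ε_β]
  · rw [Category.assoc, Category.assoc, g2, h2, α_ε]

theorem snd_ε_ker (n : ℕ) (c : k) :
    TrivSqZeroExt.snd (R := Tr k (n + 1)) (M := Tr k (n + 1))
      (εAlg k (n + 1) (c • t k (n + 2) ^ (n + 2))) =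
      c • ((n + 2 : ℕ) • t k (n + 1) ^ (n + 1)) := by
  rw [map_smul, map_pow, εAlg_t, TrivSqZeroExt.snd_smul, TrivSqZeroExt.snd_pow]
  congr 2
  simp

theorem ε_ker_injective [CharZero k] (n : ℕ) (j : Tr k (n + 2)) (hj : αAlg k (n + 1) j = 0)
    (h : εAlg k (n + 1) j = 0) : j = 0 := by
  obtain ⟨c, rfl⟩ := mem_ker_αAlg k (n + 1) j hj
  have h1 := congrArg (TrivSqZeroExt.snd (R := Tr k (n + 1)) (M := Tr k (n + 1))) h
  rw [snd_ε_ker] at h1
  have h2 : (c * ((n + 2 : ℕ) : k)) • t k (n + 1) ^ (n + 1) = 0 := by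
    rw [mul_smul, Nat.cast_smul_eq_nsmul]
    exact h1
  rcases smul_eq_zero.mp h2 with h3 | h3
  · rcases mul_eq_zero.mp h3 with h4 | h4
    · rw [h4, zero_smul]
    · exfalso
      exact (Nat.cast_ne_zero.mpr (by omega)) h4
  · exact absurd h3 (t_pow_ne_zero k (n + 1))

open scoped TensorProduct

theorem main [CharZero k]
    (F : ArtFun.Art k k ⥤ Type v)
    (hRS : ∀ ⦃P A A' A'' : ArtFun.Art k k⦄ (p' : P ⟶ A') (p'' : P ⟶ A'') (f' : A' ⟶ A) (f'' : A'' ⟶ A)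
      (h : ArtFun.Art.IsFibreProd p' p'' f' f''), Function.Surjective f'' →
        Function.Bijective (ArtFun.cmp F h))
    (V : Type u) [AddCommGroup V] [Module k V] (O : ArtFun.ObsTheory F V)
    (hnat : ∀ ⦃A' A C' C : ArtFun.Art k k⦄ (φ : A' ⟶ A) (hφ : ArtFun.Art.IsSemismallExt φ)
      (ψ : C' ⟶ C) (hψ : ArtFun.Art.IsSemismallExt ψ) (g' : A' ⟶ C') (g : A ⟶ C), φ ≫ g = g' ≫ ψ →
      ∀ (ℓ : ↥(RingHom.ker φ.toAlgHom) →ₗ[k] ↥(RingHom.ker ψ.toAlgHom)),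
        (∀ j : ↥(RingHom.ker φ.toAlgHom), ((ℓ j : ↥(RingHom.ker ψ.toAlgHom)) : C') = g' (j : A')) →
        ∀ u : F.obj A, O.obs ψ hψ (F.map g u) = LinearMap.lTensor V ℓ (O.obs φ hφ u))
    (n : ℕ) (X : F.obj (T1Lift.A k (n + 1))) :
    (∃ X' : F.obj (T1Lift.A k (n + 2)), F.map (T1Lift.α k (n + 1)) X' = X) ↔
      ∃ Y : F.obj (T1Lift.B k (n + 1)), F.map (T1Lift.β k (n + 1)) Y = X ∧
        F.map (T1Lift.ξ k n) Y = F.map (T1Lift.ε k n) X := by
  constructor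
  · rintro ⟨X', rfl⟩
    refine ⟨F.map (ε k (n + 1)) X', ?_, ?_⟩
    · rw [← Functor.map_comp_apply, ε_β]
    · rw [← Functor.map_comp_apply, ← Functor.map_comp_apply, α_ε]
  · rintro ⟨Y, hY1, hY2⟩
    obtain ⟨ψ, h1, h2⟩ := exists_ψ k n
    obtain ⟨g, g1, g2⟩ := exists_g k n
    have hψ := ψ_isSemismallExt k n ψ h1 h2
    have hα := α_isSemismallExt k (n + 1)
    have hsq := square_comm k n ψ g h1 h2 g1 g2
    -- F(ψ) Y = F(g) X
    have hbij := hRS (pC' k n) (pC'' k n) (α k n) (β k n) (isFibreProd_C k n) (β_surjective k n)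
    have hYX : F.map ψ Y = F.map g X := by
      apply hbij.1
      apply FibProd.ext
      · change F.map (pC' k n) (F.map ψ Y) = F.map (pC' k n) (F.map g X)
        rw [← Functor.map_comp_apply, ← Functor.map_comp_apply, h1, g1, Functor.map_id_apply, hY1]
      · change F.map (pC'' k n) (F.map ψ Y) = F.map (pC'' k n) (F.map g X)
        rw [← Functor.map_comp_apply, ← Functor.map_comp_apply, h2, g2, hY2]
    have hobs : O.obs ψ hψ (F.map g X) = 0 := (O.obs_eq_zero_iff ψ hψ _).2 ⟨Y, hYX⟩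
    -- the linear map between kernels
    have hmem : ∀ j : ↥(RingHom.ker (α k (n + 1)).toAlgHom),
        (ε k (n + 1)) (j : A k (n + 2)) ∈ RingHom.ker ψ.toAlgHom := by
      intro j
      rw [RingHom.mem_ker]
      have h3 : ψ ((ε k (n + 1)) (j : A k (n + 2))) = g ((α k (n + 1)) (j : A k (n + 2))) :=
        (congrArg (fun f : A k (n + 2) ⟶ C k n => f (j : A k (n + 2))) hsq).symm
      have h4 : (α k (n + 1)) (j : A k (n + 2)) = 0 := j.2
      change ψ ((ε k (n + 1)) (j : A k (n + 2))) = 0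
      rw [h3, h4]
      exact map_zero g.toAlgHom
    let ℓ : ↥(RingHom.ker (α k (n + 1)).toAlgHom) →ₗ[k] ↥(RingHom.ker ψ.toAlgHom) :=
      { toFun := fun j => ⟨(ε k (n + 1)) (j : A k (n + 2)), hmem j⟩
        map_add' := fun x y => Subtype.ext (map_add (ε k (n + 1)).toAlgHom _ _)
        map_smul' := fun c x => Subtype.ext (map_smul (ε k (n + 1)).toAlgHom c _) }
    have hℓinj : Function.Injective ℓ := by
      rw [injective_iff_map_eq_zero]
      intro j hj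
      apply Subtype.ext
      have h5 : εAlg k (n + 1) (j.1 : Tr k (n + 2)) = 0 := congrArg Subtype.val hj
      exact ε_ker_injective k n j.1 j.2 h5
    have key := hnat (α k (n + 1)) hα ψ hψ (ε k (n + 1)) g hsq ℓ (fun j => rfl) X
    rw [hobs] at key
    have hinj : Function.Injective (LinearMap.lTensor V ℓ) :=
      Module.Flat.lTensor_preserves_injective_linearMap ℓ hℓinj
    have h0 : O.obs (α k (n + 1)) hα X = 0 := by
      apply hinj
      rw [← key, map_zero]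
    exact (O.obs_eq_zero_iff (α k (n + 1)) hα X).1 h0

end Groth.Agent.Helper3.T1Lift4
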