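import Groth.Agent.Lib.Helper3.BC8
import Groth.Agent.Lib.Helper11.TorAmp8
import Groth.Agent.Lib.Helper11.LDer4

/-!
# Tor independence: extension of scalars of a projective resolution (helper3)
-/

set_option autoImplicit false

open CategoryTheory CategoryTheory.Limits MonoidalCategory

universe u

attribute [local instance] HasDerivedCategory.standard

namespace Groth.Agent.Helper3.TB

section General

variable {𝒜 ℬ : Type*} [Category 𝒜] [Abelian 𝒜] [Category ℬ] [Abelian ℬ]
  (G : 𝒜 ⥤ ℬ) [G.Additive] [PreservesFiniteColimits G]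

/-- a right exact functor preserves quasi-isomorphisms in the top degree -/
theorem quasiIsoAt_map_of_rightExact {K L : CochainComplex 𝒜 ℤ} (f : K ⟶ L) (j : ℤ)
    (hK : IsZero (K.X (j + 1))) (hL : IsZero (L.X (j + 1))) (hf : QuasiIsoAt f j) :
    QuasiIsoAt ((G.mapHomologicalComplex (ComplexShape.up ℤ)).map f) j := by
  rw [quasiIsoAt_iff' _ (j - 1) j (j + 1) (by simp) (by simp)] at hf ⊢
  haveI : G.PreservesRightHomologyOf (K.sc' (j - 1) j (j + 1)) :=
    Functor.preservesRightHomology_of_zero_g G _ (hK.eq_of_tgt _ _)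
  haveI : G.PreservesRightHomologyOf (L.sc' (j - 1) j (j + 1)) :=
    Functor.preservesRightHomology_of_zero_g G _ (hL.eq_of_tgt _ _)
  haveI := hf
  exact ShortComplex.quasiIso_map_of_preservesRightHomology G
    ((HomologicalComplex.shortComplexFunctor' 𝒜 (ComplexShape.up ℤ) (j - 1) j (j + 1)).map f)

theorem exactAt_of_isZero_X {K : CochainComplex ℬ ℤ} (i : ℤ) (h : IsZero (K.X i)) :
    K.ExactAt i :=
  ShortComplex.exact_of_isZero_X₂ _ h

/-- a right exact functor applied to a projective resolution, given the vanishing of the higher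
derived functors -/
theorem quasiIso_map_π' {M : 𝒜} (P : ProjectiveResolution M)
    (hex : ∀ i : ℤ, i < 0 →
      ((G.mapHomologicalComplex (ComplexShape.up ℤ)).obj P.cochainComplex).ExactAt i) :
    QuasiIso ((G.mapHomologicalComplex (ComplexShape.up ℤ)).map P.π') := by
  rw [quasiIso_iff]
  intro i
  have hS : ∀ k : ℤ, k ≠ 0 → IsZero (((G.mapHomologicalComplex (ComplexShape.up ℤ)).obj
      ((CochainComplex.singleFunctor 𝒜 0).obj M)).X k) := fun k hk =>
    G.map_isZero (HomologicalComplex.isZero_single_obj_X _ _ _ _ hk)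
  have hP : ∀ k : ℤ, 0 < k → IsZero (((G.mapHomologicalComplex (ComplexShape.up ℤ)).obj
      P.cochainComplex).X k) := fun k hk =>
    G.map_isZero (CochainComplex.isZero_of_isStrictlyLE _ 0 _ hk)
  rcases lt_trichotomy i 0 with hi | hi | hi
  · rw [quasiIsoAt_iff_exactAt _ _ (hex i hi)]
    exact exactAt_of_isZero_X i (hS i (by omega))
  · subst hi
    refine quasiIsoAt_map_of_rightExact G P.π' 0 ?_ ?_ inferInstance
    · exact CochainComplex.isZero_of_isStrictlyLE _ 0 _ (by omega)
    · exact HomologicalComplex.isZero_single_obj_X _ _ _ _ (by omega)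
  · rw [quasiIsoAt_iff_exactAt _ _ (exactAt_of_isZero_X i (hP i hi))]
    exact exactAt_of_isZero_X i (hS i (by omega))

end General

section Tor

variable {R : Type u} [CommRing R]

open Groth.Agent.Helper11.TA Groth.Agent.Helper11.LDer Groth.Agent.Helper11.DC

theorem nonempty_tor_symm (M N : ModuleCat.{u} R) (n : ℕ) :
    Nonempty (((Tor (ModuleCat.{u} R) n).obj M).obj N ≅
      ((Tor (ModuleCat.{u} R) n).obj N).obj M) := by
  let P := projectiveResolution N
  obtain ⟨e⟩ := Groth.Agent.Helper6.TorBalance.nonempty_tor_iso N M P n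
  refine ⟨P.isoLeftDerivedObj (tensorLeft M) n ≪≫ ?_ ≪≫ e.symm⟩
  exact (HomologicalComplex.homologyFunctor _ _ n).mapIso
    ((NatIso.mapHomologicalComplex (BraidedCategory.tensorLeftIsoTensorRight M)
      (ComplexShape.down ℕ)).app P.complex)

instance (N : ModuleCat.{u} R) : PreservesFiniteColimits (tensorRight N) :=
  preservesFiniteColimits_of_natIso (BraidedCategory.tensorLeftIsoTensorRight N)

theorem quasiIso_tens_π' (M N : ModuleCat.{u} R)
    (h : ∀ q : ℕ, IsZero (((Tor (ModuleCat.{u} R) (q + 1)).obj M).obj N)) :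
    QuasiIso ((tens N).map (projectiveResolution M).π') := by
  refine quasiIso_map_π' (tensorRight N) (projectiveResolution M) ?_
  intro i hi
  obtain ⟨q, rfl⟩ : ∃ q : ℕ, i = -((q + 1 : ℕ) : ℤ) := ⟨(-i - 1).toNat, by omega⟩
  rw [← isZero_homology_Q_iff_exactAt]
  exact (isZero_tor_iff M N q).mp (h q)

variable {A R' : Type u} [CommRing A] [CommRing R'] (φ : R →+* A) (ρ : R →+* R')

/-- Tor independence: extension of scalars along `φ` of the projective resolution of `R'` (as an
`R`-module) is still a resolution -/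
theorem quasiIso_ext_π'
    (h : ∀ q : ℕ, IsZero (((Tor (ModuleCat.{u} R) (q + 1)).obj (Bm ρ)).obj (Bm φ))) :
    QuasiIso ((DTen.extCx φ).map (projectiveResolution (Bm ρ)).π') := by
  have h1 := quasiIso_tens_π' (Bm ρ) (Bm φ) h
  let f := (projectiveResolution (Bm ρ)).π'
  let α : ((es φ ⋙ ModuleCat.restrictScalars.{u} φ).mapHomologicalComplex
      (ComplexShape.up ℤ)) ≅ tens (Bm φ) :=
    NatIso.mapHomologicalComplex (esRes φ ≪≫ BraidedCategory.tensorLeftIsoTensorRight (Bm φ))
      (ComplexShape.up ℤ)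
  have h1' : IsIso (DerivedCategory.Q.map ((tens (Bm φ)).map f)) :=
    (DerivedCategory.isIso_Q_map_iff_quasiIso (φ := (tens (Bm φ)).map f)).mpr h1
  have h2 : IsIso ((((es φ ⋙ ModuleCat.restrictScalars.{u} φ).mapHomologicalComplex
      (ComplexShape.up ℤ)) ⋙ DerivedCategory.Q).map f) :=
    (NatIso.isIso_map_iff (Functor.isoWhiskerRight α DerivedCategory.Q) f).mpr h1'
  have h3 : IsIso (DerivedCategory.Q.map (((ModuleCat.restrictScalars.{u} φ).mapHomologicalComplex
      (ComplexShape.up ℤ)).map ((DTen.extCx φ).map f))) := h2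
  rw [DerivedCategory.isIso_Q_map_iff_quasiIso] at h3
  exact (HomologicalComplex.quasiIso_map_iff_of_preservesHomology ((DTen.extCx φ).map f)
    (ModuleCat.restrictScalars.{u} φ)).mp h3

end Tor

section Alg

open Groth.Agent.Helper11.LDer Groth.Agent.Helper3.BC

theorem isZero_tor_Bm (R A R' : Type u) [CommRing R] [CommRing A] [CommRing R'] [Algebra R A]
    [Algebra R R'] (htor : ∀ p : ℕ, 1 ≤ p → Subsingleton (DRing.Tor R p A R')) (q : ℕ) :
    IsZero (((Tor (ModuleCat.{u} R) (q + 1)).obj (Bm (algebraMap R R'))).obj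
      (Bm (algebraMap R A))) := by
  obtain ⟨e⟩ := nonempty_tor_symm (ModuleCat.of R A) (ModuleCat.of R R') (q + 1)
  haveI := htor (q + 1) (by omega)
  have h0 : IsZero (((Tor (ModuleCat.{u} R) (q + 1)).obj (ModuleCat.of R A)).obj
      (ModuleCat.of R R')) := ModuleCat.isZero_of_subsingleton _
  refine IsZero.of_iso (h0.of_iso e.symm) ?_
  exact ((Tor (ModuleCat.{u} R) (q + 1)).mapIso (BmIso R R')).app _ ≪≫
    ((Tor (ModuleCat.{u} R) (q + 1)).obj _).mapIso (BmIso R A)

end Alg

end Groth.Agent.Helper3.TB
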