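import Groth.Agent.Lib.Helper3.TB1

/-!
# The chain-level projection formula `F ⊗_R res X ≅ res (ext F ⊗_A X)` (helper3)
-/

set_option autoImplicit false

open CategoryTheory CategoryTheory.Limits MonoidalCategory
open scoped TensorProduct
open ChangeOfRings

universe u

attribute [local instance] HasDerivedCategory.standard

namespace Groth.Agent.Helper3.TB

variable {R A : Type u} [CommRing R] [CommRing A] (φ : R →+* A)

/-- module-level projection formula map `M ⊗_R res N ⟶ res (ext M ⊗_A N)`, `m ⊗ n ↦ (1 ⊗ m) ⊗ n` -/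
noncomputable def pfM (M : ModuleCat.{u} R) (N : ModuleCat.{u} A) :
    M ⊗ (ModuleCat.restrictScalars.{u} φ).obj N ⟶
      (ModuleCat.restrictScalars.{u} φ).obj ((ModuleCat.extendScalars.{u, u, u} φ).obj M ⊗ N) :=
  ((ModuleCat.extendRestrictScalarsAdj.{u, u, u} φ).unit.app M ▷
      (ModuleCat.restrictScalars.{u} φ).obj N) ≫
    DTen.resTen₀app φ ((ModuleCat.extendScalars.{u, u, u} φ).obj M) N

theorem pfM_tmul (M : ModuleCat.{u} R) (N : ModuleCat.{u} A) (m : M) (n : N) :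
    (pfM φ M N).hom (m ⊗ₜ[R] (show (ModuleCat.restrictScalars.{u} φ).obj N from n)) =
      (show (ModuleCat.restrictScalars.{u} φ).obj
          ((ModuleCat.extendScalars.{u, u, u} φ).obj M ⊗ N) from
        ((((1 : A) ⊗ₜ[R,φ] m : (ModuleCat.extendScalars.{u, u, u} φ).obj M)) ⊗ₜ[A] n :
          ((ModuleCat.extendScalars.{u, u, u} φ).obj M ⊗ N : ModuleCat.{u} A))) := rfl

section Inv

variable (M : ModuleCat.{u} R) (N : ModuleCat.{u} A)

/-- auxiliary: `n ↦ m ⊗ a n` -/
noncomputable def pfI₀ (a : A) (m : M) :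
    N →+ (M ⊗ (ModuleCat.restrictScalars.{u} φ).obj N : ModuleCat.{u} R) where
  toFun n := m ⊗ₜ[R] (show (ModuleCat.restrictScalars.{u} φ).obj N from a • n)
  map_zero' := by
    have h : a • (0 : N) = 0 := smul_zero a
    rw [h]
    exact TensorProduct.tmul_zero _ m
  map_add' n n' := by
    have h : a • (n + n') = a • n + a • n' := smul_add a n n'
    rw [h]
    exact TensorProduct.tmul_add m _ _

/-- auxiliary: `m ↦ (n ↦ m ⊗ a n)` -/
noncomputable def pfI₁ (a : A) :
    M →+ (N →+ (M ⊗ (ModuleCat.restrictScalars.{u} φ).obj N : ModuleCat.{u} R)) where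
  toFun m := pfI₀ φ M N a m
  map_zero' := by
    ext n
    exact TensorProduct.zero_tmul _ _
  map_add' m m' := by
    ext n
    exact TensorProduct.add_tmul m m' _

/-- auxiliary: `a ↦ (m ↦ (n ↦ m ⊗ a n))` -/
noncomputable def pfI₂ :
    ((ModuleCat.restrictScalars.{u} φ).obj (ModuleCat.of A A)) →+
      (M →+ (N →+ (M ⊗ (ModuleCat.restrictScalars.{u} φ).obj N : ModuleCat.{u} R))) where
  toFun a := pfI₁ φ M N a
  map_zero' := by
    ext m n
    change m ⊗ₜ[R] (show (ModuleCat.restrictScalars.{u} φ).obj N from (0 : A) • n) = 0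
    have h : (0 : A) • n = 0 := zero_smul A n
    rw [h]
    exact TensorProduct.tmul_zero _ m
  map_add' := fun (a a' : A) => by
    ext m n
    change m ⊗ₜ[R] (show (ModuleCat.restrictScalars.{u} φ).obj N from (a + a' : A) • n) = _
    have h : (a + a' : A) • n = a • n + a' • n := add_smul a a' n
    rw [h]
    exact TensorProduct.tmul_add m _ _

/-- auxiliary: `(a ⊗ m) ↦ (n ↦ m ⊗ a n)` -/
noncomputable def pfI₃ :
    ((ModuleCat.extendScalars.{u, u, u} φ).obj M) →+
      (N →+ (M ⊗ (ModuleCat.restrictScalars.{u} φ).obj N : ModuleCat.{u} R)) :=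
  TensorProduct.liftAddHom (R := R) (pfI₂ φ M N) (by
    intro r (a : A) m
    ext n
    change m ⊗ₜ[R] (show (ModuleCat.restrictScalars.{u} φ).obj N from (φ r * a : A) • n) =
      (r • m) ⊗ₜ[R] (show (ModuleCat.restrictScalars.{u} φ).obj N from a • n)
    rw [TensorProduct.smul_tmul]
    congr 1
    exact mul_smul (φ r) a n)

theorem pfI₃_tmul (a : A) (m : M) (n : N) :
    pfI₃ φ M N (a ⊗ₜ[R,φ] m) n =
      m ⊗ₜ[R] (show (ModuleCat.restrictScalars.{u} φ).obj N from a • n) := rfl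

/-- the inverse of `pfM` on elements -/
noncomputable def pfInv :
    ((ModuleCat.extendScalars.{u, u, u} φ).obj M ⊗ N : ModuleCat.{u} A) →+
      (M ⊗ (ModuleCat.restrictScalars.{u} φ).obj N : ModuleCat.{u} R) :=
  TensorProduct.liftAddHom (R := A) (pfI₃ φ M N) (by
    intro a z n
    refine TensorProduct.induction_on
      (motive := fun z => pfI₃ φ M N (a • (show (ModuleCat.extendScalars.{u, u, u} φ).obj M from z)) n =
        pfI₃ φ M N z (a • n)) z ?_ ?_ ?_
    · have h : a • (0 : (ModuleCat.extendScalars.{u, u, u} φ).obj M) = 0 := smul_zero a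
      change pfI₃ φ M N (a • (0 : (ModuleCat.extendScalars.{u, u, u} φ).obj M)) n =
        pfI₃ φ M N 0 (a • n)
      rw [h, map_zero]
      rfl
    · intro (a' : A) m
      change pfI₃ φ M N ((a * a') ⊗ₜ[R,φ] m) n = pfI₃ φ M N (a' ⊗ₜ[R,φ] m) (a • n)
      rw [pfI₃_tmul, pfI₃_tmul]
      congr 1
      change (a * a') • n = a' • a • n
      rw [mul_comm, mul_smul]
    · intro (x : (ModuleCat.extendScalars.{u, u, u} φ).obj M)
        (y : (ModuleCat.extendScalars.{u, u, u} φ).obj M) hx hy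
      have h : a • (x + y) = a • x + a • y := smul_add a x y
      change pfI₃ φ M N (a • (x + y)) n = pfI₃ φ M N (x + y) (a • n)
      rw [h, map_add, map_add, AddMonoidHom.add_apply, AddMonoidHom.add_apply]
      exact congrArg₂ (· + ·) hx hy)

theorem pfInv_tmul (a : A) (m : M) (n : N) :
    pfInv φ M N (((a ⊗ₜ[R,φ] m : (ModuleCat.extendScalars.{u, u, u} φ).obj M)) ⊗ₜ[A] n) =
      m ⊗ₜ[R] (show (ModuleCat.restrictScalars.{u} φ).obj N from a • n) := rfl

theorem pfInv_pfM (x : (M ⊗ (ModuleCat.restrictScalars.{u} φ).obj N : ModuleCat.{u} R)) :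
    pfInv φ M N ((pfM φ M N).hom x) = x := by
  refine TensorProduct.induction_on x ?_ ?_ ?_
  · exact (congrArg (pfInv φ M N) (map_zero (pfM φ M N).hom)).trans (map_zero _)
  · intro m n
    refine (pfInv_tmul φ M N 1 m n).trans ?_
    congr 1
    exact one_smul A _
  · intro x y hx hy
    exact (congrArg (pfInv φ M N) (map_add (pfM φ M N).hom x y)).trans
      ((map_add (pfInv φ M N) _ _).trans (congrArg₂ (· + ·) hx hy))

set_option backward.isDefEq.respectTransparency false in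
theorem pfM_pfInv_tmul (z : (ModuleCat.extendScalars.{u, u, u} φ).obj M) (n : N) :
    (pfM φ M N).hom (pfInv φ M N (z ⊗ₜ[A] n)) =
      (z ⊗ₜ[A] n : ((ModuleCat.extendScalars.{u, u, u} φ).obj M ⊗ N : ModuleCat.{u} A)) := by
  refine TensorProduct.induction_on z ?_ ?_ ?_
  · change (pfM φ M N).hom (pfInv φ M N
      ((0 : (ModuleCat.extendScalars.{u, u, u} φ).obj M) ⊗ₜ[A] n)) =
      ((0 : (ModuleCat.extendScalars.{u, u, u} φ).obj M) ⊗ₜ[A] n :
        ((ModuleCat.extendScalars.{u, u, u} φ).obj M ⊗ N : ModuleCat.{u} A))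
    have h0 : ((0 : (ModuleCat.extendScalars.{u, u, u} φ).obj M) ⊗ₜ[A] n :
        ((ModuleCat.extendScalars.{u, u, u} φ).obj M ⊗ N : ModuleCat.{u} A)) = 0 :=
      TensorProduct.zero_tmul _ n
    rw [h0]
    exact (congrArg (pfM φ M N).hom (map_zero (pfInv φ M N))).trans (map_zero _)
  · intro (a : A) m
    change (pfM φ M N).hom (pfInv φ M N
      ((a ⊗ₜ[R,φ] m : (ModuleCat.extendScalars.{u, u, u} φ).obj M) ⊗ₜ[A] n)) =
      ((a ⊗ₜ[R,φ] m : (ModuleCat.extendScalars.{u, u, u} φ).obj M) ⊗ₜ[A] n :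
        ((ModuleCat.extendScalars.{u, u, u} φ).obj M ⊗ N : ModuleCat.{u} A))
    rw [pfInv_tmul, pfM_tmul]
    change ((((1 : A) ⊗ₜ[R,φ] m : (ModuleCat.extendScalars.{u, u, u} φ).obj M)) ⊗ₜ[A] (a • n) :
        ((ModuleCat.extendScalars.{u, u, u} φ).obj M ⊗ N : ModuleCat.{u} A)) =
      ((a ⊗ₜ[R,φ] m : (ModuleCat.extendScalars.{u, u, u} φ).obj M) ⊗ₜ[A] n :
        ((ModuleCat.extendScalars.{u, u, u} φ).obj M ⊗ N : ModuleCat.{u} A))
    have h2 : a • ((1 : A) ⊗ₜ[R,φ] m : (ModuleCat.extendScalars.{u, u, u} φ).obj M) =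
        (a ⊗ₜ[R,φ] m : (ModuleCat.extendScalars.{u, u, u} φ).obj M) :=
      (ModuleCat.ExtendScalars.smul_tmul φ a 1 m).trans (by rw [mul_one])
    exact (TensorProduct.smul_tmul a _ n).symm.trans
      (congrArg (fun z : (ModuleCat.extendScalars.{u, u, u} φ).obj M =>
        (z ⊗ₜ[A] n : ((ModuleCat.extendScalars.{u, u, u} φ).obj M ⊗ N : ModuleCat.{u} A))) h2)
  · intro (x : (ModuleCat.extendScalars.{u, u, u} φ).obj M)
      (x' : (ModuleCat.extendScalars.{u, u, u} φ).obj M) hx hx'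
    change (pfM φ M N).hom (pfInv φ M N ((x + x') ⊗ₜ[A] n)) =
      ((x + x') ⊗ₜ[A] n : ((ModuleCat.extendScalars.{u, u, u} φ).obj M ⊗ N : ModuleCat.{u} A))
    have h1 : ((x + x') ⊗ₜ[A] n : ((ModuleCat.extendScalars.{u, u, u} φ).obj M ⊗ N :
        ModuleCat.{u} A)) = x ⊗ₜ[A] n + x' ⊗ₜ[A] n := TensorProduct.add_tmul x x' n
    rw [h1]
    exact (congrArg (pfM φ M N).hom (map_add (pfInv φ M N) _ _)).trans
      ((map_add (pfM φ M N).hom _ _).trans (congrArg₂ (· + ·) hx hx'))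

theorem pfM_pfInv (y : ((ModuleCat.extendScalars.{u, u, u} φ).obj M ⊗ N : ModuleCat.{u} A)) :
    (pfM φ M N).hom (pfInv φ M N y) = y := by
  refine TensorProduct.induction_on y ?_ ?_ ?_
  · exact (congrArg (pfM φ M N).hom (map_zero (pfInv φ M N))).trans (map_zero _)
  · intro z n
    exact pfM_pfInv_tmul φ M N z n
  · intro y y' hy hy'
    exact (congrArg (pfM φ M N).hom (map_add (pfInv φ M N) y y')).trans
      ((map_add (pfM φ M N).hom _ _).trans (congrArg₂ (· + ·) hy hy'))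

instance isIso_pfM : IsIso (pfM φ M N) := by
  rw [ConcreteCategory.isIso_iff_bijective]
  refine ⟨fun x x' h => ?_, fun y => ⟨pfInv φ M N y, pfM_pfInv φ M N y⟩⟩
  have := congrArg (pfInv φ M N) h
  exact (pfInv_pfM φ M N x).symm.trans (this.trans (pfInv_pfM φ M N x'))

end Inv

section Cx

open Groth.Agent.Helper3.HT

/-- `F ⊗_R res X ⟶ res (ext F ⊗_A X)` -/
noncomputable def γ (F : DRing.Cx R) (X : DRing.Cx A) :
    F ⊗ (DTen.resCx φ).obj X ⟶ (DTen.resCx φ).obj ((DTen.extCx φ).obj F ⊗ X) :=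
  ((DTen.unitCx φ).app F ▷ (DTen.resCx φ).obj X) ≫ DTen.resTenCx φ ((DTen.extCx φ).obj F) X

@[reassoc]
theorem ι_γ (F : DRing.Cx R) (X : DRing.Cx A) (p q n : ℤ) (h : p + q = n) :
    HomologicalComplex.ιTensorObj F ((DTen.resCx φ).obj X) p q n h ≫ (γ φ F X).f n =
      pfM φ (F.X p) (X.X q) ≫ (ModuleCat.restrictScalars.{u} φ).map
        (HomologicalComplex.ιTensorObj ((DTen.extCx φ).obj F) X p q n h) := by
  dsimp only [γ]
  rw [HomologicalComplex.comp_f, ι_whiskerRight_assoc]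
  erw [DTen.ι_resTenCx φ ((DTen.extCx φ).obj F) X p q n h]
  rfl

@[reassoc]
theorem γ_nat {F F' : DRing.Cx R} (f : F ⟶ F') (X : DRing.Cx A) :
    (f ▷ (DTen.resCx φ).obj X) ≫ γ φ F' X =
      γ φ F X ≫ (DTen.resCx φ).map ((DTen.extCx φ).map f ▷ X) := by
  dsimp only [γ]
  have h1 := (DTen.unitCx φ).naturality f
  have h2 := DTen.resTenCx_naturality φ ((DTen.extCx φ).map f) (𝟙 X)
  rw [MonoidalCategory.tensorHom_id, CategoryTheory.Functor.map_id,
    MonoidalCategory.tensorHom_id] at h2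
  rw [Category.assoc, ← h2, ← Category.assoc, ← Category.assoc,
    ← MonoidalCategory.comp_whiskerRight, ← MonoidalCategory.comp_whiskerRight]
  exact congrArg (fun t => (t ▷ (DTen.resCx φ).obj X) ≫ _) h1

set_option backward.isDefEq.respectTransparency false in
theorem isIso_γ_f (F : DRing.Cx R) (X : DRing.Cx A) (n : ℤ) : IsIso ((γ φ F X).f n) := by
  let K := DTen.tenBicx ((DTen.extCx φ).obj F) X
  let B₂ := (TotMap.map₂ (DTen.resM φ) (ComplexShape.up ℤ) (ComplexShape.up ℤ)).obj K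
  let e := TotMap.mapTotalXIso (DTen.resM φ) K (ComplexShape.up ℤ) n
  let ψinv : (B₂.total (ComplexShape.up ℤ)).X n ⟶ (F ⊗ (DTen.resCx φ).obj X).X n :=
    B₂.totalDesc (fun p q h => inv (pfM φ (F.X p) (X.X q)) ≫
      HomologicalComplex.ιTensorObj F ((DTen.resCx φ).obj X) p q n h)
  have hγ : ∀ (p q : ℤ) (h : p + q = n),
      HomologicalComplex.ιTensorObj F ((DTen.resCx φ).obj X) p q n h ≫ (γ φ F X).f n ≫ e.hom =
        pfM φ (F.X p) (X.X q) ≫ B₂.ιTotal (ComplexShape.up ℤ) p q n h := by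
    intro p q h
    have he := TotMap.map_ιTotal_mapTotalXIso_hom (DTen.resM φ) K (ComplexShape.up ℤ) p q n h
    rw [ι_γ_assoc]
    exact congrArg (fun t => pfM φ (F.X p) (X.X q) ≫ t) he
  have hd : ∀ (p q : ℤ) (h : p + q = n), B₂.ιTotal (ComplexShape.up ℤ) p q n h ≫ ψinv =
      inv (pfM φ (F.X p) (X.X q)) ≫
        HomologicalComplex.ιTensorObj F ((DTen.resCx φ).obj X) p q n h := fun p q h =>
    HomologicalComplex₂.ι_totalDesc _ _ _ _ _
  have h1 : ((γ φ F X).f n ≫ e.hom) ≫ ψinv = 𝟙 _ := by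
    apply HomologicalComplex.mapBifunctor.hom_ext
    intro p q h
    refine (Category.assoc _ _ _).symm.trans ?_
    refine (congrArg (fun t => t ≫ ψinv) (hγ p q h)).trans ?_
    refine (Category.assoc _ _ _).trans ?_
    refine (congrArg (fun t => pfM φ (F.X p) (X.X q) ≫ t) (hd p q h)).trans ?_
    refine (IsIso.hom_inv_id_assoc _ _).trans ?_
    exact (Category.comp_id _).symm
  have h2 : ψinv ≫ ((γ φ F X).f n ≫ e.hom) = 𝟙 _ := by
    apply HomologicalComplex₂.total.hom_ext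
    intro p q h
    refine (Category.assoc _ _ _).symm.trans ?_
    refine (congrArg (fun t => t ≫ ((γ φ F X).f n ≫ e.hom)) (hd p q h)).trans ?_
    refine (Category.assoc _ _ _).trans ?_
    refine (congrArg (fun t => inv (pfM φ (F.X p) (X.X q)) ≫ t) (hγ p q h)).trans ?_
    refine (IsIso.inv_hom_id_assoc _ _).trans ?_
    exact (Category.comp_id _).symm
  haveI : IsIso ((γ φ F X).f n ≫ e.hom) := ⟨ψinv, h1, h2⟩
  exact IsIso.of_isIso_comp_right ((γ φ F X).f n) e.hom

instance isIso_γ (F : DRing.Cx R) (X : DRing.Cx A) : IsIso (γ φ F X) := by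
  haveI : ∀ n, IsIso ((γ φ F X).f n) := isIso_γ_f φ F X
  exact HomologicalComplex.Hom.isIso_of_components _

end Cx

end Groth.Agent.Helper3.TB
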