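import Groth.Agent.Lib.Helper3.TB2
import Groth.Agent.Lib.Helper11.KPF2

/-!
# Tor independence: derived base change of a restricted K-projective complex (helper3)
-/

set_option autoImplicit false

open CategoryTheory CategoryTheory.Limits MonoidalCategory

universe u

attribute [local instance] HasDerivedCategory.standard

namespace Groth.Agent.Helper3.TB

open Groth.Agent.Helper11.LDer Groth.Agent.Helper3.BC Groth.Agent.Helper3.KF Groth.Agent.Helper3.DT

variable {R A R' : Type u} [CommRing R] [CommRing A] [CommRing R'] (φ : R →+* A) (ρ : R →+* R')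

/-- the chosen projective resolution of `R'` over `R`, as a cochain complex -/
noncomputable def FB : DRing.Cx R := (projectiveResolution (Bm ρ)).cochainComplex

/-- the augmentation `FB ⟶ R'[0]` -/
noncomputable def fB : FB ρ ⟶ SB ρ := (projectiveResolution (Bm ρ)).π'

instance : QuasiIso (fB ρ) := (inferInstance : QuasiIso (projectiveResolution (Bm ρ)).π')

instance : (FB ρ).IsKProjective :=
  (inferInstance : (projectiveResolution (Bm ρ)).cochainComplex.IsKProjective)

/-- the tor independence hypothesis, in the form used below -/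
def TorInd : Prop := QuasiIso ((DTen.extCx φ).map (fB ρ))

variable {φ ρ}

/-- `FB ⊗_R res X ⟶ R'[0] ⊗_R res X` is a quasi-isomorphism for `X` K-projective over `A` -/
theorem quasiIso_fB_whiskerRight_res (hT : TorInd φ ρ) (X : DRing.Cx A) [X.IsKProjective] :
    QuasiIso (fB ρ ▷ (DTen.resCx φ).obj X) := by
  haveI : QuasiIso ((DTen.extCx φ).map (fB ρ)) := hT
  haveI := quasiIso_whiskerRight_of_isKProjective X ((DTen.extCx φ).map (fB ρ))
  haveI : QuasiIso ((DTen.resCx φ).map ((DTen.extCx φ).map (fB ρ) ▷ X)) :=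
    (HomologicalComplex.quasiIso_map_iff_of_preservesHomology _
      (ModuleCat.restrictScalars.{u} φ)).mpr inferInstance
  have h := γ_nat φ (fB ρ) X
  have h2 : fB ρ ▷ (DTen.resCx φ).obj X =
      (γ φ (FB ρ) X ≫ (DTen.resCx φ).map ((DTen.extCx φ).map (fB ρ) ▷ X)) ≫ inv (γ φ (SB ρ) X) := by
    rw [← h, Category.assoc, IsIso.hom_inv_id, Category.comp_id]
  rw [h2]
  infer_instance

/-- `R'[0] ⊗_R -` preserves a K-projective resolution of `res X` -/
theorem quasiIso_SB_whiskerLeft (hT : TorInd φ ρ) (X : DRing.Cx A) [X.IsKProjective]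
    {Y : DRing.Cx R} [Y.IsKProjective] (q : Y ⟶ (DTen.resCx φ).obj X) [QuasiIso q] :
    QuasiIso (SB ρ ◁ q) := by
  haveI := quasiIso_fB_whiskerRight_res hT X
  haveI := quasiIso_whiskerRight_of_isKProjective Y (fB ρ)
  haveI := quasiIso_whiskerLeft_of_isKProjective (FB ρ) q
  have h : (fB ρ ▷ Y) ≫ (SB ρ ◁ q) = (FB ρ ◁ q) ≫ (fB ρ ▷ (DTen.resCx φ).obj X) :=
    (MonoidalCategory.whisker_exchange (fB ρ) q).symm
  haveI : QuasiIso ((fB ρ ▷ Y) ≫ (SB ρ ◁ q)) := by
    rw [h]
    infer_instance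
  exact quasiIso_of_comp_left (fB ρ ▷ Y) (SB ρ ◁ q)

/-- extension of scalars along `ρ` preserves a K-projective resolution of `res X` -/
theorem quasiIso_ext_of_torInd (hT : TorInd φ ρ) (X : DRing.Cx A) [X.IsKProjective]
    {Y : DRing.Cx R} [Y.IsKProjective] (q : Y ⟶ (DTen.resCx φ).obj X) [QuasiIso q] :
    QuasiIso ((DTen.extCx ρ).map q) := by
  apply quasiIso_of_resCx ρ
  haveI := quasiIso_SB_whiskerLeft hT X q
  have h := tX_nat ρ q
  have h2 : (DTen.resCx ρ).map ((DTen.extCx ρ).map q) =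
      (tX ρ Y ≫ (SB ρ ◁ q)) ≫ inv (tX ρ ((DTen.resCx φ).obj X)) := by
    rw [h, Category.assoc, IsIso.hom_inv_id, Category.comp_id]
  rw [h2]
  infer_instance

/-- derived base change along `ρ` of `res X` is computed termwise -/
theorem isIso_baseCmp_res [DTen.HasLBase ρ] (hT : TorInd φ ρ) (X : DRing.Cx A)
    [X.IsKProjective] : IsIso ((DTen.baseCmp ρ).app ((DTen.resCx φ).obj X)) := by
  obtain ⟨Y, q, hY, _, _, hq⟩ :=
    Groth.Agent.Helper11.KPF.exists_kprojective_kflat_resolution ((DTen.resCx φ).obj X)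
  haveI := hY
  haveI := hq
  haveI : IsIso ((DTen.baseCmp ρ).app Y) := isIso_baseCmp ρ Y
  haveI : IsIso (DerivedCategory.Q.map q) :=
    (DerivedCategory.isIso_Q_map_iff_quasiIso (φ := q)).mpr hq
  haveI : IsIso (DerivedCategory.Q.map ((DTen.extCx ρ).map q)) :=
    (DerivedCategory.isIso_Q_map_iff_quasiIso (φ := (DTen.extCx ρ).map q)).mpr
      (quasiIso_ext_of_torInd hT X q)
  have hnat := (DTen.baseCmp ρ).naturality q
  dsimp only [Functor.comp_map] at hnat
  have h2 : (DTen.baseCmp ρ).app ((DTen.resCx φ).obj X) =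
      inv ((DTen.LBase ρ).map (DerivedCategory.Q.map q)) ≫ (DTen.baseCmp ρ).app Y ≫
        DerivedCategory.Q.map ((DTen.extCx ρ).map q) := by
    rw [← hnat, IsIso.inv_hom_id_assoc]
  rw [h2]
  infer_instance

end Groth.Agent.Helper3.TB
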