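import Groth.Agent.Lib.Helper3.TB3
import Groth.Prelude.Def_TrivBC

/-!
# Mates of a commutation isomorphism, and the comparison map `TrivBC.cmp` (helper3)
-/

set_option autoImplicit false

open CategoryTheory CategoryTheory.Limits MonoidalCategory

universe u

attribute [local instance] HasDerivedCategory.standard

namespace Groth.Agent.Helper3.TB

namespace Mate

universe v₁ v₂ v₃ v₄ u₁ u₂ u₃ u₄

variable {𝒜 : Type u₁} {ℛ : Type u₂} {ℛ' : Type u₃} {𝒜' : Type u₄} [Category.{v₁} 𝒜]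
  [Category.{v₂} ℛ] [Category.{v₃} ℛ'] [Category.{v₄} 𝒜']
  {Rφ : 𝒜 ⥤ ℛ} {Rρ : ℛ' ⥤ ℛ} {Rα : 𝒜' ⥤ 𝒜} {Rφ' : 𝒜' ⥤ ℛ'} (c : Rα ⋙ Rφ ≅ Rφ' ⋙ Rρ)
  {Lρ Lρ₂ : ℛ ⥤ ℛ'} {Lα Lα₂ : 𝒜 ⥤ 𝒜'} (adjρ : Lρ ⊣ Rρ) (adjα : Lα ⊣ Rα)
  (adjρ₂ : Lρ₂ ⊣ Rρ) (adjα₂ : Lα₂ ⊣ Rα)

/-- the mate of `c` with respect to the two adjunctions -/
def mate (K : 𝒜) : Lρ.obj (Rφ.obj K) ⟶ Rφ'.obj (Lα.obj K) :=
  (adjρ.homEquiv _ _).symm (Rφ.map (adjα.unit.app K) ≫ c.hom.app (Lα.obj K))

theorem unit_mate (K : 𝒜) :
    adjρ.unit.app (Rφ.obj K) ≫ Rρ.map (mate c adjρ adjα K) =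
      Rφ.map (adjα.unit.app K) ≫ c.hom.app (Lα.obj K) := by
  have h := (adjρ.homEquiv _ _).apply_symm_apply
    (Rφ.map (adjα.unit.app K) ≫ c.hom.app (Lα.obj K))
  rw [Adjunction.homEquiv_unit] at h
  exact h

omit c in
theorem adj_ext {X : ℛ} {Y : ℛ'} {f g : Lρ.obj X ⟶ Y}
    (h : adjρ.unit.app X ≫ Rρ.map f = adjρ.unit.app X ≫ Rρ.map g) : f = g := by
  apply (adjρ.homEquiv _ _).injective
  rw [Adjunction.homEquiv_unit, Adjunction.homEquiv_unit]
  exact h

theorem mate_nat {K K' : 𝒜} (k : K ⟶ K') :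
    Lρ.map (Rφ.map k) ≫ mate c adjρ adjα K' = mate c adjρ adjα K ≫ Rφ'.map (Lα.map k) := by
  apply adj_ext adjρ
  rw [Functor.map_comp, Functor.map_comp, ← Category.assoc, ← Category.assoc, unit_mate]
  have h1 := adjρ.unit.naturality (Rφ.map k)
  dsimp only [Functor.id_obj, Functor.id_map, Functor.comp_obj, Functor.comp_map] at h1
  rw [← h1, Category.assoc, unit_mate]
  have h2 := c.hom.naturality (Lα.map k)
  dsimp only [Functor.comp_obj, Functor.comp_map] at h2
  rw [Category.assoc, ← h2, ← Category.assoc, ← Category.assoc, ← Functor.map_comp,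
    ← Functor.map_comp]
  have h3 := adjα.unit.naturality k
  dsimp only [Functor.id_obj, Functor.id_map, Functor.comp_obj, Functor.comp_map] at h3
  rw [h3]

theorem mate_change (K : 𝒜) :
    mate c adjρ₂ adjα₂ K = (adjρ₂.leftAdjointUniq adjρ).hom.app _ ≫ mate c adjρ adjα K ≫
      Rφ'.map ((adjα.leftAdjointUniq adjα₂).hom.app K) := by
  apply adj_ext adjρ₂
  rw [unit_mate, Functor.map_comp, Functor.map_comp, ← Category.assoc, ← Category.assoc,
    Adjunction.unit_leftAdjointUniq_hom_app, unit_mate]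
  have h2 := c.hom.naturality ((adjα.leftAdjointUniq adjα₂).hom.app K)
  dsimp only [Functor.comp_obj, Functor.comp_map] at h2
  rw [Category.assoc, ← h2, ← Category.assoc, ← Functor.map_comp,
    Adjunction.unit_leftAdjointUniq_hom_app]

theorem isIso_mate_of_isIso_mate (K : 𝒜) [IsIso (mate c adjρ adjα K)] :
    IsIso (mate c adjρ₂ adjα₂ K) := by
  rw [mate_change c adjρ adjα adjρ₂ adjα₂ K]
  infer_instance

theorem isIso_mate_of_iso {K K' : 𝒜} (e : K ≅ K') [IsIso (mate c adjρ adjα K)] :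
    IsIso (mate c adjρ adjα K') := by
  have h := mate_nat c adjρ adjα e.hom
  have h2 : mate c adjρ adjα K' = inv (Lρ.map (Rφ.map e.hom)) ≫ mate c adjρ adjα K ≫
      Rφ'.map (Lα.map e.hom) := by
    rw [← h, IsIso.inv_hom_id_assoc]
  rw [h2]
  infer_instance

end Mate

section Square

variable {R A R' A' : Type u} [CommRing R] [CommRing A] [CommRing R'] [CommRing A']
  {φ : R →+* A} {ρ : R →+* R'} {α : A →+* A'} {φ' : R' →+* A'} (h : α.comp φ = φ'.comp ρ)

/-- the termwise identification `res_φ res_α Y' ≅ res_ρ res_φ' Y'` -/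
noncomputable def cCx (Y' : DRing.Cx A') :
    (DTen.resCx φ).obj ((DTen.resCx α).obj Y') ⟶ (DTen.resCx ρ).obj ((DTen.resCx φ').obj Y') :=
  (NatTrans.mapHomologicalComplex (TrivBC.resCommMod h).hom (ComplexShape.up ℤ)).app Y'

theorem cCx_f (Y' : DRing.Cx A') (i : ℤ) :
    (cCx h Y').f i = (TrivBC.resCommMod h).hom.app (Y'.X i) := rfl

theorem resCommCx_hom_app (Y' : DRing.Cx A') :
    (TrivBC.resCommCx h).hom.app Y' = DerivedCategory.Q.map (cCx h Y') := by
  dsimp [TrivBC.resCommCx]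
  simp only [Category.id_comp, Category.comp_id]
  congr 1

theorem liftingRes₂_iso_hom_app {B C E : Type u} [CommRing B] [CommRing C] [CommRing E]
    (g : C →+* E) (f : B →+* C) (Y : DRing.Cx E) :
    (@Localization.Lifting.iso _ _ _ _ _ _ DerivedCategory.Q
      (HomologicalComplex.quasiIso (ModuleCat.{u} E) (ComplexShape.up ℤ))
      ((ModuleCat.restrictScalars.{u} g).mapHomologicalComplex (ComplexShape.up ℤ) ⋙
        (ModuleCat.restrictScalars.{u} f).mapHomologicalComplex (ComplexShape.up ℤ) ⋙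
          DerivedCategory.Q)
      (DRing.restrictD g ⋙ DRing.restrictD f) (TrivBC.liftingRes₂ g f)).hom.app Y =
      (DRing.restrictD f).map ((DTen.resFactors g).hom.app Y) ≫
        (DTen.resFactors f).hom.app ((DTen.resCx g).obj Y) := by
  unfold TrivBC.liftingRes₂
  dsimp
  simp only [Category.id_comp, Category.comp_id]

theorem liftingRes₂_iso_inv_app {B C E : Type u} [CommRing B] [CommRing C] [CommRing E]
    (g : C →+* E) (f : B →+* C) (Y : DRing.Cx E) :
    (@Localization.Lifting.iso _ _ _ _ _ _ DerivedCategory.Q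
      (HomologicalComplex.quasiIso (ModuleCat.{u} E) (ComplexShape.up ℤ))
      ((ModuleCat.restrictScalars.{u} g).mapHomologicalComplex (ComplexShape.up ℤ) ⋙
        (ModuleCat.restrictScalars.{u} f).mapHomologicalComplex (ComplexShape.up ℤ) ⋙
          DerivedCategory.Q)
      (DRing.restrictD g ⋙ DRing.restrictD f) (TrivBC.liftingRes₂ g f)).inv.app Y =
      (DTen.resFactors f).inv.app ((DTen.resCx g).obj Y) ≫
        (DRing.restrictD f).map ((DTen.resFactors g).inv.app Y) := by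
  unfold TrivBC.liftingRes₂
  dsimp
  simp only [Category.id_comp, Category.comp_id]

theorem resComm_hom_app_Q (Y' : DRing.Cx A') :
    (TrivBC.resComm h).hom.app (DerivedCategory.Q.obj Y') =
      (DRing.restrictD φ).map ((DTen.resFactors α).hom.app Y') ≫
        (DTen.resFactors φ).hom.app ((DTen.resCx α).obj Y') ≫
        DerivedCategory.Q.map (cCx h Y') ≫
        (DTen.resFactors ρ).inv.app ((DTen.resCx φ').obj Y') ≫
        (DRing.restrictD ρ).map ((DTen.resFactors φ').inv.app Y') := by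
  letI := TrivBC.liftingRes₂ α φ
  letI := TrivBC.liftingRes₂ φ' ρ
  have h1 := Localization.liftNatTrans_app DerivedCategory.Q
    (HomologicalComplex.quasiIso (ModuleCat.{u} A') (ComplexShape.up ℤ))
    ((ModuleCat.restrictScalars.{u} α).mapHomologicalComplex (ComplexShape.up ℤ) ⋙
      (ModuleCat.restrictScalars.{u} φ).mapHomologicalComplex (ComplexShape.up ℤ) ⋙
        DerivedCategory.Q)
    ((ModuleCat.restrictScalars.{u} φ').mapHomologicalComplex (ComplexShape.up ℤ) ⋙
      (ModuleCat.restrictScalars.{u} ρ).mapHomologicalComplex (ComplexShape.up ℤ) ⋙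
        DerivedCategory.Q)
    (DRing.restrictD α ⋙ DRing.restrictD φ) (DRing.restrictD φ' ⋙ DRing.restrictD ρ)
    (TrivBC.resCommCx h).hom Y'
  refine h1.trans ?_
  rw [resCommCx_hom_app]
  erw [liftingRes₂_iso_hom_app α φ Y', liftingRes₂_iso_inv_app φ' ρ Y']
  simp only [Category.assoc]

variable (φ ρ φ' α)

/-- the adjunct identity characterising `sqτ₀` -/
theorem unit_sqτ₀ (M : ModuleCat.{u} A) :
    (ModuleCat.extendRestrictScalarsAdj.{u, u, u} ρ).unit.app
        ((ModuleCat.restrictScalars.{u} φ).obj M) ≫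
      (ModuleCat.restrictScalars.{u} ρ).map ((DTen.sqτ₀ φ ρ φ' α h).app M) =
    (ModuleCat.restrictScalars.{u} φ).map
        ((ModuleCat.extendRestrictScalarsAdj.{u, u, u} α).unit.app M) ≫
      (TrivBC.resCommMod h).hom.app ((ModuleCat.extendScalars.{u, u, u} α).obj M) := by
  have h1 := (((ModuleCat.extendRestrictScalarsAdj.{u, u, u} ρ).whiskerRight
      (ModuleCat.{u} A)).homEquiv (ModuleCat.restrictScalars.{u} φ)
      (ModuleCat.extendScalars.{u, u, u} α ⋙ ModuleCat.restrictScalars.{u} φ')).apply_symm_apply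
    ((ModuleCat.restrictScalars.{u} φ).leftUnitor.inv ≫
      Functor.whiskerRight (ModuleCat.extendRestrictScalarsAdj.{u, u, u} α).unit
        (ModuleCat.restrictScalars.{u} φ) ≫
      (Functor.associator _ _ _).hom ≫
      Functor.whiskerLeft (ModuleCat.extendScalars.{u, u, u} α)
        ((ModuleCat.restrictScalarsComp' φ α (α.comp φ) rfl).inv ≫
          (ModuleCat.restrictScalarsComp' ρ φ' (α.comp φ) h).hom) ≫
      (Functor.associator _ _ _).inv)
  rw [Adjunction.homEquiv_unit] at h1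
  have h2 := NatTrans.congr_app h1 M
  dsimp [Adjunction.whiskerRight, DTen.sqτ₀, TrivBC.resCommMod] at h2 ⊢
  simpa using h2

/-- the adjunct identity characterising `sqτ`, on complexes -/
theorem unitCx_sqτ (X : DRing.Cx A) :
    (DTen.unitCx ρ).app ((DTen.resCx φ).obj X) ≫
      (DTen.resCx ρ).map ((DTen.sqτ φ ρ φ' α h).app X) =
    (DTen.resCx φ).map ((DTen.unitCx α).app X) ≫ cCx h ((DTen.extCx α).obj X) := by
  refine HomologicalComplex.hom_ext _ _ (fun i => ?_)
  exact unit_sqτ₀ φ ρ α φ' h (X.X i)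

open Groth.Agent.Helper3.BC

omit [CommRing A'] in
@[reassoc]
theorem resFactors_inv_nat' {X Y : DRing.Cx A} (f : X ⟶ Y) :
    (DTen.resFactors φ).inv.app X ≫ (DRing.restrictD φ).map (DerivedCategory.Q.map f) =
      DerivedCategory.Q.map ((DTen.resCx φ).map f) ≫ (DTen.resFactors φ).inv.app Y :=
  ((DTen.resFactors φ).inv.naturality f).symm

variable [DTen.HasLBase ρ] [DTen.HasLBase α]

/-- the mate of `resComm` for the chosen base change adjunctions -/
noncomputable def cmpB (K : Dual.D A) :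
    (DTen.LBase ρ).obj ((DRing.restrictD φ).obj K) ⟶
      (DRing.restrictD φ').obj ((DTen.LBase α).obj K) :=
  Mate.mate (TrivBC.resComm h) (DTen.baseAdj ρ) (DTen.baseAdj α) K

theorem uB_cmpB (K : Dual.D A) :
    uB ρ ((DRing.restrictD φ).obj K) ≫ (DRing.restrictD ρ).map (cmpB φ ρ α φ' h K) =
      (DRing.restrictD φ).map (uB α K) ≫ (TrivBC.resComm h).hom.app ((DTen.LBase α).obj K) :=
  Mate.unit_mate (TrivBC.resComm h) (DTen.baseAdj ρ) (DTen.baseAdj α) K

/-- the comparison map on the image of a complex, in terms of the chain-level comparison -/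
theorem cmpB_sqβ (X : DRing.Cx A) :
    cmpB φ ρ α φ' h (DerivedCategory.Q.obj X) ≫ (DTen.sqβ₂ φ' α).app X =
      (DTen.sqβ₁ φ ρ φ' α h).app X := by
  apply baseAdj_ext ρ
  dsimp only [DTen.sqβ₁, DTen.sqβ₂]
  rw [Functor.map_comp, Functor.map_comp, Functor.map_comp, Functor.map_comp]
  -- left hand side
  rw [← Category.assoc, uB_cmpB, Category.assoc]
  have hn := (TrivBC.resComm h).hom.naturality ((DTen.baseCmp α).app X)
  dsimp only [Functor.comp_obj, Functor.comp_map] at hn
  rw [← Category.assoc ((TrivBC.resComm h).hom.app _), ← hn, Category.assoc,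
    ← Category.assoc ((DRing.restrictD φ).map _), ← Functor.map_comp, uB_baseCmp,
    Functor.map_comp, resComm_hom_app_Q]
  simp only [Category.assoc]
  have e1 : (DRing.restrictD φ).map ((DTen.resFactors α).inv.app ((DTen.extCx α).obj X)) ≫
      (DRing.restrictD φ).map ((DTen.resFactors α).hom.app ((DTen.extCx α).obj X)) = 𝟙 _ := by
    rw [← Functor.map_comp, Iso.inv_hom_id_app, CategoryTheory.Functor.map_id]
  have e2 : (DRing.restrictD ρ).map ((DTen.resFactors φ').inv.app ((DTen.extCx α).obj X)) ≫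
      (DRing.restrictD ρ).map ((DTen.resFactors φ').hom.app ((DTen.extCx α).obj X)) = 𝟙 _ := by
    rw [← Functor.map_comp, Iso.inv_hom_id_app, CategoryTheory.Functor.map_id]
  have e3 := (DTen.resFactors φ).hom.naturality ((DTen.unitCx α).app X)
  dsimp only [Functor.comp_obj, Functor.comp_map, Functor.id_obj] at e3
  rw [reassoc_of% e1, e2]
  erw [Category.comp_id]
  rw [reassoc_of% e3]
  -- right hand side
  rw [uB_nat_assoc]
  dsimp only [Functor.comp_obj]
  rw [uB_baseCmp_assoc, resFactors_inv_nat', ← Functor.map_comp_assoc,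
    ← Functor.map_comp_assoc, unitCx_sqτ]

end Square

end Groth.Agent.Helper3.TB
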