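import Groth.Agent.Lib.Helper3.TB4
import Mathlib.RingTheory.IsTensorProduct

/-!
# The module-level comparison `M|_R ⊗_R R' ⟶ (M ⊗_A A')|_{R'}` for a cocartesian square (helper3)
-/

set_option autoImplicit false

open CategoryTheory CategoryTheory.Limits MonoidalCategory
open scoped TensorProduct
open ChangeOfRings

universe u

namespace Groth.Agent.Helper3.TB

section

variable {R A R' A' : Type u} [CommRing R] [CommRing A] [CommRing R'] [CommRing A']
  (φ : R →+* A) (ρ : R →+* R') (α : A →+* A') (φ' : R' →+* A') (h : α.comp φ = φ'.comp ρ)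

/-- `sqτ₀` on unit tensors -/
theorem sqτ₀_one_tmul (M : ModuleCat.{u} A) (m : M) :
    ((DTen.sqτ₀ φ ρ φ' α h).app M).hom
      ((1 : R') ⊗ₜ[R,ρ] (show (ModuleCat.restrictScalars.{u} φ).obj M from m)) =
    (show (ModuleCat.restrictScalars.{u} φ').obj ((ModuleCat.extendScalars.{u, u, u} α).obj M) from
      ((1 : A') ⊗ₜ[A,α] m : (ModuleCat.extendScalars.{u, u, u} α).obj M)) := by
  have h1 := unit_sqτ₀ φ ρ α φ' h M
  have h2 := congrArg (fun f => f.hom (show (ModuleCat.restrictScalars.{u} φ).obj M from m)) h1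
  exact h2

set_option backward.isDefEq.respectTransparency false in
/-- `sqτ₀` on pure tensors: `r' ⊗ m ↦ φ'(r') ⊗ m` -/
theorem sqτ₀_tmul (M : ModuleCat.{u} A) (r' : R') (m : M) :
    ((DTen.sqτ₀ φ ρ φ' α h).app M).hom
      (r' ⊗ₜ[R,ρ] (show (ModuleCat.restrictScalars.{u} φ).obj M from m)) =
    (show (ModuleCat.restrictScalars.{u} φ').obj ((ModuleCat.extendScalars.{u, u, u} α).obj M) from
      ((φ' r') ⊗ₜ[A,α] m : (ModuleCat.extendScalars.{u, u, u} α).obj M)) := by
  have h0 : (r' ⊗ₜ[R,ρ] (show (ModuleCat.restrictScalars.{u} φ).obj M from m) :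
      (ModuleCat.extendScalars.{u, u, u} ρ).obj ((ModuleCat.restrictScalars.{u} φ).obj M)) =
      r' • ((1 : R') ⊗ₜ[R,ρ] (show (ModuleCat.restrictScalars.{u} φ).obj M from m) :
        (ModuleCat.extendScalars.{u, u, u} ρ).obj ((ModuleCat.restrictScalars.{u} φ).obj M)) := by
    rw [ModuleCat.ExtendScalars.smul_tmul, mul_one]
  rw [h0, map_smul, sqτ₀_one_tmul]
  change (φ' r') • ((1 : A') ⊗ₜ[A,α] m : (ModuleCat.extendScalars.{u, u, u} α).obj M) = _
  rw [ModuleCat.ExtendScalars.smul_tmul, mul_one]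

end

section Pushout

variable (R A R' A' : Type u) [CommRing R] [CommRing A] [CommRing R'] [CommRing A']
  [Algebra R A] [Algebra R R'] [Algebra A A'] [Algebra R' A'] [Algebra R A']
  [IsScalarTower R A A'] [IsScalarTower R R' A'] [Algebra.IsPushout R A R' A']
  (M : ModuleCat.{u} A)

/-- the source `M|_R ⊗_R R'` of `sqτ₀` -/
noncomputable abbrev Tsrc : ModuleCat.{u} R' :=
  (ModuleCat.extendScalars.{u, u, u} (algebraMap R R')).obj
    ((ModuleCat.restrictScalars.{u} (algebraMap R A)).obj M)

/-- `R'` as an `R`-module through restriction of scalars -/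
noncomputable abbrev Rc : ModuleCat.{u} R :=
  (ModuleCat.restrictScalars.{u} (algebraMap R R')).obj (ModuleCat.of R' R')

/-- `M` as an `R`-module through restriction of scalars -/
noncomputable abbrev Mc : ModuleCat.{u} R :=
  (ModuleCat.restrictScalars.{u} (algebraMap R A)).obj M

/-- pure tensors in `Tsrc` -/
noncomputable def tm (r' : Rc R R') (m : Mc R A M) : Tsrc R A R' M :=
  @TensorProduct.tmul R _ (Rc R R') (Mc R A M) _ _ _ _ r' m

theorem tm_zero (r' : Rc R R') : tm R A R' M r' 0 = 0 := TensorProduct.tmul_zero _ r'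

theorem zero_tm (m : Mc R A M) : tm R A R' M 0 m = 0 := TensorProduct.zero_tmul _ m

theorem tm_add (r' : Rc R R') (m m' : Mc R A M) :
    tm R A R' M r' (m + m') = tm R A R' M r' m + tm R A R' M r' m' :=
  TensorProduct.tmul_add r' m m'

theorem add_tm (r₁ r₂ : Rc R R') (m : Mc R A M) :
    tm R A R' M (r₁ + r₂) m = tm R A R' M r₁ m + tm R A R' M r₂ m :=
  TensorProduct.add_tmul r₁ r₂ m

theorem smul_tm (r : R) (r' : Rc R R') (m : Mc R A M) :
    tm R A R' M (r • r') m = tm R A R' M r' (r • m) :=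
  TensorProduct.smul_tmul r r' m

/-- auxiliary: `m ↦ r' ⊗ a m` -/
noncomputable def sqI₀ (a : A) (r' : R') : M →+ Tsrc R A R' M where
  toFun m := tm R A R' M r' (a • m)
  map_zero' := by
    have h : a • (0 : M) = 0 := smul_zero a
    rw [h]
    exact tm_zero R A R' M r'
  map_add' m m' := by
    have h : a • (m + m') = a • m + a • m' := smul_add a m m'
    rw [h]
    exact tm_add R A R' M r' _ _

/-- auxiliary -/
noncomputable def sqI₁ (a : A) : R' →+ (M →+ Tsrc R A R' M) where
  toFun r' := sqI₀ R A R' M a r'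
  map_zero' := by
    ext m
    exact zero_tm R A R' M _
  map_add' r₁ r₂ := by
    ext m
    exact add_tm R A R' M r₁ r₂ _

/-- auxiliary -/
noncomputable def sqI₂ : A →+ (R' →+ (M →+ Tsrc R A R' M)) where
  toFun a := sqI₁ R A R' M a
  map_zero' := by
    ext r' m
    change tm R A R' M r' ((0 : A) • m) = 0
    have h : (0 : A) • m = 0 := zero_smul A m
    rw [h]
    exact tm_zero R A R' M r'
  map_add' a a' := by
    ext r' m
    change tm R A R' M r' ((a + a') • m) = _
    have h : (a + a') • m = a • m + a' • m := add_smul a a' m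
    rw [h]
    exact tm_add R A R' M r' _ _

/-- auxiliary: `(a ⊗ r') ↦ (m ↦ r' ⊗ a m)` -/
noncomputable def sqΨ : (A ⊗[R] R') →+ (M →+ Tsrc R A R' M) :=
  TensorProduct.liftAddHom (R := R) (sqI₂ R A R' M) (by
    intro r a r'
    ext m
    change tm R A R' M r' ((r • a) • m) = tm R A R' M (r • r') (a • m)
    have h1 : (r • a) • m = (algebraMap R A r) • (a • m) := by
      rw [Algebra.smul_def, mul_smul]
    have h2 : r • r' = algebraMap R R' r * r' := Algebra.smul_def r r'
    rw [h1, h2]
    exact (smul_tm R A R' M r r' (a • m)).symm)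

theorem sqΨ_tmul (a : A) (r' : R') (m : M) :
    sqΨ R A R' M (a ⊗ₜ[R] r') m = tm R A R' M r' (a • m) := rfl

theorem sqΨ_smul (a : A) (t : A ⊗[R] R') (m : M) :
    sqΨ R A R' M (a • t) m = sqΨ R A R' M t (a • m) := by
  induction t using TensorProduct.induction_on with
  | zero =>
    rw [smul_zero, map_zero]
    rfl
  | tmul a₀ r' =>
    rw [TensorProduct.smul_tmul', sqΨ_tmul, sqΨ_tmul, smul_eq_mul, mul_comm, mul_smul]
  | add x y hx hy =>
    rw [smul_add, map_add, map_add, AddMonoidHom.add_apply, AddMonoidHom.add_apply, hx, hy]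

/-- the inverse of `sqτ₀` on elements -/
noncomputable def sqInv :
    ((ModuleCat.extendScalars.{u, u, u} (algebraMap A A')).obj M) →+ Tsrc R A R' M :=
  TensorProduct.liftAddHom (R := A)
    ((sqΨ R A R' M).comp ((Algebra.IsPushout.equiv R A R' A').symm : A' →+ A ⊗[R] R')) (by
    intro a (a' : A') m
    change sqΨ R A R' M ((Algebra.IsPushout.equiv R A R' A').symm (algebraMap A A' a * a')) m =
      sqΨ R A R' M ((Algebra.IsPushout.equiv R A R' A').symm a') (a • m)
    rw [← Algebra.smul_def, map_smul, sqΨ_smul])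

theorem sqInv_tmul (a' : A') (m : M) :
    sqInv R A R' A' M (a' ⊗ₜ[A,algebraMap A A'] m) =
      sqΨ R A R' M ((Algebra.IsPushout.equiv R A R' A').symm a') m := rfl

variable (h : (algebraMap A A').comp (algebraMap R A) = (algebraMap R' A').comp (algebraMap R R'))

/-- `sqτ₀` for the square of algebra maps -/
noncomputable abbrev sqσ : Tsrc R A R' M ⟶
    (ModuleCat.restrictScalars.{u} (algebraMap R' A')).obj
      ((ModuleCat.extendScalars.{u, u, u} (algebraMap A A')).obj M) :=
  (DTen.sqτ₀ (algebraMap R A) (algebraMap R R') (algebraMap R' A') (algebraMap A A') h).app M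

theorem sqσ_tm (r' : R') (m : M) :
    (sqσ R A R' A' M h).hom (tm R A R' M r' m) =
      ((algebraMap R' A' r') ⊗ₜ[A,algebraMap A A'] m :
        (ModuleCat.extendScalars.{u, u, u} (algebraMap A A')).obj M) :=
  sqτ₀_tmul (algebraMap R A) (algebraMap R R') (algebraMap A A') (algebraMap R' A') h M r' m

theorem sqInv_sqσ (x : Tsrc R A R' M) :
    sqInv R A R' A' M ((sqσ R A R' A' M h).hom x) = x := by
  refine TensorProduct.induction_on x ?_ ?_ ?_
  · exact (congrArg (sqInv R A R' A' M) (map_zero (sqσ R A R' A' M h).hom)).trans (map_zero _)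
  · intro (r' : R') (m : M)
    change sqInv R A R' A' M ((sqσ R A R' A' M h).hom (tm R A R' M r' m)) = tm R A R' M r' m
    rw [sqσ_tm, sqInv_tmul, Algebra.IsPushout.equiv_symm_algebraMap_right, sqΨ_tmul, one_smul]
  · intro x y hx hy
    exact (congrArg (sqInv R A R' A' M) (map_add (sqσ R A R' A' M h).hom x y)).trans
      ((map_add (sqInv R A R' A' M) _ _).trans (congrArg₂ (· + ·) hx hy))

set_option backward.isDefEq.respectTransparency false in
theorem sqσ_sqΨ (t : A ⊗[R] R') (m : M) :
    (sqσ R A R' A' M h).hom (sqΨ R A R' M t m) =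
      (((Algebra.IsPushout.equiv R A R' A') t) ⊗ₜ[A,algebraMap A A'] m :
        (ModuleCat.extendScalars.{u, u, u} (algebraMap A A')).obj M) := by
  induction t using TensorProduct.induction_on with
  | zero =>
    rw [map_zero, map_zero]
    exact ((map_zero (sqσ R A R' A' M h).hom).trans (TensorProduct.zero_tmul _ m).symm)
  | tmul a r' =>
    rw [sqΨ_tmul, sqσ_tm, Algebra.IsPushout.equiv_tmul]
    have h2 : ((algebraMap A A' a * algebraMap R' A' r') ⊗ₜ[A,algebraMap A A'] m :
        (ModuleCat.extendScalars.{u, u, u} (algebraMap A A')).obj M) =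
        a • ((algebraMap R' A' r') ⊗ₜ[A,algebraMap A A'] m :
          (ModuleCat.extendScalars.{u, u, u} (algebraMap A A')).obj M) := rfl
    rw [h2]
    exact (TensorProduct.tmul_smul a _ m)
  | add x y hx hy =>
    rw [map_add, map_add, AddMonoidHom.add_apply]
    exact ((map_add (sqσ R A R' A' M h).hom _ _).trans
      ((congrArg₂ (· + ·) hx hy).trans (TensorProduct.add_tmul _ _ m).symm))

theorem sqσ_sqInv (y : (ModuleCat.extendScalars.{u, u, u} (algebraMap A A')).obj M) :
    (sqσ R A R' A' M h).hom (sqInv R A R' A' M y) = y := by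
  refine TensorProduct.induction_on y ?_ ?_ ?_
  · exact (congrArg (sqσ R A R' A' M h).hom (map_zero (sqInv R A R' A' M))).trans (map_zero _)
  · intro (a' : A') (m : M)
    change (sqσ R A R' A' M h).hom (sqInv R A R' A' M (a' ⊗ₜ[A,algebraMap A A'] m)) =
      (a' ⊗ₜ[A,algebraMap A A'] m : (ModuleCat.extendScalars.{u, u, u} (algebraMap A A')).obj M)
    rw [sqInv_tmul, sqσ_sqΨ, AlgEquiv.apply_symm_apply]
  · intro y y' hy hy'
    exact (congrArg (sqσ R A R' A' M h).hom (map_add (sqInv R A R' A' M) y y')).trans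
      ((map_add (sqσ R A R' A' M h).hom _ _).trans (congrArg₂ (· + ·) hy hy'))

/-- for a cocartesian square, `sqτ₀` is an isomorphism -/
theorem isIso_sqτ₀ : IsIso ((DTen.sqτ₀ (algebraMap R A) (algebraMap R R') (algebraMap R' A')
    (algebraMap A A') h).app M) := by
  rw [ConcreteCategory.isIso_iff_bijective]
  refine ⟨fun x x' hx => ?_, fun y => ⟨sqInv R A R' A' M y, sqσ_sqInv R A R' A' M h y⟩⟩
  have := congrArg (sqInv R A R' A' M) hx
  exact (sqInv_sqσ R A R' A' M h x).symm.trans (this.trans (sqInv_sqσ R A R' A' M h x'))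

end Pushout

end Groth.Agent.Helper3.TB
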