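import Groth.Agent.Lib.Helper3.TB5

/-!
# The comparison map `TrivBC.cmp` is an isomorphism under tor independence (helper3)
-/

set_option autoImplicit false

open CategoryTheory CategoryTheory.Limits MonoidalCategory

universe u

attribute [local instance] HasDerivedCategory.standard

namespace Groth.Agent.Helper3.TB

open Groth.Agent.Helper3.BC Groth.Agent.Helper3.DT

section

variable {R A R' A' : Type u} [CommRing R] [CommRing A] [CommRing R'] [CommRing A']
  (φ : R →+* A) (ρ : R →+* R') (α : A →+* A') (φ' : R' →+* A') (h : α.comp φ = φ'.comp ρ)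

/-- the pushout hypothesis, in the form used here -/
def SqIso : Prop := ∀ M : ModuleCat.{u} A, IsIso ((DTen.sqτ₀ φ ρ φ' α h).app M)

variable {φ ρ α φ' h}

theorem isIso_sqτ (hτ : SqIso φ ρ α φ' h) (X : DRing.Cx A) :
    IsIso ((DTen.sqτ φ ρ φ' α h).app X) := by
  haveI : ∀ n, IsIso (((DTen.sqτ φ ρ φ' α h).app X).f n) := fun n => hτ (X.X n)
  exact HomologicalComplex.Hom.isIso_of_components _

variable [DTen.HasLBase ρ] [DTen.HasLBase α]

theorem isIso_cmpB_Q (hτ : SqIso φ ρ α φ' h) (hT : TorInd φ ρ) (X : DRing.Cx A)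
    [X.IsKProjective] : IsIso (cmpB φ ρ α φ' h (DerivedCategory.Q.obj X)) := by
  have key := cmpB_sqβ φ ρ α φ' h X
  haveI := isIso_baseCmp α X
  haveI := isIso_baseCmp_res hT X
  haveI := isIso_sqτ hτ X
  haveI : IsIso ((DTen.sqβ₂ φ' α).app X) := by
    dsimp only [DTen.sqβ₂]
    infer_instance
  haveI : IsIso ((DTen.sqβ₁ φ ρ φ' α h).app X) := by
    dsimp only [DTen.sqβ₁]
    infer_instance
  have h2 : cmpB φ ρ α φ' h (DerivedCategory.Q.obj X) =
      (DTen.sqβ₁ φ ρ φ' α h).app X ≫ inv ((DTen.sqβ₂ φ' α).app X) := by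
    rw [← key, Category.assoc, IsIso.hom_inv_id, Category.comp_id]
  rw [h2]
  infer_instance

theorem isIso_cmpB (hτ : SqIso φ ρ α φ' h) (hT : TorInd φ ρ) (K : Dual.D A) :
    IsIso (cmpB φ ρ α φ' h K) := by
  obtain ⟨X, q, hX, _, _, hq⟩ := Groth.Agent.Helper11.KPF.exists_kprojective_kflat_resolution
    (DerivedCategory.Q.objPreimage K)
  haveI := hX
  haveI : IsIso (DerivedCategory.Q.map q) :=
    (DerivedCategory.isIso_Q_map_iff_quasiIso (φ := q)).mpr hq
  let e : DerivedCategory.Q.obj X ≅ K :=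
    asIso (DerivedCategory.Q.map q) ≪≫ DerivedCategory.Q.objObjPreimageIso K
  haveI : IsIso (Mate.mate (TrivBC.resComm h) (DTen.baseAdj ρ) (DTen.baseAdj α)
      (DerivedCategory.Q.obj X)) := isIso_cmpB_Q hτ hT X
  exact Mate.isIso_mate_of_iso (TrivBC.resComm h) (DTen.baseAdj ρ) (DTen.baseAdj α) e

end

/-- the comparison map is an isomorphism for a tor independent cocartesian square, for any
adjunction data -/
theorem isIso_cmp {R A R' A' : Type u} [CommRing R] [CommRing A] [CommRing R'] [CommRing A']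
    {φ : R →+* A} {ρ : R →+* R'} {α : A →+* A'} {φ' : R' →+* A'} {h : α.comp φ = φ'.comp ρ}
    (hτ : SqIso φ ρ α φ' h) (hT : TorInd φ ρ)
    [DRing.HasLBaseChange ρ] [DRing.HasLBaseChange α]
    (adjρ : DRing.LBaseChange ρ ⊣ DRing.restrictD ρ)
    (adjα : DRing.LBaseChange α ⊣ DRing.restrictD α) (K : Dual.D A) :
    IsIso (TrivBC.cmp adjρ adjα h K) := by
  haveI : DTen.HasLBase ρ := ⟨adjρ.isRightAdjoint⟩
  haveI : DTen.HasLBase α := ⟨adjα.isRightAdjoint⟩
  haveI : IsIso (Mate.mate (TrivBC.resComm h) (DTen.baseAdj ρ) (DTen.baseAdj α) K) :=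
    isIso_cmpB hτ hT K
  exact Mate.isIso_mate_of_isIso_mate (TrivBC.resComm h) (DTen.baseAdj ρ) (DTen.baseAdj α)
    adjρ adjα K

end Groth.Agent.Helper3.TB
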