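import Groth.Agent.Lib.Helper3.TB6

/-!
# The base change map of trivial duality: abstract reductions (helper3)

In a commutative square of "restriction" functors with left adjoints `Lρ`, `Lα` and right
adjoints `Hφ`, `Hφ'`, the base change map `Lα Hφ K ⟶ Hφ' Lρ K` is an isomorphism if and only if a
certain family of maps of hom sets in the base category is bijective.
-/

set_option autoImplicit false

open CategoryTheory CategoryTheory.Limits

namespace Groth.Agent.Helper3.TC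

open Groth.Agent.Helper3.TB

universe v₁ v₂ v₃ v₄ u₁ u₂ u₃ u₄

variable {𝒜 : Type u₁} {ℛ : Type u₂} {ℛ' : Type u₃} {𝒜' : Type u₄} [Category.{v₁} 𝒜]
  [Category.{v₂} ℛ] [Category.{v₃} ℛ'] [Category.{v₄} 𝒜']
  {Uφ : 𝒜 ⥤ ℛ} {Uρ : ℛ' ⥤ ℛ} {Uα : 𝒜' ⥤ 𝒜} {Uφ' : 𝒜' ⥤ ℛ'} (c : Uα ⋙ Uφ ≅ Uφ' ⋙ Uρ)
  {Lρ Lρ₂ : ℛ ⥤ ℛ'} {Lα Lα₂ : 𝒜 ⥤ 𝒜'} (adjρ : Lρ ⊣ Uρ) (adjα : Lα ⊣ Uα)
  (adjρ₂ : Lρ₂ ⊣ Uρ) (adjα₂ : Lα₂ ⊣ Uα)
  {Hφ : ℛ ⥤ 𝒜} (adj : Uφ ⊣ Hφ) {Hφ' : ℛ' ⥤ 𝒜'} (adj' : Uφ' ⊣ Hφ')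
  {Lφ : ℛ ⥤ 𝒜} (adjφ : Lφ ⊣ Uφ)

/-- the abstract base change map of trivial duality -/
noncomputable def bc (K : ℛ) (hc : IsIso (Mate.mate c adjρ adjα (Hφ.obj K))) :
    Lα.obj (Hφ.obj K) ⟶ Hφ'.obj (Lρ.obj K) :=
  haveI := hc
  adj'.homEquiv _ _ (inv (Mate.mate c adjρ adjα (Hφ.obj K)) ≫ Lρ.map (adj.counit.app K))

/-- the map `Uφ Uα Lα G ⟶ Uρ Lρ K` attached to `ε : Uφ G ⟶ K` -/
noncomputable def xi (G : 𝒜) {K : ℛ} (ε : Uφ.obj G ⟶ K)
    (hG : IsIso (Mate.mate c adjρ adjα G)) :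
    Uφ.obj (Uα.obj (Lα.obj G)) ⟶ Uρ.obj (Lρ.obj K) :=
  haveI := hG
  c.hom.app (Lα.obj G) ≫ Uρ.map (inv (Mate.mate c adjρ adjα G) ≫ Lρ.map ε)

/-- the map of hom sets whose bijectivity is equivalent to `bc` being an isomorphism -/
noncomputable def Phi (G : 𝒜) {K : ℛ} (ε : Uφ.obj G ⟶ K)
    (hG : IsIso (Mate.mate c adjρ adjα G)) (M : ℛ) (w : M ⟶ Uφ.obj (Uα.obj (Lα.obj G))) :
    Uφ.obj (Lφ.obj M) ⟶ Uρ.obj (Lρ.obj K) :=
  Uφ.map ((adjφ.homEquiv _ _).symm w) ≫ xi c adjρ adjα G ε hG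

/-- the map of hom sets expressing the universal property of `Hφ K` -/
noncomputable def Psi (G : 𝒜) {K : ℛ} (ε : Uφ.obj G ⟶ K) (M : ℛ) (v : M ⟶ Uφ.obj G) :
    Uφ.obj (Lφ.obj M) ⟶ K :=
  Uφ.map ((adjφ.homEquiv _ _).symm v) ≫ ε

omit [Category.{v₃} ℛ'] [Category.{v₄} 𝒜'] in
theorem bijective_Psi (K M : ℛ) :
    Function.Bijective (Psi adjφ (Hφ.obj K) (K := K) (adj.counit.app K) M) := by
  have h : Psi adjφ (Hφ.obj K) (K := K) (adj.counit.app K) M =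
      (fun x => (adj.homEquiv _ _).symm x) ∘ (fun v => (adjφ.homEquiv _ _).symm v) := by
    funext v
    exact (adj.homEquiv_counit _ _ _).symm
  rw [h]
  exact (Equiv.bijective _).comp (Equiv.bijective _)

omit [Category.{v₃} ℛ'] [Category.{v₄} 𝒜'] in
theorem Psi_transport {G G' : 𝒜} (g : G' ⟶ G) {K : ℛ} (ε : Uφ.obj G ⟶ K) (M : ℛ)
    (v : M ⟶ Uφ.obj G') :
    Psi adjφ G' (Uφ.map g ≫ ε) M v = Psi adjφ G ε M (v ≫ Uφ.map g) := by
  dsimp only [Psi]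
  rw [Adjunction.homEquiv_naturality_right_symm, Functor.map_comp, Category.assoc]

omit [Category.{v₃} ℛ'] [Category.{v₄} 𝒜'] in
theorem Psi_nat (G : 𝒜) {K : ℛ} (ε : Uφ.obj G ⟶ K) {M M' : ℛ} (u : M' ⟶ M)
    (v : M ⟶ Uφ.obj G) :
    Psi adjφ G ε M' (u ≫ v) = Uφ.map (Lφ.map u) ≫ Psi adjφ G ε M v := by
  dsimp only [Psi]
  rw [Adjunction.homEquiv_naturality_left_symm, Functor.map_comp, Category.assoc]

/-- the mate followed by the image of an adjunct -/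
theorem mate_comp_map (M : 𝒜) (T : 𝒜') (u : M ⟶ Uα.obj T) :
    Mate.mate c adjρ adjα M ≫ Uφ'.map ((adjα.homEquiv _ _).symm u) =
      (adjρ.homEquiv _ _).symm (Uφ.map u ≫ c.hom.app T) := by
  apply (adjρ.homEquiv _ _).injective
  rw [Equiv.apply_symm_apply, Adjunction.homEquiv_unit, Functor.map_comp, ← Category.assoc,
    Mate.unit_mate, Category.assoc]
  have h2 := c.hom.naturality ((adjα.homEquiv _ _).symm u)
  dsimp only [Functor.comp_obj, Functor.comp_map] at h2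
  rw [← h2, ← Category.assoc, ← Functor.map_comp]
  have h3 : adjα.unit.app M ≫ Uα.map ((adjα.homEquiv _ _).symm u) = u :=
    (adjα.homEquiv_unit _ _ _).symm.trans (Equiv.apply_symm_apply _ _)
  rw [h3]

theorem xi_transport {G G' : 𝒜} (g : G' ⟶ G) {K : ℛ} (ε : Uφ.obj G ⟶ K)
    (hG : IsIso (Mate.mate c adjρ adjα G)) (hG' : IsIso (Mate.mate c adjρ adjα G')) :
    xi c adjρ adjα G' (Uφ.map g ≫ ε) hG' =
      Uφ.map (Uα.map (Lα.map g)) ≫ xi c adjρ adjα G ε hG := by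
  haveI := hG
  haveI := hG'
  dsimp only [xi]
  have h1 := c.hom.naturality (Lα.map g)
  dsimp only [Functor.comp_obj, Functor.comp_map] at h1
  rw [← Category.assoc, h1, Category.assoc, ← Functor.map_comp]
  congr 2
  have h2 := Mate.mate_nat c adjρ adjα g
  rw [Functor.map_comp, ← Category.assoc, ← Category.assoc]
  congr 1
  rw [IsIso.inv_comp_eq, ← Category.assoc, IsIso.eq_comp_inv]
  exact h2

theorem xi_comp (G : 𝒜) {K K' : ℛ} (ε : Uφ.obj G ⟶ K) (k : K ⟶ K')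
    (hG : IsIso (Mate.mate c adjρ adjα G)) :
    xi c adjρ adjα G (ε ≫ k) hG = xi c adjρ adjα G ε hG ≫ Uρ.map (Lρ.map k) := by
  simp only [xi, Functor.map_comp, Category.assoc]

theorem Phi_transport {G G' : 𝒜} (g : G' ⟶ G) {K : ℛ} (ε : Uφ.obj G ⟶ K)
    (hG : IsIso (Mate.mate c adjρ adjα G)) (hG' : IsIso (Mate.mate c adjρ adjα G')) (M : ℛ)
    (w : M ⟶ Uφ.obj (Uα.obj (Lα.obj G'))) :
    Phi c adjρ adjα adjφ G' (Uφ.map g ≫ ε) hG' M w =
      Phi c adjρ adjα adjφ G ε hG M (w ≫ Uφ.map (Uα.map (Lα.map g))) := by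
  dsimp only [Phi]
  rw [xi_transport c adjρ adjα g ε hG hG', Adjunction.homEquiv_naturality_right_symm,
    Functor.map_comp, Category.assoc]

theorem Phi_comp (G : 𝒜) {K K' : ℛ} (ε : Uφ.obj G ⟶ K) (k : K ⟶ K')
    (hG : IsIso (Mate.mate c adjρ adjα G)) (M : ℛ) (w : M ⟶ Uφ.obj (Uα.obj (Lα.obj G))) :
    Phi c adjρ adjα adjφ G (ε ≫ k) hG M w =
      Phi c adjρ adjα adjφ G ε hG M w ≫ Uρ.map (Lρ.map k) := by
  dsimp only [Phi]
  rw [xi_comp, Category.assoc]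

theorem Phi_nat (G : 𝒜) {K : ℛ} (ε : Uφ.obj G ⟶ K)
    (hG : IsIso (Mate.mate c adjρ adjα G)) {M M' : ℛ} (u : M' ⟶ M)
    (w : M ⟶ Uφ.obj (Uα.obj (Lα.obj G))) :
    Phi c adjρ adjα adjφ G ε hG M' (u ≫ w) =
      Uφ.map (Lφ.map u) ≫ Phi c adjρ adjα adjφ G ε hG M w := by
  dsimp only [Phi]
  rw [Adjunction.homEquiv_naturality_left_symm, Functor.map_comp, Category.assoc]

/-- the key identity: the base change map after the chain of adjunction bijections -/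
theorem homEquiv_bc (K : ℛ) (hc : IsIso (Mate.mate c adjρ adjα (Hφ.obj K))) (M : 𝒜)
    (u : M ⟶ Uα.obj (Lα.obj (Hφ.obj K))) :
    adjρ.homEquiv _ _ (Mate.mate c adjρ adjα M ≫ (adj'.homEquiv _ _).symm
      ((adjα.homEquiv _ _).symm (u ≫ Uα.map (bc c adjρ adjα adj adj' K hc)))) =
      Uφ.map u ≫ xi c adjρ adjα (Hφ.obj K) (K := K) (adj.counit.app K) hc := by
  haveI := hc
  rw [Adjunction.homEquiv_naturality_right_symm, Adjunction.homEquiv_naturality_left_symm]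
  have h1 : (adj'.homEquiv _ _).symm (bc c adjρ adjα adj adj' K hc) =
      inv (Mate.mate c adjρ adjα (Hφ.obj K)) ≫ Lρ.map (adj.counit.app K) := by
    dsimp only [bc]
    rw [Equiv.symm_apply_apply]
  rw [h1, ← Category.assoc, mate_comp_map, ← Adjunction.homEquiv_naturality_right_symm,
    Equiv.apply_symm_apply, Category.assoc]
  rfl

omit [Category.{v₃} ℛ'] [Category.{v₄} 𝒜'] in
theorem bijective_comp_equiv {α β γ : Type*} (f : α → β) (e : β → γ) (he : Function.Bijective e) :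
    Function.Bijective (e ∘ f) ↔ Function.Bijective f :=
  Function.Bijective.of_comp_iff' he f

/-- the abstract criterion: `bc` is an isomorphism iff `Phi` is bijective on all hom sets -/
theorem isIso_bc_iff [Uα.ReflectsIsomorphisms] [Uφ.ReflectsIsomorphisms]
    (hm : ∀ M, IsIso (Mate.mate c adjρ adjα M)) (K : ℛ) :
    IsIso (bc c adjρ adjα adj adj' K (hm _)) ↔
      ∀ M : ℛ, Function.Bijective
        (Phi c adjρ adjα adjφ (Hφ.obj K) (K := K) (adj.counit.app K) (hm _) M) := by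
  -- notation
  obtain ⟨ξ, hξ⟩ : ∃ ξ, ξ = xi c adjρ adjα (Hφ.obj K) (K := K) (adj.counit.app K) (hm _) := ⟨_, rfl⟩
  obtain ⟨b, hb⟩ : ∃ b, b = bc c adjρ adjα adj adj' K (hm _) := ⟨_, rfl⟩
  obtain ⟨ξs, hξs⟩ : ∃ ξs, ξs = adj.homEquiv _ _ ξ := ⟨_, rfl⟩
  rw [← hb]
  -- step 1, 2
  have s1 : IsIso b ↔ IsIso (Uα.map b) :=
    ⟨fun _ => inferInstance, fun _ => isIso_of_reflects_iso b Uα⟩
  have s2 := isIso_iff_yoneda_map_bijective (Uα.map b)
  -- step 3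
  have s3 : ∀ M : 𝒜, Function.Bijective
      (fun u : M ⟶ Uα.obj (Lα.obj (Hφ.obj K)) => u ≫ Uα.map b) ↔
      Function.Bijective (fun u : M ⟶ Uα.obj (Lα.obj (Hφ.obj K)) => u ≫ ξs) := by
    intro M
    haveI := hm M
    have hE : Function.Bijective
        (fun t : M ⟶ Uα.obj (Hφ'.obj (Lρ.obj K)) => adj.homEquiv _ _ (adjρ.homEquiv _ _
          (Mate.mate c adjρ adjα M ≫ (adj'.homEquiv _ _).symm ((adjα.homEquiv _ _).symm t)))) := by
      have h1 : Function.Bijective (fun x : Uφ'.obj (Lα.obj M) ⟶ Lρ.obj K =>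
          Mate.mate c adjρ adjα M ≫ x) :=
        ⟨fun x y h => (cancel_epi _).mp h, fun y => ⟨inv (Mate.mate c adjρ adjα M) ≫ y, by
          dsimp only
          rw [IsIso.hom_inv_id_assoc]⟩⟩
      exact (Equiv.bijective (adj.homEquiv _ _)).comp ((Equiv.bijective (adjρ.homEquiv _ _)).comp
        (h1.comp ((Equiv.bijective (adj'.homEquiv _ _).symm).comp
          (Equiv.bijective (adjα.homEquiv _ _).symm))))
    rw [← bijective_comp_equiv _ _ hE]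
    have h2 : ((fun t : M ⟶ Uα.obj (Hφ'.obj (Lρ.obj K)) => adj.homEquiv _ _ (adjρ.homEquiv _ _
          (Mate.mate c adjρ adjα M ≫ (adj'.homEquiv _ _).symm
            ((adjα.homEquiv _ _).symm t)))) ∘
        fun u : M ⟶ Uα.obj (Lα.obj (Hφ.obj K)) => u ≫ Uα.map b) =
        fun u : M ⟶ Uα.obj (Lα.obj (Hφ.obj K)) => u ≫ ξs := by
      funext u
      dsimp only [Function.comp]
      rw [hb, homEquiv_bc, ← hξ, hξs, Adjunction.homEquiv_naturality_left]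
    rw [h2]
  -- step 4
  have s4 := isIso_iff_yoneda_map_bijective ξs
  have s5 : IsIso ξs ↔ IsIso (Uφ.map ξs) :=
    ⟨fun _ => inferInstance, fun _ => isIso_of_reflects_iso ξs Uφ⟩
  have s6 := isIso_iff_yoneda_map_bijective (Uφ.map ξs)
  -- step 5
  have s7 : ∀ M : ℛ, Function.Bijective
      (fun w : M ⟶ Uφ.obj (Uα.obj (Lα.obj (Hφ.obj K))) => w ≫ Uφ.map ξs) ↔
      Function.Bijective
        (Phi c adjρ adjα adjφ (Hφ.obj K) (K := K) (adj.counit.app K) (hm _) M) := by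
    intro M
    have hE : Function.Bijective (fun t : M ⟶ Uφ.obj (Hφ.obj (Uρ.obj (Lρ.obj K))) =>
        (adj.homEquiv _ _).symm ((adjφ.homEquiv _ _).symm t)) :=
      (Equiv.bijective (adj.homEquiv _ _).symm).comp (Equiv.bijective (adjφ.homEquiv _ _).symm)
    rw [← bijective_comp_equiv _ _ hE]
    have h2 : ((fun t : M ⟶ Uφ.obj (Hφ.obj (Uρ.obj (Lρ.obj K))) =>
        (adj.homEquiv _ _).symm ((adjφ.homEquiv _ _).symm t)) ∘
        fun w : M ⟶ Uφ.obj (Uα.obj (Lα.obj (Hφ.obj K))) => w ≫ Uφ.map ξs) =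
        Phi c adjρ adjα adjφ (Hφ.obj K) (K := K) (adj.counit.app K) (hm _) M := by
      funext w
      dsimp only [Function.comp, Phi]
      rw [Adjunction.homEquiv_naturality_right_symm, Adjunction.homEquiv_naturality_left_symm,
        hξs, Equiv.symm_apply_apply, hξ]
    rw [h2]
  rw [s1, s2]
  constructor
  · intro h M
    rw [← s7 M]
    exact s6.mp (s5.mp (s4.mpr (fun M' => (s3 M').mp (h M')))) M
  · intro h M
    rw [s3 M]
    exact s4.mp (s5.mpr (s6.mpr (fun M' => (s7 M').mpr (h M')))) M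

/-- `bc` for two choices of the left adjoints -/
theorem bc_change (K : ℛ) (hc : IsIso (Mate.mate c adjρ adjα (Hφ.obj K)))
    (hc₂ : IsIso (Mate.mate c adjρ₂ adjα₂ (Hφ.obj K))) :
    bc c adjρ₂ adjα₂ adj adj' K hc₂ =
      (adjα.leftAdjointUniq adjα₂).inv.app (Hφ.obj K) ≫ bc c adjρ adjα adj adj' K hc ≫
        Hφ'.map ((adjρ₂.leftAdjointUniq adjρ).inv.app K) := by
  haveI := hc
  haveI := hc₂
  apply (adj'.homEquiv _ _).symm.injective
  rw [Adjunction.homEquiv_naturality_left_symm, Adjunction.homEquiv_naturality_right_symm]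
  dsimp only [bc]
  rw [Equiv.symm_apply_apply, Equiv.symm_apply_apply, IsIso.inv_comp_eq,
    Mate.mate_change c adjρ adjα adjρ₂ adjα₂ (Hφ.obj K)]
  simp only [Category.assoc]
  rw [← Functor.map_comp_assoc, Iso.hom_inv_id_app, CategoryTheory.Functor.map_id,
    Category.id_comp, IsIso.hom_inv_id_assoc]
  have h1 := (adjρ₂.leftAdjointUniq adjρ).inv.naturality (adj.counit.app K)
  dsimp only [Functor.comp_obj, Functor.id_obj] at h1
  rw [h1, Iso.hom_inv_id_app_assoc]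

theorem isIso_bc_change (K : ℛ) (hc : IsIso (Mate.mate c adjρ adjα (Hφ.obj K)))
    (hc₂ : IsIso (Mate.mate c adjρ₂ adjα₂ (Hφ.obj K))) :
    IsIso (bc c adjρ₂ adjα₂ adj adj' K hc₂) ↔ IsIso (bc c adjρ adjα adj adj' K hc) := by
  rw [bc_change c adjρ adjα adjρ₂ adjα₂ adj adj' K hc hc₂]
  constructor
  · intro h
    have h2 : bc c adjρ adjα adj adj' K hc =
        (adjα.leftAdjointUniq adjα₂).hom.app (Hφ.obj K) ≫
          ((adjα.leftAdjointUniq adjα₂).inv.app (Hφ.obj K) ≫ bc c adjρ adjα adj adj' K hc ≫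
            Hφ'.map ((adjρ₂.leftAdjointUniq adjρ).inv.app K)) ≫
          Hφ'.map ((adjρ₂.leftAdjointUniq adjρ).hom.app K) := by
      simp only [Category.assoc, Iso.hom_inv_id_app_assoc, ← Functor.map_comp,
        Iso.inv_hom_id_app, CategoryTheory.Functor.map_id, Category.comp_id]
    rw [h2]
    infer_instance
  · intro h
    infer_instance

end Groth.Agent.Helper3.TC
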