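import Groth.Agent.Lib.Helper3.TC9

/-!
# The base change map of trivial duality and the evaluation map `evalTen` (helper3)
-/

set_option autoImplicit false

open CategoryTheory CategoryTheory.Limits MonoidalCategory

universe u

attribute [local instance] HasDerivedCategory.standard

namespace Groth.Agent.Helper3.TC

open Groth.Agent.Helper11.LDer Groth.Agent.Helper11.DC Groth.Agent.Helper11.Tel
  Groth.Agent.Helper11.Dev
open Groth.Agent.Helper3.HT Groth.Agent.Helper3.DT Groth.Agent.Helper3.RH Groth.Agent.Helper3.TH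
open Groth.Agent.Helper3.BC Groth.Agent.Helper3.TB Groth.Agent.Helper3.KP
open Groth.Agent.Helper3.KF Groth.Agent.Helper3.DS

section EvalTen

variable {A : Type u} [CommRing A]
variable [DTen.HasLTen A] [DTen.HasLTen₃ A] [DTen.IsSymMonoidal A] [DTen.HasRHom A]

/-- `evalTen` on images of K-projective complexes is the image of the chain-level row, up to
isomorphisms -/
theorem evalTen_eq_row (K P W R' : DRing.Cx A) [K.IsKProjective] [P.IsKProjective]
    [W.IsKProjective] [R'.IsKProjective] (s : R' ⟶ DRing.homCx P W) [QuasiIso s] :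
    ∃ (a : (DTen.LTen₂ A).obj (DerivedCategory.Q.obj K,
          (DTen.RHomR A (DerivedCategory.Q.obj P)).obj (DerivedCategory.Q.obj W)) ⟶
          DerivedCategory.Q.obj (K ⊗ R'))
      (b : DerivedCategory.Q.obj (DRing.homCx P (K ⊗ W)) ⟶
        (DTen.RHomR A (DerivedCategory.Q.obj P)).obj
          ((DTen.LTen₂ A).obj (DerivedCategory.Q.obj K, DerivedCategory.Q.obj W))),
      IsIso a ∧ IsIso b ∧
      DTen.evalTen (DerivedCategory.Q.obj K) (DerivedCategory.Q.obj W)
        (DerivedCategory.Q.obj P) = a ≫ DerivedCategory.Q.map (row K P W s) ≫ b := by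
  haveI := isIso_ε K W
  haveI := isIso_ε K R'
  haveI : IsIso (DerivedCategory.Q.map s) := (DerivedCategory.isIso_Q_map_iff_quasiIso (φ := s)).mpr
    inferInstance
  haveI : IsIso (rhoHom P W) := (inferInstance : IsIso (rho P W).hom)
  haveI : IsIso (rhoInv P (K ⊗ W)) := (inferInstance : IsIso (rho P (K ⊗ W)).inv)
  obtain ⟨ρ', hρ'iso, hρ⟩ : ∃ ρ' : (DTen.RHomR A (DerivedCategory.Q.obj P)).obj
      (DerivedCategory.Q.obj W) ⟶ DerivedCategory.Q.obj R', IsIso ρ' ∧
      rhoHom P W = ρ' ≫ DerivedCategory.Q.map s :=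
    ⟨rhoHom P W ≫ inv (DerivedCategory.Q.map s), inferInstance, by
      rw [Category.assoc, IsIso.inv_hom_id, Category.comp_id]⟩
  haveI := isIso_tL (DerivedCategory.Q.obj K) ρ'
  obtain ⟨εi, hεi, hεiso⟩ : ∃ εi : DerivedCategory.Q.obj (K ⊗ W) ⟶
      (DTen.LTen₂ A).obj (DerivedCategory.Q.obj K, DerivedCategory.Q.obj W),
      εi ≫ (DTen.ε A).app (K, W) = 𝟙 _ ∧ IsIso εi :=
    ⟨inv ((DTen.ε A).app (K, W)), IsIso.inv_hom_id _, inferInstance⟩
  have key : DTen.evalTen (DerivedCategory.Q.obj K) (DerivedCategory.Q.obj W)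
      (DerivedCategory.Q.obj P) = tL(DerivedCategory.Q.obj K, ρ') ≫ (DTen.ε A).app (K, R') ≫
    DerivedCategory.Q.map ((K ◁ s) ≫ θ K P W) ≫ rhoInv P (K ⊗ W) ≫
    (DTen.RHomR A (DerivedCategory.Q.obj P)).map εi := by
    apply adj_ext
    rw [DTen.evalTen_fac, ← cancel_mono ((DTen.ε A).app (K, W))]
    -- left side
    have hev : DTen.ev (DerivedCategory.Q.obj P) (DerivedCategory.Q.obj W) =
        tR(ρ', DerivedCategory.Q.obj P) ≫ (DTen.ε A).app (R', P) ≫
          DerivedCategory.Q.map ((s ▷ P) ≫ evH P W) := by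
      rw [← rhoHom_spec, hρ, tR_comp, Category.assoc, evD, ε_nat_left_assoc, ← Functor.map_comp]
    have hL : DTen.evalTenAux (DerivedCategory.Q.obj K) (DerivedCategory.Q.obj W)
        (DerivedCategory.Q.obj P) ≫ (DTen.ε A).app (K, W) =
        tR(tL(DerivedCategory.Q.obj K, ρ'), DerivedCategory.Q.obj P) ≫
          tR((DTen.ε A).app (K, R'), DerivedCategory.Q.obj P) ≫ (DTen.ε A).app (K ⊗ R', P) ≫
          DerivedCategory.Q.map ((α_ K R' P).hom ≫ K ◁ ((s ▷ P) ≫ evH P W)) := by
      rw [DTen.evalTenAux, hev, tL_comp, tL_comp, Category.assoc, Category.assoc, Category.assoc,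
        ε_nat_right, ← associator_nat_mid_assoc]
      erw [associator_ε_assoc]
      rw [Functor.map_comp]
    rw [hL]
    rw [tR_comp, tR_comp, tR_comp, tR_comp]
    simp only [Category.assoc]
    have hchain : ((K ◁ s) ≫ θ K P W) ▷ P ≫ evH P (K ⊗ W) =
        (α_ K R' P).hom ≫ K ◁ ((s ▷ P) ≫ evH P W) := by
      rw [← uncH_eq, uncH_comp_left, uncH_θ, ← Category.assoc,
        MonoidalCategory.associator_naturality_middle, Category.assoc,
        ← MonoidalCategory.whiskerLeft_comp]
    rw [tR_map_ev_assoc, rhoInv_spec_assoc, hεi, Category.comp_id, evD, ε_nat_left_assoc,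
      ← Functor.map_comp, hchain]
    rfl
  refine ⟨tL(DerivedCategory.Q.obj K, ρ') ≫ (DTen.ε A).app (K, R'),
    rhoInv P (K ⊗ W) ≫ (DTen.RHomR A (DerivedCategory.Q.obj P)).map εi, inferInstance,
    inferInstance, ?_⟩
  rw [key, row]
  simp only [Category.assoc]

/-- `evalTen` on images of K-projective complexes is an isomorphism iff the chain-level row is a
quasi-isomorphism -/
theorem isIso_evalTen_iff_row (K P W R' : DRing.Cx A) [K.IsKProjective] [P.IsKProjective]
    [W.IsKProjective] [R'.IsKProjective] (s : R' ⟶ DRing.homCx P W) [QuasiIso s] :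
    IsIso (DTen.evalTen (DerivedCategory.Q.obj K) (DerivedCategory.Q.obj W)
      (DerivedCategory.Q.obj P)) ↔ QuasiIso (row K P W s) := by
  obtain ⟨a, b, ha, hb, hab⟩ := evalTen_eq_row K P W R' s
  rw [hab, ← DerivedCategory.isIso_Q_map_iff_quasiIso]
  constructor
  · intro h1
    have h2 : DerivedCategory.Q.map (row K P W s) =
        inv a ≫ (a ≫ DerivedCategory.Q.map (row K P W s) ≫ b) ≫ inv b := by
      simp only [Category.assoc, IsIso.hom_inv_id, Category.comp_id, IsIso.inv_hom_id_assoc]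
    rw [h2]
    infer_instance
  · intro h1
    infer_instance

/-- invariance of `IsIso evalTen` under isomorphisms of the three arguments -/
theorem isIso_evalTen_iff_of_iso {K K' L L' M M' : Dual.D A} (eK : K ≅ K') (eL : L ≅ L')
    (eM : M ≅ M') : IsIso (DTen.evalTen K L M) ↔ IsIso (DTen.evalTen K' L' M') :=
  ⟨isIso_evalTen_of_iso eK.symm eL.symm eM.symm, isIso_evalTen_of_iso eK eL eM⟩

end EvalTen

section Unit

variable {R R' : Type u} [CommRing R] [CommRing R'] (ρ : R →+* R')

/-- the restriction of the unit complex is `R'[0]` -/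
noncomputable def resUnitIso : (DTen.resCx ρ).obj (𝟙_ (DRing.Cx R')) ≅ SB ρ :=
  (HomologicalComplex.singleMapHomologicalComplex (ModuleCat.restrictScalars.{u} ρ)
    (ComplexShape.up ℤ) 0).app (ModuleCat.of R' R')

/-- the restriction of the unit of `D(R')` is represented by the projective resolution `FB` -/
noncomputable def unitIsoFB :
    (DRing.restrictD ρ).obj (DTen.unit R') ≅ (DerivedCategory.Q.obj (FB ρ) : Dual.D R) :=
  haveI : IsIso (DerivedCategory.Q.map (fB ρ)) :=
    (DerivedCategory.isIso_Q_map_iff_quasiIso (φ := fB ρ)).mpr inferInstance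
  (DTen.resFactors ρ).app (𝟙_ (DRing.Cx R')) ≪≫ DerivedCategory.Q.mapIso (resUnitIso ρ) ≪≫
    (asIso (DerivedCategory.Q.map (fB ρ))).symm

end Unit

section Final

variable {R A R' A' : Type u} [CommRing R] [CommRing A] [CommRing R'] [CommRing A']
  [Algebra R A] [Algebra R R'] [Algebra A A'] [Algebra R' A'] [Algebra R A']
  [IsScalarTower R A A'] [IsScalarTower R R' A'] [Algebra.IsPushout R A R' A']

theorem isIso_bcMap_iff_evalTen
    (htor : ∀ p : ℕ, 1 ≤ p → Subsingleton (DRing.Tor R p A R'))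
    [DRing.HasLBaseChange (algebraMap R R')] [DRing.HasLBaseChange (algebraMap A A')]
    (adjρ : DRing.LBaseChange (algebraMap R R') ⊣ DRing.restrictD (algebraMap R R'))
    (adjα : DRing.LBaseChange (algebraMap A A') ⊣ DRing.restrictD (algebraMap A A'))
    (h : (algebraMap A A').comp (algebraMap R A) = (algebraMap R' A').comp (algebraMap R R'))
    (Rφ : Dual.D R ⥤ Dual.D A) (adj : DRing.restrictD (algebraMap R A) ⊣ Rφ)
    (Rφ' : Dual.D R' ⥤ Dual.D A') (adj' : DRing.restrictD (algebraMap R' A') ⊣ Rφ')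
    (K : Dual.D R) (hc : IsIso (TrivBC.cmp adjρ adjα h (Rφ.obj K)))
    [DTen.HasLTen R] [DTen.HasLTen₃ R] [DTen.IsSymMonoidal R] [DTen.HasRHom R] :
    IsIso (TrivBC.bcMap adjρ adjα h adj adj' K hc) ↔
      IsIso (DTen.evalTen ((DRing.restrictD (algebraMap R R')).obj (DTen.unit R')) K
        ((DRing.restrictD (algebraMap R A)).obj (DTen.unit A))) := by
  obtain ⟨W, hW, -, ⟨eW⟩⟩ := exists_kprojective_rep K
  haveI := hW
  obtain ⟨H, s, hH, -, hs⟩ := exists_kprojective_resolution
    (DRing.homCx (FB (algebraMap R A)) W)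
  haveI := hH
  haveI := hs
  rw [isIso_bcMap_iff_row (fun M => isIso_sqτ₀ R A R' A' M h)
    (quasiIso_ext_π' _ _ (isZero_tor_Bm R A R' htor)) adjρ adjα adj adj' K hc
    (fB (algebraMap R A)) W eW s,
    isIso_evalTen_iff_of_iso (unitIsoFB (algebraMap R R')) eW.symm (unitIsoFB (algebraMap R A)),
    isIso_evalTen_iff_row (FB (algebraMap R R')) (FB (algebraMap R A)) W H s]

end Final

end Groth.Agent.Helper3.TC
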