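import Groth.Agent.Lib.Helper3.TC1
import Groth.Agent.Lib.Helper3.KP2

/-!
# Chain-level maps for the base change of trivial duality (helper3)

Termwise maps: the action `μ`, the comparison `jinv`, and its linearity over the algebra.
-/

set_option autoImplicit false

open CategoryTheory CategoryTheory.Limits MonoidalCategory

universe u

namespace Groth.Agent.Helper3.TC

open Groth.Agent.Helper3.TB Groth.Agent.Helper3.KP

variable {R A R' A' : Type u} [CommRing R] [CommRing A] [CommRing R'] [CommRing A']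
  (φ : R →+* A) (ρ : R →+* R') (α : A →+* A') (φ' : R' →+* A') (h : α.comp φ = φ'.comp ρ)

/-- `Z ↦ (Z ⊗_R A)|_R`, termwise -/
noncomputable abbrev EF : DRing.Cx R ⥤ DRing.Cx R := DTen.extCx φ ⋙ DTen.resCx φ

/-- the action map `(X|_R ⊗_R A)|_R ⟶ X|_R` -/
noncomputable def μ (X : DRing.Cx A) :
    (EF φ).obj ((DTen.resCx φ).obj X) ⟶ (DTen.resCx φ).obj X :=
  (DTen.resCx φ).map (εC φ X)

@[reassoc]
theorem μ_nat {X X' : DRing.Cx A} (f : X ⟶ X') :
    (EF φ).map ((DTen.resCx φ).map f) ≫ μ φ X' = μ φ X ≫ (DTen.resCx φ).map f := by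
  dsimp only [μ, EF, Functor.comp_map]
  rw [← Functor.map_comp, ← Functor.map_comp, εC_nat]

@[reassoc]
theorem unit_μ (X : DRing.Cx A) :
    (DTen.unitCx φ).app ((DTen.resCx φ).obj X) ≫ μ φ X = 𝟙 _ := by
  refine HomologicalComplex.hom_ext _ _ (fun i => ?_)
  exact (ModuleCat.extendRestrictScalarsAdj φ).right_triangle_components (X.X i)

/-- `X ↦ (X ⊗_A A')|_A` -/
noncomputable abbrev VV (X : DRing.Cx A) : DRing.Cx A :=
  (DTen.resCx α).obj ((DTen.extCx α).obj X)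

section
variable {φ ρ α φ'}

/-- the inverse of `cCx` -/
noncomputable def cCxInv (Y' : DRing.Cx A') :
    (DTen.resCx ρ).obj ((DTen.resCx φ').obj Y') ⟶ (DTen.resCx φ).obj ((DTen.resCx α).obj Y') :=
  (NatTrans.mapHomologicalComplex (TrivBC.resCommMod h).inv (ComplexShape.up ℤ)).app Y'

@[reassoc (attr := simp)]
theorem cCx_cCxInv (Y' : DRing.Cx A') : cCx h Y' ≫ cCxInv h Y' = 𝟙 _ := by
  refine HomologicalComplex.hom_ext _ _ (fun i => ?_)
  exact (TrivBC.resCommMod h).hom_inv_id_app (Y'.X i)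

@[reassoc (attr := simp)]
theorem cCxInv_cCx (Y' : DRing.Cx A') : cCxInv h Y' ≫ cCx h Y' = 𝟙 _ := by
  refine HomologicalComplex.hom_ext _ _ (fun i => ?_)
  exact (TrivBC.resCommMod h).inv_hom_id_app (Y'.X i)

instance (Y' : DRing.Cx A') : IsIso (cCx h Y') := ⟨cCxInv h Y', cCx_cCxInv h Y', cCxInv_cCx h Y'⟩

instance (Y' : DRing.Cx A') : IsIso (cCxInv h Y') := ⟨cCx h Y', cCxInv_cCx h Y', cCx_cCxInv h Y'⟩

@[reassoc]
theorem cCxInv_nat {Y' Y'' : DRing.Cx A'} (f : Y' ⟶ Y'') :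
    (DTen.resCx ρ).map ((DTen.resCx φ').map f) ≫ cCxInv h Y'' =
      cCxInv h Y' ≫ (DTen.resCx φ).map ((DTen.resCx α).map f) := by
  refine HomologicalComplex.hom_ext _ _ (fun i => ?_)
  exact (TrivBC.resCommMod h).inv.naturality (f.f i)

end

/-- the comparison `(X|_R ⊗_R R')|_R ⟶ (X ⊗_A A')|_R` -/
noncomputable def jinv (X : DRing.Cx A) :
    (EF ρ).obj ((DTen.resCx φ).obj X) ⟶ (DTen.resCx φ).obj (VV α X) :=
  (DTen.resCx ρ).map ((DTen.sqτ φ ρ φ' α h).app X) ≫ cCxInv h ((DTen.extCx α).obj X)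

@[reassoc]
theorem jinv_nat {X X' : DRing.Cx A} (f : X ⟶ X') :
    (EF ρ).map ((DTen.resCx φ).map f) ≫ jinv φ ρ α φ' h X' =
      jinv φ ρ α φ' h X ≫ (DTen.resCx φ).map ((DTen.resCx α).map ((DTen.extCx α).map f)) := by
  dsimp only [jinv, EF, Functor.comp_map]
  have h1 := (DTen.sqτ φ ρ φ' α h).naturality f
  dsimp only [Functor.comp_obj, Functor.comp_map] at h1
  rw [← Category.assoc, ← Functor.map_comp, h1, Functor.map_comp, Category.assoc, cCxInv_nat,
    Category.assoc]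

/-- the interchange followed by the comparison:
`((Z ⊗ R') ⊗ A) ⟶ ((Z ⊗ A) ⊗_A A')` -/
noncomputable def chiT (Z : DRing.Cx R) :
    (EF φ).obj ((EF ρ).obj Z) ⟶ (DTen.resCx φ).obj (VV α ((DTen.extCx φ).obj Z)) :=
  (EF φ).map ((EF ρ).map ((DTen.unitCx φ).app Z) ≫ jinv φ ρ α φ' h ((DTen.extCx φ).obj Z)) ≫
    μ φ (VV α ((DTen.extCx φ).obj Z))

/-- the comparison `jinv` is linear over `A` -/
theorem jinv_linear (X : DRing.Cx A) :
    (EF φ).map (jinv φ ρ α φ' h X) ≫ μ φ (VV α X) =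
      chiT φ ρ α φ' h ((DTen.resCx φ).obj X) ≫
        (DTen.resCx φ).map ((DTen.resCx α).map ((DTen.extCx α).map (εC φ X))) := by
  dsimp only [chiT]
  have h1 := μ_nat φ ((DTen.resCx α).map ((DTen.extCx α).map (εC φ X)))
  rw [Category.assoc, ← h1, ← Category.assoc, ← Functor.map_comp, Category.assoc]
  have h2 := jinv_nat φ ρ α φ' h (εC φ X)
  rw [← h2, ← Category.assoc, ← Functor.map_comp]
  have h3 : (DTen.unitCx φ).app ((DTen.resCx φ).obj X) ≫ (DTen.resCx φ).map (εC φ X) =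
      𝟙 ((DTen.resCx φ).obj X) := unit_μ φ X
  rw [h3, CategoryTheory.Functor.map_id, Category.id_comp]

end Groth.Agent.Helper3.TC
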