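import Groth.Agent.Lib.Helper3.TC2
import Groth.Agent.Lib.Helper3.BC8

/-!
# The interchange map in terms of the associator of complexes (helper3)

`tXr : (Z ⊗_R A)|_R ≅ Z ⊗ A[0]`, element formulas for the termwise maps, and the identity
`chiT_eq` expressing the abstractly defined interchange through the associator.
-/

set_option autoImplicit false

open CategoryTheory CategoryTheory.Limits MonoidalCategory CochainComplex HomComplex
open scoped TensorProduct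
open ChangeOfRings

universe u

namespace Groth.Agent.Helper3.TC

open Groth.Agent.Helper11.LDer Groth.Agent.Helper11.DC Groth.Agent.Helper11.Tel
  Groth.Agent.Helper11.Dev
open Groth.Agent.Helper3.HT Groth.Agent.Helper3.DT Groth.Agent.Helper3.RH Groth.Agent.Helper3.TH
open Groth.Agent.Helper3.BC Groth.Agent.Helper3.TB Groth.Agent.Helper3.KP

variable {R A : Type u} [CommRing R] [CommRing A] (φ : R →+* A)

/-- the components of `tXr` -/
noncomputable def tXrf (Z : DRing.Cx R) (n : ℤ) :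
    ((DTen.resCx φ).obj ((DTen.extCx φ).obj Z)).X n ⟶ (Z ⊗ SB φ).X n :=
  (esResApp φ (Z.X n)).hom ≫ (β_ (Bm φ) (Z.X n)).hom ≫ (Z.X n ◁ (σB φ).hom) ≫
    HomologicalComplex.ιTensorObj Z (SB φ) n 0 n (add_zero n)

/-- `res (ext Z) ⟶ Z ⊗ A[0]` -/
noncomputable def tXr (Z : DRing.Cx R) :
    (DTen.resCx φ).obj ((DTen.extCx φ).obj Z) ⟶ Z ⊗ SB φ where
  f n := tXrf φ Z n
  comm' n n' hnn' := by
    change n + 1 = n' at hnn'
    subst hnn'
    dsimp only [tXrf]
    simp only [Category.assoc]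
    rw [ι_d (K := Z) (P := SB φ) n 0 n (n + 1) (n + 1) 1 (add_zero n) rfl rfl rfl, SB_d,
      MonoidalPreadditive.whiskerLeft_zero, zero_comp, smul_zero, add_zero,
      MonoidalCategory.whisker_exchange_assoc, ← BraidedCategory.braiding_naturality_right_assoc]
    have h := (esRes φ).hom.naturality (Z.d n (n + 1))
    exact (congrArg (fun t => t ≫ (β_ (Bm φ) (Z.X (n + 1))).hom ≫
      (Z.X (n + 1) ◁ (σB φ).hom) ≫
      HomologicalComplex.ιTensorObj Z (SB φ) (n + 1) 0 (n + 1) (add_zero (n + 1))) h).symm.trans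
        (Category.assoc _ _ _)

instance isIso_tXr (Z : DRing.Cx R) : IsIso (tXr φ Z) := by
  haveI : ∀ n, IsIso ((tXr φ Z).f n) := fun n => by
    haveI := isIso_ι_right Z (SB φ) 0 (isZero_SB φ) n n (add_zero n)
    haveI : IsIso (Z.X n ◁ (σB φ).hom) :=
      (inferInstance : IsIso ((tensorLeft (Z.X n)).map (σB φ).hom))
    change IsIso (tXrf φ Z n)
    dsimp only [tXrf]
    infer_instance
  exact HomologicalComplex.Hom.isIso_of_components _

theorem tXr_nat {Z Z' : DRing.Cx R} (u : Z ⟶ Z') :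
    tXr φ Z ≫ (u ▷ SB φ) = (DTen.resCx φ).map ((DTen.extCx φ).map u) ≫ tXr φ Z' := by
  refine HomologicalComplex.hom_ext _ _ (fun n => ?_)
  rw [HomologicalComplex.comp_f, HomologicalComplex.comp_f]
  change tXrf φ Z n ≫ _ = _ ≫ tXrf φ Z' n
  dsimp only [tXrf]
  simp only [Category.assoc]
  rw [ι_whiskerRight, MonoidalCategory.whisker_exchange_assoc,
    ← BraidedCategory.braiding_naturality_right_assoc]
  have h := (esRes φ).hom.naturality (u.f n)
  exact (congrArg (fun t => t ≫ (β_ (Bm φ) (Z'.X n)).hom ≫ (Z'.X n ◁ (σB φ).hom) ≫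
    HomologicalComplex.ιTensorObj Z' (SB φ) n 0 n (add_zero n)) h).symm.trans
      (Category.assoc _ _ _)

theorem tXr_tmul (Z : DRing.Cx R) (n : ℤ) (b : A) (x : Z.X n) :
    ((tXr φ Z).f n).hom (b ⊗ₜ[R,φ] x) =
      (HomologicalComplex.ιTensorObj Z (SB φ) n 0 n (add_zero n)).hom
        (x ⊗ₜ[R] (σB φ).hom.hom b) := rfl


theorem inv_tXr_ι (Z : DRing.Cx R) (n : ℤ) (b : A) (x : Z.X n) :
    ((inv (tXr φ Z)).f n).hom ((HomologicalComplex.ιTensorObj Z (SB φ) n 0 n (add_zero n)).hom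
      (x ⊗ₜ[R] (σB φ).hom.hom b)) =
      (b ⊗ₜ[R,φ] x : (ModuleCat.extendScalars.{u, u, u} φ).obj (Z.X n)) := by
  rw [← tXr_tmul]
  have h1 : (tXr φ Z).f n ≫ (inv (tXr φ Z)).f n = 𝟙 _ := by
    rw [← HomologicalComplex.comp_f, IsIso.hom_inv_id, HomologicalComplex.id_f]
  exact congrArg (fun t => t.hom (b ⊗ₜ[R,φ] x)) h1

section
variable {A : Type u} [CommRing A]

theorem associator_ι_tmul' (X Y Z : DRing.Cx A) (p q j m k l : ℤ) (hm : p + q = m)
    (hk : m + j = k) (hl : q + j = l) (x : X.X p) (y : Y.X q) (z : Z.X j) :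
    ((α_ X Y Z).hom.f k).hom ((HomologicalComplex.ιTensorObj (X ⊗ Y) Z m j k hk).hom
      ((HomologicalComplex.ιTensorObj X Y p q m hm).hom (x ⊗ₜ[A] y) ⊗ₜ[A] z)) =
    (HomologicalComplex.ιTensorObj X (Y ⊗ Z) p l k (by omega)).hom
      (x ⊗ₜ[A] (HomologicalComplex.ιTensorObj Y Z q j l hl).hom (y ⊗ₜ[A] z)) := by
  subst hl
  exact associator_ι_tmul X Y Z p q j m k hm hk x y z

end

variable {R A R' A' : Type u} [CommRing R] [CommRing A] [CommRing R'] [CommRing A']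
  (φ : R →+* A) (ρ : R →+* R') (α : A →+* A') (φ' : R' →+* A') (h : α.comp φ = φ'.comp ρ)

theorem inv_tX_ι (Z : DRing.Cx R) (n : ℤ) (b : A) (x : Z.X n) :
    ((inv (tX φ Z)).f n).hom ((HomologicalComplex.ιTensorObj (SB φ) Z 0 n n (zero_add n)).hom
      ((σB φ).hom.hom b ⊗ₜ[R] x)) = (b ⊗ₜ[R,φ] x : (ModuleCat.extendScalars.{u, u, u} φ).obj (Z.X n)) := by
  rw [← tX_tmul]
  have h1 : (tX φ Z).f n ≫ (inv (tX φ Z)).f n = 𝟙 _ := by
    rw [← HomologicalComplex.comp_f, IsIso.hom_inv_id, HomologicalComplex.id_f]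
  exact congrArg (fun t => t.hom (b ⊗ₜ[R,φ] x)) h1

/-- `μ` on pure tensors -/
theorem μ_tmul (X : DRing.Cx A) (n : ℤ) (a : A) (x : X.X n) :
    ((μ φ X).f n).hom (a ⊗ₜ[R,φ] (show (ModuleCat.restrictScalars.{u} φ).obj (X.X n) from x)) =
      (show (ModuleCat.restrictScalars.{u} φ).obj (X.X n) from a • x) := rfl

/-- `jinv` on pure tensors -/
theorem jinv_tmul (X : DRing.Cx A) (n : ℤ) (r' : R') (x : X.X n) :
    ((jinv φ ρ α φ' h X).f n).hom
      (r' ⊗ₜ[R,ρ] (show (ModuleCat.restrictScalars.{u} φ).obj (X.X n) from x)) =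
    (show (ModuleCat.restrictScalars.{u} φ).obj ((ModuleCat.restrictScalars.{u} α).obj
        ((ModuleCat.extendScalars.{u, u, u} α).obj (X.X n))) from
      ((φ' r') ⊗ₜ[A,α] x : (ModuleCat.extendScalars.{u, u, u} α).obj (X.X n))) :=
  sqτ₀_tmul φ ρ α φ' h (X.X n) r' x

/-- termwise extension of scalars on pure tensors -/
theorem EF_map_tmul {Z Z' : DRing.Cx R} (f : Z ⟶ Z') (n : ℤ) (a : A) (z : Z.X n) :
    (((EF φ).map f).f n).hom (a ⊗ₜ[R,φ] z) = (a ⊗ₜ[R,φ] (f.f n).hom z :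
      (ModuleCat.extendScalars.{u, u, u} φ).obj (Z'.X n)) := rfl

/-- unit on elements -/
theorem unitCx_apply (Z : DRing.Cx R) (n : ℤ) (z : Z.X n) :
    (((DTen.unitCx φ).app Z).f n).hom z = ((1 : A) ⊗ₜ[R,φ] z :
      (ModuleCat.extendScalars.{u, u, u} φ).obj (Z.X n)) := rfl

/-- maps out of `res ext res ext M` are determined on pure tensors -/
theorem resExt_hom_ext₂ {M N : ModuleCat.{u} R}
    {f g : (ModuleCat.restrictScalars.{u} φ).obj ((ModuleCat.extendScalars.{u, u, u} φ).obj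
      ((ModuleCat.restrictScalars.{u} ρ).obj ((ModuleCat.extendScalars.{u, u, u} ρ).obj M))) ⟶ N}
    (hfg : ∀ (a : A) (r' : R') (m : M),
      f.hom (a ⊗ₜ[R,φ] (show (ModuleCat.restrictScalars.{u} ρ).obj
        ((ModuleCat.extendScalars.{u, u, u} ρ).obj M) from r' ⊗ₜ[R,ρ] m)) =
      g.hom (a ⊗ₜ[R,φ] (show (ModuleCat.restrictScalars.{u} ρ).obj
        ((ModuleCat.extendScalars.{u, u, u} ρ).obj M) from r' ⊗ₜ[R,ρ] m))) : f = g := by
  apply resExt_hom_ext φ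
  intro a y
  letI : Module R A := Module.compHom A φ
  refine TensorProduct.induction_on y ?_ ?_ ?_
  · have h0 : (a ⊗ₜ[R,φ] (0 : (ModuleCat.restrictScalars.{u} ρ).obj
        ((ModuleCat.extendScalars.{u, u, u} ρ).obj M)) :
        (ModuleCat.extendScalars.{u, u, u} φ).obj _) = 0 := TensorProduct.tmul_zero _ a
    exact (congrArg f.hom h0).trans ((map_zero _).trans ((map_zero _).symm.trans
      (congrArg g.hom h0).symm))
  · intro r' m
    exact hfg a r' m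
  · intro x y hx hy
    have h0 : (a ⊗ₜ[R,φ] ((x + y : _) : (ModuleCat.restrictScalars.{u} ρ).obj
        ((ModuleCat.extendScalars.{u, u, u} ρ).obj M)) :
        (ModuleCat.extendScalars.{u, u, u} φ).obj _) =
        (a ⊗ₜ[R,φ] (show (ModuleCat.restrictScalars.{u} ρ).obj
          ((ModuleCat.extendScalars.{u, u, u} ρ).obj M) from x)) +
        (a ⊗ₜ[R,φ] (show (ModuleCat.restrictScalars.{u} ρ).obj
          ((ModuleCat.extendScalars.{u, u, u} ρ).obj M) from y)) := TensorProduct.tmul_add a x y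
    exact (congrArg f.hom h0).trans ((map_add f.hom _ _).trans ((congrArg₂ (· + ·) hx hy).trans
      ((map_add g.hom _ _).symm.trans (congrArg g.hom h0).symm)))


/-- `chiT` on pure tensors -/
theorem chiT_apply (Z : DRing.Cx R) (n : ℤ) (a : A) (r' : R') (z : Z.X n) :
    ((chiT φ ρ α φ' h Z).f n).hom (a ⊗ₜ[R,φ] (show (ModuleCat.restrictScalars.{u} ρ).obj
        ((ModuleCat.extendScalars.{u, u, u} ρ).obj (Z.X n)) from r' ⊗ₜ[R,ρ] z)) =
    (show (ModuleCat.restrictScalars.{u} φ).obj ((ModuleCat.restrictScalars.{u} α).obj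
        ((ModuleCat.extendScalars.{u, u, u} α).obj
          ((ModuleCat.extendScalars.{u, u, u} φ).obj (Z.X n)))) from
      (((α a) * (φ' r')) ⊗ₜ[A,α] ((1 : A) ⊗ₜ[R,φ] z :
        (ModuleCat.extendScalars.{u, u, u} φ).obj (Z.X n)) :
        (ModuleCat.extendScalars.{u, u, u} α).obj
          ((ModuleCat.extendScalars.{u, u, u} φ).obj (Z.X n)))) := by
  have e1 : ((chiT φ ρ α φ' h Z).f n).hom (a ⊗ₜ[R,φ] (show (ModuleCat.restrictScalars.{u} ρ).obj
        ((ModuleCat.extendScalars.{u, u, u} ρ).obj (Z.X n)) from r' ⊗ₜ[R,ρ] z)) =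
      ((μ φ (VV α ((DTen.extCx φ).obj Z))).f n).hom
        (a ⊗ₜ[R,φ] ((jinv φ ρ α φ' h ((DTen.extCx φ).obj Z)).f n).hom
          (r' ⊗ₜ[R,ρ] (show (ModuleCat.restrictScalars.{u} φ).obj
            ((ModuleCat.extendScalars.{u, u, u} φ).obj (Z.X n)) from
              ((1 : A) ⊗ₜ[R,φ] z : (ModuleCat.extendScalars.{u, u, u} φ).obj (Z.X n))))) := rfl
  rw [e1, jinv_tmul]
  rfl

/-- the explicit interchange on pure tensors -/
theorem chiR_apply (Z : DRing.Cx R) (n : ℤ) (a : A) (r' : R') (z : Z.X n) :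
    (((EF φ).map (tX ρ Z) ≫ tXr φ (SB ρ ⊗ Z) ≫ (α_ (SB ρ) Z (SB φ)).hom ≫
        (SB ρ ◁ inv (tXr φ Z)) ≫ inv (tX ρ ((DTen.resCx φ).obj ((DTen.extCx φ).obj Z))) ≫
        jinv φ ρ α φ' h ((DTen.extCx φ).obj Z)).f n).hom
      (a ⊗ₜ[R,φ] (show (ModuleCat.restrictScalars.{u} ρ).obj
        ((ModuleCat.extendScalars.{u, u, u} ρ).obj (Z.X n)) from r' ⊗ₜ[R,ρ] z)) =
    (show (ModuleCat.restrictScalars.{u} φ).obj ((ModuleCat.restrictScalars.{u} α).obj
        ((ModuleCat.extendScalars.{u, u, u} α).obj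
          ((ModuleCat.extendScalars.{u, u, u} φ).obj (Z.X n)))) from
      ((φ' r') ⊗ₜ[A,α] (a ⊗ₜ[R,φ] z :
        (ModuleCat.extendScalars.{u, u, u} φ).obj (Z.X n)) :
        (ModuleCat.extendScalars.{u, u, u} α).obj
          ((ModuleCat.extendScalars.{u, u, u} φ).obj (Z.X n)))) := by
  have e1 : (((EF φ).map (tX ρ Z) ≫ tXr φ (SB ρ ⊗ Z) ≫ (α_ (SB ρ) Z (SB φ)).hom ≫
        (SB ρ ◁ inv (tXr φ Z)) ≫ inv (tX ρ ((DTen.resCx φ).obj ((DTen.extCx φ).obj Z))) ≫
        jinv φ ρ α φ' h ((DTen.extCx φ).obj Z)).f n).hom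
      (a ⊗ₜ[R,φ] (show (ModuleCat.restrictScalars.{u} ρ).obj
        ((ModuleCat.extendScalars.{u, u, u} ρ).obj (Z.X n)) from r' ⊗ₜ[R,ρ] z)) =
      ((jinv φ ρ α φ' h ((DTen.extCx φ).obj Z)).f n).hom
        (((inv (tX ρ ((DTen.resCx φ).obj ((DTen.extCx φ).obj Z)))).f n).hom
          (((SB ρ ◁ inv (tXr φ Z)).f n).hom
            (((α_ (SB ρ) Z (SB φ)).hom.f n).hom
              (((tXr φ (SB ρ ⊗ Z)).f n).hom
                (a ⊗ₜ[R,φ] ((tX ρ Z).f n).hom (r' ⊗ₜ[R,ρ] z)))))) := rfl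
  rw [e1, tX_tmul, tXr_tmul,
    associator_ι_tmul' (SB ρ) Z (SB φ) 0 n 0 n n n (zero_add n) (add_zero n) (add_zero n),
    whiskerLeft_ι_tmul, inv_tXr_ι, inv_tX_ι]
  exact jinv_tmul φ ρ α φ' h ((DTen.extCx φ).obj Z) n r' (a ⊗ₜ[R,φ] z)

set_option backward.isDefEq.respectTransparency false in
/-- the interchange `chiT` in terms of the associator of complexes -/
theorem chiT_eq (Z : DRing.Cx R) :
    chiT φ ρ α φ' h Z = (EF φ).map (tX ρ Z) ≫ tXr φ (SB ρ ⊗ Z) ≫ (α_ (SB ρ) Z (SB φ)).hom ≫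
        (SB ρ ◁ inv (tXr φ Z)) ≫ inv (tX ρ ((DTen.resCx φ).obj ((DTen.extCx φ).obj Z))) ≫
        jinv φ ρ α φ' h ((DTen.extCx φ).obj Z) := by
  refine HomologicalComplex.hom_ext _ _ (fun n => ?_)
  refine resExt_hom_ext₂ φ ρ (M := Z.X n) (fun a r' z => ?_)
  refine (chiT_apply φ ρ α φ' h Z n a r' z).trans
    (Eq.trans ?_ (chiR_apply φ ρ α φ' h Z n a r' z).symm)
  have h1 : (a ⊗ₜ[R,φ] z : (ModuleCat.extendScalars.{u, u, u} φ).obj (Z.X n)) =
      a • ((1 : A) ⊗ₜ[R,φ] z : (ModuleCat.extendScalars.{u, u, u} φ).obj (Z.X n)) := by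
    rw [ModuleCat.ExtendScalars.smul_tmul, mul_one]
  rw [h1]
  letI : Module A A' := Module.compHom A' α
  exact ((TensorProduct.tmul_smul a (φ' r') ((1 : A) ⊗ₜ[R,φ] z :
    (ModuleCat.extendScalars.{u, u, u} φ).obj (Z.X n))).trans rfl).symm

end Groth.Agent.Helper3.TC
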