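import Groth.Agent.Lib.Helper3.TC3

/-!
# The chain-level identities behind the base change map of trivial duality (helper3)
-/

set_option autoImplicit false

open CategoryTheory CategoryTheory.Limits MonoidalCategory CochainComplex HomComplex

universe u

namespace Groth.Agent.Helper3.TC

open Groth.Agent.Helper3.HT Groth.Agent.Helper3.DT Groth.Agent.Helper3.RH Groth.Agent.Helper3.TH
open Groth.Agent.Helper3.BC Groth.Agent.Helper3.TB Groth.Agent.Helper3.KP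

section Mono

variable {C : Type*} [Category C] [MonoidalCategory C]

theorem mono_lemma {G S Z P T : C} (g : G ⟶ S) (p : P ⟶ T) (u : Z ⊗ T ⟶ Z) :
    ((g ▷ Z) ▷ P) ≫ ((S ⊗ Z) ◁ p) ≫ (α_ S Z T).hom ≫ (S ◁ u) =
      (α_ G Z P).hom ≫ (G ◁ ((Z ◁ p) ≫ u)) ≫ (g ▷ Z) := by
  rw [← whisker_exchange_assoc, associator_naturality_left_assoc, ← whisker_exchange,
    associator_naturality_right_assoc, MonoidalCategory.whiskerLeft_comp, Category.assoc]

end Mono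

variable {R A R' A' : Type u} [CommRing R] [CommRing A] [CommRing R'] [CommRing A']
  (φ : R →+* A) (ρ : R →+* R') (α : A →+* A') (φ' : R' →+* A') (h : α.comp φ = φ'.comp ρ)

section Pi

variable {φ} {P : DRing.Cx R} (p : P ⟶ SB φ)

/-- `Z ⊗ P ⟶ Z ⊗ A[0] ≅ (Z ⊗_R A)|_R` -/
noncomputable def π (Z : DRing.Cx R) : Z ⊗ P ⟶ (EF φ).obj Z :=
  (Z ◁ p) ≫ inv (tXr φ Z)

@[reassoc]
theorem π_nat {Z Z' : DRing.Cx R} (f : Z ⟶ Z') :
    (f ▷ P) ≫ π p Z' = π p Z ≫ (DTen.resCx φ).map ((DTen.extCx φ).map f) := by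
  dsimp only [π]
  rw [Category.assoc, ← whisker_exchange_assoc]
  congr 1
  rw [IsIso.eq_inv_comp, ← Category.assoc, IsIso.comp_inv_eq]
  exact (tXr_nat φ f)

@[reassoc]
theorem π_tXr (Z : DRing.Cx R) : π p Z ≫ tXr φ Z = Z ◁ p := by
  dsimp only [π]
  rw [Category.assoc, IsIso.inv_hom_id, Category.comp_id]

/-- the action of `P` on the restriction of an `A`-complex -/
noncomputable def actX (X : DRing.Cx A) : (DTen.resCx φ).obj X ⊗ P ⟶ (DTen.resCx φ).obj X :=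
  π p ((DTen.resCx φ).obj X) ≫ μ φ X

/-- chain-level form of the universal property map -/
theorem π_map_μ {Y : DRing.Cx R} (X : DRing.Cx A) (v : Y ⟶ (DTen.resCx φ).obj X) :
    π p Y ≫ (DTen.resCx φ).map ((DTen.extCx φ).map v) ≫ μ φ X = (v ▷ P) ≫ actX p X := by
  dsimp only [actX]
  rw [π_nat_assoc]

end Pi

section Varpi

variable {ρ} {G : DRing.Cx R} (g : G ⟶ SB ρ)

/-- `G ⊗ Z ⟶ R'[0] ⊗ Z ≅ (Z ⊗_R R')|_R` -/
noncomputable def ϖ (Z : DRing.Cx R) : G ⊗ Z ⟶ (EF ρ).obj Z :=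
  (g ▷ Z) ≫ inv (tX ρ Z)

@[reassoc]
theorem ϖ_nat {Z Z' : DRing.Cx R} (f : Z ⟶ Z') :
    (G ◁ f) ≫ ϖ g Z' = ϖ g Z ≫ (DTen.resCx ρ).map ((DTen.extCx ρ).map f) := by
  dsimp only [ϖ]
  rw [Category.assoc, whisker_exchange_assoc]
  congr 1
  rw [IsIso.eq_inv_comp, ← Category.assoc, IsIso.comp_inv_eq]
  exact (tX_nat ρ f)

@[reassoc]
theorem ϖ_tX (Z : DRing.Cx R) : ϖ g Z ≫ tX ρ Z = g ▷ Z := by
  dsimp only [ϖ]
  rw [Category.assoc, IsIso.inv_hom_id, Category.comp_id]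

end Varpi

variable {φ ρ}

/-- the chain-level identity behind the base change map -/
theorem key_chain {P G Y : DRing.Cx R} (p : P ⟶ SB φ) (g : G ⟶ SB ρ) (X : DRing.Cx A)
    (w : Y ⟶ G ⊗ (DTen.resCx φ).obj X) :
    π p Y ≫ (DTen.resCx φ).map ((DTen.extCx φ).map
        (w ≫ ϖ g ((DTen.resCx φ).obj X) ≫ jinv φ ρ α φ' h X)) ≫ μ φ (VV α X) =
      (w ▷ P) ≫ (α_ G ((DTen.resCx φ).obj X) P).hom ≫ (G ◁ actX p X) ≫
        ϖ g ((DTen.resCx φ).obj X) ≫ jinv φ ρ α φ' h X := by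
  have e1 := jinv_linear φ ρ α φ' h X
  have e2 := chiT_eq φ ρ α φ' h ((DTen.resCx φ).obj X)
  have h1 := jinv_nat φ ρ α φ' h (εC φ X)
  dsimp only [EF, Functor.comp_map, Functor.comp_obj] at e1 e2 h1
  simp only [Functor.map_comp, Category.assoc]
  rw [e1, e2, ← π_nat_assoc]
  congr 1
  simp only [Category.assoc]
  -- cancel `tX`
  rw [← Functor.map_comp_assoc, ← Functor.map_comp, ϖ_tX, ← π_nat_assoc, π_tXr_assoc]
  -- move the counit through
  have h2 : inv (tX ρ ((DTen.resCx φ).obj ((DTen.extCx φ).obj ((DTen.resCx φ).obj X)))) ≫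
      (DTen.resCx ρ).map ((DTen.extCx ρ).map ((DTen.resCx φ).map (εC φ X))) =
      (SB ρ ◁ (DTen.resCx φ).map (εC φ X)) ≫ inv (tX ρ ((DTen.resCx φ).obj X)) := by
    rw [IsIso.inv_comp_eq, ← Category.assoc, IsIso.eq_comp_inv]
    exact (tX_nat ρ ((DTen.resCx φ).map (εC φ X))).symm
  rw [← h1, reassoc_of% h2, ← MonoidalCategory.whiskerLeft_comp_assoc]
  have h3 := mono_lemma g p (inv (tXr φ ((DTen.resCx φ).obj X)) ≫ (DTen.resCx φ).map (εC φ X))
  rw [reassoc_of% h3]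
  dsimp only [actX, π, ϖ, μ]
  simp only [Category.assoc]

end Groth.Agent.Helper3.TC
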