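import Groth.Agent.Lib.Helper3.TC4

/-!
# Adjuncts under derived base change in terms of chain maps (helper3)
-/

set_option autoImplicit false

open CategoryTheory CategoryTheory.Limits MonoidalCategory

universe u

attribute [local instance] HasDerivedCategory.standard

namespace Groth.Agent.Helper3.TC

open Groth.Agent.Helper3.HT Groth.Agent.Helper3.DT Groth.Agent.Helper3.RH Groth.Agent.Helper3.TH
open Groth.Agent.Helper3.BC Groth.Agent.Helper3.TB Groth.Agent.Helper3.KP

section One

variable {R A : Type u} [CommRing R] [CommRing A] (φ : R →+* A) [DTen.HasLBase φ]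

/-- `(QY ⊗^L A)|_R ⟶ Q((Y ⊗ A)|_R)` -/
noncomputable def τ (Y : DRing.Cx R) :
    (DRing.restrictD φ).obj ((DTen.LBase φ).obj (DerivedCategory.Q.obj Y)) ⟶
      DerivedCategory.Q.obj ((DTen.resCx φ).obj ((DTen.extCx φ).obj Y)) :=
  (DRing.restrictD φ).map ((DTen.baseCmp φ).app Y) ≫
    (DTen.resFactors φ).hom.app ((DTen.extCx φ).obj Y)

instance isIso_τ (Y : DRing.Cx R) [Y.IsKProjective] : IsIso (τ φ Y) := by
  haveI := isIso_baseCmp φ Y
  dsimp only [τ]
  infer_instance

omit [DTen.HasLBase φ] in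
@[reassoc]
theorem resFactors_hom_nat {X Y : DRing.Cx A} (f : X ⟶ Y) :
    (DRing.restrictD φ).map (DerivedCategory.Q.map f) ≫ (DTen.resFactors φ).hom.app Y =
      (DTen.resFactors φ).hom.app X ≫ DerivedCategory.Q.map ((DTen.resCx φ).map f) :=
  (DTen.resFactors φ).hom.naturality f

@[reassoc]
theorem τ_nat {Z Z' : DRing.Cx R} (f : Z ⟶ Z') :
    (DRing.restrictD φ).map ((DTen.LBase φ).map (DerivedCategory.Q.map f)) ≫ τ φ Z' =
      τ φ Z ≫ DerivedCategory.Q.map ((DTen.resCx φ).map ((DTen.extCx φ).map f)) := by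
  dsimp only [τ]
  have h1 := (DTen.baseCmp φ).naturality f
  dsimp only [Functor.comp_obj, Functor.comp_map] at h1
  rw [← Category.assoc, ← Functor.map_comp, h1, Functor.map_comp, Category.assoc,
    resFactors_hom_nat, Category.assoc]

/-- the adjunct of the class of a chain map into a restricted complex -/
theorem homEquiv_symm_Q (Y : DRing.Cx R) (M : DRing.Cx A) (v : Y ⟶ (DTen.resCx φ).obj M) :
    ((DTen.baseAdj φ).homEquiv _ _).symm
        (DerivedCategory.Q.map v ≫ (DTen.resFactors φ).inv.app M) =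
      (DTen.baseCmp φ).app Y ≫ DerivedCategory.Q.map ((DTen.extCx φ).map v ≫ εC φ M) := by
  rw [Equiv.symm_apply_eq, Adjunction.homEquiv_unit, Functor.map_comp]
  have h1 := uB_baseCmp φ Y
  dsimp only [uB] at h1
  rw [← Category.assoc, h1, Category.assoc, resFactors_inv_nat', ← Category.assoc,
    ← Functor.map_comp]
  congr 2
  have h2 := (DTen.unitCx φ).naturality v
  dsimp only [Functor.id_obj, Functor.id_map, Functor.comp_obj, Functor.comp_map] at h2
  rw [Functor.map_comp, ← Category.assoc, ← h2, Category.assoc]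
  have h3 : (DTen.unitCx φ).app ((DTen.resCx φ).obj M) ≫ (DTen.resCx φ).map (εC φ M) =
      𝟙 ((DTen.resCx φ).obj M) := unit_μ φ M
  rw [h3, Category.comp_id]

/-- the universal property map on the class of a chain map -/
theorem Psi_Q (Y : DRing.Cx R) (M : DRing.Cx A) {K : Dual.D R}
    (ε : (DRing.restrictD φ).obj (DerivedCategory.Q.obj M) ⟶ K)
    (v : Y ⟶ (DTen.resCx φ).obj M) :
    Psi (DTen.baseAdj φ) (DerivedCategory.Q.obj M) ε (DerivedCategory.Q.obj Y)
        (DerivedCategory.Q.map v ≫ (DTen.resFactors φ).inv.app M) =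
      τ φ Y ≫ DerivedCategory.Q.map ((DTen.resCx φ).map ((DTen.extCx φ).map v) ≫ μ φ M) ≫
        (DTen.resFactors φ).inv.app M ≫ ε := by
  dsimp only [Psi, τ, μ]
  rw [homEquiv_symm_Q, Functor.map_comp, Category.assoc, Category.assoc]
  congr 1
  have h1 := (DTen.resFactors φ).hom_inv_id_app M
  dsimp only [Functor.comp_obj] at h1
  rw [← Functor.map_comp (DTen.resCx φ), ← resFactors_hom_nat_assoc, reassoc_of% h1]

end One

section Square

variable {R A R' A' : Type u} [CommRing R] [CommRing A] [CommRing R'] [CommRing A']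
  (φ : R →+* A) (ρ : R →+* R') (α : A →+* A') (φ' : R' →+* A') (h : α.comp φ = φ'.comp ρ)

omit [CommRing R'] in
theorem map_hom_inv_resFactors (F : Dual.D A ⥤ Dual.D R) (Y : DRing.Cx A') :
    F.map ((DTen.resFactors α).hom.app Y) ≫ F.map ((DTen.resFactors α).inv.app Y) = 𝟙 _ := by
  rw [← Functor.map_comp, Iso.hom_inv_id_app, CategoryTheory.Functor.map_id]

/-- the commutation isomorphism on the image of a complex, inverse direction -/
theorem resComm_inv_app_Q (Y' : DRing.Cx A') :
    (TrivBC.resComm h).inv.app (DerivedCategory.Q.obj Y') =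
      (DRing.restrictD ρ).map ((DTen.resFactors φ').hom.app Y') ≫
        (DTen.resFactors ρ).hom.app ((DTen.resCx φ').obj Y') ≫
        DerivedCategory.Q.map (cCxInv h Y') ≫
        (DTen.resFactors φ).inv.app ((DTen.resCx α).obj Y') ≫
        (DRing.restrictD φ).map ((DTen.resFactors α).inv.app Y') := by
  rw [← cancel_epi ((TrivBC.resComm h).hom.app (DerivedCategory.Q.obj Y')), Iso.hom_inv_id_app,
    resComm_hom_app_Q]
  simp only [Category.assoc]
  have e1 : (DRing.restrictD ρ).map ((DTen.resFactors φ').inv.app Y') ≫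
      (DRing.restrictD ρ).map ((DTen.resFactors φ').hom.app Y') = 𝟙 _ := by
    rw [← Functor.map_comp, Iso.inv_hom_id_app, CategoryTheory.Functor.map_id]
  have e2 := (DTen.resFactors ρ).inv_hom_id_app ((DTen.resCx φ').obj Y')
  have e3 : DerivedCategory.Q.map (cCx h Y') ≫ DerivedCategory.Q.map (cCxInv h Y') = 𝟙 _ := by
    rw [← Functor.map_comp, cCx_cCxInv, CategoryTheory.Functor.map_id]
  have e4 := (DTen.resFactors φ).hom_inv_id_app ((DTen.resCx α).obj Y')
  have e5 : (DRing.restrictD φ).map ((DTen.resFactors α).hom.app Y') ≫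
      (DRing.restrictD φ).map ((DTen.resFactors α).inv.app Y') = 𝟙 _ := by
    rw [← Functor.map_comp, Iso.hom_inv_id_app, CategoryTheory.Functor.map_id]
  dsimp only [Functor.comp_obj] at e2 e4
  rw [reassoc_of% e1, reassoc_of% e2, reassoc_of% e3, reassoc_of% e4, e5]
  rfl

variable [DTen.HasLBase ρ] [DTen.HasLBase α]

/-- the comparison map and the chain-level comparison `jinv` -/
theorem sq_key (X : DRing.Cx A) :
    (DRing.restrictD ρ).map ((DTen.LBase ρ).map ((DTen.resFactors φ).hom.app X)) ≫
        τ ρ ((DTen.resCx φ).obj X) ≫ DerivedCategory.Q.map (jinv φ ρ α φ' h X) ≫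
        (DTen.resFactors φ).inv.app (VV α X) =
      (DRing.restrictD ρ).map (cmpB φ ρ α φ' h (DerivedCategory.Q.obj X)) ≫
        (TrivBC.resComm h).inv.app ((DTen.LBase α).obj (DerivedCategory.Q.obj X)) ≫
        (DRing.restrictD φ).map (τ α X) := by
  -- the right hand side
  have hn := (TrivBC.resComm h).inv.naturality ((DTen.baseCmp α).app X)
  dsimp only [Functor.comp_obj, Functor.comp_map] at hn
  have hk := congrArg (fun t => (DRing.restrictD ρ).map t) (cmpB_sqβ φ ρ α φ' h X)
  dsimp only [DTen.sqβ₁, DTen.sqβ₂] at hk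
  simp only [Functor.map_comp] at hk
  dsimp only [τ, jinv]
  simp only [Functor.map_comp, Category.assoc]
  rw [← reassoc_of% hn, resComm_inv_app_Q]
  simp only [Category.assoc]
  rw [reassoc_of% hk]
  have e5 : (DRing.restrictD φ).map ((DTen.resFactors α).inv.app ((DTen.extCx α).obj X)) ≫
      (DRing.restrictD φ).map ((DTen.resFactors α).hom.app ((DTen.extCx α).obj X)) = 𝟙 _ := by
    rw [← Functor.map_comp, Iso.inv_hom_id_app, CategoryTheory.Functor.map_id]
  rw [e5]
  erw [Category.comp_id]
  congr 2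
  rw [resFactors_hom_nat_assoc]

end Square

end Groth.Agent.Helper3.TC
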