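import Groth.Agent.Lib.Helper3.TC5

/-!
# Hom sets in the derived category out of K-projective complexes (helper3)
-/

set_option autoImplicit false

open CategoryTheory CategoryTheory.Limits MonoidalCategory

universe u

attribute [local instance] HasDerivedCategory.standard

namespace Groth.Agent.Helper3.TC

open Groth.Agent.Helper11.LDer Groth.Agent.Helper11.DC Groth.Agent.Helper11.Tel
open Groth.Agent.Helper3.HT Groth.Agent.Helper3.DT Groth.Agent.Helper3.RH Groth.Agent.Helper3.TH
open Groth.Agent.Helper3.BC Groth.Agent.Helper3.TB Groth.Agent.Helper3.KP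

section

variable {R : Type u} [CommRing R]

/-- a chain map is a quasi-isomorphism iff it induces bijections on maps out of K-projective
complexes in the derived category -/
theorem quasiIso_iff_bijective {U U' : DRing.Cx R} (r : U ⟶ U') :
    QuasiIso r ↔ ∀ (Y : DRing.Cx R) [Y.IsKProjective], Function.Bijective
      (fun g : (DerivedCategory.Q.obj Y : Dual.D R) ⟶ DerivedCategory.Q.obj U =>
        g ≫ DerivedCategory.Q.map r) := by
  rw [← DerivedCategory.isIso_Q_map_iff_quasiIso]
  constructor
  · intro _ Y _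
    exact ⟨fun x y hxy => (cancel_mono _).mp hxy,
      fun y => ⟨y ≫ inv (DerivedCategory.Q.map r), by
        dsimp only
        rw [Category.assoc, IsIso.inv_hom_id, Category.comp_id]⟩⟩
  · intro hY
    apply isIso_of_yoneda_map_bijective
    intro T
    obtain ⟨Y, hYp, -, ⟨e⟩⟩ := exists_kprojective_rep T
    haveI := hYp
    have hb := hY Y
    constructor
    · intro x y hxy
      dsimp only at hxy
      have h2 : (e.hom ≫ x) ≫ DerivedCategory.Q.map r = (e.hom ≫ y) ≫ DerivedCategory.Q.map r := by
        rw [Category.assoc, Category.assoc, hxy]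
      exact (cancel_epi e.hom).mp (hb.1 h2)
    · intro y
      obtain ⟨x, hx⟩ := hb.2 (e.hom ≫ y)
      refine ⟨e.inv ≫ x, ?_⟩
      dsimp only at hx ⊢
      rw [Category.assoc, hx, e.inv_hom_id_assoc]

variable (Y P V : DRing.Cx R) [Y.IsKProjective] [P.IsKProjective]

/-- the derived tensor-hom bijection on a K-projective pair -/
noncomputable def RB (g : (DerivedCategory.Q.obj Y : Dual.D R) ⟶
    DerivedCategory.Q.obj (DRing.homCx P V)) :
    (DerivedCategory.Q.obj (Y ⊗ P) : Dual.D R) ⟶ DerivedCategory.Q.obj V :=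
  DerivedCategory.Q.map (uncH (exists_lift_of_isKProjective Y _ g).choose)

omit [P.IsKProjective] in
theorem RB_Q (t : Y ⟶ DRing.homCx P V) :
    RB Y P V (DerivedCategory.Q.map t) = DerivedCategory.Q.map (uncH t) := by
  dsimp only [RB]
  obtain ⟨H⟩ := homotopy_of_Q_map_eq Y _ _ t
    (exists_lift_of_isKProjective Y _ (DerivedCategory.Q.map t)).choose_spec
  exact DerivedCategory.Q_map_eq_of_homotopy (h := uncHomotopy H)

theorem bijective_RB : Function.Bijective (RB Y P V) := by
  haveI := isKProjective_tensor Y P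
  constructor
  · intro g g' hgg'
    obtain ⟨t, rfl⟩ := exists_lift_of_isKProjective Y _ g
    obtain ⟨t', rfl⟩ := exists_lift_of_isKProjective Y _ g'
    rw [RB_Q, RB_Q] at hgg'
    obtain ⟨H⟩ := homotopy_of_Q_map_eq (Y ⊗ P) V _ _ hgg'
    have H' := curHomotopy H
    rw [curH_uncH, curH_uncH] at H'
    exact DerivedCategory.Q_map_eq_of_homotopy (h := H')
  · intro f
    obtain ⟨f₀, rfl⟩ := exists_lift_of_isKProjective (Y ⊗ P) V f
    exact ⟨DerivedCategory.Q.map (curH f₀), by rw [RB_Q, uncH_curH]⟩

/-- a map of hom sets given on classes of chain maps by composing with `r` and uncurrying is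
bijective iff composition with `r` is -/
theorem bijective_iff_of_uncH {U : DRing.Cx R} (r : U ⟶ DRing.homCx P V)
    (Θ : ((DerivedCategory.Q.obj Y : Dual.D R) ⟶ DerivedCategory.Q.obj U) →
      ((DerivedCategory.Q.obj (Y ⊗ P) : Dual.D R) ⟶ DerivedCategory.Q.obj V))
    (hΘ : ∀ w : Y ⟶ U, Θ (DerivedCategory.Q.map w) = DerivedCategory.Q.map (uncH (w ≫ r))) :
    Function.Bijective Θ ↔ Function.Bijective
      (fun g : (DerivedCategory.Q.obj Y : Dual.D R) ⟶ DerivedCategory.Q.obj U =>
        g ≫ DerivedCategory.Q.map r) := by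
  have h1 : Θ = RB Y P V ∘ (fun g : (DerivedCategory.Q.obj Y : Dual.D R) ⟶
      DerivedCategory.Q.obj U => g ≫ DerivedCategory.Q.map r) := by
    funext g
    obtain ⟨w, rfl⟩ := exists_lift_of_isKProjective Y U g
    dsimp only [Function.comp]
    rw [hΘ, ← Functor.map_comp, RB_Q]
  rw [h1]
  exact bijective_comp_equiv _ _ (bijective_RB Y P V)

end

section Reflects

variable {A B : Type u} [CommRing A] [CommRing B] (φ : A →+* B)

instance reflects_restrictD : (DRing.restrictD φ).ReflectsIsomorphisms where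
  reflects {X Y} f hf := by
    obtain ⟨X₀, hX₀, -, ⟨eX⟩⟩ := exists_kprojective_rep X
    haveI := hX₀
    let Y₀ : DRing.Cx B := (DerivedCategory.Q : DRing.Cx B ⥤ Dual.D B).objPreimage Y
    let eY : (DerivedCategory.Q.obj Y₀ : Dual.D B) ≅ Y :=
      (DerivedCategory.Q : DRing.Cx B ⥤ Dual.D B).objObjPreimageIso Y
    obtain ⟨f₀, hf₀⟩ := exists_lift_of_isKProjective X₀ Y₀ (eX.hom ≫ f ≫ eY.inv)
    haveI : IsIso ((DRing.restrictD φ).map (DerivedCategory.Q.map f₀)) := by
      rw [hf₀, Functor.map_comp, Functor.map_comp]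
      infer_instance
    have h1 := resFactors_hom_nat φ f₀
    haveI : IsIso (DerivedCategory.Q.map ((DTen.resCx φ).map f₀)) := by
      have h2 : DerivedCategory.Q.map ((DTen.resCx φ).map f₀) =
          (DTen.resFactors φ).inv.app X₀ ≫
            ((DRing.restrictD φ).map (DerivedCategory.Q.map f₀) ≫
              (DTen.resFactors φ).hom.app Y₀) := by
        rw [h1, Iso.inv_hom_id_app_assoc]
      rw [h2]
      infer_instance
    have h3 : QuasiIso ((DTen.resCx φ).map f₀) :=
      (DerivedCategory.isIso_Q_map_iff_quasiIso (φ := (DTen.resCx φ).map f₀)).mp inferInstance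
    have h4 : QuasiIso f₀ := quasiIso_of_resCx φ f₀ h3
    haveI : IsIso (DerivedCategory.Q.map f₀) :=
      (DerivedCategory.isIso_Q_map_iff_quasiIso (φ := f₀)).mpr h4
    have h5 : f = eX.inv ≫ DerivedCategory.Q.map f₀ ≫ eY.hom := by
      rw [hf₀]
      simp
    rw [h5]
    infer_instance

end Reflects

end Groth.Agent.Helper3.TC
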