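import Groth.Agent.Lib.Helper3.TC6

/-!
# The base change map of trivial duality on hom sets, in terms of chain maps (helper3)
-/

set_option autoImplicit false

open CategoryTheory CategoryTheory.Limits MonoidalCategory

universe u

attribute [local instance] HasDerivedCategory.standard

namespace Groth.Agent.Helper3.TC

open Groth.Agent.Helper11.LDer Groth.Agent.Helper11.DC Groth.Agent.Helper11.Tel
open Groth.Agent.Helper3.HT Groth.Agent.Helper3.DT Groth.Agent.Helper3.RH Groth.Agent.Helper3.TH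
open Groth.Agent.Helper3.BC Groth.Agent.Helper3.TB Groth.Agent.Helper3.KP
open Groth.Agent.Helper3.KF

section Bij

variable {C : Type*} [Category C]

theorem bijective_precomp {X X' Y : C} (a : X' ⟶ X) [IsIso a] :
    Function.Bijective (fun f : X ⟶ Y => a ≫ f) :=
  ⟨fun _ _ hxy => (cancel_epi a).mp hxy, fun y => ⟨inv a ≫ y, by
    dsimp only
    rw [IsIso.hom_inv_id_assoc]⟩⟩

theorem bijective_postcomp {X Y Y' : C} (a : Y ⟶ Y') [IsIso a] :
    Function.Bijective (fun f : X ⟶ Y => f ≫ a) :=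
  ⟨fun _ _ hxy => (cancel_mono a).mp hxy, fun y => ⟨y ≫ inv a, by
    dsimp only
    rw [Category.assoc, IsIso.inv_hom_id, Category.comp_id]⟩⟩

theorem cancel_left₂ {X Y Z T : C} (a : X ⟶ Y) (b : Y ⟶ Z) [IsIso (a ≫ b)] (c : Z ⟶ T) :
    inv (a ≫ b) ≫ a ≫ b ≫ c = c := by
  rw [← Category.assoc a, IsIso.inv_hom_id_assoc]

theorem cancel_right₃ {T X₁ X₂ X₃ X₄ : C} (c : T ⟶ X₁) (t₁ : X₁ ⟶ X₂) (t₂ : X₂ ⟶ X₃)
    (t₃ : X₃ ⟶ X₄) [IsIso (t₁ ≫ t₂ ≫ t₃)] :
    c ≫ t₁ ≫ t₂ ≫ t₃ ≫ inv (t₁ ≫ t₂ ≫ t₃) = c := by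
  have h := IsIso.hom_inv_id (t₁ ≫ t₂ ≫ t₃)
  simp only [Category.assoc] at h
  rw [h, Category.comp_id]

end Bij

variable {R A R' A' : Type u} [CommRing R] [CommRing A] [CommRing R'] [CommRing A']
  {φ : R →+* A} {ρ : R →+* R'} {α : A →+* A'} {φ' : R' →+* A'} {h : α.comp φ = φ'.comp ρ}
  [DTen.HasLBase φ]
  {P : DRing.Cx R} [P.IsKProjective] (p : P ⟶ SB φ) [QuasiIso p]
  (X : DRing.Cx A) (W : DRing.Cx R)
  {K : Dual.D R} (eW : (DerivedCategory.Q.obj W : Dual.D R) ≅ K)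
  (ε₀ : (DRing.restrictD φ).obj (DerivedCategory.Q.obj X) ⟶ K)
  {YG : DRing.Cx R} (q : YG ⟶ (DTen.resCx φ).obj X)
  (b : YG ⊗ P ⟶ W)

instance isIso_Q_π (Y : DRing.Cx R) [Y.IsKProjective] : IsIso (DerivedCategory.Q.map (π p Y)) := by
  haveI := quasiIso_whiskerLeft_of_isKProjective Y p
  haveI : QuasiIso (π p Y) := by
    dsimp only [π]
    infer_instance
  exact (DerivedCategory.isIso_Q_map_iff_quasiIso (φ := π p Y)).mpr inferInstance

omit [P.IsKProjective] in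
/-- the universal property map on classes of chain maps into the resolution `YG` -/
theorem Psi_formula
    (hb : DerivedCategory.Q.map b ≫ eW.hom =
      DerivedCategory.Q.map ((q ▷ P) ≫ actX p X) ≫ (DTen.resFactors φ).inv.app X ≫ ε₀)
    (Y : DRing.Cx R) [Y.IsKProjective] (v₁ : Y ⟶ YG) :
    Psi (DTen.baseAdj φ) (DerivedCategory.Q.obj X) ε₀ (DerivedCategory.Q.obj Y)
        (DerivedCategory.Q.map v₁ ≫ DerivedCategory.Q.map q ≫ (DTen.resFactors φ).inv.app X) =
      τ φ Y ≫ inv (DerivedCategory.Q.map (π p Y)) ≫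
        DerivedCategory.Q.map (uncH (v₁ ≫ curH b)) ≫ eW.hom := by
  rw [← Category.assoc, ← Functor.map_comp, Psi_Q]
  congr 1
  rw [IsIso.eq_inv_comp, ← Functor.map_comp_assoc, π_map_μ, uncH_comp_left, uncH_curH,
    MonoidalCategory.comp_whiskerRight, Category.assoc, Functor.map_comp,
    Functor.map_comp (DerivedCategory.Q) (v₁ ▷ P) b, Category.assoc, Category.assoc, hb]

/-- the resolution `YG` of `res X` computes `Hom(P, W)`, by the universal property -/
theorem quasiIso_curH [YG.IsKProjective] [QuasiIso q]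
    (hb : DerivedCategory.Q.map b ≫ eW.hom =
      DerivedCategory.Q.map ((q ▷ P) ≫ actX p X) ≫ (DTen.resFactors φ).inv.app X ≫ ε₀)
    (hU : ∀ M : Dual.D R, Function.Bijective
      (Psi (DTen.baseAdj φ) (DerivedCategory.Q.obj X) ε₀ M)) : QuasiIso (curH b) := by
  rw [quasiIso_iff_bijective]
  intro Y _
  haveI : IsIso (DerivedCategory.Q.map q) :=
    (DerivedCategory.isIso_Q_map_iff_quasiIso (φ := q)).mpr inferInstance
  rw [← bijective_iff_of_uncH Y P W (curH b)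
    (fun g => inv (τ φ Y ≫ inv (DerivedCategory.Q.map (π p Y))) ≫
      Psi (DTen.baseAdj φ) (DerivedCategory.Q.obj X) ε₀ (DerivedCategory.Q.obj Y)
        (g ≫ DerivedCategory.Q.map q ≫ (DTen.resFactors φ).inv.app X) ≫ eW.inv)]
  · exact (bijective_precomp _).comp ((bijective_postcomp eW.inv).comp ((hU _).comp
      (bijective_postcomp (DerivedCategory.Q.map q ≫ (DTen.resFactors φ).inv.app X))))
  · intro w
    rw [Psi_formula p X W eW ε₀ q b hb Y w]
    simp only [Category.assoc, Iso.hom_inv_id, Category.comp_id]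
    rw [← Category.assoc (τ φ Y), IsIso.inv_hom_id_assoc]

section B

variable [DTen.HasLBase ρ] [DTen.HasLBase α]

omit [DTen.HasLBase φ] in
/-- the map `xi` through the chain-level comparison `jinv` -/
theorem xi_formula [IsIso (τ α X)] [IsIso (τ ρ ((DTen.resCx φ).obj X))]
    (hG : IsIso (Mate.mate (TrivBC.resComm h) (DTen.baseAdj ρ) (DTen.baseAdj α)
      (DerivedCategory.Q.obj X))) :
    DerivedCategory.Q.map (jinv φ ρ α φ' h X) ≫ (DTen.resFactors φ).inv.app (VV α X) ≫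
        (DRing.restrictD φ).map (inv (τ α X)) ≫
        xi (TrivBC.resComm h) (DTen.baseAdj ρ) (DTen.baseAdj α) (DerivedCategory.Q.obj X) ε₀ hG =
      inv (τ ρ ((DTen.resCx φ).obj X)) ≫
        (DRing.restrictD ρ).map ((DTen.LBase ρ).map ((DTen.resFactors φ).inv.app X ≫ ε₀)) := by
  haveI := hG
  rw [IsIso.eq_inv_comp]
  haveI : IsIso ((DRing.restrictD ρ).map ((DTen.LBase ρ).map ((DTen.resFactors φ).hom.app X))) :=
    inferInstance
  rw [← cancel_epi ((DRing.restrictD ρ).map ((DTen.LBase ρ).map ((DTen.resFactors φ).hom.app X)))]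
  have h1 := sq_key φ ρ α φ' h X
  rw [reassoc_of% h1]
  dsimp only [xi, cmpB]
  rw [← Functor.map_comp_assoc (DRing.restrictD φ), IsIso.hom_inv_id,
    CategoryTheory.Functor.map_id, Category.id_comp, Iso.inv_hom_id_app_assoc,
    ← Functor.map_comp, IsIso.hom_inv_id_assoc, ← Functor.map_comp, ← Functor.map_comp,
    Iso.hom_inv_id_app_assoc]

omit [DTen.HasLBase φ] [DTen.HasLBase α] in
@[reassoc]
theorem τ_nat_inv {Z Z' : DRing.Cx R} (f : Z ⟶ Z') [IsIso (τ ρ Z)] [IsIso (τ ρ Z')] :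
    DerivedCategory.Q.map ((DTen.resCx ρ).map ((DTen.extCx ρ).map f)) ≫ inv (τ ρ Z') =
      inv (τ ρ Z) ≫ (DRing.restrictD ρ).map ((DTen.LBase ρ).map (DerivedCategory.Q.map f)) := by
  rw [IsIso.comp_inv_eq, Category.assoc, IsIso.eq_inv_comp]
  exact (τ_nat ρ f).symm

omit [DTen.HasLBase φ] [DTen.HasLBase α] [QuasiIso p] in
/-- transport of the tail of the formula along the defining property of `b` -/
theorem tail_formula [YG.IsKProjective] [W.IsKProjective]
    [IsIso (τ ρ ((DTen.resCx φ).obj X))]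
    (hb : DerivedCategory.Q.map b ≫ eW.hom =
      DerivedCategory.Q.map ((q ▷ P) ≫ actX p X) ≫ (DTen.resFactors φ).inv.app X ≫ ε₀) :
    DerivedCategory.Q.map ((FB ρ ◁ ((q ▷ P) ≫ actX p X)) ≫ ϖ (fB ρ) ((DTen.resCx φ).obj X)) ≫
        inv (τ ρ ((DTen.resCx φ).obj X)) ≫
        (DRing.restrictD ρ).map ((DTen.LBase ρ).map ((DTen.resFactors φ).inv.app X ≫ ε₀)) =
      DerivedCategory.Q.map (FB ρ ◁ b) ≫ DerivedCategory.Q.map (ϖ (fB ρ) W) ≫ inv (τ ρ W) ≫
        (DRing.restrictD ρ).map ((DTen.LBase ρ).map eW.hom) := by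
  haveI := isKProjective_tensor YG P
  have hL : DerivedCategory.Q.map ((FB ρ ◁ ((q ▷ P) ≫ actX p X)) ≫
        ϖ (fB ρ) ((DTen.resCx φ).obj X)) ≫ inv (τ ρ ((DTen.resCx φ).obj X)) =
      DerivedCategory.Q.map (ϖ (fB ρ) (YG ⊗ P)) ≫ inv (τ ρ (YG ⊗ P)) ≫
        (DRing.restrictD ρ).map ((DTen.LBase ρ).map
          (DerivedCategory.Q.map ((q ▷ P) ≫ actX p X))) := by
    rw [ϖ_nat, Functor.map_comp, Category.assoc, τ_nat_inv]
  have hR : DerivedCategory.Q.map (FB ρ ◁ b) ≫ DerivedCategory.Q.map (ϖ (fB ρ) W) ≫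
        inv (τ ρ W) =
      DerivedCategory.Q.map (ϖ (fB ρ) (YG ⊗ P)) ≫ inv (τ ρ (YG ⊗ P)) ≫
        (DRing.restrictD ρ).map ((DTen.LBase ρ).map (DerivedCategory.Q.map b)) := by
    rw [← Functor.map_comp_assoc, ϖ_nat, Functor.map_comp, Category.assoc, τ_nat_inv]
  rw [reassoc_of% hL, reassoc_of% hR, ← Functor.map_comp, ← Functor.map_comp,
    ← Functor.map_comp, ← Functor.map_comp, hb]

omit [P.IsKProjective] [QuasiIso p] [DTen.HasLBase ρ] [DTen.HasLBase φ] [DTen.HasLBase α] in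
/-- uncurrying the row -/
theorem uncH_row {Y : DRing.Cx R} (w₃ : Y ⟶ FB ρ ⊗ YG) :
    uncH (w₃ ≫ row (FB ρ) P W (curH b)) =
      (w₃ ▷ P) ≫ (α_ (FB ρ) YG P).hom ≫ (FB ρ ◁ b) := by
  dsimp only [row]
  rw [uncH_comp_left, uncH_comp_left, uncH_θ, ← Category.assoc ((FB ρ ◁ curH b) ▷ P),
    MonoidalCategory.associator_naturality_middle, Category.assoc,
    ← MonoidalCategory.whiskerLeft_comp, ← uncH_eq, uncH_curH]

/-- the base change map on classes of chain maps into `FB ⊗ YG` -/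
theorem Phi_formula [X.IsKProjective] [YG.IsKProjective] [W.IsKProjective]
    [IsIso (τ ρ ((DTen.resCx φ).obj X))]
    (hG : IsIso (Mate.mate (TrivBC.resComm h) (DTen.baseAdj ρ) (DTen.baseAdj α)
      (DerivedCategory.Q.obj X)))
    (hb : DerivedCategory.Q.map b ≫ eW.hom =
      DerivedCategory.Q.map ((q ▷ P) ≫ actX p X) ≫ (DTen.resFactors φ).inv.app X ≫ ε₀)
    (Y : DRing.Cx R) [Y.IsKProjective] (w₃ : Y ⟶ FB ρ ⊗ YG) :
    Phi (TrivBC.resComm h) (DTen.baseAdj ρ) (DTen.baseAdj α) (DTen.baseAdj φ)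
        (DerivedCategory.Q.obj X) ε₀ hG (DerivedCategory.Q.obj Y)
        (DerivedCategory.Q.map w₃ ≫
          DerivedCategory.Q.map ((FB ρ ◁ q) ≫ ϖ (fB ρ) ((DTen.resCx φ).obj X) ≫
            jinv φ ρ α φ' h X) ≫
          (DTen.resFactors φ).inv.app (VV α X) ≫ (DRing.restrictD φ).map (inv (τ α X))) =
      τ φ Y ≫ inv (DerivedCategory.Q.map (π p Y)) ≫
        DerivedCategory.Q.map (uncH (w₃ ≫ row (FB ρ) P W (curH b))) ≫
        DerivedCategory.Q.map (ϖ (fB ρ) W) ≫ inv (τ ρ W) ≫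
        (DRing.restrictD ρ).map ((DTen.LBase ρ).map eW.hom) := by
  have ha : Phi (TrivBC.resComm h) (DTen.baseAdj ρ) (DTen.baseAdj α) (DTen.baseAdj φ)
        (DerivedCategory.Q.obj X) ε₀ hG (DerivedCategory.Q.obj Y)
        (DerivedCategory.Q.map w₃ ≫
          DerivedCategory.Q.map ((FB ρ ◁ q) ≫ ϖ (fB ρ) ((DTen.resCx φ).obj X) ≫
            jinv φ ρ α φ' h X) ≫
          (DTen.resFactors φ).inv.app (VV α X) ≫ (DRing.restrictD φ).map (inv (τ α X))) =
      Psi (DTen.baseAdj φ) (DerivedCategory.Q.obj (VV α X))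
        ((DRing.restrictD φ).map (inv (τ α X)) ≫
          xi (TrivBC.resComm h) (DTen.baseAdj ρ) (DTen.baseAdj α) (DerivedCategory.Q.obj X) ε₀ hG)
        (DerivedCategory.Q.obj Y)
        (DerivedCategory.Q.map (w₃ ≫ (FB ρ ◁ q) ≫ ϖ (fB ρ) ((DTen.resCx φ).obj X) ≫
            jinv φ ρ α φ' h X) ≫ (DTen.resFactors φ).inv.app (VV α X)) := by
    dsimp only [Phi, Psi]
    rw [Functor.map_comp (DerivedCategory.Q) w₃, ← Category.assoc, ← Category.assoc,
      ← Category.assoc, Adjunction.homEquiv_naturality_right_symm, Functor.map_comp]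
    simp only [Category.assoc]
  rw [ha, Psi_Q]
  congr 1
  rw [IsIso.eq_inv_comp, ← Functor.map_comp_assoc]
  have hk := key_chain α φ' h p (fB ρ) X (w₃ ≫ (FB ρ ◁ q))
  simp only [Category.assoc] at hk
  rw [hk, uncH_row]
  -- reorganise
  have h1 : ((w₃ ≫ (FB ρ ◁ q)) ▷ P) ≫ (α_ (FB ρ) ((DTen.resCx φ).obj X) P).hom ≫
      (FB ρ ◁ actX p X) = (w₃ ▷ P) ≫ (α_ (FB ρ) YG P).hom ≫
        (FB ρ ◁ ((q ▷ P) ≫ actX p X)) := by
    rw [MonoidalCategory.comp_whiskerRight, Category.assoc,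
      MonoidalCategory.associator_naturality_middle_assoc, MonoidalCategory.whiskerLeft_comp]
  rw [reassoc_of% h1]
  simp only [Functor.map_comp, Category.assoc]
  congr 2
  have hx := xi_formula (h := h) X ε₀ hG
  have ht := tail_formula p X W eW ε₀ q b (ρ := ρ) hb
  simp only [Functor.map_comp, Category.assoc] at ht
  rw [hx, ← ht]
  simp only [Functor.map_comp]

omit [DTen.HasLBase φ] [DTen.HasLBase α] in
theorem isIso_τ_res (hT : TorInd φ ρ) [X.IsKProjective] :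
    IsIso (τ ρ ((DTen.resCx φ).obj X)) := by
  haveI := isIso_baseCmp_res hT X
  dsimp only [τ]
  infer_instance

omit [DTen.HasLBase φ] [DTen.HasLBase α] [DTen.HasLBase ρ] [P.IsKProjective] in
theorem quasiIso_ω (hτ : SqIso φ ρ α φ' h) (hT : TorInd φ ρ) [X.IsKProjective]
    [YG.IsKProjective] [QuasiIso q] :
    QuasiIso ((FB ρ ◁ q) ≫ ϖ (fB ρ) ((DTen.resCx φ).obj X) ≫ jinv φ ρ α φ' h X) := by
  haveI := quasiIso_whiskerLeft_of_isKProjective (FB ρ) q
  haveI := quasiIso_fB_whiskerRight_res hT X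
  haveI := isIso_sqτ hτ X
  haveI : QuasiIso (ϖ (fB ρ) ((DTen.resCx φ).obj X)) := by
    dsimp only [ϖ]
    infer_instance
  haveI : IsIso (jinv φ ρ α φ' h X) := by
    dsimp only [jinv]
    infer_instance
  infer_instance

/-- the criterion: the row is a quasi-isomorphism iff `Phi` is bijective on all classes of
K-projective complexes -/
theorem quasiIso_row_iff_bijective_Phi (hτ : SqIso φ ρ α φ' h) (hT : TorInd φ ρ)
    [X.IsKProjective] [YG.IsKProjective] [QuasiIso q] [W.IsKProjective]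
    (hG : IsIso (Mate.mate (TrivBC.resComm h) (DTen.baseAdj ρ) (DTen.baseAdj α)
      (DerivedCategory.Q.obj X)))
    (hb : DerivedCategory.Q.map b ≫ eW.hom =
      DerivedCategory.Q.map ((q ▷ P) ≫ actX p X) ≫ (DTen.resFactors φ).inv.app X ≫ ε₀) :
    QuasiIso (row (FB ρ) P W (curH b)) ↔ ∀ (Y : DRing.Cx R) [Y.IsKProjective],
      Function.Bijective (Phi (TrivBC.resComm h) (DTen.baseAdj ρ) (DTen.baseAdj α)
        (DTen.baseAdj φ) (DerivedCategory.Q.obj X) ε₀ hG (DerivedCategory.Q.obj Y)) := by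
  haveI := isIso_τ_res X (ρ := ρ) hT
  haveI := quasiIso_ω X q hτ hT
  haveI : IsIso (DerivedCategory.Q.map ((FB ρ ◁ q) ≫ ϖ (fB ρ) ((DTen.resCx φ).obj X) ≫
      jinv φ ρ α φ' h X)) :=
    (DerivedCategory.isIso_Q_map_iff_quasiIso (φ := (FB ρ ◁ q) ≫
      ϖ (fB ρ) ((DTen.resCx φ).obj X) ≫ jinv φ ρ α φ' h X)).mpr inferInstance
  haveI := quasiIso_whiskerRight_of_isKProjective W (fB ρ)
  haveI : QuasiIso (ϖ (fB ρ) W) := by
    dsimp only [ϖ]
    infer_instance
  haveI : IsIso (DerivedCategory.Q.map (ϖ (fB ρ) W)) :=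
    (DerivedCategory.isIso_Q_map_iff_quasiIso (φ := ϖ (fB ρ) W)).mpr inferInstance
  rw [quasiIso_iff_bijective]
  refine forall_congr' (fun Y => forall_congr' (fun hY => ?_))
  haveI := hY
  rw [← bijective_iff_of_uncH Y P (FB ρ ⊗ W) (row (FB ρ) P W (curH b))
    (fun g => inv (τ φ Y ≫ inv (DerivedCategory.Q.map (π p Y))) ≫
      Phi (TrivBC.resComm h) (DTen.baseAdj ρ) (DTen.baseAdj α)
        (DTen.baseAdj φ) (DerivedCategory.Q.obj X) ε₀ hG (DerivedCategory.Q.obj Y)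
        (g ≫ DerivedCategory.Q.map ((FB ρ ◁ q) ≫ ϖ (fB ρ) ((DTen.resCx φ).obj X) ≫
            jinv φ ρ α φ' h X) ≫
          (DTen.resFactors φ).inv.app (VV α X) ≫ (DRing.restrictD φ).map (inv (τ α X))) ≫
      inv (DerivedCategory.Q.map (ϖ (fB ρ) W) ≫ inv (τ ρ W) ≫
        (DRing.restrictD ρ).map ((DTen.LBase ρ).map eW.hom)))]
  · have e1 := bijective_precomp (Y := (DerivedCategory.Q.obj (FB ρ ⊗ W) : Dual.D R))
      (inv (τ φ Y ≫ inv (DerivedCategory.Q.map (π p Y))))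
    have e2 := bijective_postcomp
      (X := (DRing.restrictD φ).obj ((DTen.LBase φ).obj (DerivedCategory.Q.obj Y)))
      (inv (DerivedCategory.Q.map (ϖ (fB ρ) W) ≫ inv (τ ρ W) ≫
        (DRing.restrictD ρ).map ((DTen.LBase ρ).map eW.hom)))
    have e3 := bijective_postcomp (X := (DerivedCategory.Q.obj Y : Dual.D R))
      (DerivedCategory.Q.map ((FB ρ ◁ q) ≫ ϖ (fB ρ) ((DTen.resCx φ).obj X) ≫
            jinv φ ρ α φ' h X) ≫
          (DTen.resFactors φ).inv.app (VV α X) ≫ (DRing.restrictD φ).map (inv (τ α X)))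
    have hΘeq : (fun g => inv (τ φ Y ≫ inv (DerivedCategory.Q.map (π p Y))) ≫
        Phi (TrivBC.resComm h) (DTen.baseAdj ρ) (DTen.baseAdj α)
          (DTen.baseAdj φ) (DerivedCategory.Q.obj X) ε₀ hG (DerivedCategory.Q.obj Y)
          (g ≫ DerivedCategory.Q.map ((FB ρ ◁ q) ≫ ϖ (fB ρ) ((DTen.resCx φ).obj X) ≫
              jinv φ ρ α φ' h X) ≫
            (DTen.resFactors φ).inv.app (VV α X) ≫ (DRing.restrictD φ).map (inv (τ α X))) ≫
        inv (DerivedCategory.Q.map (ϖ (fB ρ) W) ≫ inv (τ ρ W) ≫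
          (DRing.restrictD ρ).map ((DTen.LBase ρ).map eW.hom))) =
        (fun f => inv (τ φ Y ≫ inv (DerivedCategory.Q.map (π p Y))) ≫ f) ∘
          ((fun f => f ≫ inv (DerivedCategory.Q.map (ϖ (fB ρ) W) ≫ inv (τ ρ W) ≫
              (DRing.restrictD ρ).map ((DTen.LBase ρ).map eW.hom))) ∘
            (Phi (TrivBC.resComm h) (DTen.baseAdj ρ) (DTen.baseAdj α)
              (DTen.baseAdj φ) (DerivedCategory.Q.obj X) ε₀ hG (DerivedCategory.Q.obj Y) ∘
              (fun g => g ≫ DerivedCategory.Q.map ((FB ρ ◁ q) ≫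
                  ϖ (fB ρ) ((DTen.resCx φ).obj X) ≫ jinv φ ρ α φ' h X) ≫
                (DTen.resFactors φ).inv.app (VV α X) ≫
                (DRing.restrictD φ).map (inv (τ α X))))) := rfl
    rw [hΘeq]
    exact (Function.Bijective.of_comp_iff' e1 _).trans
      ((Function.Bijective.of_comp_iff' e2 _).trans (Function.Bijective.of_comp_iff _ e3))
  · intro w
    rw [Phi_formula p X W eW ε₀ q b hG hb Y w]
    simp only [Category.assoc]
    rw [cancel_right₃, cancel_left₂]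

end B

end Groth.Agent.Helper3.TC
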