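import Groth.Agent.Lib.Helper3.TC7

/-!
# The base change map of trivial duality is an isomorphism iff a row is a quasi-isomorphism
(helper3)
-/

set_option autoImplicit false

open CategoryTheory CategoryTheory.Limits MonoidalCategory

universe u

attribute [local instance] HasDerivedCategory.standard

namespace Groth.Agent.Helper3.TC

open Groth.Agent.Helper11.LDer Groth.Agent.Helper11.DC Groth.Agent.Helper11.Tel
open Groth.Agent.Helper3.HT Groth.Agent.Helper3.DT Groth.Agent.Helper3.RH Groth.Agent.Helper3.TH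
open Groth.Agent.Helper3.BC Groth.Agent.Helper3.TB Groth.Agent.Helper3.KP
open Groth.Agent.Helper3.KF

section RowChange

variable {R : Type u} [CommRing R]

/-- the row does not depend on the K-projective resolution of `Hom(P, W)` -/
theorem quasiIso_row_change (G P W : DRing.Cx R) [G.IsKProjective]
    {H H' : DRing.Cx R} [H.IsKProjective] [H'.IsKProjective]
    (s : H ⟶ DRing.homCx P W) [QuasiIso s] (s' : H' ⟶ DRing.homCx P W) [QuasiIso s'] :
    QuasiIso (row G P W s) ↔ QuasiIso (row G P W s') := by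
  haveI : IsIso (DerivedCategory.Q.map s') :=
    (DerivedCategory.isIso_Q_map_iff_quasiIso (φ := s')).mpr inferInstance
  haveI : IsIso (DerivedCategory.Q.map s) :=
    (DerivedCategory.isIso_Q_map_iff_quasiIso (φ := s)).mpr inferInstance
  obtain ⟨u, hu⟩ := exists_lift_of_isKProjective H H'
    (DerivedCategory.Q.map s ≫ inv (DerivedCategory.Q.map s'))
  haveI : IsIso (DerivedCategory.Q.map u) := by
    rw [hu]
    infer_instance
  haveI : QuasiIso u := (DerivedCategory.isIso_Q_map_iff_quasiIso (φ := u)).mp inferInstance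
  have h1 : DerivedCategory.Q.map (u ≫ s') = DerivedCategory.Q.map s := by
    rw [Functor.map_comp, hu, Category.assoc, IsIso.inv_hom_id, Category.comp_id]
  obtain ⟨Hh⟩ := homotopy_of_Q_map_eq H _ _ _ h1
  have h2 : DerivedCategory.Q.map (G ◁ (u ≫ s')) = DerivedCategory.Q.map (G ◁ s) := by
    have := Q_map_tensorHom_eq (Homotopy.refl (𝟙 G)) Hh
    rw [MonoidalCategory.id_tensorHom, MonoidalCategory.id_tensorHom] at this
    exact this
  have h3 : DerivedCategory.Q.map (row G P W s) =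
      DerivedCategory.Q.map (G ◁ u) ≫ DerivedCategory.Q.map (row G P W s') := by
    dsimp only [row]
    rw [Functor.map_comp, ← h2, MonoidalCategory.whiskerLeft_comp, Functor.map_comp,
      Functor.map_comp, Category.assoc]
  haveI := quasiIso_whiskerLeft_of_isKProjective G u
  haveI : IsIso (DerivedCategory.Q.map (G ◁ u)) :=
    (DerivedCategory.isIso_Q_map_iff_quasiIso (φ := G ◁ u)).mpr inferInstance
  rw [← DerivedCategory.isIso_Q_map_iff_quasiIso, ← DerivedCategory.isIso_Q_map_iff_quasiIso,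
    h3]
  constructor
  · intro _
    exact IsIso.of_isIso_comp_left (DerivedCategory.Q.map (G ◁ u)) _
  · intro _
    infer_instance

end RowChange

section Main

variable {R A R' A' : Type u} [CommRing R] [CommRing A] [CommRing R'] [CommRing A']
  {φ : R →+* A} {ρ : R →+* R'} {α : A →+* A'} {φ' : R' →+* A'} {h : α.comp φ = φ'.comp ρ}

/-- `TrivBC.bcMap` is the abstract base change map -/
theorem bcMap_eq_bc [DRing.HasLBaseChange ρ] [DRing.HasLBaseChange α]
    (adjρ : DRing.LBaseChange ρ ⊣ DRing.restrictD ρ)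
    (adjα : DRing.LBaseChange α ⊣ DRing.restrictD α)
    {Rφ : Dual.D R ⥤ Dual.D A} (adj : DRing.restrictD φ ⊣ Rφ)
    {Rφ' : Dual.D R' ⥤ Dual.D A'} (adj' : DRing.restrictD φ' ⊣ Rφ') (K : Dual.D R)
    (hc : IsIso (TrivBC.cmp adjρ adjα h (Rφ.obj K))) :
    TrivBC.bcMap adjρ adjα h adj adj' K hc =
      bc (TrivBC.resComm h) adjρ adjα adj adj' K hc := rfl

/-- the criterion with all base change adjunctions the chosen ones -/
theorem isIso_bc_iff_row [DTen.HasLBase φ] [DTen.HasLBase ρ] [DTen.HasLBase α]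
    (hτ : SqIso φ ρ α φ' h) (hT : TorInd φ ρ)
    {Rφ : Dual.D R ⥤ Dual.D A} (adj : DRing.restrictD φ ⊣ Rφ)
    {Rφ' : Dual.D R' ⥤ Dual.D A'} (adj' : DRing.restrictD φ' ⊣ Rφ') (K : Dual.D R)
    {P : DRing.Cx R} [P.IsKProjective] (p : P ⟶ SB φ) [QuasiIso p]
    (W : DRing.Cx R) [W.IsKProjective] (eW : (DerivedCategory.Q.obj W : Dual.D R) ≅ K)
    {H : DRing.Cx R} [H.IsKProjective] (s : H ⟶ DRing.homCx P W) [QuasiIso s] :
    IsIso (bc (TrivBC.resComm h) (DTen.baseAdj ρ) (DTen.baseAdj α) adj adj' K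
      (isIso_cmpB hτ hT _)) ↔ QuasiIso (row (FB ρ) P W s) := by
  have hm : ∀ G : Dual.D A, IsIso (Mate.mate (TrivBC.resComm h) (DTen.baseAdj ρ)
      (DTen.baseAdj α) G) := fun G => isIso_cmpB hτ hT G
  rw [isIso_bc_iff (TrivBC.resComm h) (DTen.baseAdj ρ) (DTen.baseAdj α) adj adj'
    (DTen.baseAdj φ) hm K]
  -- a K-projective representative of `Rφ K`
  obtain ⟨X, hX, -, ⟨gX⟩⟩ := exists_kprojective_rep (Rφ.obj K)
  haveI := hX
  obtain ⟨ε₀, hε₀⟩ : ∃ ε₀ : (DRing.restrictD φ).obj (DerivedCategory.Q.obj X) ⟶ K,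
      ε₀ = (DRing.restrictD φ).map gX.hom ≫ adj.counit.app K := ⟨_, rfl⟩
  -- a K-projective resolution of its restriction
  obtain ⟨YG, q, hYG, -, hq⟩ := exists_kprojective_resolution ((DTen.resCx φ).obj X)
  haveI := hYG
  haveI := hq
  haveI := isKProjective_tensor YG P
  obtain ⟨b, hb'⟩ := exists_lift_of_isKProjective (YG ⊗ P) W
    (DerivedCategory.Q.map ((q ▷ P) ≫ actX p X) ≫ (DTen.resFactors φ).inv.app X ≫ ε₀ ≫ eW.inv)
  have hb : DerivedCategory.Q.map b ≫ eW.hom =
      DerivedCategory.Q.map ((q ▷ P) ≫ actX p X) ≫ (DTen.resFactors φ).inv.app X ≫ ε₀ := by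
    rw [hb']
    simp only [Category.assoc, Iso.inv_hom_id, Category.comp_id]
  -- the universal property
  have hU : ∀ M : Dual.D R, Function.Bijective
      (Psi (DTen.baseAdj φ) (DerivedCategory.Q.obj X) ε₀ M) := by
    intro M
    have h1 : Psi (DTen.baseAdj φ) (DerivedCategory.Q.obj X) ε₀ M =
        Psi (DTen.baseAdj φ) (Rφ.obj K) (K := K) (adj.counit.app K) M ∘
          (fun v => v ≫ (DRing.restrictD φ).map gX.hom) := by
      funext v
      rw [hε₀]
      exact Psi_transport (DTen.baseAdj φ) gX.hom (adj.counit.app K) M v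
    rw [h1]
    exact (bijective_Psi adj (DTen.baseAdj φ) K M).comp (bijective_postcomp _)
  haveI hs : QuasiIso (curH b) := quasiIso_curH p X W eW ε₀ q b hb hU
  rw [quasiIso_row_change (FB ρ) P W s (curH b),
    quasiIso_row_iff_bijective_Phi p X W eW ε₀ q b hτ hT (hm _) hb]
  -- transport along `gX`
  have ht : ∀ (M : Dual.D R), Phi (TrivBC.resComm h) (DTen.baseAdj ρ) (DTen.baseAdj α)
      (DTen.baseAdj φ) (DerivedCategory.Q.obj X) ε₀ (hm _) M =
      Phi (TrivBC.resComm h) (DTen.baseAdj ρ) (DTen.baseAdj α) (DTen.baseAdj φ) (Rφ.obj K)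
        (K := K) (adj.counit.app K) (hm _) M ∘
        (fun w => w ≫ (DRing.restrictD φ).map ((DRing.restrictD α).map
          ((DTen.LBase α).map gX.hom))) := by
    intro M
    funext w
    rw [hε₀]
    exact Phi_transport (TrivBC.resComm h) (DTen.baseAdj ρ) (DTen.baseAdj α) (DTen.baseAdj φ)
      gX.hom (adj.counit.app K) (hm _) (hm _) M w
  have ht' : ∀ (M : Dual.D R), Function.Bijective (Phi (TrivBC.resComm h) (DTen.baseAdj ρ)
      (DTen.baseAdj α) (DTen.baseAdj φ) (DerivedCategory.Q.obj X) ε₀ (hm _) M) ↔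
      Function.Bijective (Phi (TrivBC.resComm h) (DTen.baseAdj ρ) (DTen.baseAdj α)
        (DTen.baseAdj φ) (Rφ.obj K) (K := K) (adj.counit.app K) (hm _) M) := by
    intro M
    rw [ht M]
    exact Function.Bijective.of_comp_iff _ (bijective_postcomp _)
  constructor
  · intro hall Y _
    exact (ht' _).mpr (hall _)
  · intro hY M
    obtain ⟨Y, hYp, -, ⟨e⟩⟩ := exists_kprojective_rep M
    haveI := hYp
    have h2 := (ht' _).mp (hY Y)
    -- naturality in `M`
    have h3 : (fun f => (DRing.restrictD φ).map ((DTen.LBase φ).map e.hom) ≫ f) ∘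
        Phi (TrivBC.resComm h) (DTen.baseAdj ρ) (DTen.baseAdj α) (DTen.baseAdj φ) (Rφ.obj K)
          (K := K) (adj.counit.app K) (hm _) M =
        Phi (TrivBC.resComm h) (DTen.baseAdj ρ) (DTen.baseAdj α) (DTen.baseAdj φ) (Rφ.obj K)
          (K := K) (adj.counit.app K) (hm _) (DerivedCategory.Q.obj Y) ∘
          (fun w => e.hom ≫ w) := by
      funext w
      exact (Phi_nat (TrivBC.resComm h) (DTen.baseAdj ρ) (DTen.baseAdj α) (DTen.baseAdj φ)
        (Rφ.obj K) (adj.counit.app K) (hm _) e.hom w).symm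
    have h4 : Function.Bijective ((fun f => (DRing.restrictD φ).map ((DTen.LBase φ).map e.hom) ≫ f) ∘
        Phi (TrivBC.resComm h) (DTen.baseAdj ρ) (DTen.baseAdj α) (DTen.baseAdj φ) (Rφ.obj K)
          (K := K) (adj.counit.app K) (hm _) M) := by
      rw [h3]
      exact h2.comp (bijective_precomp _)
    exact (Function.Bijective.of_comp_iff' (bijective_precomp _) _).mp h4

/-- the criterion: the base change map of trivial duality is an isomorphism iff the row is a
quasi-isomorphism -/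
theorem isIso_bcMap_iff_row (hτ : SqIso φ ρ α φ' h) (hT : TorInd φ ρ)
    [DRing.HasLBaseChange ρ] [DRing.HasLBaseChange α]
    (adjρ : DRing.LBaseChange ρ ⊣ DRing.restrictD ρ)
    (adjα : DRing.LBaseChange α ⊣ DRing.restrictD α)
    {Rφ : Dual.D R ⥤ Dual.D A} (adj : DRing.restrictD φ ⊣ Rφ)
    {Rφ' : Dual.D R' ⥤ Dual.D A'} (adj' : DRing.restrictD φ' ⊣ Rφ') (K : Dual.D R)
    (hc : IsIso (TrivBC.cmp adjρ adjα h (Rφ.obj K)))
    {P : DRing.Cx R} [P.IsKProjective] (p : P ⟶ SB φ) [QuasiIso p]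
    (W : DRing.Cx R) [W.IsKProjective] (eW : (DerivedCategory.Q.obj W : Dual.D R) ≅ K)
    {H : DRing.Cx R} [H.IsKProjective] (s : H ⟶ DRing.homCx P W) [QuasiIso s] :
    IsIso (TrivBC.bcMap adjρ adjα h adj adj' K hc) ↔ QuasiIso (row (FB ρ) P W s) := by
  haveI : DTen.HasLBase ρ := ⟨adjρ.isRightAdjoint⟩
  haveI : DTen.HasLBase α := ⟨adjα.isRightAdjoint⟩
  haveI : DRing.HasLBaseChange φ := KP.hasLeftDerivedFunctor _
  haveI : DTen.HasLBase φ := ⟨(adjD φ).isRightAdjoint⟩
  rw [bcMap_eq_bc, isIso_bc_change (TrivBC.resComm h) (DTen.baseAdj ρ) (DTen.baseAdj α) adjρ adjα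
    adj adj' K (isIso_cmpB hτ hT _) hc]
  exact isIso_bc_iff_row hτ hT adj adj' K p W eW s

end Main

end Groth.Agent.Helper3.TC
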