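import Groth.Agent.Lib.Helper3.TC8
import Groth.Agent.Lib.Helper3.BC8

/-!
# The base change map of trivial duality: the perfect and the pseudo-coherent cases (helper3)
-/

set_option autoImplicit false

open CategoryTheory CategoryTheory.Limits MonoidalCategory

universe u

attribute [local instance] HasDerivedCategory.standard

namespace Groth.Agent.Helper3.TC

open Groth.Agent.Helper11.LDer Groth.Agent.Helper11.DC Groth.Agent.Helper11.Tel
  Groth.Agent.Helper11.Dev
open Groth.Agent.Helper3.HT Groth.Agent.Helper3.DT Groth.Agent.Helper3.RH Groth.Agent.Helper3.TH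
open Groth.Agent.Helper3.BC Groth.Agent.Helper3.TB Groth.Agent.Helper3.KP
open Groth.Agent.Helper3.KF Groth.Agent.Helper3.DS

section Cases

variable (R A R' A' : Type u) [CommRing R] [CommRing A] [CommRing R'] [CommRing A']
  [Algebra R A] [Algebra R R'] [Algebra A A'] [Algebra R' A'] [Algebra R A']
  [IsScalarTower R A A'] [IsScalarTower R R' A'] [Algebra.IsPushout R A R' A']

/-- a K-projective `P` with `Q P ≅ A[0]` maps quasi-isomorphically to `SB` -/
theorem exists_lift_SB (P : DRing.Cx R) [P.IsKProjective]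
    (e : (DerivedCategory.Q.obj P : Dual.D R) ≅ Dual.inD R A) :
    ∃ p : P ⟶ SB (algebraMap R A), QuasiIso p := by
  obtain ⟨p, hp⟩ := exists_lift_of_isKProjective P (SB (algebraMap R A))
    (e ≪≫ (eSB R A).symm).hom
  refine ⟨p, ?_⟩
  rw [← DerivedCategory.isIso_Q_map_iff_quasiIso, hp]
  infer_instance

variable {R A R' A'}

/-- the perfect case -/
theorem isIso_bcMap_of_perfect
    (hperf : DRing.IsPerfectModule R A)
    (htor : ∀ p : ℕ, 1 ≤ p → Subsingleton (DRing.Tor R p A R'))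
    [DRing.HasLBaseChange (algebraMap R R')] [DRing.HasLBaseChange (algebraMap A A')]
    (adjρ : DRing.LBaseChange (algebraMap R R') ⊣ DRing.restrictD (algebraMap R R'))
    (adjα : DRing.LBaseChange (algebraMap A A') ⊣ DRing.restrictD (algebraMap A A'))
    (h : (algebraMap A A').comp (algebraMap R A) = (algebraMap R' A').comp (algebraMap R R'))
    (Rφ : Dual.D R ⥤ Dual.D A) (adj : DRing.restrictD (algebraMap R A) ⊣ Rφ)
    (Rφ' : Dual.D R' ⥤ Dual.D A') (adj' : DRing.restrictD (algebraMap R' A') ⊣ Rφ')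
    (K : Dual.D R) (hc : IsIso (TrivBC.cmp adjρ adjα h (Rφ.obj K))) :
    IsIso (TrivBC.bcMap adjρ adjα h adj adj' K hc) := by
  obtain ⟨E, a, b, hE, hfp, ⟨eE⟩⟩ := hperf
  obtain ⟨W, hW, -, ⟨eW⟩⟩ := exists_kprojective_rep K
  haveI := hW
  haveI := isKProjective_of_bounded E a b hE hfp
  haveI := isKProjective_homCx_of_perfect E a b hE hfp W
  obtain ⟨p, hp⟩ := exists_lift_SB R A E eE
  haveI := hp
  haveI : QuasiIso (𝟙 (DRing.homCx E W)) := inferInstance
  rw [isIso_bcMap_iff_row (fun M => isIso_sqτ₀ R A R' A' M h)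
    (quasiIso_ext_π' _ _ (isZero_tor_Bm R A R' htor)) adjρ adjα adj adj' K hc p W eW
    (𝟙 (DRing.homCx E W))]
  rw [row, MonoidalCategory.whiskerLeft_id, Category.id_comp]
  exact quasiIso_θ_of_perfect_mid E a b hE hfp (FB (algebraMap R R')) W

/-- the pseudo-coherent case -/
theorem isIso_bcMap_of_pseudoCoherent
    (hpc : DRing.IsPseudoCoherentModule' R A)
    (hfd : DRing.HasFiniteTorDim R R')
    (htor : ∀ p : ℕ, 1 ≤ p → Subsingleton (DRing.Tor R p A R'))
    [DRing.HasLBaseChange (algebraMap R R')] [DRing.HasLBaseChange (algebraMap A A')]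
    (adjρ : DRing.LBaseChange (algebraMap R R') ⊣ DRing.restrictD (algebraMap R R'))
    (adjα : DRing.LBaseChange (algebraMap A A') ⊣ DRing.restrictD (algebraMap A A'))
    (h : (algebraMap A A').comp (algebraMap R A) = (algebraMap R' A').comp (algebraMap R R'))
    (Rφ : Dual.D R ⥤ Dual.D A) (adj : DRing.restrictD (algebraMap R A) ⊣ Rφ)
    (Rφ' : Dual.D R' ⥤ Dual.D A') (adj' : DRing.restrictD (algebraMap R' A') ⊣ Rφ')
    (K : Dual.D R) (n : ℤ) [K.IsGE n] (hc : IsIso (TrivBC.cmp adjρ adjα h (Rφ.obj K))) :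
    IsIso (TrivBC.bcMap adjρ adjα h adj adj' K hc) := by
  obtain ⟨P, b, hPb, hPf, ⟨eP⟩⟩ := hpc
  obtain ⟨Wg, hWg, ⟨eWg⟩⟩ := exists_strictlyGE_rep K n inferInstance
  have hPp : ∀ i, Module.Projective R (P.X i) := fun i => by
    haveI := (hPf i).2
    infer_instance
  haveI : P.IsKProjective := isKProjective_of_vanishesAbove P b hPb hPp
  obtain ⟨F, f, hF, -, hf⟩ := exists_kprojective_resolution Wg
  haveI := hF
  haveI := hf
  obtain ⟨H, s, hH, -, hs⟩ := exists_kprojective_resolution (DRing.homCx P F)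
  haveI := hH
  haveI := hs
  haveI : IsIso (DerivedCategory.Q.map f) := by
    rw [DerivedCategory.isIso_Q_map_iff_quasiIso]
    infer_instance
  obtain ⟨p, hp⟩ := exists_lift_SB R A P eP
  haveI := hp
  obtain ⟨G, c, d, hG, hfl, ⟨e⟩⟩ := exists_flat_rep_of_hasFiniteTorDim R R' hfd
  rw [isIso_bcMap_iff_row (fun M => isIso_sqτ₀ R A R' A' M h)
    (quasiIso_ext_π' _ _ (isZero_tor_Bm R A R' htor)) adjρ adjα adj adj' K hc p F
    (asIso (DerivedCategory.Q.map f) ≪≫ eWg) s]
  haveI : IsIso (DerivedCategory.Q.map (fB (algebraMap R R'))) := by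
    rw [DerivedCategory.isIso_Q_map_iff_quasiIso]
    infer_instance
  refine quasiIso_row_of_iso
    (e ≪≫ (asIso (DerivedCategory.Q.map (fB (algebraMap R R')))).symm) P F s ?_
  -- the row for `G` is a quasi-isomorphism
  have hGb : ∀ i : ℤ, d < i → IsZero (G.X i) := fun i hi => hG i (Or.inr hi)
  have hid : row G P F s ≫ DRing.homCxMap P (G ◁ f) =
      (G ◁ (s ≫ DRing.homCxMap P f)) ≫ θ G P Wg := by
    rw [row, Category.assoc, ← θ_nat_W, ← Category.assoc, ← MonoidalCategory.whiskerLeft_comp]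
  haveI := Groth.Agent.Helper11.RHomK.quasiIso_homCxMap P f
  haveI : QuasiIso (G ◁ (s ≫ DRing.homCxMap P f)) :=
    Groth.Agent.Helper11.LTen.quasiIso_whiskerLeft_of_flat_bddAbove G d hGb hfl _ inferInstance
  haveI : IsIso (θ G P Wg) := isIso_θ_of_bounds G P Wg c d b n hG hPb
    (fun i => ⟨(hPf i).1, hPp i⟩) hWg
  haveI : QuasiIso (G ◁ f) :=
    Groth.Agent.Helper11.LTen.quasiIso_whiskerLeft_of_flat_bddAbove G d hGb hfl f hf
  haveI := Groth.Agent.Helper11.RHomK.quasiIso_homCxMap P (G ◁ f)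
  haveI : QuasiIso (row G P F s ≫ DRing.homCxMap P (G ◁ f)) := by
    rw [hid]
    infer_instance
  exact quasiIso_of_comp_right (row G P F s) (DRing.homCxMap P (G ◁ f))

end Cases

end Groth.Agent.Helper3.TC
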