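import Groth.Agent.Lib.Helper3.RH1
import Groth.Agent.Lib.Helper3.DT4
import Groth.Agent.Lib.Helper3.DT3

/-!
# The chain-level map `K ⊗ Hom(P, W) ⟶ Hom(P, K ⊗ W)` and its relation to `evalTen` (helper3)
-/

set_option autoImplicit false

open CategoryTheory CategoryTheory.Limits MonoidalCategory

universe u

attribute [local instance] HasDerivedCategory.standard

namespace Groth.Agent.Helper3.TH

open Groth.Agent.Helper11.LDer Groth.Agent.Helper11.DC Groth.Agent.Helper11.Tel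
open Groth.Agent.Helper3.HT Groth.Agent.Helper3.DT Groth.Agent.Helper3.RH

variable {A : Type u} [CommRing A]

/-- the chain-level map `K ⊗ Hom(P, W) ⟶ Hom(P, K ⊗ W)` -/
noncomputable def θ (K P W : DRing.Cx A) : K ⊗ DRing.homCx P W ⟶ DRing.homCx P (K ⊗ W) :=
  curH ((α_ K (DRing.homCx P W) P).hom ≫ K ◁ evH P W)

theorem uncH_θ (K P W : DRing.Cx A) :
    uncH (θ K P W) = (α_ K (DRing.homCx P W) P).hom ≫ K ◁ evH P W := uncH_curH _

section

variable [DTen.HasLTen A] [DTen.HasLTen₃ A] [DTen.IsSymMonoidal A]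

/-- the associator of `D(A)` on images of complexes, in terms of the counits -/
@[reassoc]
theorem associator_ε (X Y Z : DRing.Cx A) :
    (DTen.associator (DerivedCategory.Q.obj X) (DerivedCategory.Q.obj Y)
        (DerivedCategory.Q.obj Z)).hom ≫
      tL(DerivedCategory.Q.obj X, (DTen.ε A).app (Y, Z)) ≫ (DTen.ε A).app (X, Y ⊗ Z) =
    tR((DTen.ε A).app (X, Y), DerivedCategory.Q.obj Z) ≫ (DTen.ε A).app (X ⊗ Y, Z) ≫
      DerivedCategory.Q.map (α_ X Y Z).hom := by
  have h1 := DTen.assocR_fac A (X, (Y, Z))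
  have h2 := DTen.assocL_fac A (X, (Y, Z))
  have h3 := DTen.associator_hom_assocR (DerivedCategory.Q.obj X) (DerivedCategory.Q.obj Y)
    (DerivedCategory.Q.obj Z)
  change _ ≫ (DTen.βR A).app (X, (Y, Z)) = (DTen.βL A).app (X, (Y, Z))
  rw [← h1, ← h2]
  exact (Category.assoc _ _ _).symm.trans (congrArg (· ≫ (DTen.ε₃ A).app (X, (Y, Z))) h3)

@[reassoc]
theorem associator_nat_mid (a : Dual.D A) {b b' : Dual.D A} (g : b ⟶ b') (c : Dual.D A) :
    tR(tL(a, g), c) ≫ (DTen.associator a b' c).hom = (DTen.associator a b c).hom ≫ tL(a, tR(g, c)) := by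
  have h := associator_naturality (A := A) (a := a) (b := b) (c := c) (a' := a) (b' := b')
    (c' := c) (Prod.mkHom (𝟙 a) (Prod.mkHom g (𝟙 c)))
  exact h

omit [DTen.HasLTen₃ A] [DTen.IsSymMonoidal A] in
theorem isIso_tL (K : Dual.D A) {L L' : Dual.D A} (g : L ⟶ L') [IsIso g] : IsIso tL(K, g) := by
  haveI := isIso_prod_mkHom (𝟙 K) g
  infer_instance

omit [DTen.HasLTen₃ A] [DTen.IsSymMonoidal A] in
theorem isIso_tR {K K' : Dual.D A} (g : K ⟶ K') [IsIso g] (L : Dual.D A) : IsIso tR(g, L) := by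
  haveI := isIso_prod_mkHom g (𝟙 L)
  infer_instance

variable [DTen.HasRHom A]

omit [DTen.HasLTen₃ A] [DTen.IsSymMonoidal A] in
@[reassoc]
theorem tR_map_ev {M Y Y' : Dual.D A} (f : Y ⟶ Y') :
    tR((DTen.RHomR A M).map f, M) ≫ DTen.ev M Y' = DTen.ev M Y ≫ f :=
  (DTen.rhomAdj A M).counit.naturality f

/-- translation: `evalTen` on images of K-projective complexes is an isomorphism as soon as the
chain-level map is a quasi-isomorphism -/
theorem isIso_evalTen_of_quasiIso (K P W R' : DRing.Cx A) [K.IsKProjective] [P.IsKProjective]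
    [W.IsKProjective] [R'.IsKProjective] (s : R' ⟶ DRing.homCx P W) [QuasiIso s]
    (hθ : QuasiIso ((K ◁ s) ≫ θ K P W)) :
    IsIso (DTen.evalTen (DerivedCategory.Q.obj K) (DerivedCategory.Q.obj W)
      (DerivedCategory.Q.obj P)) := by
  haveI := isIso_ε K W
  haveI := isIso_ε K R'
  haveI : IsIso (DerivedCategory.Q.map s) := (DerivedCategory.isIso_Q_map_iff_quasiIso (φ := s)).mpr
    inferInstance
  haveI : IsIso (DerivedCategory.Q.map ((K ◁ s) ≫ θ K P W)) :=
    (DerivedCategory.isIso_Q_map_iff_quasiIso (φ := (K ◁ s) ≫ θ K P W)).mpr hθ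
  haveI : IsIso (rhoHom P W) := (inferInstance : IsIso (rho P W).hom)
  haveI : IsIso (rhoInv P (K ⊗ W)) := (inferInstance : IsIso (rho P (K ⊗ W)).inv)
  obtain ⟨ρ', hρ'iso, hρ⟩ : ∃ ρ' : (DTen.RHomR A (DerivedCategory.Q.obj P)).obj
      (DerivedCategory.Q.obj W) ⟶ DerivedCategory.Q.obj R', IsIso ρ' ∧
      rhoHom P W = ρ' ≫ DerivedCategory.Q.map s :=
    ⟨rhoHom P W ≫ inv (DerivedCategory.Q.map s), inferInstance, by
      rw [Category.assoc, IsIso.inv_hom_id, Category.comp_id]⟩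
  haveI := isIso_tL (DerivedCategory.Q.obj K) ρ'
  obtain ⟨εi, hεi, hεiso⟩ : ∃ εi : DerivedCategory.Q.obj (K ⊗ W) ⟶
      (DTen.LTen₂ A).obj (DerivedCategory.Q.obj K, DerivedCategory.Q.obj W),
      εi ≫ (DTen.ε A).app (K, W) = 𝟙 _ ∧ IsIso εi :=
    ⟨inv ((DTen.ε A).app (K, W)), IsIso.inv_hom_id _, inferInstance⟩
  have key : DTen.evalTen (DerivedCategory.Q.obj K) (DerivedCategory.Q.obj W)
      (DerivedCategory.Q.obj P) = tL(DerivedCategory.Q.obj K, ρ') ≫ (DTen.ε A).app (K, R') ≫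
    DerivedCategory.Q.map ((K ◁ s) ≫ θ K P W) ≫ rhoInv P (K ⊗ W) ≫
    (DTen.RHomR A (DerivedCategory.Q.obj P)).map εi := by
    apply adj_ext
    rw [DTen.evalTen_fac, ← cancel_mono ((DTen.ε A).app (K, W))]
    -- left side
    have hev : DTen.ev (DerivedCategory.Q.obj P) (DerivedCategory.Q.obj W) =
        tR(ρ', DerivedCategory.Q.obj P) ≫ (DTen.ε A).app (R', P) ≫
          DerivedCategory.Q.map ((s ▷ P) ≫ evH P W) := by
      rw [← rhoHom_spec, hρ, tR_comp, Category.assoc, evD, ε_nat_left_assoc, ← Functor.map_comp]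
    have hL : DTen.evalTenAux (DerivedCategory.Q.obj K) (DerivedCategory.Q.obj W)
        (DerivedCategory.Q.obj P) ≫ (DTen.ε A).app (K, W) =
        tR(tL(DerivedCategory.Q.obj K, ρ'), DerivedCategory.Q.obj P) ≫
          tR((DTen.ε A).app (K, R'), DerivedCategory.Q.obj P) ≫ (DTen.ε A).app (K ⊗ R', P) ≫
          DerivedCategory.Q.map ((α_ K R' P).hom ≫ K ◁ ((s ▷ P) ≫ evH P W)) := by
      rw [DTen.evalTenAux, hev, tL_comp, tL_comp, Category.assoc, Category.assoc, Category.assoc,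
        ε_nat_right, ← associator_nat_mid_assoc]
      erw [associator_ε_assoc]
      rw [Functor.map_comp]
    rw [hL]
    rw [tR_comp, tR_comp, tR_comp, tR_comp]
    simp only [Category.assoc]
    have hchain : ((K ◁ s) ≫ θ K P W) ▷ P ≫ evH P (K ⊗ W) =
        (α_ K R' P).hom ≫ K ◁ ((s ▷ P) ≫ evH P W) := by
      rw [← uncH_eq, uncH_comp_left, uncH_θ, ← Category.assoc,
        MonoidalCategory.associator_naturality_middle, Category.assoc,
        ← MonoidalCategory.whiskerLeft_comp]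
    rw [tR_map_ev_assoc, rhoInv_spec_assoc, hεi, Category.comp_id, evD, ε_nat_left_assoc,
      ← Functor.map_comp, hchain]
    rfl
  rw [key]
  infer_instance

omit [DTen.HasRHom A] in
@[reassoc]
theorem associator_nat_left {a a' : Dual.D A} (x : a ⟶ a') (b c : Dual.D A) :
    tR(tR(x, b), c) ≫ (DTen.associator a' b c).hom =
      (DTen.associator a b c).hom ≫ tR(x, (DTen.LTen₂ A).obj (b, c)) :=
  associator_naturality_left x b c

omit [DTen.HasRHom A] in
@[reassoc]
theorem associator_nat_right (a b : Dual.D A) {c c' : Dual.D A} (x : c ⟶ c') :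
    tL((DTen.LTen₂ A).obj (a, b), x) ≫ (DTen.associator a b c').hom =
      (DTen.associator a b c).hom ≫ tL(a, tL(b, x)) := by
  have h := associator_naturality (A := A) (a := a) (b := b) (c := c) (a' := a) (b' := b)
    (c' := c') (Prod.mkHom (𝟙 a) (Prod.mkHom (𝟙 b) x))
  dsimp only [DTen.LTenL] at h
  erw [← prod_id, CategoryTheory.Functor.map_id] at h
  exact h

@[reassoc]
theorem evalTen_fac' (K L M : Dual.D A) :
    tR(DTen.evalTen K L M, M) ≫ DTen.ev M ((DTen.LTen₂ A).obj (K, L)) = DTen.evalTenAux K L M :=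
  DTen.evalTen_fac K L M

theorem evalTen_nat_K {K K' : Dual.D A} (k : K ⟶ K') (L M : Dual.D A) :
    tR(k, (DTen.RHomR A M).obj L) ≫ DTen.evalTen K' L M =
      DTen.evalTen K L M ≫ (DTen.RHomR A M).map tR(k, L) := by
  apply adj_ext
  rw [tR_comp, tR_comp, Category.assoc, Category.assoc, DTen.evalTen_fac, tR_map_ev,
    evalTen_fac'_assoc, DTen.evalTenAux, DTen.evalTenAux, associator_nat_left_assoc,
    Category.assoc, tR_tL]

theorem evalTen_nat_L (K : Dual.D A) {L L' : Dual.D A} (l : L ⟶ L') (M : Dual.D A) :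
    tL(K, (DTen.RHomR A M).map l) ≫ DTen.evalTen K L' M =
      DTen.evalTen K L M ≫ (DTen.RHomR A M).map tL(K, l) := by
  apply adj_ext
  rw [tR_comp, tR_comp, Category.assoc, Category.assoc, DTen.evalTen_fac, tR_map_ev,
    evalTen_fac'_assoc, DTen.evalTenAux, DTen.evalTenAux, associator_nat_mid_assoc,
    Category.assoc, ← tL_comp, ← tL_comp, tR_map_ev]

theorem evalTen_nat_M (K L : Dual.D A) {M M' : Dual.D A} (m : M' ⟶ M) :
    tL(K, DTen.RHomMap m L) ≫ DTen.evalTen K L M' =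
      DTen.evalTen K L M ≫ DTen.RHomMap m ((DTen.LTen₂ A).obj (K, L)) := by
  apply adj_ext
  rw [tR_comp, tR_comp, Category.assoc, Category.assoc, DTen.evalTen_fac, DTen.RHom_map_ev,
    tR_tL_assoc, DTen.evalTen_fac, DTen.evalTenAux, DTen.evalTenAux, associator_nat_mid_assoc,
    associator_nat_right_assoc, ← tL_comp, ← tL_comp, DTen.RHom_map_ev]

omit [DTen.HasLTen A] [DTen.HasLTen₃ A] [DTen.IsSymMonoidal A] [DTen.HasRHom A] in
theorem isIso_of_square {C : Type*} [Category C] {X X' Y Y' : C} {a : X ⟶ X'} {b : Y ⟶ Y'}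
    {f : X ⟶ Y} {f' : X' ⟶ Y'} (h : a ≫ f' = f ≫ b) [IsIso a] [IsIso b] [IsIso f'] : IsIso f := by
  have : f = a ≫ f' ≫ inv b := by
    rw [← Category.assoc, h, Category.assoc, IsIso.hom_inv_id, Category.comp_id]
  rw [this]
  infer_instance

theorem isIso_evalTen_of_iso {K K' L L' M M' : Dual.D A} (eK : K ≅ K') (eL : L ≅ L')
    (eM : M ≅ M') (h : IsIso (DTen.evalTen K' L' M')) : IsIso (DTen.evalTen K L M) := by
  have h1 : IsIso (DTen.evalTen K L' M') := by
    haveI := isIso_tR eK.hom ((DTen.RHomR A M').obj L')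
    haveI := isIso_tR eK.hom L'
    exact isIso_of_square (evalTen_nat_K eK.hom L' M')
  have h2 : IsIso (DTen.evalTen K L M') := by
    haveI := isIso_tL K ((DTen.RHomR A M').map eL.hom)
    haveI := isIso_tL K eL.hom
    exact isIso_of_square (evalTen_nat_L K eL.hom M')
  haveI : IsIso ((DTen.RHom A).map eM.inv.op) :=
    (inferInstance : IsIso ((DTen.RHom A).mapIso eM.symm.op).hom)
  haveI : IsIso (DTen.RHomMap eM.inv L) :=
    NatIso.isIso_app_of_isIso ((DTen.RHom A).map eM.inv.op) L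
  haveI : IsIso (DTen.RHomMap eM.inv ((DTen.LTen₂ A).obj (K, L))) :=
    NatIso.isIso_app_of_isIso ((DTen.RHom A).map eM.inv.op) _
  haveI := isIso_tL K (DTen.RHomMap eM.inv L)
  exact isIso_of_square (evalTen_nat_M K L eM.inv)

end

end Groth.Agent.Helper3.TH
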