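import Groth.Agent.Lib.Helper3.TH1
import Groth.Agent.Lib.Helper3.TH2

/-!
# The chain-level map `θ : K ⊗ Hom(P, W) ⟶ Hom(P, K ⊗ W)`: formulas, naturality, base cases
-/

set_option autoImplicit false

open CategoryTheory CategoryTheory.Limits MonoidalCategory CochainComplex HomComplex
open scoped TensorProduct

universe u

attribute [local instance] HasDerivedCategory.standard

namespace Groth.Agent.Helper3.TH

open Groth.Agent.Helper3.HT Groth.Agent.Helper3.DS

variable {A : Type u} [CommRing A]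

theorem θ_apply (K P W : DRing.Cx A) (p q m : ℤ) (hpq : p + q = m) (x : K.X p)
    (f : (DRing.homCx P W).X q) (j k r : ℤ) (hjk : j + m = k) (hr : j + q = r) (y : P.X j) :
    ((toC (((θ K P W).f m).hom
      ((HomologicalComplex.ιTensorObj K (DRing.homCx P W) p q m hpq).hom (x ⊗ₜ[A] f)))).v j k hjk).hom y =
    (HomologicalComplex.ιTensorObj K W p r k (by omega)).hom
      (x ⊗ₜ[A] ((toC f).v j r hr).hom y) := by
  obtain rfl : r = q + j := by omega
  have h1 := curH_f_apply ((α_ K (DRing.homCx P W) P).hom ≫ K ◁ evH P W) m j k (by omega)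
    ((HomologicalComplex.ιTensorObj K (DRing.homCx P W) p q m hpq).hom (x ⊗ₜ[A] f)) y
  refine h1.trans ?_
  have h2 : (((α_ K (DRing.homCx P W) P).hom ≫ K ◁ evH P W).f k).hom
      ((HomologicalComplex.ιTensorObj (K ⊗ DRing.homCx P W) P m j k (by omega)).hom
        ((HomologicalComplex.ιTensorObj K (DRing.homCx P W) p q m hpq).hom (x ⊗ₜ[A] f) ⊗ₜ[A] y)) =
      ((K ◁ evH P W).f k).hom (((α_ K (DRing.homCx P W) P).hom.f k).hom
      ((HomologicalComplex.ιTensorObj (K ⊗ DRing.homCx P W) P m j k (by omega)).hom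
        ((HomologicalComplex.ιTensorObj K (DRing.homCx P W) p q m hpq).hom (x ⊗ₜ[A] f) ⊗ₜ[A] y))) := rfl
  rw [h2, associator_ι_tmul K (DRing.homCx P W) P p q j m k hpq (by omega) x f y,
    whiskerLeft_ι_tmul, evH_f_tmul P W q j (q + j) rfl f y]


@[reassoc]
theorem θ_nat_K {K K' : DRing.Cx A} (u : K ⟶ K') (P W : DRing.Cx A) :
    (u ▷ DRing.homCx P W) ≫ θ K' P W = θ K P W ≫ DRing.homCxMap P (u ▷ W) := by
  apply uncH_injective
  rw [uncH_comp_left, uncH_comp_right, uncH_θ, uncH_θ, ← Category.assoc,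
    MonoidalCategory.associator_naturality_left, Category.assoc, Category.assoc,
    MonoidalCategory.whisker_exchange]

theorem evH_dinat {P P' : DRing.Cx A} (u : P' ⟶ P) (W : DRing.Cx A) :
    (homCxPre u W ▷ P') ≫ evH P' W = (DRing.homCx P W ◁ u) ≫ evH P W := by
  have h1 := uncH_comp_pre (𝟙 (DRing.homCx P W)) u
  rw [Category.id_comp, uncH_eq] at h1
  exact h1

@[reassoc]
theorem θ_nat_P (K : DRing.Cx A) {P P' : DRing.Cx A} (u : P' ⟶ P) (W : DRing.Cx A) :
    (K ◁ homCxPre u W) ≫ θ K P' W = θ K P W ≫ homCxPre u (K ⊗ W) := by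
  apply uncH_injective
  rw [uncH_comp_left, uncH_comp_pre, uncH_θ, uncH_θ, ← Category.assoc,
    MonoidalCategory.associator_naturality_middle, Category.assoc,
    ← MonoidalCategory.whiskerLeft_comp, evH_dinat, MonoidalCategory.whiskerLeft_comp,
    ← Category.assoc, ← Category.assoc, MonoidalCategory.associator_naturality_right]


section DualBasis

variable {N : Type u} [AddCommGroup N] [Module A N]

/-- contraction with a linear functional -/
noncomputable def contr (γ : N →ₗ[A] A) (M : Type u) [AddCommGroup M] [Module A M] :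
    N ⊗[A] M →ₗ[A] M :=
  TensorProduct.lift ((LinearMap.lsmul A M) ∘ₗ γ)

@[simp]
theorem contr_tmul (γ : N →ₗ[A] A) (M : Type u) [AddCommGroup M] [Module A M] (x : N) (w : M) :
    contr γ M (x ⊗ₜ[A] w) = γ x • w := by
  simp [contr]

/-- dual basis data for a finite projective module -/
theorem exists_dualBasis (N : Type u) [AddCommGroup N] [Module A N] [Module.Finite A N]
    [Module.Projective A N] :
    ∃ (n : ℕ) (ν : Fin n → N) (γ : Fin n → (N →ₗ[A] A)), ∀ x : N, ∑ i, γ i x • ν i = x := by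
  obtain ⟨n, f, g, -, -, hfg⟩ := Module.Finite.exists_comp_eq_id_of_projective A N
  refine ⟨n, fun i => f (Pi.single i 1), fun i => (LinearMap.proj i) ∘ₗ g, fun x => ?_⟩
  have h1 : f (g x) = x := congrArg (fun φ => φ x) hfg
  conv_rhs => rw [← h1]
  rw [← (Pi.basisFun A (Fin n)).sum_repr (g x), map_sum]
  simp

theorem dualBasis_tensor {n : ℕ} (ν : Fin n → N) (γ : Fin n → (N →ₗ[A] A))
    (h : ∀ x : N, ∑ i, γ i x • ν i = x) (M : Type u) [AddCommGroup M] [Module A M]
    (z : N ⊗[A] M) : ∑ i, ν i ⊗ₜ[A] contr (γ i) M z = z := by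
  induction z using TensorProduct.induction_on with
  | zero => simp
  | tmul x w =>
    simp only [contr_tmul]
    conv_rhs => rw [← h x, TensorProduct.sum_tmul]
    refine Finset.sum_congr rfl (fun i _ => ?_)
    rw [TensorProduct.smul_tmul]
  | add z z' hz hz' =>
    simp only [map_add, TensorProduct.tmul_add, Finset.sum_add_distrib, hz, hz']

end DualBasis


section B2

variable (E : DRing.Cx A) (b : ℤ) (hz : ∀ p : ℤ, p ≠ b → IsZero (E.X p))

/-- the inverse of the inclusion `E^b ⊗ Y^r ⟶ (E ⊗ Y)^k` -/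
noncomputable def πL (Y : DRing.Cx A) (r k : ℤ) (h : b + r = k) : (E ⊗ Y).X k ⟶ E.X b ⊗ Y.X r :=
  @inv _ _ _ _ (HomologicalComplex.ιTensorObj E Y b r k h) (isIso_ι_left E Y b hz r k h)

@[reassoc]
theorem ι_πL (Y : DRing.Cx A) (r k : ℤ) (h : b + r = k) :
    HomologicalComplex.ιTensorObj E Y b r k h ≫ πL E b hz Y r k h = 𝟙 _ :=
  @IsIso.hom_inv_id _ _ _ _ (HomologicalComplex.ιTensorObj E Y b r k h) (isIso_ι_left E Y b hz r k h)

@[reassoc]
theorem πL_ι (Y : DRing.Cx A) (r k : ℤ) (h : b + r = k) :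
    πL E b hz Y r k h ≫ HomologicalComplex.ιTensorObj E Y b r k h = 𝟙 _ :=
  @IsIso.inv_hom_id _ _ _ _ (HomologicalComplex.ιTensorObj E Y b r k h) (isIso_ι_left E Y b hz r k h)

theorem πL_ι_apply (Y : DRing.Cx A) (r k : ℤ) (h : b + r = k) (z : (E ⊗ Y).X k) :
    (HomologicalComplex.ιTensorObj E Y b r k h).hom ((πL E b hz Y r k h).hom z) = z :=
  congrArg (fun φ => φ.hom z) (πL_ι E b hz Y r k h)

theorem ι_πL_apply (Y : DRing.Cx A) (r k : ℤ) (h : b + r = k) (z : (E.X b ⊗ Y.X r : ModuleCat.{u} A)) :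
    (πL E b hz Y r k h).hom ((HomologicalComplex.ιTensorObj E Y b r k h).hom z) = z :=
  congrArg (fun φ => φ.hom z) (ι_πL E b hz Y r k h)

variable (P W : DRing.Cx A)

/-- contraction of a cochain with values in `E ⊗ W` against a functional on `E^b` -/
noncomputable def cContr (γ : E.X b →ₗ[A] A) (q m : ℤ) (hqm : b + q = m) :
    Cochain P (E ⊗ W) m →ₗ[A] Cochain P W q where
  toFun t := Cochain.mk (fun j r hr => t.v j (j + m) rfl ≫ πL E b hz W r (j + m) (by omega) ≫
    ModuleCat.ofHom (contr γ (W.X r)))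
  map_add' t t' := by
    refine Cochain.ext _ _ (fun j r hr => ?_)
    simp only [Cochain.mk_v, Cochain.add_v, Preadditive.add_comp]
  map_smul' a t := by
    refine Cochain.ext _ _ (fun j r hr => ?_)
    simp only [Cochain.mk_v, Cochain.smul_v, Linear.smul_comp, RingHom.id_apply]

theorem cContr_v_apply (γ : E.X b →ₗ[A] A) (q m : ℤ) (hqm : b + q = m)
    (t : Cochain P (E ⊗ W) m) (j r k : ℤ) (hr : j + q = r) (hk : j + m = k) (y : P.X j) :
    ((cContr E b hz P W γ q m hqm t).v j r hr).hom y =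
      contr γ (W.X r) ((πL E b hz W r k (by omega)).hom ((t.v j k hk).hom y)) := by
  subst hk
  rfl


include hz in
theorem isIso_θ_f_of_single [Module.Finite A (E.X b)] [Module.Projective A (E.X b)] (m : ℤ) :
    IsIso ((θ E P W).f m) := by
  obtain ⟨q, hqm⟩ : ∃ q : ℤ, b + q = m := ⟨m - b, by omega⟩
  obtain ⟨n, ν, γ, hνγ⟩ := exists_dualBasis (A := A) (E.X b)
  haveI := isIso_ι_left E (DRing.homCx P W) b hz q m hqm
  suffices h : IsIso (HomologicalComplex.ιTensorObj E (DRing.homCx P W) b q m hqm ≫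
      (θ E P W).f m) from IsIso.of_isIso_comp_left
        (HomologicalComplex.ιTensorObj E (DRing.homCx P W) b q m hqm) _
  rw [ConcreteCategory.isIso_iff_bijective]
  -- the formula for the map
  have hΘ : ∀ (x : E.X b) (f : (DRing.homCx P W).X q) (j r k : ℤ) (hr : j + q = r)
      (hk : j + m = k) (y : P.X j),
      ((toC ((HomologicalComplex.ιTensorObj E (DRing.homCx P W) b q m hqm ≫ (θ E P W).f m).hom
        (x ⊗ₜ[A] f))).v j k hk).hom y =
      (HomologicalComplex.ιTensorObj E W b r k (by omega)).hom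
        (x ⊗ₜ[A] ((toC f).v j r hr).hom y) := fun x f j r k hr hk y =>
    θ_apply E P W b q m hqm x f j k r hk hr y
  -- contraction of the image
  have hK1 : ∀ (i : Fin n) (z : (E.X b ⊗ (DRing.homCx P W).X q : ModuleCat.{u} A)),
      cContr E b hz P W (γ i) q m hqm
        (toC ((HomologicalComplex.ιTensorObj E (DRing.homCx P W) b q m hqm ≫ (θ E P W).f m).hom z)) =
      contr (γ i) ((DRing.homCx P W).X q) z := by
    intro i z
    induction z using TensorProduct.induction_on with
    | zero =>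
      rw [map_zero, map_zero]
      exact map_zero _
    | tmul x f =>
      refine Cochain.ext _ _ (fun j r hr => ?_)
      apply ModuleCat.hom_ext
      ext y
      rw [cContr_v_apply E b hz P W (γ i) q m hqm _ j r (j + m) hr rfl y, hΘ x f j r (j + m) hr rfl y,
        ι_πL_apply, contr_tmul, contr_tmul]
      rfl
    | add z z' hz1 hz2 =>
      rw [map_add, toC_add, map_add, hz1, hz2, map_add]
      rfl
  constructor
  · -- injective
    rw [injective_iff_map_eq_zero]
    intro z hz0
    have h0 : ∀ i, contr (γ i) ((DRing.homCx P W).X q) z = 0 := by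
      intro i
      have h1 := hK1 i z
      erw [hz0] at h1
      exact h1.symm.trans (map_zero _)
    rw [← dualBasis_tensor ν γ hνγ _ z]
    refine Finset.sum_eq_zero (fun i _ => ?_)
    rw [h0 i, TensorProduct.tmul_zero]
  · -- surjective
    intro t
    refine ⟨∑ i, ν i ⊗ₜ[A] (cContr E b hz P W (γ i) q m hqm (toC t)), ?_⟩
    apply toC_injective
    refine Cochain.ext _ _ (fun j k hk => ?_)
    apply ModuleCat.hom_ext
    ext y
    obtain ⟨r, hr⟩ : ∃ r : ℤ, j + q = r := ⟨_, rfl⟩
    let L : (DRing.homCx P (E ⊗ W)).X m →ₗ[A] (E ⊗ W).X k :=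
      (LinearMap.applyₗ y) ∘ₗ (evC P (E ⊗ W) m j k hk)
    change (L ∘ₗ (HomologicalComplex.ιTensorObj E (DRing.homCx P W) b q m hqm ≫
      (θ E P W).f m).hom) (∑ i, ν i ⊗ₜ[A] (cContr E b hz P W (γ i) q m hqm) (toC t)) = _
    rw [map_sum]
    have hterm : ∀ i : Fin n, (L ∘ₗ (HomologicalComplex.ιTensorObj E (DRing.homCx P W) b q m hqm ≫
        (θ E P W).f m).hom) (ν i ⊗ₜ[A] (cContr E b hz P W (γ i) q m hqm) (toC t)) =
        (HomologicalComplex.ιTensorObj E W b r k (by omega)).hom
          (ν i ⊗ₜ[A] contr (γ i) (W.X r) ((πL E b hz W r k (by omega)).hom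
            (((toC t).v j k hk).hom y))) := by
      intro i
      refine (hΘ (ν i) _ j r k hr hk y).trans ?_
      congr 2
      exact cContr_v_apply E b hz P W (γ i) q m hqm (toC t) j r k hr hk y
    rw [Finset.sum_congr rfl (fun i _ => hterm i), ← map_sum, dualBasis_tensor ν γ hνγ,
      πL_ι_apply]


include hz in
theorem isIso_θ_of_single [Module.Finite A (E.X b)] [Module.Projective A (E.X b)] :
    IsIso (θ E P W) := by
  haveI : ∀ m, IsIso ((θ E P W).f m) := fun m => isIso_θ_f_of_single E b hz P W m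
  exact HomologicalComplex.Hom.isIso_of_components _

end B2

theorem isIso_homCxMap (P : DRing.Cx A) {W W' : DRing.Cx A} (g : W ⟶ W') [IsIso g] :
    IsIso (DRing.homCxMap P g) :=
  (inferInstance : IsIso ((DRing.homCxFunctor P).map g))

/-- `θ E P W` is a quasi-isomorphism for `E` a bounded complex of finite projective modules -/
theorem quasiIso_θ_of_perfect (E : DRing.Cx A) (a b : ℤ)
    (hE : DRing.VanishesOutside E a b) (hfp : DRing.TermwiseFiniteProjective E)
    (P W : DRing.Cx A) : QuasiIso (θ E P W) := by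
  refine devissage (A := A) (fun E : DRing.Cx A => ∀ (P W : DRing.Cx A), QuasiIso (θ E P W))
    ?_ ?_ ?_ E a b hE hfp P W
  · intro E E' e h P W
    haveI := h P W
    haveI : IsIso (e.hom ▷ W) := (inferInstance : IsIso ((tensorRight W).map e.hom))
    haveI : IsIso (e.inv ▷ DRing.homCx P W) :=
      (inferInstance : IsIso ((tensorRight (DRing.homCx P W)).map e.inv))
    haveI := isIso_homCxMap P (e.hom ▷ W)
    have h2 : θ E' P W = (e.inv ▷ DRing.homCx P W) ≫ θ E P W ≫ DRing.homCxMap P (e.hom ▷ W) := by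
      rw [θ_nat_K_assoc, ← homCxMap_comp, ← MonoidalCategory.comp_whiskerRight, e.inv_hom_id,
        MonoidalCategory.id_whiskerRight]
      have h3 : DRing.homCxMap P (𝟙 (E' ⊗ W)) = 𝟙 _ := (DRing.homCxFunctor P).map_id _
      rw [h3, Category.comp_id]
    rw [h2]
    infer_instance
  · intro S hS h1 h3 P W
    let φ : scWhiskerRight S (DRing.homCx P W) ⟶ scHomRight P (scWhiskerRight S W) :=
      { τ₁ := θ S.X₁ P W
        τ₂ := θ S.X₂ P W
        τ₃ := θ S.X₃ P W
        comm₁₂ := (θ_nat_K S.f P W).symm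
        comm₂₃ := (θ_nat_K S.g P W).symm }
    exact quasiIso_τ₂ φ (hS.whiskerRight _).shortExact ((hS.whiskerRight W).homRight P).shortExact
      (h1 P W) (h3 P W)
  · intro N b hN1 hN2 P W
    obtain ⟨hz, h1, h2⟩ := single_props N b
    haveI := isIso_θ_of_single _ b hz P W
    infer_instance

end Groth.Agent.Helper3.TH

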