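import Groth.Agent.Lib.Helper3.TH5
import Mathlib.LinearAlgebra.Dual.Lemmas

/-!
# `Hom(E, W)` is K-projective for `E` bounded finite projective and `W` K-projective (helper3)
-/

set_option autoImplicit false

open CategoryTheory CategoryTheory.Limits MonoidalCategory CochainComplex HomComplex
open scoped TensorProduct

universe u

attribute [local instance] HasDerivedCategory.standard

namespace Groth.Agent.Helper3.TH

open Groth.Agent.Helper11.DC
open Groth.Agent.Helper3.HT Groth.Agent.Helper3.DS

variable {A : Type u} [CommRing A]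

/-- a complex is K-projective as soon as `Hom(X, Z)` is acyclic for all acyclic `Z` -/
theorem isKProjective_of_acyclic_homCx (X : DRing.Cx A)
    (h : ∀ Z : DRing.Cx A, Z.Acyclic → (DRing.homCx X Z).Acyclic) : X.IsKProjective where
  nonempty_homotopy_zero {Z} f hZ := by
    have hex := h Z hZ 0
    rw [HomologicalComplex.exactAt_iff' _ (-1) 0 1 (by simp) (by simp),
      ShortComplex.moduleCat_exact_iff] at hex
    obtain ⟨c, hc⟩ := hex (Cochain.ofHom f : Cochain X Z 0) (by
      change δ 0 1 (Cochain.ofHom f) = 0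
      exact δ_ofHom f)
    have hc' : δ (-1) 0 (c : Cochain X Z (-1)) = Cochain.ofHom f := hc
    exact ⟨(Cochain.equivHomotopy f 0).symm ⟨c, by rw [Cochain.ofHom_zero, add_zero, hc']⟩⟩

/-- K-projective complexes are closed under degreewise split extensions -/
theorem isKProjective_of_dsplit (S : ShortComplex (DRing.Cx A)) (hS : DSplit S)
    [S.X₁.IsKProjective] [S.X₃.IsKProjective] : S.X₂.IsKProjective := by
  apply isKProjective_of_acyclic_homCx
  intro Z hZ
  exact (hS.homLeft Z).shortExact.acyclic_X₂ (acyclic_homCx S.X₃ Z hZ) (acyclic_homCx S.X₁ Z hZ)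


section Single

variable (E : DRing.Cx A) (b : ℤ) (hz : ∀ p : ℤ, p ≠ b → IsZero (E.X p))

include hz in
theorem isZero_homCx_unit (n : ℤ) (hn : n ≠ -b) :
    IsZero ((DRing.homCx E (𝟙_ (DRing.Cx A))).X n) := by
  haveI : Subsingleton ((DRing.homCx E (𝟙_ (DRing.Cx A))).X n) := by
    constructor
    intro (t : Cochain E (𝟙_ (DRing.Cx A)) n) (t' : Cochain E (𝟙_ (DRing.Cx A)) n)
    refine cochain_ext_single E b hz t t' (b + n) rfl ?_
    have h0 : IsZero ((𝟙_ (DRing.Cx A)).X (b + n)) :=
      HomologicalComplex.isZero_single_obj_X _ _ _ _ (by omega)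
    exact h0.eq_of_tgt _ _
  exact ModuleCat.isZero_of_subsingleton _

/-- cochains of degree `-b` from `E` to the unit complex are linear forms on `E^b` -/
noncomputable def dualEquiv :
    Cochain E (𝟙_ (DRing.Cx A)) (-b) ≃ₗ[A] (E.X b →ₗ[A] ((𝟙_ (DRing.Cx A)).X 0 : ModuleCat.{u} A)) where
  toFun t := (t.v b 0 (by omega)).hom
  map_add' t t' := by simp
  map_smul' a t := by simp
  invFun g := Cochain.single (ModuleCat.ofHom g) (-b)
  left_inv t := by
    refine cochain_ext_single E b hz _ _ 0 (by omega) ?_
    rw [Cochain.single_v _ _ (by omega)]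
    rfl
  right_inv g := by
    dsimp only
    rw [Cochain.single_v _ _ (by omega)]
    rfl

include hz in
theorem projective_homCx_unit [Module.Finite A (E.X b)] [Module.Projective A (E.X b)] (n : ℤ) :
    Module.Projective A ((DRing.homCx E (𝟙_ (DRing.Cx A))).X n) := by
  by_cases hn : n = -b
  · subst hn
    let e0 : ((𝟙_ (DRing.Cx A)).X 0 : ModuleCat.{u} A) ≃ₗ[A] A :=
      (HomologicalComplex.singleObjXSelf (ComplexShape.up ℤ) 0 (𝟙_ (ModuleCat.{u} A))).toLinearEquiv
    let e1 : (E.X b →ₗ[A] ((𝟙_ (DRing.Cx A)).X 0 : ModuleCat.{u} A)) ≃ₗ[A] Module.Dual A (E.X b) :=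
      LinearEquiv.arrowCongr (LinearEquiv.refl A _) e0
    exact Module.Projective.of_equiv ((dualEquiv E b hz).trans e1).symm
  · haveI : Subsingleton ((DRing.homCx E (𝟙_ (DRing.Cx A))).X n) :=
      ModuleCat.subsingleton_of_isZero (isZero_homCx_unit E b hz n hn)
    infer_instance

include hz in
theorem isKProjective_homCx_unit [Module.Finite A (E.X b)] [Module.Projective A (E.X b)] :
    (DRing.homCx E (𝟙_ (DRing.Cx A))).IsKProjective :=
  isKProjective_of_vanishesAbove _ (-b) (fun i hi => isZero_homCx_unit E b hz i (by omega))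
    (fun i => projective_homCx_unit E b hz i)

include hz in
/-- base case: `Hom(E, W)` is K-projective for `E` concentrated in one degree -/
theorem isKProjective_homCx_of_single [Module.Finite A (E.X b)] [Module.Projective A (E.X b)]
    (W : DRing.Cx A) [W.IsKProjective] : (DRing.homCx E W).IsKProjective := by
  haveI := isKProjective_homCx_unit E b hz
  haveI := isKProjective_tensor W (DRing.homCx E (𝟙_ (DRing.Cx A)))
  haveI := isIso_θ_of_single_mid E b hz (𝟙_ (DRing.Cx A)) W
  exact isKProjective_of_iso (asIso (θ W E (𝟙_ (DRing.Cx A))) ≪≫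
    (DRing.homCxFunctor E).mapIso (ρ_ W))

end Single

/-- `Hom(E, W)` is K-projective for `E` bounded finite projective and `W` K-projective -/
theorem isKProjective_homCx_of_perfect (E : DRing.Cx A) (a b : ℤ)
    (hE : DRing.VanishesOutside E a b) (hfp : DRing.TermwiseFiniteProjective E)
    (W : DRing.Cx A) [hW : W.IsKProjective] : (DRing.homCx E W).IsKProjective := by
  refine devissage (A := A) (fun E : DRing.Cx A => ∀ (W : DRing.Cx A), W.IsKProjective →
    (DRing.homCx E W).IsKProjective) ?_ ?_ ?_ E a b hE hfp W hW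
  · intro E E' e h W hW
    haveI := h W hW
    haveI := isIso_homCxPre e.inv W
    exact isKProjective_of_iso (asIso (homCxPre e.inv W))
  · intro S hS h1 h3 W hW
    haveI := h1 W hW
    haveI := h3 W hW
    exact isKProjective_of_dsplit (scHomLeft S W) (hS.homLeft W)
  · intro N b hN1 hN2 W hW
    obtain ⟨hz, h1, h2⟩ := single_props N b
    exact isKProjective_homCx_of_single _ b hz W

end Groth.Agent.Helper3.TH
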