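import Groth.Agent.Lib.Helper3.TH6
import Groth.Prelude.Def_DTen

/-!
# The chain-level map `Hom(P, W) ⊗ E ⟶ Hom(Hom(E, P), W)` (helper3)
-/

set_option autoImplicit false

open CategoryTheory CategoryTheory.Limits MonoidalCategory CochainComplex HomComplex
open scoped TensorProduct

universe u

attribute [local instance] HasDerivedCategory.standard

namespace Groth.Agent.Helper3.TH

open Groth.Agent.Helper3.HT Groth.Agent.Helper3.DS

variable {A : Type u} [CommRing A]

theorem braidCx_ι_tmul (K L : DRing.Cx A) (p q n : ℤ) (h : p + q = n) (x : K.X p) (y : L.X q) :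
    ((DTen.braidCx K L).hom.f n).hom ((HomologicalComplex.ιTensorObj K L p q n h).hom (x ⊗ₜ[A] y)) =
      (p * q).negOnePow • (HomologicalComplex.ιTensorObj L K q p n (by omega)).hom (y ⊗ₜ[A] x) := by
  have h1 := congrArg (fun φ => φ.hom (x ⊗ₜ[A] y)) (DTen.ι_braidCx_hom K L p q n h)
  refine h1.trans ?_
  simp only [ModuleCat.hom_smul, LinearMap.smul_apply, ModuleCat.hom_comp, LinearMap.comp_apply]
  rfl

theorem map_units_smul {M N : Type*} [AddCommGroup M] [AddCommGroup N] [Module A M] [Module A N]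
    (φ : M →ₗ[A] N) (u : ℤˣ) (x : M) : φ (u • x) = u • φ x := by
  rw [Units.smul_def, Units.smul_def, map_zsmul]

/-- the pairing `(Hom(P, W) ⊗ E) ⊗ Hom(E, P) ⟶ W` -/
noncomputable def χ (E P W : DRing.Cx A) :
    (DRing.homCx P W ⊗ E) ⊗ DRing.homCx E P ⟶ W :=
  (α_ (DRing.homCx P W) E (DRing.homCx E P)).hom ≫
    (DRing.homCx P W ◁ ((DTen.braidCx E (DRing.homCx E P)).hom ≫ evH E P)) ≫ evH P W

/-- the chain-level map `Hom(P, W) ⊗ E ⟶ Hom(Hom(E, P), W)` -/
noncomputable def ψ (E P W : DRing.Cx A) :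
    DRing.homCx P W ⊗ E ⟶ DRing.homCx (DRing.homCx E P) W :=
  curH (χ E P W)

theorem uncH_ψ (E P W : DRing.Cx A) : uncH (ψ E P W) = χ E P W := uncH_curH _

theorem ψ_apply (E P W : DRing.Cx A) (q p m : ℤ) (hqp : q + p = m) (f : (DRing.homCx P W).X q)
    (e : E.X p) (i k r : ℤ) (hik : i + m = k) (hr : p + i = r) (g : (DRing.homCx E P).X i) :
    ((toC (((ψ E P W).f m).hom
      ((HomologicalComplex.ιTensorObj (DRing.homCx P W) E q p m hqp).hom (f ⊗ₜ[A] e)))).v i k hik).hom g =
    (p * i).negOnePow • ((toC f).v r k (by omega)).hom (((toC g).v p r hr).hom e) := by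
  have h1 := curH_f_apply (χ E P W) m i k (by omega)
    ((HomologicalComplex.ιTensorObj (DRing.homCx P W) E q p m hqp).hom (f ⊗ₜ[A] e)) g
  refine h1.trans ?_
  have h2 : ((χ E P W).f k).hom
      ((HomologicalComplex.ιTensorObj (DRing.homCx P W ⊗ E) (DRing.homCx E P) m i k (by omega)).hom
        ((HomologicalComplex.ιTensorObj (DRing.homCx P W) E q p m hqp).hom (f ⊗ₜ[A] e) ⊗ₜ[A] g)) =
      ((evH P W).f k).hom (((DRing.homCx P W ◁ ((DTen.braidCx E (DRing.homCx E P)).hom ≫ evH E P)).f k).hom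
        (((α_ (DRing.homCx P W) E (DRing.homCx E P)).hom.f k).hom
      ((HomologicalComplex.ιTensorObj (DRing.homCx P W ⊗ E) (DRing.homCx E P) m i k (by omega)).hom
        ((HomologicalComplex.ιTensorObj (DRing.homCx P W) E q p m hqp).hom (f ⊗ₜ[A] e) ⊗ₜ[A] g)))) := rfl
  rw [h2, associator_ι_tmul (DRing.homCx P W) E (DRing.homCx E P) q p i m k hqp (by omega) f e g,
    whiskerLeft_ι_tmul]
  have h3 : (((DTen.braidCx E (DRing.homCx E P)).hom ≫ evH E P).f (p + i)).hom
      ((HomologicalComplex.ιTensorObj E (DRing.homCx E P) p i (p + i) rfl).hom (e ⊗ₜ[A] g)) =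
      ((evH E P).f (p + i)).hom (((DTen.braidCx E (DRing.homCx E P)).hom.f (p + i)).hom
      ((HomologicalComplex.ιTensorObj E (DRing.homCx E P) p i (p + i) rfl).hom (e ⊗ₜ[A] g))) := rfl
  rw [h3, braidCx_ι_tmul, map_units_smul, evH_f_tmul E P i p (p + i) (by omega) g e]
  subst hr
  rw [Units.smul_def, TensorProduct.tmul_smul, map_zsmul, map_zsmul, evH_f_tmul P W q (p + i) k (by omega),
    ← Units.smul_def]

@[reassoc]
theorem ψ_nat_E {E E' : DRing.Cx A} (u : E ⟶ E') (P W : DRing.Cx A) :
    (DRing.homCx P W ◁ u) ≫ ψ E' P W = ψ E P W ≫ homCxPre (homCxPre u P) W := by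
  apply uncH_injective
  rw [uncH_comp_left, uncH_comp_pre, uncH_ψ, uncH_ψ, χ, χ, ← Category.assoc,
    MonoidalCategory.associator_naturality_middle, Category.assoc,
    ← MonoidalCategory.whiskerLeft_comp_assoc]
  have h1 : (u ▷ DRing.homCx E' P) ≫ (DTen.braidCx E' (DRing.homCx E' P)).hom ≫ evH E' P =
      (E ◁ homCxPre u P) ≫ (DTen.braidCx E (DRing.homCx E P)).hom ≫ evH E P := by
    have h2 := DTen.braidCx_naturality u (𝟙 (DRing.homCx E' P))
    have h3 := DTen.braidCx_naturality (𝟙 E) (homCxPre u P)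
    rw [MonoidalCategory.tensorHom_id, MonoidalCategory.id_tensorHom] at h2
    rw [MonoidalCategory.tensorHom_id, MonoidalCategory.id_tensorHom] at h3
    rw [reassoc_of% h2, reassoc_of% h3, evH_dinat]
  rw [h1, MonoidalCategory.whiskerLeft_comp_assoc, ← Category.assoc, ← Category.assoc,
    ← MonoidalCategory.associator_naturality_right]
  simp only [Category.assoc]

section DualBasisR

variable {N : Type u} [AddCommGroup N] [Module A N]

/-- contraction of the right factor against a functional -/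
noncomputable def contrR (γ : N →ₗ[A] A) (M : Type u) [AddCommGroup M] [Module A M] :
    M ⊗[A] N →ₗ[A] M :=
  contr γ M ∘ₗ (TensorProduct.comm A M N).toLinearMap

@[simp]
theorem contrR_tmul (γ : N →ₗ[A] A) (M : Type u) [AddCommGroup M] [Module A M] (w : M) (x : N) :
    contrR γ M (w ⊗ₜ[A] x) = γ x • w := by
  simp [contrR]

theorem dualBasis_tensor_right {n : ℕ} (ν : Fin n → N) (γ : Fin n → (N →ₗ[A] A))
    (h : ∀ x : N, ∑ i, γ i x • ν i = x) (M : Type u) [AddCommGroup M] [Module A M]
    (z : M ⊗[A] N) : ∑ i, contrR (γ i) M z ⊗ₜ[A] ν i = z := by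
  induction z using TensorProduct.induction_on with
  | zero => simp
  | tmul w x =>
    simp only [contrR_tmul]
    conv_rhs => rw [← h x, TensorProduct.tmul_sum]
    refine Finset.sum_congr rfl (fun i _ => ?_)
    rw [TensorProduct.smul_tmul]
  | add z z' hz hz' =>
    simp only [map_add, TensorProduct.add_tmul, Finset.sum_add_distrib, hz, hz']

end DualBasisR

section B5

variable (E : DRing.Cx A) (b : ℤ) (hz : ∀ p : ℤ, p ≠ b → IsZero (E.X p))
variable (P W : DRing.Cx A)

/-- contraction of a cochain on `Hom(E, P)` against a functional on `E^b` -/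
noncomputable def cψ (γ : E.X b →ₗ[A] A) (q m : ℤ) (hqm : q + b = m) :
    Cochain (DRing.homCx E P) W m →ₗ[A] Cochain P W q where
  toFun F := Cochain.mk (fun r k hrk => ((b * (r - b)).negOnePow : ℤˣ) •
    ((ModuleCat.ofHom (τ E b hz P γ r (r - b) (by omega)) : P.X r ⟶ (DRing.homCx E P).X (r - b)) ≫
      F.v (r - b) k (by omega)))
  map_add' F F' := by
    refine Cochain.ext _ _ (fun r k hrk => ?_)
    simp only [Cochain.mk_v, Cochain.add_v]
    erw [Preadditive.comp_add]
    rw [smul_add]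
  map_smul' a F := by
    refine Cochain.ext _ _ (fun r k hrk => ?_)
    simp only [Cochain.mk_v, Cochain.smul_v, RingHom.id_apply]
    erw [Linear.comp_smul]
    rw [smul_comm]

theorem cψ_v_apply (γ : E.X b →ₗ[A] A) (q m : ℤ) (hqm : q + b = m)
    (F : Cochain (DRing.homCx E P) W m) (r k i : ℤ) (hrk : r + q = k) (hi : b + i = r) (x : P.X r) :
    ((cψ E b hz P W γ q m hqm F).v r k hrk).hom x =
      (b * i).negOnePow • (F.v i k (by omega)).hom (τ E b hz P γ r i hi x) := by
  obtain rfl : i = r - b := by omega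
  rfl

include hz in
theorem isIso_ψ_f_of_single [Module.Finite A (E.X b)] [Module.Projective A (E.X b)] (m : ℤ) :
    IsIso ((ψ E P W).f m) := by
  obtain ⟨q, hqm⟩ : ∃ q : ℤ, q + b = m := ⟨m - b, by omega⟩
  obtain ⟨n, ν, γ, hνγ⟩ := exists_dualBasis (A := A) (E.X b)
  haveI := isIso_ι_right (DRing.homCx P W) E b hz q m hqm
  suffices h : IsIso (HomologicalComplex.ιTensorObj (DRing.homCx P W) E q b m hqm ≫
      (ψ E P W).f m) from IsIso.of_isIso_comp_left
        (HomologicalComplex.ιTensorObj (DRing.homCx P W) E q b m hqm) _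
  rw [ConcreteCategory.isIso_iff_bijective]
  -- the formula for the map
  have hΨ : ∀ (f : (DRing.homCx P W).X q) (e : E.X b) (i k r : ℤ) (hik : i + m = k)
      (hr : b + i = r) (g : (DRing.homCx E P).X i),
      ((toC ((HomologicalComplex.ιTensorObj (DRing.homCx P W) E q b m hqm ≫ (ψ E P W).f m).hom
        (f ⊗ₜ[A] e))).v i k hik).hom g =
      (b * i).negOnePow • ((toC f).v r k (by omega)).hom (((toC g).v b r hr).hom e) :=
    fun f e i k r hik hr g => ψ_apply E P W q b m hqm f e i k r hik hr g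
  -- contraction of the image
  have hK1 : ∀ (j : Fin n) (z : ((DRing.homCx P W).X q ⊗ E.X b : ModuleCat.{u} A)),
      cψ E b hz P W (γ j) q m hqm
        (toC ((HomologicalComplex.ιTensorObj (DRing.homCx P W) E q b m hqm ≫ (ψ E P W).f m).hom z)) =
      contrR (γ j) ((DRing.homCx P W).X q) z := by
    intro j z
    induction z using TensorProduct.induction_on with
    | zero =>
      rw [map_zero, map_zero]
      exact map_zero _
    | tmul f e =>
      refine Cochain.ext _ _ (fun r k hrk => ?_)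
      apply ModuleCat.hom_ext
      ext x
      rw [cψ_v_apply E b hz P W (γ j) q m hqm _ r k (r - b) hrk (by omega) x,
        hΨ f e (r - b) k r (by omega) (by omega)]
      erw [τ_v_apply E b hz P (γ j) r (r - b) (by omega) x e]
      rw [contrR_tmul, smul_smul, Int.units_mul_self, one_smul, map_smul]
      rfl
    | add z z' hz1 hz2 =>
      rw [map_add, toC_add, map_add, hz1, hz2, map_add]
      rfl
  constructor
  · -- injective
    rw [injective_iff_map_eq_zero]
    intro z hz0
    have h0 : ∀ j, contrR (γ j) ((DRing.homCx P W).X q) z = 0 := by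
      intro j
      have h1 := hK1 j z
      erw [hz0] at h1
      exact h1.symm.trans (map_zero _)
    rw [← dualBasis_tensor_right ν γ hνγ _ z]
    refine Finset.sum_eq_zero (fun j _ => ?_)
    rw [h0 j, TensorProduct.zero_tmul]
  · -- surjective
    intro t
    refine ⟨∑ j, (cψ E b hz P W (γ j) q m hqm (toC t) : Cochain P W q) ⊗ₜ[A] ν j, ?_⟩
    apply toC_injective
    refine Cochain.ext _ _ (fun i k hik => ?_)
    apply ModuleCat.hom_ext
    ext g
    obtain ⟨r, hr⟩ : ∃ r : ℤ, b + i = r := ⟨_, rfl⟩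
    let L : (DRing.homCx (DRing.homCx E P) W).X m →ₗ[A] W.X k :=
      (LinearMap.applyₗ g) ∘ₗ (evC (DRing.homCx E P) W m i k hik)
    change (L ∘ₗ (HomologicalComplex.ιTensorObj (DRing.homCx P W) E q b m hqm ≫
      (ψ E P W).f m).hom) (∑ j, (cψ E b hz P W (γ j) q m hqm (toC t) : Cochain P W q) ⊗ₜ[A] ν j) = _
    rw [map_sum]
    have hterm : ∀ j : Fin n, (L ∘ₗ (HomologicalComplex.ιTensorObj (DRing.homCx P W) E q b m hqm ≫
        (ψ E P W).f m).hom) ((cψ E b hz P W (γ j) q m hqm (toC t) : Cochain P W q) ⊗ₜ[A] ν j) =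
        (((toC t).v i k hik).hom (τ E b hz P (γ j) r i hr (((toC g).v b r hr).hom (ν j)))) := by
      intro j
      refine (hΨ _ (ν j) i k r hik hr g).trans ?_
      erw [cψ_v_apply E b hz P W (γ j) q m hqm (toC t) r k i (by omega) hr]
      rw [smul_smul, Int.units_mul_self, one_smul]
    rw [Finset.sum_congr rfl (fun j _ => hterm j), ← map_sum]
    congr 1
    exact sum_τ E b hz P ν γ hνγ i r hr (toC g)

include hz in
theorem isIso_ψ_of_single [Module.Finite A (E.X b)] [Module.Projective A (E.X b)] :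
    IsIso (ψ E P W) := by
  haveI : ∀ m, IsIso ((ψ E P W).f m) := fun m => isIso_ψ_f_of_single E b hz P W m
  exact HomologicalComplex.Hom.isIso_of_components _

end B5

/-- `ψ E P W` is a quasi-isomorphism for `E` a bounded complex of finite projective modules -/
theorem quasiIso_ψ_of_perfect (E : DRing.Cx A) (a b : ℤ)
    (hE : DRing.VanishesOutside E a b) (hfp : DRing.TermwiseFiniteProjective E)
    (P W : DRing.Cx A) : QuasiIso (ψ E P W) := by
  refine devissage (A := A) (fun E : DRing.Cx A => ∀ (P W : DRing.Cx A), QuasiIso (ψ E P W))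
    ?_ ?_ ?_ E a b hE hfp P W
  · intro E E' e h P W
    haveI := h P W
    haveI := isIso_homCxPre e.inv P
    haveI := isIso_homCxPre e.hom P
    haveI := isIso_homCxPre (homCxPre e.hom P) W
    haveI : IsIso (DRing.homCx P W ◁ e.inv) :=
      (inferInstance : IsIso ((tensorLeft (DRing.homCx P W)).map e.inv))
    have h2 : ψ E' P W = (DRing.homCx P W ◁ e.inv) ≫ ψ E P W ≫
        homCxPre (homCxPre e.hom P) W := by
      rw [ψ_nat_E_assoc, ← homCxPre_comp, ← homCxPre_comp, e.inv_hom_id, homCxPre_id, homCxPre_id,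
        Category.comp_id]
    rw [h2]
    infer_instance
  · intro S hS h1 h3 P W
    let φ : scWhiskerLeft (DRing.homCx P W) S ⟶ scHomLeft (scHomLeft S P) W :=
      { τ₁ := ψ S.X₁ P W
        τ₂ := ψ S.X₂ P W
        τ₃ := ψ S.X₃ P W
        comm₁₂ := (ψ_nat_E S.f P W).symm
        comm₂₃ := (ψ_nat_E S.g P W).symm }
    exact quasiIso_τ₂ φ (hS.whiskerLeft (DRing.homCx P W)).shortExact
      ((hS.homLeft P).homLeft W).shortExact (h1 P W) (h3 P W)
  · intro N b hN1 hN2 P W
    obtain ⟨hz, h1, h2⟩ := single_props N b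
    haveI := isIso_ψ_of_single _ b hz P W
    infer_instance

end Groth.Agent.Helper3.TH
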