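import Groth.Agent.Lib.Helper3.TC10

/-!
# General lemmas for identifying right adjoints of restriction of scalars (helper3)

* `nonempty_natIso_of_kprojective`: a natural isomorphism between functors on `D(R)` can be given
  on images of K-projective complexes, naturally for chain maps.
* `isIso_homEquiv_of_bijective_Psi`: an object with a map `res G ⟶ K` satisfying the universal
  property (tested through `Psi`) is the value of the right adjoint.
* `bijective_Psi_of_quasiIso_curH`: the converse of `quasiIso_curH`.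
-/

set_option autoImplicit false

open CategoryTheory CategoryTheory.Limits MonoidalCategory

universe u

attribute [local instance] HasDerivedCategory.standard

namespace Groth.Agent.Helper3.TM

open Groth.Agent.Helper11.LDer Groth.Agent.Helper11.DC Groth.Agent.Helper11.Tel
open Groth.Agent.Helper3.HT Groth.Agent.Helper3.DT Groth.Agent.Helper3.RH Groth.Agent.Helper3.TH
open Groth.Agent.Helper3.BC Groth.Agent.Helper3.TB Groth.Agent.Helper3.KP
open Groth.Agent.Helper3.KF Groth.Agent.Helper3.TC

section NatIso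

variable {R : Type u} [CommRing R] {H : Type*} [Category H]

/-- a natural isomorphism of functors on `D(R)` given on K-projective complexes -/
theorem nonempty_natIso_of_kprojective (F G : Dual.D R ⥤ H)
    (e : ∀ (P : DRing.Cx R), P.IsKProjective →
      (F.obj (DerivedCategory.Q.obj P) ≅ G.obj (DerivedCategory.Q.obj P)))
    (he : ∀ (P P' : DRing.Cx R) (hP : P.IsKProjective) (hP' : P'.IsKProjective) (f : P ⟶ P'),
      F.map (DerivedCategory.Q.map f) ≫ (e P' hP').hom =
        (e P hP).hom ≫ G.map (DerivedCategory.Q.map f)) :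
    Nonempty (F ≅ G) := by
  choose PX hPX _ hiX using fun X : Dual.D R => exists_kprojective_rep X
  let iX : ∀ X : Dual.D R, (DerivedCategory.Q.obj (PX X) : Dual.D R) ≅ X :=
    fun X => (hiX X).some
  refine ⟨NatIso.ofComponents
    (fun X => F.mapIso (iX X).symm ≪≫ e (PX X) (hPX X) ≪≫ G.mapIso (iX X)) ?_⟩
  intro X Y g
  haveI := hPX X
  obtain ⟨f, hf⟩ := exists_lift_of_isKProjective (PX X) (PX Y) ((iX X).hom ≫ g ≫ (iX Y).inv)
  have h1 := he (PX X) (PX Y) (hPX X) (hPX Y) f
  rw [hf] at h1
  dsimp only [Iso.trans_hom, Functor.mapIso_hom, Iso.symm_hom]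
  have h2 : F.map g = F.map (iX X).inv ≫ F.map ((iX X).hom ≫ g ≫ (iX Y).inv) ≫
      F.map (iX Y).hom := by
    rw [← Functor.map_comp, ← Functor.map_comp]
    simp only [Category.assoc, Iso.inv_hom_id, Category.comp_id, Iso.inv_hom_id_assoc]
  have h3 : G.map g = G.map (iX X).inv ≫ G.map ((iX X).hom ≫ g ≫ (iX Y).inv) ≫
      G.map (iX Y).hom := by
    rw [← Functor.map_comp, ← Functor.map_comp]
    simp only [Category.assoc, Iso.inv_hom_id, Category.comp_id, Iso.inv_hom_id_assoc]
  rw [h2]
  simp only [Category.assoc]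
  rw [← Functor.map_comp_assoc F (iX Y).hom, Iso.hom_inv_id, CategoryTheory.Functor.map_id,
    Category.id_comp, reassoc_of% h1]
  congr 2
  rw [h3]
  rw [← Functor.map_comp_assoc G (iX X).hom, Iso.hom_inv_id, CategoryTheory.Functor.map_id,
    Category.id_comp]

end NatIso

section Universal

universe v₁ v₂ u₁ u₂

variable {𝒜 : Type u₁} {ℛ : Type u₂} [Category.{v₁} 𝒜] [Category.{v₂} ℛ]
  {Uφ : 𝒜 ⥤ ℛ} {Hφ : ℛ ⥤ 𝒜} (adj : Uφ ⊣ Hφ) {Lφ : ℛ ⥤ 𝒜} (adjφ : Lφ ⊣ Uφ)

/-- an object with the universal property of the value of the right adjoint is that value -/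
theorem isIso_homEquiv_of_bijective_Psi [Uφ.ReflectsIsomorphisms] (G : 𝒜) {K : ℛ}
    (ε : Uφ.obj G ⟶ K) (hU : ∀ M : ℛ, Function.Bijective (Psi adjφ G ε M)) :
    IsIso (adj.homEquiv G K ε) := by
  have hε : Uφ.map (adj.homEquiv G K ε) ≫ adj.counit.app K = ε := by
    have := adj.homEquiv_counit G K (adj.homEquiv G K ε)
    rw [Equiv.symm_apply_apply] at this
    exact this.symm
  haveI : IsIso (Uφ.map (adj.homEquiv G K ε)) := by
    apply isIso_of_yoneda_map_bijective
    intro M
    have h1 : Psi adjφ G ε M = Psi adjφ (Hφ.obj K) (adj.counit.app K) M ∘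
        (fun v : M ⟶ Uφ.obj G => v ≫ Uφ.map (adj.homEquiv G K ε)) := by
      funext v
      dsimp only [Function.comp]
      rw [← Psi_transport adjφ (adj.homEquiv G K ε) (adj.counit.app K) M v, hε]
    have h2 := hU M
    rw [h1] at h2
    exact (Function.Bijective.of_comp_iff' (bijective_Psi adj adjφ K M) _).mp h2
  exact isIso_of_reflects_iso (adj.homEquiv G K ε) Uφ

end Universal

section Converse

variable {R A : Type u} [CommRing R] [CommRing A]
  {φ : R →+* A} [DTen.HasLBase φ]
  {P : DRing.Cx R} [P.IsKProjective] (p : P ⟶ SB φ) [QuasiIso p]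
  (X : DRing.Cx A) (W : DRing.Cx R)
  {K : Dual.D R} (eW : (DerivedCategory.Q.obj W : Dual.D R) ≅ K)
  (ε₀ : (DRing.restrictD φ).obj (DerivedCategory.Q.obj X) ⟶ K)
  {YG : DRing.Cx R} (q : YG ⟶ (DTen.resCx φ).obj X)
  (b : YG ⊗ P ⟶ W)

/-- the converse of `quasiIso_curH`: if the resolution `YG` of `res X` computes `Hom(P, W)` then
`(X, ε₀)` has the universal property of the value at `K` of the right adjoint of restriction -/
theorem bijective_Psi_of_quasiIso_curH [YG.IsKProjective] [QuasiIso q]
    (hb : DerivedCategory.Q.map b ≫ eW.hom =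
      DerivedCategory.Q.map ((q ▷ P) ≫ actX p X) ≫ (DTen.resFactors φ).inv.app X ≫ ε₀)
    (hq : QuasiIso (curH b)) (M : Dual.D R) :
    Function.Bijective (Psi (DTen.baseAdj φ) (DerivedCategory.Q.obj X) ε₀ M) := by
  obtain ⟨Y, hY, -, ⟨e⟩⟩ := exists_kprojective_rep M
  haveI := hY
  haveI : IsIso (DerivedCategory.Q.map q) :=
    (DerivedCategory.isIso_Q_map_iff_quasiIso (φ := q)).mpr inferInstance
  -- the case of `Q Y`
  have hY : Function.Bijective
      (Psi (DTen.baseAdj φ) (DerivedCategory.Q.obj X) ε₀ (DerivedCategory.Q.obj Y)) := by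
    have hΘ := (bijective_iff_of_uncH Y P W (curH b)
      (fun g => inv (τ φ Y ≫ inv (DerivedCategory.Q.map (π p Y))) ≫
        Psi (DTen.baseAdj φ) (DerivedCategory.Q.obj X) ε₀ (DerivedCategory.Q.obj Y)
          (g ≫ DerivedCategory.Q.map q ≫ (DTen.resFactors φ).inv.app X) ≫ eW.inv) (by
        intro w
        rw [Psi_formula p X W eW ε₀ q b hb Y w]
        simp only [Category.assoc, Iso.hom_inv_id, Category.comp_id]
        rw [← Category.assoc (τ φ Y), IsIso.inv_hom_id_assoc])).mpr
      ((quasiIso_iff_bijective (curH b)).mp hq Y)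
    have e1 := bijective_precomp (Y := (DerivedCategory.Q.obj W : Dual.D R))
      (inv (τ φ Y ≫ inv (DerivedCategory.Q.map (π p Y))))
    have e2 := bijective_postcomp
      (X := (DRing.restrictD φ).obj ((DTen.LBase φ).obj (DerivedCategory.Q.obj Y))) eW.inv
    have e3 := bijective_postcomp (X := (DerivedCategory.Q.obj Y : Dual.D R))
      (DerivedCategory.Q.map q ≫ (DTen.resFactors φ).inv.app X)
    have hΘeq : (fun g => inv (τ φ Y ≫ inv (DerivedCategory.Q.map (π p Y))) ≫
        Psi (DTen.baseAdj φ) (DerivedCategory.Q.obj X) ε₀ (DerivedCategory.Q.obj Y)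
          (g ≫ DerivedCategory.Q.map q ≫ (DTen.resFactors φ).inv.app X) ≫ eW.inv) =
        (fun f => inv (τ φ Y ≫ inv (DerivedCategory.Q.map (π p Y))) ≫ f) ∘
          ((fun f => f ≫ eW.inv) ∘
            (Psi (DTen.baseAdj φ) (DerivedCategory.Q.obj X) ε₀ (DerivedCategory.Q.obj Y) ∘
              (fun g => g ≫ DerivedCategory.Q.map q ≫ (DTen.resFactors φ).inv.app X))) := rfl
    rw [hΘeq] at hΘ
    exact (Function.Bijective.of_comp_iff _ e3).mp
      ((Function.Bijective.of_comp_iff' e2 _).mp ((Function.Bijective.of_comp_iff' e1 _).mp hΘ))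
  -- transport along `e`
  have h1 : Psi (DTen.baseAdj φ) (DerivedCategory.Q.obj X) ε₀ M =
      (fun f => (DRing.restrictD φ).map ((DTen.LBase φ).map e.inv) ≫ f) ∘
        (Psi (DTen.baseAdj φ) (DerivedCategory.Q.obj X) ε₀ (DerivedCategory.Q.obj Y) ∘
          (fun v => e.hom ≫ v)) := by
    funext v
    dsimp only [Function.comp]
    rw [Psi_nat, ← Category.assoc, ← Functor.map_comp, ← Functor.map_comp, e.inv_hom_id,
      CategoryTheory.Functor.map_id, CategoryTheory.Functor.map_id, Category.id_comp]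
  rw [h1]
  exact (bijective_precomp _).comp (hY.comp (bijective_precomp e.hom))

end Converse

end Groth.Agent.Helper3.TM
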