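import Groth.Agent.Lib.Helper3.TM1

/-!
# The action of `A[0]` on restricted complexes and the projection formula (helper3)
-/

set_option autoImplicit false

open CategoryTheory CategoryTheory.Limits MonoidalCategory
open scoped TensorProduct
open ChangeOfRings

universe u

attribute [local instance] HasDerivedCategory.standard

namespace Groth.Agent.Helper3.TM

open Groth.Agent.Helper11.LDer Groth.Agent.Helper11.DC Groth.Agent.Helper11.Tel
open Groth.Agent.Helper3.HT Groth.Agent.Helper3.DT Groth.Agent.Helper3.RH Groth.Agent.Helper3.TH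
open Groth.Agent.Helper3.BC Groth.Agent.Helper3.TB Groth.Agent.Helper3.KP
open Groth.Agent.Helper3.KF Groth.Agent.Helper3.TC

section Ext₃

variable {A : Type u} [CommRing A]

/-- maps out of a triple tensor product of complexes are determined on the summands -/
theorem tensor₃_hom_ext (X Y Z : DRing.Cx A) {k : ℤ} {M : ModuleCat.{u} A}
    {f g : ((X ⊗ Y) ⊗ Z).X k ⟶ M}
    (h : ∀ (p q j m : ℤ) (hm : p + q = m) (hk : m + j = k),
      (HomologicalComplex.ιTensorObj X Y p q m hm ▷ Z.X j) ≫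
        HomologicalComplex.ιTensorObj (X ⊗ Y) Z m j k hk ≫ f =
      (HomologicalComplex.ιTensorObj X Y p q m hm ▷ Z.X j) ≫
        HomologicalComplex.ιTensorObj (X ⊗ Y) Z m j k hk ≫ g) : f = g := by
  apply HomologicalComplex.mapBifunctor₁₂.hom_ext
    (F₁₂ := curriedTensor (ModuleCat.{u} A)) (G := curriedTensor (ModuleCat.{u} A))
    (K₁ := X) (K₂ := Y) (K₃ := Z) (c₁₂ := ComplexShape.up ℤ) (c₄ := ComplexShape.up ℤ)
  intro p q j hh
  have hk : (p + q) + j = k := by
    dsimp [ComplexShape.r] at hh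
    omega
  have h1 := h p q j (p + q) rfl hk
  rw [HomologicalComplex.mapBifunctor₁₂.ι_eq _ _ _ _ _ _ _ p q j (p + q) k rfl hk]
  simp only [curriedTensor_map_app, Category.assoc]
  exact h1

end Ext₃

variable {R A : Type u} [CommRing R] [CommRing A] (φ : R →+* A)

/-- the action of `A[0]` on the restriction of an `A`-complex -/
noncomputable def actS (X : DRing.Cx A) :
    (DTen.resCx φ).obj X ⊗ SB φ ⟶ (DTen.resCx φ).obj X :=
  inv (tXr φ ((DTen.resCx φ).obj X)) ≫ μ φ X

theorem actX_eq {P : DRing.Cx R} (p : P ⟶ SB φ) (X : DRing.Cx A) :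
    actX p X = ((DTen.resCx φ).obj X ◁ p) ≫ actS φ X := by
  dsimp only [actX, π, actS]
  rw [Category.assoc]

theorem actS_ι_tmul (X : DRing.Cx A) (n : ℤ) (a : A) (x : X.X n) :
    ((actS φ X).f n).hom
      ((HomologicalComplex.ιTensorObj ((DTen.resCx φ).obj X) (SB φ) n 0 n (add_zero n)).hom
        ((show (ModuleCat.restrictScalars.{u} φ).obj (X.X n) from x) ⊗ₜ[R] (σB φ).hom.hom a)) =
      (show (ModuleCat.restrictScalars.{u} φ).obj (X.X n) from a • x) := by
  have e1 : ((actS φ X).f n).hom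
      ((HomologicalComplex.ιTensorObj ((DTen.resCx φ).obj X) (SB φ) n 0 n (add_zero n)).hom
        ((show (ModuleCat.restrictScalars.{u} φ).obj (X.X n) from x) ⊗ₜ[R] (σB φ).hom.hom a)) =
      ((μ φ X).f n).hom (((inv (tXr φ ((DTen.resCx φ).obj X))).f n).hom
        ((HomologicalComplex.ιTensorObj ((DTen.resCx φ).obj X) (SB φ) n 0 n (add_zero n)).hom
          ((show (ModuleCat.restrictScalars.{u} φ).obj (X.X n) from x) ⊗ₜ[R]
            (σB φ).hom.hom a))) := rfl
  rw [e1]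
  erw [inv_tXr_ι φ ((DTen.resCx φ).obj X) n a x]
  exact μ_tmul φ X n a x

/-- `γ` on pure tensors -/
theorem γ_ι_tmul (W : DRing.Cx R) (N : DRing.Cx A) (p q k : ℤ) (h : p + q = k) (w : W.X p)
    (n : N.X q) :
    ((γ φ W N).f k).hom ((HomologicalComplex.ιTensorObj W ((DTen.resCx φ).obj N) p q k h).hom
      (w ⊗ₜ[R] (show (ModuleCat.restrictScalars.{u} φ).obj (N.X q) from n))) =
    (show (ModuleCat.restrictScalars.{u} φ).obj (((DTen.extCx φ).obj W ⊗ N).X k) from
      (HomologicalComplex.ιTensorObj ((DTen.extCx φ).obj W) N p q k h).hom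
        ((((1 : A) ⊗ₜ[R,φ] w : (ModuleCat.extendScalars.{u, u, u} φ).obj (W.X p))) ⊗ₜ[A] n)) := by
  have h1 := congrArg (fun t => t.hom
    (w ⊗ₜ[R] (show (ModuleCat.restrictScalars.{u} φ).obj (N.X q) from n))) (ι_γ φ W N p q k h)
  exact h1

/-- the projection formula isomorphism is compatible with the action of `A[0]` -/
theorem γ_actS (W : DRing.Cx R) (N : DRing.Cx A) :
    (γ φ W N ▷ SB φ) ≫ actS φ ((DTen.extCx φ).obj W ⊗ N) =
      (α_ W ((DTen.resCx φ).obj N) (SB φ)).hom ≫ (W ◁ actS φ N) ≫ γ φ W N := by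
  refine HomologicalComplex.hom_ext _ _ (fun k => ?_)
  apply tensor₃_hom_ext
  intro p q j m hm hk
  by_cases hj : j = 0
  · subst hj
    have hmk : m = k := by omega
    subst hmk
    apply ModuleCat.hom_ext
    apply TensorProduct.ext_threefold
    intro w n s
    obtain ⟨a, rfl⟩ : ∃ a : A, (σB φ).hom.hom a = s :=
      ⟨(σB φ).inv.hom s, by
        have := congrArg (fun t => t.hom s) (σB φ).inv_hom_id
        exact this⟩
    have eL : ((HomologicalComplex.ιTensorObj W ((DTen.resCx φ).obj N) p q m hm ▷ (SB φ).X 0) ≫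
        HomologicalComplex.ιTensorObj (W ⊗ (DTen.resCx φ).obj N) (SB φ) m 0 m hk ≫
        ((γ φ W N ▷ SB φ) ≫ actS φ ((DTen.extCx φ).obj W ⊗ N)).f m).hom
          ((w ⊗ₜ[R] n) ⊗ₜ[R] (σB φ).hom.hom a) =
      ((actS φ ((DTen.extCx φ).obj W ⊗ N)).f m).hom (((γ φ W N ▷ SB φ).f m).hom
        ((HomologicalComplex.ιTensorObj (W ⊗ (DTen.resCx φ).obj N) (SB φ) m 0 m hk).hom
          ((HomologicalComplex.ιTensorObj W ((DTen.resCx φ).obj N) p q m hm).hom (w ⊗ₜ[R] n)
            ⊗ₜ[R] (σB φ).hom.hom a))) := rfl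
    have eR : ((HomologicalComplex.ιTensorObj W ((DTen.resCx φ).obj N) p q m hm ▷ (SB φ).X 0) ≫
        HomologicalComplex.ιTensorObj (W ⊗ (DTen.resCx φ).obj N) (SB φ) m 0 m hk ≫
        ((α_ W ((DTen.resCx φ).obj N) (SB φ)).hom ≫ (W ◁ actS φ N) ≫ γ φ W N).f m).hom
          ((w ⊗ₜ[R] n) ⊗ₜ[R] (σB φ).hom.hom a) =
      ((γ φ W N).f m).hom (((W ◁ actS φ N).f m).hom
        (((α_ W ((DTen.resCx φ).obj N) (SB φ)).hom.f m).hom
        ((HomologicalComplex.ιTensorObj (W ⊗ (DTen.resCx φ).obj N) (SB φ) m 0 m hk).hom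
          ((HomologicalComplex.ιTensorObj W ((DTen.resCx φ).obj N) p q m hm).hom (w ⊗ₜ[R] n)
            ⊗ₜ[R] (σB φ).hom.hom a)))) := rfl
    refine eL.trans (Eq.trans ?_ eR.symm)
    rw [whiskerRight_ι_tmul,
      associator_ι_tmul' W ((DTen.resCx φ).obj N) (SB φ) p q 0 m m q hm hk (add_zero q),
      whiskerLeft_ι_tmul]
    erw [γ_ι_tmul φ W N p q m hm w n, actS_ι_tmul φ N q a n,
      γ_ι_tmul φ W N p q m hm w (a • (show ↑(N.X q) from n))]
    erw [actS_ι_tmul φ ((DTen.extCx φ).obj W ⊗ N) m a]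
    let x : ↑((ModuleCat.extendScalars.{u, u, u} φ).obj (W.X p)) := (1 : A) ⊗ₜ[R,φ] w
    let n' : ↑(N.X q) := n
    exact ((HomologicalComplex.ιTensorObj ((DTen.extCx φ).obj W) N p q m hm).hom.map_smul a
      (x ⊗ₜ[A] n')).symm.trans
      (congrArg (HomologicalComplex.ιTensorObj ((DTen.extCx φ).obj W) N p q m hm).hom
        (TensorProduct.tmul_smul (R := A) a x n').symm)
  · exact (isZero_tensor_right _ (isZero_SB φ j hj)).eq_of_src _ _

end Groth.Agent.Helper3.TM
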