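import Groth.Agent.Lib.Helper3.TM2

/-!
# `RHom(A, W) = W ⊗ RHom(A, R)` for `A` perfect over `R`: the chain-level construction (helper3)
-/

set_option autoImplicit false

open CategoryTheory CategoryTheory.Limits MonoidalCategory

universe u

attribute [local instance] HasDerivedCategory.standard

namespace Groth.Agent.Helper3.TM

open Groth.Agent.Helper11.LDer Groth.Agent.Helper11.DC Groth.Agent.Helper11.Tel
open Groth.Agent.Helper3.HT Groth.Agent.Helper3.DT Groth.Agent.Helper3.RH Groth.Agent.Helper3.TH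
open Groth.Agent.Helper3.BC Groth.Agent.Helper3.TB Groth.Agent.Helper3.KP
open Groth.Agent.Helper3.KF Groth.Agent.Helper3.TC

variable {R A : Type u} [CommRing R] [CommRing A] (φ : R →+* A)
  {E : DRing.Cx R} (p : E ⟶ SB φ)
  (N : DRing.Cx A)
  {T : DRing.Cx R} (qN : T ⟶ (DTen.resCx φ).obj N)
  (evT : T ⟶ 𝟙_ (DRing.Cx R))
  (bN : T ⊗ E ⟶ 𝟙_ (DRing.Cx R))

/-- the resolution `W ⊗ T` of the restriction of `(W ⊗_R A) ⊗_A N` -/
noncomputable def qW (W : DRing.Cx R) :
    W ⊗ T ⟶ (DTen.resCx φ).obj ((DTen.extCx φ).obj W ⊗ N) :=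
  (W ◁ qN) ≫ γ φ W N

instance quasiIso_qW (W : DRing.Cx R) [W.IsKProjective] [QuasiIso qN] :
    QuasiIso (qW φ N qN W) := by
  haveI := quasiIso_whiskerLeft_of_isKProjective W qN
  dsimp only [qW]
  infer_instance

instance isIso_Q_qW (W : DRing.Cx R) [W.IsKProjective] [QuasiIso qN] :
    IsIso (DerivedCategory.Q.map (qW φ N qN W)) :=
  (DerivedCategory.isIso_Q_map_iff_quasiIso (φ := qW φ N qN W)).mpr inferInstance

@[reassoc]
theorem qW_nat {W W' : DRing.Cx R} (f : W ⟶ W') :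
    (f ▷ T) ≫ qW φ N qN W' =
      qW φ N qN W ≫ (DTen.resCx φ).map ((DTen.extCx φ).map f ▷ N) := by
  dsimp only [qW]
  rw [Category.assoc, ← γ_nat, ← Category.assoc, ← Category.assoc,
    MonoidalCategory.whisker_exchange]

/-- the evaluation map `((W ⊗_R A) ⊗_A N)|_R ⟶ W` in the derived category -/
noncomputable def ε₀W (W : DRing.Cx R) [W.IsKProjective] [QuasiIso qN] :
    (DRing.restrictD φ).obj (DerivedCategory.Q.obj ((DTen.extCx φ).obj W ⊗ N)) ⟶
      (DerivedCategory.Q.obj W : Dual.D R) :=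
  (DTen.resFactors φ).hom.app ((DTen.extCx φ).obj W ⊗ N) ≫
    inv (DerivedCategory.Q.map (qW φ N qN W)) ≫
    DerivedCategory.Q.map ((W ◁ evT) ≫ (ρ_ W).hom)

theorem ε₀W_nat {W W' : DRing.Cx R} [W.IsKProjective] [W'.IsKProjective] [QuasiIso qN]
    (f : W ⟶ W') :
    (DRing.restrictD φ).map (DerivedCategory.Q.map ((DTen.extCx φ).map f ▷ N)) ≫
        ε₀W φ N qN evT W' =
      ε₀W φ N qN evT W ≫ DerivedCategory.Q.map f := by
  dsimp only [ε₀W]
  have h1 := resFactors_hom_nat φ ((DTen.extCx φ).map f ▷ N)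
  rw [reassoc_of% h1]
  simp only [Category.assoc]
  congr 1
  have h2 : DerivedCategory.Q.map ((DTen.resCx φ).map ((DTen.extCx φ).map f ▷ N)) ≫
      inv (DerivedCategory.Q.map (qW φ N qN W')) =
      inv (DerivedCategory.Q.map (qW φ N qN W)) ≫ DerivedCategory.Q.map (f ▷ T) := by
    rw [IsIso.comp_inv_eq, Category.assoc, IsIso.eq_inv_comp, ← Functor.map_comp,
      ← Functor.map_comp, qW_nat]
  rw [reassoc_of% h2]
  congr 1
  rw [← Functor.map_comp, ← Functor.map_comp]
  congr 1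
  rw [← Category.assoc, ← MonoidalCategory.whisker_exchange, Category.assoc, Category.assoc,
    MonoidalCategory.rightUnitor_naturality]

/-- the pairing `(W ⊗ T) ⊗ E ⟶ W` -/
noncomputable def bW (W : DRing.Cx R) : (W ⊗ T) ⊗ E ⟶ W :=
  (α_ W T E).hom ≫ (W ◁ bN) ≫ (ρ_ W).hom

theorem curH_bW (W : DRing.Cx R) :
    curH (bW bN W) =
      (W ◁ curH bN) ≫ θ W E (𝟙_ (DRing.Cx R)) ≫ DRing.homCxMap E (ρ_ W).hom := by
  apply uncH_injective
  rw [uncH_curH, ← Category.assoc, uncH_comp_right, uncH_comp_left, uncH_θ]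
  dsimp only [bW]
  rw [← Category.assoc ((W ◁ curH bN) ▷ E),
    MonoidalCategory.associator_naturality_middle, Category.assoc, Category.assoc,
    ← MonoidalCategory.whiskerLeft_comp_assoc, ← uncH_eq, uncH_curH]

theorem quasiIso_curH_bW (W : DRing.Cx R) [W.IsKProjective] (hq : QuasiIso (curH bN))
    (a b : ℤ) (hE : DRing.VanishesOutside E a b) (hfp : DRing.TermwiseFiniteProjective E) :
    QuasiIso (curH (bW bN W)) := by
  haveI := hq
  haveI := quasiIso_whiskerLeft_of_isKProjective W (curH bN)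
  haveI := quasiIso_θ_of_perfect_mid E a b hE hfp W (𝟙_ (DRing.Cx R))
  haveI := isIso_homCxMap E (ρ_ W).hom
  rw [curH_bW]
  infer_instance

/-- the action on `(W ⊗_R A) ⊗_A N` through the resolution `W ⊗ T` -/
theorem qW_actX (W : DRing.Cx R) :
    (qW φ N qN W ▷ E) ≫ actX p ((DTen.extCx φ).obj W ⊗ N) =
      (α_ W T E).hom ≫ (W ◁ ((qN ▷ E) ≫ actX p N)) ≫ γ φ W N := by
  rw [actX_eq, actX_eq]
  dsimp only [qW]
  rw [MonoidalCategory.comp_whiskerRight, Category.assoc,
    ← MonoidalCategory.whisker_exchange_assoc, γ_actS,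
    MonoidalCategory.whiskerLeft_comp, MonoidalCategory.whiskerLeft_comp]
  simp only [Category.assoc]
  rw [← MonoidalCategory.associator_naturality_middle_assoc,
    ← MonoidalCategory.associator_naturality_right_assoc]

/-- the pairing `bW` represents the action followed by the evaluation map -/
theorem hbW (W : DRing.Cx R) [W.IsKProjective] [T.IsKProjective] [E.IsKProjective] [QuasiIso qN]
    {εN : (DRing.restrictD φ).obj (DerivedCategory.Q.obj N) ⟶
      (DerivedCategory.Q.obj (𝟙_ (DRing.Cx R)) : Dual.D R)}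
    (hev : DerivedCategory.Q.map evT =
      DerivedCategory.Q.map qN ≫ (DTen.resFactors φ).inv.app N ≫ εN)
    (hbN : DerivedCategory.Q.map bN =
      DerivedCategory.Q.map ((qN ▷ E) ≫ actX p N) ≫ (DTen.resFactors φ).inv.app N ≫ εN) :
    DerivedCategory.Q.map (bW bN W) ≫ (Iso.refl (DerivedCategory.Q.obj W : Dual.D R)).hom =
      DerivedCategory.Q.map ((qW φ N qN W ▷ E) ≫ actX p ((DTen.extCx φ).obj W ⊗ N)) ≫
        (DTen.resFactors φ).inv.app ((DTen.extCx φ).obj W ⊗ N) ≫ ε₀W φ N qN evT W := by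
  haveI : IsIso (DerivedCategory.Q.map qN) :=
    (DerivedCategory.isIso_Q_map_iff_quasiIso (φ := qN)).mpr inferInstance
  haveI := isKProjective_tensor T E
  obtain ⟨m, hm⟩ := exists_lift_of_isKProjective (T ⊗ E) T
    (DerivedCategory.Q.map ((qN ▷ E) ≫ actX p N) ≫ inv (DerivedCategory.Q.map qN))
  have h1 : DerivedCategory.Q.map (m ≫ qN) = DerivedCategory.Q.map ((qN ▷ E) ≫ actX p N) := by
    rw [Functor.map_comp, hm, Category.assoc, IsIso.inv_hom_id, Category.comp_id]
  have h2 : DerivedCategory.Q.map (m ≫ evT) = DerivedCategory.Q.map bN := by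
    rw [Functor.map_comp, hm, hev, hbN, Category.assoc, IsIso.inv_hom_id_assoc]
  obtain ⟨H1⟩ := homotopy_of_Q_map_eq (T ⊗ E) _ _ _ h1
  obtain ⟨H2⟩ := homotopy_of_Q_map_eq (T ⊗ E) _ _ _ h2
  have h3 : DerivedCategory.Q.map (W ◁ (m ≫ qN)) =
      DerivedCategory.Q.map (W ◁ ((qN ▷ E) ≫ actX p N)) := by
    have := Q_map_tensorHom_eq (Homotopy.refl (𝟙 W)) H1
    rw [MonoidalCategory.id_tensorHom, MonoidalCategory.id_tensorHom] at this
    exact this
  have h4 : DerivedCategory.Q.map (W ◁ (m ≫ evT)) = DerivedCategory.Q.map (W ◁ bN) := by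
    have := Q_map_tensorHom_eq (Homotopy.refl (𝟙 W)) H2
    rw [MonoidalCategory.id_tensorHom, MonoidalCategory.id_tensorHom] at this
    exact this
  rw [Iso.refl_hom, Category.comp_id, qW_actX]
  dsimp only [ε₀W]
  rw [Iso.inv_hom_id_app_assoc]
  have h5 : DerivedCategory.Q.map ((α_ W T E).hom ≫ (W ◁ ((qN ▷ E) ≫ actX p N)) ≫ γ φ W N) ≫
      inv (DerivedCategory.Q.map (qW φ N qN W)) =
      DerivedCategory.Q.map (α_ W T E).hom ≫ DerivedCategory.Q.map (W ◁ m) := by
    rw [IsIso.comp_inv_eq, Functor.map_comp, Functor.map_comp, ← h3,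
      MonoidalCategory.whiskerLeft_comp, Functor.map_comp, Category.assoc, Category.assoc,
      ← Functor.map_comp (DerivedCategory.Q) (W ◁ qN)]
    rfl
  rw [reassoc_of% h5, Functor.map_comp, ← Functor.map_comp_assoc DerivedCategory.Q (W ◁ m),
    ← MonoidalCategory.whiskerLeft_comp, h4]
  dsimp only [bW]
  rw [Functor.map_comp, Functor.map_comp]

end Groth.Agent.Helper3.TM
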