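import Groth.Agent.Lib.Helper3.TM3

/-!
# `RHom(A, -) = - ⊗^L_R RHom(A, R)` for `A` perfect over `R` (helper3)
-/

set_option autoImplicit false

open CategoryTheory CategoryTheory.Limits MonoidalCategory

universe u

attribute [local instance] HasDerivedCategory.standard

namespace Groth.Agent.Helper3.TM

open Groth.Agent.Helper11.LDer Groth.Agent.Helper11.DC Groth.Agent.Helper11.Tel
open Groth.Agent.Helper3.HT Groth.Agent.Helper3.DT Groth.Agent.Helper3.RH Groth.Agent.Helper3.TH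
open Groth.Agent.Helper3.BC Groth.Agent.Helper3.TB Groth.Agent.Helper3.KP
open Groth.Agent.Helper3.KF Groth.Agent.Helper3.TC

section Theta

variable {R A : Type u} [CommRing R] [CommRing A] (φ : R →+* A) [DTen.HasLBase φ]
  {Rφ : Dual.D R ⥤ Dual.D A} (adj : DRing.restrictD φ ⊣ Rφ)
  {E : DRing.Cx R} [E.IsKProjective] (p : E ⟶ SB φ) [QuasiIso p]
  (N : DRing.Cx A)
  {T : DRing.Cx R} [T.IsKProjective] (qN : T ⟶ (DTen.resCx φ).obj N) [QuasiIso qN]
  (evT : T ⟶ 𝟙_ (DRing.Cx R))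
  (bN : T ⊗ E ⟶ 𝟙_ (DRing.Cx R))

/-- the comparison map `(W ⊗_R A) ⊗_A N ⟶ RHom(A, W)` -/
noncomputable def θW (W : DRing.Cx R) [W.IsKProjective] :
    (DerivedCategory.Q.obj ((DTen.extCx φ).obj W ⊗ N) : Dual.D A) ⟶
      Rφ.obj (DerivedCategory.Q.obj W) :=
  adj.homEquiv _ _ (ε₀W φ N qN evT W)

omit [DTen.HasLBase φ] [E.IsKProjective] [T.IsKProjective] in
theorem θW_nat {W W' : DRing.Cx R} [W.IsKProjective] [W'.IsKProjective] (f : W ⟶ W') :
    DerivedCategory.Q.map ((DTen.extCx φ).map f ▷ N) ≫ θW φ adj N qN evT W' =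
      θW φ adj N qN evT W ≫ Rφ.map (DerivedCategory.Q.map f) := by
  dsimp only [θW]
  rw [← adj.homEquiv_naturality_left, ← adj.homEquiv_naturality_right, ε₀W_nat]

theorem isIso_θW (W : DRing.Cx R) [W.IsKProjective]
    {εN : (DRing.restrictD φ).obj (DerivedCategory.Q.obj N) ⟶
      (DerivedCategory.Q.obj (𝟙_ (DRing.Cx R)) : Dual.D R)}
    (hev : DerivedCategory.Q.map evT =
      DerivedCategory.Q.map qN ≫ (DTen.resFactors φ).inv.app N ≫ εN)
    (hbN : DerivedCategory.Q.map bN =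
      DerivedCategory.Q.map ((qN ▷ E) ≫ actX p N) ≫ (DTen.resFactors φ).inv.app N ≫ εN)
    (hU : ∀ M : Dual.D R, Function.Bijective
      (Psi (DTen.baseAdj φ) (DerivedCategory.Q.obj N) εN M))
    (a b : ℤ) (hE : DRing.VanishesOutside E a b) (hfp : DRing.TermwiseFiniteProjective E) :
    IsIso (θW φ adj N qN evT W) := by
  have hq : QuasiIso (curH bN) := by
    refine quasiIso_curH p N (𝟙_ (DRing.Cx R)) (Iso.refl _) εN qN bN ?_ hU
    rw [Iso.refl_hom, Category.comp_id]
    exact hbN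
  haveI := isKProjective_tensor W T
  exact isIso_homEquiv_of_bijective_Psi adj (DTen.baseAdj φ)
    (DerivedCategory.Q.obj ((DTen.extCx φ).obj W ⊗ N)) (ε₀W φ N qN evT W)
    (fun M => bijective_Psi_of_quasiIso_curH p ((DTen.extCx φ).obj W ⊗ N) W (Iso.refl _)
      (ε₀W φ N qN evT W) (qW φ N qN W) (bW bN W) (hbW φ p N qN evT bN W hev hbN)
      (quasiIso_curH_bW bN W hq a b hE hfp) M)

end Theta

section Main

variable {R A : Type u} [CommRing R] [CommRing A] (φ : R →+* A)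

/-- `RHom(A, -)` is the mixed derived tensor product with `RHom(A, R)` when `A` is perfect
over `R` -/
theorem nonempty_RHomRel_iso [DTen.HasRHomRel φ] [DTen.HasLTenMix φ]
    (hA : DRing.IsPerfect R ((DRing.restrictD φ).obj (DTen.unit A))) :
    Nonempty (DTen.RHomRel φ ≅
      (Functor.curry.obj (DTen.LTenMix φ)).flip.obj ((DTen.RHomRel φ).obj (DTen.unit R))) := by
  haveI : DRing.HasLBaseChange φ := KP.hasLeftDerivedFunctor _
  haveI : DTen.HasLBase φ := ⟨(adjD φ).isRightAdjoint⟩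
  obtain ⟨E, a, b, hE, hfp, ⟨eE⟩⟩ := hA
  haveI := isKProjective_of_bounded E a b hE hfp
  -- the resolution `p : E ⟶ A[0]`
  let i : (DerivedCategory.Q.obj E : Dual.D R) ≅ DerivedCategory.Q.obj (SB φ) :=
    eE ≪≫ (DTen.resFactors φ).app (𝟙_ (DRing.Cx A)) ≪≫ DerivedCategory.Q.mapIso (resUnitIso φ)
  obtain ⟨p, hp⟩ := exists_lift_of_isKProjective E (SB φ) i.hom
  haveI : QuasiIso p := by
    rw [← DerivedCategory.isIso_Q_map_iff_quasiIso, hp]
    infer_instance
  -- a K-projective representative of `RHom(A, R)`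
  obtain ⟨N, hN, -, ⟨eN⟩⟩ := exists_kprojective_rep ((DTen.RHomRel φ).obj (DTen.unit R))
  haveI := hN
  obtain ⟨T, qN, hT, -, hqN⟩ := exists_kprojective_resolution ((DTen.resCx φ).obj N)
  haveI := hT
  haveI := hqN
  let εN : (DRing.restrictD φ).obj (DerivedCategory.Q.obj N) ⟶
      (DerivedCategory.Q.obj (𝟙_ (DRing.Cx R)) : Dual.D R) :=
    (DRing.restrictD φ).map eN.hom ≫ (DTen.relAdj φ).counit.app (DTen.unit R)
  obtain ⟨evT, hev⟩ := exists_lift_of_isKProjective T (𝟙_ (DRing.Cx R))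
    (DerivedCategory.Q.map qN ≫ (DTen.resFactors φ).inv.app N ≫ εN)
  haveI := isKProjective_tensor T E
  obtain ⟨bN, hbN⟩ := exists_lift_of_isKProjective (T ⊗ E) (𝟙_ (DRing.Cx R))
    (DerivedCategory.Q.map ((qN ▷ E) ≫ actX p N) ≫ (DTen.resFactors φ).inv.app N ≫ εN)
  have hU : ∀ M : Dual.D R, Function.Bijective
      (Psi (DTen.baseAdj φ) (DerivedCategory.Q.obj N) εN M) := by
    intro M
    have h1 : Psi (DTen.baseAdj φ) (DerivedCategory.Q.obj N) εN M =
        Psi (DTen.baseAdj φ) ((DTen.RHomRel φ).obj (DTen.unit R))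
          ((DTen.relAdj φ).counit.app (DTen.unit R)) M ∘
          (fun v => v ≫ (DRing.restrictD φ).map eN.hom) := by
      funext v
      exact Psi_transport (DTen.baseAdj φ) eN.hom ((DTen.relAdj φ).counit.app (DTen.unit R)) M v
    rw [h1]
    exact (bijective_Psi (DTen.relAdj φ) (DTen.baseAdj φ) (DTen.unit R) M).comp
      (bijective_postcomp _)
  have hiso : ∀ (W : DRing.Cx R) [W.IsKProjective],
      IsIso (θW φ (DTen.relAdj φ) N qN evT W) := fun W _ =>
    isIso_θW φ (DTen.relAdj φ) p N qN evT bN W hev hbN hU a b hE hfp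
  -- the natural isomorphism
  refine (nonempty_natIso_of_kprojective
    ((Functor.curry.obj (DTen.LTenMix φ)).flip.obj ((DTen.RHomRel φ).obj (DTen.unit R)))
    (DTen.RHomRel φ)
    (fun W hW => by
      haveI := hW
      haveI := hiso W
      haveI := isIso_εMix φ W N
      exact (DTen.LTenMix φ).mapIso (Iso.prod (Iso.refl (DerivedCategory.Q.obj W)) eN.symm) ≪≫
        asIso ((DTen.εMix φ).app (W, N)) ≪≫ asIso (θW φ (DTen.relAdj φ) N qN evT W)) ?_).map
    Iso.symm
  intro W W' hW hW' f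
  haveI := hW
  haveI := hW'
  haveI := hiso W
  haveI := hiso W'
  haveI := isIso_εMix φ W N
  haveI := isIso_εMix φ W' N
  dsimp only [Iso.trans_hom, Functor.mapIso_hom, asIso_hom, Iso.prod_hom, Iso.refl_hom,
    Iso.symm_hom]
  have h1 : ((Functor.curry.obj (DTen.LTenMix φ)).flip.obj
      ((DTen.RHomRel φ).obj (DTen.unit R))).map (DerivedCategory.Q.map f) =
      (DTen.LTenMix φ).map (Prod.mkHom (DerivedCategory.Q.map f)
        (𝟙 ((DTen.RHomRel φ).obj (DTen.unit R)))) := rfl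
  rw [h1]
  have h2 : (DTen.LTenMix φ).map (Prod.mkHom (DerivedCategory.Q.map f)
        (𝟙 ((DTen.RHomRel φ).obj (DTen.unit R)))) ≫
      (DTen.LTenMix φ).map (Prod.mkHom (𝟙 (DerivedCategory.Q.obj W')) eN.inv) =
      (DTen.LTenMix φ).map (Prod.mkHom (𝟙 (DerivedCategory.Q.obj W)) eN.inv) ≫
        (DTen.LTenMix φ).map (Prod.mkHom (DerivedCategory.Q.map f)
          (𝟙 (DerivedCategory.Q.obj N))) := by
    rw [← Functor.map_comp, ← Functor.map_comp]
    congr 1
    exact Prod.ext (by simp) (by simp)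
  have h3 := (DTen.εMix φ).naturality (Prod.mkHom f (𝟙 N) : (W, N) ⟶ (W', N))
  have h4 : (DTen.QMix R A ⋙ DTen.LTenMix φ).map (Prod.mkHom f (𝟙 N) : (W, N) ⟶ (W', N)) =
      (DTen.LTenMix φ).map (Prod.mkHom (DerivedCategory.Q.map f)
          (𝟙 (DerivedCategory.Q.obj N))) := by
    dsimp only [Functor.comp_map]
    congr 1
    exact Prod.ext rfl (show DerivedCategory.Q.map (𝟙 N) = 𝟙 _ from
      CategoryTheory.Functor.map_id _ _)
  have h5 : (DTen.mix₂ φ).map (Prod.mkHom f (𝟙 N) : (W, N) ⟶ (W', N)) =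
      DerivedCategory.Q.map ((DTen.extCx φ).map f ▷ N) := by
    dsimp only [DTen.mix₂, Functor.comp_map]
    rw [tensorT_map]
    dsimp only [Functor.prod_map, Prod.mkHom, Functor.id_map]
    exact congrArg _ (MonoidalCategory.tensorHom_id ((DTen.extCx φ).map f) N)
  rw [h4, h5] at h3
  erw [reassoc_of% h2, reassoc_of% h3]
  simp only [Category.assoc]
  congr 2
  exact θW_nat φ (DTen.relAdj φ) N qN evT f

end Main

end Groth.Agent.Helper3.TM
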