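import Groth.Agent.Lib.Helper3.TM4

/-!
# The restriction of `RHom(A, W)` is computed by the Hom complex out of a resolution of `A`
(helper3)
-/

set_option autoImplicit false

open CategoryTheory CategoryTheory.Limits MonoidalCategory

universe u

attribute [local instance] HasDerivedCategory.standard

namespace Groth.Agent.Helper3.TN

open Groth.Agent.Helper11.LDer Groth.Agent.Helper11.DC Groth.Agent.Helper11.Tel
open Groth.Agent.Helper3.HT Groth.Agent.Helper3.DT Groth.Agent.Helper3.RH Groth.Agent.Helper3.TH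
open Groth.Agent.Helper3.BC Groth.Agent.Helper3.TB Groth.Agent.Helper3.KP
open Groth.Agent.Helper3.KF Groth.Agent.Helper3.TC Groth.Agent.Helper3.TM

variable {R A : Type u} [CommRing R] [CommRing A] (φ : R →+* A) [DTen.HasLBase φ]
  {Rφ : Dual.D R ⥤ Dual.D A} (adj : DRing.restrictD φ ⊣ Rφ)
  {E : DRing.Cx R} [E.IsKProjective] (p : E ⟶ SB φ) [QuasiIso p]

include adj p in
/-- `RHom(A, W)|_R = Hom(E, W)` for a K-projective resolution `E` of `A` over `R` -/
theorem nonempty_res_iso_homCx (W : DRing.Cx R) [W.IsKProjective] :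
    Nonempty ((DRing.restrictD φ).obj (Rφ.obj (DerivedCategory.Q.obj W)) ≅
      (DerivedCategory.Q.obj (DRing.homCx E W) : Dual.D R)) := by
  obtain ⟨X, hX, -, ⟨eX⟩⟩ := exists_kprojective_rep (Rφ.obj (DerivedCategory.Q.obj W))
  haveI := hX
  obtain ⟨T, q, hT, -, hq⟩ := exists_kprojective_resolution ((DTen.resCx φ).obj X)
  haveI := hT
  haveI := hq
  let ε₀ : (DRing.restrictD φ).obj (DerivedCategory.Q.obj X) ⟶
      (DerivedCategory.Q.obj W : Dual.D R) :=
    (DRing.restrictD φ).map eX.hom ≫ adj.counit.app (DerivedCategory.Q.obj W)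
  haveI := isKProjective_tensor T E
  obtain ⟨b, hb⟩ := exists_lift_of_isKProjective (T ⊗ E) W
    (DerivedCategory.Q.map ((q ▷ E) ≫ actX p X) ≫ (DTen.resFactors φ).inv.app X ≫ ε₀)
  have hU : ∀ M : Dual.D R, Function.Bijective
      (Psi (DTen.baseAdj φ) (DerivedCategory.Q.obj X) ε₀ M) := by
    intro M
    have h1 : Psi (DTen.baseAdj φ) (DerivedCategory.Q.obj X) ε₀ M =
        Psi (DTen.baseAdj φ) (Rφ.obj (DerivedCategory.Q.obj W))
          (adj.counit.app (DerivedCategory.Q.obj W)) M ∘
          (fun v => v ≫ (DRing.restrictD φ).map eX.hom) := by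
      funext v
      exact Psi_transport (DTen.baseAdj φ) eX.hom (adj.counit.app (DerivedCategory.Q.obj W)) M v
    rw [h1]
    exact (bijective_Psi adj (DTen.baseAdj φ) (DerivedCategory.Q.obj W) M).comp
      (bijective_postcomp _)
  have hq' : QuasiIso (curH b) := by
    refine quasiIso_curH p X W (Iso.refl _) ε₀ q b ?_ hU
    rw [Iso.refl_hom, Category.comp_id]
    exact hb
  haveI : IsIso (DerivedCategory.Q.map q) :=
    (DerivedCategory.isIso_Q_map_iff_quasiIso (φ := q)).mpr inferInstance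
  haveI : IsIso (DerivedCategory.Q.map (curH b)) :=
    (DerivedCategory.isIso_Q_map_iff_quasiIso (φ := curH b)).mpr hq'
  exact ⟨(DRing.restrictD φ).mapIso eX.symm ≪≫ (DTen.resFactors φ).app X ≪≫
    (asIso (DerivedCategory.Q.map q)).symm ≪≫ asIso (DerivedCategory.Q.map (curH b))⟩

end Groth.Agent.Helper3.TN
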