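import Groth.Agent.Lib.Helper3.TN1

/-!
# Two-term complexes quasi-isomorphic to a single module (helper3)
-/

set_option autoImplicit false

open CategoryTheory CategoryTheory.Limits

universe v u

namespace Groth.Agent.Helper3.TN

section General

variable {C : Type u} [Category.{v} C] [Abelian C]

/-- a complex concentrated in degrees `n`, `n + 1` with injective differential maps
quasi-isomorphically onto the cokernel of the differential placed in degree `n + 1` -/
theorem quasiIso_to_single (K : CochainComplex C ℤ) (n : ℤ) (Z : C)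
    (f : K ⟶ (HomologicalComplex.single C (ComplexShape.up ℤ) (n + 1)).obj Z)
    (hz : ∀ i : ℤ, i ≠ n → i ≠ n + 1 → IsZero (K.X i))
    (hmono : Mono (K.d n (n + 1)))
    (hex : (ShortComplex.mk (K.d n (n + 1)) (f.f (n + 1)) (by
      rw [← f.comm, HomologicalComplex.single_obj_d, comp_zero])).Exact)
    (hepi : Epi (f.f (n + 1))) : QuasiIso f := by
  rw [quasiIso_iff]
  intro i
  by_cases h1 : i = n + 1
  · subst h1
    rw [quasiIsoAt_iff' f n (n + 1) (n + 1 + 1) (by simp) (by simp)]
    rw [ShortComplex.quasiIso_iff_of_zeros']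
    · exact ⟨hex, hepi⟩
    · exact (hz (n + 1 + 1) (by omega) (by omega)).eq_of_tgt _ _
    · exact HomologicalComplex.single_obj_d (ComplexShape.up ℤ) (n + 1) Z _ _
    · exact HomologicalComplex.single_obj_d (ComplexShape.up ℤ) (n + 1) Z _ _
  · have hT : ((HomologicalComplex.single C (ComplexShape.up ℤ) (n + 1)).obj Z).ExactAt i :=
      Groth.Agent.Helper3.TB.exactAt_of_isZero_X i
        (HomologicalComplex.isZero_single_obj_X _ _ _ _ h1)
    rw [quasiIsoAt_iff_exactAt' f i hT]
    by_cases h2 : i = n
    · subst h2
      rw [HomologicalComplex.exactAt_iff' K (i - 1) i (i + 1) (by simp) (by simp)]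
      rw [ShortComplex.exact_iff_mono]
      · exact hmono
      · exact (hz (i - 1) (by omega) (by omega)).eq_of_src _ _
    · exact Groth.Agent.Helper3.TB.exactAt_of_isZero_X i (hz i h2 h1)

/-- variant with a free target degree -/
theorem quasiIso_to_single' (K : CochainComplex C ℤ) (n m : ℤ) (hnm : n + 1 = m) (Z : C)
    (f : K ⟶ (HomologicalComplex.single C (ComplexShape.up ℤ) m).obj Z)
    (hz : ∀ i : ℤ, i ≠ n → i ≠ m → IsZero (K.X i))
    (hmono : Mono (K.d n m))
    (hex : (ShortComplex.mk (K.d n m) (f.f m) (by
      rw [← f.comm, HomologicalComplex.single_obj_d, comp_zero])).Exact)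
    (hepi : Epi (f.f m)) : QuasiIso f := by
  subst hnm
  exact quasiIso_to_single K n Z f hz hmono hex hepi

end General

end Groth.Agent.Helper3.TN
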