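import Groth.Agent.Lib.Helper3.TN2
import Mathlib.Algebra.Homology.HomotopyCategory.HomComplexSingle

/-!
# The Hom complex from a two-term complex to a module in degree `0` (helper3)
-/

set_option autoImplicit false

open CategoryTheory CategoryTheory.Limits CochainComplex HomComplex

universe u

namespace Groth.Agent.Helper3.TN

variable {R : Type u} [CommRing R] (E : DRing.Cx R) (Z : ModuleCat.{u} R)

/-- the module `Z` in degree `0` -/
noncomputable abbrev S0 : DRing.Cx R :=
  (CochainComplex.singleFunctor (ModuleCat.{u} R) 0).obj Z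

/-- cochains to a module in degree `0`, linearly -/
noncomputable def toSingleLin (p n : ℤ) (h : p + n = 0) :
    Cochain E (S0 Z) n ≃ₗ[R] (E.X p ⟶ Z) where
  toFun α := α.v p 0 h ≫ (HomologicalComplex.singleObjXSelf (ComplexShape.up ℤ) 0 Z).hom
  invFun f := Cochain.toSingleMk (K := E) (X := Z) f h
  left_inv α := (Cochain.toSingleEquiv (K := E) (X := Z) h).left_inv α
  right_inv f := (Cochain.toSingleEquiv (K := E) (X := Z) h).right_inv f
  map_add' α β := by
    rw [Cochain.add_v, Preadditive.add_comp]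
  map_smul' a α := by
    rw [Cochain.smul_v, Linear.smul_comp]
    rfl

theorem toSingleLin_δ (p p' n n' : ℤ) (h : p + n = 0) (h' : p' + n' = 0)
    (α : Cochain E (S0 Z) n) :
    toSingleLin E Z p' n' h' (δ n n' α) =
      n'.negOnePow • (E.d p' p ≫ toSingleLin E Z p n h α) := by
  obtain ⟨f, rfl⟩ : ∃ f, (toSingleLin E Z p n h).symm f = α :=
    ⟨toSingleLin E Z p n h α, LinearEquiv.symm_apply_apply _ _⟩
  rw [LinearEquiv.apply_symm_apply]
  have h1 : (toSingleLin E Z p n h).symm f = Cochain.toSingleMk (K := E) (X := Z) f h := rfl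
  rw [h1, Cochain.δ_toSingleMk f h n' p' h']
  have h2 : n'.negOnePow • Cochain.toSingleMk (K := E) (X := Z) (E.d p' p ≫ f) h' =
      (toSingleLin E Z p' n' h').symm (n'.negOnePow • (E.d p' p ≫ f)) := by
    rw [Units.smul_def, Units.smul_def, map_zsmul]
    rfl
  rw [h2, LinearEquiv.apply_symm_apply]

section TwoTerm

variable (hz : ∀ p : ℤ, p ≠ -1 → p ≠ 0 → IsZero (E.X p))

include hz in
theorem isZero_homCx_X (i : ℤ) (h0 : i ≠ 0) (h1 : i ≠ 1) :
    IsZero ((DRing.homCx E (S0 Z)).X i) := by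
  haveI : Subsingleton (E.X (-i) ⟶ Z) :=
    ⟨fun a b => (hz (-i) (by omega) (by omega)).eq_of_src a b⟩
  haveI : Subsingleton (Cochain E (S0 Z) i) :=
    (toSingleLin E Z (-i) i (by omega)).toEquiv.subsingleton
  exact ModuleCat.isZero_of_subsingleton (ModuleCat.of R (Cochain E (S0 Z) i))

include hz in
/-- the Hom complex from a two-term complex to a module is quasi-isomorphic to the cokernel of
the transpose of the differential, placed in degree `1` -/
theorem exists_quasiIso_dual (N : ModuleCat.{u} R) (Ψ₁ : (E.X (-1) ⟶ Z) →ₗ[R] N)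
    (hinj : ∀ g : E.X 0 ⟶ Z, E.d (-1) 0 ≫ g = 0 → g = 0)
    (hker : ∀ f : E.X (-1) ⟶ Z, Ψ₁ f = 0 ↔ ∃ g : E.X 0 ⟶ Z, E.d (-1) 0 ≫ g = f)
    (hsurj : Function.Surjective Ψ₁) :
    ∃ f : DRing.homCx E (S0 Z) ⟶
      (HomologicalComplex.single (ModuleCat.{u} R) (ComplexShape.up ℤ) 1).obj N, QuasiIso f := by
  let φ1 : (DRing.homCx E (S0 Z)).X 1 ⟶ N :=
    ModuleCat.ofHom (Ψ₁ ∘ₗ (toSingleLin E Z (-1) 1 (by norm_num)).toLinearMap)
  have hφ1 : ∀ α : Cochain E (S0 Z) 1, φ1.hom α = Ψ₁ (toSingleLin E Z (-1) 1 (by norm_num) α) :=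
    fun α => rfl
  have hd : ∀ α : Cochain E (S0 Z) 0,
      ((DRing.homCx E (S0 Z)).d 0 1).hom α = δ 0 1 α := fun α => rfl
  have hδ : ∀ α : Cochain E (S0 Z) 0, toSingleLin E Z (-1) 1 (by norm_num) (δ 0 1 α) =
      (1 : ℤ).negOnePow • (E.d (-1) 0 ≫ toSingleLin E Z 0 0 (by norm_num) α) :=
    fun α => toSingleLin_δ E Z 0 (-1) 0 1 (by norm_num) (by norm_num) α
  have hcomp : (DRing.homCx E (S0 Z)).d 0 1 ≫ φ1 = 0 := by
    apply ModuleCat.hom_ext
    apply LinearMap.ext
    intro (α : Cochain E (S0 Z) 0)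
    change φ1.hom (((DRing.homCx E (S0 Z)).d 0 1).hom α) = 0
    rw [hd, hφ1, hδ, Units.smul_def, map_zsmul,
      (hker _).mpr ⟨toSingleLin E Z 0 0 (by norm_num) α, rfl⟩, smul_zero]
  let f : DRing.homCx E (S0 Z) ⟶
      (HomologicalComplex.single (ModuleCat.{u} R) (ComplexShape.up ℤ) 1).obj N :=
    HomologicalComplex.mkHomToSingle φ1 (fun i hi => by
      obtain rfl : i = 0 := by
        change i + 1 = 1 at hi
        omega
      exact hcomp)
  have hf1 : f.f 1 = φ1 ≫
      (HomologicalComplex.singleObjXSelf (ComplexShape.up ℤ) 1 N).inv :=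
    HomologicalComplex.mkHomToSingle_f _ _
  refine ⟨f, quasiIso_to_single' _ 0 1 (by norm_num) N f
    (fun i h0 h1 => isZero_homCx_X E Z hz i h0 h1) ?_ ?_ ?_⟩
  · -- injectivity of the differential
    rw [ModuleCat.mono_iff_injective]
    intro (α : Cochain E (S0 Z) 0) (β : Cochain E (S0 Z) 0) hαβ
    have h1 : δ 0 1 (α - β) = 0 := by
      rw [δ_sub]
      exact sub_eq_zero.mpr hαβ
    have h2 := hδ (α - β)
    rw [h1, map_zero] at h2
    have h3 : E.d (-1) 0 ≫ toSingleLin E Z 0 0 (by norm_num) (α - β) = 0 := by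
      have h4 : (1 : ℤ).negOnePow • (0 : E.X (-1) ⟶ Z) = (1 : ℤ).negOnePow • ((1 : ℤ).negOnePow •
          (E.d (-1) 0 ≫ toSingleLin E Z 0 0 (by norm_num) (α - β))) :=
        congrArg (fun t => (1 : ℤ).negOnePow • t) h2
      rw [smul_zero, smul_smul, ← Int.negOnePow_add, Int.negOnePow_even (1 + 1) (by decide),
        one_smul] at h4
      exact h4.symm
    have h5 := hinj _ h3
    have h6 : α - β = 0 := (toSingleLin E Z 0 0 (by norm_num)).injective (h5.trans (map_zero _).symm)
    exact sub_eq_zero.mp h6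
  · -- exactness in the middle
    rw [ShortComplex.moduleCat_exact_iff]
    intro (α : Cochain E (S0 Z) 1) hα
    have h1 : φ1.hom α = 0 := by
      have h2 : (f.f 1).hom α = 0 := hα
      rw [hf1] at h2
      have h3 : (HomologicalComplex.singleObjXSelf (ComplexShape.up ℤ) 1 N).hom.hom
          ((φ1 ≫ (HomologicalComplex.singleObjXSelf (ComplexShape.up ℤ) 1 N).inv).hom α) =
          (HomologicalComplex.singleObjXSelf (ComplexShape.up ℤ) 1 N).hom.hom 0 :=
        congrArg
          (fun t => (HomologicalComplex.singleObjXSelf (ComplexShape.up ℤ) 1 N).hom.hom t) h2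
      rw [map_zero] at h3
      have h4 : (HomologicalComplex.singleObjXSelf (ComplexShape.up ℤ) 1 N).hom.hom
          ((φ1 ≫ (HomologicalComplex.singleObjXSelf (ComplexShape.up ℤ) 1 N).inv).hom α) =
          φ1.hom α := by
        have := congrArg (fun t => t.hom (φ1.hom α))
          (HomologicalComplex.singleObjXSelf (ComplexShape.up ℤ) 1 N).inv_hom_id
        exact this
      exact h4.symm.trans h3
    rw [hφ1] at h1
    obtain ⟨g, hg⟩ := (hker _).mp h1
    refine ⟨(toSingleLin E Z 0 0 (by norm_num)).symm ((1 : ℤ).negOnePow • g), ?_⟩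
    change δ 0 1 _ = α
    apply (toSingleLin E Z (-1) 1 (by norm_num)).injective
    rw [hδ, LinearEquiv.apply_symm_apply, Linear.comp_units_smul, smul_smul,
      ← Int.negOnePow_add, hg, Int.negOnePow_even (1 + 1) (by decide), one_smul]
  · -- surjectivity
    rw [hf1]
    haveI : Epi φ1 := by
      rw [ModuleCat.epi_iff_surjective]
      intro n
      obtain ⟨g, hg⟩ := hsurj n
      exact ⟨(toSingleLin E Z (-1) 1 (by norm_num)).symm g, by
        rw [hφ1, LinearEquiv.apply_symm_apply, hg]⟩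
    infer_instance

end TwoTerm

end Groth.Agent.Helper3.TN
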