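import Mathlib.RingTheory.PicardGroup
import Mathlib.RingTheory.TensorProduct.Basic
import Mathlib.Algebra.Module.Projective

/-!
# `Ext¹_R(R/I, R)` for an invertible ideal `I`: the module theory (helper3)

For a surjection `R → A` with invertible kernel `I` and an inverse `N` of the invertible
`A`-module `A ⊗_R I`, we construct a surjective `R`-linear map `Hom_R(I, R) → N` whose kernel
consists of the multiples of the inclusion.
-/

set_option autoImplicit false

open scoped TensorProduct

universe u

namespace Groth.Agent.Helper3.TN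

variable {R A : Type u} [CommRing R] [CommRing A] [Algebra R A]
  (N : Type u) [AddCommGroup N] [Module A N]
  (e : (A ⊗[R] (RingHom.ker (algebraMap R A))) ⊗[A] N ≃ₗ[A] A)

/-- `N ≃ Hom_A(A ⊗ I, A)` -/
noncomputable def dualEquiv :
    N ≃ₗ[A] ((A ⊗[R] (RingHom.ker (algebraMap R A))) →ₗ[A] A) :=
  Module.Invertible.linearEquivDual (TensorProduct.comm A N _ ≪≫ₗ e)

/-- the underlying function of the map `Hom_R(I, R) → N` -/
noncomputable def psiFun (f : (RingHom.ker (algebraMap R A)) →ₗ[R] R) : N :=
  (dualEquiv N e).symm (LinearMap.liftBaseChangeEquiv A ((Algebra.linearMap R A) ∘ₗ f))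

theorem psiFun_add (f g : (RingHom.ker (algebraMap R A)) →ₗ[R] R) :
    psiFun N e (f + g) = psiFun N e f + psiFun N e g := by
  dsimp only [psiFun]
  rw [LinearMap.comp_add, map_add, map_add]

theorem psiFun_smul (r : R) (f : (RingHom.ker (algebraMap R A)) →ₗ[R] R) :
    psiFun N e (r • f) = algebraMap R A r • psiFun N e f := by
  dsimp only [psiFun]
  have h1 : (Algebra.linearMap R A) ∘ₗ (r • f) =
      algebraMap R A r • ((Algebra.linearMap R A) ∘ₗ f) := by
    ext x
    simp [Algebra.smul_def]
  rw [h1, map_smul, map_smul]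

theorem psiFun_eq_zero_iff (f : (RingHom.ker (algebraMap R A)) →ₗ[R] R) :
    psiFun N e f = 0 ↔ ∀ x, f x ∈ RingHom.ker (algebraMap R A) := by
  dsimp only [psiFun]
  rw [LinearEquiv.map_eq_zero_iff, LinearEquiv.map_eq_zero_iff]
  constructor
  · intro h x
    have := congrArg (fun t => t x) h
    simpa [RingHom.mem_ker] using this
  · intro h
    ext x
    simpa [RingHom.mem_ker] using h x

variable [Module.Invertible R (RingHom.ker (algebraMap R A))]

theorem psiFun_surjective (hφ : Function.Surjective (algebraMap R A)) :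
    Function.Surjective (psiFun N e) := by
  intro n
  obtain ⟨f, hf⟩ := Module.projective_lifting_property (Algebra.linearMap R A)
    ((LinearMap.liftBaseChangeEquiv A).symm (dualEquiv N e n)) hφ
  refine ⟨f, ?_⟩
  dsimp only [psiFun]
  rw [hf, LinearEquiv.apply_symm_apply, LinearEquiv.symm_apply_apply]

/-- maps `I → R` with values in `I` are the multiples of the inclusion -/
theorem exists_smul_of_forall_mem (f : (RingHom.ker (algebraMap R A)) →ₗ[R] R)
    (hf : ∀ x, f x ∈ RingHom.ker (algebraMap R A)) :
    ∃ r : R, ∀ x : RingHom.ker (algebraMap R A), f x = r * x := by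
  let f' : (RingHom.ker (algebraMap R A)) →ₗ[R] (RingHom.ker (algebraMap R A)) :=
    f.codRestrict (Submodule.restrictScalars R (RingHom.ker (algebraMap R A))) hf
  obtain ⟨r, hr⟩ := (Module.Invertible.toModuleEnd_bijective R
    (RingHom.ker (algebraMap R A))).surjective f'
  refine ⟨r, fun x => ?_⟩
  have h1 := congrArg (fun t : Module.End R (RingHom.ker (algebraMap R A)) =>
    ((t x : RingHom.ker (algebraMap R A)) : R)) hr
  have h2 : ((f' x : RingHom.ker (algebraMap R A)) : R) = f x := rfl
  rw [← h2]
  simpa using h1.symm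

theorem eq_zero_of_forall_mul_eq_zero (s : R)
    (hs : ∀ x : RingHom.ker (algebraMap R A), s * x = 0) : s = 0 := by
  apply FaithfulSMul.eq_of_smul_eq_smul (α := (RingHom.ker (algebraMap R A)))
  intro x
  apply Subtype.ext
  simpa using hs x

end Groth.Agent.Helper3.TN
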