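import Groth.Agent.Lib.Helper3.TN3
import Groth.Agent.Lib.Helper3.TN4
import Mathlib.Algebra.Homology.Double

/-!
# The two-term resolution `I → R` of `A = R/I` (helper3)
-/

set_option autoImplicit false

open CategoryTheory CategoryTheory.Limits CochainComplex HomComplex
open scoped TensorProduct

universe u

attribute [local instance] HasDerivedCategory.standard

namespace Groth.Agent.Helper3.TN

open Groth.Agent.Helper11.LDer Groth.Agent.Helper11.DC Groth.Agent.Helper11.Tel
open Groth.Agent.Helper3.BC Groth.Agent.Helper3.TB Groth.Agent.Helper3.TC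

variable (R A : Type u) [CommRing R] [CommRing A] [Algebra R A]

/-- the inclusion of the kernel as a morphism of modules -/
noncomputable abbrev ιI : ModuleCat.of R (RingHom.ker (algebraMap R A)) ⟶ ModuleCat.of R R :=
  ModuleCat.ofHom (RingHom.ker (algebraMap R A)).subtype

theorem rel_neg_one_zero : (ComplexShape.up ℤ).Rel (-1) 0 := by simp

/-- the two-term complex `I → R` in degrees `-1`, `0` -/
noncomputable def E2 : DRing.Cx R :=
  HomologicalComplex.double (ιI R A) rel_neg_one_zero

theorem isZero_E2_X (p : ℤ) (h1 : p ≠ -1) (h0 : p ≠ 0) : IsZero ((E2 R A).X p) :=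
  HomologicalComplex.isZero_double_X _ _ p h1 h0

/-- the term in degree `-1` -/
noncomputable def j₁ : (E2 R A).X (-1) ≅ ModuleCat.of R (RingHom.ker (algebraMap R A)) :=
  HomologicalComplex.doubleXIso₀ (ιI R A) rel_neg_one_zero

/-- the term in degree `0` -/
noncomputable def j₀ : (E2 R A).X 0 ≅ ModuleCat.of R R :=
  HomologicalComplex.doubleXIso₁ (ιI R A) rel_neg_one_zero (by norm_num)

theorem E2_d : (E2 R A).d (-1) 0 = (j₁ R A).hom ≫ ιI R A ≫ (j₀ R A).inv :=
  HomologicalComplex.double_d _ _ (by norm_num)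

/-- the structure map `R → A` as a morphism of `R`-modules -/
noncomputable def aM : ModuleCat.of R R ⟶ Bm (algebraMap R A) :=
  ModuleCat.ofHom (X := ModuleCat.of R R) (Y := Bm (algebraMap R A))
    { toFun := fun r => algebraMap R A r
      map_add' := fun r s => map_add _ r s
      map_smul' := fun r s => by
        change algebraMap R A (r * s) = algebraMap R A r * algebraMap R A s
        exact map_mul _ r s }

theorem aM_apply (r : R) : (aM R A).hom r = algebraMap R A r := rfl

theorem ιI_aM : ιI R A ≫ aM R A = 0 := by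
  apply ModuleCat.hom_ext
  apply LinearMap.ext
  intro (x : RingHom.ker (algebraMap R A))
  change algebraMap R A (x : R) = 0
  exact (RingHom.mem_ker).mp x.2

/-- the augmentation in degree `0` -/
noncomputable def p₀ : (E2 R A).X 0 ⟶ Bm (algebraMap R A) := (j₀ R A).hom ≫ aM R A

theorem d_p₀ : (E2 R A).d (-1) 0 ≫ p₀ R A = 0 := by
  rw [E2_d, p₀, Category.assoc, Category.assoc, Iso.inv_hom_id_assoc, ιI_aM, comp_zero]

/-- the augmentation `E2 ⟶ A[0]` -/
noncomputable def p2 : E2 R A ⟶ SB (algebraMap R A) :=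
  HomologicalComplex.mkHomToSingle (p₀ R A) (fun i hi => by
    obtain rfl : i = -1 := by
      change i + 1 = 0 at hi
      omega
    exact d_p₀ R A)

theorem p2_f : (p2 R A).f 0 = p₀ R A ≫
    (HomologicalComplex.singleObjXSelf (ComplexShape.up ℤ) 0 (Bm (algebraMap R A))).inv :=
  HomologicalComplex.mkHomToSingle_f _ _

theorem iso_hom_inv_apply {X Y : ModuleCat.{u} R} (i : X ≅ Y) (x : X) :
    i.inv.hom (i.hom.hom x) = x :=
  congrArg (fun t => t.hom x) i.hom_inv_id

theorem iso_inv_hom_apply {X Y : ModuleCat.{u} R} (i : X ≅ Y) (y : Y) :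
    i.hom.hom (i.inv.hom y) = y :=
  congrArg (fun t => t.hom y) i.inv_hom_id

theorem iso_hom_injective {X Y : ModuleCat.{u} R} (i : X ≅ Y) : Function.Injective i.hom.hom :=
  fun x y h => by
    rw [← iso_hom_inv_apply R i x, ← iso_hom_inv_apply R i y, h]

theorem iso_inv_injective {X Y : ModuleCat.{u} R} (i : X ≅ Y) : Function.Injective i.inv.hom :=
  iso_hom_injective R i.symm

theorem quasiIso_p2 (hφ : Function.Surjective (algebraMap R A)) : QuasiIso (p2 R A) := by
  refine quasiIso_to_single' (E2 R A) (-1) 0 (by norm_num) (Bm (algebraMap R A)) (p2 R A)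
    (fun i h1 h0 => isZero_E2_X R A i h1 h0) ?_ ?_ ?_
  · rw [E2_d]
    haveI : Mono (ιI R A) := (ModuleCat.mono_iff_injective _).mpr Subtype.val_injective
    infer_instance
  · rw [ShortComplex.moduleCat_exact_iff]
    intro (x : (E2 R A).X 0) hx
    have h1 : ((p2 R A).f 0).hom x = 0 := hx
    rw [p2_f] at h1
    have h2 : (p₀ R A).hom x = 0 := by
      apply iso_inv_injective R (HomologicalComplex.singleObjXSelf (ComplexShape.up ℤ) 0
        (Bm (algebraMap R A)))
      rw [map_zero]
      exact h1
    have h3 : algebraMap R A ((j₀ R A).hom.hom x) = 0 := h2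
    refine ⟨(j₁ R A).inv.hom (⟨(j₀ R A).hom.hom x, (RingHom.mem_ker).mpr h3⟩ :
      RingHom.ker (algebraMap R A)), ?_⟩
    change ((E2 R A).d (-1) 0).hom _ = x
    rw [E2_d]
    change (j₀ R A).inv.hom ((ιI R A).hom ((j₁ R A).hom.hom ((j₁ R A).inv.hom _))) = x
    rw [iso_inv_hom_apply]
    exact iso_hom_inv_apply R (j₀ R A) x
  · rw [p2_f, p₀]
    haveI : Epi (aM R A) := (ModuleCat.epi_iff_surjective _).mpr hφ
    infer_instance

end Groth.Agent.Helper3.TN
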