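import Groth.Agent.Lib.Helper3.TN5

/-!
# The two-term resolution `I → R`: perfectness and the map `Hom(I, R) → N` (helper3)
-/

set_option autoImplicit false

open CategoryTheory CategoryTheory.Limits CochainComplex HomComplex MonoidalCategory
open scoped TensorProduct

universe u

attribute [local instance] HasDerivedCategory.standard

namespace Groth.Agent.Helper3.TN

open Groth.Agent.Helper11.LDer Groth.Agent.Helper11.DC Groth.Agent.Helper11.Tel
open Groth.Agent.Helper3.BC Groth.Agent.Helper3.TB Groth.Agent.Helper3.TC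

variable (R A : Type u) [CommRing R] [CommRing A] [Algebra R A]

theorem vanishesOutside_E2 : DRing.VanishesOutside (E2 R A) (-1) 0 := by
  intro i hi
  exact isZero_E2_X R A i (by omega) (by omega)

theorem termwise_E2 [Module.Invertible R (RingHom.ker (algebraMap R A))] :
    DRing.TermwiseFiniteProjective (E2 R A) := by
  intro i
  by_cases h1 : i = -1
  · subst h1
    exact ⟨Module.Finite.equiv (j₁ R A).toLinearEquiv.symm,
      Module.Projective.of_equiv (j₁ R A).toLinearEquiv.symm⟩
  · by_cases h0 : i = 0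
    · subst h0
      exact ⟨Module.Finite.equiv (j₀ R A).toLinearEquiv.symm,
        Module.Projective.of_equiv (j₀ R A).toLinearEquiv.symm⟩
    · haveI : Subsingleton ((E2 R A).X i) :=
        ModuleCat.subsingleton_of_isZero (isZero_E2_X R A i h1 h0)
      exact ⟨inferInstance, inferInstance⟩

variable (N : Type u) [AddCommGroup N] [Module A N]
  (e : (A ⊗[R] (RingHom.ker (algebraMap R A))) ⊗[A] N ≃ₗ[A] A)

/-- `N` as an `R`-module -/
noncomputable abbrev NR : ModuleCat.{u} R :=
  (ModuleCat.restrictScalars.{u} (algebraMap R A)).obj (ModuleCat.of A N)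

/-- the map `Hom(I, R) → N` on the complex level -/
noncomputable def Ψ₁ : ((E2 R A).X (-1) ⟶ ModuleCat.of R R) →ₗ[R] NR R A N where
  toFun f := psiFun N e ((j₁ R A).inv ≫ f).hom
  map_add' f g := by
    rw [Preadditive.comp_add, ModuleCat.hom_add]
    exact psiFun_add N e _ _
  map_smul' r f := by
    rw [Linear.comp_smul, ModuleCat.hom_smul]
    exact psiFun_smul N e r _

theorem Ψ₁_apply (f : (E2 R A).X (-1) ⟶ ModuleCat.of R R) :
    Ψ₁ R A N e f = psiFun N e ((j₁ R A).inv ≫ f).hom := rfl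

/-- endomorphisms of `R` are multiplications -/
theorem end_apply (g : ModuleCat.of R R ⟶ ModuleCat.of R R) (x : R) :
    g.hom x = x * g.hom (1 : R) := by
  have h := g.hom.map_smul x (1 : R)
  rw [smul_eq_mul, mul_one] at h
  rw [h, smul_eq_mul]

variable [Module.Invertible R (RingHom.ker (algebraMap R A))]

theorem hinj (g : (E2 R A).X 0 ⟶ ModuleCat.of R R) (hg : (E2 R A).d (-1) 0 ≫ g = 0) : g = 0 := by
  rw [E2_d, Category.assoc, Category.assoc] at hg
  have h1 : ιI R A ≫ (j₀ R A).inv ≫ g = 0 := by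
    rw [← cancel_epi (j₁ R A).hom, hg, comp_zero]
  have h2 : ((j₀ R A).inv ≫ g).hom (1 : R) = 0 := by
    apply eq_zero_of_forall_mul_eq_zero (A := A)
    intro x
    have h3 := congrArg (fun t => t.hom x) h1
    have h4 : ((j₀ R A).inv ≫ g).hom (x : R) = 0 := h3
    rw [end_apply] at h4
    rw [mul_comm]
    exact h4
  have h5 : (j₀ R A).inv ≫ g = 0 := by
    apply ModuleCat.hom_ext
    apply LinearMap.ext
    intro (x : R)
    rw [end_apply, h2, mul_zero]
    rfl
  rw [← cancel_epi (j₀ R A).inv, h5, comp_zero]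

theorem hker (f : (E2 R A).X (-1) ⟶ ModuleCat.of R R) :
    Ψ₁ R A N e f = 0 ↔ ∃ g : (E2 R A).X 0 ⟶ ModuleCat.of R R, (E2 R A).d (-1) 0 ≫ g = f := by
  have h0 : Ψ₁ R A N e f = 0 ↔ ∀ x : RingHom.ker (algebraMap R A),
      (((j₁ R A).inv ≫ f).hom : RingHom.ker (algebraMap R A) →ₗ[R] R) x ∈
        RingHom.ker (algebraMap R A) :=
    psiFun_eq_zero_iff N e _
  rw [h0]
  constructor
  · intro h
    obtain ⟨r, hr⟩ := exists_smul_of_forall_mem _ h
    refine ⟨(j₀ R A).hom ≫ ModuleCat.ofHom (X := ModuleCat.of R R) (Y := ModuleCat.of R R)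
      (LinearMap.mulLeft R r), ?_⟩
    rw [E2_d, Category.assoc, Category.assoc, Iso.inv_hom_id_assoc, ← cancel_epi (j₁ R A).inv,
      Iso.inv_hom_id_assoc]
    apply ModuleCat.hom_ext
    apply LinearMap.ext
    intro (x : RingHom.ker (algebraMap R A))
    exact (hr x).symm
  · rintro ⟨g, rfl⟩ (x : RingHom.ker (algebraMap R A))
    have h1 : (j₁ R A).inv ≫ (E2 R A).d (-1) 0 ≫ g = ιI R A ≫ (j₀ R A).inv ≫ g := by
      rw [E2_d, Category.assoc, Category.assoc, Iso.inv_hom_id_assoc]
    rw [h1]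
    change ((j₀ R A).inv ≫ g).hom (x : R) ∈ RingHom.ker (algebraMap R A)
    rw [end_apply]
    exact Ideal.mul_mem_right _ _ x.2

theorem hsurj (hφ : Function.Surjective (algebraMap R A)) :
    Function.Surjective (Ψ₁ R A N e) := by
  intro n
  obtain ⟨h, hh⟩ := psiFun_surjective N e hφ n
  refine ⟨(j₁ R A).hom ≫ ModuleCat.ofHom
    (X := ModuleCat.of R (RingHom.ker (algebraMap R A))) (Y := ModuleCat.of R R) h, ?_⟩
  rw [Ψ₁_apply, Iso.inv_hom_id_assoc]
  exact hh

end Groth.Agent.Helper3.TN
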