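import Groth.Agent.Lib.Helper3.TN6
import Groth.Agent.Lib.Helper3.TM4
import Mathlib.Algebra.Homology.DerivedCategory.TStructure
import Mathlib.Algebra.Homology.DerivedCategory.FullyFaithful

/-!
# `RHom(A, -)` for `A = R/I` with `I` invertible (helper3)
-/

set_option autoImplicit false

open CategoryTheory CategoryTheory.Limits CochainComplex HomComplex MonoidalCategory
open scoped TensorProduct

universe u

attribute [local instance] HasDerivedCategory.standard

namespace Groth.Agent.Helper3.TN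

open Groth.Agent.Helper11.LDer Groth.Agent.Helper11.DC Groth.Agent.Helper11.Tel
open Groth.Agent.Helper3.HT Groth.Agent.Helper3.DT Groth.Agent.Helper3.RH Groth.Agent.Helper3.TH
open Groth.Agent.Helper3.BC Groth.Agent.Helper3.TB Groth.Agent.Helper3.KP
open Groth.Agent.Helper3.KF Groth.Agent.Helper3.TC Groth.Agent.Helper3.TM

section Descent

variable {R A : Type u} [CommRing R] [CommRing A] (φ : R →+* A)

theorem exactAt_resCx_iff (Y : DRing.Cx A) (i : ℤ) :
    ((DTen.resCx φ).obj Y).ExactAt i ↔ Y.ExactAt i := by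
  rw [HomologicalComplex.exactAt_iff, HomologicalComplex.exactAt_iff]
  exact ShortComplex.exact_map_iff_of_faithful (Y.sc i) (ModuleCat.restrictScalars.{u} φ)

theorem isGE_restrictD_iff (M : Dual.D A) (n : ℤ) :
    ((DRing.restrictD φ).obj M).IsGE n ↔ M.IsGE n := by
  let Y := DerivedCategory.Q.objPreimage M
  let eY : DerivedCategory.Q.obj Y ≅ M := DerivedCategory.Q.objObjPreimageIso M
  have h1 : M.IsGE n ↔ Y.IsGE n := by
    rw [← DerivedCategory.isGE_Q_obj_iff]
    exact ⟨fun h => DerivedCategory.TStructure.t.isGE_of_iso eY.symm n,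
      fun h => DerivedCategory.TStructure.t.isGE_of_iso eY n⟩
  let e2 : (DRing.restrictD φ).obj M ≅ DerivedCategory.Q.obj ((DTen.resCx φ).obj Y) :=
    (DRing.restrictD φ).mapIso eY.symm ≪≫ (DTen.resFactors φ).app Y
  have h2 : ((DRing.restrictD φ).obj M).IsGE n ↔ ((DTen.resCx φ).obj Y).IsGE n := by
    rw [← DerivedCategory.isGE_Q_obj_iff]
    exact ⟨fun h => DerivedCategory.TStructure.t.isGE_of_iso e2 n,
      fun h => DerivedCategory.TStructure.t.isGE_of_iso e2.symm n⟩
  rw [h1, h2, CochainComplex.isGE_iff, CochainComplex.isGE_iff]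
  simp only [exactAt_resCx_iff]

theorem isLE_restrictD_iff (M : Dual.D A) (n : ℤ) :
    ((DRing.restrictD φ).obj M).IsLE n ↔ M.IsLE n := by
  let Y := DerivedCategory.Q.objPreimage M
  let eY : DerivedCategory.Q.obj Y ≅ M := DerivedCategory.Q.objObjPreimageIso M
  have h1 : M.IsLE n ↔ Y.IsLE n := by
    rw [← DerivedCategory.isLE_Q_obj_iff]
    exact ⟨fun h => DerivedCategory.TStructure.t.isLE_of_iso eY.symm n,
      fun h => DerivedCategory.TStructure.t.isLE_of_iso eY n⟩
  let e2 : (DRing.restrictD φ).obj M ≅ DerivedCategory.Q.obj ((DTen.resCx φ).obj Y) :=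
    (DRing.restrictD φ).mapIso eY.symm ≪≫ (DTen.resFactors φ).app Y
  have h2 : ((DRing.restrictD φ).obj M).IsLE n ↔ ((DTen.resCx φ).obj Y).IsLE n := by
    rw [← DerivedCategory.isLE_Q_obj_iff]
    exact ⟨fun h => DerivedCategory.TStructure.t.isLE_of_iso e2 n,
      fun h => DerivedCategory.TStructure.t.isLE_of_iso e2.symm n⟩
  rw [h1, h2, CochainComplex.isLE_iff, CochainComplex.isLE_iff]
  simp only [exactAt_resCx_iff]

/-- an object of `D(A)` whose restriction is a module in degree `n` is a module in degree `n` -/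
theorem exists_iso_single_of_res (M : Dual.D A) (n : ℤ) (L : ModuleCat.{u} R)
    (i : (DRing.restrictD φ).obj M ≅ (DerivedCategory.Q.obj
      ((HomologicalComplex.single (ModuleCat.{u} R) (ComplexShape.up ℤ) n).obj L) : Dual.D R)) :
    ∃ Y₁ : ModuleCat.{u} A,
      Nonempty (M ≅ (DerivedCategory.singleFunctor (ModuleCat.{u} A) n).obj Y₁) := by
  haveI : M.IsGE n := by
    rw [← isGE_restrictD_iff φ]
    exact DerivedCategory.TStructure.t.isGE_of_iso i.symm n
  haveI : M.IsLE n := by
    rw [← isLE_restrictD_iff φ]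
    exact DerivedCategory.TStructure.t.isLE_of_iso i.symm n
  exact DerivedCategory.exists_iso_singleFunctor_obj_of_isGE_of_isLE M n

/-- restriction of a module in degree `n` -/
noncomputable def resSingleIso (n : ℤ) (Y₁ : ModuleCat.{u} A) :
    (DRing.restrictD φ).obj ((DerivedCategory.singleFunctor (ModuleCat.{u} A) n).obj Y₁) ≅
      (DerivedCategory.singleFunctor (ModuleCat.{u} R) n).obj
        ((ModuleCat.restrictScalars.{u} φ).obj Y₁) :=
  (DRing.restrictD φ).mapIso ((DerivedCategory.singleFunctorIsoCompQ (ModuleCat.{u} A) n).app Y₁) ≪≫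
    (DTen.resFactors φ).app ((CochainComplex.singleFunctor (ModuleCat.{u} A) n).obj Y₁) ≪≫
    DerivedCategory.Q.mapIso ((HomologicalComplex.singleMapHomologicalComplex
      (ModuleCat.restrictScalars.{u} φ) (ComplexShape.up ℤ) n).app Y₁) ≪≫
    ((DerivedCategory.singleFunctorIsoCompQ (ModuleCat.{u} R) n).app
      ((ModuleCat.restrictScalars.{u} φ).obj Y₁)).symm

theorem nonempty_iso_of_res_single (n : ℤ) (Y₁ : ModuleCat.{u} A) (L : ModuleCat.{u} R)
    (i : (DRing.restrictD φ).obj ((DerivedCategory.singleFunctor (ModuleCat.{u} A) n).obj Y₁) ≅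
      (DerivedCategory.Q.obj
      ((HomologicalComplex.single (ModuleCat.{u} R) (ComplexShape.up ℤ) n).obj L) : Dual.D R)) :
    Nonempty ((ModuleCat.restrictScalars.{u} φ).obj Y₁ ≅ L) :=
  ⟨(DerivedCategory.singleFunctor (ModuleCat.{u} R) n).preimageIso
    ((resSingleIso φ n Y₁).symm ≪≫ i ≪≫
      ((DerivedCategory.singleFunctorIsoCompQ (ModuleCat.{u} R) n).app L).symm)⟩

/-- for a surjective ring map, restriction of scalars reflects isomorphy of modules -/
theorem nonempty_iso_of_restrictScalars (hφ : Function.Surjective φ) (Y₁ Y₂ : ModuleCat.{u} A)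
    (i : (ModuleCat.restrictScalars.{u} φ).obj Y₁ ≅ (ModuleCat.restrictScalars.{u} φ).obj Y₂) :
    Nonempty (Y₁ ≅ Y₂) := by
  let f : Y₁ →ₗ[A] Y₂ :=
    { toFun := fun y => i.hom.hom y
      map_add' := fun y y' => i.hom.hom.map_add y y'
      map_smul' := fun a y => by
        obtain ⟨r, rfl⟩ := hφ a
        exact i.hom.hom.map_smul r y }
  let g : Y₂ →ₗ[A] Y₁ :=
    { toFun := fun y => i.inv.hom y
      map_add' := fun y y' => i.inv.hom.map_add y y'
      map_smul' := fun a y => by
        obtain ⟨r, rfl⟩ := hφ a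
        exact i.inv.hom.map_smul r y }
  refine ⟨⟨ModuleCat.ofHom f, ModuleCat.ofHom g, ?_, ?_⟩⟩
  · apply ModuleCat.hom_ext
    apply LinearMap.ext
    intro y
    exact congrArg (fun t => t.hom y) i.hom_inv_id
  · apply ModuleCat.hom_ext
    apply LinearMap.ext
    intro y
    exact congrArg (fun t => t.hom y) i.inv_hom_id

end Descent

variable (R A : Type u) [CommRing R] [CommRing A] [Algebra R A]

instance isKProjective_unit : (𝟙_ (DRing.Cx R)).IsKProjective := by
  apply isKProjective_of_vanishesAbove (𝟙_ (DRing.Cx R)) 0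
  · intro i hi
    exact HomologicalComplex.isZero_single_obj_X (ComplexShape.up ℤ) 0 (ModuleCat.of R R) i
      (by omega)
  · intro i
    by_cases h0 : i = 0
    · subst h0
      exact Module.Projective.of_equiv (HomologicalComplex.singleObjXSelf (ComplexShape.up ℤ) 0
        (ModuleCat.of R R)).toLinearEquiv.symm
    · haveI : Subsingleton ((𝟙_ (DRing.Cx R)).X i) :=
        ModuleCat.subsingleton_of_isZero (HomologicalComplex.isZero_single_obj_X
          (ComplexShape.up ℤ) 0 (ModuleCat.of R R) i h0)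
      infer_instance

variable (hφ : Function.Surjective (algebraMap R A))
  [Module.Invertible R (RingHom.ker (algebraMap R A))]

include hφ in
theorem isPerfect_unit :
    DRing.IsPerfect R ((DRing.restrictD (algebraMap R A)).obj (DTen.unit A)) := by
  haveI := quasiIso_p2 R A hφ
  haveI : IsIso (DerivedCategory.Q.map (p2 R A)) :=
    (DerivedCategory.isIso_Q_map_iff_quasiIso (φ := p2 R A)).mpr inferInstance
  exact ⟨E2 R A, -1, 0, vanishesOutside_E2 R A, termwise_E2 R A,
    ⟨asIso (DerivedCategory.Q.map (p2 R A)) ≪≫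
      (DerivedCategory.Q.mapIso (resUnitIso (algebraMap R A))).symm ≪≫
      ((DTen.resFactors (algebraMap R A)).app (𝟙_ (DRing.Cx A))).symm⟩⟩

variable (N : Type u) [AddCommGroup N] [Module A N]
  (e : (A ⊗[R] (RingHom.ker (algebraMap R A))) ⊗[A] N ≃ₗ[A] A)

include hφ e in
theorem nonempty_res_iso [DTen.HasRHomRel (algebraMap R A)] :
    Nonempty ((DRing.restrictD (algebraMap R A)).obj
        ((DTen.RHomRel (algebraMap R A)).obj (DTen.unit R)) ≅
      (DerivedCategory.Q.obj ((HomologicalComplex.single (ModuleCat.{u} R)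
        (ComplexShape.up ℤ) 1).obj (NR R A N)) : Dual.D R)) := by
  haveI : DRing.HasLBaseChange (algebraMap R A) := KP.hasLeftDerivedFunctor _
  haveI : DTen.HasLBase (algebraMap R A) := ⟨(adjD (algebraMap R A)).isRightAdjoint⟩
  haveI := quasiIso_p2 R A hφ
  haveI : (E2 R A).IsKProjective :=
    isKProjective_of_bounded _ (-1) 0 (vanishesOutside_E2 R A) (termwise_E2 R A)
  obtain ⟨i1⟩ := nonempty_res_iso_homCx (algebraMap R A) (DTen.relAdj (algebraMap R A))
    (p2 R A) (𝟙_ (DRing.Cx R))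
  obtain ⟨f, hf⟩ := exists_quasiIso_dual (E2 R A) (ModuleCat.of R R) (isZero_E2_X R A)
    (NR R A N) (Ψ₁ R A N e) (hinj R A) (hker R A N e) (hsurj R A N e hφ)
  haveI : IsIso (DerivedCategory.Q.map f) :=
    (DerivedCategory.isIso_Q_map_iff_quasiIso (φ := f)).mpr hf
  let i2 : (DerivedCategory.Q.obj (DRing.homCx (E2 R A) (S0 (ModuleCat.of R R))) : Dual.D R) ≅
      DerivedCategory.Q.obj ((HomologicalComplex.single (ModuleCat.{u} R)
        (ComplexShape.up ℤ) 1).obj (NR R A N)) := asIso (DerivedCategory.Q.map f)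
  exact ⟨i1 ≪≫ i2⟩

include hφ e in
theorem nonempty_RHomRel_unit_iso [DTen.HasRHomRel (algebraMap R A)] :
    Nonempty ((DTen.RHomRel (algebraMap R A)).obj (DTen.unit R) ≅ (Dual.inD A N)⟦(-1 : ℤ)⟧) := by
  obtain ⟨i1⟩ := nonempty_res_iso R A hφ N e
  obtain ⟨Y₁, ⟨eM⟩⟩ := exists_iso_single_of_res (algebraMap R A) _ 1 (NR R A N) i1
  obtain ⟨i2⟩ := nonempty_iso_of_res_single (algebraMap R A) 1 Y₁ (NR R A N)
    ((DRing.restrictD (algebraMap R A)).mapIso eM.symm ≪≫ i1)
  obtain ⟨i3⟩ := nonempty_iso_of_restrictScalars (algebraMap R A) hφ Y₁ (ModuleCat.of A N) i2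
  exact ⟨eM ≪≫ (DerivedCategory.singleFunctor (ModuleCat.{u} A) 1).mapIso i3 ≪≫
    (((DerivedCategory.singleFunctors (ModuleCat.{u} A)).shiftIso (-1) 1 0 (by norm_num)).app
      (ModuleCat.of A N)).symm⟩

include hφ e in
theorem nonempty_RHomRel_iso_inv [DTen.HasRHomRel (algebraMap R A)]
    [DTen.HasLTenMix (algebraMap R A)] :
    Nonempty (DTen.RHomRel (algebraMap R A) ≅
      (Functor.curry.obj (DTen.LTenMix (algebraMap R A))).flip.obj
        ((Dual.inD A N)⟦(-1 : ℤ)⟧)) := by
  obtain ⟨i1⟩ := nonempty_RHomRel_iso (algebraMap R A) (isPerfect_unit R A hφ)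
  obtain ⟨i2⟩ := nonempty_RHomRel_unit_iso R A hφ N e
  exact ⟨i1 ≪≫ (Functor.curry.obj (DTen.LTenMix (algebraMap R A))).flip.mapIso i2⟩

end Groth.Agent.Helper3.TN
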