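import Mathlib.Algebra.Homology.TotalComplex
import Mathlib.CategoryTheory.Limits.Shapes.Biproducts
import Mathlib.CategoryTheory.Abelian.Basic
import Mathlib.Data.Int.Interval

/-!
# Coproducts of families with finite support, and total complexes of bounded bicomplexes
-/

open CategoryTheory Category Limits

namespace Groth.Agent.Helper3.TQ

universe v u

variable {C : Type u} [Category.{v} C] [HasZeroMorphisms C] [HasFiniteBiproducts C]

/-- A family which vanishes outside a finite set has a coproduct. -/
theorem hasCoproduct_of_finite_support {J : Type*} (f : J → C) (s : Finset J)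
    (h : ∀ j, j ∉ s → IsZero (f j)) : HasCoproduct f := by
  classical
  let g : s → C := fun j => f j.1
  let c : Cofan f := Cofan.mk (⨁ g) (fun j =>
    if hj : j ∈ s then biproduct.ι g ⟨j, hj⟩ else 0)
  have hc : IsColimit c := Cofan.IsColimit.mk c
    (fun t => biproduct.desc (fun j : s => t.inj j.1))
    (fun t j => by
      by_cases hj : j ∈ s
      · simp [c, hj, Cofan.inj]
      · exact (h j hj).eq_of_src _ _)
    (fun t m hm => by
      apply biproduct.hom_ext'
      rintro ⟨j, hj⟩
      have := hm j
      simp only [c, Cofan.mk_pt, Cofan.inj, Cofan.mk_ι_app, hj, dite_true] at this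
      simp [this, Cofan.inj])
  exact ⟨⟨⟨c, hc⟩⟩⟩

/-- A bicomplex whose terms vanish in bidegrees `(p, q)` with `p < a` or `q < b` has a total
complex. -/
theorem hasTotal_of_bounded {A : Type u} [Category.{v} A] [Preadditive A] [HasFiniteBiproducts A]
    (K : HomologicalComplex₂ A (ComplexShape.up ℤ) (ComplexShape.up ℤ)) (a b : ℤ)
    (hK : ∀ p q : ℤ, p < a ∨ q < b → IsZero ((K.X p).X q)) : K.HasTotal (ComplexShape.up ℤ) := by
  intro n
  classical
  let s : Finset ((ComplexShape.π (ComplexShape.up ℤ) (ComplexShape.up ℤ) (ComplexShape.up ℤ)) ⁻¹'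
      {n}) := (Finset.Icc a (n - b)).attach.image (fun p => ⟨(p.1, n - p.1), by
        simp [ComplexShape.π]⟩)
  apply hasCoproduct_of_finite_support _ s
  rintro ⟨⟨p, q⟩, hpq⟩ hs
  have hpq' : p + q = n := hpq
  apply hK
  by_contra hcon
  push Not at hcon
  apply hs
  simp only [s, Finset.mem_image, Finset.mem_attach, true_and, Subtype.exists, Finset.mem_Icc]
  refine ⟨p, ⟨hcon.1, by omega⟩, ?_⟩
  ext
  · rfl
  · simp only
    omega

end Groth.Agent.Helper3.TQ
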