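import Mathlib.Algebra.Homology.TotalComplex
import Mathlib.Algebra.Homology.HomologicalComplexAbelian

/-!
# The total complex of a degreewise split short exact sequence of bicomplexes
-/

open CategoryTheory Category Limits HomologicalComplex₂

namespace Groth.Agent.Helper3.TQ

universe v u

variable {A : Type u} [Category.{v} A] [Abelian A]

section

variable {K L : HomologicalComplex₂ A (ComplexShape.up ℤ) (ComplexShape.up ℤ)}
  [K.HasTotal (ComplexShape.up ℤ)] [L.HasTotal (ComplexShape.up ℤ)]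

theorem total_map_zero : total.map (0 : K ⟶ L) (ComplexShape.up ℤ) = 0 := by
  ext n : 1
  apply total.hom_ext
  intro p q h
  simp

end

variable (S : ShortComplex (HomologicalComplex₂ A (ComplexShape.up ℤ) (ComplexShape.up ℤ)))
  [S.X₁.HasTotal (ComplexShape.up ℤ)] [S.X₂.HasTotal (ComplexShape.up ℤ)]
  [S.X₃.HasTotal (ComplexShape.up ℤ)]

/-- The short complex of total complexes. -/
noncomputable def totS : ShortComplex (CochainComplex A ℤ) :=
  ShortComplex.mk (total.map S.f (ComplexShape.up ℤ)) (total.map S.g (ComplexShape.up ℤ))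
    (by rw [← total.map_comp, S.zero, total_map_zero])

variable (r : ∀ q : ℤ, S.X₂.X q ⟶ S.X₁.X q) (s : ∀ q : ℤ, S.X₃.X q ⟶ S.X₂.X q)
  (hfr : ∀ q, S.f.f q ≫ r q = 𝟙 _) (hsg : ∀ q, s q ≫ S.g.f q = 𝟙 _)
  (hid : ∀ q, r q ≫ S.f.f q + S.g.f q ≫ s q = 𝟙 _)

/-- The retraction in total degree `n`. -/
noncomputable def totR (n : ℤ) : (S.X₂.total (ComplexShape.up ℤ)).X n ⟶
    (S.X₁.total (ComplexShape.up ℤ)).X n :=
  S.X₂.totalDesc (fun q p h => (r q).f p ≫ S.X₁.ιTotal (ComplexShape.up ℤ) q p n h)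

/-- The section in total degree `n`. -/
noncomputable def totSec (n : ℤ) : (S.X₃.total (ComplexShape.up ℤ)).X n ⟶
    (S.X₂.total (ComplexShape.up ℤ)).X n :=
  S.X₃.totalDesc (fun q p h => (s q).f p ≫ S.X₂.ιTotal (ComplexShape.up ℤ) q p n h)

include hfr in
theorem tot_f_r (n : ℤ) : (total.map S.f (ComplexShape.up ℤ)).f n ≫ totR S r n = 𝟙 _ := by
  apply total.hom_ext
  intro q p h
  have h1 : (S.f.f q).f p ≫ (r q).f p = 𝟙 _ := congrArg (fun t => t.f p) (hfr q)
  rw [totR, ιTotal_map_assoc, ι_totalDesc, reassoc_of% h1, comp_id]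

include hsg in
theorem tot_s_g (n : ℤ) : totSec S s n ≫ (total.map S.g (ComplexShape.up ℤ)).f n = 𝟙 _ := by
  apply total.hom_ext
  intro q p h
  have h1 : (s q).f p ≫ (S.g.f q).f p = 𝟙 _ := congrArg (fun t => t.f p) (hsg q)
  rw [totSec, ι_totalDesc_assoc, assoc, ιTotal_map, reassoc_of% h1, comp_id]

include hid in
theorem tot_id (n : ℤ) : totR S r n ≫ (total.map S.f (ComplexShape.up ℤ)).f n +
    (total.map S.g (ComplexShape.up ℤ)).f n ≫ totSec S s n = 𝟙 _ := by
  apply total.hom_ext
  intro q p h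
  have h1 : (r q).f p ≫ (S.f.f q).f p + (S.g.f q).f p ≫ (s q).f p = 𝟙 _ :=
    congrArg (fun t => t.f p) (hid q)
  rw [totR, totSec, Preadditive.comp_add, ι_totalDesc_assoc, assoc, ιTotal_map, ιTotal_map_assoc,
    ι_totalDesc, ← assoc, ← assoc, ← Preadditive.add_comp, h1, id_comp, comp_id]

/-- The degreewise splitting of the short complex of total complexes. -/
noncomputable def totSplitting (n : ℤ) :
    ((totS S).map (HomologicalComplex.eval A (ComplexShape.up ℤ) n)).Splitting where
  r := totR S r n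
  s := totSec S s n
  f_r := tot_f_r S r hfr n
  s_g := tot_s_g S s hsg n
  id := tot_id S r s hid n

include hfr hsg hid in
theorem totS_shortExact : (totS S).ShortExact :=
  HomologicalComplex.shortExact_of_degreewise_shortExact _
    (fun n => (totSplitting S r s hfr hsg hid n).shortExact)

end Groth.Agent.Helper3.TQ
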