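import Mathlib.Algebra.Homology.HomologySequenceLemmas

/-!
# Four lemmas for the middle term of a morphism of short exact sequences of complexes
-/

open CategoryTheory ComposableArrows Abelian

namespace Groth.Agent.Helper3.TQ

open HomologicalComplex HomologySequence

variable {C ι : Type*} [Category C] [Abelian C] {c : ComplexShape ι}
  {S₁ S₂ : ShortComplex (HomologicalComplex C c)} (φ : S₁ ⟶ S₂)
  (hS₁ : S₁.ShortExact) (hS₂ : S₂.ShortExact)

include hS₁ hS₂

theorem mono_homologyMap_τ₂ (i j : ι) (hij : c.Rel i j)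
    (h₁ : Epi (homologyMap φ.τ₃ i)) (h₂ : Mono (homologyMap φ.τ₁ j))
    (h₃ : Mono (homologyMap φ.τ₃ j)) : Mono (homologyMap φ.τ₂ j) := by
  apply mono_of_epi_of_mono_of_mono
    ((δ₀Functor ⋙ δ₀Functor).map (mapComposableArrows₅ φ hS₁ hS₂ i j hij))
  · exact (composableArrows₅_exact hS₁ i j hij).δ₀.δ₀
  · exact (composableArrows₅_exact hS₂ i j hij).δ₀.δ₀
  · exact h₁
  · exact h₂
  · exact h₃

theorem epi_homologyMap_τ₂ (i j : ι) (hij : c.Rel i j)
    (h₁ : Epi (homologyMap φ.τ₁ i)) (h₂ : Epi (homologyMap φ.τ₃ i))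
    (h₃ : Mono (homologyMap φ.τ₁ j)) : Epi (homologyMap φ.τ₂ i) := by
  apply epi_of_epi_of_epi_of_mono
    ((δlastFunctor ⋙ δlastFunctor).map (mapComposableArrows₅ φ hS₁ hS₂ i j hij))
  · exact (composableArrows₅_exact hS₁ i j hij).δlast.δlast
  · exact (composableArrows₅_exact hS₂ i j hij).δlast.δlast
  · exact h₁
  · exact h₂
  · exact h₃

end Groth.Agent.Helper3.TQ
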