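import Mathlib.Algebra.Homology.Single
import Mathlib.Algebra.Homology.HomologicalComplexAbelian
import Mathlib.Algebra.Homology.ShortComplex.ShortExact

/-!
# Peeling off the bottom term of a bounded below cochain complex
-/

open CategoryTheory Category Limits HomologicalComplex

namespace Groth.Agent.Helper3.TQ

universe v u

variable {𝒞 : Type u} [Category.{v} 𝒞] [Abelian 𝒞]

section splitting

variable (T : ShortComplex 𝒞) (hT : T.ShortExact)

include hT in
theorem nonempty_splitting_of_isZero₃ (h : IsZero T.X₃) : Nonempty T.Splitting := by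
  haveI := hT.mono_f
  haveI : Epi T.f := hT.exact.epi_f (h.eq_of_tgt _ _)
  haveI := isIso_of_mono_of_epi T.f
  exact ⟨{ r := inv T.f, s := 0, f_r := by simp, s_g := h.eq_of_src _ _,
           id := by simp [h.eq_of_tgt T.g 0] }⟩

include hT in
theorem nonempty_splitting_of_isZero₁ (h : IsZero T.X₁) : Nonempty T.Splitting := by
  haveI := hT.epi_g
  haveI : Mono T.g := hT.exact.mono_g (h.eq_of_src _ _)
  haveI := isIso_of_mono_of_epi T.g
  exact ⟨{ r := 0, s := inv T.g, f_r := h.eq_of_src _ _, s_g := by simp,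
           id := by simp [h.eq_of_src T.f 0] }⟩

end splitting

section peel

variable (K : CochainComplex 𝒞 ℤ) (b : ℤ) (hK : ∀ q, q < b → IsZero (K.X q))

/-- The projection of a complex vanishing below `b` onto its term of degree `b`. -/
noncomputable def botπ : K ⟶ (single 𝒞 (ComplexShape.up ℤ) b).obj (K.X b) :=
  mkHomToSingle (𝟙 (K.X b)) (fun i hi => (hK i (by
    have : i + 1 = b := hi
    omega)).eq_of_src _ _)

theorem botπ_f_self : (botπ K b hK).f b = (singleObjXSelf (ComplexShape.up ℤ) b (K.X b)).inv := by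
  rw [botπ, mkHomToSingle_f, id_comp]

instance : Epi (botπ K b hK) := by
  haveI : ∀ q, Epi ((botπ K b hK).f q) := fun q => by
    by_cases hq : q = b
    · subst hq
      rw [botπ_f_self]
      infer_instance
    · exact ⟨fun g h _ => (isZero_single_obj_X (ComplexShape.up ℤ) b (K.X b) q hq).eq_of_src _ _⟩
  exact HomologicalComplex.epi_of_epi_f (botπ K b hK) this

/-- The short complex `0 → K' → K → K^b[-b] → 0`. -/
noncomputable abbrev peelS : ShortComplex (CochainComplex 𝒞 ℤ) :=
  ShortComplex.mk (kernel.ι (botπ K b hK)) (botπ K b hK) (kernel.condition _)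

theorem peelS_shortExact : (peelS K b hK).ShortExact :=
  { exact := ShortComplex.exact_of_f_is_kernel _ (kernelIsKernel _)
    mono_f := by dsimp [peelS]; infer_instance
    epi_g := by dsimp [peelS]; infer_instance }

theorem peelS_shortExact_eval (q : ℤ) :
    ((peelS K b hK).map (eval 𝒞 (ComplexShape.up ℤ) q)).ShortExact :=
  (peelS_shortExact K b hK).map_of_exact _

theorem isZero_peelS_X₃ (q : ℤ) (hq : q ≠ b) : IsZero ((peelS K b hK).X₃.X q) :=
  isZero_single_obj_X (ComplexShape.up ℤ) b (K.X b) q hq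

theorem isZero_peelS_X₁_self : IsZero ((peelS K b hK).X₁.X b) := by
  have hT := peelS_shortExact_eval K b hK b
  haveI := hT.mono_f
  haveI : Mono ((peelS K b hK).map (eval 𝒞 (ComplexShape.up ℤ) b)).g := by
    change Mono ((botπ K b hK).f b)
    rw [botπ_f_self]
    infer_instance
  have h0 : ((peelS K b hK).map (eval 𝒞 (ComplexShape.up ℤ) b)).f = 0 := by
    rw [← cancel_mono ((peelS K b hK).map (eval 𝒞 (ComplexShape.up ℤ) b)).g, zero_comp]
    exact ((peelS K b hK).map (eval 𝒞 (ComplexShape.up ℤ) b)).zero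
  exact @IsZero.of_mono_eq_zero 𝒞 _ _ _ _
    ((peelS K b hK).map (eval 𝒞 (ComplexShape.up ℤ) b)).f hT.mono_f h0

theorem isZero_peelS_X₁ (q : ℤ) (hq : q < b + 1) : IsZero ((peelS K b hK).X₁.X q) := by
  by_cases hqb : q = b
  · subst hqb
    exact isZero_peelS_X₁_self K q hK
  · exact @IsZero.of_mono 𝒞 _ _ _ _ ((peelS K b hK).map (eval 𝒞 (ComplexShape.up ℤ) q)).f
      (peelS_shortExact_eval K b hK q).mono_f (hK q (by omega))

theorem isZero₁_or_isZero₃ (q : ℤ) :
    IsZero ((peelS K b hK).X₁.X q) ∨ IsZero ((peelS K b hK).X₃.X q) := by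
  by_cases hqb : q = b
  · subst hqb
    exact Or.inl (isZero_peelS_X₁_self K q hK)
  · exact Or.inr (isZero_peelS_X₃ K b hK q hqb)

theorem isIso_peelS_f (q : ℤ) (hq : q ≠ b) : IsIso ((peelS K b hK).f.f q) := by
  have hT := peelS_shortExact_eval K b hK q
  haveI := hT.mono_f
  haveI : Epi ((peelS K b hK).map (eval 𝒞 (ComplexShape.up ℤ) q)).f :=
    hT.exact.epi_f ((isZero_peelS_X₃ K b hK q hq).eq_of_tgt _ _)
  exact isIso_of_mono_of_epi ((peelS K b hK).map (eval 𝒞 (ComplexShape.up ℤ) q)).f

end peel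

section map

variable {K L : CochainComplex 𝒞 ℤ} (φ : K ⟶ L) (b : ℤ)
  (hK : ∀ q, q < b → IsZero (K.X q)) (hL : ∀ q, q < b → IsZero (L.X q))

/-- Naturality of the peeling construction. -/
noncomputable def peelMap : peelS K b hK ⟶ peelS L b hL where
  τ₁ := kernel.map _ _ φ ((single 𝒞 (ComplexShape.up ℤ) b).map (φ.f b)) (by
    apply to_single_hom_ext
    simp [botπ_f_self, single_map_f_self])
  τ₂ := φ
  τ₃ := (single 𝒞 (ComplexShape.up ℤ) b).map (φ.f b)
  comm₁₂ := by simp [peelS]
  comm₂₃ := by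
    apply to_single_hom_ext
    simp [peelS, botπ_f_self, single_map_f_self]

end map

end Groth.Agent.Helper3.TQ
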