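import Groth.Agent.Lib.Helper3.TQ1
import Groth.Agent.Lib.Helper3.TQ2
import Groth.Agent.Lib.Helper3.TQ4
import Mathlib.Algebra.Homology.HomotopyCategory.ShiftSequence

/-!
# Total complexes: short exact sequences with vanishing conditions, and single rows
-/

open CategoryTheory Category Limits HomologicalComplex₂

namespace Groth.Agent.Helper3.TQ

universe v u

variable {A : Type u} [Category.{v} A] [Abelian A]

section ses

variable (S : ShortComplex (HomologicalComplex₂ A (ComplexShape.up ℤ) (ComplexShape.up ℤ)))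
  [S.X₁.HasTotal (ComplexShape.up ℤ)] [S.X₂.HasTotal (ComplexShape.up ℤ)]
  [S.X₃.HasTotal (ComplexShape.up ℤ)]

theorem totS_shortExact_of_isZero (hS : S.ShortExact)
    (h : ∀ q : ℤ, IsZero (S.X₁.X q) ∨ IsZero (S.X₃.X q)) : (totS S).ShortExact := by
  have hq : ∀ q : ℤ, Nonempty ((S.map (HomologicalComplex.eval (CochainComplex A ℤ)
      (ComplexShape.up ℤ) q)).Splitting) := fun q => by
    have hT := hS.map_of_exact (HomologicalComplex.eval (CochainComplex A ℤ)
      (ComplexShape.up ℤ) q)
    rcases h q with h | h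
    · exact nonempty_splitting_of_isZero₁ _ hT h
    · exact nonempty_splitting_of_isZero₃ _ hT h
  let σ := fun q => (hq q).some
  exact totS_shortExact S (fun q => (σ q).r) (fun q => (σ q).s) (fun q => (σ q).f_r)
    (fun q => (σ q).s_g) (fun q => (σ q).id)

end ses

section iso

variable (Z : HomologicalComplex₂ A (ComplexShape.up ℤ) (ComplexShape.up ℤ))
  [Z.HasTotal (ComplexShape.up ℤ)]

open Classical in
theorem isIso_ιTotal_of_isZero (q p n : ℤ) (h : q + p = n)
    (hz : ∀ q' p' : ℤ, q' + p' = n → ¬ (q' = q ∧ p' = p) → IsZero ((Z.X q').X p')) :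
    IsIso (Z.ιTotal (ComplexShape.up ℤ) q p n h) := by
  refine ⟨Z.totalDesc (fun q' p' _ => if hh : q' = q ∧ p' = p then
    (Z.XXIsoOfEq _ _ _ hh.1 hh.2).hom else 0), ?_, ?_⟩
  · rw [ι_totalDesc, dif_pos ⟨rfl, rfl⟩]
    simp
  · apply total.hom_ext
    intro q' p' h'
    by_cases hh : q' = q ∧ p' = p
    · obtain ⟨rfl, rfl⟩ := hh
      rw [ι_totalDesc_assoc, dif_pos ⟨rfl, rfl⟩]
      simp
    · exact (hz q' p' h' hh).eq_of_src _ _

end iso

section single

variable (X Y : CochainComplex A ℤ) (ψ : X ⟶ Y) (b : ℤ)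

/-- The bicomplex with the single row `X` placed in (outer) degree `b`. -/
noncomputable abbrev rowCx : HomologicalComplex₂ A (ComplexShape.up ℤ) (ComplexShape.up ℤ) :=
  (HomologicalComplex.single (CochainComplex A ℤ) (ComplexShape.up ℤ) b).obj X

theorem isZero_rowCx (q p : ℤ) (hq : q ≠ b) : IsZero (((rowCx X b).X q).X p) :=
  (HomologicalComplex.eval A (ComplexShape.up ℤ) p).map_isZero
    (HomologicalComplex.isZero_single_obj_X (ComplexShape.up ℤ) b X q hq)

variable [(rowCx X b).HasTotal (ComplexShape.up ℤ)] [(rowCx Y b).HasTotal (ComplexShape.up ℤ)]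

/-- The components of the isomorphism `X⟦-b⟧ ≅ Tot (rowCx X b)`. -/
noncomputable def θ (n m : ℤ) (h : b + m = n) :
    X.X m ⟶ ((rowCx X b).total (ComplexShape.up ℤ)).X n :=
  (HomologicalComplex.singleObjXSelf (ComplexShape.up ℤ) b X).inv.f m ≫
    (rowCx X b).ιTotal (ComplexShape.up ℤ) b m n h

instance (n m : ℤ) (h : b + m = n) : IsIso (θ X b n m h) := by
  haveI : IsIso ((rowCx X b).ιTotal (ComplexShape.up ℤ) b m n h) := by
    apply isIso_ιTotal_of_isZero _ _ _ _ h
    intro q' p' h' hh
    apply isZero_rowCx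
    intro hq
    apply hh
    exact ⟨hq, by omega⟩
  haveI : IsIso ((HomologicalComplex.singleObjXSelf (ComplexShape.up ℤ) b X).inv.f m) :=
    inferInstanceAs (IsIso ((HomologicalComplex.eval A (ComplexShape.up ℤ) m).map
      (HomologicalComplex.singleObjXSelf (ComplexShape.up ℤ) b X).inv))
  unfold θ
  infer_instance

theorem θ_comm (n n' m m' : ℤ) (h : b + m = n) (h' : b + m' = n') (hm : m + 1 = m') :
    θ X b n m h ≫ ((rowCx X b).total (ComplexShape.up ℤ)).d n n' =
    ((ComplexShape.up ℤ).ε b • X.d m m') ≫ θ X b n' m' h' := by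
  have hc := (HomologicalComplex.singleObjXSelf (ComplexShape.up ℤ) b X).inv.comm m m'
  rw [θ, θ, total_d, assoc, Preadditive.comp_add, ι_D₁, ι_D₂,
    (rowCx X b).d₁_eq' (ComplexShape.up ℤ) (show (ComplexShape.up ℤ).Rel b (b + 1) from rfl),
    (rowCx X b).d₂_eq (ComplexShape.up ℤ) b (show (ComplexShape.up ℤ).Rel m m' from hm) n' h']
  simp only [HomologicalComplex.single_obj_d, HomologicalComplex.zero_f, zero_comp, smul_zero,
    zero_add, Linear.comp_units_smul, Linear.units_smul_comp, assoc]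
  rw [reassoc_of% hc]
  rfl

/-- `θ` as an isomorphism. -/
noncomputable def θIso (n m : ℤ) (h : b + m = n) :
    X.X m ≅ ((rowCx X b).total (ComplexShape.up ℤ)).X n := asIso (θ X b n m h)

/-- `X⟦-b⟧ ≅ Tot (rowCx X b)`. -/
noncomputable def rowTotalIso : X⟦-b⟧ ≅ (rowCx X b).total (ComplexShape.up ℤ) :=
  HomologicalComplex.Hom.isoOfComponents
    (fun n => (θIso X b n (n + -b) (by omega) :
      (X⟦-b⟧).X n ≅ ((rowCx X b).total (ComplexShape.up ℤ)).X n))
    (fun i j hij => by
      obtain rfl : i + 1 = j := hij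
      have h := θ_comm X b i (i + 1) (i + -b) (i + 1 + -b) (by omega) (by omega) (by omega)
      rw [CochainComplex.shiftFunctor_obj_d']
      dsimp only [θIso, asIso_hom]
      exact h.trans (by rw [ComplexShape.ε_up_ℤ, Int.negOnePow_neg]; rfl))

variable {X Y}

theorem θ_naturality (n m : ℤ) (h : b + m = n) :
    θ X b n m h ≫ (total.map ((HomologicalComplex.single (CochainComplex A ℤ)
      (ComplexShape.up ℤ) b).map ψ) (ComplexShape.up ℤ)).f n = ψ.f m ≫ θ Y b n m h := by
  dsimp only [θ]
  rw [assoc, ιTotal_map, HomologicalComplex.single_map_f_self]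
  simp only [HomologicalComplex.comp_f, assoc]
  rw [← HomologicalComplex.comp_f_assoc, Iso.inv_hom_id, HomologicalComplex.id_f, id_comp]

theorem rowTotalIso_naturality :
    (rowTotalIso X b).hom ≫ total.map ((HomologicalComplex.single (CochainComplex A ℤ)
      (ComplexShape.up ℤ) b).map ψ) (ComplexShape.up ℤ) =
    ψ⟦-b⟧' ≫ (rowTotalIso Y b).hom := by
  ext n
  simp only [HomologicalComplex.comp_f, rowTotalIso, HomologicalComplex.Hom.isoOfComponents_hom_f,
    CochainComplex.shiftFunctor_map_f']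
  exact θ_naturality ψ b n (n + -b) (by omega)

theorem quasiIso_total_map_single [QuasiIso ψ] :
    QuasiIso (total.map ((HomologicalComplex.single (CochainComplex A ℤ)
      (ComplexShape.up ℤ) b).map ψ) (ComplexShape.up ℤ)) := by
  have e : Arrow.mk (ψ⟦-b⟧') ≅ Arrow.mk (total.map ((HomologicalComplex.single
      (CochainComplex A ℤ) (ComplexShape.up ℤ) b).map ψ) (ComplexShape.up ℤ)) :=
    Arrow.isoMk (rowTotalIso X b) (rowTotalIso Y b) (rowTotalIso_naturality ψ b)
  rw [← quasiIso_iff_of_arrow_mk_iso _ _ e]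
  infer_instance

end single

end Groth.Agent.Helper3.TQ
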