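import Groth.Agent.Lib.Helper3.TQ3
import Groth.Agent.Lib.Helper3.TQ5

/-!
# The total complex of a levelwise quasi-isomorphism of bounded below bicomplexes
-/

open CategoryTheory Category Limits HomologicalComplex₂

namespace Groth.Agent.Helper3.TQ

universe v u

variable {A : Type u} [Category.{v} A] [Abelian A]

/-- Bicomplexes with `K.X i = 0` for `i < b` and `(K.X i).X j = 0` for `j < a`. -/
def Bdd (K : HomologicalComplex₂ A (ComplexShape.up ℤ) (ComplexShape.up ℤ)) (b a : ℤ) : Prop :=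
  (∀ i, i < b → IsZero (K.X i)) ∧ (∀ i j, j < a → IsZero ((K.X i).X j))

theorem Bdd.isZero {K : HomologicalComplex₂ A (ComplexShape.up ℤ) (ComplexShape.up ℤ)} {b a : ℤ}
    (h : Bdd K b a) (i j : ℤ) (hij : i < b ∨ j < a) : IsZero ((K.X i).X j) := by
  rcases hij with hi | hj
  · exact (HomologicalComplex.eval A (ComplexShape.up ℤ) j).map_isZero (h.1 i hi)
  · exact h.2 i j hj

theorem Bdd.hasTotal {K : HomologicalComplex₂ A (ComplexShape.up ℤ) (ComplexShape.up ℤ)} {b a : ℤ}
    (h : Bdd K b a) : K.HasTotal (ComplexShape.up ℤ) :=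
  haveI := Abelian.hasFiniteBiproducts (C := A)
  hasTotal_of_bounded K b a (fun i j hij => h.isZero i j hij)

theorem isZero_total_X (K : HomologicalComplex₂ A (ComplexShape.up ℤ) (ComplexShape.up ℤ))
    [K.HasTotal (ComplexShape.up ℤ)] (n : ℤ)
    (h : ∀ i j : ℤ, i + j = n → IsZero ((K.X i).X j)) :
    IsZero ((K.total (ComplexShape.up ℤ)).X n) := by
  rw [IsZero.iff_id_eq_zero]
  apply total.hom_ext
  intro i j hij
  exact (h i j hij).eq_of_src _ _

theorem Bdd.isZero_total_X {K : HomologicalComplex₂ A (ComplexShape.up ℤ) (ComplexShape.up ℤ)}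
    {b a : ℤ} (h : Bdd K b a) [K.HasTotal (ComplexShape.up ℤ)] (n : ℤ) (hn : n < a + b) :
    IsZero ((K.total (ComplexShape.up ℤ)).X n) :=
  TQ.isZero_total_X K n (fun i j hij => h.isZero i j (by omega))

theorem Bdd.isZero_homology {K : HomologicalComplex₂ A (ComplexShape.up ℤ) (ComplexShape.up ℤ)}
    {b a : ℤ} (h : Bdd K b a) [K.HasTotal (ComplexShape.up ℤ)] (n : ℤ) (hn : n < a + b) :
    IsZero ((K.total (ComplexShape.up ℤ)).homology n) :=
  ShortComplex.isZero_homology_of_isZero_X₂ _ (h.isZero_total_X n hn)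

section step

variable {K L : HomologicalComplex₂ A (ComplexShape.up ℤ) (ComplexShape.up ℤ)} (φ : K ⟶ L)
  {b a : ℤ} (hK : Bdd K b a) (hL : Bdd L b a)

theorem bdd_peel₁ : Bdd (peelS K b hK.1).X₁ (b + 1) a := by
  refine ⟨fun i hi => isZero_peelS_X₁ K b hK.1 i hi, fun i j hj => ?_⟩
  haveI : Mono ((peelS K b hK.1).f.f i) := (peelS_shortExact_eval K b hK.1 i).mono_f
  exact IsZero.of_mono (((peelS K b hK.1).f.f i).f j) (hK.2 i j hj)

theorem bdd_peel₃ : Bdd (peelS K b hK.1).X₃ b a := by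
  refine ⟨fun i hi => isZero_peelS_X₃ K b hK.1 i (by omega), fun i j hj => ?_⟩
  by_cases hi : i = b
  · subst hi
    exact IsZero.of_iso (hK.2 i j hj)
      ((HomologicalComplex.eval A (ComplexShape.up ℤ) j).mapIso
        (HomologicalComplex.singleObjXSelf (ComplexShape.up ℤ) i (K.X i)))
  · exact (HomologicalComplex.eval A (ComplexShape.up ℤ) j).map_isZero
      (isZero_peelS_X₃ K b hK.1 i hi)

/-- Levelwise quasi-isomorphisms. -/
def LevelQI (φ : K ⟶ L) : Prop := ∀ i, QuasiIso (φ.f i)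

variable {φ}

theorem levelQI_peel₁ (hφ : LevelQI φ) : LevelQI (peelMap φ b hK.1 hL.1).τ₁ := by
  intro i
  by_cases hi : i = b
  · subst hi
    haveI := IsZero.isIso (isZero_peelS_X₁_self K i hK.1) (isZero_peelS_X₁_self L i hL.1)
      ((peelMap φ i hK.1 hL.1).τ₁.f i)
    infer_instance
  · haveI h1 : IsIso ((peelS K b hK.1).f.f i) := isIso_peelS_f K b hK.1 i hi
    haveI h2 : IsIso ((peelS L b hL.1).f.f i) := isIso_peelS_f L b hL.1 i hi
    haveI := hφ i
    have hcomm : (peelMap φ b hK.1 hL.1).τ₁.f i ≫ (peelS L b hL.1).f.f i =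
        (peelS K b hK.1).f.f i ≫ φ.f i :=
      congrArg (fun t => t.f i) (peelMap φ b hK.1 hL.1).comm₁₂
    haveI : QuasiIso ((peelMap φ b hK.1 hL.1).τ₁.f i ≫ (peelS L b hL.1).f.f i) := by
      rw [hcomm]
      infer_instance
    exact quasiIso_of_comp_right _ ((peelS L b hL.1).f.f i)

end step

section totMap

variable {S₁ S₂ : ShortComplex (HomologicalComplex₂ A (ComplexShape.up ℤ) (ComplexShape.up ℤ))}
  [S₁.X₁.HasTotal (ComplexShape.up ℤ)] [S₁.X₂.HasTotal (ComplexShape.up ℤ)]
  [S₁.X₃.HasTotal (ComplexShape.up ℤ)] [S₂.X₁.HasTotal (ComplexShape.up ℤ)]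
  [S₂.X₂.HasTotal (ComplexShape.up ℤ)] [S₂.X₃.HasTotal (ComplexShape.up ℤ)]

/-- The morphism of short complexes of total complexes induced by a morphism of short
complexes of bicomplexes. -/
noncomputable def totMap (Φ : S₁ ⟶ S₂) : totS S₁ ⟶ totS S₂ where
  τ₁ := total.map Φ.τ₁ (ComplexShape.up ℤ)
  τ₂ := total.map Φ.τ₂ (ComplexShape.up ℤ)
  τ₃ := total.map Φ.τ₃ (ComplexShape.up ℤ)
  comm₁₂ := by
    dsimp [totS]
    rw [← total.map_comp, ← total.map_comp, Φ.comm₁₂]
  comm₂₃ := by
    dsimp [totS]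
    rw [← total.map_comp, ← total.map_comp, Φ.comm₂₃]

end totMap

open HomologicalComplex in
theorem key (d : ℕ) : ∀ (K L : HomologicalComplex₂ A (ComplexShape.up ℤ) (ComplexShape.up ℤ))
    [K.HasTotal (ComplexShape.up ℤ)] [L.HasTotal (ComplexShape.up ℤ)] (φ : K ⟶ L) (b a : ℤ),
    Bdd K b a → Bdd L b a → LevelQI φ →
    (∀ n : ℤ, n + 1 < a + b + d →
      IsIso (homologyMap (total.map φ (ComplexShape.up ℤ)) n)) ∧
    (∀ n : ℤ, n + 1 = a + b + d →
      Mono (homologyMap (total.map φ (ComplexShape.up ℤ)) n)) := by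
  induction d with
  | zero =>
    intro K L _ _ φ b a hK hL hφ
    constructor
    · intro n hn
      exact IsZero.isIso (hK.isZero_homology n (by omega)) (hL.isZero_homology n (by omega)) _
    · intro n hn
      exact IsZero.mono (hK.isZero_homology n (by omega)) _
  | succ d ih =>
    intro K L _ _ φ b a hK hL hφ
    haveI : HomologicalComplex₂.HasTotal (peelS K b hK.1).X₁ (ComplexShape.up ℤ) := (bdd_peel₁ hK).hasTotal
    haveI : HomologicalComplex₂.HasTotal (peelS K b hK.1).X₃ (ComplexShape.up ℤ) := (bdd_peel₃ hK).hasTotal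
    haveI : HomologicalComplex₂.HasTotal (peelS L b hL.1).X₁ (ComplexShape.up ℤ) := (bdd_peel₁ hL).hasTotal
    haveI : HomologicalComplex₂.HasTotal (peelS L b hL.1).X₃ (ComplexShape.up ℤ) := (bdd_peel₃ hL).hasTotal
    haveI : HomologicalComplex₂.HasTotal (peelS K b hK.1).X₂ (ComplexShape.up ℤ) := ‹K.HasTotal _›
    haveI : HomologicalComplex₂.HasTotal (peelS L b hL.1).X₂ (ComplexShape.up ℤ) := ‹L.HasTotal _›
    have hSK : (totS (peelS K b hK.1)).ShortExact :=
      totS_shortExact_of_isZero _ (peelS_shortExact K b hK.1) (isZero₁_or_isZero₃ K b hK.1)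
    have hSL : (totS (peelS L b hL.1)).ShortExact :=
      totS_shortExact_of_isZero _ (peelS_shortExact L b hL.1) (isZero₁_or_isZero₃ L b hL.1)
    obtain ⟨ih1, ih2⟩ := ih (peelS K b hK.1).X₁ (peelS L b hL.1).X₁ (peelMap φ b hK.1 hL.1).τ₁
      (b + 1) a (bdd_peel₁ hK) (bdd_peel₁ hL) (levelQI_peel₁ hK hL hφ)
    haveI : QuasiIso (φ.f b) := hφ b
    have h3 : QuasiIso (total.map (peelMap φ b hK.1 hL.1).τ₃ (ComplexShape.up ℤ)) :=
      quasiIso_total_map_single (φ.f b) b
    have h3' : ∀ n, IsIso (homologyMap (total.map (peelMap φ b hK.1 hL.1).τ₃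
        (ComplexShape.up ℤ)) n) := fun n => by
      rw [← quasiIsoAt_iff_isIso_homologyMap]
      infer_instance
    constructor
    · intro n hn
      haveI := h3' (n - 1)
      haveI := h3' n
      haveI : IsIso (homologyMap (total.map (peelMap φ b hK.1 hL.1).τ₁ (ComplexShape.up ℤ)) n) :=
        ih1 n (by push_cast at hn ⊢; omega)
      have hmono : Mono (homologyMap (total.map φ (ComplexShape.up ℤ)) n) :=
        mono_homologyMap_τ₂ (totMap (peelMap φ b hK.1 hL.1)) hSK hSL (n - 1) n (by simp)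
          (inferInstanceAs (Epi (homologyMap (total.map (peelMap φ b hK.1 hL.1).τ₃
            (ComplexShape.up ℤ)) (n - 1))))
          (inferInstanceAs (Mono (homologyMap (total.map (peelMap φ b hK.1 hL.1).τ₁
            (ComplexShape.up ℤ)) n)))
          (inferInstanceAs (Mono (homologyMap (total.map (peelMap φ b hK.1 hL.1).τ₃
            (ComplexShape.up ℤ)) n)))
      have hm1 : Mono (homologyMap (total.map (peelMap φ b hK.1 hL.1).τ₁
          (ComplexShape.up ℤ)) (n + 1)) := by
        by_cases h : n + 1 + 1 < a + (b + 1) + d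
        · haveI := ih1 (n + 1) h
          infer_instance
        · exact ih2 (n + 1) (by push_cast at hn ⊢; omega)
      have hepi : Epi (homologyMap (total.map φ (ComplexShape.up ℤ)) n) :=
        epi_homologyMap_τ₂ (totMap (peelMap φ b hK.1 hL.1)) hSK hSL n (n + 1) (by simp)
          (inferInstanceAs (Epi (homologyMap (total.map (peelMap φ b hK.1 hL.1).τ₁
            (ComplexShape.up ℤ)) n)))
          (inferInstanceAs (Epi (homologyMap (total.map (peelMap φ b hK.1 hL.1).τ₃
            (ComplexShape.up ℤ)) n)))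
          hm1
      exact isIso_of_mono_of_epi _
    · intro n hn
      haveI := h3' (n - 1)
      haveI := h3' n
      exact mono_homologyMap_τ₂ (totMap (peelMap φ b hK.1 hL.1)) hSK hSL (n - 1) n (by simp)
          (inferInstanceAs (Epi (homologyMap (total.map (peelMap φ b hK.1 hL.1).τ₃
            (ComplexShape.up ℤ)) (n - 1))))
          (ih2 n (by push_cast at hn ⊢; omega))
          (inferInstanceAs (Mono (homologyMap (total.map (peelMap φ b hK.1 hL.1).τ₃
            (ComplexShape.up ℤ)) n)))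

end Groth.Agent.Helper3.TQ
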