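import Groth.Agent.Lib.Helper3.TQ6
import Mathlib.Algebra.Homology.TotalComplexSymmetry

/-!
# The total complex functor preserves quasi-isomorphisms of bounded below bicomplexes
-/

open CategoryTheory Category Limits HomologicalComplex₂

namespace Groth.Agent.Helper3.TQ

universe v u

variable {A : Type u} [Category.{v} A] [Abelian A]

open HomologicalComplex in
theorem quasiIso_total_of_levelQI
    (K L : HomologicalComplex₂ A (ComplexShape.up ℤ) (ComplexShape.up ℤ))
    [K.HasTotal (ComplexShape.up ℤ)] [L.HasTotal (ComplexShape.up ℤ)] (φ : K ⟶ L) (b a : ℤ)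
    (hK : Bdd K b a) (hL : Bdd L b a) (hφ : LevelQI φ) :
    QuasiIso (total.map φ (ComplexShape.up ℤ)) := by
  rw [quasiIso_iff]
  intro n
  rw [quasiIsoAt_iff_isIso_homologyMap]
  refine (key (n + 2 - a - b).toNat K L φ b a hK hL hφ).1 n ?_
  have := Int.self_le_toNat (n + 2 - a - b)
  omega

theorem isZero_of_isZero_X (X : CochainComplex A ℤ) (h : ∀ i, IsZero (X.X i)) : IsZero X := by
  rw [IsZero.iff_id_eq_zero]
  ext i
  exact (h i).eq_of_src _ _

section flip

variable (K L : HomologicalComplex₂ A (ComplexShape.up ℤ) (ComplexShape.up ℤ)) (φ : K ⟶ L)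
  (a b : ℤ)

theorem bdd_flip (hK : ∀ p q : ℤ, p < a ∨ q < b → IsZero ((K.X p).X q)) : Bdd K.flip b a :=
  ⟨fun q hq => isZero_of_isZero_X _ (fun p => hK p q (Or.inr hq)),
   fun q p hp => hK p q (Or.inl hp)⟩

variable {K L} in
/-- The flipped morphism. -/
abbrev flipMap : K.flip ⟶ L.flip :=
  (HomologicalComplex₂.flipFunctor A (ComplexShape.up ℤ) (ComplexShape.up ℤ)).map φ

theorem levelQI_flip [QuasiIso φ] : LevelQI (flipMap φ) := by
  intro q
  exact inferInstanceAs (QuasiIso (((HomologicalComplex.eval A (ComplexShape.up ℤ)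
    q).mapHomologicalComplex (ComplexShape.up ℤ)).map φ))

variable {K L}

theorem totalFlipIso_naturality [K.HasTotal (ComplexShape.up ℤ)] [L.HasTotal (ComplexShape.up ℤ)] :
    total.map (flipMap φ) (ComplexShape.up ℤ) ≫ (L.totalFlipIso (ComplexShape.up ℤ)).hom =
    (K.totalFlipIso (ComplexShape.up ℤ)).hom ≫ total.map φ (ComplexShape.up ℤ) := by
  ext n : 1
  apply total.hom_ext
  intro q p h
  simp only [HomologicalComplex.comp_f]
  rw [ιTotal_map_assoc, ιTotal_totalFlipIso_f_hom, ιTotal_totalFlipIso_f_hom_assoc]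
  have hpq : (ComplexShape.up ℤ).π (ComplexShape.up ℤ) (ComplexShape.up ℤ) (p, q) = n := by
    rw [← h]
    simp [ComplexShape.π, add_comm]
  change (φ.f p).f q ≫ ((ComplexShape.up ℤ).σ (ComplexShape.up ℤ) (ComplexShape.up ℤ) p q •
      L.ιTotal (ComplexShape.up ℤ) p q n hpq) =
    ((ComplexShape.up ℤ).σ (ComplexShape.up ℤ) (ComplexShape.up ℤ) p q •
      K.ιTotal (ComplexShape.up ℤ) p q n hpq) ≫ (total.map φ (ComplexShape.up ℤ)).f n
  rw [Linear.units_smul_comp, Linear.comp_units_smul, ιTotal_map]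

/-- **Main theorem**: the total complex functor preserves quasi-isomorphisms of (uniformly)
bounded below bicomplexes. -/
theorem main (hK : ∀ p q : ℤ, p < a ∨ q < b → IsZero ((K.X p).X q))
    (hL : ∀ p q : ℤ, p < a ∨ q < b → IsZero ((L.X p).X q))
    [K.HasTotal (ComplexShape.up ℤ)] [L.HasTotal (ComplexShape.up ℤ)] [QuasiIso φ] :
    QuasiIso (total.map φ (ComplexShape.up ℤ)) := by
  haveI := quasiIso_total_of_levelQI K.flip L.flip (flipMap φ) b a
    (bdd_flip K a b hK) (bdd_flip L a b hL) (levelQI_flip K L φ)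
  have e : Arrow.mk (total.map (flipMap φ) (ComplexShape.up ℤ)) ≅
      Arrow.mk (total.map φ (ComplexShape.up ℤ)) :=
    Arrow.isoMk (K.totalFlipIso (ComplexShape.up ℤ)) (L.totalFlipIso (ComplexShape.up ℤ))
      (totalFlipIso_naturality φ).symm
  rw [← quasiIso_iff_of_arrow_mk_iso _ _ e]
  infer_instance

end flip

end Groth.Agent.Helper3.TQ
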