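import Mathlib

/-!
# Separability of the residue field at a ramified point with separable residue extension (helper3)

Ring-level core of S16548: `k` a field, `R → S` a local homomorphism of local `k`-algebras with
`S` essentially of finite type over `k`, noetherian, not a field, `Ω[S/k]` cyclic, the residue
extension separable and `m_R S = m_S ^ e` with `e ≥ 2`.  Then the residue field of `S` is formally
unramified over `k`.
-/

set_option autoImplicit false

universe u

open IsLocalRing KaehlerDifferential

namespace Groth.Agent.Helper3.TameSep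

/-- If `L/K` is separable and the universal `k`-derivation of `L` vanishes on `K`, then
`Ω[L/k] = 0`. -/
theorem subsingleton_kaehler_of_D_vanish (k K L : Type u) [Field k] [Field K] [Field L]
    [Algebra k K] [Algebra k L] [Algebra K L] [IsScalarTower k K L] [Algebra.IsSeparable K L]
    (h : ∀ c : K, D k L (algebraMap K L c) = 0) : Subsingleton Ω[L⁄k] := by
  haveI : Algebra.FormallyUnramified K L := Algebra.FormallyUnramified.of_isSeparable K L
  haveI : Subsingleton Ω[L⁄K] := inferInstance
  have hzero : ∀ t, mapBaseChange k K L t = 0 := by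
    intro t
    induction t using TensorProduct.induction_on with
    | zero => simp
    | tmul l ω =>
      have hω0 : map k k K L ω = 0 := by
        have hω : ω ∈ Submodule.span K (Set.range (D k K)) := by
          rw [span_range_derivation]; trivial
        induction hω using Submodule.span_induction with
        | mem x hx =>
          obtain ⟨c, rfl⟩ := hx
          simp [h c]
        | zero => simp
        | add x y _ _ hx hy => simp [hx, hy]
        | smul a x _ hx => simp [hx]
      simp [hω0]
    | add x y hx hy => simp [hx, hy]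
  refine ⟨fun x y => ?_⟩
  have key : ∀ z : Ω[L⁄k], z = 0 := by
    intro z
    obtain ⟨t, rfl⟩ := (exact_mapBaseChange_map k K L z).mp (Subsingleton.elim _ _)
    exact hzero t
  rw [key x, key y]

variable (k : Type u) [Field k] {R S : Type u} [CommRing R] [CommRing S]
  [Algebra k R] [Algebra k S] [Algebra R S] [IsScalarTower k R S]
  [IsLocalRing R] [IsLocalRing S] [IsLocalHom (algebraMap R S)]

theorem formallyUnramified_residueField
    [Algebra.EssFiniteType k S] [IsNoetherianRing S]
    (hcyc : ∃ ω₀ : Ω[S⁄k], Submodule.span S {ω₀} = ⊤)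
    [Algebra.IsSeparable (ResidueField R) (ResidueField S)]
    (e : ℕ) (he : 2 ≤ e)
    (hm : (maximalIdeal R).map (algebraMap R S) = maximalIdeal S ^ e)
    (hnf : maximalIdeal S ≠ ⊥) :
    Algebra.FormallyUnramified k (ResidueField S) := by
  by_contra hne0
  have hne : ¬ Subsingleton Ω[ResidueField S⁄k] := fun h => hne0 ⟨h⟩
  obtain ⟨ω₀, hω₀⟩ := hcyc
  set N : Submodule S Ω[S⁄k] := LinearMap.range (mapBaseChange k R S) with hN
  -- the map to the differentials of the residue field kills `m_S • ⊤`
  have hkill : ∀ ω ∈ (maximalIdeal S • (⊤ : Submodule S Ω[S⁄k])),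
      map k k S (ResidueField S) ω = 0 := by
    intro ω hω
    refine Submodule.smul_induction_on hω (fun s hs n _ => ?_) (fun x y hx hy => ?_)
    · rw [map_smul, ← algebraMap_smul (ResidueField S) s, ResidueField.algebraMap_eq,
        (residue_eq_zero_iff s).mpr hs, zero_smul]
    · rw [map_add, hx, hy, add_zero]
  -- Step 1
  have h1 : N ⊔ maximalIdeal S • (⊤ : Submodule S Ω[S⁄k]) = ⊤ := by
    by_contra hlt
    have hω₀N : ω₀ ∉ N ⊔ maximalIdeal S • (⊤ : Submodule S Ω[S⁄k]) := by
      intro hmem
      apply hlt
      refine eq_top_iff.mpr (hω₀.symm.le.trans (Submodule.span_le.mpr ?_))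
      intro z hz
      rw [Set.mem_singleton_iff.mp hz]
      exact hmem
    have hNle : N ≤ maximalIdeal S • (⊤ : Submodule S Ω[S⁄k]) := by
      intro n hn
      have hnspan : n ∈ Submodule.span S {ω₀} := by rw [hω₀]; trivial
      obtain ⟨s, rfl⟩ := Submodule.mem_span_singleton.mp hnspan
      by_cases hs : IsUnit s
      · exfalso
        apply hω₀N
        apply Submodule.mem_sup_left
        obtain ⟨u, rfl⟩ := hs
        have : ω₀ = (↑u⁻¹ : S) • ((u : S) • ω₀) := by
          rw [smul_smul, Units.inv_mul, one_smul]
        rw [this]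
        exact N.smul_mem _ hn
      · exact Submodule.smul_mem_smul ((mem_maximalIdeal s).mpr hs) trivial
    apply hne
    apply subsingleton_kaehler_of_D_vanish k (ResidueField R) (ResidueField S)
    intro c
    obtain ⟨r, rfl⟩ := residue_surjective c
    have hc : algebraMap (ResidueField R) (ResidueField S) (residue R r) =
        algebraMap S (ResidueField S) (algebraMap R S r) := by
      rw [ResidueField.algebraMap_eq]
      rfl
    rw [hc, ← map_D k k S (ResidueField S)]
    apply hkill
    apply hNle
    refine ⟨1 ⊗ₜ[R] D k R r, ?_⟩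
    rw [mapBaseChange_tmul, one_smul, map_D]
  -- Step 2 : Nakayama
  haveI : Module.Finite S Ω[S⁄k] := inferInstance
  have h2 : (⊤ : Submodule S Ω[S⁄k]) ≤ N := by
    apply Submodule.le_of_le_smul_of_le_jacobson_bot (I := maximalIdeal S)
      Module.Finite.fg_top
    · rw [IsLocalRing.jacobson_eq_maximalIdeal ⊥ bot_ne_top]
    · rw [h1]
  -- Step 3
  haveI : Subsingleton Ω[S⁄R] := by
    refine ⟨fun x y => ?_⟩
    have key : ∀ z : Ω[S⁄R], z = 0 := by
      intro z
      obtain ⟨w, rfl⟩ := map_surjective k R S z
      have hw : w ∈ N := h2 trivial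
      exact (exact_mapBaseChange_map k R S w).mpr hw
    rw [key x, key y]
  haveI : Algebra.FormallyUnramified R S := ⟨inferInstance⟩
  haveI : Algebra.EssFiniteType R S := Algebra.EssFiniteType.of_comp k R S
  have h4 : maximalIdeal S = maximalIdeal S ^ e := by
    rw [← hm]
    exact (Algebra.FormallyUnramified.map_maximalIdeal (R := R) (S := S)).symm
  have h5 : maximalIdeal S ≤ maximalIdeal S • maximalIdeal S := by
    calc maximalIdeal S = maximalIdeal S ^ e := h4
      _ ≤ maximalIdeal S ^ 2 := Ideal.pow_le_pow_right he
      _ = maximalIdeal S • maximalIdeal S := by rw [pow_two, smul_eq_mul]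
  apply hnf
  exact Submodule.eq_bot_of_le_smul_of_le_jacobson_bot (maximalIdeal S) (maximalIdeal S)
    (IsNoetherian.noetherian _) h5
    (by rw [IsLocalRing.jacobson_eq_maximalIdeal ⊥ bot_ne_top])

theorem isSeparable_residueField
    [Algebra.EssFiniteType k S] [IsNoetherianRing S]
    (hcyc : ∃ ω₀ : Ω[S⁄k], Submodule.span S {ω₀} = ⊤)
    [Algebra.IsSeparable (ResidueField R) (ResidueField S)]
    (e : ℕ) (he : 2 ≤ e)
    (hm : (maximalIdeal R).map (algebraMap R S) = maximalIdeal S ^ e)
    (hnf : maximalIdeal S ≠ ⊥) :
    Algebra.IsSeparable k (ResidueField S) := by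
  haveI := formallyUnramified_residueField k hcyc e he hm hnf
  haveI : Algebra.FiniteType S (ResidueField S) :=
    Algebra.FiniteType.of_surjective (Algebra.ofId S (ResidueField S))
      (by
        intro c
        obtain ⟨s, rfl⟩ := residue_surjective c
        exact ⟨s, rfl⟩)
  haveI : Algebra.EssFiniteType k (ResidueField S) := Algebra.EssFiniteType.comp k S _
  exact Algebra.FormallyUnramified.isSeparable k (ResidueField S)

end Groth.Agent.Helper3.TameSep
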