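import Mathlib
import Groth.Prelude.Def_CurvBase
import Groth.Agent.Lib.Helper3.TameSep
import Groth.Agent.Lib.Helper14.FibreSmooth
import Groth.Agent.Lib.Helper14.LocalDimSpec

/-!
# S16548: the residue field at a ramified point with separable residue extension (helper3)
-/

set_option autoImplicit false

universe u

open CategoryTheory AlgebraicGeometry IsLocalRing KaehlerDifferential

namespace Groth.Agent.Helper3.TameSepSch

/-- ring-level: a localization at a maximal ideal of a standard smooth algebra of relative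
dimension one over a field. -/
theorem ring_facts (k B S : Type u) [Field k] [CommRing B] [CommRing S] [Algebra k B]
    [Algebra k S] [Algebra B S] [IsScalarTower k B S]
    [Algebra.IsStandardSmoothOfRelativeDimension 1 k B]
    (Q : Ideal B) [hQ : Q.IsMaximal] [IsLocalization.AtPrime S Q] [IsLocalRing S] :
    Algebra.EssFiniteType k S ∧ IsNoetherianRing S ∧
      (∃ ω₀ : Ω[S⁄k], Submodule.span S {ω₀} = ⊤) ∧ maximalIdeal S ≠ ⊥ := by
  haveI hstd : Algebra.IsStandardSmooth k B :=
    Algebra.IsStandardSmoothOfRelativeDimension.isStandardSmooth 1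
  haveI : Algebra.FinitePresentation k B := hstd.finitePresentation
  haveI : Algebra.FiniteType k B := inferInstance
  haveI : IsNoetherianRing B := Algebra.FiniteType.isNoetherianRing k B
  haveI : Nontrivial B := by
    by_contra h
    rw [not_nontrivial_iff_subsingleton] at h
    exact hQ.ne_top (Subsingleton.elim _ _)
  haveI : Algebra.EssFiniteType B S := Algebra.EssFiniteType.of_isLocalization S Q.primeCompl
  have hess : Algebra.EssFiniteType k S := Algebra.EssFiniteType.comp k B S
  haveI : IsNoetherianRing S := IsLocalization.isNoetherianRing Q.primeCompl S inferInstance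
  refine ⟨hess, inferInstance, ?_, ?_⟩
  · -- cyclic
    have hrank := Algebra.IsStandardSmoothOfRelativeDimension.rank_kaehlerDifferential
      (R := k) (S := B) 1
    haveI : Module.Free B Ω[B⁄k] := inferInstance
    haveI : Module.Finite B Ω[B⁄k] := inferInstance
    have hfr : Module.finrank B Ω[B⁄k] = 1 := by
      unfold Module.finrank
      rw [hrank]
      simp
    let b : Module.Basis (Fin 1) B Ω[B⁄k] := Module.finBasisOfFinrankEq _ _ hfr
    have hspan : Submodule.span B {b 0} = ⊤ := by
      have := b.span_eq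
      rwa [Set.range_unique] at this
    refine ⟨map k k B S (b 0), ?_⟩
    have := span_eq_top_of_isLocalizedModule S Q.primeCompl (map k k B S) hspan
    rwa [Set.image_singleton] at this
  · -- not a field
    intro hbot
    have hfield : IsField S := (IsLocalRing.isField_iff_maximalIdeal_eq).mpr hbot
    have hdim0 : ringKrullDim S = 0 := ringKrullDim_eq_zero_of_isField hfield
    have hht : ringKrullDim S = ((Q.height : ℕ∞) : WithBot ℕ∞) :=
      IsLocalization.AtPrime.ringKrullDim_eq_height Q S
    have h1 := Groth.Agent.Helper14.FibreSmooth.localDim_of_isStandardSmoothOfRelativeDimension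
      k B 1 ⟨Q, hQ.isPrime⟩
    letI : Field (B ⧸ Q) := Ideal.Quotient.field Q
    haveI : Algebra.FiniteType k (B ⧸ Q) := inferInstance
    haveI : Module.Finite k (B ⧸ Q) := finite_of_finite_type_of_isJacobsonRing k (B ⧸ Q)
    haveI : Algebra.IsAlgebraic k (B ⧸ Q) := Algebra.IsAlgebraic.of_finite k (B ⧸ Q)
    have htr : Algebra.trdeg k (B ⧸ Q) = ((0 : ℕ) : Cardinal) := by
      rw [trdeg_eq_zero]; simp
    have h3 := Groth.Agent.Helper14.LocalDimSpec.localDim_eq k B Q 0 htr
    rw [h1] at h3
    rw [hdim0] at hht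
    rw [← hht] at h3
    simp at h3

variable (k : Type u) [Field k] (X : Scheme.{u}) [X.Over (Spec (CommRingCat.of k))]

theorem stalk_facts [SmoothOfRelativeDimension 1 (X ↘ Spec (CommRingCat.of k))] (x : X)
    (hx : IsClosed ({x} : Set X)) :
    letI := Curv2.stalkAlgebra k X x
    Algebra.EssFiniteType k (X.presheaf.stalk x) ∧ IsNoetherianRing (X.presheaf.stalk x) ∧
      (∃ ω₀ : Ω[X.presheaf.stalk x⁄k], Submodule.span (X.presheaf.stalk x) {ω₀} = ⊤) ∧
      maximalIdeal (X.presheaf.stalk x) ≠ ⊥ := by
  letI := Curv2.stalkAlgebra k X x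
  obtain ⟨U, hU, V, hV, hxV, e, hstd⟩ :=
    SmoothOfRelativeDimension.exists_isStandardSmoothOfRelativeDimension (n := 1)
      (f := X ↘ Spec (CommRingCat.of k)) x
  have hUtop : U = ⊤ := by
    ext y
    simp only [TopologicalSpace.Opens.coe_top, Set.mem_univ, iff_true]
    haveI : Subsingleton (PrimeSpectrum k) := inferInstance
    have hy : y = (X ↘ Spec (CommRingCat.of k)).base x := Subsingleton.elim (α := PrimeSpectrum k) _ _
    rw [hy]
    exact e hxV
  subst hUtop
  let φ : k →+* Γ(X, V) :=
    ((X ↘ Spec (CommRingCat.of k)).appLE ⊤ V e).hom.comp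
      (Scheme.ΓSpecIso (CommRingCat.of k)).inv.hom
  have hφ : φ.IsStandardSmoothOfRelativeDimension 1 :=
    RingHom.isStandardSmoothOfRelativeDimension_respectsIso.2 _
      (Scheme.ΓSpecIso (CommRingCat.of k)).symm.commRingCatIsoToRingEquiv hstd
  letI algB : Algebra k Γ(X, V) := φ.toAlgebra
  haveI : Algebra.IsStandardSmoothOfRelativeDimension 1 k Γ(X, V) := hφ
  letI algS : Algebra Γ(X, V) (X.presheaf.stalk x) :=
    TopCat.Presheaf.algebra_section_stalk X.presheaf (U := V) ⟨x, hxV⟩
  haveI : IsLocalization.AtPrime (X.presheaf.stalk x) (hV.primeIdealOf ⟨x, hxV⟩).asIdeal :=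
    hV.isLocalization_stalk ⟨x, hxV⟩
  haveI : IsScalarTower k Γ(X, V) (X.presheaf.stalk x) := by
    refine IsScalarTower.of_algebraMap_eq fun c => ?_
    change (X.presheaf.germ ⊤ x trivial).hom
        (Coh.toGlobal (X ↘ Spec (CommRingCat.of k)) c) =
      (X.presheaf.germ V x hxV).hom (φ c)
    simp only [φ, Coh.toGlobal, RingHom.comp_apply, Scheme.Hom.appLE, CommRingCat.hom_comp]
    exact (TopCat.Presheaf.germ_res_apply X.presheaf (homOfLE le_top : V ⟶ ⊤) x hxV _).symm
  -- maximality
  haveI hmax : (hV.primeIdealOf ⟨x, hxV⟩).asIdeal.IsMaximal := by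
    let ι := hV.fromSpec
    let p : Spec Γ(X, V) := hV.primeIdealOf ⟨x, hxV⟩
    have hp : ι p = x := hV.fromSpec_primeIdealOf ⟨x, hxV⟩
    have h1 : ι ⁻¹' {x} = {p} := by
      ext r
      rw [Set.mem_preimage, Set.mem_singleton_iff, Set.mem_singleton_iff, ← hp]
      exact hV.fromSpec.isOpenEmbedding.injective.eq_iff
    have hcl : IsClosed ({p} : Set (Spec Γ(X, V))) := by
      rw [← h1]
      exact hx.preimage ι.continuous
    exact (PrimeSpectrum.isClosed_singleton_iff_isMaximal (p : PrimeSpectrum Γ(X, V))).1 hcl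
  exact ring_facts k Γ(X, V) (X.presheaf.stalk x) (hV.primeIdealOf ⟨x, hxV⟩).asIdeal

theorem main (Y : Scheme.{u}) [Y.Over (Spec (CommRingCat.of k))]
    [SmoothOfRelativeDimension 1 (X ↘ Spec (CommRingCat.of k))]
    (f : X ⟶ Y) (hf : f ≫ (Y ↘ Spec (CommRingCat.of k)) = X ↘ Spec (CommRingCat.of k))
    (x : X) (hx : IsClosed ({x} : Set X)) (e : ℕ)
    (he : (IsLocalRing.maximalIdeal (Y.presheaf.stalk (f.base x))).map (f.stalkMap x).hom =
      IsLocalRing.maximalIdeal (X.presheaf.stalk x) ^ e)
    (h2 : 2 ≤ e)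
    (hsep : @Algebra.IsSeparable (Y.residueField (f.base x)) (X.residueField x) _ _
      (f.residueFieldMap x).hom.toAlgebra) :
    @Algebra.IsSeparable k (X.residueField x) _ _ (Curv2.resAlgebra k X x) := by
  letI := Curv2.stalkAlgebra k X x
  letI := Curv2.stalkAlgebra k Y (f.base x)
  letI algRS : Algebra (Y.presheaf.stalk (f.base x)) (X.presheaf.stalk x) :=
    (f.stalkMap x).hom.toAlgebra
  haveI : IsLocalHom (algebraMap (Y.presheaf.stalk (f.base x)) (X.presheaf.stalk x)) :=
    inferInstanceAs (IsLocalHom (f.stalkMap x).hom)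
  have happ : ∀ t, (f.app ⊤).hom ((Y ↘ Spec (CommRingCat.of k)).appTop.hom t) =
      (X ↘ Spec (CommRingCat.of k)).appTop.hom t := by
    intro t
    have h : (f ≫ (Y ↘ Spec (CommRingCat.of k))).appTop =
        (X ↘ Spec (CommRingCat.of k)).appTop := by rw [hf]
    rw [Scheme.Hom.comp_appTop] at h
    exact congrArg (fun g => g.hom t) h
  haveI : IsScalarTower k (Y.presheaf.stalk (f.base x)) (X.presheaf.stalk x) := by
    refine IsScalarTower.of_algebraMap_eq fun c => ?_
    change (X.presheaf.germ ⊤ x trivial).hom (Coh.toGlobal (X ↘ Spec (CommRingCat.of k)) c) =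
      (f.stalkMap x).hom ((Y.presheaf.germ ⊤ (f.base x) trivial).hom
        (Coh.toGlobal (Y ↘ Spec (CommRingCat.of k)) c))
    rw [Scheme.Hom.germ_stalkMap_apply]
    have h := happ ((Scheme.ΓSpecIso (CommRingCat.of k)).inv.hom c)
    change _ = (X.presheaf.germ (f ⁻¹ᵁ ⊤) x trivial).hom ((f.app ⊤).hom
      ((Y ↘ Spec (CommRingCat.of k)).appTop.hom ((Scheme.ΓSpecIso (CommRingCat.of k)).inv.hom c)))
    rw [h]
    rfl
  obtain ⟨hess, hnoeth, hcyc, hnf⟩ := stalk_facts k X x hx
  haveI := hess
  haveI := hnoeth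
  have halg : (ResidueField.instAlgebra : Algebra (ResidueField (Y.presheaf.stalk (f.base x)))
      (ResidueField (X.presheaf.stalk x))) = (f.residueFieldMap x).hom.toAlgebra := by
    apply Algebra.algebra_ext
    intro r
    obtain ⟨r, rfl⟩ := residue_surjective r
    rfl
  haveI : Algebra.IsSeparable (ResidueField (Y.presheaf.stalk (f.base x)))
      (ResidueField (X.presheaf.stalk x)) := by
    rw [halg]
    exact hsep
  have key := Groth.Agent.Helper3.TameSep.isSeparable_residueField k
    (R := Y.presheaf.stalk (f.base x)) (S := X.presheaf.stalk x) hcyc e h2 he hnf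
  exact key

end Groth.Agent.Helper3.TameSepSch
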