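import Mathlib
import Groth.Prelude.Def_W4c5m1nsnscurvesC
import Groth.Prelude.Def_W4c5m1nsnscurvesI

/-!
# The curve over `U_n` is `U_{n+1}` I: relations and the forward map (helper3)
-/

set_option autoImplicit false
universe u

namespace Groth.Agent.Helper3.UCurve

open W4c5m1nsnscurves MvPolynomial

variable (R : Type u) [CommRing R]

section Rel

variable (n : ℕ)

theorem ulin (i j : Fin n) (h : i ≠ j) :
    ugen R n (.cij i j h) + ugen R n (.cij j i (Ne.symm h)) =
      ugen R n .a + ugen R n (.ci i) + ugen R n (.cbi i) + ugen R n (.ci j) + ugen R n (.cbi j) := by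
  have hmem : (X (.cij i j h) + X (.cij j i (Ne.symm h)) -
      (X .a + X (.ci i) + X (.cbi i) + X (.ci j) + X (.cbi j)) : MvPolynomial (UGen n) R) ∈
      URel R n := Or.inl (Or.inl (Or.inl ⟨⟨(i, j), h⟩, rfl⟩))
  have := Ideal.Quotient.eq_zero_iff_mem.mpr (Ideal.subset_span hmem)
  simp only [map_sub, map_add] at this
  exact sub_eq_zero.mp this

theorem uq1 (i j : Fin n) (h : i ≠ j) :
    ugen R n (.cij j i (Ne.symm h)) * ugen R n (.ci j) + ugen R n (.cij i j h) * ugen R n (.ci i) -
      ugen R n (.ci i) * ugen R n (.ci j) - ugen R n .c = 0 := by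
  have hmem : (X (.cij j i (Ne.symm h)) * X (.ci j) + X (.cij i j h) * X (.ci i) -
      X (.ci i) * X (.ci j) - X .c : MvPolynomial (UGen n) R) ∈
      URel R n := Or.inl (Or.inl (Or.inr ⟨⟨(i, j), h⟩, rfl⟩))
  have := Ideal.Quotient.eq_zero_iff_mem.mpr (Ideal.subset_span hmem)
  simp only [map_sub, map_add, map_mul] at this
  exact this

theorem uq2 (i j : Fin n) (h : i ≠ j) :
    ugen R n (.cij j i (Ne.symm h)) * ugen R n (.cbi i) +
      ugen R n (.cij i j h) * ugen R n (.cbi j) -
      ugen R n (.cbi i) * ugen R n (.cbi j) - ugen R n .cb = 0 := by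
  have hmem : (X (.cij j i (Ne.symm h)) * X (.cbi i) + X (.cij i j h) * X (.cbi j) -
      X (.cbi i) * X (.cbi j) - X .cb : MvPolynomial (UGen n) R) ∈
      URel R n := Or.inl (Or.inr ⟨⟨(i, j), h⟩, rfl⟩)
  have := Ideal.Quotient.eq_zero_iff_mem.mpr (Ideal.subset_span hmem)
  simp only [map_sub, map_add, map_mul] at this
  exact this

theorem ucub (i j k : Fin n) (hij : i ≠ j) (hjk : j ≠ k) (hik : i ≠ k) :
    ugen R n (.cij i j hij) * ugen R n (.cij j k hjk) +
      ugen R n (.cij j i (Ne.symm hij)) * ugen R n (.cij i k hik) -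
      ugen R n (.cij i k hik) * ugen R n (.cij j k hjk) +
      (ugen R n .a + ugen R n (.ci k) + ugen R n (.cbi k)) * ugen R n (.ci k) - ugen R n .c = 0 := by
  have hmem : (X (.cij i j hij) * X (.cij j k hjk) +
      X (.cij j i (Ne.symm hij)) * X (.cij i k hik) -
      X (.cij i k hik) * X (.cij j k hjk) +
      (X .a + X (.ci k) + X (.cbi k)) * X (.ci k) - X .c : MvPolynomial (UGen n) R) ∈
      URel R n := Or.inr ⟨⟨(i, j, k), ⟨hij, hjk, hik⟩⟩, rfl⟩
  have := Ideal.Quotient.eq_zero_iff_mem.mpr (Ideal.subset_span hmem)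
  simp only [map_sub, map_add, map_mul] at this
  exact this

end Rel

variable (m : ℕ)

theorem uincl_ugen (g : UGen m) : uincl R m (ugen R m g) = ugen R (m + 1) g.castSucc := by
  have h : uincl R m (ugen R m g) =
      (Ideal.Quotient.mkₐ R (Ideal.span (URel R (m + 1)))) (rename UGen.castSucc (X g)) := rfl
  rw [h, rename_X]
  rfl

/-- images of the variables of the curve -/
noncomputable def fwd : CVar m → URing R (m + 1)
  | .x2 => ugen R (m + 1) (.ci (Fin.last m))
  | .x3 => ugen R (m + 1) .a + ugen R (m + 1) (.ci (Fin.last m)) +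
      ugen R (m + 1) (.cbi (Fin.last m))
  | .xi i => ugen R (m + 1) (.cij i.castSucc (Fin.last m) (Fin.castSucc_lt_last i).ne)

/-- the forward map on polynomials -/
noncomputable def phi0 : MvPolynomial (CVar m) (URing R m) →+* URing R (m + 1) :=
  MvPolynomial.eval₂Hom (uincl R m : URing R m →+* URing R (m + 1)) (fwd R m)

theorem phi0_X (v : CVar m) : phi0 R m (X v) = fwd R m v := eval₂Hom_X' _ _ v

theorem phi0_C (r : URing R m) : phi0 R m (C r) = uincl R m r := eval₂Hom_C _ _ r

theorem phi0_crel (p : MvPolynomial (CVar m) (URing R m))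
    (hp : p ∈ CRel (URing R m) m (ugen R m)) : phi0 R m p = 0 := by
  rcases hp with ((⟨i, rfl⟩ | ⟨i, rfl⟩) | ⟨q, rfl⟩)
  · have hl := ulin R (m + 1) i.castSucc (Fin.last m) (Fin.castSucc_lt_last i).ne
    have h1 := uq1 R (m + 1) i.castSucc (Fin.last m) (Fin.castSucc_lt_last i).ne
    simp only [map_sub, map_add, map_mul, phi0_X, phi0_C, fwd, uincl_ugen, UGen.castSucc]
    linear_combination (ugen R (m + 1) (.ci (Fin.last m))) * hl - h1
  · have hl := ulin R (m + 1) i.castSucc (Fin.last m) (Fin.castSucc_lt_last i).ne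
    have h1 := uq1 R (m + 1) i.castSucc (Fin.last m) (Fin.castSucc_lt_last i).ne
    have h2 := uq2 R (m + 1) i.castSucc (Fin.last m) (Fin.castSucc_lt_last i).ne
    simp only [map_sub, map_add, map_mul, phi0_X, phi0_C, fwd, uincl_ugen, UGen.castSucc]
    linear_combination (ugen R (m + 1) (.ci (Fin.last m)) -
      ugen R (m + 1) (.cbi i.castSucc)) * hl - h1 + h2
  · obtain ⟨⟨i, j⟩, hij⟩ := q
    have hc := ucub R (m + 1) i.castSucc j.castSucc (Fin.last m)
      (fun e => hij (Fin.castSucc_injective _ e)) (Fin.castSucc_lt_last j).ne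
      (Fin.castSucc_lt_last i).ne
    simp only [map_sub, map_add, map_mul, phi0_X, phi0_C, fwd, uincl_ugen, UGen.castSucc]
    linear_combination -hc

/-- the forward map -/
noncomputable def phi : CurveAlg (URing R m) m (ugen R m) →+* URing R (m + 1) :=
  Ideal.Quotient.lift (Ideal.span (CRel (URing R m) m (ugen R m))) (phi0 R m) (by
    have hker : Ideal.span (CRel (URing R m) m (ugen R m)) ≤ RingHom.ker (phi0 R m) :=
      Ideal.span_le.mpr (fun p hp => (RingHom.mem_ker).mpr (phi0_crel R m p hp))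
    exact fun a ha => RingHom.mem_ker.mp (hker ha))

theorem phi_mk (p : MvPolynomial (CVar m) (URing R m)) :
    phi R m (Ideal.Quotient.mk _ p) = phi0 R m p := rfl

end Groth.Agent.Helper3.UCurve
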