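import Mathlib
import Groth.Agent.Lib.Helper3.UCurve1

/-!
# The curve over `U_n` is `U_{n+1}` II: the backward map (helper3)
-/

set_option autoImplicit false
universe u

namespace Groth.Agent.Helper3.UCurve

open W4c5m1nsnscurves MvPolynomial

variable (R : Type u) [CommRing R] (m : ℕ)

/-- the curve algebra over `U_n` -/
abbrev CA : Type u := CurveAlg (URing R m) m (ugen R m)

/-- class of a variable -/
noncomputable def xv (v : CVar m) : CA R m :=
  Ideal.Quotient.mk (Ideal.span (CRel (URing R m) m (ugen R m))) (X v)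

/-- the structure map -/
noncomputable def alH : URing R m →+* CA R m :=
  (Ideal.Quotient.mk (Ideal.span (CRel (URing R m) m (ugen R m)))).comp C

theorem alH_eq (r : URing R m) : algebraMap (URing R m) (CA R m) r = alH R m r := rfl

/-- image of a generator of `U_n` -/
noncomputable def al (g : UGen m) : CA R m := alH R m (ugen R m g)

theorem crel1 (i : Fin m) : xv R m .x2 * xv R m (.xi i) =
    xv R m .x2 * xv R m .x3 + al R m (.ci i) * xv R m (.xi i) + al R m (.cbi i) * xv R m .x2 -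
      al R m .c := by
  have hmem : (X .x2 * X (.xi i) -
      (X .x2 * X .x3 + C (ugen R m (.ci i)) * X (.xi i) + C (ugen R m (.cbi i)) * X .x2 -
        C (ugen R m .c)) : MvPolynomial (CVar m) (URing R m)) ∈ CRel (URing R m) m (ugen R m) :=
    Or.inl (Or.inl ⟨i, rfl⟩)
  have := Ideal.Quotient.eq_zero_iff_mem.mpr (Ideal.subset_span hmem)
  simp only [map_sub, map_add, map_mul] at this
  exact sub_eq_zero.mp this

theorem crel2 (i : Fin m) : xv R m .x3 * xv R m (.xi i) =
    xv R m .x2 * xv R m .x3 + (al R m .a + al R m (.ci i) + al R m (.cbi i)) *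
      (xv R m (.xi i) - al R m (.cbi i)) + al R m .cb - al R m .c := by
  have hmem : (X .x3 * X (.xi i) -
      (X .x2 * X .x3 + C (ugen R m .a + ugen R m (.ci i) + ugen R m (.cbi i)) *
        (X (.xi i) - C (ugen R m (.cbi i))) + C (ugen R m .cb) - C (ugen R m .c)) :
      MvPolynomial (CVar m) (URing R m)) ∈ CRel (URing R m) m (ugen R m) :=
    Or.inl (Or.inr ⟨i, rfl⟩)
  have := Ideal.Quotient.eq_zero_iff_mem.mpr (Ideal.subset_span hmem)
  simp only [map_sub, map_add, map_mul] at this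
  exact sub_eq_zero.mp this

theorem crel3 (i j : Fin m) (h : i ≠ j) : xv R m (.xi i) * xv R m (.xi j) =
    xv R m .x2 * xv R m .x3 + al R m (.cij i j h) * xv R m (.xi j) +
      al R m (.cij j i (Ne.symm h)) * xv R m (.xi i) - al R m .c := by
  have hmem : (X (.xi i) * X (.xi j) -
      (X .x2 * X .x3 + C (ugen R m (.cij i j h)) * X (.xi j) +
        C (ugen R m (.cij j i (Ne.symm h))) * X (.xi i) - C (ugen R m .c)) :
      MvPolynomial (CVar m) (URing R m)) ∈ CRel (URing R m) m (ugen R m) :=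
    Or.inr ⟨⟨(i, j), h⟩, rfl⟩
  have := Ideal.Quotient.eq_zero_iff_mem.mpr (Ideal.subset_span hmem)
  simp only [map_sub, map_add, map_mul] at this
  exact sub_eq_zero.mp this

/-- images of the generators of `U_{n+1}` -/
noncomputable def bwd : UGen (m + 1) → CA R m
  | .a => al R m .a
  | .c => al R m .c
  | .cb => al R m .cb
  | .ci i => if h : (i : ℕ) < m then al R m (.ci ⟨i, h⟩) else xv R m .x2
  | .cbi i => if h : (i : ℕ) < m then al R m (.cbi ⟨i, h⟩)
      else xv R m .x3 - al R m .a - xv R m .x2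
  | .cij i j hij =>
    if hi : (i : ℕ) < m then
      if hj : (j : ℕ) < m then
        al R m (.cij ⟨i, hi⟩ ⟨j, hj⟩ (fun e => hij (Fin.ext (by have h := congrArg Fin.val e; exact h))))
      else xv R m (.xi ⟨i, hi⟩)
    else
      if hj : (j : ℕ) < m then
        al R m (.ci ⟨j, hj⟩) + al R m (.cbi ⟨j, hj⟩) + xv R m .x3 - xv R m (.xi ⟨j, hj⟩)
      else 0

theorem bwd_a : bwd R m .a = al R m .a := rfl
theorem bwd_c : bwd R m .c = al R m .c := rfl
theorem bwd_cb : bwd R m .cb = al R m .cb := rfl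

theorem bwd_ci_cast (i : Fin m) : bwd R m (.ci i.castSucc) = al R m (.ci i) := by
  have h : ((i.castSucc : Fin (m + 1)) : ℕ) < m := i.isLt
  simp only [bwd]
  rw [dif_pos h]
  rfl

theorem bwd_ci_last : bwd R m (.ci (Fin.last m)) = xv R m .x2 := by
  have h : ¬ ((Fin.last m : Fin (m + 1)) : ℕ) < m := by simp
  simp only [bwd]
  rw [dif_neg h]

theorem bwd_cbi_cast (i : Fin m) : bwd R m (.cbi i.castSucc) = al R m (.cbi i) := by
  have h : ((i.castSucc : Fin (m + 1)) : ℕ) < m := i.isLt
  simp only [bwd]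
  rw [dif_pos h]
  rfl

theorem bwd_cbi_last : bwd R m (.cbi (Fin.last m)) = xv R m .x3 - al R m .a - xv R m .x2 := by
  have h : ¬ ((Fin.last m : Fin (m + 1)) : ℕ) < m := by simp
  simp only [bwd]
  rw [dif_neg h]

theorem bwd_cij_cc (i j : Fin m) (h : i.castSucc ≠ j.castSucc) (h' : i ≠ j) :
    bwd R m (.cij i.castSucc j.castSucc h) = al R m (.cij i j h') := by
  have hi : ((i.castSucc : Fin (m + 1)) : ℕ) < m := i.isLt
  have hj : ((j.castSucc : Fin (m + 1)) : ℕ) < m := j.isLt
  simp only [bwd]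
  rw [dif_pos hi, dif_pos hj]
  rfl

theorem bwd_cij_cl (i : Fin m) (h : i.castSucc ≠ Fin.last m) :
    bwd R m (.cij i.castSucc (Fin.last m) h) = xv R m (.xi i) := by
  have hi : ((i.castSucc : Fin (m + 1)) : ℕ) < m := i.isLt
  have hj : ¬ ((Fin.last m : Fin (m + 1)) : ℕ) < m := by simp
  simp only [bwd]
  rw [dif_pos hi, dif_neg hj]
  rfl

theorem bwd_cij_lc (j : Fin m) (h : Fin.last m ≠ j.castSucc) :
    bwd R m (.cij (Fin.last m) j.castSucc h) =
      al R m (.ci j) + al R m (.cbi j) + xv R m .x3 - xv R m (.xi j) := by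
  have hi : ¬ ((Fin.last m : Fin (m + 1)) : ℕ) < m := by simp
  have hj : ((j.castSucc : Fin (m + 1)) : ℕ) < m := j.isLt
  simp only [bwd]
  rw [dif_neg hi, dif_pos hj]
  rfl

/-- the backward map on polynomials -/
noncomputable def psi0 : MvPolynomial (UGen (m + 1)) R →ₐ[R] CA R m := aeval (bwd R m)

theorem psi0_X (g : UGen (m + 1)) : psi0 R m (X g) = bwd R m g := aeval_X _ g

theorem al_lin (i j : Fin m) (h : i ≠ j) :
    al R m (.cij i j h) + al R m (.cij j i (Ne.symm h)) =
      al R m .a + al R m (.ci i) + al R m (.cbi i) + al R m (.ci j) + al R m (.cbi j) := by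
  have := congrArg (alH R m) (ulin R m i j h)
  unfold al
  simpa only [map_add] using this

theorem al_q1 (i j : Fin m) (h : i ≠ j) :
    al R m (.cij j i (Ne.symm h)) * al R m (.ci j) + al R m (.cij i j h) * al R m (.ci i) -
      al R m (.ci i) * al R m (.ci j) - al R m .c = 0 := by
  have := congrArg (alH R m) (uq1 R m i j h)
  unfold al
  simpa only [map_add, map_sub, map_mul, map_zero] using this

theorem al_q2 (i j : Fin m) (h : i ≠ j) :
    al R m (.cij j i (Ne.symm h)) * al R m (.cbi i) + al R m (.cij i j h) * al R m (.cbi j) -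
      al R m (.cbi i) * al R m (.cbi j) - al R m .cb = 0 := by
  have := congrArg (alH R m) (uq2 R m i j h)
  unfold al
  simpa only [map_add, map_sub, map_mul, map_zero] using this

theorem al_cub (i j k : Fin m) (hij : i ≠ j) (hjk : j ≠ k) (hik : i ≠ k) :
    al R m (.cij i j hij) * al R m (.cij j k hjk) +
      al R m (.cij j i (Ne.symm hij)) * al R m (.cij i k hik) -
      al R m (.cij i k hik) * al R m (.cij j k hjk) +
      (al R m .a + al R m (.ci k) + al R m (.cbi k)) * al R m (.ci k) - al R m .c = 0 := by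
  have := congrArg (alH R m) (ucub R m i j k hij hjk hik)
  unfold al
  simpa only [map_add, map_sub, map_mul, map_zero] using this

theorem psi0_urel (p : MvPolynomial (UGen (m + 1)) R) (hp : p ∈ URel R (m + 1)) :
    psi0 R m p = 0 := by
  rcases hp with (((⟨q, rfl⟩ | ⟨q, rfl⟩) | ⟨q, rfl⟩) | ⟨q, rfl⟩)
  · obtain ⟨⟨i, j⟩, hij⟩ := q
    simp only [map_sub, map_add, psi0_X]
    rcases i.eq_castSucc_or_eq_last with ⟨i', rfl⟩ | rfl <;>
      rcases j.eq_castSucc_or_eq_last with ⟨j', rfl⟩ | rfl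
    · have hij' : i' ≠ j' := fun e => hij (by rw [e])
      rw [bwd_cij_cc R m i' j' _ hij', bwd_cij_cc R m j' i' _ (Ne.symm hij'), bwd_a,
        bwd_ci_cast, bwd_ci_cast, bwd_cbi_cast, bwd_cbi_cast]
      linear_combination al_lin R m i' j' hij'
    · rw [bwd_cij_cl, bwd_cij_lc, bwd_a, bwd_ci_cast, bwd_ci_last, bwd_cbi_cast, bwd_cbi_last]
      ring
    · rw [bwd_cij_cl, bwd_cij_lc, bwd_a, bwd_ci_cast, bwd_ci_last, bwd_cbi_cast, bwd_cbi_last]
      ring
    · exact absurd rfl hij
  · obtain ⟨⟨i, j⟩, hij⟩ := q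
    simp only [map_sub, map_add, map_mul, psi0_X]
    rcases i.eq_castSucc_or_eq_last with ⟨i', rfl⟩ | rfl <;>
      rcases j.eq_castSucc_or_eq_last with ⟨j', rfl⟩ | rfl
    · have hij' : i' ≠ j' := fun e => hij (by rw [e])
      rw [bwd_cij_cc R m i' j' _ hij', bwd_cij_cc R m j' i' _ (Ne.symm hij'), bwd_c,
        bwd_ci_cast, bwd_ci_cast]
      linear_combination al_q1 R m i' j' hij'
    · rw [bwd_cij_cl, bwd_cij_lc, bwd_c, bwd_ci_cast, bwd_ci_last]
      linear_combination -(crel1 R m i')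
    · rw [bwd_cij_cl, bwd_cij_lc, bwd_c, bwd_ci_cast, bwd_ci_last]
      linear_combination -(crel1 R m j')
    · exact absurd rfl hij
  · obtain ⟨⟨i, j⟩, hij⟩ := q
    simp only [map_sub, map_add, map_mul, psi0_X]
    rcases i.eq_castSucc_or_eq_last with ⟨i', rfl⟩ | rfl <;>
      rcases j.eq_castSucc_or_eq_last with ⟨j', rfl⟩ | rfl
    · have hij' : i' ≠ j' := fun e => hij (by rw [e])
      rw [bwd_cij_cc R m i' j' _ hij', bwd_cij_cc R m j' i' _ (Ne.symm hij'), bwd_cb,
        bwd_cbi_cast, bwd_cbi_cast]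
      linear_combination al_q2 R m i' j' hij'
    · rw [bwd_cij_cl, bwd_cij_lc, bwd_cb, bwd_cbi_cast, bwd_cbi_last]
      linear_combination crel2 R m i' - crel1 R m i'
    · rw [bwd_cij_cl, bwd_cij_lc, bwd_cb, bwd_cbi_cast, bwd_cbi_last]
      linear_combination crel2 R m j' - crel1 R m j'
    · exact absurd rfl hij
  · obtain ⟨⟨i, j, k⟩, hij, hjk, hik⟩ := q
    simp only [map_sub, map_add, map_mul, psi0_X]
    rcases i.eq_castSucc_or_eq_last with ⟨i', rfl⟩ | rfl <;>
      rcases j.eq_castSucc_or_eq_last with ⟨j', rfl⟩ | rfl <;>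
      rcases k.eq_castSucc_or_eq_last with ⟨k', rfl⟩ | rfl
    · have hij' : i' ≠ j' := fun e => hij (by rw [e])
      have hjk' : j' ≠ k' := fun e => hjk (by rw [e])
      have hik' : i' ≠ k' := fun e => hik (by rw [e])
      rw [bwd_cij_cc R m i' j' _ hij', bwd_cij_cc R m j' k' _ hjk',
        bwd_cij_cc R m j' i' _ (Ne.symm hij'), bwd_cij_cc R m i' k' _ hik', bwd_a, bwd_c,
        bwd_ci_cast, bwd_cbi_cast]
      linear_combination al_cub R m i' j' k' hij' hjk' hik'
    · have hij' : i' ≠ j' := fun e => hij (by rw [e])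
      rw [bwd_cij_cc R m i' j' _ hij', bwd_cij_cc R m j' i' _ (Ne.symm hij'), bwd_cij_cl,
        bwd_cij_cl, bwd_a, bwd_c, bwd_ci_last, bwd_cbi_last]
      linear_combination -(crel3 R m i' j' hij')
    · have hik' : i' ≠ k' := fun e => hik (by rw [e])
      rw [bwd_cij_cl, bwd_cij_lc, bwd_cij_lc, bwd_cij_cc R m i' k' _ hik', bwd_a, bwd_c,
        bwd_ci_cast, bwd_cbi_cast]
      linear_combination crel2 R m i' - crel3 R m i' k' hik' +
        (al R m (.cbi i') - al R m (.ci k') - xv R m (.xi i')) *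
          (al_lin R m i' k' hik') + al_q1 R m i' k' hik' - al_q2 R m i' k' hik'
    · exact absurd rfl hjk
    · have hjk' : j' ≠ k' := fun e => hjk (by rw [e])
      rw [bwd_cij_lc, bwd_cij_cc R m j' k' _ hjk', bwd_cij_cl, bwd_cij_lc, bwd_a, bwd_c,
        bwd_ci_cast, bwd_cbi_cast]
      linear_combination crel2 R m j' - crel3 R m j' k' hjk' +
        (al R m (.cbi j') - al R m (.ci k') - xv R m (.xi j')) *
          (al_lin R m j' k' hjk') + al_q1 R m j' k' hjk' - al_q2 R m j' k' hjk'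
    · exact absurd rfl hik
    · exact absurd rfl hij
    · exact absurd rfl hij

/-- the backward map -/
noncomputable def psi : URing R (m + 1) →ₐ[R] CA R m :=
  Ideal.Quotient.liftₐ (Ideal.span (URel R (m + 1))) (psi0 R m) (by
    have hker : Ideal.span (URel R (m + 1)) ≤ RingHom.ker (psi0 R m) :=
      Ideal.span_le.mpr (fun p hp => (RingHom.mem_ker).mpr (psi0_urel R m p hp))
    exact fun a ha => RingHom.mem_ker.mp (hker ha))

theorem psi_ugen (g : UGen (m + 1)) : psi R m (ugen R (m + 1) g) = bwd R m g := by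
  have h : psi R m (ugen R (m + 1) g) = psi0 R m (X g) := rfl
  rw [h, psi0_X]

end Groth.Agent.Helper3.UCurve
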