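import Mathlib
import Groth.Agent.Lib.Helper3.UCurve2

/-!
# The curve over `U_n` is `U_{n+1}` III: the isomorphism (helper3)
-/

set_option autoImplicit false
universe u

namespace Groth.Agent.Helper3.UCurve

open W4c5m1nsnscurves MvPolynomial

variable (R : Type u) [CommRing R] (m : ℕ)

theorem phi_xv (v : CVar m) : phi R m (xv R m v) = fwd R m v := by
  rw [xv, phi_mk, phi0_X]

theorem phi_alH (r : URing R m) : phi R m (alH R m r) = uincl R m r := by
  have h : phi R m (alH R m r) = phi0 R m (C r) := rfl
  rw [h, phi0_C]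

theorem phi_al (g : UGen m) : phi R m (al R m g) = ugen R (m + 1) g.castSucc := by
  rw [al, phi_alH, uincl_ugen]

theorem phi_bwd (g : UGen (m + 1)) : phi R m (bwd R m g) = ugen R (m + 1) g := by
  cases g with
  | a => rw [bwd_a, phi_al]; rfl
  | c => rw [bwd_c, phi_al]; rfl
  | cb => rw [bwd_cb, phi_al]; rfl
  | ci i =>
    rcases i.eq_castSucc_or_eq_last with ⟨i', rfl⟩ | rfl
    · rw [bwd_ci_cast, phi_al]; rfl
    · rw [bwd_ci_last, phi_xv]; rfl
  | cbi i =>
    rcases i.eq_castSucc_or_eq_last with ⟨i', rfl⟩ | rfl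
    · rw [bwd_cbi_cast, phi_al]; rfl
    · rw [bwd_cbi_last, map_sub, map_sub, phi_xv, phi_xv, phi_al]
      simp only [fwd, UGen.castSucc]
      ring
  | cij i j h =>
    rcases i.eq_castSucc_or_eq_last with ⟨i', rfl⟩ | rfl <;>
      rcases j.eq_castSucc_or_eq_last with ⟨j', rfl⟩ | rfl
    · have h' : i' ≠ j' := fun e => h (by rw [e])
      rw [bwd_cij_cc R m i' j' h h', phi_al]
      rfl
    · rw [bwd_cij_cl, phi_xv]
      rfl
    · rw [bwd_cij_lc, map_sub, map_add, map_add, phi_xv, phi_xv, phi_al, phi_al]
      simp only [fwd, UGen.castSucc]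
      have hl := ulin R (m + 1) j'.castSucc (Fin.last m) (Ne.symm h)
      linear_combination -hl
    · exact absurd rfl h

theorem phi_psi (y : URing R (m + 1)) : phi R m (psi R m y) = y := by
  have key : (phi R m).comp (psi R m : URing R (m + 1) →+* CA R m) = RingHom.id _ := by
    apply Ideal.Quotient.ringHom_ext
    apply MvPolynomial.ringHom_ext
    · intro r
      change phi R m (psi R m (algebraMap R (URing R (m + 1)) r)) =
        algebraMap R (URing R (m + 1)) r
      rw [AlgHom.commutes]
      change phi R m (alH R m (algebraMap R (URing R m) r)) = _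
      rw [phi_alH, AlgHom.commutes]
    · intro g
      change phi R m (psi R m (ugen R (m + 1) g)) = ugen R (m + 1) g
      rw [psi_ugen, phi_bwd]
  exact DFunLike.congr_fun key y

theorem psi_uincl (r : URing R m) : psi R m (uincl R m r) = alH R m r := by
  have key : (psi R m : URing R (m + 1) →+* CA R m).comp (uincl R m : URing R m →+* _) =
      alH R m := by
    apply Ideal.Quotient.ringHom_ext
    apply MvPolynomial.ringHom_ext
    · intro r₀
      change psi R m (uincl R m (algebraMap R (URing R m) r₀)) =
        alH R m (algebraMap R (URing R m) r₀)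
      rw [AlgHom.commutes, AlgHom.commutes]
      rfl
    · intro g
      change psi R m (uincl R m (ugen R m g)) = al R m g
      rw [uincl_ugen, psi_ugen]
      cases g with
      | a => rfl
      | c => rfl
      | cb => rfl
      | ci i => exact bwd_ci_cast R m i
      | cbi i => exact bwd_cbi_cast R m i
      | cij i j h => exact bwd_cij_cc R m i j _ h
  exact DFunLike.congr_fun key r

theorem psi_fwd (v : CVar m) : psi R m (fwd R m v) = xv R m v := by
  cases v with
  | x2 => rw [fwd, psi_ugen, bwd_ci_last]
  | x3 =>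
    rw [fwd, map_add, map_add, psi_ugen, psi_ugen, psi_ugen, bwd_a, bwd_ci_last, bwd_cbi_last]
    ring
  | xi i => rw [fwd, psi_ugen, bwd_cij_cl]

theorem psi_phi (x : CA R m) : psi R m (phi R m x) = x := by
  have key : (psi R m : URing R (m + 1) →+* CA R m).comp (phi R m) = RingHom.id _ := by
    apply Ideal.Quotient.ringHom_ext
    apply MvPolynomial.ringHom_ext
    · intro r
      change psi R m (phi R m (alH R m r)) = alH R m r
      rw [phi_alH, psi_uincl]
    · intro v
      change psi R m (phi R m (xv R m v)) = xv R m v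
      rw [phi_xv, psi_fwd]
  exact DFunLike.congr_fun key x

/-- the isomorphism -/
noncomputable def equiv : CA R m ≃+* URing R (m + 1) where
  toFun := phi R m
  invFun := psi R m
  left_inv := psi_phi R m
  right_inv := phi_psi R m
  map_mul' := map_mul (phi R m)
  map_add' := map_add (phi R m)

theorem equiv_apply (x : CA R m) : equiv R m x = phi R m x := rfl

theorem main : ∃ e : CurveAlg (URing R m) m (ugen R m) ≃+* URing R (m + 1),
    (∀ r : URing R m, e (algebraMap (URing R m) (CurveAlg (URing R m) m (ugen R m)) r) =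
      uincl R m r) ∧
    e (Ideal.Quotient.mk (Ideal.span (CRel (URing R m) m (ugen R m))) (MvPolynomial.X CVar.x2)) =
      ugen R (m + 1) (UGen.ci (Fin.last m)) ∧
    e (Ideal.Quotient.mk (Ideal.span (CRel (URing R m) m (ugen R m))) (MvPolynomial.X CVar.x3)) =
      ugen R (m + 1) UGen.a + ugen R (m + 1) (UGen.ci (Fin.last m)) +
        ugen R (m + 1) (UGen.cbi (Fin.last m)) ∧
    ∀ i : Fin m, e (Ideal.Quotient.mk (Ideal.span (CRel (URing R m) m (ugen R m)))
        (MvPolynomial.X (CVar.xi i))) =
      ugen R (m + 1) (UGen.cij i.castSucc (Fin.last m) (Fin.castSucc_lt_last i).ne) := by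
  refine ⟨equiv R m, ?_, ?_, ?_, ?_⟩
  · intro r
    rw [equiv_apply, alH_eq, phi_alH]
  · exact phi_xv R m .x2
  · exact phi_xv R m .x3
  · intro i
    exact phi_xv R m (.xi i)

end Groth.Agent.Helper3.UCurve
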