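import Mathlib
import Groth.Agent.Lib.Helper3.UCurve1

/-!
# The origin of `U_n` I: generation by the weight-one classes (helper3)
-/

set_option autoImplicit false
universe u

namespace Groth.Agent.Helper3.UOrig

open W4c5m1nsnscurves MvPolynomial Groth.Agent.Helper3.UCurve

theorem induction_URing {R : Type u} [CommRing R] (n : ℕ) (P : URing R n → Prop)
    (hC : ∀ r : R, P (algebraMap R (URing R n) r)) (hadd : ∀ x y, P x → P y → P (x + y))
    (hmul : ∀ x g, P x → P (x * ugen R n g)) : ∀ x, P x := by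
  intro x
  obtain ⟨p, rfl⟩ := Ideal.Quotient.mk_surjective x
  induction p using MvPolynomial.induction_on with
  | C r => exact hC r
  | add p q hp hq => rw [map_add]; exact hadd _ _ hp hq
  | mul_X p g hp => rw [map_mul]; exact hmul _ g hp

theorem adjoin_eq_top (m : ℕ) (hm : 2 ≤ m) :
    Algebra.adjoin ℤ ({ugen ℤ m .a} ∪ Set.range (fun i : Fin m => ugen ℤ m (.ci i)) ∪
        Set.range (fun i : Fin m => ugen ℤ m (.cbi i)) ∪
        Set.range (fun q : {q : Fin m × Fin m // q.1 < q.2} =>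
          ugen ℤ m (.cij q.1.1 q.1.2 (ne_of_lt q.2)))) = ⊤ := by
  set A := Algebra.adjoin ℤ ({ugen ℤ m .a} ∪ Set.range (fun i : Fin m => ugen ℤ m (.ci i)) ∪
        Set.range (fun i : Fin m => ugen ℤ m (.cbi i)) ∪
        Set.range (fun q : {q : Fin m × Fin m // q.1 < q.2} =>
          ugen ℤ m (.cij q.1.1 q.1.2 (ne_of_lt q.2)))) with hA
  have ha : ugen ℤ m .a ∈ A :=
    Algebra.subset_adjoin (Or.inl (Or.inl (Or.inl rfl)))
  have hci : ∀ i, ugen ℤ m (.ci i) ∈ A := fun i =>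
    Algebra.subset_adjoin (Or.inl (Or.inl (Or.inr ⟨i, rfl⟩)))
  have hcbi : ∀ i, ugen ℤ m (.cbi i) ∈ A := fun i =>
    Algebra.subset_adjoin (Or.inl (Or.inr ⟨i, rfl⟩))
  have hlt : ∀ (i j : Fin m) (h : i < j), ugen ℤ m (.cij i j (ne_of_lt h)) ∈ A := fun i j h =>
    Algebra.subset_adjoin (Or.inr ⟨⟨(i, j), h⟩, rfl⟩)
  have hcij : ∀ (i j : Fin m) (h : i ≠ j), ugen ℤ m (.cij i j h) ∈ A := by
    intro i j h
    rcases lt_or_gt_of_ne h with hij | hij
    · exact hlt i j hij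
    · have hl := ulin ℤ m i j h
      have e : ugen ℤ m (.cij i j h) = ugen ℤ m .a + ugen ℤ m (.ci i) + ugen ℤ m (.cbi i) +
          ugen ℤ m (.ci j) + ugen ℤ m (.cbi j) - ugen ℤ m (.cij j i (Ne.symm h)) := by
        linear_combination hl
      rw [e]
      exact A.sub_mem (A.add_mem (A.add_mem (A.add_mem (A.add_mem ha (hci i)) (hcbi i)) (hci j))
        (hcbi j)) (hlt j i hij)
  have h01 : (⟨0, by omega⟩ : Fin m) ≠ ⟨1, by omega⟩ := by
    intro e
    have := congrArg Fin.val e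
    simp at this
  have hc : ugen ℤ m .c ∈ A := by
    have h1 := uq1 ℤ m ⟨0, by omega⟩ ⟨1, by omega⟩ h01
    have e : ugen ℤ m .c = ugen ℤ m (.cij ⟨1, by omega⟩ ⟨0, by omega⟩ (Ne.symm h01)) *
        ugen ℤ m (.ci ⟨1, by omega⟩) +
        ugen ℤ m (.cij ⟨0, by omega⟩ ⟨1, by omega⟩ h01) * ugen ℤ m (.ci ⟨0, by omega⟩) -
        ugen ℤ m (.ci ⟨0, by omega⟩) * ugen ℤ m (.ci ⟨1, by omega⟩) := by
      linear_combination -h1
    rw [e]
    exact A.sub_mem (A.add_mem (A.mul_mem (hcij _ _ _) (hci _)) (A.mul_mem (hcij _ _ _) (hci _)))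
      (A.mul_mem (hci _) (hci _))
  have hcb : ugen ℤ m .cb ∈ A := by
    have h1 := uq2 ℤ m ⟨0, by omega⟩ ⟨1, by omega⟩ h01
    have e : ugen ℤ m .cb = ugen ℤ m (.cij ⟨1, by omega⟩ ⟨0, by omega⟩ (Ne.symm h01)) *
        ugen ℤ m (.cbi ⟨0, by omega⟩) +
        ugen ℤ m (.cij ⟨0, by omega⟩ ⟨1, by omega⟩ h01) * ugen ℤ m (.cbi ⟨1, by omega⟩) -
        ugen ℤ m (.cbi ⟨0, by omega⟩) * ugen ℤ m (.cbi ⟨1, by omega⟩) := by
      linear_combination -h1
    rw [e]
    exact A.sub_mem (A.add_mem (A.mul_mem (hcij _ _ _) (hcbi _))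
      (A.mul_mem (hcij _ _ _) (hcbi _))) (A.mul_mem (hcbi _) (hcbi _))
  have hgen : ∀ g, ugen ℤ m g ∈ A := by
    intro g
    cases g with
    | a => exact ha
    | c => exact hc
    | cb => exact hcb
    | ci i => exact hci i
    | cbi i => exact hcbi i
    | cij i j h => exact hcij i j h
  have key : ∀ x : URing ℤ m, x ∈ A := by
    apply induction_URing
    · intro r
      exact A.algebraMap_mem r
    · intro x y hx hy
      exact A.add_mem hx hy
    · intro x g hx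
      exact A.mul_mem hx (hgen g)
  rw [eq_top_iff]
  intro x _
  exact key x

end Groth.Agent.Helper3.UOrig
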