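import Mathlib
import Groth.Agent.Lib.Helper3.UOrig1

/-!
# The origin of `U_n` II: the cotangent space (helper3)
-/

set_option autoImplicit false
universe u

namespace Groth.Agent.Helper3.UOrig

open W4c5m1nsnscurves MvPolynomial Groth.Agent.Helper3.UCurve TrivSqZeroExt

/-- index type of the basis of the cotangent space -/
abbrev Idx (m : ℕ) : Type := Unit ⊕ (Fin m ⊕ (Fin m ⊕ (Σ j : Fin m, Fin j)))

theorem card_Idx (m : ℕ) : Fintype.card (Idx m) = (m + 2) * (m + 1) / 2 := by
  have h1 : Fintype.card (Idx m) = 1 + (m + (m + ∑ j : Fin m, (j : ℕ))) := by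
    simp [Idx, Fintype.card_sum, Fintype.card_sigma]
  rw [h1, Fin.sum_univ_eq_sum_range (fun i => i) m]
  have ht := Finset.sum_range_id_mul_two m
  set t := ∑ i ∈ Finset.range m, i with htdef
  rcases m with _ | m'
  · simp at ht
    omega
  · simp only [Nat.add_sub_cancel] at ht
    have e : (m' + 1 + 2) * (m' + 1 + 1) = 2 * (1 + (m' + 1 + (m' + 1 + t))) := by
      nlinarith [ht]
    rw [e]
    omega

section abstract

variable {k U : Type u} [Field k] [CommRing U] [Algebra k U]

theorem smul_toCotangent (I : Ideal U) (r : k) (z : I) :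
    r • I.toCotangent z = I.toCotangent (r • z) := by
  rw [← algebraMap_smul U r (I.toCotangent z), ← map_smul, algebraMap_smul]

theorem mem_of_gens {γ : Type*} (u : γ → U)
    (S : Submodule k (Ideal.span (Set.range u)).Cotangent)
    (hdecomp : ∀ a : U, ∃ r : k, a - algebraMap k U r ∈ Ideal.span (Set.range u))
    (hgen : ∀ g, (Ideal.span (Set.range u)).toCotangent ⟨u g, Ideal.subset_span ⟨g, rfl⟩⟩ ∈ S) :
    ∀ y, y ∈ S := by
  have hstab : ∀ (a : U) (y : (Ideal.span (Set.range u)).Cotangent), y ∈ S → a • y ∈ S := by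
    intro a y hy
    obtain ⟨r, hr⟩ := hdecomp a
    have ea : a = algebraMap k _ r + (a - algebraMap k _ r) := by ring
    rw [ea, add_smul, Ideal.Cotangent.smul_eq_zero_of_mem hr, add_zero, algebraMap_smul]
    exact S.smul_mem r hy
  have key : ∀ (x : U) (hx : x ∈ Ideal.span (Set.range u)),
      (Ideal.span (Set.range u)).toCotangent ⟨x, hx⟩ ∈ S := by
    intro x hx
    induction hx using Submodule.span_induction with
    | mem x h =>
      obtain ⟨g, rfl⟩ := h
      exact hgen g
    | zero =>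
      have : (⟨0, (Ideal.span (Set.range u)).zero_mem⟩ : Ideal.span (Set.range u)) = 0 := rfl
      exact this ▸ (by rw [map_zero]; exact S.zero_mem)
    | add x y hx hy hx' hy' =>
      have h2 := S.add_mem hx' hy'
      rw [← map_add] at h2
      exact h2
    | smul a x hx hx' =>
      have h2 := hstab a _ hx'
      rw [← map_smul] at h2
      exact h2
  intro y
  obtain ⟨z, rfl⟩ := Ideal.toCotangent_surjective _ y
  exact key z.1 z.2

end abstract

variable (k : Type u) [Field k] (m : ℕ)

/-- pair index -/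
def pidx (i j : Fin m) (h : i < j) : Idx m := Sum.inr (Sum.inr (Sum.inr ⟨j, ⟨i.val, h⟩⟩))

/-- unit vector -/
noncomputable def ev (s : Idx m) : Idx m → k := Pi.single s 1

/-- the linear part of the generators -/
noncomputable def lam : UGen m → (Idx m → k)
  | .a => ev k m (Sum.inl ())
  | .c => 0
  | .cb => 0
  | .ci i => ev k m (Sum.inr (Sum.inl i))
  | .cbi i => ev k m (Sum.inr (Sum.inr (Sum.inl i)))
  | .cij i j h =>
    if h' : i < j then ev k m (pidx m i j h') else
      ev k m (Sum.inl ()) + ev k m (Sum.inr (Sum.inl i)) + ev k m (Sum.inr (Sum.inr (Sum.inl i))) +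
        ev k m (Sum.inr (Sum.inl j)) + ev k m (Sum.inr (Sum.inr (Sum.inl j))) -
        ev k m (pidx m j i (lt_of_le_of_ne (not_lt.mp h') (Ne.symm h)))

theorem lam_lin (i j : Fin m) (h : i ≠ j) :
    lam k m (.cij i j h) + lam k m (.cij j i (Ne.symm h)) =
      lam k m .a + lam k m (.ci i) + lam k m (.cbi i) + lam k m (.ci j) + lam k m (.cbi j) := by
  rcases lt_or_gt_of_ne h with hij | hij
  · have h2 : ¬ j < i := not_lt.mpr hij.le
    simp only [lam, dif_pos hij, dif_neg h2]
    abel
  · have h2 : ¬ i < j := not_lt.mpr hij.le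
    simp only [lam, dif_pos hij, dif_neg h2]
    abel

/-- the generators of the basis -/
def gen : Idx m → UGen m
  | Sum.inl _ => .a
  | Sum.inr (Sum.inl i) => .ci i
  | Sum.inr (Sum.inr (Sum.inl i)) => .cbi i
  | Sum.inr (Sum.inr (Sum.inr ⟨j, i⟩)) =>
    .cij ⟨i.val, i.2.trans j.2⟩ j (ne_of_lt (show (⟨i.val, i.2.trans j.2⟩ : Fin m) < j from i.2))

theorem lam_gen (s : Idx m) : lam k m (gen m s) = ev k m s := by
  rcases s with u | i | i | ⟨j, i⟩
  · rfl
  · rfl
  · rfl
  · have h' : (⟨i.val, i.2.trans j.2⟩ : Fin m) < j := i.2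
    simp only [gen, lam, dif_pos h']
    rfl

abbrev T : Type u := TrivSqZeroExt k (Idx m → k)

/-- the map to the dual numbers on polynomials -/
noncomputable def theta0 : MvPolynomial (UGen m) k →ₐ[k] T k m :=
  aeval (fun g => (inr (lam k m g) : T k m))

theorem theta0_X (g : UGen m) : theta0 k m (X g) = inr (lam k m g) := by
  simp [theta0]

theorem inr_mul_inr' (u v : Idx m → k) : (inr u : T k m) * inr v = 0 :=
  TrivSqZeroExt.inr_mul_inr k u v

theorem theta0_URel (p : MvPolynomial (UGen m) k) (hp : p ∈ Ideal.span (URel k m)) :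
    theta0 k m p = 0 := by
  have hle : Ideal.span (URel k m) ≤ RingHom.ker (theta0 k m).toRingHom := by
    rw [Ideal.span_le]
    intro q hq
    show (theta0 k m) q = 0
    rcases hq with ((hq | hq) | hq) | hq
    · obtain ⟨⟨⟨i, j⟩, h⟩, rfl⟩ := hq
      simp only [map_sub, map_add, theta0_X]
      rw [← inr_add, lam_lin k m i j h]
      simp only [inr_add]
      abel
    · obtain ⟨⟨⟨i, j⟩, h⟩, rfl⟩ := hq
      simp only [map_sub, map_add, map_mul, theta0_X, inr_mul_inr']
      simp [lam]
    · obtain ⟨⟨⟨i, j⟩, h⟩, rfl⟩ := hq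
      simp only [map_sub, map_add, map_mul, theta0_X, inr_mul_inr']
      simp [lam]
    · obtain ⟨⟨i, j, l⟩, h⟩ := hq.choose, hq.choose_spec
      obtain ⟨q', rfl⟩ := hq
      simp only [map_sub, map_add, map_mul, theta0_X, inr_mul_inr', add_mul]
      simp [lam]
  exact hle hp

/-- the map to the dual numbers -/
noncomputable def theta : URing k m →ₐ[k] T k m :=
  Ideal.Quotient.liftₐ (Ideal.span (URel k m)) (theta0 k m) (theta0_URel k m)

theorem theta_ugen (g : UGen m) : theta k m (ugen k m g) = inr (lam k m g) := by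
  unfold theta ugen
  rw [Ideal.Quotient.liftₐ_apply, Ideal.Quotient.lift_mk]
  exact theta0_X k m g

theorem fst_theta (x : URing k m) (hx : x ∈ uorigin k m) : (theta k m x).fst = 0 := by
  have hle : uorigin k m ≤ RingHom.ker ((fstHom k k (Idx m → k)).comp (theta k m)).toRingHom := by
    unfold uorigin
    rw [Ideal.span_le]
    rintro _ ⟨g, rfl⟩
    show (theta k m (ugen k m g)).fst = 0
    rw [theta_ugen]
    rfl
  exact hle hx

theorem theta_sq (x : URing k m) (hx : x ∈ uorigin k m ^ 2) : theta k m x = 0 := by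
  have hle : uorigin k m ^ 2 ≤ RingHom.ker (theta k m).toRingHom := by
    rw [pow_two, Ideal.mul_le]
    intro r hr s hs
    show theta k m (r * s) = 0
    rw [map_mul]
    have h1 := fst_theta k m r hr
    have h2 := fst_theta k m s hs
    ext
    · simp [h1]
    · simp [h1, h2]
  exact hle hx

/-- the family -/
noncomputable def bfam (s : Idx m) : (uorigin k m).Cotangent :=
  (uorigin k m).toCotangent ⟨ugen k m (gen m s), Ideal.subset_span ⟨_, rfl⟩⟩

theorem bfam_li : LinearIndependent k (bfam k m) := by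
  rw [Fintype.linearIndependent_iff]
  intro g hg
  have e1 : ∑ s, g s • bfam k m s = (uorigin k m).toCotangent
      (∑ s, g s • (⟨ugen k m (gen m s), Ideal.subset_span ⟨_, rfl⟩⟩ : uorigin k m)) := by
    rw [map_sum]
    refine Finset.sum_congr rfl fun s _ => ?_
    exact smul_toCotangent _ _ _
  rw [e1, Ideal.toCotangent_eq_zero] at hg
  have h0 := theta_sq k m _ hg
  have e2 : ((∑ s, g s • (⟨ugen k m (gen m s), Ideal.subset_span ⟨_, rfl⟩⟩ : uorigin k m) :
      uorigin k m) : URing k m) = ∑ s, g s • ugen k m (gen m s) := by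
    rw [Submodule.coe_sum]
    rfl
  rw [e2, map_sum] at h0
  have e3 : ∑ s, theta k m (g s • ugen k m (gen m s)) = (inr g : T k m) := by
    have : ∀ s, theta k m (g s • ugen k m (gen m s)) = (inr (g s • ev k m s) : T k m) := by
      intro s
      rw [map_smul, theta_ugen, lam_gen, inr_smul]
    simp only [this]
    rw [← inr_sum]
    congr 1
    ext s'
    simp [ev, Finset.sum_apply, Pi.single_apply]
  rw [e3] at h0
  have : g = 0 := inr_injective (h0.trans (inr_zero (R := k) (M := Idx m → k)).symm)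
  intro i
  rw [this]
  rfl

theorem exists_decomp (x : URing k m) : ∃ r : k, x - algebraMap k _ r ∈ uorigin k m := by
  revert x
  apply induction_URing
  · intro r
    exact ⟨r, by simp⟩
  · rintro x y ⟨r, hr⟩ ⟨s, hs⟩
    refine ⟨r + s, ?_⟩
    have : x + y - algebraMap k _ (r + s) = (x - algebraMap k _ r) + (y - algebraMap k _ s) := by
      rw [map_add]; ring
    rw [this]
    exact (uorigin k m).add_mem hr hs
  · rintro x g ⟨r, hr⟩
    refine ⟨0, ?_⟩
    rw [map_zero, sub_zero]
    exact (uorigin k m).mul_mem_left _ (Ideal.subset_span ⟨g, rfl⟩)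

theorem ugen_mem (g : UGen m) : ugen k m g ∈ uorigin k m := Ideal.subset_span ⟨g, rfl⟩

theorem bfam_span (hm : 2 ≤ m) : ⊤ ≤ Submodule.span k (Set.range (bfam k m)) := by
  set S := Submodule.span k (Set.range (bfam k m)) with hS
  have hb : ∀ s, (uorigin k m).toCotangent ⟨ugen k m (gen m s), ugen_mem k m _⟩ ∈ S :=
    fun s => Submodule.subset_span ⟨s, rfl⟩
  have ha : (uorigin k m).toCotangent ⟨ugen k m .a, ugen_mem k m _⟩ ∈ S := hb (Sum.inl ())
  have hci : ∀ i, (uorigin k m).toCotangent ⟨ugen k m (.ci i), ugen_mem k m _⟩ ∈ S :=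
    fun i => hb (Sum.inr (Sum.inl i))
  have hcbi : ∀ i, (uorigin k m).toCotangent ⟨ugen k m (.cbi i), ugen_mem k m _⟩ ∈ S :=
    fun i => hb (Sum.inr (Sum.inr (Sum.inl i)))
  have hlt : ∀ (i j : Fin m) (h : i < j),
      (uorigin k m).toCotangent ⟨ugen k m (.cij i j (ne_of_lt h)), ugen_mem k m _⟩ ∈ S :=
    fun i j h => hb (pidx m i j h)
  have hcij : ∀ (i j : Fin m) (h : i ≠ j),
      (uorigin k m).toCotangent ⟨ugen k m (.cij i j h), ugen_mem k m _⟩ ∈ S := by
    intro i j h
    rcases lt_or_gt_of_ne h with hij | hij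
    · exact hlt i j hij
    · have hl := ulin k m i j h
      have e : (⟨ugen k m (.cij i j h), ugen_mem k m _⟩ : uorigin k m) =
          ⟨ugen k m .a, ugen_mem k m _⟩ + ⟨ugen k m (.ci i), ugen_mem k m _⟩ +
          ⟨ugen k m (.cbi i), ugen_mem k m _⟩ + ⟨ugen k m (.ci j), ugen_mem k m _⟩ +
          ⟨ugen k m (.cbi j), ugen_mem k m _⟩ -
          ⟨ugen k m (.cij j i (Ne.symm h)), ugen_mem k m _⟩ := by
        apply Subtype.ext
        show ugen k m (.cij i j h) = ugen k m .a + ugen k m (.ci i) + ugen k m (.cbi i) +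
          ugen k m (.ci j) + ugen k m (.cbi j) - ugen k m (.cij j i (Ne.symm h))
        linear_combination hl
      rw [e, map_sub, map_add, map_add, map_add, map_add]
      exact S.sub_mem (S.add_mem (S.add_mem (S.add_mem (S.add_mem ha (hci i)) (hcbi i)) (hci j))
        (hcbi j)) (hlt j i hij)
  have h01 : (⟨0, by omega⟩ : Fin m) ≠ ⟨1, by omega⟩ := by
    intro e
    have := congrArg Fin.val e
    simp at this
  have hc : (uorigin k m).toCotangent ⟨ugen k m .c, ugen_mem k m _⟩ ∈ S := by
    have h1 := uq1 k m ⟨0, by omega⟩ ⟨1, by omega⟩ h01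
    have e : ugen k m .c = ugen k m (.cij ⟨1, by omega⟩ ⟨0, by omega⟩ (Ne.symm h01)) *
        ugen k m (.ci ⟨1, by omega⟩) +
        ugen k m (.cij ⟨0, by omega⟩ ⟨1, by omega⟩ h01) * ugen k m (.ci ⟨0, by omega⟩) -
        ugen k m (.ci ⟨0, by omega⟩) * ugen k m (.ci ⟨1, by omega⟩) := by
      linear_combination -h1
    have : (uorigin k m).toCotangent ⟨ugen k m .c, ugen_mem k m _⟩ = 0 := by
      rw [Ideal.toCotangent_eq_zero]
      show ugen k m .c ∈ uorigin k m ^ 2
      rw [e, pow_two]
      exact Ideal.sub_mem _ (Ideal.add_mem _ (Ideal.mul_mem_mul (ugen_mem k m _) (ugen_mem k m _))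
        (Ideal.mul_mem_mul (ugen_mem k m _) (ugen_mem k m _)))
        (Ideal.mul_mem_mul (ugen_mem k m _) (ugen_mem k m _))
    rw [this]
    exact S.zero_mem
  have hcb : (uorigin k m).toCotangent ⟨ugen k m .cb, ugen_mem k m _⟩ ∈ S := by
    have h1 := uq2 k m ⟨0, by omega⟩ ⟨1, by omega⟩ h01
    have e : ugen k m .cb = ugen k m (.cij ⟨1, by omega⟩ ⟨0, by omega⟩ (Ne.symm h01)) *
        ugen k m (.cbi ⟨0, by omega⟩) +
        ugen k m (.cij ⟨0, by omega⟩ ⟨1, by omega⟩ h01) * ugen k m (.cbi ⟨1, by omega⟩) -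
        ugen k m (.cbi ⟨0, by omega⟩) * ugen k m (.cbi ⟨1, by omega⟩) := by
      linear_combination -h1
    have : (uorigin k m).toCotangent ⟨ugen k m .cb, ugen_mem k m _⟩ = 0 := by
      rw [Ideal.toCotangent_eq_zero]
      show ugen k m .cb ∈ uorigin k m ^ 2
      rw [e, pow_two]
      exact Ideal.sub_mem _ (Ideal.add_mem _ (Ideal.mul_mem_mul (ugen_mem k m _) (ugen_mem k m _))
        (Ideal.mul_mem_mul (ugen_mem k m _) (ugen_mem k m _)))
        (Ideal.mul_mem_mul (ugen_mem k m _) (ugen_mem k m _))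
    rw [this]
    exact S.zero_mem
  have hgen : ∀ g, (uorigin k m).toCotangent ⟨ugen k m g, ugen_mem k m _⟩ ∈ S := by
    intro g
    cases g with
    | a => exact ha
    | c => exact hc
    | cb => exact hcb
    | ci i => exact hci i
    | cbi i => exact hcbi i
    | cij i j h => exact hcij i j h
  intro y _
  exact mem_of_gens (k := k) (ugen k m) S (exists_decomp k m) hgen y

theorem finrank_cotangent (hm : 2 ≤ m) :
    Module.finrank k (uorigin k m).Cotangent = (m + 2) * (m + 1) / 2 := by
  rw [Module.finrank_eq_card_basis (Module.Basis.mk (bfam_li k m) (bfam_span k m hm)), card_Idx]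

end Groth.Agent.Helper3.UOrig
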