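import Mathlib

universe u

open TensorProduct

namespace Groth.Agent.Helper3.UnivIdem

variable {A B : Type u} [CommRing A] [CommRing B] [Algebra A B]
variable {n m : ℕ} (b : Fin n → B) (r : Fin m → (Fin n → A))

/-- every element of `(Fin m → A) ⊗ A'` is a sum of `single k 1 ⊗ y k`. -/
lemma exists_repr (A' : Type u) [CommRing A'] [Algebra A A'] (w : (Fin m → A) ⊗[A] A') :
    ∃ y : Fin m → A', w = ∑ k, (Pi.single k (1 : A) : Fin m → A) ⊗ₜ[A] y k := by
  induction w using TensorProduct.induction_on with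
  | zero => exact ⟨0, by simp⟩
  | add w₁ w₂ h₁ h₂ =>
    obtain ⟨y₁, rfl⟩ := h₁
    obtain ⟨y₂, rfl⟩ := h₂
    refine ⟨y₁ + y₂, ?_⟩
    simp only [Pi.add_apply, tmul_add, Finset.sum_add_distrib]
  | tmul c a' =>
    refine ⟨fun k => c k • a', ?_⟩
    have hc : c = ∑ k, c k • (Pi.single k (1 : A) : Fin m → A) := by
      ext l
      simp [Finset.sum_apply, Pi.single_apply]
    conv_lhs => rw [hc]
    rw [sum_tmul]
    refine Finset.sum_congr rfl fun k _ => ?_
    rw [smul_tmul]

/-- projection `(Fin n → A) ⊗ A' → A'`. -/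
noncomputable def proj (A' : Type u) [CommRing A'] [Algebra A A'] (l : Fin n) :
    (Fin n → A) ⊗[A] A' →ₗ[A] A' :=
  TensorProduct.lift ((LinearMap.lsmul A A').comp (LinearMap.proj l))

@[simp] lemma proj_tmul (A' : Type u) [CommRing A'] [Algebra A A'] (l : Fin n) (v : Fin n → A)
    (a' : A') : proj A' l (v ⊗ₜ[A] a') = v l • a' := by
  simp [proj]

include b r in
lemma key (hsurj : Function.Surjective (Fintype.linearCombination A b))
    (hker : LinearMap.ker (Fintype.linearCombination A b) = Submodule.span A (Set.range r))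
    (A' : Type u) [CommRing A'] [Algebra A A'] (z : Fin n → A')
    (h : ∑ l, b l ⊗ₜ[A] z l = 0) : ∃ y : Fin m → A', ∀ l, z l = ∑ k, r k l • y k := by
  classical
  set p := Fintype.linearCombination A b with hp
  set ρ := Fintype.linearCombination A r with hρ
  have hex : Function.Exact ρ p := by
    rw [LinearMap.exact_iff, hker, hρ, Fintype.range_linearCombination]
  have hex' := rTensor_exact A' hex hsurj
  have h1 : p.rTensor A' (∑ l, (Pi.single l (1 : A) : Fin n → A) ⊗ₜ[A] z l) = 0 := by
    rw [map_sum, ← h]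
    refine Finset.sum_congr rfl fun l _ => ?_
    rw [LinearMap.rTensor_tmul, hp, Fintype.linearCombination_apply_single, one_smul]
  obtain ⟨w, hw⟩ := (hex' _).mp h1
  obtain ⟨y, rfl⟩ := exists_repr A' w
  refine ⟨y, fun l => ?_⟩
  have h2 := congrArg (proj A' l) hw
  rw [map_sum, map_sum, map_sum] at h2
  simp only [LinearMap.rTensor_tmul, proj_tmul, hρ, Fintype.linearCombination_apply_single,
    one_smul] at h2
  rw [h2]
  simp [Pi.single_apply]

include b in
lemma exists_coords (hsurj : Function.Surjective (Fintype.linearCombination A b))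
    (A' : Type u) [CommRing A'] [Algebra A A'] (e : B ⊗[A] A') :
    ∃ x : Fin n → A', e = ∑ i, b i ⊗ₜ[A] x i := by
  induction e using TensorProduct.induction_on with
  | zero => exact ⟨0, by simp⟩
  | add w₁ w₂ h₁ h₂ =>
    obtain ⟨y₁, rfl⟩ := h₁
    obtain ⟨y₂, rfl⟩ := h₂
    refine ⟨y₁ + y₂, ?_⟩
    simp only [Pi.add_apply, tmul_add, Finset.sum_add_distrib]
  | tmul β a' =>
    obtain ⟨v, rfl⟩ := hsurj β
    refine ⟨fun i => v i • a', ?_⟩
    rw [Fintype.linearCombination_apply, sum_tmul]
    refine Finset.sum_congr rfl fun k _ => ?_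
    rw [smul_tmul]

lemma sq_eq (a : Fin n → Fin n → Fin n → A)
    (ha : ∀ i j, Fintype.linearCombination A b (a i j) = b i * b j)
    (A' : Type u) [CommRing A'] [Algebra A A'] (x : Fin n → A') :
    (∑ i, b i ⊗ₜ[A] x i) * (∑ i, b i ⊗ₜ[A] x i) =
      ∑ l, b l ⊗ₜ[A] (∑ i, ∑ j, a i j l • (x i * x j)) := by
  rw [Finset.sum_mul_sum]
  simp only [Algebra.TensorProduct.tmul_mul_tmul, ← ha, Fintype.linearCombination_apply, sum_tmul,
    smul_tmul, tmul_sum]
  calc ∑ i, ∑ j, ∑ l, b l ⊗ₜ[A] (a i j l • (x i * x j))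
      = ∑ i, ∑ l, ∑ j, b l ⊗ₜ[A] (a i j l • (x i * x j)) :=
        Finset.sum_congr rfl fun i _ => Finset.sum_comm
    _ = ∑ l, ∑ i, ∑ j, b l ⊗ₜ[A] (a i j l • (x i * x j)) := Finset.sum_comm

include r in
lemma idem_of (hker : LinearMap.ker (Fintype.linearCombination A b) = Submodule.span A (Set.range r))
    (a : Fin n → Fin n → Fin n → A)
    (ha : ∀ i j, Fintype.linearCombination A b (a i j) = b i * b j)
    (A' : Type u) [CommRing A'] [Algebra A A'] (x : Fin n → A') (y : Fin m → A')
    (h : ∀ l, ∑ i, ∑ j, a i j l • (x i * x j) - x l = ∑ k, r k l • y k) :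
    IsIdempotentElem (∑ i, b i ⊗ₜ[A] x i : B ⊗[A] A') := by
  have hr : ∀ k, Fintype.linearCombination A b (r k) = 0 := by
    intro k
    have : r k ∈ LinearMap.ker (Fintype.linearCombination A b) := by
      rw [hker]; exact Submodule.subset_span ⟨k, rfl⟩
    exact this
  rw [IsIdempotentElem, sq_eq b a ha A' x]
  have h' : ∀ l, ∑ i, ∑ j, a i j l • (x i * x j) = x l + ∑ k, r k l • y k := by
    intro l; rw [← h l]; ring
  simp only [h', tmul_add, Finset.sum_add_distrib]
  rw [add_eq_left]
  simp only [tmul_sum, ← smul_tmul]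
  rw [Finset.sum_comm]
  refine Finset.sum_eq_zero fun k _ => ?_
  rw [← sum_tmul]
  have := hr k
  rw [Fintype.linearCombination_apply] at this
  rw [this, zero_tmul]

include b r in
lemma exists_y_of_idem (hsurj : Function.Surjective (Fintype.linearCombination A b))
    (hker : LinearMap.ker (Fintype.linearCombination A b) = Submodule.span A (Set.range r))
    (a : Fin n → Fin n → Fin n → A)
    (ha : ∀ i j, Fintype.linearCombination A b (a i j) = b i * b j)
    (A' : Type u) [CommRing A'] [Algebra A A'] (x : Fin n → A')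
    (hx : IsIdempotentElem (∑ i, b i ⊗ₜ[A] x i : B ⊗[A] A')) :
    ∃ y : Fin m → A', ∀ l, ∑ i, ∑ j, a i j l • (x i * x j) - x l = ∑ k, r k l • y k := by
  apply key b r hsurj hker A'
  simp only [tmul_sub, Finset.sum_sub_distrib]
  rw [← sq_eq b a ha A' x, hx, sub_self]

/-- The relations. -/
noncomputable def rel (a : Fin n → Fin n → Fin n → A) (l : Fin n) :
    MvPolynomial (Fin n ⊕ Fin m) A :=
  ∑ i, ∑ j, MvPolynomial.C (a i j l) * (MvPolynomial.X (Sum.inl i) * MvPolynomial.X (Sum.inl j)) -
    MvPolynomial.X (Sum.inl l) - ∑ k, MvPolynomial.C (r k l) * MvPolynomial.X (Sum.inr k)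

lemma aeval_rel (a : Fin n → Fin n → Fin n → A) (A' : Type u) [CommRing A'] [Algebra A A']
    (x : Fin n → A') (y : Fin m → A') (l : Fin n) :
    MvPolynomial.aeval (Sum.elim x y) (rel r a l) =
      ∑ i, ∑ j, a i j l • (x i * x j) - x l - ∑ k, r k l • y k := by
  simp only [rel, map_sub, map_sum, map_mul, MvPolynomial.aeval_C, MvPolynomial.aeval_X,
    Sum.elim_inl, Sum.elim_inr, Algebra.smul_def]

theorem main [Module.Finite A B] [Algebra.FinitePresentation A B] :
    ∃ (Au : Type u) (_ : CommRing Au) (_ : Algebra A Au) (eu : B ⊗[A] Au),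
      Algebra.FinitePresentation A Au ∧ IsIdempotentElem eu ∧
      ∀ (A' : Type u) [CommRing A'] [Algebra A A'] (e : B ⊗[A] A'), IsIdempotentElem e →
        ∃ φ : Au →ₐ[A] A', Algebra.TensorProduct.map (AlgHom.id A B) φ eu = e := by
  classical
  have hfp : Module.FinitePresentation A B :=
    Module.FinitePresentation.of_finite_of_finitePresentation (R := A) (S := B)
  obtain ⟨n, b, hb⟩ := Module.Finite.exists_fin (R := A) (M := B)
  have hsurj : Function.Surjective (Fintype.linearCombination A b) := by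
    rw [← LinearMap.range_eq_top, Fintype.range_linearCombination, hb]
  have hfg : (LinearMap.ker (Fintype.linearCombination A b)).FG :=
    Module.FinitePresentation.fg_ker _ hsurj
  obtain ⟨m, r, hr⟩ := Submodule.fg_iff_exists_fin_generating_family.mp hfg
  have hker : LinearMap.ker (Fintype.linearCombination A b) = Submodule.span A (Set.range r) :=
    hr.symm
  choose a ha using fun i j => hsurj (b i * b j)
  let I : Ideal (MvPolynomial (Fin n ⊕ Fin m) A) := Ideal.span (Set.range (rel r a))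
  have hI : I.FG := Submodule.fg_span (Set.finite_range _)
  let x₀ : Fin n → MvPolynomial (Fin n ⊕ Fin m) A ⧸ I :=
    fun i => Ideal.Quotient.mk I (MvPolynomial.X (Sum.inl i))
  let y₀ : Fin m → MvPolynomial (Fin n ⊕ Fin m) A ⧸ I :=
    fun k => Ideal.Quotient.mk I (MvPolynomial.X (Sum.inr k))
  refine ⟨MvPolynomial (Fin n ⊕ Fin m) A ⧸ I, inferInstance, inferInstance,
    ∑ i, b i ⊗ₜ[A] x₀ i, Algebra.FinitePresentation.quotient hI, ?_, ?_⟩
  · apply idem_of b r hker a ha _ x₀ y₀
    intro l
    rw [← sub_eq_zero]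
    have h1 : Ideal.Quotient.mk I (rel r a l) = 0 :=
      Ideal.Quotient.eq_zero_iff_mem.mpr (Ideal.subset_span ⟨l, rfl⟩)
    rw [← h1]
    simp only [rel, map_sub, map_sum, map_mul, Algebra.smul_def, x₀, y₀]
    rfl
  · intro A' _ _ e he
    obtain ⟨x, rfl⟩ := exists_coords b hsurj A' e
    obtain ⟨y, hy⟩ := exists_y_of_idem b r hsurj hker a ha A' x he
    have hle : ∀ q ∈ I, MvPolynomial.aeval (Sum.elim x y) q = 0 := by
      intro q hq
      have : I ≤ RingHom.ker (MvPolynomial.aeval (R := A) (Sum.elim x y)).toRingHom := by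
        rw [Ideal.span_le]
        rintro _ ⟨l, rfl⟩
        show MvPolynomial.aeval (Sum.elim x y) (rel r a l) = 0
        rw [aeval_rel, hy l, sub_self]
      exact this hq
    refine ⟨Ideal.Quotient.liftₐ I (MvPolynomial.aeval (Sum.elim x y)) hle, ?_⟩
    rw [map_sum]
    refine Finset.sum_congr rfl fun i _ => ?_
    rw [Algebra.TensorProduct.map_tmul, AlgHom.id_apply]
    congr 1
    simp [x₀]

end Groth.Agent.Helper3.UnivIdem
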