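import Mathlib.LinearAlgebra.TensorProduct.Vanishing
import Mathlib.RingTheory.TensorProduct.DirectLimitFG
import Mathlib.Algebra.Module.FinitePresentation

/-!
# Universally injective maps: equational criterion

For `f : M₁ →ₗ[R] M₂`:
* `EqCrit f`: whenever `f (x i) = ∑ j, a i j • y j` there are `z j` with `x i = ∑ j, a i j • z j`.
* `lTensor_injective_of_eqCrit`: `EqCrit f → Injective (f.lTensor Q)` for all `Q`.
* `eqCrit_of_fp`: if `f.lTensor Q` is injective for all finitely presented `Q` then `EqCrit f`.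
-/

namespace Groth.Agent.Helper3

open TensorProduct

universe u

variable {R : Type u} [CommRing R] {M₁ M₂ : Type u} [AddCommGroup M₁] [Module R M₁]
  [AddCommGroup M₂] [Module R M₂]

/-- the equational criterion for universal injectivity -/
def EqCrit (f : M₁ →ₗ[R] M₂) : Prop :=
  ∀ (n m : ℕ) (x : Fin n → M₁) (y : Fin m → M₂) (a : Fin n → Fin m → R),
    (∀ i, f (x i) = ∑ j, a i j • y j) → ∃ z : Fin m → M₁, ∀ i, x i = ∑ j, a i j • z j

lemma exists_sum_tmul_of_span_eq_top {Q : Type*} [AddCommGroup Q] [Module R Q] {s : ℕ}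
    (g : Fin s → Q) (hg : Submodule.span R (Set.range g) = ⊤) (t : Q ⊗[R] M₁) :
    ∃ X : Fin s → M₁, t = ∑ i, g i ⊗ₜ[R] X i := by
  induction t with
  | zero => exact ⟨0, by simp⟩
  | tmul q x =>
    have hq : q ∈ Submodule.span R (Set.range g) := hg ▸ Submodule.mem_top
    obtain ⟨c, rfl⟩ := (Submodule.mem_span_range_iff_exists_fun R).1 hq
    exact ⟨fun i => c i • x, by simp [sum_tmul, smul_tmul]⟩
  | add t t' h h' =>
    obtain ⟨X, rfl⟩ := h
    obtain ⟨X', rfl⟩ := h'
    exact ⟨X + X', by simp [tmul_add, Finset.sum_add_distrib]⟩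

theorem lTensor_injective_of_eqCrit (f : M₁ →ₗ[R] M₂) (h : EqCrit f) (Q : Type u)
    [AddCommGroup Q] [Module R Q] : Function.Injective (f.lTensor Q) := by
  rw [injective_iff_map_eq_zero]
  intro t ht
  obtain ⟨P, hP, tP, rfl⟩ := TensorProduct.exists_of_fg t
  have h1 : (P.subtype.rTensor M₂) (f.lTensor P tP) = 0 := by
    rw [← ht, ← LinearMap.comp_apply, ← LinearMap.comp_apply, LinearMap.rTensor_comp_lTensor,
      LinearMap.lTensor_comp_rTensor]
  obtain ⟨Q', hPQ, hQ', h2⟩ := TensorProduct.eq_zero_of_fg_of_subtype_eq_zero hP h1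
  set t'' := (Submodule.inclusion hPQ).rTensor M₁ tP with ht''
  have h3 : f.lTensor Q' t'' = 0 := by
    rw [← h2, ht'', ← LinearMap.comp_apply, ← LinearMap.comp_apply, LinearMap.rTensor_comp_lTensor,
      LinearMap.lTensor_comp_rTensor]
  suffices hsuff : t'' = 0 by
    have : P.subtype.rTensor M₁ tP = Q'.subtype.rTensor M₁ t'' := by
      rw [ht'', ← LinearMap.comp_apply, ← LinearMap.rTensor_comp, Submodule.subtype_comp_inclusion]
    rw [this, hsuff, map_zero]
  have : Module.Finite R Q' := Module.Finite.iff_fg.2 hQ'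
  obtain ⟨s, g, hg⟩ := Module.Finite.exists_fin (R := R) (M := Q')
  obtain ⟨X, hX⟩ := exists_sum_tmul_of_span_eq_top g hg t''
  rw [hX] at h3 ⊢
  simp only [map_sum, LinearMap.lTensor_tmul] at h3
  obtain ⟨k, a, y, hy, ha⟩ := TensorProduct.vanishesTrivially_of_sum_tmul_eq_zero R hg h3
  obtain ⟨z, hz⟩ := h s k X y a hy
  exact TensorProduct.sum_tmul_eq_zero_of_vanishesTrivially R ⟨k, a, z, hz, ha⟩

theorem eqCrit_of_fp (f : M₁ →ₗ[R] M₂)
    (h : ∀ (Q : Type u) [AddCommGroup Q] [Module R Q], Module.FinitePresentation R Q →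
      Function.Injective (f.lTensor Q)) : EqCrit f := by
  intro n m x y a hxy
  let c : Fin m → (Fin n → R) := fun j i => a i j
  let K : Submodule R (Fin n → R) := Submodule.span R (Set.range c)
  have hQ : Module.FinitePresentation R ((Fin n → R) ⧸ K) :=
    Module.finitePresentation_of_surjective K.mkQ (Submodule.mkQ_surjective K)
      (by rw [Submodule.ker_mkQ]; exact Submodule.fg_span (Set.finite_range c))
  let e : Fin n → (Fin n → R) ⧸ K := fun i => K.mkQ (Pi.single i 1)
  have he : Submodule.span R (Set.range e) = ⊤ := by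
    have : Set.range e = K.mkQ '' (Set.range fun i => (Pi.single i 1 : Fin n → R)) := by
      rw [← Set.range_comp]; rfl
    rw [this, ← Submodule.map_span]
    have hb := (Pi.basisFun R (Fin n)).span_eq
    have hb' : (⇑(Pi.basisFun R (Fin n)) : Fin n → Fin n → R) =
        fun i => (Pi.single i 1 : Fin n → R) := by
      funext i; exact Pi.basisFun_apply R (Fin n) i
    rw [hb'] at hb
    rw [hb, Submodule.map_top, Submodule.range_mkQ]
  have hcomb : ∀ v : Fin n → R, ∑ i, v i • e i = K.mkQ v := by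
    intro v
    simp only [e, ← map_smul, ← map_sum]
    congr 1
    ext i
    simp [Finset.sum_apply, Pi.single_apply]
  have h0 : ∑ i, e i ⊗ₜ[R] f (x i) = 0 := by
    simp_rw [hxy, tmul_sum, ← smul_tmul]
    rw [Finset.sum_comm]
    simp_rw [← sum_tmul]
    have : ∀ j, ∑ i, a i j • e i = 0 := by
      intro j
      rw [hcomb (fun i => a i j), Submodule.mkQ_apply, Submodule.Quotient.mk_eq_zero]
      exact Submodule.subset_span ⟨j, rfl⟩
    simp [this]
  have h1 : ∑ i, e i ⊗ₜ[R] x i = 0 := by
    apply h _ hQ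
    simp [map_sum, h0]
  obtain ⟨k, b, w, hw, hb⟩ := TensorProduct.vanishesTrivially_of_sum_tmul_eq_zero R he h1
  have hbK : ∀ l, (fun i => b i l) ∈ K := by
    intro l
    have := hb l
    rw [hcomb (fun i => b i l), Submodule.mkQ_apply, Submodule.Quotient.mk_eq_zero] at this
    exact this
  choose d hd using fun l => (Submodule.mem_span_range_iff_exists_fun R).1 (hbK l)
  refine ⟨fun j => ∑ l, d l j • w l, fun i => ?_⟩
  rw [hw i]
  have hbd : ∀ l, b i l = ∑ j, d l j * a i j := fun l => by
    have := congrFun (hd l) i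
    simp only [c, Finset.sum_apply, Pi.smul_apply, smul_eq_mul] at this
    exact this.symm
  simp_rw [hbd, Finset.sum_smul, Finset.smul_sum, smul_smul]
  rw [Finset.sum_comm]
  refine Finset.sum_congr rfl fun j _ => Finset.sum_congr rfl fun l _ => ?_
  rw [mul_comm]

end Groth.Agent.Helper3
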