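import Mathlib
set_option autoImplicit false
universe u
open IsLocalRing

namespace Groth.Agent.Helper3.ValExt
variable {A B K L : Type u} [CommRing A] [IsDomain A] [ValuationRing A] [CommRing B] [IsDomain B]
  [ValuationRing B] [Field K] [Field L] [Algebra A K] [IsFractionRing A K] [Algebra B L]
  [IsFractionRing B L] [Algebra A B] [Algebra K L] [Algebra A L] [IsScalarTower A K L]
  [IsScalarTower A B L]

variable (B L) in
lemma integers : (ValuationRing.valuation B L).Integers B where
  hom_inj := IsFractionRing.injective B L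
  map_le_one x := ((ValuationRing.valuation B L).mem_integer_iff _).mp
    ((ValuationRing.mem_integer_iff B L _).mpr ⟨x, rfl⟩)
  exists_of_le_one {r} hr := (ValuationRing.mem_integer_iff B L r).mp
    (((ValuationRing.valuation B L).mem_integer_iff _).mpr hr)

/-- Lemma A. -/
lemma exists_of_val_le_one [IsLocalHom (algebraMap A B)] (c : K)
    (hc : ValuationRing.valuation B L (algebraMap K L c) ≤ 1) : ∃ a : A, algebraMap A K a = c := by
  rcases ValuationRing.isInteger_or_isInteger A c with h | h
  · exact h
  · obtain ⟨a, ha⟩ := h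
    by_cases hc0 : c = 0
    · exact ⟨0, by simp [hc0]⟩
    by_cases hau : IsUnit a
    · obtain ⟨u, rfl⟩ := hau
      refine ⟨((u⁻¹ : Aˣ) : A), ?_⟩
      have : algebraMap A K (u : A) * algebraMap A K ((u⁻¹ : Aˣ) : A) = 1 := by
        rw [← map_mul]; simp
      rw [ha] at this
      field_simp at this
      exact this
    · exfalso
      have h1 : ¬ IsUnit (algebraMap A B a) := fun h => hau (IsLocalHom.map_nonunit a h)
      have h2 : ValuationRing.valuation B L (algebraMap B L (algebraMap A B a)) < 1 := by
        apply lt_of_le_of_ne ((integers B L).map_le_one _)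
        intro h3
        exact h1 ((integers B L).isUnit_of_one' h3)
      rw [← IsScalarTower.algebraMap_apply, IsScalarTower.algebraMap_apply A K L, ha, map_inv₀,
        map_inv₀] at h2
      have h4 : ValuationRing.valuation B L (algebraMap K L c) ≠ 0 := by
        rw [ne_eq, Valuation.zero_iff]
        simpa using hc0
      have h5 : 1 < ValuationRing.valuation B L (algebraMap K L c) := by
        rwa [inv_lt_one₀ (zero_lt_iff.mpr h4)] at h2
      exact absurd hc (not_le.mpr h5)

/-- Lemma C. -/
lemma val_eq_iff (x y : L) :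
    ValuationRing.valuation B L x = ValuationRing.valuation B L y ↔
      ∃ u : Bˣ, algebraMap B L (u : B) * y = x := by
  show (Quotient.mk'' x : ValuationRing.ValueGroup B L) = Quotient.mk'' y ↔ _
  rw [Quotient.eq'']
  show x ∈ MulAction.orbit Bˣ y ↔ _
  rw [MulAction.mem_orbit_iff]
  constructor
  · rintro ⟨u, hu⟩; exact ⟨u, by rw [← hu, Units.smul_def, Algebra.smul_def]⟩
  · rintro ⟨u, hu⟩; exact ⟨u, by rw [← hu, Units.smul_def, Algebra.smul_def]⟩


/-- Lemma B. -/
lemma val_sum_eq [IsLocalHom (algebraMap A B)] {I : Type*} [Fintype I] (ω : I → B)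
    (hω : LinearIndependent (ResidueField A) (fun i => residue B (ω i)))
    (a : I → K) (ha : ∃ i, a i ≠ 0) :
    ∃ i₀, a i₀ ≠ 0 ∧ ValuationRing.valuation B L (∑ i, algebraMap K L (a i) * algebraMap B L (ω i)) =
      ValuationRing.valuation B L (algebraMap K L (a i₀)) := by
  classical
  set v := ValuationRing.valuation B L with hv
  obtain ⟨i₁, hi₁⟩ := ha
  obtain ⟨i₀, -, hmax⟩ := Finset.exists_max_image Finset.univ (fun i => v (algebraMap K L (a i)))
    ⟨i₁, Finset.mem_univ _⟩
  have hne : ∀ i, a i ≠ 0 → v (algebraMap K L (a i)) ≠ 0 := by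
    intro i hi
    rw [ne_eq, Valuation.zero_iff]
    simpa using hi
  have hpos : 0 < v (algebraMap K L (a i₀)) :=
    lt_of_lt_of_le (zero_lt_iff.mpr (hne i₁ hi₁)) (hmax i₁ (Finset.mem_univ _))
  have hi₀ : a i₀ ≠ 0 := by
    intro h
    rw [h, map_zero, map_zero] at hpos
    exact lt_irrefl _ hpos
  have hγ : ∀ i, ∃ γ : A, algebraMap A K γ = a i / a i₀ := by
    intro i
    apply exists_of_val_le_one (B := B) (L := L)
    rw [map_div₀, map_div₀]
    exact (div_le_one₀ hpos).mpr (hmax i (Finset.mem_univ _))
  choose γ hγ using hγ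
  have hγ₀ : γ i₀ = 1 := by
    apply IsFractionRing.injective A K
    rw [hγ, map_one, div_self hi₀]
  let β : B := ∑ i, γ i • ω i
  have hres : residue B β = ∑ i, residue A (γ i) • residue B (ω i) := by
    simp only [β, map_sum]
    apply Finset.sum_congr rfl
    intro i _
    rw [Algebra.smul_def, map_mul, Algebra.smul_def, IsLocalRing.ResidueField.algebraMap_residue]
  have hβ : IsUnit β := by
    rw [← IsLocalRing.residue_ne_zero_iff_isUnit]
    intro h0
    rw [hres] at h0
    have := Fintype.linearIndependent_iff.mp hω (fun i => residue A (γ i)) h0 i₀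
    rw [hγ₀, map_one] at this
    exact one_ne_zero this
  have hvβ : v (algebraMap B L β) = 1 := (integers B L).one_of_isUnit hβ
  refine ⟨i₀, hi₀, ?_⟩
  have hsum : ∑ i, algebraMap K L (a i) * algebraMap B L (ω i) =
      algebraMap K L (a i₀) * algebraMap B L β := by
    simp only [β, map_sum, Finset.mul_sum]
    apply Finset.sum_congr rfl
    intro i _
    have h1 : a i = a i₀ * algebraMap A K (γ i) := by rw [hγ]; field_simp
    rw [Algebra.smul_def, map_mul, ← IsScalarTower.algebraMap_apply A B L,
      IsScalarTower.algebraMap_apply A K L]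
    conv_lhs => rw [h1, map_mul]
    ring
  rw [hsum, map_mul, hvβ, mul_one]


variable (B L) in
/-- units of `B` inside `Lˣ`. -/
abbrev UB : Subgroup Lˣ := (Units.map (algebraMap B L).toMonoidHom).range

variable (B K L) in
/-- value group of `A` inside that of `B`. -/
abbrev ΓA : Subgroup (Lˣ ⧸ UB B L) :=
  ((QuotientGroup.mk' (UB B L)).comp (Units.map (algebraMap K L).toMonoidHom)).range

theorem linearIndependent_mul [IsLocalHom (algebraMap A B)] {I J : Type*} [Fintype I] [Fintype J]
    (ω : I → B) (hω : LinearIndependent (ResidueField A) (fun i => residue B (ω i)))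
    (π : J → Lˣ)
    (hπ : ∀ j j', (QuotientGroup.mk (π j) : Lˣ ⧸ UB B L) * (QuotientGroup.mk (π j'))⁻¹ ∈ ΓA B K L →
      j = j') :
    LinearIndependent K (fun ij : I × J => algebraMap B L (ω ij.1) * (π ij.2 : L)) := by
  classical
  rw [Fintype.linearIndependent_iff]
  intro g hg
  by_contra hcon
  push Not at hcon
  obtain ⟨⟨i₁, j₁⟩, hij₁⟩ := hcon
  set v := ValuationRing.valuation B L with hv
  let s : J → L := fun j => ∑ i, algebraMap K L (g (i, j)) * algebraMap B L (ω i)
  have hsum : ∑ j, s j * (π j : L) = 0 := by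
    rw [← hg, Fintype.sum_prod_type_right]
    apply Finset.sum_congr rfl
    intro j _
    simp only [s, Finset.sum_mul]
    apply Finset.sum_congr rfl
    intro i _
    rw [Algebra.smul_def]; ring
  -- Lemma B for each j
  have hB : ∀ j, (∃ i, g (i, j) ≠ 0) → ∃ i₀, g (i₀, j) ≠ 0 ∧
      v (s j) = v (algebraMap K L (g (i₀, j))) := fun j hj =>
    val_sum_eq ω hω (fun i => g (i, j)) hj
  have hs0 : ∀ j, (¬ ∃ i, g (i, j) ≠ 0) → s j = 0 := by
    intro j hj
    push Not at hj
    simp [s, hj]
  let w : J → ValuationRing.ValueGroup B L := fun j => v (s j * (π j : L))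
  have hw_ne : ∀ j, (∃ i, g (i, j) ≠ 0) → w j ≠ 0 := by
    intro j hj
    obtain ⟨i₀, hi₀, hval⟩ := hB j hj
    simp only [w, map_mul, hval]
    apply mul_ne_zero
    · rw [ne_eq, Valuation.zero_iff]; simpa using hi₀
    · rw [ne_eq, Valuation.zero_iff]; exact (π j).ne_zero
  obtain ⟨j₀, -, hmax⟩ := Finset.exists_max_image Finset.univ w ⟨j₁, Finset.mem_univ _⟩
  have hw₀ : w j₀ ≠ 0 := by
    have h1 := hw_ne j₁ ⟨i₁, hij₁⟩
    have h2 := hmax j₁ (Finset.mem_univ _)
    intro h0
    rw [h0] at h2
    exact h1 (le_antisymm h2 zero_le)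
  have hj₀ : ∃ i, g (i, j₀) ≠ 0 := by
    by_contra h
    apply hw₀
    simp [w, hs0 j₀ h]
  have hlt : ∀ j ∈ Finset.univ.erase j₀, v (s j * (π j : L)) < w j₀ := by
    intro j hj
    have hjne : j ≠ j₀ := (Finset.mem_erase.mp hj).1
    apply lt_of_le_of_ne (hmax j (Finset.mem_univ _))
    intro heq
    apply hjne
    have hj' : ∃ i, g (i, j) ≠ 0 := by
      by_contra h
      apply hw₀
      rw [← heq]
      show v (s j * (π j : L)) = 0
      rw [hs0 j h, zero_mul, map_zero]
    obtain ⟨i, hi, hval⟩ := hB j hj'
    obtain ⟨i', hi', hval'⟩ := hB j₀ hj₀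
    have heq' : v (algebraMap K L (g (i, j)) * (π j : L)) =
        v (algebraMap K L (g (i', j₀)) * (π j₀ : L)) := by
      have : w j = w j₀ := heq
      simp only [w, map_mul, hval, hval'] at this
      simpa only [map_mul] using this
    obtain ⟨u, hu⟩ := (val_eq_iff _ _).mp heq'
    apply hπ
    let gK : Kˣ := Units.mk0 (g (i, j)) hi
    let gK' : Kˣ := Units.mk0 (g (i', j₀)) hi'
    refine ⟨gK' * gK⁻¹, ?_⟩
    simp only [MonoidHom.comp_apply, QuotientGroup.mk'_apply]
    rw [← QuotientGroup.mk_inv, ← QuotientGroup.mk_mul, QuotientGroup.eq]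
    refine ⟨u, ?_⟩
    apply Units.ext
    simp only [map_mul, map_inv, Units.val_mul, Units.coe_map, MonoidHom.coe_coe,
      RingHom.toMonoidHom_eq_coe, Units.val_inv_eq_inv_val, gK, gK', Units.val_mk0, mul_inv_rev,
      inv_inv]
    have hπj : (π j : L) ≠ 0 := (π j).ne_zero
    have hπj₀ : (π j₀ : L) ≠ 0 := (π j₀).ne_zero
    have hg1 : algebraMap K L (g (i, j)) ≠ 0 := by simpa using hi
    have hg2 : algebraMap K L (g (i', j₀)) ≠ 0 := by simpa using hi'
    have hu0 : algebraMap B L (u : B) ≠ 0 := by
      have := (u.isUnit.map (algebraMap B L)).ne_zero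
      exact this
    field_simp
    linear_combination hu
  have hrest : v (∑ j ∈ Finset.univ.erase j₀, s j * (π j : L)) < w j₀ :=
    v.map_sum_lt hw₀ hlt
  have hsplit : s j₀ * (π j₀ : L) + ∑ j ∈ Finset.univ.erase j₀, s j * (π j : L) = 0 := by
    exact (Finset.add_sum_erase Finset.univ (fun j => s j * (π j : L)) (Finset.mem_univ j₀)).trans hsum
  have := v.map_add_eq_of_lt_left hrest
  rw [hsplit, map_zero] at this
  exact hw₀ this.symm

theorem main (A B K L : Type u) [CommRing A] [IsDomain A]
    [ValuationRing A] [CommRing B] [IsDomain B] [ValuationRing B] [Field K] [Field L]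
    [Algebra A K] [IsFractionRing A K] [Algebra B L] [IsFractionRing B L] [Algebra A B] [Algebra K L]
    [Algebra A L] [IsScalarTower A K L] [IsScalarTower A B L]
    [IsLocalHom (algebraMap A B)] [FiniteDimensional K L] :
    Module.Finite (ResidueField A) (ResidueField B) ∧ (ΓA B K L).index ≠ 0 ∧
      (ΓA B K L).index * Module.finrank (ResidueField A) (ResidueField B) ≤ Module.finrank K L := by
  classical
  -- representatives
  let rep : (Lˣ ⧸ UB B L) ⧸ ΓA B K L → Lˣ := fun t => (Quotient.out (Quotient.out t))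
  have hrep : ∀ t t', (QuotientGroup.mk (rep t) : Lˣ ⧸ UB B L) * (QuotientGroup.mk (rep t'))⁻¹ ∈
      ΓA B K L → t = t' := by
    intro t t' h
    have h1 : (QuotientGroup.mk (rep t) : Lˣ ⧸ UB B L) = Quotient.out t := Quotient.out_eq _
    have h2 : (QuotientGroup.mk (rep t') : Lˣ ⧸ UB B L) = Quotient.out t' := Quotient.out_eq _
    rw [h1, h2] at h
    have h3 : (QuotientGroup.mk (Quotient.out t') : (Lˣ ⧸ UB B L) ⧸ ΓA B K L) =
        QuotientGroup.mk (Quotient.out t) := by
      rw [QuotientGroup.eq]
      have e : (Quotient.out t')⁻¹ * Quotient.out t = Quotient.out t * (Quotient.out t')⁻¹ :=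
        mul_comm (G := Lˣ ⧸ UB B L) _ _
      rw [e]
      exact h
    have e1 : (QuotientGroup.mk (Quotient.out t) : (Lˣ ⧸ UB B L) ⧸ ΓA B K L) = t := Quotient.out_eq _
    have e2 : (QuotientGroup.mk (Quotient.out t') : (Lˣ ⧸ UB B L) ⧸ ΓA B K L) = t' := Quotient.out_eq _
    rw [e1, e2] at h3
    exact h3.symm
  -- (a)
  have hfin : Module.Finite (ResidueField A) (ResidueField B) := by
    have hrank : Module.rank (ResidueField A) (ResidueField B) ≤ (Module.finrank K L : ℕ) := by
      apply rank_le
      intro t ht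
      have hlift : ∀ x : t, ∃ b : B, residue B b = (x : ResidueField B) :=
        fun x => residue_surjective _
      choose ω hω using hlift
      have hω' : LinearIndependent (ResidueField A) (fun i : t => residue B (ω i)) := by
        simpa only [hω] using ht
      have := linearIndependent_mul (K := K) (L := L) (J := Unit) ω hω' (fun _ => 1) (fun _ _ _ => rfl)
      have h2 := this.fintype_card_le_finrank
      simpa using h2
    have hlt : Module.rank (ResidueField A) (ResidueField B) < Cardinal.aleph0 :=
      lt_of_le_of_lt hrank Cardinal.natCast_lt_aleph0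
    exact Module.rank_lt_aleph0_iff.mp hlt
  have hone : LinearIndependent (ResidueField A) (fun _ : Unit => residue B (1 : B)) := by
    rw [Fintype.linearIndependent_iff]
    intro g hg i
    simp only [Finset.univ_unique, Finset.sum_singleton, map_one, smul_eq_zero, one_ne_zero,
      or_false] at hg
    rw [← hg]
  -- (b)
  have hidx : (ΓA B K L).index ≠ 0 := by
    intro h0
    rw [Subgroup.index_eq_zero_iff_infinite] at h0
    obtain ⟨T, hT⟩ := Infinite.exists_subset_card_eq ((Lˣ ⧸ UB B L) ⧸ ΓA B K L)
      (Module.finrank K L + 1)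
    have := linearIndependent_mul (K := K) (L := L) (I := Unit) (J := T) (fun _ => (1 : B)) hone
      (fun t => rep t) (fun t t' h => Subtype.ext (hrep _ _ h))
    have h2 := this.fintype_card_le_finrank
    simp only [Fintype.card_prod, Fintype.card_unique, one_mul, Fintype.card_coe, hT] at h2
    omega
  refine ⟨hfin, hidx, ?_⟩
  haveI := Subgroup.fintypeOfIndexNeZero hidx
  let bas := Module.finBasis (ResidueField A) (ResidueField B)
  have hlift : ∀ i, ∃ b : B, residue B b = bas i := fun i => residue_surjective _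
  choose ω hω using hlift
  have hω' : LinearIndependent (ResidueField A) (fun i => residue B (ω i)) := by
    simp only [hω]
    exact bas.linearIndependent
  have := linearIndependent_mul (K := K) (L := L) ω hω' rep hrep
  have h2 := this.fintype_card_le_finrank
  rw [Fintype.card_prod, Fintype.card_fin, mul_comm] at h2
  rw [Subgroup.index_eq_card, Nat.card_eq_fintype_card]
  exact h2

end Groth.Agent.Helper3.ValExt
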