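import Groth.Agent.Lib.Helper3.WEStalk

open TensorProduct AlgebraicGeometry CategoryTheory Limits TopologicalSpace

universe u

namespace Groth.Agent.Helper3.WEStalk

variable {X Y : Scheme.{u}}

/-- Between affine schemes, weakly étale is detected on global sections. -/
theorem affine_iff (g : X ⟶ Y) [IsAffine X] [IsAffine Y] : WeaklyEtale g ↔ Q g.appTop.hom := by
  rw [MorphismProperty.arrow_mk_iso_iff @WeaklyEtale (arrowIsoSpecΓOfIsAffine g)]
  exact spec_iff _

theorem appLE_of_weaklyEtale (f : X ⟶ Y) [WeaklyEtale f] (U : X.Opens) (V : Y.Opens)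
    (hU : IsAffineOpen U) (hV : IsAffineOpen V) (e : U ≤ f ⁻¹ᵁ V) : Q (f.appLE V U e).hom := by
  haveI : IsAffine (U : Scheme) := hU
  haveI : IsAffine (V : Scheme) := hV
  have h1 : WeaklyEtale (f.resLE V U e) := inferInstance
  rw [affine_iff] at h1
  exact (q_respectsIso.arrow_mk_iso_iff (arrowResLEAppIso f V U e)).mp h1

theorem weaklyEtale_of_appLE (f : X ⟶ Y)
    (H : ∀ (U : X.Opens) (V : Y.Opens) (_ : IsAffineOpen U) (_ : IsAffineOpen V) (e : U ≤ f ⁻¹ᵁ V),
      Q (f.appLE V U e).hom) : WeaklyEtale f := by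
  apply of_stalkMap
  intro x
  obtain ⟨V, hV, hfx, _⟩ := Opens.isBasis_iff_nbhd.mp Y.isBasis_affineOpens
    (Opens.mem_top <| f x)
  obtain ⟨U, hU, hx, e⟩ := Opens.isBasis_iff_nbhd.mp X.isBasis_affineOpens
    (show x ∈ f ⁻¹ᵁ V from hfx)
  haveI : IsAffine (U : Scheme) := hU
  haveI : IsAffine (V : Scheme) := hV
  have h1 : WeaklyEtale (f.resLE V U e) := by
    rw [affine_iff]
    exact (q_respectsIso.arrow_mk_iso_iff (arrowResLEAppIso f V U e)).mpr (H U V hU hV e)
  rw [← q_respectsIso.arrow_mk_iso_iff (Scheme.Hom.resLEStalkMap f e ⟨x, hx⟩)]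
  exact stalkMap h1 _

theorem s7178 (f : X ⟶ Y) :
    WeaklyEtale f ↔ ∀ (U : X.Opens) (V : Y.Opens) (_ : IsAffineOpen U) (_ : IsAffineOpen V)
      (hUV : U ≤ f ⁻¹ᵁ V),
      (letI := (f.appLE V U hUV).hom.toAlgebra
       Algebra.WeaklyEtale Γ(Y, V) Γ(X, U)) := by
  constructor
  · intro h U V hU hV e
    exact (q_iff _).mp (appLE_of_weaklyEtale f U V hU hV e)
  · intro H
    exact weaklyEtale_of_appLE f (fun U V hU hV e => (q_iff _).mpr (H U V hU hV e))

end Groth.Agent.Helper3.WEStalk
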