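import Groth.Agent.Lib.Helper3.WEField
import Groth.Prelude.Def_EtAlgD

open Polynomial

universe u

namespace Groth.Agent.Helper3.WEMax

open Groth.Agent.Helper3.WEField

variable (K : Type u) [Field K] (A : Type u) [CommRing A] [Algebra K A]

theorem max_eq : EtAlgD.maxWeaklyEtale K A = sepSubalgebra K A :=
  sSup_weaklyEtale_eq K A

theorem part1 (A' : Subalgebra K A) :
    (EtAlgD.maxWeaklyEtale K A').map A'.val = EtAlgD.maxWeaklyEtale K A ⊓ A' := by
  rw [max_eq, max_eq]
  ext x
  simp only [Subalgebra.mem_map, Algebra.mem_inf, mem_sepSubalgebra]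
  constructor
  · rintro ⟨y, hy, rfl⟩
    exact ⟨(isSeparable_map_iff A'.val Subtype.val_injective).mpr hy, y.2⟩
  · rintro ⟨hx, hxA⟩
    exact ⟨⟨x, hxA⟩, (isSeparable_map_iff A'.val Subtype.val_injective).mp hx, rfl⟩

theorem exists_lift {x : A ⧸ nilradical A} (hx : IsSeparable K x) :
    ∃ r : A, IsSeparable K r ∧ Ideal.Quotient.mk (nilradical A) r = x := by
  obtain ⟨y, rfl⟩ := Ideal.Quotient.mk_surjective x
  set p := minpoly K (Ideal.Quotient.mk (nilradical A) y) with hp
  have hsep : p.Separable := hx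
  have h0 : aeval (Ideal.Quotient.mk (nilradical A) y) p = 0 := minpoly.aeval _ _
  have h1 : IsNilpotent (aeval y p) := by
    rw [← mem_nilradical, ← Ideal.Quotient.eq_zero_iff_mem]
    have : Ideal.Quotient.mk (nilradical A) (aeval y p) =
        aeval (Ideal.Quotient.mk (nilradical A) y) p := by
      have := Polynomial.aeval_algHom_apply (Ideal.Quotient.mkₐ K (nilradical A)) y p
      simpa using this.symm
    rw [this, h0]
  have h2 : IsUnit (aeval y (derivative p)) := by
    obtain ⟨a, b, hab⟩ := hsep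
    have : aeval y a * aeval y p + aeval y b * aeval y (derivative p) = 1 := by
      rw [← map_mul, ← map_mul, ← map_add, hab, map_one]
    have hn : IsNilpotent (aeval y a * aeval y p) := (Commute.all _ _).isNilpotent_mul_left h1
    have hu : IsUnit (aeval y b * aeval y (derivative p)) := by
      have : aeval y b * aeval y (derivative p) = 1 - aeval y a * aeval y p := by
        rw [← this]; ring
      rw [this]
      exact hn.isUnit_one_sub
    exact isUnit_of_mul_isUnit_right hu
  obtain ⟨r, ⟨hr1, hr2⟩, -⟩ := Polynomial.existsUnique_nilpotent_sub_and_aeval_eq_zero h1 h2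
  refine ⟨r, ?_, ?_⟩
  · exact hsep.of_dvd (minpoly.dvd K r hr2)
  · have : y - r ∈ nilradical A := (mem_nilradical).mpr hr1
    rw [← Ideal.Quotient.eq_zero_iff_mem, map_sub, sub_eq_zero] at this
    exact this.symm

theorem part2 : Set.BijOn (Ideal.Quotient.mkₐ K (nilradical A)) (EtAlgD.maxWeaklyEtale K A)
      (EtAlgD.maxWeaklyEtale K (A ⧸ nilradical A)) := by
  rw [max_eq, max_eq]
  refine ⟨?_, ?_, ?_⟩
  · intro x hx
    exact isSeparable_algHom (Ideal.Quotient.mkₐ K (nilradical A)) hx
  · intro x hx y hy hxy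
    have hwe : Algebra.WeaklyEtale K (sepSubalgebra K A) :=
      (subalgebra_weaklyEtale_iff _).mpr le_rfl
    haveI : IsReduced (sepSubalgebra K A) := isReduced_of_weaklyEtale K _
    have hmem : x - y ∈ nilradical A := by
      rw [← Ideal.Quotient.eq_zero_iff_mem, map_sub, sub_eq_zero]
      exact hxy
    obtain ⟨n, hn⟩ := (mem_nilradical).mp hmem
    have : IsNilpotent (⟨x, hx⟩ - ⟨y, hy⟩ : sepSubalgebra K A) :=
      ⟨n, Subtype.ext (by simpa using hn)⟩
    have h0 := this.eq_zero
    have := congrArg Subtype.val h0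
    simpa [sub_eq_zero] using this
  · intro x hx
    obtain ⟨r, hr, hrx⟩ := exists_lift K A hx
    exact ⟨r, hr, hrx⟩

theorem part3 (hid : ∀ e : A, IsIdempotentElem e → e = 0 ∨ e = 1) [Nontrivial A] :
    IsField (EtAlgD.maxWeaklyEtale K A) ∧ Algebra.IsSeparable K (EtAlgD.maxWeaklyEtale K A) := by
  rw [max_eq]
  refine ⟨?_, inferInstance⟩
  have hwe : Algebra.WeaklyEtale K (sepSubalgebra K A) :=
    (subalgebra_weaklyEtale_iff _).mpr le_rfl
  refine ⟨⟨0, 1, zero_ne_one⟩, mul_comm, ?_⟩
  intro b hb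
  obtain ⟨c, hc⟩ := exists_sq_mul (K := K) b
  have hidem : IsIdempotentElem ((b * c : sepSubalgebra K A) : A) := by
    have : (b * c) * (b * c) = b * c := by
      calc (b * c) * (b * c) = (b * b * c) * c := by ring
        _ = b * c := by rw [← hc]
    have := congrArg Subtype.val this
    simpa [IsIdempotentElem] using this
  rcases hid _ hidem with h | h
  · exfalso
    apply hb
    have hbc : b * c = 0 := Subtype.ext (by simpa using h)
    calc b = b * b * c := hc
      _ = b * (b * c) := by ring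
      _ = 0 := by rw [hbc, mul_zero]
  · exact ⟨c, Subtype.ext (by simpa using h)⟩

theorem s7141 :
    (∀ A' : Subalgebra K A,
      (EtAlgD.maxWeaklyEtale K A').map A'.val = EtAlgD.maxWeaklyEtale K A ⊓ A') ∧
    (Set.BijOn (Ideal.Quotient.mkₐ K (nilradical A)) (EtAlgD.maxWeaklyEtale K A)
      (EtAlgD.maxWeaklyEtale K (A ⧸ nilradical A))) ∧
    ((∀ e : A, IsIdempotentElem e → e = 0 ∨ e = 1) → Nontrivial A →
      IsField (EtAlgD.maxWeaklyEtale K A) ∧ Algebra.IsSeparable K (EtAlgD.maxWeaklyEtale K A)) :=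
  ⟨part1 K A, part2 K A, fun h hn => @part3 K _ A _ _ h hn⟩

end Groth.Agent.Helper3.WEMax
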