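import Mathlib
import Groth.Agent.Lib.Helper3.GalData2

/-!
Wild quotients: `A` is not flat over `A^G` when ramified exactly at the closed point (helper3).
-/

set_option autoImplicit false
universe u v w

namespace Groth.Agent.Helper3.WQ1

open IsLocalRing

section Local
variable {A : Type u} [CommRing A] {G : Type w} [Group G] [MulSemiringAction G A]

theorem isUnit_fixed_iff (b : FixedPoints.subring A G) : IsUnit b ↔ IsUnit (b : A) := by
  constructor
  · intro h
    exact h.map (FixedPoints.subring A G).subtype
  · intro h
    obtain ⟨c, hc⟩ := h.exists_right_inv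
    have hcinv : ∀ σ : G, σ • c = c := by
      intro σ
      have hb : σ • (b : A) = b := b.2 σ
      calc σ • c = σ • c * ((b : A) * c) := by rw [hc, mul_one]
        _ = (σ • c * σ • (b : A)) * c := by rw [hb]; ring
        _ = σ • (c * (b : A)) * c := by rw [smul_mul']
        _ = c := by rw [mul_comm c, hc, smul_one, one_mul]
    exact isUnit_iff_exists_inv.mpr ⟨⟨c, hcinv⟩, Subtype.ext hc⟩

variable [IsLocalRing A]

instance isLocalRing_fixed : IsLocalRing (FixedPoints.subring A G) := by
  apply IsLocalRing.of_nonunits_add
  intro a b ha hb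
  rw [mem_nonunits_iff, isUnit_fixed_iff] at ha hb ⊢
  exact IsLocalRing.nonunits_add ha hb

instance isLocalHom_fixed : IsLocalHom (algebraMap (FixedPoints.subring A G) A) :=
  ⟨fun b hb => (isUnit_fixed_iff b).mpr hb⟩

end Local

section Main

theorem not_flat (p : ℕ) [Fact p.Prime] (A : Type u) [CommRing A] [IsDomain A]
    [IsNoetherianRing A] [IsLocalRing A] [CharP A p] (hdim : 2 ≤ ringKrullDim A)
    (G : Type w) [Group G] [Finite G] [MulSemiringAction G A] (hcard : Nat.card G = p)
    (hm : ∀ (σ : G) (a : A), σ • a - a ∈ maximalIdeal A)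
    (hram : ∀ P : Ideal A, P.IsPrime → P ≠ maximalIdeal A → P.inertia G = ⊥) :
    ¬ Module.Flat (FixedPoints.subring A G) A := by
  classical
  intro hflat
  haveI : Fintype G := Fintype.ofFinite G
  haveI : Module.FaithfullyFlat (FixedPoints.subring A G) A :=
    Module.FaithfullyFlat.of_flat_of_isLocalHom
  haveI : IsNoetherianRing (FixedPoints.subring A G) :=
    Groth.Agent.Lead.Hom.isNoetherianRing_of_faithfullyFlat _ A
  have hinj : Function.Injective (algebraMap (FixedPoints.subring A G) A) :=
    Subtype.val_injective
  obtain ⟨tr, htr⟩ := QuotEt3.exists_tr (B := FixedPoints.subring A G) (R := A) (G := G) hinj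
  -- the trace lands in the maximal ideal
  have htrm : ∀ z : A, ¬ IsUnit (tr z) := by
    intro z hu
    have h1 : IsUnit ((tr z : FixedPoints.subring A G) : A) := (isUnit_fixed_iff _).mp hu
    have h2 : ((tr z : FixedPoints.subring A G) : A) = ∑ σ : G, σ • z := htr z
    have h3 : ∑ σ : G, σ • z = ∑ σ : G, (σ • z - z) := by
      rw [Finset.sum_sub_distrib, Finset.sum_const, Finset.card_univ, ← Nat.card_eq_fintype_card,
        hcard, nsmul_eq_mul, CharP.cast_eq_zero, zero_mul, sub_zero]
    rw [h2, h3] at h1
    have h4 : ∑ σ : G, (σ • z - z) ∈ maximalIdeal A := Ideal.sum_mem _ fun σ _ => hm σ z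
    exact (IsLocalRing.mem_maximalIdeal _).mp h4 h1
  -- ht m ≥ 2
  have hht : (2 : WithBot ℕ∞) ≤ (maximalIdeal A).height := by
    rw [IsLocalRing.maximalIdeal_height_eq_ringKrullDim]; exact hdim
  have hbotne : (⊥ : Ideal A) ≠ maximalIdeal A := by
    intro h
    rw [← h, Ideal.height_bot] at hht
    norm_num at hht
  -- finiteness via Galois data at the zero ideal
  have hfin : Module.Finite (FixedPoints.subring A G) A := by
    obtain ⟨x, y, f', hf'Q, hf'inv, hdata⟩ :=
      GalData1.exists_galois_data (G := G) (⊥ : Ideal A) (hram ⊥ Ideal.isPrime_bot hbotne)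
    let f : FixedPoints.subring A G := ⟨f', hf'inv⟩
    have E1 := QuotEt3.E1 x y f hdata tr htr
    let N : Submodule (FixedPoints.subring A G) A := Submodule.span _ (Set.range y)
    haveI : IsNoetherian (FixedPoints.subring A G) N :=
      isNoetherian_of_fg_of_noetherian N (Submodule.fg_span (Set.finite_range y))
    let μ : A →ₗ[FixedPoints.subring A G] N :=
      LinearMap.codRestrict N (LinearMap.mulLeft _ f') (by
        intro z
        rw [LinearMap.mulLeft_apply]
        have := E1 z
        change f' * z = _ at this
        rw [this]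
        refine Submodule.sum_mem _ fun i _ => ?_
        rw [← Algebra.smul_def]
        exact Submodule.smul_mem _ _ (Submodule.subset_span ⟨i, rfl⟩))
    have hμ : Function.Injective μ := by
      intro a b hab
      have := congrArg Subtype.val hab
      simp only [μ, LinearMap.codRestrict_apply, LinearMap.mulLeft_apply] at this
      exact mul_left_cancel₀ (by simpa using hf'Q) this
    exact Module.Finite.of_injective μ hμ
  haveI := hfin
  haveI : Module.Free (FixedPoints.subring A G) A := Module.free_of_flat_of_isLocalRing
  let e := Module.Free.chooseBasis (FixedPoints.subring A G) A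
  let Θ : Matrix (Module.Free.ChooseBasisIndex (FixedPoints.subring A G) A)
      (Module.Free.ChooseBasisIndex (FixedPoints.subring A G) A) (FixedPoints.subring A G) :=
    Matrix.of fun i j => tr (e i * e j)
  -- the determinant is not a unit
  have hdet_nu : ¬ IsUnit Θ.det := by
    intro hu
    have hΘ : IsUnit Θ := (Matrix.isUnit_iff_isUnit_det _).mpr hu
    haveI : Nonempty (Module.Free.ChooseBasisIndex (FixedPoints.subring A G) A) := by
      by_contra hne
      rw [not_nonempty_iff] at hne
      have : (1 : A) = 0 := by
        rw [← e.sum_repr 1]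
        simp
      exact one_ne_zero this
    obtain ⟨i₀⟩ := this
    obtain ⟨Θi, hΘi⟩ := hΘ.exists_right_inv
    let z : A := ∑ j, Θi j i₀ • e j
    have : tr (e i₀ * z) = 1 := by
      have h1 : tr (e i₀ * z) = ∑ j, Θ i₀ j * Θi j i₀ := by
        simp only [z, Finset.mul_sum, map_sum]
        refine Finset.sum_congr rfl fun j _ => ?_
        rw [mul_smul_comm, map_smul, smul_eq_mul, mul_comm]
        rfl
      rw [h1, ← Matrix.mul_apply, hΘi, Matrix.one_apply_eq]
    exact htrm _ (this ▸ isUnit_one)
  -- the determinant avoids every non-maximal prime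
  have hdet_P : ∀ P : Ideal A, P.IsPrime → P ≠ maximalIdeal A → ((Θ.det : FixedPoints.subring A G) : A) ∉ P := by
    intro P hP hPm
    haveI := hP
    obtain ⟨x, y, f', hf'Q, hf'inv, hdata⟩ :=
      GalData1.exists_galois_data (G := G) P (hram P hP hPm)
    let f : FixedPoints.subring A G := ⟨f', hf'inv⟩
    have E1 := QuotEt3.E1 x y f hdata tr htr
    let Ψ : Matrix (Module.Free.ChooseBasisIndex (FixedPoints.subring A G) A)
        (Module.Free.ChooseBasisIndex (FixedPoints.subring A G) A) (FixedPoints.subring A G) :=
      Matrix.of fun j i => ∑ g, e.repr (x g) j * e.repr (y g) i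
    have hmul : Θ * Ψ = f • (1 : Matrix _ _ (FixedPoints.subring A G)) := by
      ext k i
      have h1 : e.repr (algebraMap (FixedPoints.subring A G) A f * e k) i =
          e.repr (∑ g, algebraMap (FixedPoints.subring A G) A (tr (e k * x g)) * y g) i := by
        rw [← E1 (e k)]
      have h2 : e.repr (algebraMap (FixedPoints.subring A G) A f * e k) i =
          f * (if k = i then 1 else 0) := by
        rw [← Algebra.smul_def, map_smul, e.repr_self, Finsupp.smul_apply, Finsupp.single_apply,
          smul_eq_mul]
      have h3 : ∀ g, tr (e k * x g) = ∑ j, e.repr (x g) j * Θ k j := by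
        intro g
        conv_lhs => rw [← e.sum_repr (x g)]
        rw [Finset.mul_sum, map_sum]
        refine Finset.sum_congr rfl fun j _ => ?_
        rw [mul_smul_comm, map_smul, smul_eq_mul]
        rfl
      rw [h2] at h1
      rw [Matrix.mul_apply, Matrix.smul_apply, Matrix.one_apply, smul_eq_mul, h1, map_sum,
        Finsupp.finset_sum_apply]
      simp only [← Algebra.smul_def, map_smul, Finsupp.smul_apply, smul_eq_mul, h3, Ψ,
        Matrix.of_apply, Finset.mul_sum, Finset.sum_mul]
      congr 1
      rw [Finset.sum_comm]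
      refine Finset.sum_congr rfl fun g _ => Finset.sum_congr rfl fun j _ => ?_
      ring
    have hdet : Θ.det * Ψ.det = f ^ Fintype.card
        (Module.Free.ChooseBasisIndex (FixedPoints.subring A G) A) := by
      rw [← Matrix.det_mul, hmul, Matrix.det_smul, Matrix.det_one, mul_one]
    intro hmem
    have h5 : ((Θ.det * Ψ.det : FixedPoints.subring A G) : A) ∈ P := by
      push_cast
      exact P.mul_mem_right _ hmem
    rw [hdet] at h5
    push_cast at h5
    exact hf'Q (hP.mem_of_pow_mem _ h5)
  -- conclusion by Krull's principal ideal theorem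
  set d : A := ((Θ.det : FixedPoints.subring A G) : A) with hd
  have hdnu : ¬ IsUnit d := fun h => hdet_nu ((isUnit_fixed_iff _).mpr h)
  have hspan : Ideal.span {d} ≠ ⊤ := by
    rw [Ne, Ideal.span_singleton_eq_top]; exact hdnu
  obtain ⟨P, hP⟩ := Ideal.nonempty_minimalPrimes hspan
  have hPprime : P.IsPrime := hP.1.1
  have hht1 : P.height ≤ 1 :=
    Ideal.height_le_one_of_isPrincipal_of_mem_minimalPrimes (Ideal.span {d}) P hP
  have hPm : P ≠ maximalIdeal A := by
    intro h
    rw [h] at hht1
    have : (2 : WithBot ℕ∞) ≤ ((1 : ℕ∞) : WithBot ℕ∞) := le_trans hht (by exact_mod_cast hht1)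
    norm_cast at this
  exact hdet_P P hPprime hPm (hP.1.2 (Ideal.mem_span_singleton_self d))

end Main

end Groth.Agent.Helper3.WQ1
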