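import Mathlib
import Groth.Agent.Lib.Helper3.WQ1
import Groth.Agent.Lib.Lead.RLR1

/-!
Wild quotients: assembly for S15794 (helper3).
-/

set_option autoImplicit false
universe u v w

namespace Groth.Agent.Helper3.WQ2

open IsLocalRing

/-- the group acts trivially modulo the maximal ideal -/
theorem smul_sub_mem (A : Type u) [CommRing A] [IsLocalRing A]
    (k : Type v) [Field k] [Algebra k A]
    (hk : Function.Surjective (IsLocalRing.residue A ∘ algebraMap k A))
    (G : Type w) [Group G] [MulSemiringAction G A]
    (hGk : ∀ (σ : G) (c : k), σ • algebraMap k A c = algebraMap k A c) (σ : G) (a : A) :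
    σ • a - a ∈ maximalIdeal A := by
  obtain ⟨c, hc⟩ := hk (IsLocalRing.residue A a)
  have h1 : a - algebraMap k A c ∈ maximalIdeal A := by
    rw [← Ideal.Quotient.eq_zero_iff_mem]
    have : IsLocalRing.residue A (a - algebraMap k A c) = 0 := by
      rw [map_sub, ← hc]; simp
    exact this
  have hσm : ∀ x ∈ maximalIdeal A, σ • x ∈ maximalIdeal A := by
    intro x hx
    rw [IsLocalRing.mem_maximalIdeal, mem_nonunits_iff] at hx ⊢
    intro hu
    apply hx
    have := hu.map (MulSemiringAction.toRingHom G A σ⁻¹)
    simpa using this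
  have h2 := hσm _ h1
  rw [smul_sub, hGk] at h2
  have := (maximalIdeal A).sub_mem h2 h1
  convert this using 1
  ring

theorem main (p : ℕ) [Fact p.Prime] (A : Type u) [CommRing A] [IsRegularLocalRing A] [CharP A p]
    (hdim : 2 ≤ ringKrullDim A)
    (k : Type v) [Field k] [Algebra k A]
    (hk : Function.Surjective (IsLocalRing.residue A ∘ algebraMap k A))
    (G : Type w) [Group G] [Finite G] [MulSemiringAction G A] (hcard : Nat.card G = p)
    (hGk : ∀ (σ : G) (c : k), σ • algebraMap k A c = algebraMap k A c)
    (hram : ∀ P : Ideal A, P.IsPrime → P ≠ IsLocalRing.maximalIdeal A → P.inertia G = ⊥) :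
    ¬ Module.Flat (FixedPoints.subring A G) A := by
  haveI : IsDomain A := Groth.Agent.Lead.RLR.isDomain A
  exact WQ1.not_flat p A hdim G hcard (smul_sub_mem A k hk G hGk) hram

end Groth.Agent.Helper3.WQ2
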