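import Mathlib

/-!
# Invariant generators up to radical (helper3)

For a finite group `G` acting on a Noetherian local ring `A`, the maximal ideal is the radical of
the ideal generated by finitely many `G`-invariant elements of the maximal ideal.
-/

set_option autoImplicit false
universe u w

namespace Groth.Agent.Helper3.WQ3

open IsLocalRing Polynomial

variable {A : Type u} [CommRing A] [IsLocalRing A] {G : Type w} [Group G] [MulSemiringAction G A]

theorem smul_mem_maximalIdeal (σ : G) {a : A} (ha : a ∈ maximalIdeal A) :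
    σ • a ∈ maximalIdeal A := by
  rw [mem_maximalIdeal, mem_nonunits_iff] at ha ⊢
  intro h
  apply ha
  have h2 := h.map (MulSemiringAction.toRingHom G A σ⁻¹)
  rwa [MulSemiringAction.toRingHom_apply, inv_smul_smul] at h2

theorem smul_mem_maximalIdeal_pow (σ : G) (n : ℕ) {a : A} (ha : a ∈ maximalIdeal A ^ n) :
    σ • a ∈ maximalIdeal A ^ n := by
  have h1 : (maximalIdeal A ^ n).map (MulSemiringAction.toRingHom G A σ) ≤ maximalIdeal A ^ n := by
    rw [Ideal.map_pow]
    apply Ideal.pow_right_mono
    rw [Ideal.map_le_iff_le_comap]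
    intro x hx
    exact smul_mem_maximalIdeal σ hx
  exact h1 (Ideal.mem_map_of_mem _ ha)

variable [Fintype G]

theorem pow_card_mem (u : A) (hu : u ∈ maximalIdeal A) :
    u ^ Fintype.card G ∈
      Ideal.span {a : A | a ∈ maximalIdeal A ∧ ∀ σ : G, σ • a = a} := by
  classical
  set J : Ideal A := Ideal.span {a : A | a ∈ maximalIdeal A ∧ ∀ σ : G, σ • a = a} with hJ
  set F : A[X] := MulSemiringAction.charpoly G u with hF
  have hmonic : F.Monic := MulSemiringAction.monic_charpoly G u
  have hdeg : F.natDegree = Fintype.card G := by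
    rw [hF, MulSemiringAction.charpoly_eq, natDegree_finset_prod_X_sub_C_eq_card]
    rfl
  have hmap : F.map (residue A) = X ^ Fintype.card G := by
    rw [hF, MulSemiringAction.charpoly_eq, Polynomial.map_prod]
    have : ∀ g : G, (X - C (g • u)).map (residue A) = X := by
      intro g
      rw [Polynomial.map_sub, Polynomial.map_X, Polynomial.map_C,
        (residue_eq_zero_iff _).mpr (smul_mem_maximalIdeal g hu), C_0, sub_zero]
    rw [Finset.prod_congr rfl (fun g _ => this g), Finset.prod_const]
    rfl
  have hcoeff : ∀ i, i < Fintype.card G → F.coeff i ∈ J := by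
    intro i hi
    apply Ideal.subset_span
    refine ⟨?_, fun σ => MulSemiringAction.smul_coeff_charpoly u i σ⟩
    rw [← residue_eq_zero_iff, ← Polynomial.coeff_map, hmap, coeff_X_pow, if_neg hi.ne]
  have heval : F.eval u = 0 := MulSemiringAction.eval_charpoly G u
  rw [hmonic.as_sum, hdeg, eval_add, eval_pow, eval_X, eval_finset_sum] at heval
  have : u ^ Fintype.card G = - ∑ i ∈ Finset.range (Fintype.card G),
      eval u (C (F.coeff i) * X ^ i) := eq_neg_of_add_eq_zero_left heval
  rw [this]
  refine J.neg_mem (J.sum_mem fun i hi => ?_)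
  rw [eval_mul, eval_C, eval_pow, eval_X]
  exact J.mul_mem_right _ (hcoeff i (Finset.mem_range.mp hi))

theorem exists_invariant_generators [IsNoetherianRing A] :
    ∃ (s : Finset A) (c : ℕ), (∀ a ∈ s, a ∈ maximalIdeal A ∧ ∀ σ : G, σ • a = a) ∧
      maximalIdeal A ^ c ≤ Ideal.span (s : Set A) := by
  classical
  set S : Set A := {a : A | a ∈ maximalIdeal A ∧ ∀ σ : G, σ • a = a} with hS
  have hfg : (Ideal.span S).FG := IsNoetherian.noetherian _
  obtain ⟨s, hsS, hs⟩ := (Submodule.fg_span_iff_fg_span_finset_subset S).mp hfg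
  have hrad : maximalIdeal A ≤ (Ideal.span S).radical := by
    intro u hu
    exact ⟨Fintype.card G, pow_card_mem u hu⟩
  obtain ⟨c, hc⟩ := Ideal.exists_radical_pow_le_of_fg (Ideal.span S) (IsNoetherian.noetherian _)
  refine ⟨s, c, fun a ha => hsS ha, ?_⟩
  calc maximalIdeal A ^ c ≤ (Ideal.span S).radical ^ c := Ideal.pow_right_mono hrad c
    _ ≤ Ideal.span S := hc
    _ = Ideal.span (s : Set A) := hs

end Groth.Agent.Helper3.WQ3
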