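import Mathlib
import Groth.Agent.Lib.Helper14.CohenStructure
import Groth.Agent.Lib.Helper14.PowerSeriesComplete
import Groth.Agent.Lib.Helper1.AdicLib

/-!
# Finiteness over a power series ring (helper3)

A complete Noetherian local ring `A` with coefficient field `K` is finite over `K[[X_i]]` through
any map sending the variables to elements generating an ideal primary to the maximal ideal.
-/

set_option autoImplicit false
set_option linter.style.haveILetI false
universe u w

namespace Groth.Agent.Helper3.WQ4

open IsLocalRing MvPowerSeries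

variable {K A : Type u} [Field K] [CommRing A] [IsLocalRing A] [IsNoetherianRing A]
  [IsAdicComplete (maximalIdeal A) A] [Algebra K A]

theorem isAdicComplete_field (ι : Type w) [Finite ι] :
    IsAdicComplete (maximalIdeal (MvPowerSeries ι K)) (MvPowerSeries ι K) := by
  haveI : IsAdicComplete (maximalIdeal K) K := by
    rw [IsLocalRing.maximalIdeal_eq_bot]
    infer_instance
  exact Groth.Agent.Helper14.PowerSeriesComplete.isAdicComplete_maximalIdeal ι K

theorem maximalIdeal_field (ι : Type w) [Finite ι] :
    maximalIdeal (MvPowerSeries ι K) = Ideal.span (Set.range (X : ι → MvPowerSeries ι K)) := by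
  rw [Groth.Agent.Helper14.PowerSeriesComplete.maximalIdeal_eq, IsLocalRing.maximalIdeal_eq_bot,
    Ideal.map_bot, bot_sup_eq]

theorem finite_of_pow_le
    (hres : Function.Surjective ((residue A).comp (algebraMap K A)))
    {ι : Type w} [Finite ι] (g : ι → A) (hg : ∀ i, g i ∈ maximalIdeal A) (c : ℕ)
    (hc : maximalIdeal A ^ c ≤ Ideal.span (Set.range g))
    (f : MvPowerSeries ι K →ₐ[K] A) (hf : ∀ i, f (X i) = g i) :
    f.toRingHom.Finite := by
  classical
  set J : Ideal A := Ideal.span (Set.range g) with hJdef
  have hJle : J ≤ maximalIdeal A := by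
    rw [hJdef, Ideal.span_le]
    rintro _ ⟨i, rfl⟩
    exact hg i
  letI : Algebra (MvPowerSeries ι K) A := (f : MvPowerSeries ι K →+* A).toAlgebra
  haveI : IsScalarTower K (MvPowerSeries ι K) A :=
    IsScalarTower.of_algebraMap_eq (fun x => (f.commutes x).symm)
  have hmap : (maximalIdeal (MvPowerSeries ι K)).map
      (algebraMap (MvPowerSeries ι K) A) = J := by
    rw [maximalIdeal_field, Ideal.map_span, ← Set.range_comp, hJdef]
    congr 2
    ext i
    exact hf i
  have hres' : Function.Surjective ((residue A).comp (algebraMap (MvPowerSeries ι K) A)) := by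
    intro x
    obtain ⟨y, hy⟩ := hres x
    refine ⟨C y, ?_⟩
    rw [← hy]
    simp only [RingHom.comp_apply]
    congr 1
    exact f.commutes y
  haveI : Module.Finite (MvPowerSeries ι K) (A ⧸ J) := by
    refine Groth.Agent.Helper14.CohenStructure.finite_of_pow_smul_eq_bot (R := A) hres' c ?_
    rw [eq_bot_iff]
    refine Submodule.smul_le.mpr fun r hr x _ => ?_
    obtain ⟨x, rfl⟩ := Ideal.Quotient.mk_surjective x
    rw [Submodule.mem_bot]
    change Ideal.Quotient.mk J (r * x) = 0
    rw [Ideal.Quotient.eq_zero_iff_mem]
    exact J.mul_mem_right _ (hc hr)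
  haveI : IsHausdorff (maximalIdeal (MvPowerSeries ι K)) A := by
    refine ⟨fun x hx => ?_⟩
    haveI : IsHausdorff (maximalIdeal A) A := inferInstance
    apply IsHausdorff.haus ‹IsHausdorff (maximalIdeal A) A› x
    intro m
    have hxm := hx m
    rw [SModEq.zero] at hxm ⊢
    have hle : (maximalIdeal (MvPowerSeries ι K) ^ m • ⊤ : Submodule _ A) ≤
        (maximalIdeal A ^ m • ⊤ : Submodule A A).restrictScalars (MvPowerSeries ι K) := by
      rw [Ideal.smul_top_eq_map, Ideal.map_pow, hmap]
      intro y hy
      rw [Submodule.restrictScalars_mem] at hy ⊢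
      rw [smul_eq_mul, Ideal.mul_top]
      exact Ideal.pow_right_mono hJle m hy
    exact hle hxm
  haveI := isAdicComplete_field (K := K) ι
  have hfin : Module.Finite (MvPowerSeries ι K) A := by
    refine Groth.Agent.Helper1.finite_of_isAdicComplete_of_finite_quotient
      (maximalIdeal (MvPowerSeries ι K)) ?_
    rw [Ideal.smul_top_eq_map, hmap]
    exact Module.Finite.equiv
      (Submodule.Quotient.restrictScalarsEquiv (MvPowerSeries ι K) J).symm
  exact hfin

end Groth.Agent.Helper3.WQ4
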