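import Mathlib
import Groth.Agent.Lib.Helper3.WQ1
import Groth.Agent.Lib.Helper3.WQ3
import Groth.Agent.Lib.Helper3.WQ4
import Groth.Agent.Lib.Helper5.FinComplete
import Groth.Agent.Lib.Helper7.IntDim
import Groth.Agent.Lib.Lead.Hom16
import Groth.Agent.Lib.Lead.Miracle2
import Groth.Agent.Lib.Lead.Depth12
import Groth.Agent.Lib.Lead.RLR1

/-!
# Invariant rings of wild actions on complete regular local rings (helper3)
-/

set_option autoImplicit false
set_option linter.style.haveILetI false
universe u w

namespace Groth.Agent.Helper3.WQ5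

open IsLocalRing MvPowerSeries

/-- The ring of invariants of a group acting on an integrally closed domain is integrally
closed. -/
theorem isIntegrallyClosed_fixed (A : Type u) [CommRing A] [IsDomain A] [IsIntegrallyClosed A]
    (G : Type w) [Group G] [MulSemiringAction G A] :
    IsIntegrallyClosed (FixedPoints.subring A G) := by
  classical
  rw [isIntegrallyClosed_iff (FractionRing (FixedPoints.subring A G))]
  intro x hx
  obtain ⟨a, b, hb, rfl⟩ := IsFractionRing.div_surjective (A := FixedPoints.subring A G) x
  have hb0 : (b : A) ≠ 0 := by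
    intro h
    exact nonZeroDivisors.ne_zero hb (Subtype.ext h)
  have hinj : Function.Injective
      ((algebraMap A (FractionRing A)).comp (FixedPoints.subring A G).subtype) :=
    (IsFractionRing.injective A (FractionRing A)).comp Subtype.val_injective
  let φ : FractionRing (FixedPoints.subring A G) →+* FractionRing A :=
    IsFractionRing.lift hinj
  have hφ : ∀ c : FixedPoints.subring A G,
      φ (algebraMap _ _ c) = algebraMap A (FractionRing A) (c : A) := fun c =>
    IsFractionRing.lift_algebraMap hinj c
  -- the image is integral over `A`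
  have hint : IsIntegral A (φ (algebraMap _ _ a / algebraMap _ _ b)) := by
    obtain ⟨q, hq, hq0⟩ := hx
    refine ⟨q.map (FixedPoints.subring A G).subtype, hq.map _, ?_⟩
    have h1 := congrArg φ hq0
    rw [map_zero, Polynomial.eval₂_eq_eval_map, ← Polynomial.eval₂_hom, ← Polynomial.eval_map,
      Polynomial.map_map] at h1
    rw [Polynomial.eval₂_eq_eval_map, Polynomial.map_map, ← h1]
    congr 2
    ext c
    exact (hφ c).symm
  obtain ⟨z, hz⟩ := IsIntegrallyClosed.isIntegral_iff.mp hint
  have hbL : algebraMap A (FractionRing A) (b : A) ≠ 0 := by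
    rw [Ne, map_eq_zero_iff _ (IsFractionRing.injective A (FractionRing A))]
    exact hb0
  have haz : (a : A) = b * z := by
    apply IsFractionRing.injective A (FractionRing A)
    rw [map_mul, hz, map_div₀, hφ, hφ, mul_div_cancel₀ _ hbL]
  have hzinv : ∀ σ : G, σ • z = z := by
    intro σ
    have h1 : σ • (a : A) = a := a.2 σ
    have h2 : σ • (b : A) = b := b.2 σ
    have h3 : (b : A) * (σ • z) = b * z := by
      rw [← haz, ← h1, haz, smul_mul', h2]
    exact mul_left_cancel₀ hb0 h3
  refine ⟨⟨z, hzinv⟩, ?_⟩
  have hbK : algebraMap (FixedPoints.subring A G) (FractionRing (FixedPoints.subring A G)) b ≠ 0 := by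
    rw [Ne, map_eq_zero_iff _ (IsFractionRing.injective _ _)]
    exact nonZeroDivisors.ne_zero hb
  rw [eq_div_iff hbK, ← map_mul]
  congr 1
  apply Subtype.ext
  rw [haz, mul_comm]
  rfl


theorem maximalIdeal_fixed (A : Type u) [CommRing A] [IsLocalRing A]
    (G : Type w) [Group G] [MulSemiringAction G A] :
    maximalIdeal (FixedPoints.subring A G) =
      Ideal.comap (FixedPoints.subring A G).subtype (maximalIdeal A) := by
  ext b
  rw [Ideal.mem_comap, mem_maximalIdeal, mem_maximalIdeal, mem_nonunits_iff, mem_nonunits_iff,
    Groth.Agent.Helper3.WQ1.isUnit_fixed_iff]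
  rfl

theorem core (p : ℕ) [Fact p.Prime] (A : Type u) [CommRing A] [IsRegularLocalRing A] [CharP A p]
    [IsAdicComplete (maximalIdeal A) A] (hdim : 2 ≤ ringKrullDim A)
    (K : Type u) [Field K] [Algebra K A]
    (hK : Function.Surjective ((residue A).comp (algebraMap K A)))
    (G : Type w) [Group G] [Finite G] [MulSemiringAction G A] (hcard : Nat.card G = p)
    (hGK : ∀ (σ : G) (c : K), σ • algebraMap K A c = algebraMap K A c)
    (hram : ∀ P : Ideal A, P.IsPrime → P ≠ maximalIdeal A → P.inertia G = ⊥) :
    IsNoetherianRing (FixedPoints.subring A G) ∧ Module.Finite (FixedPoints.subring A G) A ∧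
      IsIntegrallyClosed (FixedPoints.subring A G) ∧
      ringKrullDim (FixedPoints.subring A G) = ringKrullDim A ∧
      IsAdicComplete (Ideal.comap (FixedPoints.subring A G).subtype (maximalIdeal A))
        (FixedPoints.subring A G) ∧
      ¬ IsRegularLocalRing (FixedPoints.subring A G) := by
  classical
  haveI : Fintype G := Fintype.ofFinite G
  haveI : IsDomain A := Groth.Agent.Lead.RLR.isDomain A
  haveI : IsIntegrallyClosed A := Groth.Agent.Lead.Hom.isIntegrallyClosed_of_isRegularLocalRing A
  obtain ⟨s, c, hs, hc⟩ := Groth.Agent.Helper3.WQ3.exists_invariant_generators (A := A) (G := G)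
  let g : ↥s → A := fun i => i.1
  have hg : ∀ i, g i ∈ maximalIdeal A := fun i => (hs i.1 i.2).1
  have hginv : ∀ i (σ : G), σ • g i = g i := fun i σ => (hs i.1 i.2).2 σ
  have hrange : Set.range g = (s : Set A) := Subtype.range_coe
  obtain ⟨f, hf⟩ := Groth.Agent.Helper14.PowerSeriesComplete.exists_algHom_complete (Λ := K)
    (maximalIdeal A) g hg
  have hfin : f.toRingHom.Finite :=
    Groth.Agent.Helper3.WQ4.finite_of_pow_le hK g hg c (by rw [hrange]; exact hc) f hf
  -- the image consists of invariants
  have hpoly : ∀ (σ : G) (q : MvPolynomial s K),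
      σ • f (q : MvPowerSeries s K) = f (q : MvPowerSeries s K) := by
    intro σ q
    induction q using MvPolynomial.induction_on with
    | C a =>
      rw [MvPolynomial.coe_C]
      have : f (MvPowerSeries.C a) = algebraMap K A a := f.commutes a
      rw [this, hGK]
    | add q₁ q₂ h₁ h₂ => rw [MvPolynomial.coe_add, map_add, smul_add, h₁, h₂]
    | mul_X q i hq => rw [MvPolynomial.coe_mul, MvPolynomial.coe_X, map_mul, smul_mul', hq, hf, hginv]
  have htail : ∀ (n : ℕ) (x : MvPowerSeries s K),
      x ∈ Ideal.span (Set.range (X : s → MvPowerSeries s K)) ^ n → f x ∈ maximalIdeal A ^ n := by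
    intro n x hx
    have h1 : (Ideal.span (Set.range (X : s → MvPowerSeries s K)) ^ n).map f.toRingHom ≤
        maximalIdeal A ^ n := by
      rw [Ideal.map_pow]
      apply Ideal.pow_right_mono
      rw [Ideal.map_span, Ideal.span_le]
      rintro _ ⟨_, ⟨i, rfl⟩, rfl⟩
      change f (X i) ∈ maximalIdeal A
      rw [hf]
      exact hg i
    exact h1 (Ideal.mem_map_of_mem f.toRingHom hx)
  have hinv : ∀ (x : MvPowerSeries s K) (σ : G), σ • f x = f x := by
    intro x σ
    rw [← sub_eq_zero]
    apply IsHausdorff.haus (inferInstance : IsHausdorff (maximalIdeal A) A)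
    intro n
    rw [SModEq.zero, smul_eq_mul, Ideal.mul_top]
    have ht := htail n _ (Groth.Agent.Helper14.PowerSeriesAdic.sub_truncTotal_mem_pow n x)
    have hx : f x = f ((truncTotal n x : MvPolynomial s K) : MvPowerSeries s K) +
        f (x - ((truncTotal n x : MvPolynomial s K) : MvPowerSeries s K)) := by
      rw [← map_add, add_sub_cancel]
    have e : σ • f x - f x =
        σ • f (x - ((truncTotal n x : MvPolynomial s K) : MvPowerSeries s K)) -
          f (x - ((truncTotal n x : MvPolynomial s K) : MvPowerSeries s K)) := by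
      rw [hx, smul_add, hpoly]
      ring
    rw [e]
    exact Ideal.sub_mem _ (Groth.Agent.Helper3.WQ3.smul_mem_maximalIdeal_pow σ n ht) ht
  -- algebra structures
  let f' : MvPowerSeries s K →+* FixedPoints.subring A G :=
    f.toRingHom.codRestrict (FixedPoints.subring A G) (fun x σ => hinv x σ)
  letI : Algebra (MvPowerSeries s K) A := f.toRingHom.toAlgebra
  letI : Algebra (MvPowerSeries s K) (FixedPoints.subring A G) := f'.toAlgebra
  haveI : IsScalarTower (MvPowerSeries s K) (FixedPoints.subring A G) A :=
    IsScalarTower.of_algebraMap_eq (fun x => rfl)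
  haveI : Module.Finite (MvPowerSeries s K) A := hfin
  haveI : IsNoetherian (MvPowerSeries s K) A := isNoetherian_of_isNoetherianRing_of_finite _ A
  haveI : Module.Finite (MvPowerSeries s K) (FixedPoints.subring A G) :=
    Module.Finite.of_injective (IsScalarTower.toAlgHom (MvPowerSeries s K)
      (FixedPoints.subring A G) A).toLinearMap Subtype.val_injective
  haveI hnoeth : IsNoetherianRing (FixedPoints.subring A G) :=
    IsNoetherianRing.of_finite (MvPowerSeries s K) _
  haveI hfinBA : Module.Finite (FixedPoints.subring A G) A :=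
    Module.Finite.of_restrictScalars_finite (MvPowerSeries s K) _ A
  haveI : Algebra.IsIntegral (FixedPoints.subring A G) A := Algebra.IsIntegral.of_finite _ A
  refine ⟨hnoeth, hfinBA, isIntegrallyClosed_fixed A G, ?_, ?_, ?_⟩
  · exact (Groth.Agent.Helper7.IntDim.ringKrullDim_eq_of_isIntegral_of_injective
      (A := FixedPoints.subring A G) (B := A) Subtype.val_injective).symm
  · rw [← maximalIdeal_fixed]
    haveI := Groth.Agent.Helper3.WQ4.isAdicComplete_field (K := K) s
    exact Groth.Agent.Helper5.FinComplete.isAdicComplete_maximalIdeal_of_finite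
      (MvPowerSeries s K) (FixedPoints.subring A G)
  · intro hreg
    have hm : ∀ (σ : G) (a : A), σ • a - a ∈ maximalIdeal A := by
      intro σ a
      obtain ⟨c, hc⟩ := hK (residue A a)
      have ht : a - algebraMap K A c ∈ maximalIdeal A := by
        rw [← residue_eq_zero_iff, map_sub, sub_eq_zero]
        exact hc.symm
      have e : σ • a - a = σ • (a - algebraMap K A c) - (a - algebraMap K A c) := by
        rw [smul_sub, hGK]
        ring
      rw [e]
      exact Ideal.sub_mem _ (Groth.Agent.Helper3.WQ3.smul_mem_maximalIdeal σ ht) ht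
    have hCM : LocCoh.IsCohenMacaulayLocalRing A :=
      Groth.Agent.Lead.Depth.isCohenMacaulayLocalRing_of_isRegularLocalRing (R := A)
    have hfree : Module.Free (FixedPoints.subring A G) A :=
      (Groth.Agent.Lead.Miracle.free_iff (FixedPoints.subring A G) A).mpr
        ⟨hCM, Subtype.val_injective⟩
    exact Groth.Agent.Helper3.WQ1.not_flat p A hdim G hcard hm hram inferInstance

end Groth.Agent.Helper3.WQ5
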