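import Mathlib
import Groth.Agent.Lib.Helper3.WQ5

/-!
# S15798: the invariant ring of a wild action on a complete regular local ring (helper3)
-/

set_option autoImplicit false
set_option linter.style.haveILetI false
universe u v w

namespace Groth.Agent.Helper3.WQ6

open IsLocalRing

theorem main
    (p : ℕ) [Fact p.Prime] (A : Type u) [CommRing A] [IsRegularLocalRing A] [CharP A p]
    [IsAdicComplete (IsLocalRing.maximalIdeal A) A] (hdim : 2 ≤ ringKrullDim A)
    (k : Type v) [Field k] [Algebra k A]
    (hk : Function.Surjective (IsLocalRing.residue A ∘ algebraMap k A))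
    (G : Type w) [Group G] [Finite G] [MulSemiringAction G A] (hcard : Nat.card G = p)
    (hGk : ∀ (σ : G) (c : k), σ • algebraMap k A c = algebraMap k A c)
    (hram : ∀ P : Ideal A, P.IsPrime → P ≠ IsLocalRing.maximalIdeal A → P.inertia G = ⊥) :
    IsNoetherianRing (FixedPoints.subring A G) ∧ Module.Finite (FixedPoints.subring A G) A ∧
      IsIntegrallyClosed (FixedPoints.subring A G) ∧
      ringKrullDim (FixedPoints.subring A G) = ringKrullDim A ∧
      IsAdicComplete (Ideal.comap (FixedPoints.subring A G).subtype (IsLocalRing.maximalIdeal A))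
        (FixedPoints.subring A G) ∧
      ¬ IsRegularLocalRing (FixedPoints.subring A G) := by
  let φ : k →+* ResidueField A := (residue A).comp (algebraMap k A)
  have hbij : Function.Bijective φ := ⟨φ.injective, hk⟩
  let e : k ≃+* ResidueField A := RingEquiv.ofBijective φ hbij
  let sec : ResidueField A →+* A := (algebraMap k A).comp e.symm.toRingHom
  letI : Algebra (ResidueField A) A := sec.toAlgebra
  refine Groth.Agent.Helper3.WQ5.core p A hdim (ResidueField A) ?_ G hcard ?_ hram
  · intro x
    refine ⟨x, ?_⟩
    change φ (e.symm x) = x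
    exact e.apply_symm_apply x
  · intro σ c
    exact hGk σ (e.symm c)

end Groth.Agent.Helper3.WQ6
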