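import Mathlib
import Groth.Agent.Lib.Helper3.WQ4
import Groth.Agent.Lib.Helper5.PSR
import Groth.Agent.Lib.Helper21.IntDim
import Groth.Agent.Lib.Helper22.TF1
import Groth.Agent.Lib.Lead.Miracle2
import Groth.Agent.Lib.Lead.Depth12

/-!
# A complete regular local ring is free over a parameter power series ring (helper3)
-/

set_option autoImplicit false
set_option linter.style.haveILetI false
universe u v

namespace Groth.Agent.Helper3.WQ7

open IsLocalRing MvPowerSeries

section Core

variable {K A : Type u} [Field K] [CommRing A] [IsRegularLocalRing A]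
  [IsAdicComplete (maximalIdeal A) A] [Algebra K A]

theorem core (n : ℕ) (hn : ringKrullDim A = n)
    (hres : Function.Surjective ((residue A).comp (algebraMap K A)))
    (x : Fin n → A) (hx : (Ideal.span (Set.range x)).radical = maximalIdeal A)
    (φ : MvPowerSeries (Fin n) K →ₐ[K] A) (hφ : ∀ i, φ (X i) = x i) :
    ∃ (d : ℕ) (b : Fin d → A), (d : ℕ∞) = Module.length A (A ⧸ Ideal.span (Set.range x)) ∧
      Function.Bijective (fun r : Fin d → MvPowerSeries (Fin n) K => ∑ i, φ (r i) * b i) := by
  classical
  set J : Ideal A := Ideal.span (Set.range x) with hJ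
  have hJle : J ≤ maximalIdeal A := by rw [← hx]; exact Ideal.le_radical
  have hxm : ∀ i, x i ∈ maximalIdeal A := fun i => hJle (Ideal.subset_span ⟨i, rfl⟩)
  obtain ⟨c, hc⟩ := Ideal.exists_radical_pow_le_of_fg J (IsNoetherian.noetherian _)
  rw [hx] at hc
  have hfin : φ.toRingHom.Finite := Groth.Agent.Helper3.WQ4.finite_of_pow_le hres x hxm c hc φ hφ
  letI : Algebra (MvPowerSeries (Fin n) K) A := φ.toRingHom.toAlgebra
  haveI : IsScalarTower K (MvPowerSeries (Fin n) K) A :=
    IsScalarTower.of_algebraMap_eq (fun c => (φ.commutes c).symm)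
  haveI : Module.Finite (MvPowerSeries (Fin n) K) A := hfin
  have halg : ∀ r : MvPowerSeries (Fin n) K, algebraMap (MvPowerSeries (Fin n) K) A r = φ r :=
    fun r => rfl
  have hmap : (maximalIdeal (MvPowerSeries (Fin n) K)).map
      (algebraMap (MvPowerSeries (Fin n) K) A) = J := by
    rw [Groth.Agent.Helper3.WQ4.maximalIdeal_field, Ideal.map_span, ← Set.range_comp, hJ]
    congr 2
    ext i
    exact hφ i
  -- local homomorphism
  haveI : IsLocalHom (algebraMap (MvPowerSeries (Fin n) K) A) := by
    refine ⟨fun r hr => ?_⟩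
    by_contra hnu
    have hrm : r ∈ maximalIdeal (MvPowerSeries (Fin n) K) := hnu
    have : algebraMap (MvPowerSeries (Fin n) K) A r ∈ maximalIdeal A := by
      apply hJle
      rw [← hmap]
      exact Ideal.mem_map_of_mem _ hrm
    exact this hr
  -- injectivity
  have hinj : Function.Injective (algebraMap (MvPowerSeries (Fin n) K) A) := by
    rw [injective_iff_map_eq_zero]
    intro f hf
    by_contra hne
    have hnzd : f ∈ nonZeroDivisors (MvPowerSeries (Fin n) K) := mem_nonZeroDivisors_of_ne_zero hne
    have h1 := ringKrullDim_quotient_succ_le_of_nonZeroDivisor hnzd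
    have h2 := Groth.Agent.Helper5.PSR.ringKrullDim_mvPowerSeries_le (k := K) n
    let g : MvPowerSeries (Fin n) K ⧸ Ideal.span {f} →+* A :=
      Ideal.Quotient.lift _ (algebraMap (MvPowerSeries (Fin n) K) A) (by
        intro a ha
        obtain ⟨b, rfl⟩ := Ideal.mem_span_singleton'.mp ha
        rw [map_mul, hf, mul_zero])
    have hfint : (algebraMap (MvPowerSeries (Fin n) K) A).IsIntegral :=
      RingHom.Finite.to_isIntegral hfin
    have hgint : g.IsIntegral := by
      refine RingHom.IsIntegral.tower_top (Ideal.Quotient.mk (Ideal.span {f})) g ?_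
      have : g.comp (Ideal.Quotient.mk (Ideal.span {f})) =
          algebraMap (MvPowerSeries (Fin n) K) A := Ideal.Quotient.lift_comp_mk _ _ _
      rw [this]
      exact hfint
    have h3 := Groth.Agent.Helper21.ID.ringKrullDim_le_of_isIntegral g hgint
    rw [hn] at h3
    have h4 : ((n : WithBot ℕ∞) + 1) ≤ n := (add_le_add_left h3 1).trans (h1.trans h2)
    have h5 : ((n + 1 : ℕ) : WithBot ℕ∞) ≤ (n : ℕ) := by exact_mod_cast h4
    have h6 : n + 1 ≤ n := by exact_mod_cast h5
    omega
  -- freeness
  have hCM : LocCoh.IsCohenMacaulayLocalRing A :=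
    Groth.Agent.Lead.Depth.isCohenMacaulayLocalRing_of_isRegularLocalRing (R := A)
  haveI hfree : Module.Free (MvPowerSeries (Fin n) K) A :=
    (Groth.Agent.Lead.Miracle.free_iff (MvPowerSeries (Fin n) K) A).mpr ⟨hCM, hinj⟩
  let b := Module.finBasis (MvPowerSeries (Fin n) K) A
  refine ⟨Module.finrank (MvPowerSeries (Fin n) K) A, b, ?_, ?_⟩
  · -- the length
    have hresI : ∀ I : Ideal A, I.IsMaximal → ∀ a : A, ∃ c : K, a - algebraMap K A c ∈ I := by
      intro I hI a
      obtain ⟨c, hc⟩ := hres (residue A a)
      refine ⟨c, ?_⟩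
      rw [IsLocalRing.eq_maximalIdeal hI, ← residue_eq_zero_iff, map_sub, sub_eq_zero]
      exact hc.symm
    -- images of the basis form a `K`-basis of `A ⧸ J`
    have hmemJ : ∀ t ∈ maximalIdeal (MvPowerSeries (Fin n) K), φ t ∈ J := by
      intro t ht
      rw [← hmap]
      exact Ideal.mem_map_of_mem _ ht
    have hli : LinearIndependent K (fun i => Ideal.Quotient.mk J (b i)) := by
      rw [Fintype.linearIndependent_iff]
      intro g hg
      have h1 : ∑ i, algebraMap K A (g i) * b i ∈ J := by
        rw [← Ideal.Quotient.eq_zero_iff_mem, map_sum, ← hg]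
        refine Finset.sum_congr rfl (fun i _ => ?_)
        rw [map_mul, Algebra.smul_def]
        rfl
      have h2 : ∑ i, algebraMap K A (g i) * b i ∈
          (maximalIdeal (MvPowerSeries (Fin n) K) • (⊤ : Submodule (MvPowerSeries (Fin n) K) A)) := by
        rw [Ideal.smul_top_eq_map, hmap]
        exact h1
      rw [← b.span_eq, Submodule.mem_ideal_smul_span_iff_exists_sum] at h2
      obtain ⟨a, ha, hsum⟩ := h2
      rw [Finsupp.sum_fintype _ _ (fun i => zero_smul _ (b i))] at hsum
      have h3 : ∀ i, a i = C (g i) := by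
        intro i
        have e1 : ∑ i, a i • b i = ∑ i, (C (g i) : MvPowerSeries (Fin n) K) • b i := by
          rw [hsum]
          refine Finset.sum_congr rfl (fun i _ => ?_)
          rw [Algebra.smul_def, halg]
          congr 1
          exact (φ.commutes (g i)).symm
        have e2 := congrArg (fun y => b.repr y i) e1
        simpa [map_sum, Finsupp.single_apply] using e2
      intro i
      have h4 : (C (g i) : MvPowerSeries (Fin n) K) ∈ maximalIdeal (MvPowerSeries (Fin n) K) := by
        rw [← h3 i]; exact ha i
      by_contra hgi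
      apply h4
      rw [MvPowerSeries.isUnit_iff_constantCoeff, constantCoeff_C]
      exact isUnit_iff_ne_zero.mpr hgi
    have hsp : ⊤ ≤ Submodule.span K (Set.range fun i => Ideal.Quotient.mk J (b i)) := by
      intro y _
      obtain ⟨a, rfl⟩ := Ideal.Quotient.mk_surjective y
      have ha : a = ∑ i, b.repr a i • b i := (b.sum_repr a).symm
      have h5 : Ideal.Quotient.mk J a =
          ∑ i, (constantCoeff (b.repr a i)) • Ideal.Quotient.mk J (b i) := by
        conv_lhs => rw [ha]
        rw [map_sum]
        refine Finset.sum_congr rfl (fun i _ => ?_)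
        rw [Algebra.smul_def (constantCoeff (b.repr a i)), Algebra.smul_def (b.repr a i), halg,
          map_mul, ← sub_eq_zero, ← sub_mul]
        have h6 : Ideal.Quotient.mk J (φ (b.repr a i)) -
            algebraMap K (A ⧸ J) (constantCoeff (b.repr a i)) = 0 := by
          have e3 : algebraMap K (A ⧸ J) (constantCoeff (b.repr a i)) =
              Ideal.Quotient.mk J (φ (C (constantCoeff (b.repr a i)))) := by
            rw [show φ (C (constantCoeff (b.repr a i))) =
              algebraMap K A (constantCoeff (b.repr a i)) from φ.commutes _]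
            rfl
          rw [e3, ← map_sub, ← map_sub, Ideal.Quotient.eq_zero_iff_mem]
          apply hmemJ
          rw [mem_maximalIdeal, mem_nonunits_iff, MvPowerSeries.isUnit_iff_constantCoeff, map_sub,
            constantCoeff_C, sub_self]
          exact not_isUnit_zero
        rw [h6, zero_mul]
      rw [h5]
      exact Submodule.sum_mem _ (fun i _ => Submodule.smul_mem _ _ (Submodule.subset_span ⟨i, rfl⟩))
    let b' : Module.Basis (Fin (Module.finrank (MvPowerSeries (Fin n) K) A)) K (A ⧸ J) :=
      Module.Basis.mk hli hsp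
    haveI : Module.Finite K (A ⧸ J) := Module.Finite.of_basis b'
    rw [Groth.Agent.Helper22.TF.length_eq_finrank' hresI (A ⧸ J), Module.finrank_eq_card_basis b',
      Fintype.card_fin]
  · -- bijectivity
    have e : (fun r : Fin (Module.finrank (MvPowerSeries (Fin n) K) A) → MvPowerSeries (Fin n) K =>
        ∑ i, φ (r i) * b i) = b.equivFun.symm := by
      funext r
      rw [Module.Basis.equivFun_symm_apply]
      refine Finset.sum_congr rfl (fun i _ => ?_)
      rw [Algebra.smul_def, halg]
    rw [e]
    exact b.equivFun.symm.bijective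

end Core


theorem main
    (A : Type u) [CommRing A] [IsRegularLocalRing A]
    [IsAdicComplete (IsLocalRing.maximalIdeal A) A] (n : ℕ) (hn : ringKrullDim A = n)
    (k : Type v) [Field k] [Algebra k A]
    (hk : Function.Surjective (IsLocalRing.residue A ∘ algebraMap k A))
    (x : Fin n → A) (hx : (Ideal.span (Set.range x)).radical = IsLocalRing.maximalIdeal A)
    (φ : MvPowerSeries (Fin n) k →ₐ[k] A) (hφ : ∀ i, φ (MvPowerSeries.X i) = x i) :
    ∃ (d : ℕ) (b : Fin d → A), (d : ℕ∞) = Module.length A (A ⧸ Ideal.span (Set.range x)) ∧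
      Function.Bijective (fun r : Fin d → MvPowerSeries (Fin n) k => ∑ i, φ (r i) * b i) := by
  let ρ : k →+* ResidueField A := (residue A).comp (algebraMap k A)
  have hbij : Function.Bijective ρ := ⟨ρ.injective, hk⟩
  let e : k ≃+* ResidueField A := RingEquiv.ofBijective ρ hbij
  let sec : ResidueField A →+* A := (algebraMap k A).comp e.symm.toRingHom
  letI : Algebra (ResidueField A) A := sec.toAlgebra
  have hsec : ∀ c, algebraMap (ResidueField A) A c = algebraMap k A (e.symm c) := fun c => rfl
  -- the transported map
  let E : MvPowerSeries (Fin n) (ResidueField A) →+* MvPowerSeries (Fin n) k :=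
    MvPowerSeries.map e.symm.toRingHom
  let E' : MvPowerSeries (Fin n) k →+* MvPowerSeries (Fin n) (ResidueField A) :=
    MvPowerSeries.map e.toRingHom
  have hEE' : ∀ f, E (E' f) = f := by
    intro f
    ext m
    simp [E, E']
  have hE'E : ∀ f, E' (E f) = f := by
    intro f
    ext m
    simp [E, E']
  let φ' : MvPowerSeries (Fin n) (ResidueField A) →ₐ[ResidueField A] A :=
    { (φ.toRingHom.comp E) with
      commutes' := by
        intro c
        change φ (E (MvPowerSeries.C c)) = algebraMap (ResidueField A) A c
        rw [hsec, show E (MvPowerSeries.C c) = MvPowerSeries.C (e.symm c) from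
          MvPowerSeries.map_C _ _]
        exact φ.commutes _ }
  have hφ'app : ∀ f, φ' f = φ (E f) := fun f => rfl
  have hφ' : ∀ i, φ' (MvPowerSeries.X i) = x i := by
    intro i
    rw [hφ'app, show E (MvPowerSeries.X i) = MvPowerSeries.X i from MvPowerSeries.map_X _ _, hφ]
  have hres : Function.Surjective ((residue A).comp (algebraMap (ResidueField A) A)) := by
    intro y
    refine ⟨y, ?_⟩
    change ρ (e.symm y) = y
    exact e.apply_symm_apply y
  obtain ⟨d, b, hd, hb⟩ := core n hn hres x hx φ' hφ'
  refine ⟨d, b, hd, ?_⟩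
  have hcomp : (fun r : Fin d → MvPowerSeries (Fin n) k => ∑ i, φ (r i) * b i) =
      (fun r' : Fin d → MvPowerSeries (Fin n) (ResidueField A) => ∑ i, φ' (r' i) * b i) ∘
        (fun r i => E' (r i)) := by
    funext r
    simp only [Function.comp_apply, hφ'app, hEE']
  rw [hcomp]
  refine hb.comp ⟨?_, ?_⟩
  · intro r₁ r₂ h
    funext i
    have := congrFun h i
    have h2 := congrArg E this
    simpa [hEE'] using h2
  · intro r'
    refine ⟨fun i => E (r' i), ?_⟩
    funext i
    exact hE'E _

end Groth.Agent.Helper3.WQ7
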