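import Mathlib
set_option autoImplicit false
universe u
open Polynomial

namespace Groth.Agent.Helper3.ZarPair

theorem main (A B : Type u) [CommRing A] [CommRing B]
    [Algebra A B] [Module.Finite A B] (I : Ideal A) (hI : I ≤ Ideal.jacobson (⊥ : Ideal A))
    (B₁ B₂ : Type u) [CommRing B₁] [CommRing B₂] [Algebra A B₁] [Algebra A B₂]
    (e : (B ⧸ I.map (algebraMap A B)) ≃ₐ[A] B₁ × B₂) (h₁ : Function.Surjective (algebraMap A B₁)) (b : B)
    (hb : e (Ideal.Quotient.mk (I.map (algebraMap A B)) b) = (1, 0)) :
    ∃ (f : A[X]) (d : ℕ), f.Monic ∧ Polynomial.aeval b f = 0 ∧ 1 ≤ d ∧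
      f.map (Ideal.Quotient.mk I) = (X - 1) * X ^ d := by
  classical
  -- Step 1
  have step1 : ∀ x : B, ∃ (a : A) (y : B), x - algebraMap A B a - (b - 1) * y ∈ I.map (algebraMap A B) := by
    intro x
    obtain ⟨a, ha⟩ := h₁ (e (Ideal.Quotient.mk (I.map (algebraMap A B)) x)).1
    obtain ⟨y, hy⟩ := Ideal.Quotient.mk_surjective
      (e.symm (0, -((e (Ideal.Quotient.mk (I.map (algebraMap A B)) x)).2 - algebraMap A B₂ a)))
    refine ⟨a, y, ?_⟩
    rw [← Ideal.Quotient.eq_zero_iff_mem]
    apply e.injective
    have h2 : e (Ideal.Quotient.mk (I.map (algebraMap A B)) (algebraMap A B a)) = (algebraMap A B₁ a, algebraMap A B₂ a) := by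
      have : Ideal.Quotient.mk (I.map (algebraMap A B)) (algebraMap A B a) = algebraMap A (B ⧸ I.map (algebraMap A B)) a := rfl
      rw [this, e.commutes]; rfl
    simp only [map_sub, map_mul, map_one, map_zero, hy, hb, h2, AlgEquiv.apply_symm_apply]
    ext <;> simp [ha]
  have hbb : b * (b - 1) ∈ I.map (algebraMap A B) := by
    rw [← Ideal.Quotient.eq_zero_iff_mem]
    apply e.injective
    simp only [map_sub, map_mul, map_one, map_zero, hb]
    ext <;> simp
  -- Step 2
  let N : Submodule A B := LinearMap.range (LinearMap.mulLeft A (b - 1))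
  have hNfg : N.FG := by
    have : N = (⊤ : Submodule A B).map (LinearMap.mulLeft A (b - 1)) := by
      simp [N, Submodule.map_top]
    rw [this]
    exact Module.Finite.fg_top.map _
  have htop : (⊤ : Submodule A B) ≤ Submodule.span A {1} ⊔ N := by
    apply Submodule.le_of_le_smul_of_le_jacobson_bot Module.Finite.fg_top hI
    intro x _
    obtain ⟨a, y, hy⟩ := step1 x
    have hx : x = (algebraMap A B a + (b - 1) * y) + (x - algebraMap A B a - (b - 1) * y) := by ring
    rw [hx]
    apply Submodule.add_mem_sup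
    · apply Submodule.add_mem_sup
      · rw [Algebra.algebraMap_eq_smul_one]
        exact Submodule.smul_mem _ _ (Submodule.mem_span_singleton_self 1)
      · exact ⟨y, rfl⟩
    · rw [Ideal.smul_top_eq_map]
      exact hy
  -- Step 3: generators
  obtain ⟨k, n₀, hn₀⟩ := Submodule.fg_iff_exists_fin_generating_family.mp hNfg
  let d := k + 1
  let n : Fin d → B := Fin.cons 0 n₀
  have hn : Submodule.span A (Set.range n) = N := by
    simp only [n, Fin.range_cons, Submodule.span_insert_zero, hn₀]
  let gens : Unit ⊕ Fin d → B := Sum.elim (fun _ => 1) n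
  have hgens : Submodule.span A (Set.range gens) = ⊤ := by
    rw [eq_top_iff]
    refine htop.trans ?_
    rw [Set.Sum.elim_range, Submodule.span_union, hn]
    gcongr
    simp
  -- Step 4: columns
  have hcol1 : ∃ α : Fin d → A, ∑ i, α i • n i = b - 1 := by
    have : b - 1 ∈ Submodule.span A (Set.range n) := by
      rw [hn]; exact ⟨1, by simp⟩
    exact (Submodule.mem_span_range_iff_exists_fun A).mp this
  obtain ⟨α, hα⟩ := hcol1
  have hcol2 : ∀ j : Fin d, ∃ c : Unit ⊕ Fin d → A, (∀ i, c i ∈ I) ∧ ∑ i, c i • gens i = b * n j := by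
    intro j
    have hnj : n j ∈ N := by rw [← hn]; exact Submodule.subset_span ⟨j, rfl⟩
    obtain ⟨y, hy⟩ := hnj
    have h1 : b * n j ∈ I • Submodule.span A (Set.range gens) := by
      rw [hgens, Ideal.smul_top_eq_map]
      show b * n j ∈ I.map (algebraMap A B)
      rw [← hy]
      simp only [LinearMap.mulLeft_apply]
      rw [← mul_assoc]
      exact Ideal.mul_mem_right _ _ hbb
    obtain ⟨a, ha, hsum⟩ := (Submodule.mem_ideal_smul_span_iff_exists_sum I gens _).mp h1
    refine ⟨a, ha, ?_⟩
    rw [← hsum, Finsupp.sum_fintype]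
    simp
  choose c hcI hcsum using hcol2
  let M : Matrix (Unit ⊕ Fin d) (Unit ⊕ Fin d) A :=
    Matrix.fromBlocks 1 (Matrix.of fun _ j => c j (Sum.inl ()))
      (Matrix.of fun i _ => α i) (Matrix.of fun i j => c j (Sum.inr i))
  have hrep : M.Represents gens (Algebra.lmul A B b) := by
    rw [Matrix.represents_iff']
    rintro (j | j)
    · simp only [Fintype.sum_sum_type, M, gens]
      simp [hα]
    · have := hcsum j
      simp only [Fintype.sum_sum_type] at this
      simp only [Fintype.sum_sum_type, M, gens]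
      simpa [gens] using this
  refine ⟨M.charpoly, d, Matrix.charpoly_monic _, ?_, Nat.le_add_left 1 k, ?_⟩
  · let M' : Matrix.isRepresentation A gens := ⟨M, _, hrep⟩
    have hM' : Matrix.isRepresentation.toEnd A gens hgens M' = Algebra.lmul A B b :=
      Matrix.isRepresentation.eq_toEnd_of_represents A gens hgens M' hrep
    have h0 : Polynomial.aeval (Algebra.lmul A B b) M.charpoly = 0 := by
      rw [← hM', Polynomial.aeval_algHom_apply,
        ← map_zero (Matrix.isRepresentation.toEnd A gens hgens)]
      congr 1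
      ext1
      rw [Polynomial.aeval_subalgebra_coe, Matrix.aeval_self_charpoly, Subalgebra.coe_zero]
    rw [Polynomial.aeval_algHom_apply] at h0
    have := LinearMap.congr_fun h0 1
    simpa using this
  · rw [← Matrix.charpoly_map]
    have : M.map (Ideal.Quotient.mk I) =
        Matrix.fromBlocks (1 : Matrix Unit Unit (A ⧸ I)) 0
          (Matrix.of fun i _ => Ideal.Quotient.mk I (α i)) (0 : Matrix (Fin d) (Fin d) (A ⧸ I)) := by
      ext (i | i) (j | j)
      · simp [M, Matrix.one_apply]
      · simp only [M, Matrix.map_apply, Matrix.fromBlocks_apply₁₂, Matrix.of_apply,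
          Matrix.zero_apply]
        exact Ideal.Quotient.eq_zero_iff_mem.mpr (hcI j _)
      · simp [M]
      · simp only [M, Matrix.map_apply, Matrix.fromBlocks_apply₂₂, Matrix.of_apply,
          Matrix.zero_apply]
        exact Ideal.Quotient.eq_zero_iff_mem.mpr (hcI j _)
    rw [this, Matrix.charpoly_fromBlocks_zero₁₂, Matrix.charpoly_one, Matrix.charpoly_zero]
    simp

end Groth.Agent.Helper3.ZarPair
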